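import Mathlib
import Cfsg.Statements.S3377

set_option autoImplicit false
open Cfsg

namespace Cfsg.Agent.S3377

/-- first generator of the free group -/
abbrev gx : FreeGroup (Fin 2) := FreeGroup.of 0
/-- second generator of the free group -/
abbrev gy : FreeGroup (Fin 2) := FreeGroup.of 1

/-- the relators -/
abbrev rels : Set (FreeGroup (Fin 2)) :=
  {FreeGroup.of (0 : Fin 2) ^ 3, FreeGroup.of (1 : Fin 2) ^ 5,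
    (FreeGroup.of (0 : Fin 2) * FreeGroup.of 1) ^ 2}

/-- the relators, indexed -/
def rel : Fin 3 → FreeGroup (Fin 2)
  | 0 => gx ^ 3
  | 1 => gy ^ 5
  | 2 => (gx * gy) ^ 2

theorem rel_mem (i : Fin 3) : rel i ∈ rels := by
  fin_cases i <;> simp [rel, rels]

/-- value of a certificate: a product of conjugates of relators and their inverses -/
def cval : List (FreeGroup (Fin 2) × Fin 3 × Bool) → FreeGroup (Fin 2)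
  | [] => 1
  | (u, i, b) :: L => u * (if b then rel i else (rel i)⁻¹) * u⁻¹ * cval L

theorem mk_cval (L : List (FreeGroup (Fin 2) × Fin 3 × Bool)) :
    PresentedGroup.mk rels (cval L) = 1 := by
  induction L with
  | nil => simp [cval]
  | cons a L ih =>
    obtain ⟨u, i, b⟩ := a
    have hr : PresentedGroup.mk rels (rel i) = 1 := PresentedGroup.one_of_mem (rel_mem i)
    cases b <;> simp [cval, ih, hr]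

def t : Fin 12 → FreeGroup (Fin 2) :=
  ![1, gx, gx * gx, gx * gx * gy, gx * gx * gy * gx, gx * gx * gy * gy, gx * gx * gy * gx * gx, gx * gx * gy * gy * gx, gx * gx * gy * gx * gx * gy, gx * gx * gy * gx * gx * gy * gy, gx * gx * gy * gx * gx * gy * gy * gx, gx * gx * gy * gx * gx * gy * gy * gx * gx]

def nx : Fin 12 → Fin 12 :=
  ![1, 2, 0, 4, 6, 7, 3, 8, 5, 10, 11, 9]

def ex : Fin 12 → ℕ :=
  ![0, 0, 0, 0, 0, 0, 0, 1, 4, 0, 0, 0]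

def cx : Fin 12 → List (FreeGroup (Fin 2) × Fin 3 × Bool) :=
  ![[],
    [],
    [(1, 0, true)],
    [],
    [],
    [],
    [(gx * gx * gy, 0, true)],
    [(gx * gx * gy * gy, 0, true), (gy⁻¹ * gy⁻¹ * gy⁻¹ * gy⁻¹, 1, true), (gy⁻¹ * gy⁻¹ * gy⁻¹ * gy⁻¹ * gy⁻¹ * gx * gx, 1, true), (gy⁻¹ * gy⁻¹ * gy⁻¹ * gy⁻¹ * gy⁻¹ * gy⁻¹ * gy⁻¹ * gy⁻¹ * gy⁻¹, 1, true), (gy⁻¹ * gy⁻¹ * gy⁻¹ * gy⁻¹ * gy⁻¹ * gy⁻¹ * gy⁻¹ * gy⁻¹ * gy⁻¹ * gy⁻¹, 0, true), (gy⁻¹ * gy⁻¹ * gy⁻¹ * gy⁻¹ * gy⁻¹ * gy⁻¹ * gy⁻¹ * gy⁻¹ * gy⁻¹, 2, false), (gy⁻¹ * gy⁻¹ * gy⁻¹ * gy⁻¹ * gy⁻¹ * gy⁻¹ * gy⁻¹ * gy⁻¹ * gy⁻¹ * gx, 2, false), (gy⁻¹ * gy⁻¹ * gy⁻¹ * gy⁻¹ * gy⁻¹, 1, false), (gy⁻¹ * gy⁻¹ * gy⁻¹ * gy⁻¹ * gx * gx * gy * gx, 2, false), (1, 1, false)],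
    [(gx * gx * gy * gx, 2, true), (gy⁻¹, 1, true), (gy⁻¹ * gy⁻¹ * gy⁻¹ * gy⁻¹ * gy⁻¹ * gx, 2, true), (gy⁻¹ * gy⁻¹ * gy⁻¹ * gy⁻¹ * gy⁻¹, 2, true), (gy⁻¹ * gy⁻¹ * gy⁻¹ * gy⁻¹ * gy⁻¹ * gy⁻¹, 0, false), (gy⁻¹ * gy⁻¹ * gy⁻¹ * gy⁻¹ * gy⁻¹, 1, false), (gy⁻¹ * gx * gx, 1, false), (1, 1, false)],
    [],
    [],
    [(gx * gx * gy * gx * gx * gy * gy, 0, true)]]

def ny : Fin 12 → Fin 12 :=
  ![0, 2, 3, 5, 1, 4, 8, 6, 9, 10, 7, 11]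

def ey : Fin 12 → ℕ :=
  ![1, 4, 0, 0, 0, 1, 0, 0, 0, 1, 4, 4]

def cy : Fin 12 → List (FreeGroup (Fin 2) × Fin 3 × Bool) :=
  ![[],
    [(1, 2, true), (gy⁻¹, 0, false), (1, 1, false)],
    [],
    [],
    [(gx, 2, true)],
    [(gx * gx, 1, true), (gy⁻¹ * gy⁻¹ * gy⁻¹ * gy⁻¹, 1, true), (gy⁻¹ * gy⁻¹ * gy⁻¹ * gy⁻¹ * gy⁻¹, 0, true), (gy⁻¹ * gy⁻¹ * gy⁻¹ * gy⁻¹, 2, false), (gy⁻¹ * gy⁻¹ * gy⁻¹ * gy⁻¹ * gx, 2, false), (1, 1, false)],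
    [],
    [(gx * gx * gy * gy, 2, true), (gx * gx * gy, 0, false)],
    [],
    [(gx * gx * gy * gx * gx * gy, 1, true), (gx * gx * gy, 0, true), (gx * gx * gy * gy, 2, false), (gy⁻¹ * gy⁻¹ * gy⁻¹ * gy⁻¹, 1, true), (gy⁻¹ * gy⁻¹ * gy⁻¹ * gy⁻¹ * gy⁻¹ * gx * gx * gy * gy * gx, 2, false), (gy⁻¹ * gy⁻¹ * gy⁻¹ * gy⁻¹ * gy⁻¹ * gx * gx * gy * gy, 0, true), (gy⁻¹ * gy⁻¹ * gy⁻¹ * gy⁻¹ * gy⁻¹ * gy⁻¹ * gy⁻¹ * gy⁻¹ * gy⁻¹, 1, true), (gy⁻¹ * gy⁻¹ * gy⁻¹ * gy⁻¹ * gy⁻¹ * gy⁻¹ * gy⁻¹ * gy⁻¹ * gy⁻¹ * gy⁻¹ * gx * gx, 1, true), (gy⁻¹ * gy⁻¹ * gy⁻¹ * gy⁻¹ * gy⁻¹ * gy⁻¹ * gy⁻¹ * gy⁻¹ * gy⁻¹ * gy⁻¹ * gy⁻¹ * gy⁻¹ * gy⁻¹ * gy⁻¹, 1, true), (gy⁻¹ * gy⁻¹ * gy⁻¹ * gy⁻¹ * gy⁻¹ * gy⁻¹ * gy⁻¹ * gy⁻¹ * gy⁻¹ * gy⁻¹ * gy⁻¹ * gy⁻¹ * gy⁻¹ * gy⁻¹ * gy⁻¹, 0, true), (gy⁻¹ * gy⁻¹ * gy⁻¹ * gy⁻¹ * gy⁻¹ * gy⁻¹ * gy⁻¹ * gy⁻¹ * gy⁻¹ * gy⁻¹ * gy⁻¹ *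 gy⁻¹ * gy⁻¹ * gy⁻¹, 2, false), (gy⁻¹ * gy⁻¹ * gy⁻¹ * gy⁻¹ * gy⁻¹ * gy⁻¹ * gy⁻¹ * gy⁻¹ * gy⁻¹ * gy⁻¹ * gy⁻¹ * gy⁻¹ * gy⁻¹ * gy⁻¹ * gx, 2, false), (gy⁻¹ * gy⁻¹ * gy⁻¹ * gy⁻¹ * gy⁻¹ * gy⁻¹ * gy⁻¹ * gy⁻¹ * gy⁻¹ * gy⁻¹, 1, false), (gy⁻¹ * gy⁻¹ * gy⁻¹ * gy⁻¹ * gy⁻¹ * gy⁻¹ * gy⁻¹ * gy⁻¹ * gy⁻¹ * gx * gx * gy * gx, 2, false), (gy⁻¹ * gy⁻¹ * gy⁻¹ * gy⁻¹ * gy⁻¹, 1, false), (1, 1, false)],
    [(gy⁻¹, 1, true), (gy⁻¹ * gy⁻¹ * gy⁻¹ * gy⁻¹ * gy⁻¹ * gx * gx * gy * gx, 2, true), (gy⁻¹ * gy⁻¹ * gy⁻¹ * gy⁻¹ * gy⁻¹ * gy⁻¹, 1, true), (gy⁻¹ * gy⁻¹ * gy⁻¹ * gy⁻¹ * gy⁻¹ * gy⁻¹ * gy⁻¹ * gy⁻¹ * gy⁻¹ * gy⁻¹ * gx, 2, true), (gy⁻¹ * gy⁻¹ * gy⁻¹ * gy⁻¹ * gy⁻¹ * gy⁻¹ * gy⁻¹ * gy⁻¹ * gy⁻¹ * gy⁻¹, 2, true), (gy⁻¹ * gy⁻¹ * gy⁻¹ * gy⁻¹ * gy⁻¹ * gy⁻¹ * gy⁻¹ * gy⁻¹ * gy⁻¹ * gy⁻¹ * gy⁻¹, 0, false), (gy⁻¹ * gy⁻¹ * gy⁻¹ * gy⁻¹ * gy⁻¹ * gy⁻¹ *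 gy⁻¹ * gy⁻¹ * gy⁻¹ * gy⁻¹, 1, false), (gy⁻¹ * gy⁻¹ * gy⁻¹ * gy⁻¹ * gy⁻¹ * gy⁻¹ * gx * gx, 1, false), (gy⁻¹ * gy⁻¹ * gy⁻¹ * gy⁻¹ * gy⁻¹, 1, false), (gy⁻¹ * gx * gx * gy * gy, 0, false), (gy⁻¹ * gx * gx * gy * gy * gx, 2, true), (1, 1, false)],
    [(gx * gx * gy * gx * gx * gy * gy * gx, 2, true), (gy⁻¹, 1, true), (gy⁻¹ * gy⁻¹ * gy⁻¹ * gy⁻¹ * gy⁻¹ * gy⁻¹, 1, true), (gy⁻¹ * gy⁻¹ * gy⁻¹ * gy⁻¹ * gy⁻¹ * gy⁻¹ * gy⁻¹ * gy⁻¹ * gy⁻¹ * gy⁻¹ * gx * gx * gy * gx, 2, true), (gy⁻¹ * gy⁻¹ * gy⁻¹ * gy⁻¹ * gy⁻¹ * gy⁻¹ * gy⁻¹ * gy⁻¹ * gy⁻¹ * gy⁻¹ * gy⁻¹, 1, true), (gy⁻¹ * gy⁻¹ * gy⁻¹ * gy⁻¹ * gy⁻¹ * gy⁻¹ * gy⁻¹ * gy⁻¹ * gy⁻¹ * gy⁻¹ * gy⁻¹ * gy⁻¹ * gy⁻¹ * gy⁻¹ * gy⁻¹ * gx, 2, true), (gy⁻¹ * gy⁻¹ * gy⁻¹ * gy⁻¹ * gy⁻¹ * gy⁻¹ * gy⁻¹ * gy⁻¹ * gy⁻¹ * gy⁻¹ * gy⁻¹ * gy⁻¹ * gy⁻¹ * gy⁻¹ * gy⁻¹, 2, true), (gy⁻¹ * gy⁻¹ * gy⁻¹ * gy⁻¹ *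 gy⁻¹ * gy⁻¹ * gy⁻¹ * gy⁻¹ * gy⁻¹ * gy⁻¹ * gy⁻¹ * gy⁻¹ * gy⁻¹ * gy⁻¹ * gy⁻¹ * gy⁻¹, 0, false), (gy⁻¹ * gy⁻¹ * gy⁻¹ * gy⁻¹ * gy⁻¹ * gy⁻¹ * gy⁻¹ * gy⁻¹ * gy⁻¹ * gy⁻¹ * gy⁻¹ * gy⁻¹ * gy⁻¹ * gy⁻¹ * gy⁻¹, 1, false), (gy⁻¹ * gy⁻¹ * gy⁻¹ * gy⁻¹ * gy⁻¹ * gy⁻¹ * gy⁻¹ * gy⁻¹ * gy⁻¹ * gy⁻¹ * gy⁻¹ * gx * gx, 1, false), (gy⁻¹ * gy⁻¹ * gy⁻¹ * gy⁻¹ * gy⁻¹ * gy⁻¹ * gy⁻¹ * gy⁻¹ * gy⁻¹ * gy⁻¹, 1, false), (gy⁻¹ * gy⁻¹ * gy⁻¹ * gy⁻¹ * gy⁻¹ * gy⁻¹ * gx * gx * gy * gy, 0, false), (gy⁻¹ * gy⁻¹ * gy⁻¹ * gy⁻¹ * gy⁻¹ * gy⁻¹ * gx * gx * gy * gy * gx, 2, true), (gy⁻¹ * gy⁻¹ * gy⁻¹ * gy⁻¹ * gy⁻¹, 1, false), (gy⁻¹ * gx * gx * gy * gy, 2, true), (gy⁻¹ * gx * gx * gy, 0, false), (gy⁻¹ * gx * gx * gy * gx * gx * gy, 1, false), (gy⁻¹ * gx * gx * gy * gx * gx * gy * gy, 0, false), (1, 1, false)]]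

theorem tab_x : ∀ j : Fin 12, t j * gx = cval (cx j) * (gy ^ ex j * t (nx j)) := by
  decide +kernel

theorem tab_y : ∀ j : Fin 12, t j * gy = cval (cy j) * (gy ^ ey j * t (ny j)) := by
  decide +kernel

/-- image of the first generator -/
def X : PresentedGroup rels := PresentedGroup.mk rels gx
/-- image of the second generator -/
def Y : PresentedGroup rels := PresentedGroup.mk rels gy
/-- coset representatives -/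
def T (j : Fin 12) : PresentedGroup rels := PresentedGroup.mk rels (t j)

theorem TX (j : Fin 12) : T j * X = Y ^ ex j * T (nx j) := by
  have := congrArg (PresentedGroup.mk rels) (tab_x j)
  simpa [map_mul, map_pow, mk_cval, T, X, Y] using this

theorem TY (j : Fin 12) : T j * Y = Y ^ ey j * T (ny j) := by
  have := congrArg (PresentedGroup.mk rels) (tab_y j)
  simpa [map_mul, map_pow, mk_cval, T, X, Y] using this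

theorem X3 : X ^ 3 = 1 := by
  have : PresentedGroup.mk rels (rel 0) = 1 := PresentedGroup.one_of_mem (rel_mem 0)
  simpa [rel, X] using this

theorem Y5 : Y ^ 5 = 1 := by
  have : PresentedGroup.mk rels (rel 1) = 1 := PresentedGroup.one_of_mem (rel_mem 1)
  simpa [rel, Y] using this

/-- the union of the twelve cosets -/
def S : Set (PresentedGroup rels) := {g | ∃ (i : ℕ) (j : Fin 12), g = Y ^ i * T j}

theorem S_X (g : PresentedGroup rels) (hg : g ∈ S) : g * X ∈ S := by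
  obtain ⟨i, j, rfl⟩ := hg
  exact ⟨i + ex j, nx j, by rw [mul_assoc, TX, ← mul_assoc, ← pow_add]⟩

theorem S_Y (g : PresentedGroup rels) (hg : g ∈ S) : g * Y ∈ S := by
  obtain ⟨i, j, rfl⟩ := hg
  exact ⟨i + ey j, ny j, by rw [mul_assoc, TY, ← mul_assoc, ← pow_add]⟩

theorem S_all (w : FreeGroup (Fin 2)) :
    ∀ g : PresentedGroup rels, g ∈ S → g * PresentedGroup.mk rels w ∈ S := by
  refine FreeGroup.induction_on w ?_ ?_ ?_ ?_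
  · intro g hg
    simpa using hg
  · intro i g hg
    fin_cases i
    · exact S_X g hg
    · exact S_Y g hg
  · intro i _ g hg
    fin_cases i
    · have h : (PresentedGroup.mk rels (FreeGroup.of 0))⁻¹ = X * X := by
        rw [inv_eq_iff_eq_inv, eq_comm, inv_eq_iff_mul_eq_one]
        have := X3
        rw [pow_succ, pow_two] at this
        exact this
      have h2 : g * PresentedGroup.mk rels (FreeGroup.of 0)⁻¹ = g * X * X := by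
        rw [map_inv, h, mul_assoc]
      show g * PresentedGroup.mk rels (FreeGroup.of 0)⁻¹ ∈ S
      rw [h2]
      exact S_X _ (S_X g hg)
    · have h : (PresentedGroup.mk rels (FreeGroup.of 1))⁻¹ = Y * Y * Y * Y := by
        rw [inv_eq_iff_eq_inv, eq_comm, inv_eq_iff_mul_eq_one]
        have := Y5
        rw [pow_succ, pow_succ, pow_succ, pow_two] at this
        exact this
      have h2 : g * PresentedGroup.mk rels (FreeGroup.of 1)⁻¹ = g * Y * Y * Y * Y := by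
        rw [map_inv, h]
        simp only [mul_assoc]
      show g * PresentedGroup.mk rels (FreeGroup.of 1)⁻¹ ∈ S
      rw [h2]
      exact S_Y _ (S_Y _ (S_Y _ (S_Y g hg)))
  · intro a b iha ihb g hg
    rw [map_mul, ← mul_assoc]
    exact ihb _ (iha g hg)

theorem all_mem_S (g : PresentedGroup rels) : g ∈ S := by
  obtain ⟨w, rfl⟩ := PresentedGroup.mk_surjective rels g
  have h1 : (1 : PresentedGroup rels) ∈ S := ⟨0, 0, by simp [T, t]⟩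
  have := S_all w 1 h1
  rwa [one_mul] at this

/-- the parametrisation of the group by `Fin 5 × Fin 12` -/
def param (q : Fin 5 × Fin 12) : PresentedGroup rels := Y ^ (q.1 : ℕ) * T q.2

theorem param_surj : Function.Surjective param := by
  intro g
  obtain ⟨i, j, rfl⟩ := all_mem_S g
  refine ⟨(⟨i % 5, Nat.mod_lt _ (by norm_num)⟩, j), ?_⟩
  simp only [param]
  rw [← pow_eq_pow_mod i Y5]

theorem P_finite : Finite (PresentedGroup rels) := Finite.of_surjective param param_surj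

theorem P_card : Nat.card (PresentedGroup rels) ≤ 60 := by
  have := Nat.card_le_card_of_surjective param param_surj
  simpa using this

/-- the image of the first generator in `A₅` -/
def a : alternatingGroup (Fin 5) :=
  ⟨Equiv.swap 2 3 * Equiv.swap 3 4, Equiv.Perm.mem_alternatingGroup.mpr (by decide)⟩

/-- the image of the second generator in `A₅` -/
def b : alternatingGroup (Fin 5) :=
  ⟨Equiv.swap 0 2 * Equiv.swap 2 4 * Equiv.swap 4 1 * Equiv.swap 1 3,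
    Equiv.Perm.mem_alternatingGroup.mpr (by decide)⟩

theorem a3 : a ^ 3 = 1 := by decide +kernel
theorem b5 : b ^ 5 = 1 := by decide +kernel
theorem ab2 : (a * b) ^ 2 = 1 := by decide +kernel
theorem a_ne : a ≠ 1 := by decide +kernel
theorem b_ne : b ≠ 1 := by decide +kernel
theorem ab_ne : a * b ≠ 1 := by decide +kernel

/-- the homomorphism onto `A₅` -/
def fhom : PresentedGroup rels →* alternatingGroup (Fin 5) :=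
  PresentedGroup.toGroup (f := ![a, b]) (by
    intro r hr
    simp only [rels, Set.mem_insert_iff, Set.mem_singleton_iff] at hr
    rcases hr with rfl | rfl | rfl
    · simp [a3]
    · simp [b5]
    · simp [ab2])

theorem card_A5 : Nat.card (alternatingGroup (Fin 5)) = 60 := by
  rw [nat_card_alternatingGroup]
  simp [Nat.factorial]

theorem fhom_surj : Function.Surjective fhom := by
  rw [← MonoidHom.range_eq_top]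
  have ha : a ∈ fhom.range := ⟨PresentedGroup.of 0, by simp [fhom]⟩
  have hb : b ∈ fhom.range := ⟨PresentedGroup.of 1, by simp [fhom]⟩
  have hab : a * b ∈ fhom.range := mul_mem ha hb
  haveI : Fact (Nat.Prime 5) := ⟨by norm_num⟩
  haveI : Fact (Nat.Prime 3) := ⟨by norm_num⟩
  have o3 : orderOf a = 3 := orderOf_eq_prime a3 a_ne
  have o5 : orderOf b = 5 := orderOf_eq_prime b5 b_ne
  have o2 : orderOf (a * b) = 2 := orderOf_eq_prime ab2 ab_ne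
  have d3 : 3 ∣ Nat.card fhom.range := by
    have := orderOf_dvd_natCard (⟨a, ha⟩ : fhom.range)
    rwa [Subgroup.orderOf_mk, o3] at this
  have d5 : 5 ∣ Nat.card fhom.range := by
    have := orderOf_dvd_natCard (⟨b, hb⟩ : fhom.range)
    rwa [Subgroup.orderOf_mk, o5] at this
  have d2 : 2 ∣ Nat.card fhom.range := by
    have := orderOf_dvd_natCard (⟨a * b, hab⟩ : fhom.range)
    rwa [Subgroup.orderOf_mk, o2] at this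
  have hdvd : Nat.card fhom.range ∣ 60 := card_A5 ▸ Subgroup.card_subgroup_dvd_card _
  have hle : Nat.card fhom.range ≤ 60 := Nat.le_of_dvd (by norm_num) hdvd
  have hcases : Nat.card fhom.range = 30 ∨ Nat.card fhom.range = 60 := by
    have hpos : 0 < Nat.card fhom.range := Nat.card_pos
    omega
  rcases hcases with h30 | h60
  · exfalso
    have hidx : fhom.range.index = 2 := by
      have := fhom.range.card_mul_index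
      rw [h30, card_A5] at this
      omega
    haveI := Subgroup.normal_of_index_eq_two hidx
    rcases Subgroup.Normal.eq_bot_or_eq_top (H := fhom.range) inferInstance with hbot | htop
    · rw [hbot] at h30
      simp at h30
    · rw [htop, Subgroup.card_top, card_A5] at h30
      omega
  · exact (Subgroup.card_eq_iff_eq_top _).mp (h60.trans card_A5.symm)

/-- The alternating group of degree 5 has the presentation ⟨x, y | x³ = 1, y⁵ = 1, (xy)² = 1⟩: the group so presented is isomorphic to Alt(5). -/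
theorem result :
    Nonempty (PresentedGroup ({FreeGroup.of (0 : Fin 2) ^ 3, FreeGroup.of (1 : Fin 2) ^ 5,
        (FreeGroup.of (0 : Fin 2) * FreeGroup.of 1) ^ 2} : Set (FreeGroup (Fin 2))) ≃* alternatingGroup (Fin 5)) := by
  haveI := P_finite
  have hbij := fhom_surj.bijective_of_nat_card_le (by rw [card_A5]; exact P_card)
  exact ⟨MulEquiv.ofBijective fhom hbij⟩

end Cfsg.Agent.S3377
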