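import Cfsg.Statements.S0804
import Mathlib
import Cfsg.Agent.S3377
import Cfsg.Agent.Helper1.Gen801

set_option autoImplicit false
open Cfsg

namespace Cfsg.Agent.S0804
open Cfsg.Agent.Helper12 Cfsg.Agent.Helper23.QP

variable {F : Type*} [Field F]

/-- Cayley–Hamilton in `SL₂`. -/
theorem ch (g : Matrix.SpecialLinearGroup (Fin 2) F) :
    (g.1 * g.1 : Matrix (Fin 2) (Fin 2) F) = trS g • g.1 - 1 := by
  obtain ⟨a, b, c, d, hg, hdet⟩ := sl2_eta g
  unfold trS
  rw [hg, Matrix.trace_fin_two_of, Matrix.mul_fin_two, Matrix.one_fin_two, Matrix.smul_of,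
    Matrix.of_sub_of]
  ext i j
  fin_cases i <;> fin_cases j <;> simp <;> first | linear_combination (-1 : F) * hdet | ring

theorem pow3 (g : Matrix.SpecialLinearGroup (Fin 2) F) (h : trS g = -1) : g ^ 3 = 1 := by
  apply Subtype.ext
  have h2 := ch g
  rw [h] at h2
  rw [Matrix.SpecialLinearGroup.coe_pow, Matrix.SpecialLinearGroup.coe_one, pow_succ, pow_two, h2,
    sub_mul, smul_mul_assoc, h2, one_mul]
  module

theorem pow5_mat (g : Matrix.SpecialLinearGroup (Fin 2) F) (t : F) (h : trS g = t) :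
    (g.1 ^ 5 : Matrix (Fin 2) (Fin 2) F) =
      (t ^ 4 - 3 * t ^ 2 + 1) • g.1 - (t ^ 3 - 2 * t) • (1 : Matrix (Fin 2) (Fin 2) F) := by
  have h2 := ch g
  rw [h] at h2
  generalize g.1 = M at h2 ⊢
  have h3 : M * M * M = (t ^ 2 - 1) • M - t • (1 : Matrix (Fin 2) (Fin 2) F) := by
    rw [h2, sub_mul, smul_mul_assoc, h2, one_mul]; module
  have h4 : M * M * M * M = (t ^ 3 - 2 * t) • M - (t ^ 2 - 1) • (1 : Matrix (Fin 2) (Fin 2) F) := by
    rw [h3, sub_mul, smul_mul_assoc, smul_mul_assoc, h2, one_mul]; module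
  have h5 : M * M * M * M * M =
      (t ^ 4 - 3 * t ^ 2 + 1) • M - (t ^ 3 - 2 * t) • (1 : Matrix (Fin 2) (Fin 2) F) := by
    rw [h4, sub_mul, smul_mul_assoc, smul_mul_assoc, h2, one_mul]; module
  rw [← h5]
  simp [pow_succ]

theorem pow5 (g : Matrix.SpecialLinearGroup (Fin 2) F) (t : F) (h : trS g = t)
    (ht : t ^ 2 + t - 1 = 0) : g ^ 5 = 1 := by
  apply Subtype.ext
  rw [Matrix.SpecialLinearGroup.coe_pow, Matrix.SpecialLinearGroup.coe_one, pow5_mat g t h]
  have e1 : t ^ 4 - 3 * t ^ 2 + 1 = 0 := by linear_combination (t ^ 2 - t - 1) * ht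
  have e2 : t ^ 3 - 2 * t = -1 := by linear_combination (t - 1) * ht
  rw [e1, e2]
  simp

theorem trace_of_order5 (g : Matrix.SpecialLinearGroup (Fin 2) F) (h5 : g ^ 5 = 1) (h1 : g ≠ 1) :
    trS g ^ 2 + trS g - 1 = 0 := by
  set t := trS g with ht
  have hm := pow5_mat g t rfl
  rw [← Matrix.SpecialLinearGroup.coe_pow, h5, Matrix.SpecialLinearGroup.coe_one] at hm
  obtain ⟨a, b, c, d, hg, hdet⟩ := sl2_eta g
  have htr : t = a + d := by
    rw [ht]; unfold trS; rw [hg, Matrix.trace_fin_two_of]
  have k00 := congrFun (congrFun hm 0) 0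
  have k01 := congrFun (congrFun hm 0) 1
  have k10 := congrFun (congrFun hm 1) 0
  have k11 := congrFun (congrFun hm 1) 1
  simp [hg] at k00 k01 k10 k11
  by_cases hk : t ^ 4 - 3 * t ^ 2 + 1 = 0
  · rw [hk] at k00
    have e2 : t ^ 3 - 2 * t + 1 = 0 := by linear_combination k00
    have e3 : (t ^ 2 + t - 1) * (t ^ 2 - t - 1) = 0 := by linear_combination hk
    have e4 : (t ^ 2 + t - 1) * (t - 1) = 0 := by linear_combination e2
    rcases mul_eq_zero.mp e3 with h | h
    · exact h
    · rcases mul_eq_zero.mp e4 with h' | h'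
      · exact h'
      · have : t = 1 := by linear_combination h'
        rw [this] at h
        exfalso
        have h10 : (1 : F) = 0 := by linear_combination -h
        exact one_ne_zero h10
  · exfalso
    have hb : b = 0 := by
      rcases k01 with h | h
      · exact absurd h hk
      · exact h
    have hc : c = 0 := by
      rcases k10 with h | h
      · exact absurd h hk
      · exact h
    have had : a = d := by
      have : (t ^ 4 - 3 * t ^ 2 + 1) * (a - d) = 0 := by linear_combination k11 - k00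
      rcases mul_eq_zero.mp this with h | h
      · exact absurd h hk
      · linear_combination h
    subst hb hc had
    have ha2 : a ^ 2 = 1 := by linear_combination hdet
    have hm2 : (g : Matrix (Fin 2) (Fin 2) F) ^ 5 = 1 := by
      rw [← Matrix.SpecialLinearGroup.coe_pow, h5, Matrix.SpecialLinearGroup.coe_one]
    have hgs : (g : Matrix (Fin 2) (Fin 2) F) = a • (1 : Matrix (Fin 2) (Fin 2) F) := by
      rw [hg, Matrix.one_fin_two, Matrix.smul_of]
      ext i j
      fin_cases i <;> fin_cases j <;> simp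
    rw [hgs, smul_pow, one_pow] at hm2
    have ha5 : a ^ 5 = 1 := by
      have := congrFun (congrFun hm2 0) 0
      simpa using this
    have ha1 : a = 1 := by
      have : a ^ 5 = a := by
        calc a ^ 5 = (a ^ 2) ^ 2 * a := by ring
          _ = a := by rw [ha2]; ring
      rw [← this]; exact ha5
    apply h1
    apply Subtype.ext
    rw [hgs, ha1, one_smul, Matrix.SpecialLinearGroup.coe_one]

open Polynomial in
theorem exists_xy [Fintype F] (τ : F) (hτ : τ ^ 2 + τ - 1 = 0) :
    ∃ x y : F, x ^ 2 + x + y ^ 2 + τ * y + 1 = 0 := by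
  rcases Nat.mod_two_eq_zero_or_one (Fintype.card F) with h | h
  · have h2 : ringChar F = 2 := FiniteField.even_card_iff_char_two.mpr h
    haveI : CharP F 2 := ringChar.of_eq h2
    have h20 : (2 : F) = 0 := CharP.ofNat_eq_zero F 2
    refine ⟨τ, 0, ?_⟩
    linear_combination hτ + h20
  · obtain ⟨a, b, hab⟩ := FiniteField.exists_root_sum_quadratic
      (f := C (1 : F) * X ^ 2 + C 1 * X + C 1) (g := C (1 : F) * X ^ 2 + C τ * X + C 0)
      (Polynomial.degree_quadratic one_ne_zero) (Polynomial.degree_quadratic one_ne_zero) h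
    refine ⟨a, b, ?_⟩
    simp at hab
    linear_combination hab

theorem exists_A5 [Fintype F] (h5 : 5 ∣ Nat.card (Matrix.SpecialLinearGroup (Fin 2) F)) :
    ∃ H : Subgroup (Matrix.ProjectiveSpecialLinearGroup (Fin 2) F),
      Nonempty (H ≃* alternatingGroup (Fin 5)) := by
  classical
  haveI : Fact (Nat.Prime 5) := ⟨by norm_num⟩
  obtain ⟨B, hB⟩ := exists_prime_orderOf_dvd_card' 5 h5
  have hB5 : B ^ 5 = 1 := by rw [← hB]; exact pow_orderOf_eq_one B
  have hB1 : B ≠ 1 := by
    rintro rfl
    simp at hB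
  have hτ := trace_of_order5 B hB5 hB1
  obtain ⟨x, y, hxy⟩ := exists_xy (trS B) hτ
  generalize trS B = τ at hτ hxy
  let A : Matrix.SpecialLinearGroup (Fin 2) F :=
    sl2mk x y (y + τ) (-1 - x) (by linear_combination -hxy)
  let C : Matrix.SpecialLinearGroup (Fin 2) F := sl2mk 0 1 (-1) 0 (by ring)
  have hA3 : A ^ 3 = 1 := pow3 A (by simp [trS, A, Matrix.trace_fin_two_of])
  have hY5 : (A * C) ^ 5 = 1 := pow5 (A * C) τ
    (by simp [trS, A, C, Matrix.trace_fin_two, Matrix.mul_apply, Fin.sum_univ_two]) hτ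
  have hC2 : C * C = sl2NegOne := sq_of_trace_zero C (by simp [trS, C, Matrix.trace_fin_two_of])
  let π : Matrix.SpecialLinearGroup (Fin 2) F →* Matrix.ProjectiveSpecialLinearGroup (Fin 2) F :=
    QuotientGroup.mk' _
  have hπC : π C ≠ 1 := by
    intro h
    rw [QuotientGroup.mk'_apply, QuotientGroup.eq_one_iff] at h
    rcases sl2_center_cases C h with h1 | h1
    · have := congrArg (fun g : Matrix.SpecialLinearGroup (Fin 2) F => g.1 0 1) h1
      simp [C] at this
    · have := congrArg (fun g : Matrix.SpecialLinearGroup (Fin 2) F => g.1 0 1) h1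
      simp [C, sl2NegOne] at this
  have hπC2 : π C * π C = 1 := by
    rw [← map_mul, hC2, QuotientGroup.mk'_apply, QuotientGroup.eq_one_iff]
    exact sl2NegOne_mem_center
  let f : PresentedGroup Cfsg.Agent.S3377.rels →* Matrix.ProjectiveSpecialLinearGroup (Fin 2) F :=
    PresentedGroup.toGroup (f := ![π A⁻¹, π (A * C)]) (by
      intro r hr
      simp only [Cfsg.Agent.S3377.rels, Set.mem_insert_iff, Set.mem_singleton_iff] at hr
      rcases hr with rfl | rfl | rfl
      · simp only [map_pow, FreeGroup.lift_apply_of, Matrix.cons_val_zero]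
        rw [← map_pow, inv_pow, hA3, inv_one, map_one]
      · simp only [map_pow, FreeGroup.lift_apply_of, Matrix.cons_val_one, Matrix.cons_val_zero]
        rw [← map_pow, hY5, map_one]
      · simp only [map_pow, map_mul, FreeGroup.lift_apply_of, Matrix.cons_val_one,
          Matrix.cons_val_zero]
        rw [← map_mul, ← map_mul, inv_mul_cancel_left, pow_two, hπC2])
  obtain ⟨e⟩ := Cfsg.Agent.S3377.result
  let φ : alternatingGroup (Fin 5) →* Matrix.ProjectiveSpecialLinearGroup (Fin 2) F :=
    f.comp e.symm.toMonoidHom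
  have hφ : Function.Injective φ := by
    rw [← MonoidHom.ker_eq_bot_iff]
    haveI := alternatingGroup.isSimpleGroup_five
    rcases Subgroup.Normal.eq_bot_or_eq_top (H := φ.ker) inferInstance with h | h
    · exact h
    · exfalso
      have h1 : e (PresentedGroup.of 0 * PresentedGroup.of 1) ∈ φ.ker := by rw [h]; trivial
      rw [MonoidHom.mem_ker] at h1
      apply hπC
      have h2 : φ (e (PresentedGroup.of 0 * PresentedGroup.of 1)) = π C := by
        simp only [φ, f, MonoidHom.comp_apply, MulEquiv.coe_toMonoidHom, MulEquiv.symm_apply_apply,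
          map_mul, PresentedGroup.toGroup.of, Matrix.cons_val_one, Matrix.cons_val_zero]
        rw [← π.map_mul, ← π.map_mul, inv_mul_cancel_left]
      rw [← h2, h1]
  exact ⟨φ.range, ⟨(MonoidHom.ofInjective hφ).symm⟩⟩

/-- PSL_2(q) has a subgroup isomorphic to A_5 iff 5 ∣ q(q² − 1). -/
theorem result {F : Type*} [Field F] [Fintype F] {q : ℕ} (hF : Fintype.card F = q) : (∃ H : Subgroup (Matrix.ProjectiveSpecialLinearGroup (Fin 2) F), Nonempty (H ≃* alternatingGroup (Fin 5))) ↔ 5 ∣ q * (q ^ 2 - 1) := by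
  classical
  have hcard : Nat.card (Matrix.SpecialLinearGroup (Fin 2) F) = q * (q ^ 2 - 1) := by
    rw [sl2_card, hF]
  constructor
  · rintro ⟨H, ⟨e⟩⟩
    have h60 : Nat.card H = 60 := by
      rw [Nat.card_congr e.toEquiv, Cfsg.Agent.S3377.card_A5]
    have h1 : Nat.card H ∣ Nat.card (Matrix.ProjectiveSpecialLinearGroup (Fin 2) F) :=
      Subgroup.card_subgroup_dvd_card H
    have h2 : Nat.card (Matrix.ProjectiveSpecialLinearGroup (Fin 2) F) ∣
        Nat.card (Matrix.SpecialLinearGroup (Fin 2) F) :=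
      Subgroup.card_quotient_dvd_card _
    rw [← hcard]
    refine Dvd.dvd.trans ?_ (h1.trans h2)
    rw [h60]
    norm_num
  · intro h
    exact exists_A5 (by rw [hcard]; exact h)

end Cfsg.Agent.S0804
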