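import Mathlib
import Cfsg.Statements.S2577
-- import your own Cfsg.Agent.* helpers here

set_option autoImplicit false
open Cfsg

namespace Cfsg.Agent.S2577


section lin
variable {F : Type*} [Field F]

/-- Reindexing equivalence used in `nonsq_struct`. -/
def sigE (ι' : Type) : (Unit ⊕ ι') ⊕ (Unit ⊕ ι') ≃ Fin 2 ⊕ (ι' ⊕ ι') where
  toFun := fun x => match x with
    | Sum.inl (Sum.inl _) => Sum.inl 0
    | Sum.inl (Sum.inr i) => Sum.inr (Sum.inl i)
    | Sum.inr (Sum.inl _) => Sum.inl 1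
    | Sum.inr (Sum.inr i) => Sum.inr (Sum.inr i)
  invFun := fun y => match y with
    | Sum.inl k => if k = 0 then Sum.inl (Sum.inl ()) else Sum.inr (Sum.inl ())
    | Sum.inr (Sum.inl i) => Sum.inl (Sum.inr i)
    | Sum.inr (Sum.inr i) => Sum.inr (Sum.inr i)
  left_inv := by
    rintro ((⟨⟩ | i) | (⟨⟩ | i)) <;> rfl
  right_inv := by
    rintro (k | i | i)
    · fin_cases k <;> rfl
    · rfl
    · rfl

/-- A linear map with `T ∘ T = z` and no eigenvector has a basis of the form `e, T e`. -/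
theorem nonsq_struct {V : Type*} [AddCommGroup V] [Module F V] [FiniteDimensional F V]
    (T : V →ₗ[F] V) (z : F) (hz : z ≠ 0) (hT : ∀ v, T (T v) = z • v)
    (hne : ∀ v, v ≠ 0 → ∀ c : F, T v ≠ c • v) :
    ∀ d : ℕ, ∀ U : Submodule F V, (∀ v ∈ U, T v ∈ U) → Module.finrank F U = d →
      ∃ (ι : Type) (_ : Fintype ι) (e : ι → V),
        LinearIndependent F (Sum.elim e (fun i => T (e i))) ∧
        Submodule.span F (Set.range (Sum.elim e (fun i => T (e i)))) = U := by
  intro d
  induction d using Nat.strong_induction_on with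
  | _ d ih =>
    intro U hU hd
    by_cases hbot : U = ⊥
    · refine ⟨Empty, inferInstance, fun i => i.elim, ?_, ?_⟩
      · exact linearIndependent_empty_type
      · rw [hbot, Submodule.span_eq_bot]
        rintro v ⟨(i | i), -⟩ <;> exact i.elim
    · obtain ⟨u₀, hu₀U, hu₀ne⟩ := (Submodule.ne_bot_iff U).1 hbot
      have hu₀ := hne u₀ hu₀ne
      have hnot : u₀ ∉ Submodule.span F ({T u₀} : Set V) := by
        intro hmem
        rw [Submodule.mem_span_singleton] at hmem
        obtain ⟨α, hα⟩ := hmem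
        have hα0 : α ≠ 0 := by
          rintro rfl
          rw [zero_smul] at hα
          exact hu₀ne hα.symm
        have hTu : T u₀ = α⁻¹ • u₀ := by
          calc T u₀ = α⁻¹ • (α • T u₀) := by rw [smul_smul, inv_mul_cancel₀ hα0, one_smul]
            _ = α⁻¹ • u₀ := by rw [hα]
        exact hu₀ α⁻¹ hTu
      obtain ⟨f, hf1, hf2⟩ := Submodule.exists_dual_map_eq_bot_of_notMem hnot inferInstance
      have hfT : f (T u₀) = 0 := by
        have h : f (T u₀) ∈ (Submodule.span F ({T u₀} : Set V)).map f :=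
          Submodule.mem_map_of_mem (Submodule.subset_span (Set.mem_singleton _))
        rw [hf2] at h
        simpa using h
      obtain ⟨φ, hφ1, hφT⟩ : ∃ φ : V →ₗ[F] F, φ u₀ = 1 ∧ φ (T u₀) = 0 :=
        ⟨(f u₀)⁻¹ • f, by simp [hf1], by simp [hfT]⟩
      obtain ⟨U', hU'mem⟩ : ∃ U' : Submodule F V,
          ∀ v, v ∈ U' ↔ v ∈ U ∧ φ v = 0 ∧ φ (T v) = 0 :=
        ⟨U ⊓ (LinearMap.ker φ ⊓ LinearMap.ker (φ ∘ₗ T)), fun v => by
          simp [Submodule.mem_inf, LinearMap.mem_ker]⟩
      have hU'le : U' ≤ U := fun v hv => ((hU'mem v).1 hv).1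
      have hU'inv : ∀ v ∈ U', T v ∈ U' := by
        intro v hv
        rw [hU'mem] at hv ⊢
        refine ⟨hU v hv.1, hv.2.2, ?_⟩
        rw [hT, map_smul, hv.2.1, smul_zero]
      have hTu₀U : T u₀ ∈ U := hU u₀ hu₀U
      have hlt : U' < U := by
        refine lt_of_le_of_ne hU'le ?_
        intro h
        have h' : u₀ ∈ U' := by rw [h]; exact hu₀U
        rw [hU'mem, hφ1] at h'
        exact one_ne_zero h'.2.1
      have hfr : Module.finrank F U' < d := by
        rw [← hd]; exact Submodule.finrank_lt_finrank_of_lt hlt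
      obtain ⟨ι', hι', e', hb', hspan'⟩ := ih _ hfr U' hU'inv rfl
      have := hι'
      obtain ⟨b', hb'def⟩ : ∃ b' : ι' ⊕ ι' → V, b' = Sum.elim e' (fun i => T (e' i)) :=
        ⟨_, rfl⟩
      rw [← hb'def] at hb' hspan'
      have hpair_li : LinearIndependent F ![u₀, T u₀] := by
        rw [LinearIndependent.pair_iff]
        intro s t hst
        have h1 : s = 0 := by
          have h := congrArg φ hst
          simpa [hφ1, hφT] using h
        have h2 : t = 0 := by
          have h := congrArg (fun v => φ (T v)) hst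
          simp only [map_add, map_smul, hT, hφ1, hφT, smul_eq_mul, mul_zero, mul_one,
            zero_add, map_zero] at h
          rcases mul_eq_zero.1 h with h | h
          · exact h
          · exact absurd h hz
        exact ⟨h1, h2⟩
      have hrange : Set.range ![u₀, T u₀] = ({u₀, T u₀} : Set V) := by
        ext v
        simp only [Set.mem_range, Set.mem_insert_iff, Set.mem_singleton_iff]
        constructor
        · rintro ⟨i, rfl⟩
          revert i
          exact Fin.forall_fin_two.2 ⟨Or.inl rfl, Or.inr rfl⟩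
        · rintro (rfl | rfl)
          · exact ⟨0, rfl⟩
          · exact ⟨1, rfl⟩
      have hdisj : Disjoint (Submodule.span F (Set.range ![u₀, T u₀]))
          (Submodule.span F (Set.range b')) := by
        rw [hspan', hrange, Submodule.disjoint_def]
        intro v hv hv'
        rw [Submodule.mem_span_pair] at hv
        obtain ⟨α, β, rfl⟩ := hv
        rw [hU'mem] at hv'
        obtain ⟨-, h1, h2⟩ := hv'
        have hα : α = 0 := by simpa [hφ1, hφT] using h1
        have hβ : β = 0 := by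
          simp only [map_add, map_smul, hT, hφ1, hφT, smul_eq_mul, mul_zero, mul_one,
            zero_add] at h2
          rcases mul_eq_zero.1 h2 with h | h
          · exact h
          · exact absurd h hz
        rw [hα, hβ]; simp
      have hsup : Submodule.span F (Set.range ![u₀, T u₀]) ⊔ Submodule.span F (Set.range b')
          = U := by
        rw [hspan', hrange]
        apply le_antisymm
        · refine sup_le ?_ hU'le
          rw [Submodule.span_le]
          rintro v (rfl | rfl)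
          · exact hu₀U
          · exact hTu₀U
        · intro v hv
          rw [Submodule.mem_sup]
          refine ⟨φ v • u₀ + (φ (T v) * z⁻¹) • T u₀, ?_,
            v - (φ v • u₀ + (φ (T v) * z⁻¹) • T u₀), ?_, by abel⟩
          · rw [Submodule.mem_span_pair]; exact ⟨_, _, rfl⟩
          · rw [hU'mem]
            refine ⟨U.sub_mem hv (U.add_mem (U.smul_mem _ hu₀U) (U.smul_mem _ hTu₀U)), ?_, ?_⟩
            · simp [hφ1, hφT]
            · have e1 : φ (T (v - (φ v • u₀ + (φ (T v) * z⁻¹) • T u₀)))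
                  = φ (T v) - (φ v * φ (T u₀) + (φ (T v) * z⁻¹) * φ (T (T u₀))) := by
                simp only [map_sub, map_add, map_smul, smul_eq_mul]
              rw [e1, hT, map_smul, hφ1, hφT, smul_eq_mul, mul_zero, zero_add, mul_one,
                inv_mul_cancel_right₀ hz, sub_self]
      have hli := hpair_li.sum_type hb' hdisj
      have hcomp : Sum.elim (Sum.elim (fun _ : Unit => u₀) e')
            (fun i => T (Sum.elim (fun _ : Unit => u₀) e' i))
          = Sum.elim ![u₀, T u₀] b' ∘ sigE ι' := by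
        rw [hb'def]
        funext x
        rcases x with ((⟨⟩ | i) | (⟨⟩ | i)) <;> rfl
      refine ⟨Unit ⊕ ι', inferInstance, Sum.elim (fun _ => u₀) e', ?_, ?_⟩
      · rw [hcomp]
        exact hli.comp _ (sigE ι').injective
      · rw [hcomp, (sigE ι').surjective.range_comp, Set.Sum.elim_range, Submodule.span_union,
          hsup]

/-- Involutions: the `±1` eigenspaces are complementary. -/
theorem isCompl_inv {V : Type*} [AddCommGroup V] [Module F V] (h2 : (2 : F) ≠ 0)
    (T : V →ₗ[F] V) (hT : ∀ v, T (T v) = v) :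
    IsCompl (LinearMap.ker (LinearMap.id - T)) (LinearMap.ker (LinearMap.id + T)) := by
  rw [isCompl_iff]
  constructor
  · rw [Submodule.disjoint_def]
    intro v h1 h2'
    rw [LinearMap.mem_ker] at h1 h2'
    simp only [LinearMap.sub_apply, LinearMap.add_apply, LinearMap.id_apply] at h1 h2'
    have h3 : (2 : F) • v = 0 := by
      rw [two_smul]
      calc v + v = (v - T v) + (v + T v) := by abel
        _ = 0 := by rw [h1, h2', add_zero]
    exact (smul_eq_zero.1 h3).resolve_left h2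
  · rw [codisjoint_iff, Submodule.eq_top_iff']
    intro v
    rw [Submodule.mem_sup]
    refine ⟨(2 : F)⁻¹ • (v + T v), ?_, (2 : F)⁻¹ • (v - T v), ?_, ?_⟩
    · rw [LinearMap.mem_ker]
      simp only [LinearMap.sub_apply, LinearMap.id_apply, map_smul, map_add, hT]
      module
    · rw [LinearMap.mem_ker]
      simp only [LinearMap.add_apply, LinearMap.id_apply, map_smul, map_sub, hT]
      module
    · have : (2 : F)⁻¹ • (v + T v) + (2 : F)⁻¹ • (v - T v) = ((2 : F)⁻¹ * 2) • v := by module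
      rw [this, inv_mul_cancel₀ h2, one_smul]

/-- Two involutions with equidimensional `+1` eigenspaces are intertwined by a linear
equivalence. -/
theorem conj_inv_lin {V : Type*} [AddCommGroup V] [Module F V] [FiniteDimensional F V]
    (T T' : V →ₗ[F] V)
    (hc : IsCompl (LinearMap.ker (LinearMap.id - T)) (LinearMap.ker (LinearMap.id + T)))
    (hc' : IsCompl (LinearMap.ker (LinearMap.id - T')) (LinearMap.ker (LinearMap.id + T')))
    (hfr : Module.finrank F (LinearMap.ker (LinearMap.id - T))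
      = Module.finrank F (LinearMap.ker (LinearMap.id - T'))) :
    ∃ φ : V ≃ₗ[F] V, ∀ v, φ (T v) = T' (φ v) := by
  have hfr2 : Module.finrank F (LinearMap.ker (LinearMap.id + T))
      = Module.finrank F (LinearMap.ker (LinearMap.id + T')) := by
    have h1 := Submodule.finrank_add_eq_of_isCompl hc
    have h2 := Submodule.finrank_add_eq_of_isCompl hc'
    omega
  obtain ⟨φp⟩ : Nonempty ((LinearMap.ker (LinearMap.id - T)) ≃ₗ[F]
      (LinearMap.ker (LinearMap.id - T'))) := ⟨LinearEquiv.ofFinrankEq _ _ hfr⟩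
  obtain ⟨φq⟩ : Nonempty ((LinearMap.ker (LinearMap.id + T)) ≃ₗ[F]
      (LinearMap.ker (LinearMap.id + T'))) := ⟨LinearEquiv.ofFinrankEq _ _ hfr2⟩
  have hfix : ∀ (S : V →ₗ[F] V) (u : LinearMap.ker (LinearMap.id - S)), S (u : V) = u := by
    intro S u
    have h := u.2
    rw [LinearMap.mem_ker, LinearMap.sub_apply, LinearMap.id_apply, sub_eq_zero] at h
    exact h.symm
  have hneg : ∀ (S : V →ₗ[F] V) (w : LinearMap.ker (LinearMap.id + S)), S (w : V) = -w := by
    intro S w
    have h := w.2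
    rw [LinearMap.mem_ker, LinearMap.add_apply, LinearMap.id_apply] at h
    exact eq_neg_of_add_eq_zero_right h
  refine ⟨(Submodule.prodEquivOfIsCompl _ _ hc).symm ≪≫ₗ (φp.prodCongr φq) ≪≫ₗ
    (Submodule.prodEquivOfIsCompl _ _ hc'), fun v => ?_⟩
  obtain ⟨⟨u, w⟩, rfl⟩ := (Submodule.prodEquivOfIsCompl _ _ hc).surjective v
  have h1 : Submodule.prodEquivOfIsCompl _ _ hc (u, w) = (u : V) + w := rfl
  have h2 : T (Submodule.prodEquivOfIsCompl _ _ hc (u, w))
      = Submodule.prodEquivOfIsCompl _ _ hc (u, -w) := by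
    rw [h1, map_add, hfix T u, hneg T w]; rfl
  simp only [LinearEquiv.trans_apply]
  rw [h2, LinearEquiv.symm_apply_apply, LinearEquiv.symm_apply_apply]
  have h3 : (φp.prodCongr φq) (u, -w) = (φp u, - φq w) := by
    rw [LinearEquiv.prodCongr_apply, map_neg]
  have h4 : (φp.prodCongr φq) (u, w) = (φp u, φq w) := rfl
  rw [h3, h4]
  have h5 : Submodule.prodEquivOfIsCompl _ _ hc' (φp u, - φq w) = (φp u : V) + -(φq w : V) :=
    rfl
  have h6 : Submodule.prodEquivOfIsCompl _ _ hc' (φp u, φq w) = (φp u : V) + (φq w : V) :=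
    rfl
  rw [h5, h6, map_add, hfix T' (φp u), hneg T' (φq w)]
  rfl

end lin

section mat
variable {F : Type*} [Field F]

theorem toLin_sq {n : ℕ} (M : Matrix (Fin n) (Fin n) F) (z : F) (hM : M * M = z • 1)
    (v : Fin n → F) : Matrix.toLin' M (Matrix.toLin' M v) = z • v := by
  rw [Matrix.toLin'_apply, Matrix.toLin'_apply, Matrix.mulVec_mulVec, hM, Matrix.smul_mulVec,
    Matrix.one_mulVec]

theorem toLin_sq_one {n : ℕ} (M : Matrix (Fin n) (Fin n) F) (hM : M * M = 1)
    (v : Fin n → F) : Matrix.toLin' M (Matrix.toLin' M v) = v := by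
  rw [Matrix.toLin'_apply, Matrix.toLin'_apply, Matrix.mulVec_mulVec, hM, Matrix.one_mulVec]

theorem conj_of_equiv {n : ℕ} (M M' : Matrix (Fin n) (Fin n) F)
    (φ : (Fin n → F) ≃ₗ[F] (Fin n → F))
    (h : ∀ v, φ (Matrix.toLin' M v) = Matrix.toLin' M' (φ v)) :
    ∃ x : GL (Fin n) F,
      (x : Matrix (Fin n) (Fin n) F) * M = M' * (x : Matrix (Fin n) (Fin n) F) := by
  have hdet : IsUnit (LinearMap.toMatrix' (φ : (Fin n → F) →ₗ[F] (Fin n → F))).det := by
    rw [LinearMap.det_toMatrix']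
    exact φ.isUnit_det'
  refine ⟨Matrix.GeneralLinearGroup.mk'' _ hdet, ?_⟩
  have hx : ((Matrix.GeneralLinearGroup.mk'' _ hdet : GL (Fin n) F) :
      Matrix (Fin n) (Fin n) F) = LinearMap.toMatrix' (φ : (Fin n → F) →ₗ[F] (Fin n → F)) :=
    rfl
  rw [hx]
  have key : (φ : (Fin n → F) →ₗ[F] (Fin n → F)) ∘ₗ Matrix.toLin' M
      = Matrix.toLin' M' ∘ₗ (φ : (Fin n → F) →ₗ[F] (Fin n → F)) := LinearMap.ext h
  have h' := congrArg LinearMap.toMatrix' key
  rw [LinearMap.toMatrix'_comp, LinearMap.toMatrix'_comp, LinearMap.toMatrix'_toLin',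
    LinearMap.toMatrix'_toLin'] at h'
  exact h'

theorem finrank_ker_eq {n : ℕ} (A : Matrix (Fin n) (Fin n) F) :
    Module.finrank F (LinearMap.ker (Matrix.toLin' A)) = n - A.rank := by
  have h := LinearMap.finrank_range_add_finrank_ker (Matrix.toLin' A)
  rw [Module.finrank_fin_fun] at h
  have h' : A.rank = Module.finrank F (LinearMap.range (Matrix.toLin' A)) := by
    rw [Matrix.rank, Matrix.toLin'_apply']
  omega

/-- The diagonal involution with `i` entries `-1`. -/
def dmat (n i : ℕ) (F : Type*) [Field F] : Matrix (Fin n) (Fin n) F :=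
  Matrix.diagonal (fun j : Fin n => if (j : ℕ) < i then (-1 : F) else 1)

theorem dmat_sq (n i : ℕ) : dmat n i F * dmat n i F = 1 := by
  rw [dmat, Matrix.diagonal_mul_diagonal, ← Matrix.diagonal_one]
  congr 1
  funext j
  split_ifs <;> simp

theorem one_sub_dmat (n i : ℕ) :
    1 - dmat n i F = Matrix.diagonal (fun j : Fin n => if (j : ℕ) < i then (2 : F) else 0) := by
  rw [dmat, ← Matrix.diagonal_one, Matrix.diagonal_sub]
  congr 1
  funext j
  split_ifs <;> norm_num

theorem one_add_dmat (n i : ℕ) :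
    1 + dmat n i F = Matrix.diagonal (fun j : Fin n => if (j : ℕ) < i then (0 : F) else 2) := by
  rw [dmat, ← Matrix.diagonal_one, Matrix.diagonal_add]
  congr 1
  funext j
  split_ifs <;> norm_num

theorem rank_one_sub_dmat (h2 : (2 : F) ≠ 0) {n i : ℕ} (hi : i ≤ n) :
    (1 - dmat n i F).rank = i := by
  classical
  rw [one_sub_dmat, Matrix.rank_diagonal, ← Nat.card_eq_fintype_card]
  have e : {j : Fin n // (if (j : ℕ) < i then (2 : F) else 0) ≠ 0} ≃ Fin i :=
    { toFun := fun j => ⟨j.1.1, by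
        by_contra h
        exact j.2 (if_neg h)⟩
      invFun := fun k => ⟨⟨k.1, lt_of_lt_of_le k.2 hi⟩, by
        show (if (k : ℕ) < i then (2 : F) else 0) ≠ 0
        rw [if_pos k.2]; exact h2⟩
      left_inv := fun j => rfl
      right_inv := fun k => rfl }
  rw [Nat.card_congr e, Nat.card_eq_fintype_card, Fintype.card_fin]

theorem rank_one_add_dmat (h2 : (2 : F) ≠ 0) {n i : ℕ} (hi : i ≤ n) :
    (1 + dmat n i F).rank = n - i := by
  classical
  rw [one_add_dmat, Matrix.rank_diagonal, ← Nat.card_eq_fintype_card]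
  have hmem : ∀ j : {j : Fin n // (if (j : ℕ) < i then (0 : F) else 2) ≠ 0},
      i ≤ (j.1 : ℕ) := by
    intro j
    by_contra h
    exact j.2 (if_pos (not_le.1 h))
  have e : {j : Fin n // (if (j : ℕ) < i then (0 : F) else 2) ≠ 0} ≃ Fin (n - i) :=
    { toFun := fun j => ⟨j.1.1 - i, by have := hmem j; have := j.1.2; omega⟩
      invFun := fun k => ⟨⟨k.1 + i, by have := k.2; omega⟩, by
        have hk : ¬ (k.1 + i < i) := by omega
        show (if (k.1 + i) < i then (0 : F) else 2) ≠ 0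
        rw [if_neg hk]; exact h2⟩
      left_inv := fun j => Subtype.ext (Fin.ext (Nat.sub_add_cancel (hmem j)))
      right_inv := fun k => Fin.ext (Nat.add_sub_cancel k.1 i) }
  rw [Nat.card_congr e, Nat.card_eq_fintype_card, Fintype.card_fin]

theorem fr_dmat_sub (h2 : (2 : F) ≠ 0) {n i : ℕ} (hi : i ≤ n) :
    Module.finrank F (LinearMap.ker (LinearMap.id - Matrix.toLin' (dmat n i F))) = n - i := by
  have e : (LinearMap.id : (Fin n → F) →ₗ[F] (Fin n → F)) - Matrix.toLin' (dmat n i F)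
      = Matrix.toLin' (1 - dmat n i F) := by
    rw [map_sub, Matrix.toLin'_one]
  rw [e, finrank_ker_eq, rank_one_sub_dmat h2 hi]

theorem smul_one_inj {n : ℕ} (hn : 0 < n) {a b : F}
    (h : a • (1 : Matrix (Fin n) (Fin n) F) = b • 1) : a = b := by
  have := congrFun (congrFun h ⟨0, hn⟩) ⟨0, hn⟩
  simpa using this

theorem dmat_not_scalar (h2 : (2 : F) ≠ 0) {n i : ℕ} (h1 : 1 ≤ i) (hi : i < n) :
    ¬ ∃ c : F, dmat n i F = c • (1 : Matrix (Fin n) (Fin n) F) := by
  rintro ⟨c, hc⟩
  have hn : 0 < n := by omega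
  have hn1 : n - 1 < n := by omega
  have e0 := congrFun (congrFun hc ⟨0, hn⟩) ⟨0, hn⟩
  have e1 := congrFun (congrFun hc ⟨n - 1, hn1⟩) ⟨n - 1, hn1⟩
  have h0 : ((⟨0, hn⟩ : Fin n) : ℕ) < i := h1
  have h1' : ¬ ((⟨n - 1, hn1⟩ : Fin n) : ℕ) < i := by
    show ¬ (n - 1 < i); omega
  simp only [dmat, Matrix.diagonal_apply_eq, Matrix.smul_apply, Matrix.one_apply_eq,
    smul_eq_mul, mul_one, if_pos h0] at e0
  simp only [dmat, Matrix.diagonal_apply_eq, Matrix.smul_apply, Matrix.one_apply_eq,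
    smul_eq_mul, mul_one, if_neg h1'] at e1
  apply h2
  have h3 : (-1 : F) = 1 := e0.trans e1.symm
  linear_combination (-1 : F) * h3

theorem not_scalar_of_nonsq {n : ℕ} (hn : 0 < n) (B : Matrix (Fin n) (Fin n) F) (μ : F)
    (hμ : ¬ IsSquare μ) (hB : B * B = μ • 1) :
    ¬ ∃ c : F, B = c • (1 : Matrix (Fin n) (Fin n) F) := by
  rintro ⟨c, rfl⟩
  apply hμ
  refine ⟨c, ?_⟩
  apply smul_one_inj hn
  rw [← hB, Matrix.smul_mul, Matrix.mul_smul, Matrix.mul_one, smul_smul]

theorem smul_unit_inj {n : ℕ} (hn : 0 < n) (x : GL (Fin n) F) {a b : F}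
    (h : a • (x : Matrix (Fin n) (Fin n) F) = b • (x : Matrix (Fin n) (Fin n) F)) : a = b := by
  apply smul_one_inj hn
  have e : (x : Matrix (Fin n) (Fin n) F) * ((x⁻¹ : GL (Fin n) F) : Matrix (Fin n) (Fin n) F)
      = 1 := by
    rw [← Units.val_mul, mul_inv_cancel, Units.val_one]
  calc a • (1 : Matrix (Fin n) (Fin n) F)
      = (a • (x : Matrix (Fin n) (Fin n) F))
          * ((x⁻¹ : GL (Fin n) F) : Matrix (Fin n) (Fin n) F) := by rw [Matrix.smul_mul, e]
    _ = (b • (x : Matrix (Fin n) (Fin n) F))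
          * ((x⁻¹ : GL (Fin n) F) : Matrix (Fin n) (Fin n) F) := by rw [h]
    _ = b • 1 := by rw [Matrix.smul_mul, e]

theorem scal_rel {n : ℕ} (hn : 0 < n) (x : GL (Fin n) F) (A B : Matrix (Fin n) (Fin n) F)
    (a b c : F) (hA : A * A = a • 1) (hB : B * B = b • 1)
    (h : c • ((x : Matrix (Fin n) (Fin n) F) * A) = B * x) : c * c * a = b := by
  apply smul_unit_inj hn x
  have e1 : B * B * (x : Matrix (Fin n) (Fin n) F)
      = (c * c * a) • (x : Matrix (Fin n) (Fin n) F) := by
    calc B * B * (x : Matrix (Fin n) (Fin n) F) = B * (B * x) := by rw [Matrix.mul_assoc]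
      _ = B * (c • ((x : Matrix (Fin n) (Fin n) F) * A)) := by rw [h]
      _ = c • ((B * x) * A) := by rw [Matrix.mul_smul, ← Matrix.mul_assoc]
      _ = c • ((c • ((x : Matrix (Fin n) (Fin n) F) * A)) * A) := by rw [h]
      _ = (c * c) • ((x : Matrix (Fin n) (Fin n) F) * (A * A)) := by
        rw [Matrix.smul_mul, smul_smul, Matrix.mul_assoc]
      _ = (c * c * a) • (x : Matrix (Fin n) (Fin n) F) := by
        rw [hA, Matrix.mul_smul, Matrix.mul_one, smul_smul]
  rw [← e1, hB, Matrix.smul_mul, Matrix.one_mul]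

theorem rank_eq_of_conj {n : ℕ} (x : GL (Fin n) F) (P Q : Matrix (Fin n) (Fin n) F)
    (h : (x : Matrix (Fin n) (Fin n) F) * P = Q * x) : P.rank = Q.rank := by
  have hdet : IsUnit (x : Matrix (Fin n) (Fin n) F).det :=
    (Matrix.isUnit_iff_isUnit_det _).1 x.isUnit
  rw [← Matrix.rank_mul_eq_right_of_isUnit_det _ P hdet, h,
    Matrix.rank_mul_eq_left_of_isUnit_det _ Q hdet]

theorem exists_sq (μ : F) {n : ℕ} (hn : Even n) :
    ∃ B : Matrix (Fin n) (Fin n) F, B * B = μ • 1 := by
  obtain ⟨m, rfl⟩ := hn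
  have hB₀ : (Matrix.fromBlocks 0 1 (μ • 1) 0 : Matrix (Fin m ⊕ Fin m) (Fin m ⊕ Fin m) F)
      * Matrix.fromBlocks 0 1 (μ • 1) 0 = μ • 1 := by
    rw [Matrix.fromBlocks_multiply, ← Matrix.fromBlocks_one, Matrix.fromBlocks_smul]
    simp
  refine ⟨Matrix.reindexAlgEquiv F F finSumFinEquiv (Matrix.fromBlocks 0 1 (μ • 1) 0), ?_⟩
  rw [← map_mul, hB₀, map_smul, map_one]

theorem nonsq_mul [Fintype F] (a b : F) (ha : ¬ IsSquare a) (hb : ¬ IsSquare b) :
    ∃ s : F, a * b = s * s := by
  classical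
  have ha0 : a ≠ 0 := by rintro rfl; exact ha ⟨0, by simp⟩
  have hb0 : b ≠ 0 := by rintro rfl; exact hb ⟨0, by simp⟩
  have h1 : quadraticChar F a = -1 := quadraticChar_neg_one_iff_not_isSquare.2 ha
  have h2 : quadraticChar F b = -1 := quadraticChar_neg_one_iff_not_isSquare.2 hb
  have h3 : quadraticChar F (a * b) = 1 := by rw [map_mul, h1, h2]; norm_num
  exact (quadraticChar_one_iff_isSquare (mul_ne_zero ha0 hb0)).1 h3

/-- Two matrices squaring to the same non-square scalar are conjugate. -/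
theorem conj_nonsq {n : ℕ} (M M' : Matrix (Fin n) (Fin n) F) (μ : F) (hμ : ¬ IsSquare μ)
    (hM : M * M = μ • 1) (hM' : M' * M' = μ • 1) :
    ∃ x : GL (Fin n) F,
      (x : Matrix (Fin n) (Fin n) F) * M = M' * (x : Matrix (Fin n) (Fin n) F) := by
  have hμ0 : μ ≠ 0 := by rintro rfl; exact hμ ⟨0, by simp⟩
  have hne : ∀ (A : Matrix (Fin n) (Fin n) F), A * A = μ • 1 →
      ∀ v : Fin n → F, v ≠ 0 → ∀ c : F, Matrix.toLin' A v ≠ c • v := by
    intro A hA v hv c hc
    have h1 : μ • v = (c * c) • v := by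
      rw [← toLin_sq A μ hA v, hc, map_smul, hc, smul_smul]
    have h2 : (μ - c * c) • v = 0 := by rw [sub_smul, h1, sub_self]
    rcases smul_eq_zero.1 h2 with h | h
    · exact hμ ⟨c, sub_eq_zero.1 h⟩
    · exact hv h
  obtain ⟨ι, hι, e, hli, hsp⟩ := nonsq_struct (Matrix.toLin' M) μ hμ0 (toLin_sq M μ hM)
    (hne M hM) _ ⊤ (fun _ _ => Submodule.mem_top) rfl
  obtain ⟨ι', hι', e', hli', hsp'⟩ := nonsq_struct (Matrix.toLin' M') μ hμ0 (toLin_sq M' μ hM')
    (hne M' hM') _ ⊤ (fun _ _ => Submodule.mem_top) rfl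
  have := hι
  have := hι'
  obtain ⟨B, hB⟩ : ∃ B : Module.Basis (ι ⊕ ι) F (Fin n → F),
      ∀ i, B i = Sum.elim e (fun i => Matrix.toLin' M (e i)) i :=
    ⟨Module.Basis.mk hli hsp.ge, fun i => Module.Basis.mk_apply hli hsp.ge i⟩
  obtain ⟨B', hB'⟩ : ∃ B' : Module.Basis (ι' ⊕ ι') F (Fin n → F),
      ∀ i, B' i = Sum.elim e' (fun i => Matrix.toLin' M' (e' i)) i :=
    ⟨Module.Basis.mk hli' hsp'.ge, fun i => Module.Basis.mk_apply hli' hsp'.ge i⟩
  have hcard : Fintype.card ι = Fintype.card ι' := by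
    have h1 := Module.finrank_eq_card_basis B
    have h2 := Module.finrank_eq_card_basis B'
    rw [Fintype.card_sum] at h1 h2
    omega
  obtain ⟨ε⟩ : Nonempty (ι ≃ ι') := ⟨Fintype.equivOfCardEq hcard⟩
  obtain ⟨φ, hφ⟩ : ∃ φ : (Fin n → F) ≃ₗ[F] (Fin n → F),
      ∀ i, φ (B i) = B' (Equiv.sumCongr ε ε i) :=
    ⟨B.equiv B' (Equiv.sumCongr ε ε), fun i => Module.Basis.equiv_apply _ _ _ _⟩
  have key : (φ : (Fin n → F) →ₗ[F] (Fin n → F)) ∘ₗ Matrix.toLin' M
      = Matrix.toLin' M' ∘ₗ (φ : (Fin n → F) →ₗ[F] (Fin n → F)) := by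
    apply B.ext
    intro i
    simp only [LinearMap.comp_apply, LinearEquiv.coe_coe]
    rcases i with i | i
    · have h1 : B (Sum.inl i) = e i := hB _
      have h2 : B (Sum.inr i) = Matrix.toLin' M (e i) := hB _
      have h1' : B' (Sum.inl (ε i)) = e' (ε i) := hB' _
      have h2' : B' (Sum.inr (ε i)) = Matrix.toLin' M' (e' (ε i)) := hB' _
      have a1 : φ (B (Sum.inl i)) = B' (Sum.inl (ε i)) := hφ _
      have a2 : φ (B (Sum.inr i)) = B' (Sum.inr (ε i)) := hφ _
      calc φ (Matrix.toLin' M (B (Sum.inl i))) = φ (B (Sum.inr i)) := by rw [h1, h2]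
        _ = B' (Sum.inr (ε i)) := a2
        _ = Matrix.toLin' M' (B' (Sum.inl (ε i))) := by rw [h1', h2']
        _ = Matrix.toLin' M' (φ (B (Sum.inl i))) := by rw [a1]
    · have h1 : B (Sum.inl i) = e i := hB _
      have h2 : B (Sum.inr i) = Matrix.toLin' M (e i) := hB _
      have h1' : B' (Sum.inl (ε i)) = e' (ε i) := hB' _
      have h2' : B' (Sum.inr (ε i)) = Matrix.toLin' M' (e' (ε i)) := hB' _
      have a1 : φ (B (Sum.inl i)) = B' (Sum.inl (ε i)) := hφ _
      have a2 : φ (B (Sum.inr i)) = B' (Sum.inr (ε i)) := hφ _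
      calc φ (Matrix.toLin' M (B (Sum.inr i))) = φ (μ • B (Sum.inl i)) := by
            rw [h2, toLin_sq M μ hM, h1]
        _ = μ • B' (Sum.inl (ε i)) := by rw [map_smul, a1]
        _ = Matrix.toLin' M' (B' (Sum.inr (ε i))) := by rw [h2', toLin_sq M' μ hM', h1']
        _ = Matrix.toLin' M' (φ (B (Sum.inr i))) := by rw [a2]
  exact conj_of_equiv M M' φ (fun v => LinearMap.congr_fun key v)

theorem eq_zero_of_finrank {n : ℕ} (T : (Fin n → F) →ₗ[F] (Fin n → F))
    (h : Module.finrank F (LinearMap.ker T) = n) : T = 0 := by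
  apply LinearMap.ker_eq_top.1
  apply Submodule.eq_top_of_finrank_eq
  rw [h, Module.finrank_fin_fun]

/-- A non-scalar involution is conjugate, up to sign, to some `dmat n i` with
`1 ≤ i ≤ n / 2`. -/
theorem inv_class (h2 : (2 : F) ≠ 0) {n : ℕ} (H : Matrix (Fin n) (Fin n) F) (hH : H * H = 1)
    (hne1 : H ≠ 1) (hne2 : H ≠ -1) :
    ∃ i, 1 ≤ i ∧ i ≤ n / 2 ∧ ∃ (x : GL (Fin n) F) (ε : F),
      (x : Matrix (Fin n) (Fin n) F) * dmat n i F = ε • (H * x) := by
  have hTH := toLin_sq_one H hH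
  have hHn : (-H) * (-H) = 1 := by rw [neg_mul_neg, hH]
  have hTHn := toLin_sq_one (-H) hHn
  have hcH := isCompl_inv h2 _ hTH
  have hcHn := isCompl_inv h2 _ hTHn
  have hsum := Submodule.finrank_add_eq_of_isCompl hcH
  rw [Module.finrank_fin_fun] at hsum
  have hip : Module.finrank F (LinearMap.ker (LinearMap.id - Matrix.toLin' H)) < n := by
    by_contra hcon
    have h0 := eq_zero_of_finrank _ (by omega :
      Module.finrank F (LinearMap.ker (LinearMap.id - Matrix.toLin' H)) = n)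
    apply hne1
    apply Matrix.toLin'.injective
    rw [Matrix.toLin'_one]
    exact (sub_eq_zero.1 h0).symm
  have him : Module.finrank F (LinearMap.ker (LinearMap.id + Matrix.toLin' H)) < n := by
    by_contra hcon
    have h0 := eq_zero_of_finrank _ (by omega :
      Module.finrank F (LinearMap.ker (LinearMap.id + Matrix.toLin' H)) = n)
    apply hne2
    apply Matrix.toLin'.injective
    rw [map_neg, Matrix.toLin'_one]
    exact eq_neg_of_add_eq_zero_right h0
  by_cases him2 : Module.finrank F (LinearMap.ker (LinearMap.id + Matrix.toLin' H)) ≤ n / 2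
  · refine ⟨Module.finrank F (LinearMap.ker (LinearMap.id + Matrix.toLin' H)), by omega,
      him2, ?_⟩
    have hTD := toLin_sq_one _ (dmat_sq (F := F) n
      (Module.finrank F (LinearMap.ker (LinearMap.id + Matrix.toLin' H))))
    have hfr : Module.finrank F (LinearMap.ker (LinearMap.id - Matrix.toLin' (dmat n
        (Module.finrank F (LinearMap.ker (LinearMap.id + Matrix.toLin' H))) F)))
        = Module.finrank F (LinearMap.ker (LinearMap.id - Matrix.toLin' H)) := by
      rw [fr_dmat_sub h2 (by omega)]; omega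
    obtain ⟨φ, hφ⟩ := conj_inv_lin _ _ (isCompl_inv h2 _ hTD) hcH hfr
    obtain ⟨x, hx⟩ := conj_of_equiv _ _ φ hφ
    exact ⟨x, 1, by rw [one_smul]; exact hx⟩
  · refine ⟨Module.finrank F (LinearMap.ker (LinearMap.id - Matrix.toLin' H)), by omega,
      by omega, ?_⟩
    have hTD := toLin_sq_one _ (dmat_sq (F := F) n
      (Module.finrank F (LinearMap.ker (LinearMap.id - Matrix.toLin' H))))
    have hfr : Module.finrank F (LinearMap.ker (LinearMap.id - Matrix.toLin' (dmat n
        (Module.finrank F (LinearMap.ker (LinearMap.id - Matrix.toLin' H))) F)))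
        = Module.finrank F (LinearMap.ker (LinearMap.id - Matrix.toLin' (-H))) := by
      rw [fr_dmat_sub h2 (by omega), map_neg, sub_neg_eq_add]; omega
    obtain ⟨φ, hφ⟩ := conj_inv_lin _ _ (isCompl_inv h2 _ hTD) hcHn hfr
    obtain ⟨x, hx⟩ := conj_of_equiv _ _ φ hφ
    exact ⟨x, -1, by rw [hx, Matrix.neg_mul, neg_smul, one_smul]⟩

theorem mem_center_iff' {n : ℕ} (g : GL (Fin n) F) :
    g ∈ Subgroup.center (GL (Fin n) F) ↔
      ∃ c : F, (g : Matrix (Fin n) (Fin n) F) = c • 1 := by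
  rw [Matrix.GeneralLinearGroup.mem_center_iff_val_mem_range_scalar]
  constructor
  · rintro ⟨c, hc⟩
    exact ⟨c, by rw [← hc, Matrix.scalar_apply, Matrix.smul_one_eq_diagonal]⟩
  · rintro ⟨c, hc⟩
    exact ⟨c, by rw [hc, Matrix.scalar_apply, Matrix.smul_one_eq_diagonal]⟩

theorem order_two_iff {n : ℕ} (g : GL (Fin n) F) :
    orderOf (QuotientGroup.mk g : GL (Fin n) F ⧸ Subgroup.center (GL (Fin n) F)) = 2 ↔
      (∃ z : F, (g : Matrix (Fin n) (Fin n) F) * g = z • 1) ∧
        ¬ ∃ c : F, (g : Matrix (Fin n) (Fin n) F) = c • 1 := by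
  have : Fact (Nat.Prime 2) := ⟨Nat.prime_two⟩
  rw [orderOf_eq_prime_iff]
  have h1 : (QuotientGroup.mk g : GL (Fin n) F ⧸ Subgroup.center (GL (Fin n) F)) ^ 2
      = QuotientGroup.mk (g * g) := by
    rw [pow_two]; rfl
  rw [h1, QuotientGroup.eq_one_iff, mem_center_iff', Units.val_mul]
  rw [ne_eq, QuotientGroup.eq_one_iff, mem_center_iff']

theorem conj_of {n : ℕ} (g h : GL (Fin n) F) (x : GL (Fin n) F) (c : F)
    (hx : (x : Matrix (Fin n) (Fin n) F) * g = c • ((h : Matrix (Fin n) (Fin n) F) * x)) :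
    IsConj (QuotientGroup.mk g : GL (Fin n) F ⧸ Subgroup.center (GL (Fin n) F))
      (QuotientGroup.mk h) := by
  have hz : x * g * x⁻¹ * h⁻¹ ∈ Subgroup.center (GL (Fin n) F) := by
    rw [mem_center_iff']
    refine ⟨c, ?_⟩
    have e1 : ((x * g * x⁻¹ * h⁻¹ : GL (Fin n) F) : Matrix (Fin n) (Fin n) F)
        = (x : Matrix (Fin n) (Fin n) F) * g
          * ((x⁻¹ : GL (Fin n) F) : Matrix (Fin n) (Fin n) F)
          * ((h⁻¹ : GL (Fin n) F) : Matrix (Fin n) (Fin n) F) := by
      simp only [Units.val_mul]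
    have e2 : (x : Matrix (Fin n) (Fin n) F)
        * ((x⁻¹ : GL (Fin n) F) : Matrix (Fin n) (Fin n) F) = 1 := by
      rw [← Units.val_mul, mul_inv_cancel, Units.val_one]
    have e3 : (h : Matrix (Fin n) (Fin n) F)
        * ((h⁻¹ : GL (Fin n) F) : Matrix (Fin n) (Fin n) F) = 1 := by
      rw [← Units.val_mul, mul_inv_cancel, Units.val_one]
    rw [e1, hx]
    calc c • ((h : Matrix (Fin n) (Fin n) F) * x)
          * ((x⁻¹ : GL (Fin n) F) : Matrix (Fin n) (Fin n) F)
          * ((h⁻¹ : GL (Fin n) F) : Matrix (Fin n) (Fin n) F)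
        = c • ((h : Matrix (Fin n) (Fin n) F)
          * ((x : Matrix (Fin n) (Fin n) F)
            * ((x⁻¹ : GL (Fin n) F) : Matrix (Fin n) (Fin n) F))
          * ((h⁻¹ : GL (Fin n) F) : Matrix (Fin n) (Fin n) F)) := by
          simp only [Matrix.smul_mul, Matrix.mul_assoc]
      _ = c • 1 := by rw [e2, Matrix.mul_one, e3]
  rw [isConj_iff]
  refine ⟨QuotientGroup.mk x, ?_⟩
  have h1 : (QuotientGroup.mk (x * g * x⁻¹ * h⁻¹) :
      GL (Fin n) F ⧸ Subgroup.center (GL (Fin n) F)) = 1 := (QuotientGroup.eq_one_iff _).2 hz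
  have h2 : (QuotientGroup.mk (x * g * x⁻¹ * h⁻¹) :
      GL (Fin n) F ⧸ Subgroup.center (GL (Fin n) F))
      = QuotientGroup.mk x * QuotientGroup.mk g * (QuotientGroup.mk x)⁻¹
        * (QuotientGroup.mk h)⁻¹ := rfl
  rw [h2] at h1
  exact mul_inv_eq_one.1 h1

theorem of_conj {n : ℕ} (g h : GL (Fin n) F)
    (hc : IsConj (QuotientGroup.mk g : GL (Fin n) F ⧸ Subgroup.center (GL (Fin n) F))
      (QuotientGroup.mk h)) :
    ∃ (x : GL (Fin n) F) (c : F),
      c • ((x : Matrix (Fin n) (Fin n) F) * g) = (h : Matrix (Fin n) (Fin n) F) * x := by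
  rw [isConj_iff] at hc
  obtain ⟨y, hy⟩ := hc
  obtain ⟨x, rfl⟩ := QuotientGroup.mk_surjective y
  have h1 : (QuotientGroup.mk (x * g * x⁻¹) : GL (Fin n) F ⧸ Subgroup.center (GL (Fin n) F))
      = QuotientGroup.mk h := hy
  rw [QuotientGroup.eq, mem_center_iff'] at h1
  obtain ⟨c, hc⟩ := h1
  refine ⟨x, c, ?_⟩
  have h2 : (h : Matrix (Fin n) (Fin n) F)
      = c • ((x * g * x⁻¹ : GL (Fin n) F) : Matrix (Fin n) (Fin n) F) := by
    have e : h = (x * g * x⁻¹) * ((x * g * x⁻¹)⁻¹ * h) := by group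
    have e' : (h : Matrix (Fin n) (Fin n) F)
        = (((x * g * x⁻¹) * ((x * g * x⁻¹)⁻¹ * h) : GL (Fin n) F) :
          Matrix (Fin n) (Fin n) F) := congrArg Units.val e
    rw [Units.val_mul (x * g * x⁻¹), hc, Matrix.mul_smul, Matrix.mul_one] at e'
    exact e'
  have h3 : ((x * g * x⁻¹ : GL (Fin n) F) : Matrix (Fin n) (Fin n) F) * x
      = (x : Matrix (Fin n) (Fin n) F) * g := by
    rw [← Units.val_mul, ← Units.val_mul]
    congr 1
    group
  rw [h2, Matrix.smul_mul, h3]

end mat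


/-- Number of conjugacy classes of involutions in PGL_n(q) for q odd and n ≥ 2: there are ⌊n/2⌋ classes represented by diagonal matrices with i entries −1 (1 ≤ i ≤ n/2) and, when n is even, one more class represented by a block-diagonal matrix of 2 × 2 blocks [[0, 1], [μ, 0]] with μ a non-square (a matrix squaring to a scalar but having no eigenvalue in the field); in all ⌊n/2⌋ + 1 classes if n is even and ⌊n/2⌋ if n is odd. -/
theorem result {F : Type*} [Field F] [Fintype F] {q : ℕ} (hF : Fintype.card F = q) (hq : Odd q) {n : ℕ} (hn : 2 ≤ n) : Nat.card {C : ConjClasses (GL (Fin n) F ⧸ Subgroup.center (GL (Fin n) F)) // ∃ g : GL (Fin n) F ⧸ Subgroup.center (GL (Fin n) F), ConjClasses.mk g = C ∧ orderOf g = 2} = n / 2 + (if Even n then 1 else 0) := by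
  classical
  have hn0 : 0 < n := by omega
  have hchar : ringChar F ≠ 2 := by
    intro h
    have h1 := (FiniteField.even_card_iff_char_two).1 h
    rw [hF] at h1
    rcases hq with ⟨k, hk⟩
    omega
  have h2 : (2 : F) ≠ 0 := Ring.two_ne_zero hchar
  obtain ⟨μ, hμ⟩ := FiniteField.exists_nonsquare hchar
  have hμ0 : μ ≠ 0 := by rintro rfl; exact hμ ⟨0, by simp⟩
  obtain ⟨Bm, hBm⟩ : ∃ Bm : Matrix (Fin n) (Fin n) F, Even n → Bm * Bm = μ • 1 := by
    by_cases he : Even n
    · obtain ⟨B, hB⟩ := exists_sq μ he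
      exact ⟨B, fun _ => hB⟩
    · exact ⟨0, fun h => absurd h he⟩
  obtain ⟨N, hN⟩ : ∃ N : ℕ, N = n / 2 + (if Even n then 1 else 0) := ⟨_, rfl⟩
  rw [← hN]
  have hNle : ∀ j, j < N → ¬ j < n / 2 → Even n ∧ j = n / 2 := by
    intro j hj hj'
    by_cases he : Even n
    · rw [hN, if_pos he] at hj; exact ⟨he, by omega⟩
    · rw [hN, if_neg he] at hj; omega
  have hNhalf : Even n → n / 2 < N := by
    intro he; rw [hN, if_pos he]; omega
  have hNlt : ∀ j, j < n / 2 → j < N := by
    intro j hj; rw [hN]; omega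
  obtain ⟨R, hR⟩ : ∃ R : ℕ → Matrix (Fin n) (Fin n) F,
      ∀ j, R j = if j < n / 2 then dmat n (j + 1) F else Bm := ⟨_, fun _ => rfl⟩
  obtain ⟨sq, hsq⟩ : ∃ sq : ℕ → F, ∀ j, sq j = if j < n / 2 then 1 else μ :=
    ⟨_, fun _ => rfl⟩
  have hsq0 : ∀ j, sq j ≠ 0 := by
    intro j
    rw [hsq]
    split_ifs
    · exact one_ne_zero
    · exact hμ0
  have hRsq : ∀ j, j < N → R j * R j = sq j • 1 := by
    intro j hj
    by_cases hj' : j < n / 2
    · rw [hR, hsq, if_pos hj', if_pos hj', dmat_sq, one_smul]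
    · rw [hR, hsq, if_neg hj', if_neg hj']
      exact hBm (hNle j hj hj').1
  have hRns : ∀ j, j < N → ¬ ∃ c : F, R j = c • (1 : Matrix (Fin n) (Fin n) F) := by
    intro j hj
    by_cases hj' : j < n / 2
    · rw [hR, if_pos hj']
      have hj1 : 1 ≤ j + 1 := by omega
      have hj2 : j + 1 < n := by omega
      exact dmat_not_scalar h2 hj1 hj2
    · rw [hR, if_neg hj']
      exact not_scalar_of_nonsq hn0 Bm μ hμ (hBm (hNle j hj hj').1)
  have hex : ∀ j, ∃ x : GL (Fin n) F, j < N → (x : Matrix (Fin n) (Fin n) F) = R j := by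
    intro j
    by_cases hj : j < N
    · refine ⟨⟨R j, (sq j)⁻¹ • R j, ?_, ?_⟩, fun _ => rfl⟩
      · rw [Matrix.mul_smul, hRsq j hj, smul_smul, inv_mul_cancel₀ (hsq0 j), one_smul]
      · rw [Matrix.smul_mul, hRsq j hj, smul_smul, inv_mul_cancel₀ (hsq0 j), one_smul]
    · exact ⟨1, fun h => absurd h hj⟩
  choose r hr using hex
  have hord : ∀ j, j < N → orderOf (QuotientGroup.mk (r j) :
      GL (Fin n) F ⧸ Subgroup.center (GL (Fin n) F)) = 2 := by
    intro j hj
    rw [order_two_iff, hr j hj]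
    exact ⟨⟨sq j, hRsq j hj⟩, hRns j hj⟩
  have hI : ∀ j k, j < N → k < N → IsConj (QuotientGroup.mk (r j) :
      GL (Fin n) F ⧸ Subgroup.center (GL (Fin n) F)) (QuotientGroup.mk (r k)) → j = k := by
    intro j k hj hk hconj
    obtain ⟨x, c, hxc⟩ := of_conj _ _ hconj
    rw [hr j hj, hr k hk] at hxc
    have hrel := scal_rel hn0 x (R j) (R k) (sq j) (sq k) c (hRsq j hj) (hRsq k hk) hxc
    by_cases hj' : j < n / 2
    · by_cases hk' : k < n / 2
      · rw [hsq j, hsq k, if_pos hj', if_pos hk', mul_one] at hrel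
        rw [hR j, hR k, if_pos hj', if_pos hk'] at hxc
        have hj1 : j + 1 ≤ n := by omega
        have hk1 : k + 1 ≤ n := by omega
        rcases mul_self_eq_one_iff.1 hrel with hc | hc
        · rw [hc, one_smul] at hxc
          have h3 : (x : Matrix (Fin n) (Fin n) F) * (1 - dmat n (j + 1) F)
              = (1 - dmat n (k + 1) F) * x := by
            rw [Matrix.mul_sub, Matrix.sub_mul, Matrix.mul_one, Matrix.one_mul, hxc]
          have h4 := rank_eq_of_conj x _ _ h3
          rw [rank_one_sub_dmat h2 hj1, rank_one_sub_dmat h2 hk1] at h4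
          omega
        · rw [hc, neg_smul, one_smul] at hxc
          have h3 : (x : Matrix (Fin n) (Fin n) F) * (1 - dmat n (j + 1) F)
              = (1 + dmat n (k + 1) F) * x := by
            rw [Matrix.mul_sub, Matrix.add_mul, Matrix.mul_one, Matrix.one_mul, ← hxc,
              ← sub_eq_add_neg]
          have h4 := rank_eq_of_conj x _ _ h3
          rw [rank_one_sub_dmat h2 hj1, rank_one_add_dmat h2 hk1] at h4
          omega
      · exfalso
        rw [hsq j, hsq k, if_pos hj', if_neg hk', mul_one] at hrel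
        exact hμ ⟨c, hrel.symm⟩
    · by_cases hk' : k < n / 2
      · exfalso
        rw [hsq j, hsq k, if_neg hj', if_pos hk'] at hrel
        have hc0 : c ≠ 0 := by
          rintro rfl
          simp at hrel
        apply hμ
        refine ⟨c⁻¹, ?_⟩
        field_simp
        linear_combination hrel
      · have h1 := (hNle j hj hj').2
        have h2' := (hNle k hk hk').2
        omega
  have hS : ∀ g : GL (Fin n) F, orderOf (QuotientGroup.mk g :
      GL (Fin n) F ⧸ Subgroup.center (GL (Fin n) F)) = 2 →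
      ∃ j, j < N ∧ IsConj (QuotientGroup.mk (r j) :
        GL (Fin n) F ⧸ Subgroup.center (GL (Fin n) F)) (QuotientGroup.mk g) := by
    intro g hg
    rw [order_two_iff] at hg
    obtain ⟨⟨z, hz⟩, hns⟩ := hg
    have hz0 : z ≠ 0 := by
      rintro rfl
      have h1 : (1 : F) • ((g * g : GL (Fin n) F) : Matrix (Fin n) (Fin n) F)
          = (0 : F) • ((g * g : GL (Fin n) F) : Matrix (Fin n) (Fin n) F) := by
        rw [one_smul, zero_smul, Units.val_mul, hz, zero_smul]
      exact one_ne_zero (smul_unit_inj hn0 (g * g) h1)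
    by_cases hzsq : IsSquare z
    · obtain ⟨w, hw⟩ := hzsq
      have hw0 : w ≠ 0 := by
        rintro rfl
        rw [mul_zero] at hw
        exact hz0 hw
      have hH : (w⁻¹ • (g : Matrix (Fin n) (Fin n) F))
          * (w⁻¹ • (g : Matrix (Fin n) (Fin n) F)) = 1 := by
        rw [Matrix.smul_mul, Matrix.mul_smul, smul_smul, hz, smul_smul, hw]
        have hww : w⁻¹ * w⁻¹ * (w * w) = 1 := by field_simp
        rw [hww, one_smul]
      have hne1 : w⁻¹ • (g : Matrix (Fin n) (Fin n) F) ≠ 1 := by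
        intro h
        apply hns
        refine ⟨w, ?_⟩
        rw [← h, smul_smul, mul_inv_cancel₀ hw0, one_smul]
      have hne2 : w⁻¹ • (g : Matrix (Fin n) (Fin n) F) ≠ -1 := by
        intro h
        apply hns
        refine ⟨-w, ?_⟩
        have hg' : (g : Matrix (Fin n) (Fin n) F)
            = w • (w⁻¹ • (g : Matrix (Fin n) (Fin n) F)) := by
          rw [smul_smul, mul_inv_cancel₀ hw0, one_smul]
        rw [hg', h, smul_neg, neg_smul]
      obtain ⟨i, hi1, hi2, x, ε, hx⟩ := inv_class h2 _ hH hne1 hne2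
      have hj' : i - 1 < n / 2 := by omega
      have hji : i - 1 + 1 = i := by omega
      refine ⟨i - 1, hNlt _ hj', ?_⟩
      apply conj_of (r (i - 1)) g x (ε * w⁻¹)
      rw [hr _ (hNlt _ hj'), hR, if_pos hj', hji, hx, Matrix.smul_mul, smul_smul]
    · have hEven : Even n := by
        by_contra hodd
        rw [Nat.not_even_iff_odd] at hodd
        obtain ⟨m, hm⟩ := hodd
        apply hzsq
        have hd : (g : Matrix (Fin n) (Fin n) F).det * (g : Matrix (Fin n) (Fin n) F).det
            = z ^ n := by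
          rw [← Matrix.det_mul, hz, Matrix.det_smul, Matrix.det_one, mul_one, Fintype.card_fin]
        have hd' : (g : Matrix (Fin n) (Fin n) F).det * (g : Matrix (Fin n) (Fin n) F).det
            = z ^ (2 * m + 1) := by
          rw [← hm]; exact hd
        have hzm : z ^ m ≠ 0 := pow_ne_zero _ hz0
        refine ⟨(g : Matrix (Fin n) (Fin n) F).det * (z ^ m)⁻¹, ?_⟩
        have e1 : z ^ (2 * m + 1) = z * (z ^ m * z ^ m) := by ring
        calc z = z * (z ^ m * (z ^ m)⁻¹) * (z ^ m * (z ^ m)⁻¹) := by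
              rw [mul_inv_cancel₀ hzm, mul_one, mul_one]
          _ = (z * (z ^ m * z ^ m)) * ((z ^ m)⁻¹ * (z ^ m)⁻¹) := by ring
          _ = ((g : Matrix (Fin n) (Fin n) F).det * (g : Matrix (Fin n) (Fin n) F).det)
                * ((z ^ m)⁻¹ * (z ^ m)⁻¹) := by rw [← e1, ← hd']
          _ = (g : Matrix (Fin n) (Fin n) F).det * (z ^ m)⁻¹
                * ((g : Matrix (Fin n) (Fin n) F).det * (z ^ m)⁻¹) := by ring
      obtain ⟨s, hs⟩ := nonsq_mul μ z hμ hzsq
      have ht : (s * z⁻¹) * (s * z⁻¹) * z = μ := by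
        have e2 : (s * z⁻¹) * (s * z⁻¹) * z = (s * s) * z⁻¹ * (z * z⁻¹) := by ring
        rw [e2, ← hs, mul_inv_cancel₀ hz0, mul_one, mul_inv_cancel_right₀ hz0]
      have hM : ((s * z⁻¹) • (g : Matrix (Fin n) (Fin n) F))
          * ((s * z⁻¹) • (g : Matrix (Fin n) (Fin n) F)) = μ • 1 := by
        rw [Matrix.smul_mul, Matrix.mul_smul, smul_smul, hz, smul_smul, ht]
      obtain ⟨x, hx⟩ := conj_nonsq Bm _ μ hμ (hBm hEven) hM
      have hjN := hNhalf hEven
      refine ⟨n / 2, hjN, ?_⟩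
      apply conj_of (r (n / 2)) g x (s * z⁻¹)
      rw [hr _ hjN, hR, if_neg (lt_irrefl _), hx, Matrix.smul_mul]
  have hbij : Function.Bijective (fun j : Fin N =>
      (⟨ConjClasses.mk (QuotientGroup.mk (r j)), ⟨_, rfl, hord j j.2⟩⟩ :
        {C : ConjClasses (GL (Fin n) F ⧸ Subgroup.center (GL (Fin n) F)) //
          ∃ g : GL (Fin n) F ⧸ Subgroup.center (GL (Fin n) F),
            ConjClasses.mk g = C ∧ orderOf g = 2})) := by
    constructor
    · intro j k hjk
      have h1 : ConjClasses.mk (QuotientGroup.mk (r j) :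
          GL (Fin n) F ⧸ Subgroup.center (GL (Fin n) F))
          = ConjClasses.mk (QuotientGroup.mk (r k)) := congrArg Subtype.val hjk
      exact Fin.ext (hI j k j.2 k.2 (ConjClasses.mk_eq_mk_iff_isConj.1 h1))
    · rintro ⟨C, g', rfl, hg'⟩
      obtain ⟨g, rfl⟩ := QuotientGroup.mk_surjective g'
      obtain ⟨j, hj, hconj⟩ := hS g hg'
      exact ⟨⟨j, hj⟩, Subtype.ext (ConjClasses.mk_eq_mk_iff_isConj.2 hconj)⟩
  rw [← Nat.card_congr (Equiv.ofBijective _ hbij), Nat.card_eq_fintype_card, Fintype.card_fin]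

end Cfsg.Agent.S2577
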