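import Mathlib
import Cfsg.Statements.S2670
import Cfsg.Agent.S2577
-- import your own Cfsg.Agent.* helpers here

set_option autoImplicit false
open Cfsg

namespace Cfsg.Agent.S2670


/-- The projective general linear group. -/
abbrev PG (n : ℕ) (F : Type*) [Field F] : Type _ :=
  GL (Fin n) F ⧸ Subgroup.center (GL (Fin n) F)

/-- The projection to `PG`. -/
abbrev pm {n : ℕ} {F : Type*} [Field F] (g : GL (Fin n) F) : PG n F := QuotientGroup.mk g

section comb

/-- Tuples of eigenvalue multiplicities. -/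
abbrev XT (r n : ℕ) [Fact r.Prime] : Type :=
  {a : ZMod r → ℕ // ∑ j, a j = n ∧ ∀ j, a j < n}

noncomputable instance instFintypeXT (r n : ℕ) [Fact r.Prime] : Fintype (XT r n) :=
  Fintype.ofInjective (fun a : XT r n => fun j => (⟨a.1 j, a.2.2 j⟩ : Fin n)) (by
    intro a b h
    apply Subtype.ext
    funext j
    exact congrArg Fin.val (congrFun h j))

instance instMulActionXT (r n : ℕ) [Fact r.Prime] :
    MulAction (Multiplicative (ZMod r)) (XT r n) where
  smul k a := ⟨fun j => a.1 (j + Multiplicative.toAdd k),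
    ⟨(Fintype.sum_equiv (Equiv.addRight (Multiplicative.toAdd k))
        (fun j => a.1 (j + Multiplicative.toAdd k)) a.1 (fun j => rfl)).trans a.2.1,
     fun j => a.2.2 _⟩⟩
  one_smul a := by
    apply Subtype.ext
    funext j
    show a.1 (j + 0) = a.1 j
    rw [add_zero]
  mul_smul k l a := by
    apply Subtype.ext
    funext j
    show a.1 (j + (Multiplicative.toAdd k + Multiplicative.toAdd l))
      = a.1 (j + Multiplicative.toAdd k + Multiplicative.toAdd l)
    rw [add_assoc]

theorem card_all (r n : ℕ) [Fact r.Prime] :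
    Nat.card {P : ZMod r → ℕ // ∑ j, P j = n} = (n + r - 1).choose (r - 1) := by
  classical
  rw [← Nat.card_congr (Sym.equivNatSumOfFintype (ZMod r) n), Nat.card_eq_fintype_card,
    Sym.card_sym_eq_choose, ZMod.card]
  have hr : 1 ≤ r := (Fact.out : r.Prime).one_lt.le
  have h1 : r + n - 1 = n + (r - 1) := by omega
  have h2 : n + r - 1 = n + (r - 1) := by omega
  rw [h1, h2]
  exact Nat.choose_symm_of_eq_add rfl

theorem card_XT (r n : ℕ) [Fact r.Prime] (hn : 1 ≤ n) :
    Nat.card (XT r n) + r = (n + r - 1).choose (r - 1) := by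
  classical
  rw [← card_all r n]
  have : Finite {P : ZMod r → ℕ // ∑ j, P j = n} :=
    Finite.of_equiv _ (Sym.equivNatSumOfFintype (ZMod r) n)
  have e1 : {P : {P : ZMod r → ℕ // ∑ j, P j = n} // ∀ j, P.1 j < n} ≃ XT r n :=
    Equiv.subtypeSubtypeEquivSubtypeInter (fun P : ZMod r → ℕ => ∑ j, P j = n)
      (fun P => ∀ j, P j < n)
  have hinj : ∀ j j' : ZMod r, (Pi.single j n : ZMod r → ℕ) = Pi.single j' n → j = j' := by
    intro j j' h
    by_contra hne
    have h1 := congrFun h j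
    rw [Pi.single_eq_same, Pi.single_eq_of_ne hne] at h1
    omega
  have hsingle : ∀ j : ZMod r, ∑ i, (Pi.single j n : ZMod r → ℕ) i = n := fun j =>
    Fintype.sum_pi_single' j n
  have hnot : ∀ j : ZMod r, ¬ ∀ i, (Pi.single j n : ZMod r → ℕ) i < n := by
    intro j h
    have h1 := h j
    rw [Pi.single_eq_same] at h1
    omega
  have hbij : Function.Bijective (fun j : ZMod r =>
      (⟨⟨Pi.single j n, hsingle j⟩, hnot j⟩ :
        {P : {P : ZMod r → ℕ // ∑ j, P j = n} // ¬ ∀ j, P.1 j < n})) := by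
    constructor
    · intro j j' h
      exact hinj j j' (congrArg (fun P => P.1.1) h)
    · rintro ⟨⟨P, hP⟩, hPn⟩
      push Not at hPn
      obtain ⟨j, hj⟩ := hPn
      have hj' : n ≤ P j := hj
      have h1 : P j ≤ ∑ i, P i :=
        Finset.single_le_sum (fun _ _ => Nat.zero_le _) (Finset.mem_univ j)
      have h2 := Finset.add_sum_erase Finset.univ P (Finset.mem_univ j)
      have h3 : P = Pi.single j n := by
        funext i
        by_cases hi : i = j
        · rw [hi, Pi.single_eq_same]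
          omega
        · rw [Pi.single_eq_of_ne hi]
          have h4 : P i ≤ ∑ x ∈ Finset.univ.erase j, P x :=
            Finset.single_le_sum (fun _ _ => Nat.zero_le _)
              (Finset.mem_erase.2 ⟨hi, Finset.mem_univ i⟩)
          omega
      exact ⟨j, Subtype.ext (Subtype.ext h3.symm)⟩
  rw [Nat.card_congr (Equiv.sumCompl
      (fun P : {P : ZMod r → ℕ // ∑ j, P j = n} => ∀ j, P.1 j < n)).symm,
    Nat.card_sum, Nat.card_congr e1, ← Nat.card_congr (Equiv.ofBijective _ hbij),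
    Nat.card_eq_fintype_card (α := ZMod r), ZMod.card]

theorem fixed_const (r n : ℕ) [Fact r.Prime] (k : Multiplicative (ZMod r)) (hk : k ≠ 1)
    (a : XT r n) (ha : k • a = a) : ∀ j, a.1 j = a.1 0 := by
  have hκ : Multiplicative.toAdd k ≠ 0 := fun h =>
    hk (Multiplicative.toAdd.injective (h.trans toAdd_one.symm))
  have h1 : ∀ j, a.1 (j + Multiplicative.toAdd k) = a.1 j := fun j =>
    congrFun (congrArg Subtype.val ha) j
  have h2 : ∀ (m : ℕ) (j : ZMod r), a.1 (j + m • Multiplicative.toAdd k) = a.1 j := by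
    intro m
    induction m with
    | zero => intro j; rw [zero_smul, add_zero]
    | succ m ih => intro j; rw [succ_nsmul, ← add_assoc, h1, ih]
  intro j
  have h3 : (j * (Multiplicative.toAdd k)⁻¹).val • Multiplicative.toAdd k = j := by
    rw [nsmul_eq_mul, ZMod.natCast_zmod_val, inv_mul_cancel_right₀ hκ]
  have h4 := h2 (j * (Multiplicative.toAdd k)⁻¹).val 0
  rw [h3, zero_add] at h4
  exact h4

theorem orbit_count (r n : ℕ) [Fact r.Prime] (hn : 2 ≤ n) :
    Nat.card (Quotient (MulAction.orbitRel (Multiplicative (ZMod r)) (XT r n))) * r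
      = Nat.card (XT r n) + (r - 1) * (if r ∣ n then 1 else 0) := by
  classical
  have hr : r.Prime := Fact.out
  have hB := MulAction.sum_card_fixedBy_eq_card_orbits_mul_card_group
    (Multiplicative (ZMod r)) (XT r n)
  rw [Fintype.card_multiplicative, ZMod.card] at hB
  have hfix : ∀ k : Multiplicative (ZMod r), k ≠ 1 →
      Fintype.card (MulAction.fixedBy (XT r n) k) = if r ∣ n then 1 else 0 := by
    intro k hk
    have hsum : ∀ a : XT r n, k • a = a → r * a.1 0 = n := by
      intro a ha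
      have h := a.2.1
      rw [Finset.sum_congr rfl (fun j _ => fixed_const r n k hk a ha j), Finset.sum_const,
        Finset.card_univ, ZMod.card, smul_eq_mul] at h
      exact h
    by_cases hd : r ∣ n
    · rw [if_pos hd, Fintype.card_eq_one_iff]
      obtain ⟨c, hc⟩ := hd
      have hc0 : 0 < c := by
        rcases Nat.eq_zero_or_pos c with h | h
        · rw [h, mul_zero] at hc; omega
        · exact h
      have hcn : c < n := by
        rw [hc]
        calc c < 2 * c := by omega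
          _ ≤ r * c := Nat.mul_le_mul_right c hr.two_le
      have hcsum : ∑ _j : ZMod r, c = n := by
        rw [Finset.sum_const, Finset.card_univ, ZMod.card, smul_eq_mul, hc]
      refine ⟨⟨⟨fun _ => c, ⟨hcsum, fun _ => hcn⟩⟩, ?_⟩, ?_⟩
      · rw [MulAction.mem_fixedBy]
        apply Subtype.ext
        funext j
        rfl
      · rintro ⟨y, hy⟩
        rw [MulAction.mem_fixedBy] at hy
        apply Subtype.ext
        apply Subtype.ext
        funext j
        have h1 := hsum y hy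
        have h2 := fixed_const r n k hk y hy j
        show y.1 j = c
        rw [h2]
        have h3 : r * y.1 0 = r * c := by rw [h1, hc]
        exact Nat.eq_of_mul_eq_mul_left hr.pos h3
    · rw [if_neg hd, Fintype.card_eq_zero_iff]
      constructor
      rintro ⟨y, hy⟩
      rw [MulAction.mem_fixedBy] at hy
      exact hd ⟨y.1 0, (hsum y hy).symm⟩
  have h1 : Fintype.card (MulAction.fixedBy (XT r n) (1 : Multiplicative (ZMod r)))
      = Fintype.card (XT r n) := by
    apply Fintype.card_congr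
    exact ⟨fun x => x.1, fun a => ⟨a, by rw [MulAction.mem_fixedBy, one_smul]⟩,
      fun _ => rfl, fun _ => rfl⟩
  rw [Nat.card_eq_fintype_card, Nat.card_eq_fintype_card, ← hB,
    ← Finset.add_sum_erase Finset.univ _ (Finset.mem_univ (1 : Multiplicative (ZMod r))),
    h1, Finset.sum_congr rfl (fun k hk => hfix k (Finset.ne_of_mem_erase hk)),
    Finset.sum_const, Finset.card_erase_of_mem (Finset.mem_univ _), Finset.card_univ,
    Fintype.card_multiplicative, ZMod.card, smul_eq_mul]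

end comb

section chain
variable {F : Type*} [Field F]

theorem pow_mem_of_inv {V : Type*} [AddCommGroup V] [Module F V] (T : Module.End F V)
    (W : Submodule F V) (hW : ∀ v ∈ W, T v ∈ W) (k : ℕ) : ∀ v ∈ W, (T ^ k) v ∈ W := by
  induction k with
  | zero => intro v hv; simpa using hv
  | succ k ih => intro v hv; rw [pow_succ, Module.End.mul_apply]; exact ih _ (hW v hv)

theorem aeval_mem_of_inv {V : Type*} [AddCommGroup V] [Module F V] (T : Module.End F V)
    (W : Submodule F V) (hW : ∀ v ∈ W, T v ∈ W) (p : Polynomial F) :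
    ∀ v ∈ W, (Polynomial.aeval T p) v ∈ W := by
  intro v hv
  rw [Polynomial.aeval_eq_sum_range, LinearMap.sum_apply]
  apply Submodule.sum_mem
  intro i _
  rw [LinearMap.smul_apply]
  exact W.smul_mem _ (pow_mem_of_inv T W hW i v hv)

theorem cyc {V : Type*} [AddCommGroup V] [Module F V] {r : ℕ} (hr : r.Prime)
    (T : Module.End F V) (z : F) (hT : T ^ r = z • 1) (hz : ∀ b : F, b ^ r ≠ z)
    (W : Submodule F V) (hW : ∀ v ∈ W, T v ∈ W) (u : V) (hu : u ∉ W)
    (c : Fin r → F) (h : ∑ k : Fin r, c k • (T ^ (k : ℕ)) u ∈ W) : ∀ k, c k = 0 := by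
  classical
  by_contra hne
  push Not at hne
  obtain ⟨k₀, hk₀⟩ := hne
  have hirr : Irreducible (Polynomial.X ^ r - Polynomial.C z : Polynomial F) :=
    X_pow_sub_C_irreducible_of_prime hr hz
  obtain ⟨p, hp⟩ : ∃ p : Polynomial F,
      p = ∑ k : Fin r, Polynomial.C (c k) * Polynomial.X ^ (k : ℕ) := ⟨_, rfl⟩
  have hdeg : p.natDegree < r := by
    have h1 : p.natDegree ≤ r - 1 := by
      rw [hp]
      apply Polynomial.natDegree_sum_le_of_forall_le
      intro i _
      exact (Polynomial.natDegree_C_mul_X_pow_le _ _).trans (by have := i.2; omega)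
    have := hr.pos
    omega
  have hcoeff : p.coeff (k₀ : ℕ) = c k₀ := by
    rw [hp, Polynomial.finsetSum_coeff, Finset.sum_eq_single k₀]
    · rw [Polynomial.coeff_C_mul_X_pow, if_pos rfl]
    · intro b _ hb
      rw [Polynomial.coeff_C_mul_X_pow, if_neg]
      intro h'
      exact hb (Fin.ext h'.symm)
    · intro h'
      exact absurd (Finset.mem_univ _) h'
  have hp0 : p ≠ 0 := by
    intro h0
    rw [h0, Polynomial.coeff_zero] at hcoeff
    exact hk₀ hcoeff.symm
  have hnd : ¬ (Polynomial.X ^ r - Polynomial.C z : Polynomial F) ∣ p := by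
    intro hdvd
    have h1 := Polynomial.natDegree_le_of_dvd hdvd hp0
    rw [Polynomial.natDegree_X_pow_sub_C] at h1
    omega
  obtain ⟨a, b, hab⟩ := (hirr.coprime_iff_not_dvd).2 hnd
  have hf0 : Polynomial.aeval T (Polynomial.X ^ r - Polynomial.C z : Polynomial F) = 0 := by
    rw [map_sub, Polynomial.aeval_X_pow, Polynomial.aeval_C, hT,
      Algebra.algebraMap_eq_smul_one, sub_self]
  have hpu : (Polynomial.aeval T p) u = ∑ k : Fin r, c k • (T ^ (k : ℕ)) u := by
    rw [hp, map_sum, LinearMap.sum_apply]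
    apply Finset.sum_congr rfl
    intro k _
    rw [map_mul, Polynomial.aeval_C, Polynomial.aeval_X_pow, Algebra.algebraMap_eq_smul_one,
      smul_mul_assoc, one_mul, LinearMap.smul_apply]
  have h1 := congrArg (fun q => (Polynomial.aeval T q) u) hab
  simp only [map_add, map_mul, hf0, mul_zero, zero_add, map_one, Module.End.mul_apply,
    Module.End.one_apply, LinearMap.add_apply, LinearMap.zero_apply] at h1
  apply hu
  rw [← h1]
  exact aeval_mem_of_inv T W hW b _ (by rw [hpu]; exact h)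

/-- The chain family. -/
def chainF {V : Type*} [AddCommGroup V] [Module F V] (T : Module.End F V) (r : ℕ) {ι : Type}
    (e : ι → V) : Fin r × ι → V := fun x => (T ^ (x.1 : ℕ)) (e x.2)

theorem chain_struct {V : Type*} [AddCommGroup V] [Module F V] [FiniteDimensional F V]
    {r : ℕ} (hr : r.Prime) (T : Module.End F V) (z : F) (hT : T ^ r = z • 1)
    (hz : ∀ b : F, b ^ r ≠ z) :
    ∀ d : ℕ, ∀ (ι : Type) (_ : Fintype ι) (e : ι → V), LinearIndependent F (chainF T r e) →
      Module.finrank F V - Module.finrank F (Submodule.span F (Set.range (chainF T r e))) = d →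
      ∃ (ι' : Type) (_ : Fintype ι') (e' : ι' → V), LinearIndependent F (chainF T r e') ∧
        Submodule.span F (Set.range (chainF T r e')) = ⊤ := by
  intro d
  induction d using Nat.strong_induction_on with
  | _ d ih =>
    intro ι hι e hli hd
    by_cases htop : Submodule.span F (Set.range (chainF T r e)) = ⊤
    · exact ⟨ι, hι, e, hli, htop⟩
    · obtain ⟨W, hWdef⟩ : ∃ W : Submodule F V,
          W = Submodule.span F (Set.range (chainF T r e)) := ⟨_, rfl⟩
      rw [← hWdef] at htop hd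
      have h0 : 0 < r := hr.pos
      have hWinv : ∀ v ∈ W, T v ∈ W := by
        have hle : W ≤ W.comap T := by
          rw [hWdef, Submodule.span_le]
          rintro x ⟨⟨k, i⟩, rfl⟩
          rw [SetLike.mem_coe, Submodule.mem_comap]
          show T ((T ^ (k : ℕ)) (e i)) ∈ _
          rw [← Module.End.mul_apply, ← pow_succ']
          by_cases hk : (k : ℕ) + 1 < r
          · exact Submodule.subset_span ⟨(⟨(k : ℕ) + 1, hk⟩, i), rfl⟩
          · have hk' : (k : ℕ) + 1 = r := by have := k.2; omega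
            rw [hk', hT, LinearMap.smul_apply, Module.End.one_apply]
            exact Submodule.smul_mem _ _ (Submodule.subset_span ⟨(⟨0, h0⟩, i), by
              show (T ^ 0) (e i) = e i
              rw [pow_zero, Module.End.one_apply]⟩)
        exact fun v hv => hle hv
      obtain ⟨u, hu⟩ : ∃ u : V, u ∉ W := by
        by_contra hcon
        push Not at hcon
        exact htop (Submodule.eq_top_iff'.2 hcon)
      have hli2 : LinearIndependent F (chainF T r (fun _ : Unit => u)) := by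
        have h1 : LinearIndependent F (fun k : Fin r => (T ^ (k : ℕ)) u) := by
          rw [Fintype.linearIndependent_iff]
          intro c hc
          have hc' : ∑ k : Fin r, c k • (T ^ (k : ℕ)) u = 0 := hc
          exact cyc hr T z hT hz W hWinv u hu c (by rw [hc']; exact W.zero_mem)
        exact h1.comp (fun x : Fin r × Unit => x.1) Prod.fst_injective
      have hdisj : Disjoint (Submodule.span F (Set.range (chainF T r e)))
          (Submodule.span F (Set.range (chainF T r (fun _ : Unit => u)))) := by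
        rw [← hWdef, Submodule.disjoint_def]
        intro x hxW hx
        rw [Submodule.mem_span_range_iff_exists_fun] at hx
        obtain ⟨c, rfl⟩ := hx
        have h2 : ∑ i : Fin r × Unit, c i • chainF T r (fun _ : Unit => u) i
            = ∑ k : Fin r, c (k, ()) • (T ^ (k : ℕ)) u := by
          rw [Fintype.sum_prod_type]
          apply Finset.sum_congr rfl
          intro k _
          rw [Fintype.sum_unique]
          rfl
        rw [h2] at hxW ⊢
        have h3 := cyc hr T z hT hz W hWinv u hu (fun k => c (k, ())) hxW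
        apply Finset.sum_eq_zero
        intro k _
        rw [h3 k, zero_smul]
      have hli' := hli.sum_type hli2 hdisj
      have hcomp : chainF T r (Sum.elim e (fun _ : Unit => u))
          = Sum.elim (chainF T r e) (chainF T r (fun _ : Unit => u))
            ∘ (Equiv.prodSumDistrib (Fin r) ι Unit) := by
        funext x
        rcases x with ⟨k, (i | i)⟩ <;> rfl
      have hspan : Submodule.span F (Set.range (chainF T r (Sum.elim e (fun _ : Unit => u))))
          = W ⊔ Submodule.span F (Set.range (chainF T r (fun _ : Unit => u))) := by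
        rw [hcomp, (Equiv.prodSumDistrib (Fin r) ι Unit).surjective.range_comp,
          Set.Sum.elim_range, Submodule.span_union, ← hWdef]
      have hlt : W < Submodule.span F
          (Set.range (chainF T r (Sum.elim e (fun _ : Unit => u)))) := by
        rw [hspan]
        refine lt_of_le_of_ne le_sup_left ?_
        intro heq
        apply hu
        rw [heq]
        apply Submodule.mem_sup_right
        exact Submodule.subset_span ⟨(⟨0, h0⟩, ()), by
          show (T ^ 0) u = u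
          rw [pow_zero, Module.End.one_apply]⟩
      have hfr := Submodule.finrank_lt_finrank_of_lt hlt
      have hle := Submodule.finrank_le
        (Submodule.span F (Set.range (chainF T r (Sum.elim e (fun _ : Unit => u)))))
      refine ih _ ?_ (ι ⊕ Unit) inferInstance (Sum.elim e (fun _ : Unit => u)) ?_ rfl
      · omega
      · rw [hcomp]
        exact hli'.comp _ (Equiv.prodSumDistrib (Fin r) ι Unit).injective

theorem chain_basis {V : Type*} [AddCommGroup V] [Module F V] [FiniteDimensional F V]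
    {r : ℕ} (hr : r.Prime) (T : Module.End F V) (z : F) (hT : T ^ r = z • 1)
    (hz : ∀ b : F, b ^ r ≠ z) :
    ∃ (ι : Type) (_ : Fintype ι) (e : ι → V) (B : Module.Basis (Fin r × ι) F V),
      ∀ x, B x = (T ^ (x.1 : ℕ)) (e x.2) := by
  obtain ⟨ι, hι, e, hli, hsp⟩ := chain_struct hr T z hT hz _ Empty inferInstance
    (fun i => i.elim) linearIndependent_empty_type rfl
  exact ⟨ι, hι, e, Module.Basis.mk hli hsp.ge, fun x => Module.Basis.mk_apply hli hsp.ge x⟩

theorem conj_rth {n r : ℕ} (hr : r.Prime) (M M' : Matrix (Fin n) (Fin n) F) (z : F)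
    (hz : ∀ b : F, b ^ r ≠ z) (hM : M ^ r = z • 1) (hM' : M' ^ r = z • 1) :
    ∃ x : GL (Fin n) F,
      (x : Matrix (Fin n) (Fin n) F) * M = M' * (x : Matrix (Fin n) (Fin n) F) := by
  have hT : ∀ A : Matrix (Fin n) (Fin n) F, A ^ r = z • 1 →
      (Matrix.toLin' A) ^ r = z • 1 := by
    intro A hA
    have h1 : Matrix.toLin' (A ^ r) = Matrix.toLin' (z • (1 : Matrix (Fin n) (Fin n) F)) := by
      rw [hA]
    rw [Matrix.toLin'_pow, map_smul, Matrix.toLin'_one] at h1
    exact h1
  obtain ⟨ι, hι, e, B, hB⟩ := chain_basis hr (Matrix.toLin' M) z (hT M hM) hz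
  obtain ⟨ι', hι', e', B', hB'⟩ := chain_basis hr (Matrix.toLin' M') z (hT M' hM') hz
  have h0 : 0 < r := hr.pos
  have hcard : Fintype.card ι = Fintype.card ι' := by
    have h1 := Module.finrank_eq_card_basis B
    have h2 := Module.finrank_eq_card_basis B'
    rw [Fintype.card_prod, Fintype.card_fin] at h1 h2
    exact Nat.eq_of_mul_eq_mul_left h0 (h1.symm.trans h2)
  obtain ⟨ε⟩ : Nonempty (ι ≃ ι') := ⟨Fintype.equivOfCardEq hcard⟩
  obtain ⟨φ, hφ⟩ : ∃ φ : (Fin n → F) ≃ₗ[F] (Fin n → F),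
      ∀ x, φ (B x) = B' (x.1, ε x.2) :=
    ⟨B.equiv B' (Equiv.prodCongr (Equiv.refl _) ε), fun x => Module.Basis.equiv_apply _ _ _ _⟩
  have hφ0 : ∀ i, φ (e i) = e' (ε i) := by
    intro i
    have h := hφ (⟨0, h0⟩, i)
    rw [hB, hB'] at h
    simpa using h
  have hk : ∀ (k : ℕ), k ≤ r → ∀ i,
      φ ((Matrix.toLin' M ^ k) (e i)) = (Matrix.toLin' M' ^ k) (e' (ε i)) := by
    intro k hkr i
    rcases Nat.lt_or_ge k r with hlt | hge
    · have h1 := hφ (⟨k, hlt⟩, i)
      rw [hB, hB'] at h1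
      exact h1
    · have hkr' : k = r := le_antisymm hkr hge
      rw [hkr', hT M hM, hT M' hM', LinearMap.smul_apply, LinearMap.smul_apply,
        Module.End.one_apply, Module.End.one_apply, map_smul, hφ0]
  have key : (φ : (Fin n → F) →ₗ[F] (Fin n → F)) ∘ₗ Matrix.toLin' M
      = Matrix.toLin' M' ∘ₗ (φ : (Fin n → F) →ₗ[F] (Fin n → F)) := by
    apply B.ext
    rintro ⟨k, i⟩
    simp only [LinearMap.comp_apply, LinearEquiv.coe_coe]
    rw [hB]
    show φ (Matrix.toLin' M ((Matrix.toLin' M ^ (k : ℕ)) (e i)))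
      = Matrix.toLin' M' (φ ((Matrix.toLin' M ^ (k : ℕ)) (e i)))
    have e1 : Matrix.toLin' M ((Matrix.toLin' M ^ (k : ℕ)) (e i))
        = (Matrix.toLin' M ^ ((k : ℕ) + 1)) (e i) := by
      rw [pow_succ', Module.End.mul_apply]
    have e2 : Matrix.toLin' M' ((Matrix.toLin' M' ^ (k : ℕ)) (e' (ε i)))
        = (Matrix.toLin' M' ^ ((k : ℕ) + 1)) (e' (ε i)) := by
      rw [pow_succ', Module.End.mul_apply]
    rw [hk k k.2.le i, e1, hk (k + 1) k.2 i, e2]
  exact S2577.conj_of_equiv M M' φ (fun v => LinearMap.congr_fun key v)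

/-- The weighted shift map. -/
def shiftMap (F : Type*) [Field F] (m r : ℕ) (z : F) :
    Module.End F (Fin m × ZMod r → F) where
  toFun v := fun x => (if x.2 = 0 then z else 1) * v (x.1, x.2 - 1)
  map_add' v w := by
    funext x
    simp only [Pi.add_apply]
    ring
  map_smul' c v := by
    funext x
    simp only [Pi.smul_apply, smul_eq_mul, RingHom.id_apply]
    ring

theorem shiftMap_pow (m r : ℕ) (z : F) (j : ℕ) :
    ∀ (v : Fin m × ZMod r → F) (x : Fin m × ZMod r),
      ((shiftMap F m r z) ^ j) v x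
        = (∏ l ∈ Finset.range j, (if x.2 - (l : ZMod r) = 0 then z else 1))
          * v (x.1, x.2 - (j : ZMod r)) := by
  induction j with
  | zero => intro v x; simp
  | succ j ih =>
    intro v x
    rw [pow_succ', Module.End.mul_apply]
    show (if x.2 = 0 then z else 1) * ((shiftMap F m r z) ^ j) v (x.1, x.2 - 1) = _
    rw [ih, Finset.prod_range_succ']
    simp only [Nat.cast_add, Nat.cast_one, Nat.cast_zero, sub_zero]
    have h1 : ∀ l : ℕ, x.2 - 1 - (l : ZMod r) = x.2 - ((l : ZMod r) + 1) := fun l => by ring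
    simp only [h1]
    ring

theorem shiftMap_pow_r (m r : ℕ) [Fact r.Prime] (z : F) :
    (shiftMap F m r z) ^ r = z • 1 := by
  apply LinearMap.ext
  intro v
  funext x
  rw [shiftMap_pow, LinearMap.smul_apply, Module.End.one_apply, Pi.smul_apply, smul_eq_mul,
    ZMod.natCast_self, sub_zero]
  congr 1
  rw [Finset.prod_eq_single x.2.val]
  · rw [ZMod.natCast_zmod_val, sub_self, if_pos rfl]
  · intro l hl hne
    rw [if_neg]
    intro h
    apply hne
    have h' : x.2 = (l : ZMod r) := sub_eq_zero.1 h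
    rw [h', ZMod.val_natCast, Nat.mod_eq_of_lt (Finset.mem_range.1 hl)]
  · intro h
    exact absurd (Finset.mem_range.2 (ZMod.val_lt x.2)) h

theorem exists_rth {n r : ℕ} [Fact r.Prime] (hrn : r ∣ n) (z : F) :
    ∃ B : Matrix (Fin n) (Fin n) F, B ^ r = z • 1 := by
  classical
  obtain ⟨m, hm⟩ := hrn
  have hcard : Fintype.card (Fin m × ZMod r) = Fintype.card (Fin n) := by
    rw [Fintype.card_prod, Fintype.card_fin, ZMod.card, Fintype.card_fin, hm, mul_comm]
  obtain ⟨ε⟩ : Nonempty (Fin m × ZMod r ≃ Fin n) := ⟨Fintype.equivOfCardEq hcard⟩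
  refine ⟨Matrix.reindexAlgEquiv F F ε (LinearMap.toMatrixAlgEquiv' (shiftMap F m r z)), ?_⟩
  rw [← map_pow, ← map_pow, shiftMap_pow_r, map_smul, map_smul, map_one, map_one]

end chain

section eig
variable {F : Type*} [Field F]

theorem eig_vec {V : Type*} [AddCommGroup V] [Module F V] {r : ℕ} (T : Module.End F V)
    (hT : T ^ r = 1) (ω : F) (hω : ω ^ r = 1) (v : V) :
    ω • T (∑ k ∈ Finset.range r, ω ^ k • (T ^ k) v)
      = ∑ k ∈ Finset.range r, ω ^ k • (T ^ k) v := by
  rw [map_sum, Finset.smul_sum]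
  have h2 : ∀ k, ω • T (ω ^ k • (T ^ k) v) = ω ^ (k + 1) • (T ^ (k + 1)) v := by
    intro k
    rw [map_smul, smul_smul, ← pow_succ', pow_succ' T, Module.End.mul_apply]
  rw [Finset.sum_congr rfl (fun k _ => h2 k)]
  have h3 := Finset.sum_range_succ' (fun k => ω ^ k • (T ^ k) v) r
  have h4 := Finset.sum_range_succ (fun k => ω ^ k • (T ^ k) v) r
  rw [h4] at h3
  simp only [hT, hω, pow_zero, one_smul, Module.End.one_apply] at h3
  exact (add_right_cancel h3).symm

theorem eig_sup {V : Type*} [AddCommGroup V] [Module F V] {r : ℕ} (hr : r.Prime)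
    (T : Module.End F V) (hT : T ^ r = 1) (ζ : F) (hζ : orderOf ζ = r) (hrF : (r : F) ≠ 0)
    (S : Submodule F V) (hS : ∀ ω : F, ω ^ r = 1 → Module.End.eigenspace T ω ≤ S) : S = ⊤ := by
  rw [Submodule.eq_top_iff']
  intro v
  have hζr : ζ ^ r = 1 := by rw [← hζ]; exact pow_orderOf_eq_one ζ
  have hu : ∀ i : ℕ, ∑ k ∈ Finset.range r, (ζ ^ i) ^ k • (T ^ k) v ∈ S := by
    intro i
    have hωr : (ζ ^ i) ^ r = 1 := by rw [← pow_mul, mul_comm, pow_mul, hζr, one_pow]
    have hω0 : ζ ^ i ≠ 0 := by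
      intro h0
      rw [h0, zero_pow hr.pos.ne'] at hωr
      exact zero_ne_one hωr
    apply hS (ζ ^ i)⁻¹ (by rw [inv_pow, hωr, inv_one])
    rw [Module.End.mem_eigenspace_iff]
    have h1 := eig_vec T hT (ζ ^ i) hωr v
    conv_rhs => rw [← h1]
    rw [smul_smul, inv_mul_cancel₀ hω0, one_smul]
  have hsum : ∑ i ∈ Finset.range r, ∑ k ∈ Finset.range r, (ζ ^ i) ^ k • (T ^ k) v
      = (r : F) • v := by
    rw [Finset.sum_comm]
    rw [Finset.sum_eq_single 0]
    · simp only [pow_zero, one_smul, Module.End.one_apply, Finset.sum_const, Finset.card_range]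
      exact (Nat.cast_smul_eq_nsmul F r v).symm
    · intro k hk hk0
      rw [← Finset.sum_smul]
      have h1 : ∑ i ∈ Finset.range r, (ζ ^ i) ^ k = ∑ i ∈ Finset.range r, (ζ ^ k) ^ i :=
        Finset.sum_congr rfl (fun i _ => by rw [← pow_mul, ← pow_mul, mul_comm])
      have h2 : ζ ^ k ≠ 1 :=
        pow_ne_one_of_lt_orderOf hk0 (by rw [hζ]; exact Finset.mem_range.1 hk)
      have h4 : (ζ ^ k) ^ r = 1 := by rw [← pow_mul, mul_comm, pow_mul, hζr, one_pow]
      have h3 := geom_sum_mul (ζ ^ k) r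
      rw [h4, sub_self] at h3
      rcases mul_eq_zero.1 h3 with h | h
      · rw [h1, h, zero_smul]
      · exact absurd (sub_eq_zero.1 h) h2
    · intro h
      exact absurd (Finset.mem_range.2 hr.pos) h
  have hv : v = (r : F)⁻¹ • ∑ i ∈ Finset.range r, ∑ k ∈ Finset.range r,
      (ζ ^ i) ^ k • (T ^ k) v := by
    rw [hsum, smul_smul, inv_mul_cancel₀ hrF, one_smul]
  rw [hv]
  exact S.smul_mem _ (S.sum_mem (fun i _ => hu i))

theorem eig_eq {n : ℕ} (H : Matrix (Fin n) (Fin n) F) (μ : F) :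
    Module.End.eigenspace (Matrix.toLin' H) μ = LinearMap.ker (Matrix.toLin' (H - μ • 1)) := by
  ext v
  rw [Module.End.mem_eigenspace_iff, LinearMap.mem_ker, Matrix.toLin'_apply, Matrix.toLin'_apply,
    Matrix.sub_mulVec, Matrix.smul_mulVec, Matrix.one_mulVec, sub_eq_zero]

theorem fr_eig {n : ℕ} (H : Matrix (Fin n) (Fin n) F) (μ : F) :
    Module.finrank F (Module.End.eigenspace (Matrix.toLin' H) μ) = n - (H - μ • 1).rank := by
  rw [eig_eq, S2577.finrank_ker_eq]

theorem pow_inj_lt (ζ : F) {R : ℕ} (hζ : orderOf ζ = R) (hζ0 : ζ ≠ 0) :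
    ∀ a b : ℕ, a < R → b < R → ζ ^ a = ζ ^ b → a = b := by
  have key : ∀ a b : ℕ, a < b → b < R → ζ ^ a ≠ ζ ^ b := by
    intro a b hab hb h
    have h1 : ζ ^ b = ζ ^ a * ζ ^ (b - a) := by
      rw [← pow_add]
      congr 1
      omega
    have h2 : ζ ^ (b - a) = 1 := by
      apply mul_left_cancel₀ (pow_ne_zero a hζ0)
      rw [← h1, mul_one, h]
    exact pow_ne_one_of_lt_orderOf (by omega) (by rw [hζ]; omega) h2
  intro a b ha hb h
  rcases Nat.lt_trichotomy a b with hab | hab | hab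
  · exact absurd h (key a b hab hb)
  · exact hab
  · exact absurd h.symm (key b a hab ha)

/-- `ζ ^ j` for `j : ZMod r`. -/
def zp (ζ : F) {r : ℕ} (j : ZMod r) : F := ζ ^ j.val

theorem zp_add (ζ : F) {r : ℕ} [Fact r.Prime] (hζr : ζ ^ r = 1) (i j : ZMod r) :
    zp ζ (i + j) = zp ζ i * zp ζ j := by
  show ζ ^ (i + j).val = ζ ^ i.val * ζ ^ j.val
  rw [ZMod.val_add, ← pow_add, ← pow_eq_pow_mod _ hζr]

theorem zp_pow (ζ : F) {r : ℕ} (hζr : ζ ^ r = 1) (j : ZMod r) : zp ζ j ^ r = 1 := by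
  show (ζ ^ j.val) ^ r = 1
  rw [← pow_mul, mul_comm, pow_mul, hζr, one_pow]

theorem zp_ne_zero (ζ : F) {r : ℕ} (hr : 0 < r) (hζr : ζ ^ r = 1) (j : ZMod r) :
    zp ζ j ≠ 0 := by
  show ζ ^ j.val ≠ 0
  apply pow_ne_zero
  rintro rfl
  rw [zero_pow hr.ne'] at hζr
  exact zero_ne_one hζr

theorem zp_inj (ζ : F) {r : ℕ} [Fact r.Prime] (hζ : orderOf ζ = r) :
    Function.Injective (zp ζ : ZMod r → F) := by
  have hr : r.Prime := Fact.out
  have hζ0 : ζ ≠ 0 := by
    rintro rfl
    have h := pow_orderOf_eq_one (0 : F)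
    rw [hζ, zero_pow hr.ne_zero] at h
    exact zero_ne_one h
  intro i j h
  apply ZMod.val_injective r
  exact pow_inj_lt ζ hζ hζ0 _ _ (ZMod.val_lt i) (ZMod.val_lt j) h

theorem zp_surj (ζ : F) {r : ℕ} [Fact r.Prime] (hζ : orderOf ζ = r) (ω : F) (hω : ω ^ r = 1) :
    ∃ j : ZMod r, zp ζ j = ω := by
  obtain ⟨i, hi, rfl⟩ := (IsPrimitiveRoot.iff_orderOf.2 hζ).eq_pow_of_pow_eq_one hω
  refine ⟨(i : ZMod r), ?_⟩
  show ζ ^ ((i : ZMod r)).val = ζ ^ i
  rw [ZMod.val_natCast, Nat.mod_eq_of_lt hi]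

theorem decomp {n r : ℕ} [Fact r.Prime] (ζ : F) (hζ : orderOf ζ = r) (hrF : (r : F) ≠ 0)
    (H : Matrix (Fin n) (Fin n) F) (hH : H ^ r = 1) :
    DirectSum.IsInternal
      (fun j : ZMod r => Module.End.eigenspace (Matrix.toLin' H) (zp ζ j)) := by
  classical
  have hr : r.Prime := Fact.out
  have hT : (Matrix.toLin' H) ^ r = 1 := by
    have h1 : Matrix.toLin' (H ^ r) = Matrix.toLin' (1 : Matrix (Fin n) (Fin n) F) := by
      rw [hH]
    rw [Matrix.toLin'_pow, Matrix.toLin'_one] at h1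
    exact h1
  apply DirectSum.isInternal_submodule_of_iSupIndep_of_iSup_eq_top
  · exact (Module.End.eigenspaces_iSupIndep (Matrix.toLin' H)).comp (zp_inj ζ hζ)
  · apply eig_sup hr (Matrix.toLin' H) hT ζ hζ hrF
    intro ω hω
    obtain ⟨j, rfl⟩ := zp_surj ζ hζ ω hω
    exact le_iSup (fun j : ZMod r => Module.End.eigenspace (Matrix.toLin' H) (zp ζ j)) j

theorem sum_mult {n r : ℕ} [Fact r.Prime] (ζ : F) (hζ : orderOf ζ = r) (hrF : (r : F) ≠ 0)
    (H : Matrix (Fin n) (Fin n) F) (hH : H ^ r = 1) :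
    ∑ j : ZMod r, (n - (H - zp ζ j • 1).rank) = n := by
  classical
  have hint := decomp ζ hζ hrF H hH
  have hB := Module.finrank_eq_card_basis (hint.collectedBasis (fun j : ZMod r =>
    Module.finBasisOfFinrankEq F (Module.End.eigenspace (Matrix.toLin' H) (zp ζ j))
      (fr_eig H (zp ζ j))))
  rw [Module.finrank_fin_fun, Fintype.card_sigma] at hB
  simp only [Fintype.card_fin] at hB
  exact hB.symm

theorem conj_mult {n r : ℕ} [Fact r.Prime] (ζ : F) (hζ : orderOf ζ = r) (hrF : (r : F) ≠ 0)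
    (H H' : Matrix (Fin n) (Fin n) F) (hH : H ^ r = 1) (hH' : H' ^ r = 1)
    (hm : ∀ j : ZMod r, (H - zp ζ j • 1).rank = (H' - zp ζ j • 1).rank) :
    ∃ x : GL (Fin n) F,
      (x : Matrix (Fin n) (Fin n) F) * H = H' * (x : Matrix (Fin n) (Fin n) F) := by
  classical
  have hint := decomp ζ hζ hrF H hH
  have hint' := decomp ζ hζ hrF H' hH'
  have hfr' : ∀ j : ZMod r,
      Module.finrank F (Module.End.eigenspace (Matrix.toLin' H') (zp ζ j))
        = n - (H - zp ζ j • 1).rank := fun j => by rw [fr_eig, hm j]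
  obtain ⟨v, -⟩ : ∃ _v : (j : ZMod r) → Module.Basis (Fin (n - (H - zp ζ j • 1).rank)) F
      (Module.End.eigenspace (Matrix.toLin' H) (zp ζ j)), True :=
    ⟨fun j => Module.finBasisOfFinrankEq F
      (Module.End.eigenspace (Matrix.toLin' H) (zp ζ j)) (fr_eig H (zp ζ j)), trivial⟩
  obtain ⟨v', -⟩ : ∃ _v : (j : ZMod r) → Module.Basis (Fin (n - (H - zp ζ j • 1).rank)) F
      (Module.End.eigenspace (Matrix.toLin' H') (zp ζ j)), True :=
    ⟨fun j => Module.finBasisOfFinrankEq F
      (Module.End.eigenspace (Matrix.toLin' H') (zp ζ j)) (hfr' j), trivial⟩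
  obtain ⟨B, hBdef⟩ : ∃ B, B = hint.collectedBasis v := ⟨_, rfl⟩
  obtain ⟨B', hB'def⟩ : ∃ B', B' = hint'.collectedBasis v' := ⟨_, rfl⟩
  have hB : ∀ x, B x ∈ Module.End.eigenspace (Matrix.toLin' H) (zp ζ x.1) := fun x => by
    rw [hBdef]
    exact hint.collectedBasis_mem v x
  have hB' : ∀ x, B' x ∈ Module.End.eigenspace (Matrix.toLin' H') (zp ζ x.1) := fun x => by
    rw [hB'def]
    exact hint'.collectedBasis_mem v' x
  obtain ⟨φ, hφ⟩ : ∃ φ : (Fin n → F) ≃ₗ[F] (Fin n → F), ∀ x, φ (B x) = B' x :=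
    ⟨B.equiv B' (Equiv.refl _), fun x => Module.Basis.equiv_apply _ _ _ _⟩
  have key : (φ : (Fin n → F) →ₗ[F] (Fin n → F)) ∘ₗ Matrix.toLin' H
      = Matrix.toLin' H' ∘ₗ (φ : (Fin n → F) →ₗ[F] (Fin n → F)) := by
    apply B.ext
    intro x
    have h1 : Matrix.toLin' H (B x) = zp ζ x.1 • B x := Module.End.mem_eigenspace_iff.1 (hB x)
    have h2 : Matrix.toLin' H' (B' x) = zp ζ x.1 • B' x :=
      Module.End.mem_eigenspace_iff.1 (hB' x)
    show φ (Matrix.toLin' H (B x)) = Matrix.toLin' H' (φ (B x))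
    rw [h1, map_smul, hφ, h2]
  exact S2577.conj_of_equiv H H' φ (fun v => LinearMap.congr_fun key v)

theorem exists_lab {n r : ℕ} [Fact r.Prime] (a : ZMod r → ℕ) (ha : ∑ j, a j = n) :
    ∃ lab : Fin n → ZMod r, ∀ j, Nat.card {i : Fin n // lab i = j} = a j := by
  have hcard : Fintype.card (Σ j : ZMod r, Fin (a j)) = Fintype.card (Fin n) := by
    rw [Fintype.card_sigma, Fintype.card_fin]
    simp only [Fintype.card_fin]
    exact ha
  obtain ⟨e⟩ : Nonempty ((Σ j : ZMod r, Fin (a j)) ≃ Fin n) := ⟨Fintype.equivOfCardEq hcard⟩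
  refine ⟨fun i => (e.symm i).1, fun j => ?_⟩
  rw [Nat.card_congr ((e.symm.subtypeEquiv (fun i => Iff.rfl)).trans (Equiv.sigmaSubtype j)),
    Nat.card_eq_fintype_card, Fintype.card_fin]

theorem rank_diag {n r : ℕ} [Fact r.Prime] (ζ : F) (hζ : orderOf ζ = r)
    (lab : Fin n → ZMod r) (j : ZMod r) :
    (Matrix.diagonal (fun i => zp ζ (lab i)) - zp ζ j • (1 : Matrix (Fin n) (Fin n) F)).rank
      = n - Nat.card {i : Fin n // lab i = j} := by
  classical
  have h1 : Matrix.diagonal (fun i => zp ζ (lab i)) - zp ζ j • (1 : Matrix (Fin n) (Fin n) F)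
      = Matrix.diagonal (fun i => zp ζ (lab i) - zp ζ j) := by
    rw [Matrix.smul_one_eq_diagonal, Matrix.diagonal_sub]
  rw [h1, Matrix.rank_diagonal, ← Nat.card_eq_fintype_card]
  have e : {i : Fin n // zp ζ (lab i) - zp ζ j ≠ 0} ≃ {i : Fin n // ¬ lab i = j} :=
    Equiv.subtypeEquivRight (fun i => by
      rw [ne_eq, sub_eq_zero]
      exact not_congr ⟨fun h => zp_inj ζ hζ h, fun h => by rw [h]⟩)
  have h2 : Nat.card {i : Fin n // ¬ lab i = j} = n - Nat.card {i : Fin n // lab i = j} := by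
    rw [Nat.card_eq_fintype_card, Nat.card_eq_fintype_card, Fintype.card_subtype_compl,
      Fintype.card_fin]
  rw [Nat.card_congr e, h2]

theorem diag_pow {n r : ℕ} (ζ : F) (hζr : ζ ^ r = 1) (lab : Fin n → ZMod r) :
    (Matrix.diagonal (fun i => zp ζ (lab i)) : Matrix (Fin n) (Fin n) F) ^ r = 1 := by
  rw [Matrix.diagonal_pow, ← Matrix.diagonal_one]
  congr 1
  funext i
  show (ζ ^ (lab i).val) ^ r = 1
  rw [← pow_mul, mul_comm, pow_mul, hζr, one_pow]

theorem rank_smul' {n : ℕ} (c : F) (hc : c ≠ 0) (A : Matrix (Fin n) (Fin n) F) :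
    (c • A).rank = A.rank := by
  have h1 : c • A = A * (c • (1 : Matrix (Fin n) (Fin n) F)) := by
    rw [Matrix.mul_smul, Matrix.mul_one]
  rw [h1]
  apply Matrix.rank_mul_eq_left_of_isUnit_det
  rw [Matrix.det_smul, Matrix.det_one, mul_one]
  exact (isUnit_iff_ne_zero.2 hc).pow _

theorem order_r_iff {n r : ℕ} [Fact r.Prime] (g : GL (Fin n) F) :
    orderOf (pm g) = r ↔
      (∃ z : F, (g : Matrix (Fin n) (Fin n) F) ^ r = z • 1) ∧
        ¬ ∃ c : F, (g : Matrix (Fin n) (Fin n) F) = c • 1 := by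
  rw [orderOf_eq_prime_iff]
  have h1 : (pm g) ^ r = pm (g ^ r) := (QuotientGroup.mk_pow _ g r).symm
  rw [h1, QuotientGroup.eq_one_iff, S2577.mem_center_iff', Units.val_pow_eq_pow_val]
  rw [ne_eq, QuotientGroup.eq_one_iff, S2577.mem_center_iff']

theorem scal_rel_r {n : ℕ} (hn : 0 < n) (r : ℕ) (x : GL (Fin n) F)
    (A B : Matrix (Fin n) (Fin n) F) (a b c : F) (hA : A ^ r = a • 1) (hB : B ^ r = b • 1)
    (h : c • ((x : Matrix (Fin n) (Fin n) F) * A) = B * x) : c ^ r * a = b := by
  have hk : ∀ k : ℕ, B ^ k * (x : Matrix (Fin n) (Fin n) F)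
      = c ^ k • ((x : Matrix (Fin n) (Fin n) F) * A ^ k) := by
    intro k
    induction k with
    | zero => simp
    | succ k ih =>
      calc B ^ (k + 1) * (x : Matrix (Fin n) (Fin n) F) = B ^ k * (B * x) := by
            rw [pow_succ, Matrix.mul_assoc]
        _ = B ^ k * (c • ((x : Matrix (Fin n) (Fin n) F) * A)) := by rw [h]
        _ = c • ((B ^ k * x) * A) := by rw [Matrix.mul_smul, ← Matrix.mul_assoc]
        _ = c • ((c ^ k • ((x : Matrix (Fin n) (Fin n) F) * A ^ k)) * A) := by rw [ih]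
        _ = c ^ (k + 1) • ((x : Matrix (Fin n) (Fin n) F) * A ^ (k + 1)) := by
          rw [Matrix.smul_mul, smul_smul, Matrix.mul_assoc, ← pow_succ, ← pow_succ']
  apply S2577.smul_unit_inj hn x
  have h1 := hk r
  rw [hB, hA, Matrix.smul_mul, Matrix.one_mul, Matrix.mul_smul, Matrix.mul_one, smul_smul] at h1
  exact h1.symm

theorem exists_unit {n r : ℕ} (hr : 0 < r) (A : Matrix (Fin n) (Fin n) F) (s : F) (hs : s ≠ 0)
    (hA : A ^ r = s • 1) : ∃ x : GL (Fin n) F, (x : Matrix (Fin n) (Fin n) F) = A := by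
  have h1 : A * A ^ (r - 1) = s • 1 := by rw [← pow_succ', Nat.sub_add_cancel hr, hA]
  have h2 : A ^ (r - 1) * A = s • 1 := by rw [← pow_succ, Nat.sub_add_cancel hr, hA]
  exact ⟨⟨A, s⁻¹ • A ^ (r - 1),
    by rw [Matrix.mul_smul, h1, smul_smul, inv_mul_cancel₀ hs, one_smul],
    by rw [Matrix.smul_mul, h2, smul_smul, inv_mul_cancel₀ hs, one_smul]⟩, rfl⟩

theorem exists_gen (F : Type*) [Field F] [Fintype F] :
    ∃ γ : F, γ ≠ 0 ∧ orderOf γ = Fintype.card F - 1 ∧ ∀ z : F, z ≠ 0 → ∃ s : ℕ, γ ^ s = z := by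
  classical
  obtain ⟨γu, hγu⟩ := IsCyclic.exists_monoid_generator (α := Fˣ)
  have hz' : ∀ y : Fˣ, y ∈ Subgroup.zpowers γu := by
    intro y
    obtain ⟨s, hs⟩ := (Submonoid.mem_powers_iff y γu).1 (hγu y)
    exact Subgroup.mem_zpowers_iff.2 ⟨(s : ℤ), by rw [zpow_natCast]; exact hs⟩
  refine ⟨(γu : F), γu.ne_zero, ?_, ?_⟩
  · rw [orderOf_units, orderOf_eq_card_of_forall_mem_zpowers hz', Nat.card_units,
      Nat.card_eq_fintype_card]
  · intro z hz
    obtain ⟨s, hs⟩ := (Submonoid.mem_powers_iff (Units.mk0 z hz) γu).1 (hγu (Units.mk0 z hz))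
    refine ⟨s, ?_⟩
    have h := congrArg Units.val hs
    simpa using h

end eig


/-- Number of conjugacy classes of elements of prime order r in PGL_n(q) = GL_n(q)/scalars when r divides q − 1 (n ≥ 2): the classes of elements with a diagonalisable lift correspond to the orbits of the cyclic rotation on the r-tuples of eigenvalue multiplicities (a_0, …, a_(r−1)) summing to n with every a_j < n, and when r divides n there are r − 1 further classes (lifts acting irreducibly on blocks of size r); in all (C(n+r−1, r−1) − r − [r ∣ n])/r + r·[r ∣ n] classes. -/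
theorem result {F : Type*} [Field F] [Fintype F] {q : ℕ} (hF : Fintype.card F = q) {n r : ℕ} (hn : 2 ≤ n) (hr : r.Prime) (hrq : r ∣ q - 1) : Nat.card {C : ConjClasses (GL (Fin n) F ⧸ Subgroup.center (GL (Fin n) F)) // ∃ g : GL (Fin n) F ⧸ Subgroup.center (GL (Fin n) F), ConjClasses.mk g = C ∧ orderOf g = r} = (Nat.choose (n + r - 1) (r - 1) - r - (if r ∣ n then 1 else 0)) / r + r * (if r ∣ n then 1 else 0) := by
  classical
  have hfact : Fact r.Prime := ⟨hr⟩
  have hn0 : 0 < n := by omega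
  have hr2 : 2 ≤ r := hr.two_le
  obtain ⟨γ, hγ0, hγord, hγgen⟩ := exists_gen F
  rw [hF] at hγord
  obtain ⟨N, hN⟩ := hrq
  have hq2 : 2 ≤ q := by rw [← hF]; exact Fintype.one_lt_card
  have hN0 : 0 < N := by
    rcases Nat.eq_zero_or_pos N with h | h
    · rw [h, mul_zero] at hN; omega
    · exact h
  have hγord' : orderOf γ = r * N := hγord.trans hN
  have hγq : γ ^ (r * N) = 1 := by rw [← hγord']; exact pow_orderOf_eq_one γ
  obtain ⟨ζ, hζdef⟩ : ∃ ζ : F, ζ = γ ^ N := ⟨_, rfl⟩
  have hζr : ζ ^ r = 1 := by rw [hζdef, ← pow_mul, mul_comm]; exact hγq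
  have hζ1 : ζ ≠ 1 := by
    rw [hζdef]
    apply pow_ne_one_of_lt_orderOf hN0.ne'
    rw [hγord']
    calc N < 2 * N := by omega
      _ ≤ r * N := Nat.mul_le_mul_right N hr2
  have hζ : orderOf ζ = r := orderOf_eq_prime hζr hζ1
  have hrF : (r : F) ≠ 0 := by
    intro h0
    have h1 : ((q : ℕ) : F) = 0 := by rw [← hF]; exact Nat.cast_card_eq_zero F
    have h2 : q = r * N + 1 := by omega
    rw [h2, Nat.cast_add, Nat.cast_mul, h0, zero_mul, zero_add, Nat.cast_one] at h1
    exact one_ne_zero h1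
  have hpow : ∀ c : F, c ≠ 0 → c ^ (r * N) = 1 := by
    intro c hc
    have h := FiniteField.pow_card_sub_one_eq_one c hc
    rw [hF, hN] at h
    exact h
  have hR1 : ∀ s : ℕ, (∃ b : F, b ^ r = γ ^ s) → r ∣ s := by
    rintro s ⟨b, hb⟩
    have hb0 : b ≠ 0 := by
      rintro rfl
      rw [zero_pow hr.ne_zero] at hb
      exact pow_ne_zero s hγ0 hb.symm
    have h1 : γ ^ (s * N) = 1 := by
      rw [pow_mul, ← hb, ← pow_mul]
      exact hpow b hb0
    have h2 := orderOf_dvd_of_pow_eq_one h1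
    rw [hγord'] at h2
    exact Nat.dvd_of_mul_dvd_mul_right hN0 h2
  have hR4 : ∀ t : ℕ, t + 1 < r → ∀ b : F, b ^ r ≠ γ ^ (t + 1) := by
    intro t ht b hb
    have h1 := Nat.le_of_dvd (Nat.succ_pos t) (hR1 (t + 1) ⟨b, hb⟩)
    omega
  have hR3 : ∀ t t' : ℕ, t + 1 < r → t' + 1 < r → ∀ c : F,
      c ^ r * γ ^ (t + 1) = γ ^ (t' + 1) → t = t' := by
    intro t t' ht ht' c hc
    have hc0 : c ≠ 0 := by
      rintro rfl
      rw [zero_pow hr.ne_zero, zero_mul] at hc
      exact pow_ne_zero _ hγ0 hc.symm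
    have h1 : γ ^ ((t + 1) * N) = γ ^ ((t' + 1) * N) := by
      rw [pow_mul γ (t' + 1) N, ← hc, mul_pow, ← pow_mul c r N, hpow c hc0, one_mul, ← pow_mul]
    have h2 := pow_inj_lt γ hγord' hγ0 ((t + 1) * N) ((t' + 1) * N)
      ((Nat.mul_lt_mul_right hN0).2 ht) ((Nat.mul_lt_mul_right hN0).2 ht') h1
    have h3 := Nat.eq_of_mul_eq_mul_right hN0 h2
    omega
  -- representatives
  obtain ⟨Bm, hBm⟩ : ∃ Bm : ℕ → Matrix (Fin n) (Fin n) F,
      r ∣ n → ∀ t, Bm t ^ r = γ ^ (t + 1) • 1 := by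
    by_cases hd : r ∣ n
    · exact ⟨fun t => (exists_rth hd (γ ^ (t + 1))).choose,
        fun _ t => (exists_rth hd (γ ^ (t + 1))).choose_spec⟩
    · exact ⟨fun _ => 0, fun h => absurd h hd⟩
  have hlabex : ∀ a : XT r n, ∃ lab : Fin n → ZMod r,
      ∀ j, Nat.card {i : Fin n // lab i = j} = a.1 j := fun a => exists_lab a.1 a.2.1
  choose lab hlab using hlabex
  obtain ⟨Dm, hDm⟩ : ∃ Dm : XT r n → Matrix (Fin n) (Fin n) F,
      ∀ a, Dm a = Matrix.diagonal (fun i => zp ζ (lab a i)) := ⟨_, fun _ => rfl⟩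
  have hDpow : ∀ a, Dm a ^ r = 1 := fun a => by rw [hDm]; exact diag_pow ζ hζr (lab a)
  have hDrank : ∀ (a : XT r n) (j : ZMod r), (Dm a - zp ζ j • 1).rank = n - a.1 j := by
    intro a j
    rw [hDm, rank_diag ζ hζ, hlab]
  have hexA : ∀ a : XT r n, ∃ x : GL (Fin n) F, (x : Matrix (Fin n) (Fin n) F) = Dm a :=
    fun a => exists_unit hr.pos (Dm a) 1 one_ne_zero (by rw [one_smul]; exact hDpow a)
  choose gA hgA using hexA
  have hexB : ∀ t : ℕ, ∃ x : GL (Fin n) F,
      r ∣ n → (x : Matrix (Fin n) (Fin n) F) = Bm t := by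
    intro t
    by_cases hd : r ∣ n
    · obtain ⟨x, hx⟩ := exists_unit hr.pos (Bm t) (γ ^ (t + 1)) (pow_ne_zero _ hγ0) (hBm hd t)
      exact ⟨x, fun _ => hx⟩
    · exact ⟨1, fun h => absurd h hd⟩
  choose gB hgB using hexB
  obtain ⟨m, hmdef⟩ : ∃ m : ℕ, m = if r ∣ n then r - 1 else 0 := ⟨_, rfl⟩
  have hm1 : r ∣ n → m = r - 1 := fun hd => by rw [hmdef, if_pos hd]
  have hm0 : ¬ r ∣ n → m = 0 := fun hd => by rw [hmdef, if_neg hd]
  have hmt : ∀ t : Fin m, r ∣ n ∧ (t : ℕ) + 1 < r := by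
    intro t
    have ht := t.2
    by_cases hd : r ∣ n
    · have := hm1 hd
      exact ⟨hd, by omega⟩
    · have := hm0 hd
      omega
  have hordA : ∀ a : XT r n, orderOf (pm (gA a)) = r := by
    intro a
    rw [order_r_iff, hgA]
    refine ⟨⟨1, by rw [one_smul]; exact hDpow a⟩, ?_⟩
    rintro ⟨c, hc⟩
    have hcr : c ^ r = 1 := by
      apply S2577.smul_one_inj hn0
      have h1 := hDpow a
      rw [hc, smul_pow, one_pow] at h1
      rw [h1, one_smul]
    obtain ⟨j, hj⟩ := zp_surj ζ hζ c hcr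
    have h1 := hDrank a j
    rw [hc, hj, sub_self, Matrix.rank_zero] at h1
    have := a.2.2 j
    omega
  have hordB : ∀ t : Fin m, orderOf (pm (gB t)) = r := by
    intro t
    obtain ⟨hd, htr⟩ := hmt t
    rw [order_r_iff, hgB t hd]
    refine ⟨⟨γ ^ ((t : ℕ) + 1), hBm hd t⟩, ?_⟩
    rintro ⟨c, hc⟩
    apply hR4 t htr c
    apply S2577.smul_one_inj hn0
    have h1 := hBm hd t
    rw [hc, smul_pow, one_pow] at h1
    exact h1
  -- conjugacy among diagonal representatives
  have hP1 : ∀ a b : XT r n, IsConj (pm (gA a)) (pm (gA b)) ↔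
      ∃ k : Multiplicative (ZMod r), k • b = a := by
    intro a b
    constructor
    · intro hconj
      obtain ⟨x, c, hxc⟩ := S2577.of_conj _ _ hconj
      rw [hgA a, hgA b] at hxc
      have hc := scal_rel_r hn0 r x (Dm a) (Dm b) 1 1 c (by rw [one_smul]; exact hDpow a)
        (by rw [one_smul]; exact hDpow b) hxc
      rw [mul_one] at hc
      obtain ⟨k, hk⟩ := zp_surj ζ hζ c hc
      have hc0 : c ≠ 0 := by
        rintro rfl
        rw [zero_pow hr.ne_zero] at hc
        exact zero_ne_one hc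
      refine ⟨Multiplicative.ofAdd k, ?_⟩
      apply Subtype.ext
      funext j
      show b.1 (j + k) = a.1 j
      have hcz : c * zp ζ j = zp ζ (j + k) := by rw [zp_add ζ hζr, hk, mul_comm]
      have h3 : (x : Matrix (Fin n) (Fin n) F) * (c • (Dm a - zp ζ j • 1))
          = (Dm b - zp ζ (j + k) • 1) * (x : Matrix (Fin n) (Fin n) F) := by
        rw [Matrix.mul_smul, Matrix.mul_sub, smul_sub, hxc, Matrix.sub_mul, Matrix.mul_smul,
          Matrix.mul_one, Matrix.smul_mul, Matrix.one_mul, smul_smul, hcz]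
      have h4 := S2577.rank_eq_of_conj x _ _ h3
      rw [rank_smul' c hc0, hDrank, hDrank] at h4
      have := a.2.2 j
      have := b.2.2 (j + k)
      omega
    · rintro ⟨g, hg⟩
      have hab : ∀ j, a.1 j = b.1 (j + Multiplicative.toAdd g) := fun j =>
        (congrFun (congrArg Subtype.val hg) j).symm
      obtain ⟨k, hk⟩ : ∃ k : ZMod r, k = Multiplicative.toAdd g := ⟨_, rfl⟩
      rw [← hk] at hab
      have hzk0 : zp ζ k ≠ 0 := zp_ne_zero ζ hr.pos hζr k
      have hHpow : (zp ζ k • Dm a) ^ r = 1 := by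
        rw [smul_pow, hDpow, zp_pow ζ hζr, one_smul]
      have hm : ∀ j : ZMod r,
          (zp ζ k • Dm a - zp ζ j • 1).rank = (Dm b - zp ζ j • 1).rank := by
        intro j
        have h1 : zp ζ k • Dm a - zp ζ j • 1 = zp ζ k • (Dm a - zp ζ (j - k) • 1) := by
          rw [smul_sub, smul_smul, ← zp_add ζ hζr, add_sub_cancel]
        rw [h1, rank_smul' _ hzk0, hDrank, hDrank, hab (j - k), sub_add_cancel]
      obtain ⟨x, hx⟩ := conj_mult ζ hζ hrF _ _ hHpow (hDpow b) hm
      apply S2577.conj_of (gA a) (gA b) x (zp ζ k)⁻¹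
      rw [hgA a, hgA b, ← hx, Matrix.mul_smul, smul_smul, inv_mul_cancel₀ hzk0, one_smul]
  have hP2 : ∀ (a : XT r n) (t : Fin m), ¬ IsConj (pm (gA a)) (pm (gB t)) := by
    intro a t hconj
    obtain ⟨hd, htr⟩ := hmt t
    obtain ⟨x, c, hxc⟩ := S2577.of_conj _ _ hconj
    rw [hgA a, hgB t hd] at hxc
    have hc := scal_rel_r hn0 r x (Dm a) (Bm t) 1 (γ ^ ((t : ℕ) + 1)) c
      (by rw [one_smul]; exact hDpow a) (hBm hd t) hxc
    rw [mul_one] at hc
    exact hR4 t htr c hc
  have hP3 : ∀ t t' : Fin m, IsConj (pm (gB t)) (pm (gB t')) → t = t' := by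
    intro t t' hconj
    obtain ⟨hd, htr⟩ := hmt t
    obtain ⟨-, htr'⟩ := hmt t'
    obtain ⟨x, c, hxc⟩ := S2577.of_conj _ _ hconj
    rw [hgB t hd, hgB t' hd] at hxc
    have hc := scal_rel_r hn0 r x (Bm t) (Bm t') (γ ^ ((t : ℕ) + 1)) (γ ^ ((t' : ℕ) + 1)) c
      (hBm hd t) (hBm hd t') hxc
    exact Fin.ext (hR3 t t' htr htr' c hc)
  have hP4 : ∀ g : GL (Fin n) F, orderOf (pm g) = r →
      (∃ a : XT r n, IsConj (pm (gA a)) (pm g)) ∨
        (∃ t : Fin m, IsConj (pm (gB t)) (pm g)) := by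
    intro g hg
    rw [order_r_iff] at hg
    obtain ⟨⟨z, hz⟩, hns⟩ := hg
    have hz0 : z ≠ 0 := by
      rintro rfl
      have h1 : (1 : F) • ((g ^ r : GL (Fin n) F) : Matrix (Fin n) (Fin n) F)
          = (0 : F) • ((g ^ r : GL (Fin n) F) : Matrix (Fin n) (Fin n) F) := by
        rw [one_smul, zero_smul, Units.val_pow_eq_pow_val, hz, zero_smul]
      exact one_ne_zero (S2577.smul_unit_inj hn0 (g ^ r) h1)
    by_cases hzr : ∃ w : F, w ^ r = z
    · left
      obtain ⟨w, hw⟩ := hzr
      have hw0 : w ≠ 0 := by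
        rintro rfl
        rw [zero_pow hr.ne_zero] at hw
        exact hz0 hw.symm
      obtain ⟨h, hh⟩ : ∃ h : Matrix (Fin n) (Fin n) F,
          h = w⁻¹ • (g : Matrix (Fin n) (Fin n) F) := ⟨_, rfl⟩
      have hhr : h ^ r = 1 := by
        rw [hh, smul_pow, hz, smul_smul, inv_pow, hw, inv_mul_cancel₀ hz0, one_smul]
      have hsum := sum_mult ζ hζ hrF h hhr
      have hlt : ∀ j : ZMod r, n - (h - zp ζ j • 1).rank < n := by
        intro j
        by_contra hcon
        have hfr : Module.finrank F (LinearMap.ker (Matrix.toLin' (h - zp ζ j • 1))) = n := by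
          rw [S2577.finrank_ker_eq]; omega
        have h0 := S2577.eq_zero_of_finrank _ hfr
        have h1 : h - zp ζ j • 1 = 0 := Matrix.toLin'.injective (by rw [h0, map_zero])
        apply hns
        refine ⟨w * zp ζ j, ?_⟩
        have h2 : (g : Matrix (Fin n) (Fin n) F) = w • h := by
          rw [hh, smul_smul, mul_inv_cancel₀ hw0, one_smul]
        rw [h2, sub_eq_zero.1 h1, smul_smul]
      obtain ⟨aX, haX⟩ : ∃ aX : XT r n, ∀ j, aX.1 j = n - (h - zp ζ j • 1).rank :=
        ⟨⟨fun j => n - (h - zp ζ j • 1).rank, hsum, hlt⟩, fun _ => rfl⟩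
      refine ⟨aX, ?_⟩
      have hm : ∀ j : ZMod r, (Dm aX - zp ζ j • 1).rank = (h - zp ζ j • 1).rank := by
        intro j
        rw [hDrank, haX]
        have := Matrix.rank_le_width (h - zp ζ j • 1)
        omega
      obtain ⟨x, hx⟩ := conj_mult ζ hζ hrF _ _ (hDpow aX) hhr hm
      apply S2577.conj_of (gA aX) g x w⁻¹
      rw [hgA aX, hx, hh, Matrix.smul_mul]
    · right
      push Not at hzr
      have hd : r ∣ n := by
        have hT : (Matrix.toLin' (g : Matrix (Fin n) (Fin n) F)) ^ r = z • 1 := by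
          have h1 : Matrix.toLin' ((g : Matrix (Fin n) (Fin n) F) ^ r)
              = Matrix.toLin' (z • (1 : Matrix (Fin n) (Fin n) F)) := by rw [hz]
          rw [Matrix.toLin'_pow, map_smul, Matrix.toLin'_one] at h1
          exact h1
        obtain ⟨ι, hι, e, B, -⟩ := chain_basis hr _ z hT hzr
        have h1 := Module.finrank_eq_card_basis B
        rw [Module.finrank_fin_fun, Fintype.card_prod, Fintype.card_fin] at h1
        exact ⟨_, h1⟩
      obtain ⟨s, hs⟩ := hγgen z hz0
      have hrs : ¬ r ∣ s := by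
        rintro ⟨u, hu⟩
        apply hzr (γ ^ u)
        rw [← pow_mul, mul_comm, ← hu, hs]
      have hmod : 0 < s % r := Nat.pos_of_ne_zero (fun h => hrs (Nat.dvd_of_mod_eq_zero h))
      have hmodlt : s % r < r := Nat.mod_lt _ hr.pos
      obtain ⟨t, ht⟩ : ∃ t, t + 1 = s % r := ⟨s % r - 1, by omega⟩
      have htm : t < m := by
        have := hm1 hd
        omega
      obtain ⟨c, hc⟩ : ∃ c : F, c = (γ ^ (s / r))⁻¹ := ⟨_, rfl⟩
      have hcz : c ^ r * z = γ ^ (t + 1) := by
        have h1 : z = (γ ^ (s / r)) ^ r * γ ^ (s % r) := by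
          rw [← hs, ← pow_mul, ← pow_add, Nat.div_add_mod']
        rw [hc, inv_pow, h1, ht, inv_mul_cancel_left₀ (pow_ne_zero _ (pow_ne_zero _ hγ0))]
      have hcg : (c • (g : Matrix (Fin n) (Fin n) F)) ^ r = γ ^ (t + 1) • 1 := by
        rw [smul_pow, hz, smul_smul, hcz]
      obtain ⟨x, hx⟩ := conj_rth hr (Bm t) (c • (g : Matrix (Fin n) (Fin n) F)) (γ ^ (t + 1))
        (hR4 t (by omega)) (hBm hd t) hcg
      refine ⟨⟨t, htm⟩, ?_⟩
      apply S2577.conj_of (gB t) g x c
      rw [hgB t hd, hx, Matrix.smul_mul]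
  -- the class maps
  have hexfA : ∀ a : XT r n, ∃ c : {C : ConjClasses (PG n F) //
      ∃ g : PG n F, ConjClasses.mk g = C ∧ orderOf g = r},
      c.1 = ConjClasses.mk (pm (gA a)) := fun a => ⟨⟨_, ⟨_, rfl, hordA a⟩⟩, rfl⟩
  choose fA hfA using hexfA
  have hexfB : ∀ t : Fin m, ∃ c : {C : ConjClasses (PG n F) //
      ∃ g : PG n F, ConjClasses.mk g = C ∧ orderOf g = r},
      c.1 = ConjClasses.mk (pm (gB t)) := fun t => ⟨⟨_, ⟨_, rfl, hordB t⟩⟩, rfl⟩
  choose fB hfB using hexfB
  have hfAwd : ∀ a b : XT r n,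
      (MulAction.orbitRel (Multiplicative (ZMod r)) (XT r n)) a b → fA a = fA b := by
    intro a b hab
    have h1 := (MulAction.orbitRel_apply.trans MulAction.mem_orbit_iff).1 hab
    exact Subtype.ext ((hfA a).trans
      ((ConjClasses.mk_eq_mk_iff_isConj.2 ((hP1 a b).2 h1)).trans (hfA b).symm))
  have hbij : Function.Bijective (Sum.elim
      (Quotient.lift (s := MulAction.orbitRel (Multiplicative (ZMod r)) (XT r n)) fA hfAwd)
      fB) := by
    constructor
    · rintro (x | t) (y | t') hxy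
      · obtain ⟨a, rfl⟩ := Quotient.exists_rep x
        obtain ⟨b, rfl⟩ := Quotient.exists_rep y
        have h1 : fA a = fA b := hxy
        have h2 : ConjClasses.mk (pm (gA a)) = ConjClasses.mk (pm (gA b)) :=
          (hfA a).symm.trans ((congrArg Subtype.val h1).trans (hfA b))
        have h3 := (hP1 a b).1 (ConjClasses.mk_eq_mk_iff_isConj.1 h2)
        exact congrArg Sum.inl (Quotient.sound
          ((MulAction.orbitRel_apply.trans MulAction.mem_orbit_iff).2 h3))
      · exfalso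
        obtain ⟨a, rfl⟩ := Quotient.exists_rep x
        have h1 : fA a = fB t' := hxy
        have h2 : ConjClasses.mk (pm (gA a)) = ConjClasses.mk (pm (gB t')) :=
          (hfA a).symm.trans ((congrArg Subtype.val h1).trans (hfB t'))
        exact hP2 a t' (ConjClasses.mk_eq_mk_iff_isConj.1 h2)
      · exfalso
        obtain ⟨b, rfl⟩ := Quotient.exists_rep y
        have h1 : fB t = fA b := hxy
        have h2 : ConjClasses.mk (pm (gA b)) = ConjClasses.mk (pm (gB t)) :=
          (hfA b).symm.trans ((congrArg Subtype.val h1.symm).trans (hfB t))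
        exact hP2 b t (ConjClasses.mk_eq_mk_iff_isConj.1 h2)
      · have h1 : fB t = fB t' := hxy
        have h2 : ConjClasses.mk (pm (gB t)) = ConjClasses.mk (pm (gB t')) :=
          (hfB t).symm.trans ((congrArg Subtype.val h1).trans (hfB t'))
        exact congrArg Sum.inr (hP3 t t' (ConjClasses.mk_eq_mk_iff_isConj.1 h2))
    · rintro ⟨C, g', rfl, hg'⟩
      obtain ⟨g, rfl⟩ := QuotientGroup.mk_surjective g'
      rcases hP4 g hg' with ⟨a, ha⟩ | ⟨t, ht⟩
      · exact ⟨Sum.inl (Quotient.mk _ a),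
          Subtype.ext ((hfA a).trans (ConjClasses.mk_eq_mk_iff_isConj.2 ha))⟩
      · exact ⟨Sum.inr t, Subtype.ext ((hfB t).trans (ConjClasses.mk_eq_mk_iff_isConj.2 ht))⟩
  have key : Nat.card {C : ConjClasses (PG n F) //
      ∃ g : PG n F, ConjClasses.mk g = C ∧ orderOf g = r}
      = Nat.card (Quotient (MulAction.orbitRel (Multiplicative (ZMod r)) (XT r n))) + m := by
    rw [← Nat.card_congr (Equiv.ofBijective _ hbij), Nat.card_sum, Nat.card_fin]
  have hOC := orbit_count r n hn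
  have hXT := card_XT r n (by omega)
  refine key.trans ?_
  obtain ⟨Qn, hQn⟩ : ∃ Qn : ℕ,
      Qn = Nat.card (Quotient (MulAction.orbitRel (Multiplicative (ZMod r)) (XT r n))) :=
    ⟨_, rfl⟩
  obtain ⟨Xn, hXn⟩ : ∃ Xn : ℕ, Xn = Nat.card (XT r n) := ⟨_, rfl⟩
  obtain ⟨C, hC⟩ : ∃ C : ℕ, C = (n + r - 1).choose (r - 1) := ⟨_, rfl⟩
  rw [← hQn, ← hXn] at hOC
  rw [← hXn, ← hC] at hXT
  rw [← hQn, ← hC]
  by_cases hd : r ∣ n
  · rw [if_pos hd] at hOC
    rw [if_pos hd]
    have hQ1 : 1 ≤ Qn := by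
      rcases Nat.eq_zero_or_pos Qn with h | h
      · rw [h, zero_mul] at hOC; omega
      · exact h
    obtain ⟨Q', hQ'⟩ : ∃ Q', Qn = Q' + 1 := ⟨Qn - 1, by omega⟩
    have h1 : Qn * r = Q' * r + r := by rw [hQ']; ring
    have h2 : C - r - 1 = Q' * r := by omega
    rw [h2, Nat.mul_div_cancel _ hr.pos, hm1 hd]
    omega
  · rw [if_neg hd] at hOC
    rw [if_neg hd]
    have h2 : C - r - 0 = Qn * r := by omega
    rw [h2, Nat.mul_div_cancel _ hr.pos, hm0 hd]
    omega

end Cfsg.Agent.S2670
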