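import Mathlib
import Cfsg.Statements.S2904

set_option autoImplicit false
open Cfsg Polynomial

namespace Cfsg.Agent.S2904

/-- value of the `n`-th cyclotomic polynomial at `a`, as a natural number -/
noncomputable def Phi (n a : ℕ) : ℕ := ((cyclotomic n ℤ).eval (a : ℤ)).natAbs

theorem Phi_cast (n a : ℕ) (ha : 1 < a) :
    ((Phi n a : ℕ) : ℤ) = (cyclotomic n ℤ).eval (a : ℤ) := by
  unfold Phi
  rw [Int.natAbs_of_nonneg]
  exact (cyclotomic_pos' n (by exact_mod_cast ha)).le

theorem cast_pow_sub_one (a k : ℕ) (ha : 1 < a) : ((a ^ k - 1 : ℕ) : ℤ) = (a : ℤ) ^ k - 1 := by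
  have : 1 ≤ a ^ k := Nat.one_le_pow _ _ (by omega)
  push_cast [Nat.cast_sub this]
  ring

theorem Phi_dvd (n a : ℕ) (ha : 1 < a) : Phi n a ∣ a ^ n - 1 := by
  have h : (cyclotomic n ℤ).eval (a : ℤ) ∣ (X ^ n - 1 : ℤ[X]).eval (a : ℤ) :=
    Polynomial.eval_dvd (cyclotomic.dvd_X_pow_sub_one n ℤ)
  rw [← Int.natCast_dvd_natCast, Phi_cast n a ha, cast_pow_sub_one a n ha]
  simpa using h

theorem isRoot_of_dvd (n a r : ℕ) (ha : 1 < a) (h : r ∣ Phi n a) :
    (cyclotomic n (ZMod r)).IsRoot (a : ZMod r) := by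
  have h1 : ((Phi n a : ℕ) : ZMod r) = 0 := (ZMod.natCast_eq_zero_iff _ _).mpr h
  have h2 : (((Phi n a : ℕ) : ℤ) : ZMod r) = 0 := by exact_mod_cast h1
  rw [Phi_cast n a ha] at h2
  rw [IsRoot.def, ← map_cyclotomic_int n (ZMod r)]
  have := eval_intCast_map (Int.castRingHom (ZMod r)) (cyclotomic n ℤ) (a : ℤ)
  simp only [Int.cast_natCast, eq_intCast] at this
  rw [this]
  exact h2

theorem prim_of_not_dvd (n a r : ℕ) (ha : 1 < a) (hr : r.Prime) (h : r ∣ Phi n a)
    (hrn : ¬ r ∣ n) : IsPrimitiveRoot (a : ZMod r) n := by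
  haveI := Fact.mk hr
  haveI : NeZero (n : ZMod r) := ⟨by rwa [Ne, ZMod.natCast_eq_zero_iff]⟩
  exact isRoot_cyclotomic_iff.mp (isRoot_of_dvd n a r ha h)

theorem pow_eq_one_of_dvd (a r k : ℕ) (ha : 1 < a) (h : r ∣ a ^ k - 1) :
    (a : ZMod r) ^ k = 1 := by
  have h1 : ((a ^ k - 1 : ℕ) : ZMod r) = 0 := (ZMod.natCast_eq_zero_iff _ _).mpr h
  have : 1 ≤ a ^ k := Nat.one_le_pow _ _ (by omega)
  rw [Nat.cast_sub this] at h1
  push_cast at h1
  exact sub_eq_zero.mp h1

theorem dvd_of_pow_eq_one (a r k : ℕ) (ha : 1 < a) (h : (a : ZMod r) ^ k = 1) :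
    r ∣ a ^ k - 1 := by
  rw [← ZMod.natCast_eq_zero_iff]
  have : 1 ≤ a ^ k := Nat.one_le_pow _ _ (by omega)
  rw [Nat.cast_sub this]
  push_cast
  rw [h, sub_self]

theorem primitive_of_not_dvd (n a r k : ℕ) (ha : 1 < a) (hr : r.Prime) (h : r ∣ Phi n a)
    (hrn : ¬ r ∣ n) (hk : 0 < k) (hkn : k < n) : ¬ r ∣ a ^ k - 1 := by
  intro hd
  exact (prim_of_not_dvd n a r ha hr h hrn).pow_ne_one_of_pos_of_lt hk.ne' hkn
    (pow_eq_one_of_dvd a r k ha hd)

theorem ord_of_dvd (n a r : ℕ) (ha : 1 < a) (hn : n ≠ 0) (hr : r.Prime) (h : r ∣ Phi n a)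
    (hrn : r ∣ n) :
    ∃ e m, n = r ^ e * m ∧ 0 < e ∧ ¬ r ∣ m ∧ m ∣ r - 1 ∧ r ∣ a ^ m - 1 := by
  haveI := Fact.mk hr
  obtain ⟨e, m, hm, rfl⟩ := Nat.exists_eq_pow_mul_and_not_dvd hn r hr.ne_one
  have he : 0 < e := by
    rcases Nat.eq_zero_or_pos e with rfl | he
    · simp only [pow_zero, one_mul] at hrn
      exact absurd hrn hm
    · exact he
  have hroot := isRoot_of_dvd (r ^ e * m) a r ha h
  rw [cyclotomic_mul_prime_pow_eq (ZMod r) hm he, IsRoot.def, eval_pow] at hroot
  have hroot' : (cyclotomic m (ZMod r)).IsRoot (a : ZMod r) := by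
    rw [IsRoot.def]
    exact eq_zero_of_pow_eq_zero hroot
  haveI : NeZero (m : ZMod r) := ⟨by rwa [Ne, ZMod.natCast_eq_zero_iff]⟩
  have hprim : IsPrimitiveRoot (a : ZMod r) m := isRoot_cyclotomic_iff.mp hroot'
  refine ⟨e, m, rfl, he, hm, ?_, dvd_of_pow_eq_one a r m ha hprim.pow_eq_one⟩
  have ha0 : (a : ZMod r) ≠ 0 := by
    intro h0
    have := hprim.pow_eq_one
    rw [h0, zero_pow (by rintro rfl; exact hm (dvd_zero r))] at this
    exact zero_ne_one this
  exact hprim.dvd_of_pow_eq_one _ (ZMod.pow_card_sub_one_eq_one ha0)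

theorem mul_Phi_dvd (n a d : ℕ) (ha : 1 < a) (hd : d ∈ n.properDivisors) :
    (a ^ d - 1) * Phi n a ∣ a ^ n - 1 := by
  have h := Polynomial.eval_dvd (x := (a : ℤ))
    (X_pow_sub_one_mul_cyclotomic_dvd_X_pow_sub_one_of_dvd ℤ hd)
  rw [← Int.natCast_dvd_natCast]
  push_cast
  rw [Phi_cast n a ha, cast_pow_sub_one a n ha, cast_pow_sub_one a d ha]
  simpa using h

theorem sq_not_dvd (n a r e m : ℕ) (ha : 1 < a) (hn2 : 2 < n) (hr : r.Prime)
    (hnem : n = r ^ e * m) (he : 0 < e) (hm1 : m ∣ r - 1) (hram : r ∣ a ^ m - 1) :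
    ¬ r ^ 2 ∣ Phi n a := by
  intro hsq
  haveI := Fact.mk hr
  obtain ⟨e', rfl⟩ : ∃ e', e = e' + 1 := ⟨e - 1, by omega⟩
  obtain ⟨d, hd⟩ : ∃ d, d = r ^ e' * m := ⟨_, rfl⟩
  have hnd : n = d * r := by rw [hnem, hd]; ring
  have hm0 : 0 < m := by
    rcases Nat.eq_zero_or_pos m with rfl | h
    · simp only [mul_zero] at hnem; omega
    · exact h
  have hd0 : 0 < d := by
    rw [hd]
    exact Nat.mul_pos (pow_pos hr.pos _) hm0
  have hdprop : d ∈ n.properDivisors := by
    rw [Nat.mem_properDivisors]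
    refine ⟨⟨r, hnd⟩, ?_⟩
    rw [hnd]
    nlinarith [hr.two_le]
  have hdvd := mul_Phi_dvd n a d ha hdprop
  obtain ⟨b, hb⟩ : ∃ b, b = a ^ d := ⟨_, rfl⟩
  have hb1 : 1 < b := by rw [hb]; exact Nat.one_lt_pow hd0.ne' ha
  have hbn : a ^ n = b ^ r := by rw [hb, hnd, pow_mul]
  rw [← hb, hbn] at hdvd
  have hrb : r ∣ b - 1 := by
    have h1 : a ^ m - 1 ∣ (a ^ m) ^ (r ^ e') - 1 := by
      simpa only [one_pow] using Nat.sub_dvd_pow_sub_pow (a ^ m) 1 (r ^ e')
    rw [← pow_mul, mul_comm m, ← hd, ← hb] at h1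
    exact hram.trans h1
  have hdvd2 : r ^ 2 * (b - 1) ∣ b ^ r - 1 := by
    refine Dvd.dvd.trans ?_ hdvd
    rw [mul_comm]
    exact Nat.mul_dvd_mul_left _ hsq
  rcases hr.eq_two_or_odd' with rfl | hodd
  · have hm1' : m = 1 := by simpa using hm1
    subst hm1'
    have he' : 0 < e' := by
      rcases Nat.eq_zero_or_pos e' with rfl | h
      · simp at hnem; omega
      · exact h
    obtain ⟨e'', rfl⟩ : ∃ e'', e' = e'' + 1 := ⟨e' - 1, by omega⟩
    obtain ⟨c, hc⟩ : ∃ c, c = a ^ (2 ^ e'') := ⟨_, rfl⟩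
    have hbc : b = c ^ 2 := by
      rw [hb, hd, hc, ← pow_mul]
      congr 1
      ring
    have h4 : 4 ∣ b + 1 := by
      have hfac : b ^ 2 - 1 = (b - 1) * (b + 1) := by
        have h1 : 1 ≤ b ^ 2 := Nat.one_le_pow _ _ (by omega)
        zify [h1, hb1.le]
        ring
      rw [hfac, mul_comm (2 ^ 2)] at hdvd2
      have := (Nat.mul_dvd_mul_iff_left (by omega : 0 < b - 1)).mp hdvd2
      simpa using this
    rw [hbc] at h4
    have hcases : c % 4 = 0 ∨ c % 4 = 1 ∨ c % 4 = 2 ∨ c % 4 = 3 := by omega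
    have h4' : (c ^ 2 + 1) % 4 = 0 := Nat.mod_eq_zero_of_dvd h4
    rw [Nat.add_mod, Nat.pow_mod] at h4'
    rcases hcases with h | h | h | h <;> rw [h] at h4' <;> norm_num at h4'
  · have hb0 : ¬ r ∣ b := by
      intro hrb'
      have h1 : r ∣ 1 := by
        have := Nat.dvd_sub hrb' hrb
        rwa [Nat.sub_sub_self hb1.le] at this
      exact hr.one_lt.ne' (Nat.dvd_one.mp h1)
    have hlte := padicValNat.pow_sub_pow hodd hb1 (by simpa using hrb) hb0 (n := r) hr.ne_zero
    rw [one_pow, padicValNat_self] at hlte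
    have hne : b ^ r - 1 ≠ 0 := by
      have : 1 < b ^ r := Nat.one_lt_pow hr.ne_zero hb1
      omega
    have hv : r ^ (padicValNat r (b - 1) + 2) ∣ b ^ r - 1 := by
      refine Dvd.dvd.trans ?_ hdvd2
      rw [pow_add, mul_comm]
      exact Nat.mul_dvd_mul_left _ pow_padicValNat_dvd
    have := (padicValNat_dvd_iff_le hne).mp hv
    omega

theorem Phi_lower (n a : ℕ) (hn : 1 < n) (ha : 1 < a) : (a - 1) ^ n.totient < Phi n a :=
  sub_one_pow_totient_lt_natAbs_cyclotomic_eval hn ha.ne'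

theorem Phi_upper (n a : ℕ) (ha : 1 < a) : Phi n a ≤ (a + 1) ^ n.totient := by
  have h := cyclotomic_eval_le_add_one_pow_totient (q := (a : ℝ)) (by exact_mod_cast ha) n
  have h2 : (cyclotomic n ℝ).eval (a : ℝ) = ((Phi n a : ℕ) : ℝ) := by
    have := eval_intCast_map (Int.castRingHom ℝ) (cyclotomic n ℤ) (a : ℤ)
    rw [map_cyclotomic_int] at this
    simp only [Int.cast_natCast, eq_intCast] at this
    rw [this, ← Phi_cast n a ha]
    simp
  rw [h2] at h
  exact_mod_cast h

theorem Phi_expand_dvd (d a p : ℕ) (hp : p.Prime) (hpd : p ∣ d) :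
    Phi (d * p) a = Phi d (a ^ p) := by
  unfold Phi
  rw [← cyclotomic_expand_eq_cyclotomic hp hpd ℤ, expand_eval]
  push_cast
  rfl

theorem Phi_expand_not_dvd (m a p : ℕ) (hp : p.Prime) (hpm : ¬ p ∣ m) :
    Phi m (a ^ p) = Phi (m * p) a * Phi m a := by
  unfold Phi
  rw [← Int.natAbs_mul, ← eval_mul, ← cyclotomic_expand_eq_cyclotomic_mul hp hpm ℤ, expand_eval]
  push_cast
  rfl

theorem three_mul_lt : ∀ k, 4 ≤ k → 3 * k + 1 ≤ 2 ^ k := by
  intro k hk
  induction k, hk using Nat.le_induction with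
  | base => norm_num
  | succ k hk ih => rw [pow_succ]; omega

theorem result (a n : ℕ) (ha : 1 < a) (hn : 1 < n) (h6 : ¬ (a = 2 ∧ n = 6)) (h2 : ¬ (n = 2 ∧ ∃ m : ℕ, a + 1 = 2 ^ m)) : ∃ r : ℕ, r.Prime ∧ r ∣ a ^ n - 1 ∧ ∀ k : ℕ, 0 < k → k < n → ¬ r ∣ a ^ k - 1 := by
  by_contra hcon
  push Not at hcon
  rcases Nat.lt_or_ge 2 n with hn2 | hn2
  swap
  · have hn' : n = 2 := by omega
    subst hn'
    apply h2
    refine ⟨rfl, ?_⟩
    have hall : ∀ r, r.Prime → r ∣ a + 1 → r = 2 := by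
      intro r hr hra
      have hd : r ∣ a ^ 2 - 1 := by
        have hfac : a ^ 2 - 1 = (a + 1) * (a - 1) := by
          have h1 : 1 ≤ a ^ 2 := Nat.one_le_pow _ _ (by omega)
          zify [h1, ha.le]
          ring
        rw [hfac]
        exact Dvd.dvd.mul_right hra _
      obtain ⟨k, hk0, hk2, hk⟩ := hcon r hr hd
      have hk1 : k = 1 := by omega
      subst hk1
      rw [pow_one] at hk
      have h2' : r ∣ 2 := by
        have := Nat.dvd_sub hra hk
        have h2'' : a + 1 - (a - 1) = 2 := by omega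
        rwa [h2''] at this
      exact (Nat.prime_dvd_prime_iff_eq hr Nat.prime_two).mp h2'
    exact ⟨(a + 1).primeFactorsList.length,
      Nat.eq_prime_pow_of_unique_prime_dvd (by omega) (fun {r} hr hra => hall r hr hra)⟩
  · obtain ⟨N, hN⟩ : ∃ N, N = Phi n a := ⟨_, rfl⟩
    have hlow := Phi_lower n a hn ha
    rw [← hN] at hlow
    have hN1 : 1 < N := by
      have : 0 < (a - 1) ^ n.totient := Nat.pow_pos (by omega)
      omega
    have hNdvd : N ∣ a ^ n - 1 := hN ▸ Phi_dvd n a ha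
    have hall : ∀ r, r.Prime → r ∣ N → r ∣ n := by
      intro r hr hrN
      by_contra hrn
      obtain ⟨k, hk0, hkn, hk⟩ := hcon r hr (hrN.trans hNdvd)
      exact primitive_of_not_dvd n a r k ha hr (hN ▸ hrN) hrn hk0 hkn hk
    obtain ⟨P, hP, hPN⟩ := Nat.exists_prime_and_dvd (by omega : N ≠ 1)
    have hPn := hall P hP hPN
    obtain ⟨e, m, hnem, he, hPm, hm1, hPam⟩ := ord_of_dvd n a P ha (by omega) hP (hN ▸ hPN) hPn
    have hsq := sq_not_dvd n a P e m ha hn2 hP hnem he hm1 hPam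
    rw [← hN] at hsq
    have hm0 : 0 < m := Nat.pos_of_ne_zero (by rintro rfl; simp at hnem; omega)
    have hNP : N = P := by
      have huniq : ∀ {r}, r.Prime → r ∣ N → r = P := by
        intro r hr hrN
        by_contra hne
        have hrn := hall r hr hrN
        obtain ⟨e', m', hnem', he', hrm', hm1', _⟩ :=
          ord_of_dvd n a r ha (by omega) hr (hN ▸ hrN) hrn
        have h1 : r ∣ m := by
          have : r ∣ P ^ e * m := hnem ▸ hrn
          rcases (Nat.Prime.dvd_mul hr).mp this with h | h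
          · exact absurd ((Nat.prime_dvd_prime_iff_eq hr hP).mp (hr.dvd_of_dvd_pow h)) hne
          · exact h
        have h2 : P ∣ m' := by
          have : P ∣ r ^ e' * m' := hnem' ▸ hPn
          rcases (Nat.Prime.dvd_mul hP).mp this with h | h
          · exact absurd ((Nat.prime_dvd_prime_iff_eq hP hr).mp (hP.dvd_of_dvd_pow h)).symm hne
          · exact h
        have hm0' : 0 < m' := Nat.pos_of_ne_zero (by rintro rfl; simp at hnem'; omega)
        have := Nat.le_of_dvd hm0 h1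
        have := Nat.le_of_dvd hm0' h2
        have := Nat.le_of_dvd (by have := hP.two_le; omega) hm1
        have := Nat.le_of_dvd (by have := hr.two_le; omega) hm1'
        omega
      have hpow := Nat.eq_prime_pow_of_unique_prime_dvd (by omega : N ≠ 0) huniq
      obtain ⟨k, hk⟩ : ∃ k, k = N.primeFactorsList.length := ⟨_, rfl⟩
      rw [← hk] at hpow
      have hk1 : k < 2 := by
        by_contra hk2
        apply hsq
        rw [hpow]
        exact pow_dvd_pow P (by omega)
      have hk0 : k ≠ 0 := by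
        rintro rfl
        rw [pow_zero] at hpow
        omega
      have hk1' : k = 1 := by omega
      rw [hpow, hk1', pow_one]
    have htot : P - 1 ≤ n.totient := by
      have h1 : P.totient ∣ n.totient := Nat.totient_dvd_of_dvd hPn
      rw [Nat.totient_prime hP] at h1
      exact Nat.le_of_dvd (Nat.totient_pos.mpr (by omega)) h1
    rw [hNP] at hlow
    rw [hNP] at hN
    rcases Nat.lt_or_ge 2 a with ha3 | ha2
    · have h1 : 2 ^ (P - 1) ≤ (a - 1) ^ n.totient :=
        calc 2 ^ (P - 1) ≤ 2 ^ n.totient := Nat.pow_le_pow_right (by norm_num) htot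
          _ ≤ (a - 1) ^ n.totient := Nat.pow_le_pow_left (by omega) _
      have h2 : P - 1 < 2 ^ (P - 1) := Nat.lt_two_pow_self
      have := hP.two_le
      omega
    · have ha' : a = 2 := by omega
      subst ha'
      have hm_ne1 : m ≠ 1 := by
        rintro rfl
        norm_num at hPam
        exact hP.one_lt.ne' hPam
      rcases Nat.lt_or_ge 1 e with he2 | he1
      · obtain ⟨d, hd⟩ : ∃ d, d = P ^ (e - 1) * m := ⟨_, rfl⟩
        have hnd : n = d * P := by
          rw [hnem, hd]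
          obtain ⟨e', rfl⟩ : ∃ e', e = e' + 1 := ⟨e - 1, by omega⟩
          simp only [Nat.add_sub_cancel, pow_succ]
          ring
        have hPd : P ∣ d := by
          rw [hd]
          exact Dvd.dvd.mul_right (dvd_pow_self P (by omega)) m
        have hd0 : 0 < d := by
          rw [hd]
          exact Nat.mul_pos (pow_pos hP.pos _) hm0
        have hexp := Phi_expand_dvd d 2 P hP hPd
        have hd2 : 1 < d := lt_of_lt_of_le hP.one_lt (Nat.le_of_dvd hd0 hPd)
        have hlow2 := Phi_lower d (2 ^ P) hd2 (Nat.one_lt_two_pow hP.ne_zero)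
        rw [← hexp, ← hnd, ← hN] at hlow2
        have hφ : 0 < d.totient := Nat.totient_pos.mpr (by omega)
        have h3 : 2 ^ P - 1 ≤ (2 ^ P - 1) ^ d.totient := Nat.le_self_pow hφ.ne' _
        have h4 : P < 2 ^ P := Nat.lt_two_pow_self
        omega
      · have he' : e = 1 := by omega
        subst he'
        rw [pow_one] at hnem
        have hnm : n = m * P := by rw [hnem, mul_comm]
        have hexp := Phi_expand_not_dvd m 2 P hP hPm
        rw [← hnm, ← hN] at hexp
        have hm2 : 1 < m := by omega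
        have hlow2 := Phi_lower m (2 ^ P) hm2 (Nat.one_lt_two_pow hP.ne_zero)
        have hup := Phi_upper m 2 (by norm_num)
        norm_num at hup
        have hφ : 0 < m.totient := Nat.totient_pos.mpr hm0
        rcases Nat.lt_or_ge P 4 with hP4 | hP4
        · have hP23 : P = 2 ∨ P = 3 := by
            have := hP.two_le
            interval_cases P
            · left; rfl
            · right; rfl
          rcases hP23 with rfl | rfl
          · have : m = 1 := by simpa using hm1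
            exact hm_ne1 this
          · have hm2' : m ≤ 2 := Nat.le_of_dvd (by norm_num) hm1
            have hm2'' : m = 2 := by omega
            subst hm2''
            exact h6 ⟨rfl, by omega⟩
        · have h3P := three_mul_lt P hP4
          have h1 : (3 * P) ^ m.totient ≤ (2 ^ P - 1) ^ m.totient :=
            Nat.pow_le_pow_left (by omega) _
          have h2 : 3 ^ m.totient * P ≤ (3 * P) ^ m.totient := by
            rw [mul_pow]
            exact Nat.mul_le_mul_left _ (Nat.le_self_pow hφ.ne' P)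
          have h3 : P * Phi m 2 ≤ P * 3 ^ m.totient := Nat.mul_le_mul_left _ hup
          rw [hexp] at hlow2
          nlinarith

end Cfsg.Agent.S2904
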