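import Cfsg.Statements.S5739
import Mathlib

set_option autoImplicit false
open Cfsg

namespace Cfsg.Agent.S5739

section aux

variable {F K : Type*} [Field F] [Field K] [Algebra F K]

/-- the Singer embedding -/
noncomputable def mu (F K : Type*) [Field F] [Field K] [Algebra F K] : Kˣ →* (Module.End F K)ˣ :=
  Units.map ((Algebra.lmul F K : K →ₐ[F] Module.End F K) : K →* Module.End F K)

theorem mu_apply (u : Kˣ) (v : K) : ((mu F K u : (Module.End F K)ˣ) : Module.End F K) v = u * v := by
  simp [mu]

theorem inv_apply (g : (Module.End F K)ˣ) (v : K) :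
    ((g⁻¹ : (Module.End F K)ˣ) : Module.End F K) ((g : Module.End F K) v) = v := by
  have h : ((g⁻¹ : (Module.End F K)ˣ) : Module.End F K) * (g : Module.End F K) = 1 := Units.inv_mul g
  have h2 : (((g⁻¹ : (Module.End F K)ˣ) : Module.End F K) * (g : Module.End F K)) v = v := by
    rw [h]; rfl
  exact h2

theorem apply_inv (g : (Module.End F K)ˣ) (v : K) :
    (g : Module.End F K) (((g⁻¹ : (Module.End F K)ˣ) : Module.End F K) v) = v := by
  have h : (g : Module.End F K) * ((g⁻¹ : (Module.End F K)ˣ) : Module.End F K) = 1 := Units.mul_inv g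
  have h2 : ((g : Module.End F K) * ((g⁻¹ : (Module.End F K)ˣ) : Module.End F K)) v = v := by
    rw [h]; rfl
  exact h2

theorem unit_inj (g : (Module.End F K)ˣ) {v w : K} (h : (g : Module.End F K) v = (g : Module.End F K) w) :
    v = w := by
  have := congrArg (fun x => ((g⁻¹ : (Module.End F K)ˣ) : Module.End F K) x) h
  simpa [inv_apply] using this

theorem unit_ext {g h : (Module.End F K)ˣ}
    (H : ∀ v, (g : Module.End F K) v = (h : Module.End F K) v) : g = h :=
  Units.ext (LinearMap.ext H)

theorem mul_apply' (g h : (Module.End F K)ˣ) (v : K) :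
    ((g * h : (Module.End F K)ˣ) : Module.End F K) v = (g : Module.End F K) ((h : Module.End F K) v) := by
  simp

/-- the field of elements `b` with `m_b ∘ g = g ∘ m_a` for some `a`. -/
noncomputable def twist (g : (Module.End F K)ˣ) : IntermediateField F K where
  carrier := {b | ∃ a : K, ∀ v, b * (g : Module.End F K) v = (g : Module.End F K) (a * v)}
  mul_mem' := by
    rintro b b' ⟨a, ha⟩ ⟨a', ha'⟩
    refine ⟨a * a', fun v => ?_⟩
    rw [mul_assoc, ha', ha, mul_assoc]
  one_mem' := ⟨1, fun v => by rw [one_mul, one_mul]⟩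
  add_mem' := by
    rintro b b' ⟨a, ha⟩ ⟨a', ha'⟩
    refine ⟨a + a', fun v => ?_⟩
    rw [add_mul, ha, ha', add_mul, map_add]
  zero_mem' := ⟨0, fun v => by rw [zero_mul, zero_mul, map_zero]⟩
  algebraMap_mem' := by
    intro c
    refine ⟨algebraMap F K c, fun v => ?_⟩
    rw [← Algebra.smul_def, ← Algebra.smul_def, map_smul]
  inv_mem' := by
    rintro b ⟨a, ha⟩
    by_cases hb : b = 0
    · refine ⟨0, fun v => ?_⟩
      rw [hb, inv_zero, zero_mul, zero_mul, map_zero]
    · have ha0 : a ≠ 0 := by
        intro h0
        have h1 := ha 1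
        rw [h0, zero_mul, map_zero] at h1
        rcases mul_eq_zero.mp h1 with h | h
        · exact hb h
        · have : (1 : K) = 0 := unit_inj g (by rw [h, map_zero])
          exact one_ne_zero this
      refine ⟨a⁻¹, fun v => ?_⟩
      have h1 := ha (a⁻¹ * v)
      rw [← mul_assoc, mul_inv_cancel₀ ha0, one_mul] at h1
      rw [← h1, ← mul_assoc, inv_mul_cancel₀ hb, one_mul]

theorem mem_twist (g : (Module.End F K)ˣ) (b : K) :
    b ∈ twist g ↔ ∃ a : K, ∀ v, b * (g : Module.End F K) v = (g : Module.End F K) (a * v) := Iff.rfl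

end aux


/-- Let F ⊆ K be finite fields with |F| = q and [K : F] = n ≥ 2, and let M ≤ GL_F(K) be the Singer group of multiplications by non-zero elements of K. If g ∈ GL_F(K) does not normalise M, then the order of M ∩ gMg⁻¹ divides q^r − 1 for some proper divisor r of n. In particular, when n is prime, that order divides q − 1. -/
theorem result {F K : Type*} [Field F] [Fintype F] [Field K] [Fintype K] [Algebra F K] (n : ℕ) (hn : 2 ≤ n) (hdim : Module.finrank F K = n)
    (g : (Module.End F K)ˣ) (hg : ((Units.map ((Algebra.lmul F K : K →ₐ[F] Module.End F K) : K →* Module.End F K)).range).map (MulAut.conj g).toMonoidHom ≠ (Units.map ((Algebra.lmul F K : K →ₐ[F] Module.End F K) : K →* Module.End F K)).range) :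
    ∃ r : ℕ, 1 ≤ r ∧ r ∣ n ∧ r < n ∧ Nat.card ↥(((Units.map ((Algebra.lmul F K : K →ₐ[F] Module.End F K) : K →* Module.End F K)).range).map (MulAut.conj g).toMonoidHom ⊓ (Units.map ((Algebra.lmul F K : K →ₐ[F] Module.End F K) : K →* Module.End F K)).range) ∣ Fintype.card F ^ r - 1 := by
  classical
  have key : ∀ M : Subgroup (Module.End F K)ˣ, M = (mu F K).range →
      M.map (MulAut.conj g).toMonoidHom ≠ M →
      ∃ r : ℕ, 1 ≤ r ∧ r ∣ n ∧ r < n ∧
        Nat.card ↥(M.map (MulAut.conj g).toMonoidHom ⊓ M) ∣ Fintype.card F ^ r - 1 := by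
    intro M hM hgM
    haveI : Finite (Module.End F K) :=
      Finite.of_injective (fun f : Module.End F K => (f : K → K)) DFunLike.coe_injective
    have hn0 : 0 < n := by omega
    have htower : Module.finrank F ↥(twist g) * Module.finrank ↥(twist g) K = Module.finrank F K :=
      Module.finrank_mul_finrank F ↥(twist g) K
    have hrpos : 0 < Module.finrank F ↥(twist g) := Module.finrank_pos
    have hrdvd : Module.finrank F ↥(twist g) ∣ n := by
      rw [← hdim, ← htower]; exact dvd_mul_right _ _
    -- the key relation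
    have hrel : ∀ (u a : Kˣ), (MulAut.conj g).toMonoidHom (mu F K a) = mu F K u →
        ∀ v, (u : K) * (g : Module.End F K) v = (g : Module.End F K) ((a : K) * v) := by
      intro u a h v
      have h1 : g * mu F K a * g⁻¹ = mu F K u := h
      have h2 : g * mu F K a = mu F K u * g := mul_inv_eq_iff_eq_mul.mp h1
      have h3 := congrArg (fun f : (Module.End F K)ˣ => (f : Module.End F K) v) h2
      simp only [mul_apply', mu_apply] at h3
      exact h3.symm
    refine ⟨Module.finrank F ↥(twist g), hrpos, hrdvd, ?_, ?_⟩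
    · -- properness
      by_contra hcon
      have hle : Module.finrank F ↥(twist g) ≤ n := Nat.le_of_dvd hn0 hrdvd
      have heq : Module.finrank F ↥(twist g) = n := le_antisymm hle (not_lt.mp hcon)
      have hone : Module.finrank ↥(twist g) K = 1 := by
        rw [heq, hdim] at htower
        exact Nat.eq_of_mul_eq_mul_left hn0 (by rw [htower, mul_one])
      have htop : twist g = ⊤ := IntermediateField.finrank_eq_one_iff_eq_top.mp hone
      have hall : ∀ b : K, b ∈ twist g := fun b => by rw [htop]; exact IntermediateField.mem_top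
      apply hgM
      symm
      apply Subgroup.eq_of_le_of_card_ge
      · intro h hh
        rw [hM] at hh
        obtain ⟨u, rfl⟩ := hh
        obtain ⟨a, ha⟩ := (mem_twist g _).mp (hall (u : K))
        have ha0 : a ≠ 0 := by
          intro h0
          have h1 := ha 1
          rw [h0, zero_mul, map_zero] at h1
          rcases mul_eq_zero.mp h1 with h | h
          · exact u.ne_zero h
          · have : (1 : K) = 0 := unit_inj g (by rw [h, map_zero])
            exact one_ne_zero this
        refine ⟨mu F K (Units.mk0 a ha0), ?_, ?_⟩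
        · rw [hM]; exact ⟨_, rfl⟩
        · show g * mu F K (Units.mk0 a ha0) * g⁻¹ = mu F K u
          rw [mul_inv_eq_iff_eq_mul]
          apply unit_ext
          intro v
          rw [mul_apply', mul_apply', mu_apply, mu_apply]
          exact (ha v).symm
      · rw [Subgroup.card_map_of_injective (MulAut.conj g).injective]
    · -- the count
      obtain ⟨ν, hν⟩ : ∃ ν : (↥(twist g))ˣ →* (Module.End F K)ˣ,
          ν = (mu F K).comp (Units.map ((twist g).val : ↥(twist g) →* K)) := ⟨_, rfl⟩
      have h1 : M.map (MulAut.conj g).toMonoidHom ⊓ M ≤ ν.range := by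
        intro h hh
        obtain ⟨hh1, hh2⟩ := hh
        rw [hM] at hh2
        obtain ⟨u, rfl⟩ := hh2
        obtain ⟨m, hm, hmu⟩ := hh1
        rw [hM] at hm
        obtain ⟨a, rfl⟩ := hm
        have hr := hrel u a hmu
        have hu : (u : K) ∈ twist g := (mem_twist g _).mpr ⟨a, hr⟩
        have hu0 : (⟨(u : K), hu⟩ : ↥(twist g)) ≠ 0 := by
          intro h0
          exact u.ne_zero (congrArg Subtype.val h0)
        refine ⟨Units.mk0 ⟨(u : K), hu⟩ hu0, ?_⟩
        rw [hν]
        show mu F K (Units.map ((twist g).val : ↥(twist g) →* K) (Units.mk0 ⟨(u : K), hu⟩ hu0)) = mu F K u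
        congr 1
        exact Units.ext rfl
      have h2 : Nat.card ν.range ∣ Nat.card (↥(twist g))ˣ := Subgroup.card_range_dvd ν
      have h3 : Nat.card (↥(twist g))ˣ = Fintype.card F ^ Module.finrank F ↥(twist g) - 1 := by
        rw [Nat.card_units, Module.natCard_eq_pow_finrank (K := F) (V := ↥(twist g)),
          Nat.card_eq_fintype_card]
      rw [← h3]
      exact (Subgroup.card_dvd_of_le h1).trans h2
  exact key _ rfl hg

end Cfsg.Agent.S5739
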