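import Cfsg.Statements.S5947
import Mathlib
import Cfsg.Agent.S2904
import Cfsg.Agent.S5739

set_option autoImplicit false
open Cfsg

namespace Cfsg.Agent.S5947

theorem prime_of_succ_eq_two_pow (q m : ℕ) (hq : IsPrimePow q) (h : q + 1 = 2 ^ m) : q.Prime := by
  obtain ⟨p, k, hp, hk, rfl⟩ := hq
  have hp' : p.Prime := hp.nat_prime
  by_cases hk1 : k = 1
  · subst hk1; simpa using hp'
  exfalso
  have hk2 : 2 ≤ k := by omega
  have hp2 : 2 ≤ p := hp'.two_le
  have h4 : 4 ≤ p ^ k := by
    calc 4 = 2 ^ 2 := by norm_num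
      _ ≤ p ^ 2 := Nat.pow_le_pow_left hp2 2
      _ ≤ p ^ k := Nat.pow_le_pow_right (by omega) hk2
  have hm2 : 2 ≤ m := by
    by_contra hm
    have hle : 2 ^ m ≤ 2 ^ 1 := Nat.pow_le_pow_right (by norm_num) (by omega)
    omega
  obtain ⟨m', rfl⟩ : ∃ m', m = m' + 2 := ⟨m - 2, by omega⟩
  have h4dvd : 4 ∣ p ^ k + 1 := by
    rw [h, pow_add]; exact Dvd.intro_left _ rfl
  have hpodd : Odd p := by
    rcases hp'.eq_two_or_odd' with h2 | ho
    · exfalso
      subst h2
      have : 2 ∣ 2 ^ k := dvd_pow_self 2 (by omega)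
      omega
    · exact ho
  rcases Nat.even_or_odd k with hke | hko
  · obtain ⟨j, rfl⟩ := hke
    have hodd : Odd (p ^ j) := hpodd.pow
    obtain ⟨t, ht⟩ := hodd
    have : p ^ (j + j) = 4 * (t * t + t) + 1 := by rw [pow_add, ht]; ring
    omega
  · have hdvd : p + 1 ∣ p ^ k + 1 := by
      have := Odd.nat_add_dvd_pow_add_pow p 1 hko
      simpa using this
    rw [h] at hdvd
    obtain ⟨s, hs, hps⟩ := (Nat.dvd_prime_pow Nat.prime_two).mp hdvd
    have e1 : ((p:ℤ)) + 1 = 2 ^ s := by exact_mod_cast hps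
    have hZ1 : ((2:ℤ) ^ (s + 1)) ∣ (p:ℤ) ^ 2 - 1 := by
      have e2 : (p:ℤ) ^ 2 - 1 = ((p:ℤ) - 1) * 2 ^ s := by rw [← e1]; ring
      have e3 : (2:ℤ) ∣ (p:ℤ) - 1 := by
        obtain ⟨t, ht⟩ := hpodd
        exact ⟨t, by rw [ht]; push_cast; ring⟩
      obtain ⟨c, hc⟩ := e3
      rw [e2, hc, pow_succ]
      exact ⟨c, by ring⟩
    obtain ⟨j, rfl⟩ := hko
    have hZ2 : (p:ℤ) ^ 2 - 1 ∣ ((p:ℤ) ^ 2) ^ j - 1 := by
      simpa using sub_dvd_pow_sub_pow ((p:ℤ)^2) 1 j
    have hZ3 : ((2:ℤ) ^ (s + 1)) ∣ (p:ℤ) ^ (2 * j + 1) - p := by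
      have : (p:ℤ) ^ (2 * j + 1) - p = p * (((p:ℤ) ^ 2) ^ j - 1) := by rw [pow_succ, pow_mul]; ring
      rw [this]
      exact Dvd.dvd.mul_left (hZ1.trans hZ2) _
    have hsm : m' + 2 ≤ s := by
      by_contra hlt
      have hlt' : s + 1 ≤ m' + 2 := by omega
      have hZ4 : ((2:ℤ) ^ (s + 1)) ∣ (p:ℤ) ^ (2 * j + 1) + 1 := by
        have : ((p:ℤ) ^ (2 * j + 1) + 1) = 2 ^ (m' + 2) := by exact_mod_cast h
        rw [this]
        exact pow_dvd_pow 2 hlt'
      have hZ5 : ((2:ℤ) ^ (s + 1)) ∣ (p:ℤ) + 1 := by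
        have := dvd_sub hZ4 hZ3
        have e : ((p:ℤ) ^ (2 * j + 1) + 1) - ((p:ℤ) ^ (2 * j + 1) - p) = p + 1 := by ring
        rwa [e] at this
      rw [e1] at hZ5
      have h5 := Int.le_of_dvd (by positivity) hZ5
      have h6 : (2:ℤ) ^ (s+1) = 2 * 2 ^ s := by ring
      have h7 : (0:ℤ) < 2 ^ s := by positivity
      omega
    have hle : 2 ^ (m' + 2) ≤ 2 ^ s := Nat.pow_le_pow_right (by norm_num) hsm
    have hlt : p ^ 1 < p ^ (2 * j + 1) := Nat.pow_lt_pow_right hp'.one_lt (by omega)
    rw [pow_one] at hlt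
    omega

section lin
variable {F V : Type*} [Field F] [Fintype F] [AddCommGroup V] [Module F V] [Finite V]

theorem card_sub (W : Submodule F V) : Nat.card W = Fintype.card F ^ Module.finrank F W := by
  rw [Module.natCard_eq_pow_finrank (K := F) (V := W), Nat.card_eq_fintype_card]

theorem fix_count (r : ℕ) [Fact r.Prime] (g : Module.End F V) (hg : g ^ r = 1) (W : Submodule F V)
    (hW : ∀ w ∈ W, g w ∈ W) :
    Nat.card W ≡ Nat.card ↥(W ⊓ LinearMap.ker (g - 1)) [MOD r] := by
  classical
  haveI : Fintype W := Fintype.ofFinite W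
  let f : Function.End W := fun w => ⟨g w, hW w w.2⟩
  have hfk : ∀ (k : ℕ) (w : W), (((f ^ k) w : W) : V) = (g ^ k) w := by
    intro k
    induction k with
    | zero => intro w; rfl
    | succ k ih =>
      intro w
      have : (f ^ (k + 1)) w = (f ^ k) (f w) := by rw [pow_succ]; rfl
      rw [this, ih, pow_succ]
      rfl
  have hf : f ^ r ^ 1 = 1 := by
    rw [pow_one]
    funext w
    apply Subtype.ext
    rw [hfk, hg]
    rfl
  have h1 := Equiv.Perm.card_fixedPoints_modEq (f := f) (p := r) (n := 1) hf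
  rw [Fintype.card_eq_nat_card, Fintype.card_eq_nat_card] at h1
  have e : Function.fixedPoints f ≃ ↥(W ⊓ LinearMap.ker (g - 1)) :=
    { toFun := fun x => ⟨x.1.1, Submodule.mem_inf.mpr ⟨x.1.2, by
          rw [LinearMap.mem_ker, LinearMap.sub_apply, sub_eq_zero]
          have := congrArg Subtype.val x.2
          exact this⟩⟩
      invFun := fun y => ⟨⟨y.1, (Submodule.mem_inf.mp y.2).1⟩, by
          have h := (Submodule.mem_inf.mp y.2).2
          rw [LinearMap.mem_ker, LinearMap.sub_apply, sub_eq_zero] at h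
          exact Subtype.ext h⟩
      left_inv := fun x => rfl
      right_inv := fun y => rfl }
  rwa [Nat.card_congr e] at h1

theorem irr (n r : ℕ) [Fact r.Prime] (hn : 0 < n) (hdim : Module.finrank F V = n)
    (hr : r ∣ Fintype.card F ^ n - 1)
    (hprim : ∀ k, 0 < k → k < n → ¬ r ∣ Fintype.card F ^ k - 1)
    (g : Module.End F V) (hg : g ^ r = 1) (hg1 : g ≠ 1) (W : Submodule F V)
    (hW : ∀ w ∈ W, g w ∈ W) : W = ⊥ ∨ W = ⊤ := by
  have hq1 : 1 < Fintype.card F := Fintype.one_lt_card
  have hrp : r.Prime := Fact.out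
  have hcop : Nat.Coprime r (Fintype.card F) := by
    rw [Nat.Prime.coprime_iff_not_dvd hrp]
    intro hd
    have h1 : r ∣ Fintype.card F ^ n := dvd_pow hd hn.ne'
    have h2 : 1 ≤ Fintype.card F ^ n := Nat.one_le_pow _ _ (by omega)
    have h3 : r ∣ 1 := by
      have := Nat.dvd_sub h1 hr
      rwa [Nat.sub_sub_self h2] at this
    exact hrp.one_lt.ne' (Nat.dvd_one.mp h3)
  have key : ∀ W : Submodule F V, (∀ w ∈ W, g w ∈ W) →
      W ≤ LinearMap.ker (g - 1) ∨ (W = ⊤ ∧ W ⊓ LinearMap.ker (g - 1) = ⊥) := by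
    intro W hW
    have h := fix_count r g hg W hW
    rw [card_sub, card_sub] at h
    have hle : Module.finrank F ↥(W ⊓ LinearMap.ker (g - 1)) ≤ Module.finrank F W :=
      Submodule.finrank_mono inf_le_left
    have hle2 : Module.finrank F W ≤ n := hdim ▸ Submodule.finrank_le W
    obtain ⟨c, hc⟩ : ∃ c, c = Module.finrank F ↥(W ⊓ LinearMap.ker (g - 1)) := ⟨_, rfl⟩
    obtain ⟨d, hd⟩ : ∃ d, d = Module.finrank F W := ⟨_, rfl⟩
    rw [← hc, ← hd] at h hle
    rw [← hd] at hle2
    have h2 : Fintype.card F ^ c * Fintype.card F ^ (d - c) ≡ Fintype.card F ^ c * 1 [MOD r] := by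
      rw [← pow_add, mul_one, Nat.add_sub_cancel' hle]; exact h
    have h3 : Fintype.card F ^ (d - c) ≡ 1 [MOD r] :=
      Nat.ModEq.cancel_left_of_coprime (Nat.Coprime.pow_right c hcop) h2
    have h4 : r ∣ Fintype.card F ^ (d - c) - 1 :=
      (Nat.modEq_iff_dvd' (Nat.one_le_pow _ _ (by omega))).mp h3.symm
    by_cases hdc : d - c = 0
    · left
      have : W ⊓ LinearMap.ker (g - 1) = W := by
        apply Submodule.eq_of_le_of_finrank_eq inf_le_left
        rw [← hc, ← hd]; omega
      rw [← this]; exact inf_le_right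
    · right
      have hge : ¬ d - c < n := fun hlt => hprim (d - c) (by omega) hlt h4
      have hdn : d = n := by omega
      have hc0 : c = 0 := by omega
      constructor
      · apply Submodule.eq_top_of_finrank_eq
        rw [← hd, hdn, hdim]
      · apply Submodule.finrank_eq_zero.mp
        rw [← hc, hc0]
  rcases key ⊤ (fun w _ => Submodule.mem_top) with h | ⟨_, h⟩
  · exfalso; apply hg1; ext v
    have := h (Submodule.mem_top : v ∈ ⊤)
    rw [LinearMap.mem_ker, LinearMap.sub_apply, sub_eq_zero] at this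
    exact this
  · rw [top_inf_eq] at h
    rcases key W hW with h' | ⟨h', _⟩
    · left; rw [h] at h'; exact le_bot_iff.mp h'
    · right; exact h'

theorem inj_of_comm (n r : ℕ) [Fact r.Prime] (hn : 0 < n) (hdim : Module.finrank F V = n)
    (hr : r ∣ Fintype.card F ^ n - 1)
    (hprim : ∀ k, 0 < k → k < n → ¬ r ∣ Fintype.card F ^ k - 1)
    (g : Module.End F V) (hg : g ^ r = 1) (hg1 : g ≠ 1)
    (d : Module.End F V) (hd : g * d = d * g) (hd0 : d ≠ 0) : Function.Injective d := by
  rw [← LinearMap.ker_eq_bot]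
  rcases irr n r hn hdim hr hprim g hg hg1 (LinearMap.ker d) (fun w hw => by
      rw [LinearMap.mem_ker] at hw ⊢
      have : d (g w) = g (d w) := by
        have := congrArg (fun f : Module.End F V => f w) hd
        exact this.symm
      rw [this, hw, map_zero]) with h | h
  · exact h
  · exact absurd (LinearMap.ker_eq_top.mp h) hd0

end lin


/-- Let F ⊆ K be finite fields with |F| = q and [K : F] = n ≥ 2, regard K as an n-dimensional F-vector space, and let M ≤ GL_F(K) be the Singer group of multiplications by non-zero elements of K (cyclic of order q^n − 1). Assume (n, q) ≠ (6, 2), and that it is not the case that n = 2 with q a prime such that q + 1 is a power of 2. Then every abelian subgroup of GL_F(K) of order q^n − 1 is conjugate to M. -/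
theorem result {F K : Type*} [Field F] [Fintype F] [Field K] [Fintype K] [Algebra F K] (n : ℕ) (hn : 2 ≤ n) (hdim : Module.finrank F K = n)
    (hex1 : ¬ (n = 6 ∧ Fintype.card F = 2))
    (hex2 : ¬ (n = 2 ∧ (Fintype.card F).Prime ∧ ∃ a : ℕ, Fintype.card F + 1 = 2 ^ a))
    (U : Subgroup (Module.End F K)ˣ) (hU : IsMulCommutative U) (hcard : Nat.card U = Fintype.card K - 1) :
    ∃ g : (Module.End F K)ˣ, U.map (MulAut.conj g).toMonoidHom = (Units.map ((Algebra.lmul F K : K →ₐ[F] Module.End F K) : K →* Module.End F K)).range := by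
  classical
  have hq1 : 1 < Fintype.card F := Fintype.one_lt_card
  have hKcard : Fintype.card K = Fintype.card F ^ n := by
    rw [Module.card_eq_pow_finrank (K := F) (V := K), hdim]
  have hqpp : IsPrimePow (Fintype.card F) := Fintype.isPrimePow_card_of_field
  obtain ⟨r, hr, hrdvd, hrprim⟩ := Cfsg.Agent.S2904.result (Fintype.card F) n hq1 (by omega)
    (fun h => hex1 ⟨h.2, h.1⟩)
    (fun h => hex2 ⟨h.1, prime_of_succ_eq_two_pow _ _ hqpp h.2.choose_spec, h.2.choose,
      h.2.choose_spec⟩)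
  haveI := Fact.mk hr
  haveI : Finite (Module.End F K) :=
    Finite.of_injective (fun f : Module.End F K => (f : K → K)) DFunLike.coe_injective
  have hrU : r ∣ Nat.card U := by rw [hcard, hKcard]; exact hrdvd
  obtain ⟨g, hg⟩ := exists_prime_orderOf_dvd_card' r hrU
  obtain ⟨g0, hg0⟩ : ∃ g0 : Module.End F K, g0 = ((g : (Module.End F K)ˣ) : Module.End F K) :=
    ⟨_, rfl⟩
  have hg0r : g0 ^ r = 1 := by
    rw [hg0, ← Units.val_pow_eq_pow_val, ← Subgroup.coe_pow, ← hg, pow_orderOf_eq_one]; rfl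
  have hg01 : g0 ≠ 1 := by
    intro h
    have h1 : (g : (Module.End F K)ˣ) = 1 := Units.ext (by rw [← hg0, h]; rfl)
    have h2 : g = 1 := Subtype.ext h1
    rw [h2, orderOf_one] at hg
    exact hr.one_lt.ne hg
  have hn0 : 0 < n := by omega
  have hinj : ∀ d : Module.End F K, g0 * d = d * g0 → d ≠ 0 → Function.Injective d :=
    fun d hd hd0 => inj_of_comm n r hn0 hdim hrdvd hrprim g0 hg0r hg01 d hd hd0
  obtain ⟨D, hD⟩ : ∃ D : Subalgebra F (Module.End F K), D = Subalgebra.centralizer F {g0} :=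
    ⟨_, rfl⟩
  have hDmem : ∀ d : Module.End F K, d ∈ D ↔ g0 * d = d * g0 := by
    intro d; rw [hD, Subalgebra.mem_centralizer_iff]; simp
  have hUD : ∀ u ∈ U, ((u : (Module.End F K)ˣ) : Module.End F K) ∈ D := by
    intro u hu
    rw [hDmem, hg0, ← Units.val_mul, ← Units.val_mul]
    congr 1
    haveI := hU
    exact congrArg Subtype.val (mul_comm' g ⟨u, hu⟩)
  have hev : Function.Injective (fun d : D => (d : Module.End F K) (1 : K)) := by
    intro d d' h
    by_contra hne
    have hsub : ((d - d' : D) : Module.End F K) ≠ 0 := by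
      intro h0
      apply hne
      apply Subtype.ext
      have : (d : Module.End F K) - (d' : Module.End F K) = 0 := h0
      exact sub_eq_zero.mp this
    have hi := hinj _ ((hDmem _).mp (d - d').2) hsub
    have h1 : ((d - d' : D) : Module.End F K) (1 : K) = ((d - d' : D) : Module.End F K) 0 := by
      rw [map_zero]
      show ((d : Module.End F K) - (d' : Module.End F K)) 1 = 0
      rw [LinearMap.sub_apply, sub_eq_zero]; exact h
    exact one_ne_zero (hi h1)
  have hDle : Nat.card D ≤ Nat.card K := Nat.card_le_card_of_injective _ hev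
  let ι : Option U → D := fun o => match o with
    | none => 0
    | some u => ⟨((u : (Module.End F K)ˣ) : Module.End F K), hUD u u.2⟩
  have hι : Function.Injective ι := by
    intro a b hab
    cases a with
    | none =>
      cases b with
      | none => rfl
      | some u =>
        exfalso
        have := congrArg Subtype.val hab
        exact (Units.ne_zero (u : (Module.End F K)ˣ)) this.symm
    | some u =>
      cases b with
      | none =>
        exfalso
        have := congrArg Subtype.val hab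
        exact (Units.ne_zero (u : (Module.End F K)ˣ)) this
      | some u' =>
        have := congrArg Subtype.val hab
        exact congrArg some (Subtype.ext (Units.ext this))
  have hcardO : Nat.card (Option U) = Nat.card K := by
    rw [Finite.card_option, hcard, Nat.card_eq_fintype_card]
    have : 0 < Fintype.card K := Fintype.card_pos
    omega
  have hιb : Function.Bijective ι := hι.bijective_of_nat_card_le (by rw [hcardO]; exact hDle)
  have hDU : ∀ d : D, d ≠ 0 →
      ∃ u : U, ((u : (Module.End F K)ˣ) : Module.End F K) = (d : Module.End F K) := by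
    intro d hd
    obtain ⟨o, ho⟩ := hιb.2 d
    cases o with
    | none => exact absurd ho.symm hd
    | some u => exact ⟨u, congrArg Subtype.val ho⟩
  have hDcard : Nat.card D = Nat.card K := by
    rw [← hcardO]; exact (Nat.card_congr (Equiv.ofBijective ι hιb)).symm
  have hDcomm : ∀ a b : D, a * b = b * a := by
    intro a b
    by_cases ha : a = 0
    · rw [ha, zero_mul, mul_zero]
    by_cases hb : b = 0
    · rw [hb, zero_mul, mul_zero]
    obtain ⟨u, hu⟩ := hDU a ha
    obtain ⟨u', hu'⟩ := hDU b hb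
    apply Subtype.ext
    show (a : Module.End F K) * (b : Module.End F K) = (b : Module.End F K) * (a : Module.End F K)
    rw [← hu, ← hu', ← Units.val_mul, ← Units.val_mul]
    congr 1
    haveI := hU
    exact congrArg Subtype.val (mul_comm' u u')
  have hDfield : IsField D :=
    { exists_pair_ne := ⟨0, 1, fun h => by
          have h' : (0 : Module.End F K) = 1 := congrArg Subtype.val h
          exact zero_ne_one h'⟩
      mul_comm := hDcomm
      mul_inv_cancel := by
        intro a ha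
        obtain ⟨u, hu⟩ := hDU a ha
        refine ⟨⟨(((u⁻¹ : U) : (Module.End F K)ˣ) : Module.End F K), hUD _ (u⁻¹).2⟩, ?_⟩
        apply Subtype.ext
        show (a : Module.End F K) * (((u⁻¹ : U) : (Module.End F K)ˣ) : Module.End F K) = 1
        rw [← hu, ← Units.val_mul, ← Subgroup.coe_mul, mul_inv_cancel]; rfl }
  letI : Field D := hDfield.toField
  haveI : Fintype D := Fintype.ofFinite D
  have hDcardF : Fintype.card D = Fintype.card K := by
    rw [Fintype.card_eq_nat_card, hDcard, Nat.card_eq_fintype_card]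
  haveI hsK : Polynomial.IsSplittingField F K (Polynomial.X ^ Fintype.card K - Polynomial.X) :=
    FiniteField.isSplittingField_sub K F
  haveI hsD : Polynomial.IsSplittingField F D (Polynomial.X ^ Fintype.card K - Polynomial.X) := by
    have := FiniteField.isSplittingField_sub D F
    rwa [hDcardF] at this
  let φ : K ≃ₐ[F] D :=
    (Polynomial.IsSplittingField.algEquiv K
      (Polynomial.X ^ Fintype.card K - Polynomial.X : Polynomial F)).trans
    (Polynomial.IsSplittingField.algEquiv D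
      (Polynomial.X ^ Fintype.card K - Polynomial.X : Polynomial F)).symm
  obtain ⟨ψ, hψ⟩ : ∃ ψ : K → Module.End F K, ∀ a, ψ a = ((φ a : D) : Module.End F K) :=
    ⟨fun a => ((φ a : D) : Module.End F K), fun a => rfl⟩
  have hψmul : ∀ a b, ψ (a * b) = ψ a * ψ b := by
    intro a b; rw [hψ, hψ, hψ, map_mul]; rfl
  have hψadd : ∀ a b, ψ (a + b) = ψ a + ψ b := by
    intro a b; rw [hψ, hψ, hψ, map_add]; rfl
  have hψone : ψ 1 = 1 := by rw [hψ, map_one]; rfl
  have hψzero : ψ 0 = 0 := by rw [hψ, map_zero]; rfl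
  have hψsmul : ∀ (c : F) a, ψ (c • a) = c • ψ a := by
    intro c a; rw [hψ, hψ, map_smul]; rfl
  have hψmem : ∀ a, ψ a ∈ D := fun a => by rw [hψ]; exact (φ a).2
  have hψsurj : ∀ d ∈ D, ∃ a, ψ a = d := fun d hd =>
    ⟨φ.symm ⟨d, hd⟩, by rw [hψ, AlgEquiv.apply_symm_apply]⟩
  have hψunit : ∀ a : K, a ≠ 0 → ψ a⁻¹ * ψ a = 1 := by
    intro a ha; rw [← hψmul, inv_mul_cancel₀ ha, hψone]
  let T : K →ₗ[F] K :=
    { toFun := fun a => ψ a 1
      map_add' := fun a b => by
        show ψ (a + b) 1 = ψ a 1 + ψ b 1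
        rw [hψadd]; rfl
      map_smul' := fun c a => by
        show ψ (c • a) 1 = c • ψ a 1
        rw [hψsmul]; rfl }
  have hTapp : ∀ a, T a = ψ a 1 := fun a => rfl
  have hTinj : Function.Injective T := by
    rw [← LinearMap.ker_eq_bot, LinearMap.ker_eq_bot']
    intro a ha
    by_contra ha0
    have h1 : (ψ a⁻¹ * ψ a) 1 = (1 : K) := by rw [hψunit a ha0]; rfl
    have h2 : (ψ a⁻¹ * ψ a) 1 = ψ a⁻¹ (ψ a 1) := rfl
    rw [h2, ← hTapp, ha, map_zero] at h1
    exact zero_ne_one h1
  have hTmul : ∀ a v, T (a * v) = ψ a (T v) := by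
    intro a v; rw [hTapp, hTapp, hψmul]; rfl
  obtain ⟨Te, hTe⟩ : ∃ Te : K ≃ₗ[F] K, ∀ v, Te v = T v :=
    ⟨LinearEquiv.ofInjectiveEndo T hTinj, fun v => by rw [LinearEquiv.coe_ofInjectiveEndo]⟩
  let gT : (Module.End F K)ˣ :=
    ⟨T, (Te.symm : K →ₗ[F] K), LinearMap.ext fun v => by
        show T (Te.symm v) = v
        rw [← hTe, LinearEquiv.apply_symm_apply],
      LinearMap.ext fun v => by
        show Te.symm (T v) = v
        rw [← hTe, LinearEquiv.symm_apply_apply]⟩
  have hgT : ∀ v, (gT : Module.End F K) v = T v := fun v => rfl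
  have hkey : ∀ (u : (Module.End F K)ˣ) (a : Kˣ), (u : Module.End F K) = ψ a →
      (MulAut.conj gT⁻¹).toMonoidHom u = S5739.mu F K a := by
    intro u a hua
    show gT⁻¹ * u * gT⁻¹⁻¹ = _
    rw [inv_inv, mul_assoc, inv_mul_eq_iff_eq_mul]
    apply S5739.unit_ext
    intro v
    rw [S5739.mul_apply', S5739.mul_apply', hgT, hgT, S5739.mu_apply, hTmul, hua]
  refine ⟨gT⁻¹, ?_⟩
  show U.map (MulAut.conj gT⁻¹).toMonoidHom = (S5739.mu F K).range
  apply le_antisymm
  · rintro x ⟨u, hu, rfl⟩
    have hud := hUD u hu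
    obtain ⟨a, ha⟩ := hψsurj _ hud
    have ha0 : a ≠ 0 := by
      intro h0
      rw [h0, hψzero] at ha
      exact (Units.ne_zero u) ha.symm
    exact ⟨Units.mk0 a ha0, (hkey u (Units.mk0 a ha0) ha.symm).symm⟩
  · rintro x ⟨a, rfl⟩
    have hne : (⟨ψ a, hψmem a⟩ : D) ≠ 0 := by
      intro h0
      have h1 : ψ (a:K) = 0 := congrArg Subtype.val h0
      have h2 := hψunit (a:K) a.ne_zero
      rw [h1, mul_zero] at h2
      exact zero_ne_one h2
    obtain ⟨u, hu⟩ := hDU _ hne
    exact ⟨u, u.2, hkey u a hu⟩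

end Cfsg.Agent.S5947
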