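-- S0128: proof by helper7
import Cfsg.Statements.S0128
import Mathlib
import Cfsg.Agent.S0124

set_option autoImplicit false
open Cfsg

namespace Cfsg.Agent.S0128

universe u

open scoped commutatorElement

theorem comm_sup {N : Type*} [Group N] (A B : Subgroup N)
    (hA : ∀ a ∈ A, ∀ a' ∈ A, a * a' = a' * a) (hB : ∀ b ∈ B, ∀ b' ∈ B, b * b' = b' * b)
    (hAB : ∀ a ∈ A, ∀ b ∈ B, a * b = b * a) :
    ∀ x ∈ A ⊔ B, ∀ y ∈ A ⊔ B, x * y = y * x := by
  have h1 : A ⊔ B ≤ Subgroup.centralizer (A : Set N) :=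
    sup_le (fun a ha => Subgroup.mem_centralizer_iff.mpr (fun a' ha' => hA a' ha' a ha))
      (fun b hb => Subgroup.mem_centralizer_iff.mpr (fun a ha => hAB a ha b hb))
  have h2 : A ⊔ B ≤ Subgroup.centralizer (B : Set N) :=
    sup_le (fun a ha => Subgroup.mem_centralizer_iff.mpr (fun b hb => (hAB a ha b hb).symm))
      (fun b hb => Subgroup.mem_centralizer_iff.mpr (fun b' hb' => hB b' hb' b hb))
  have h3 : A ⊔ B ≤ Subgroup.centralizer ((A ⊔ B : Subgroup N) : Set N) :=
    sup_le (Subgroup.le_centralizer_iff.mp h1) (Subgroup.le_centralizer_iff.mp h2)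
  intro x hx y hy
  exact (Subgroup.mem_centralizer_iff.mp (h3 hx) y hy).symm

theorem comm_adj {N : Type*} [Group N] (E : Subgroup N)
    (hE : ∀ a ∈ E, ∀ a' ∈ E, a * a' = a' * a) (c : N) (hc : ∀ a ∈ E, a * c = c * a) :
    ∀ x ∈ E ⊔ Subgroup.zpowers c, ∀ y ∈ E ⊔ Subgroup.zpowers c, x * y = y * x := by
  refine comm_sup E (Subgroup.zpowers c) hE ?_ ?_
  · intro b hb b' hb'
    obtain ⟨i, rfl⟩ := Subgroup.mem_zpowers_iff.mp hb
    obtain ⟨j, rfl⟩ := Subgroup.mem_zpowers_iff.mp hb'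
    exact zpow_mul_comm c i j
  · intro a ha b hb
    obtain ⟨i, rfl⟩ := Subgroup.mem_zpowers_iff.mp hb
    exact ((show Commute a c from hc a ha).zpow_right i).eq

theorem isComm_of {N : Type*} [Group N] (E : Subgroup N)
    (hE : ∀ a ∈ E, ∀ a' ∈ E, a * a' = a' * a) : IsMulCommutative E :=
  ⟨⟨fun a b => Subtype.ext (hE a a.2 b b.2)⟩⟩

theorem lt_card {R : Type*} [Group R] [Finite R] {p : ℕ} [Fact p.Prime] (hR : IsPGroup p R)
    (H K : Subgroup R) (hle : H ≤ K) (hne : H ≠ K) : p * Nat.card H ≤ Nat.card K := by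
  obtain ⟨j, hj⟩ := (hR.to_subgroup H).exists_card_eq
  obtain ⟨k, hk⟩ := (hR.to_subgroup K).exists_card_eq
  have hlt : Nat.card H < Nat.card K := by
    by_contra hcon
    exact hne (Subgroup.eq_of_le_of_card_ge hle (not_lt.mp hcon))
  rw [hj, hk] at hlt ⊢
  have hp1 : 1 < p := (Fact.out : p.Prime).one_lt
  have hjk : j < k := (Nat.pow_lt_pow_iff_right hp1).mp hlt
  calc p * p ^ j = p ^ (j + 1) := by rw [pow_succ, mul_comm]
    _ ≤ p ^ k := Nat.pow_le_pow_right (by omega) hjk

theorem comm_ne {R : Type*} [Group R] [Finite R] {p : ℕ} [Fact p.Prime] (hR : IsPGroup p R)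
    (N : Subgroup R) (hN : N ≠ ⊥) : ⁅N, (⊤ : Subgroup R)⁆ ≠ N := by
  intro heq
  obtain ⟨n, hn⟩ := Subgroup.nilpotent_iff_lowerCentralSeries.mp hR.isNilpotent
  have hle : ∀ k : ℕ, N ≤ Subgroup.lowerCentralSeries (⊤ : Subgroup R) k := by
    intro k
    induction k with
    | zero => exact le_top
    | succ k ih =>
      rw [Subgroup.lowerCentralSeries_succ]
      calc N = ⁅N, (⊤ : Subgroup R)⁆ := heq.symm
        _ ≤ _ := Subgroup.commutator_mono ih le_rfl
  exact hN (le_bot_iff.mp (hn ▸ hle n))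

theorem step {R : Type*} [Group R] [Finite R] {p : ℕ} [Fact p.Prime] (hR : IsPGroup p R)
    (N : Subgroup R) [N.Normal] (k : ℕ) (hN : Nat.card N ≤ p ^ (k + 1)) :
    Nat.card (⁅N, (⊤ : Subgroup R)⁆ : Subgroup R) ≤ p ^ k := by
  have hp0 : 0 < p := (Fact.out : p.Prime).pos
  by_cases hb : N = ⊥
  · rw [hb, Subgroup.commutator_bot_left, Subgroup.card_bot]
    exact Nat.one_le_pow _ _ hp0
  · have h1 := lt_card hR ⁅N, (⊤ : Subgroup R)⁆ N (Subgroup.commutator_le_left N ⊤) (comm_ne hR N hb)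
    have h2 : p * Nat.card (⁅N, (⊤ : Subgroup R)⁆ : Subgroup R) ≤ p * p ^ k := by
      calc p * Nat.card (⁅N, (⊤ : Subgroup R)⁆ : Subgroup R) ≤ Nat.card N := h1
        _ ≤ p ^ (k + 1) := hN
        _ = p * p ^ k := by rw [pow_succ, mul_comm]
    exact Nat.le_of_mul_le_mul_left h2 hp0

theorem chain3 {R : Type*} [Group R] [Finite R] {p : ℕ} [Fact p.Prime] (hR : IsPGroup p R)
    (N : Subgroup R) [N.Normal] (hN : Nat.card N ≤ p ^ 3) :
    ⁅⁅⁅N, (⊤ : Subgroup R)⁆, (⊤ : Subgroup R)⁆, (⊤ : Subgroup R)⁆ = ⊥ := by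
  have h1 := step hR N 2 hN
  have h2 := step hR ⁅N, (⊤ : Subgroup R)⁆ 1 h1
  have h3 := step hR ⁅⁅N, (⊤ : Subgroup R)⁆, (⊤ : Subgroup R)⁆ 0 h2
  rw [pow_zero] at h3
  exact Subgroup.eq_bot_of_card_le _ h3

theorem comm_le {R : Type*} [Group R] (N : Subgroup R) [N.Normal] (y : R)
    (h : N ⊔ Subgroup.zpowers y = ⊤) : commutator R ≤ ⁅N, (⊤ : Subgroup R)⁆ := by
  obtain ⟨K, hK⟩ : ∃ K : Subgroup R, K = ⁅N, (⊤ : Subgroup R)⁆ := ⟨_, rfl⟩
  haveI : K.Normal := by rw [hK]; infer_instance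
  rw [← hK]
  have hN : ∀ n ∈ N, ∀ g : R, QuotientGroup.mk' K n * QuotientGroup.mk' K g =
      QuotientGroup.mk' K g * QuotientGroup.mk' K n := by
    intro n hn g
    have h1 : QuotientGroup.mk' K ⁅n, g⁆ = 1 := by
      rw [QuotientGroup.mk'_apply, QuotientGroup.eq_one_iff, hK]
      exact Subgroup.commutator_mem_commutator hn (Subgroup.mem_top g)
    rw [map_commutatorElement, commutatorElement_eq_one_iff_commute] at h1
    exact h1.eq
  have aux : ∀ c : R ⧸ K, (∀ n ∈ N, QuotientGroup.mk' K n * c = c * QuotientGroup.mk' K n) →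
      (QuotientGroup.mk' K y * c = c * QuotientGroup.mk' K y) →
      ∀ g : R, QuotientGroup.mk' K g * c = c * QuotientGroup.mk' K g := by
    intro c h1 h2 g
    have hle : N ⊔ Subgroup.zpowers y ≤ (Subgroup.centralizer {c}).comap (QuotientGroup.mk' K) := by
      refine sup_le (fun n hn => ?_) (Subgroup.zpowers_le.mpr ?_)
      · rw [Subgroup.mem_comap, Subgroup.mem_centralizer_singleton_iff]; exact h1 n hn
      · rw [Subgroup.mem_comap, Subgroup.mem_centralizer_singleton_iff]; exact h2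
    have hg : g ∈ (Subgroup.centralizer {c}).comap (QuotientGroup.mk' K) :=
      hle (by rw [h]; exact Subgroup.mem_top g)
    rw [Subgroup.mem_comap, Subgroup.mem_centralizer_singleton_iff] at hg
    exact hg
  have hy : ∀ g : R, QuotientGroup.mk' K g * QuotientGroup.mk' K y =
      QuotientGroup.mk' K y * QuotientGroup.mk' K g :=
    aux (QuotientGroup.mk' K y) (fun n hn => hN n hn y) rfl
  rw [commutator_def, Subgroup.commutator_le]
  intro g₁ _ g₂ _
  have hc : QuotientGroup.mk' K g₁ * QuotientGroup.mk' K g₂ =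
      QuotientGroup.mk' K g₂ * QuotientGroup.mk' K g₁ :=
    aux (QuotientGroup.mk' K g₂) (fun n hn => hN n hn g₂) (hy g₂).symm g₁
  have h1 : QuotientGroup.mk' K ⁅g₁, g₂⁆ = 1 := by
    rw [map_commutatorElement, commutatorElement_eq_one_iff_commute]; exact hc
  rwa [QuotientGroup.mk'_apply, QuotientGroup.eq_one_iff] at h1

theorem e3 {N : Type*} [Group N] [Finite N] {p : ℕ} [Fact p.Prime] (hN : IsPGroup p N)
    (hrk : ∀ E : Subgroup N, (∀ a ∈ E, ∀ a' ∈ E, a * a' = a' * a) → Nat.card E ≤ p ^ 2) :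
    Nat.card N ≤ p ^ 3 := by
  by_contra hcon
  have hcard : p ^ 3 < Nat.card N := not_le.mp hcon
  have hp0 : 0 < p := (Fact.out : p.Prime).pos
  have hp1 : 1 < p := (Fact.out : p.Prime).one_lt
  have hp23 : p ^ 2 ≤ p ^ 3 := Nat.pow_le_pow_right hp0 (by norm_num)
  have hp2 : p ^ 2 = p * p := by ring
  have hZc : ∀ a ∈ Subgroup.center N, ∀ a' ∈ Subgroup.center N, a * a' = a' * a :=
    fun a ha a' _ => (Subgroup.mem_center_iff.mp ha a').symm
  have hZ2 : Nat.card (Subgroup.center N) ≤ p ^ 2 := hrk _ hZc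
  have hZbot : Subgroup.center N ≠ ⊥ := by
    haveI : Nontrivial N := Finite.one_lt_card_iff_nontrivial.mp (by
      have : 1 ≤ p ^ 3 := Nat.one_le_pow _ _ hp0
      omega)
    haveI := hN.center_nontrivial
    exact (Subgroup.nontrivial_iff_ne_bot _).mp inferInstance
  have hZp : p ≤ Nat.card (Subgroup.center N) := by
    have := lt_card hN ⊥ (Subgroup.center N) bot_le (Ne.symm hZbot)
    rwa [Subgroup.card_bot, mul_one] at this
  obtain ⟨n₀, hn₀⟩ : ∃ n₀ : N, n₀ ∉ Subgroup.center N := by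
    by_contra h
    have hT : Subgroup.center N = ⊤ :=
      (Subgroup.eq_top_iff' _).mpr (fun x => by by_contra hx; exact h ⟨x, hx⟩)
    rw [hT, Subgroup.card_top] at hZ2
    omega
  obtain ⟨b, hbZ, hcomm⟩ : ∃ b : N, b ∉ Subgroup.center N ∧
      ∀ n : N, n * b * n⁻¹ * b⁻¹ ∈ Subgroup.center N := by
    haveI : Nontrivial (N ⧸ Subgroup.center N) :=
      ⟨⟨(n₀ : N ⧸ Subgroup.center N), 1, fun h => hn₀ ((QuotientGroup.eq_one_iff n₀).mp h)⟩⟩
    have hQ : IsPGroup p (N ⧸ Subgroup.center N) := hN.to_quotient _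
    haveI := hQ.center_nontrivial
    obtain ⟨⟨q, hq⟩, hq1⟩ := exists_ne (1 : Subgroup.center (N ⧸ Subgroup.center N))
    obtain ⟨b, rfl⟩ := QuotientGroup.mk_surjective q
    refine ⟨b, fun h => hq1 (Subtype.ext ((QuotientGroup.eq_one_iff b).mpr h)), fun n => ?_⟩
    have h1 := Subgroup.mem_center_iff.mp hq (n : N ⧸ Subgroup.center N)
    rw [← QuotientGroup.eq_one_iff]
    have h2 : ((n * b * n⁻¹ * b⁻¹ : N) : N ⧸ Subgroup.center N) =
        (n : N ⧸ Subgroup.center N) * (b : N ⧸ Subgroup.center N) *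
          (n : N ⧸ Subgroup.center N)⁻¹ * (b : N ⧸ Subgroup.center N)⁻¹ := rfl
    rw [h2, h1]
    group
  have hbc : ∀ a ∈ Subgroup.center N, a * b = b * a :=
    fun a ha => (Subgroup.mem_center_iff.mp ha b).symm
  have hE1c := comm_adj (Subgroup.center N) hZc b hbc
  obtain ⟨E1, hE1def⟩ : ∃ E1 : Subgroup N, E1 = Subgroup.center N ⊔ Subgroup.zpowers b :=
    ⟨_, rfl⟩
  rw [← hE1def] at hE1c
  have hE1card : Nat.card E1 ≤ p ^ 2 := hrk E1 hE1c
  have hbE1 : b ∈ E1 := by rw [hE1def]; exact Subgroup.mem_sup_right (Subgroup.mem_zpowers b)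
  have hZE1 : Subgroup.center N ≤ E1 := by rw [hE1def]; exact le_sup_left
  have hZE1card : p * Nat.card (Subgroup.center N) ≤ Nat.card E1 :=
    lt_card hN _ E1 hZE1 (fun h => hbZ (by rw [h]; exact hbE1))
  have hZle : Nat.card (Subgroup.center N) ≤ p := by
    have : p * Nat.card (Subgroup.center N) ≤ p * p := by
      rw [← hp2]; exact le_trans hZE1card hE1card
    exact Nat.le_of_mul_le_mul_left this hp0
  obtain ⟨φ, hφ⟩ : ∃ φ : N →* N, ∀ n, φ n = n * b * n⁻¹ * b⁻¹ := by
    refine ⟨MonoidHom.mk' (fun n => n * b * n⁻¹ * b⁻¹) ?_, fun n => rfl⟩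
    intro n m
    have hc := Subgroup.mem_center_iff.mp (hcomm m)
    show n * m * b * (n * m)⁻¹ * b⁻¹ = n * b * n⁻¹ * b⁻¹ * (m * b * m⁻¹ * b⁻¹)
    calc n * m * b * (n * m)⁻¹ * b⁻¹ = n * (m * b * m⁻¹ * b⁻¹) * (b * n⁻¹ * b⁻¹) := by group
      _ = (m * b * m⁻¹ * b⁻¹) * n * (b * n⁻¹ * b⁻¹) := by rw [hc n]
      _ = (m * b * m⁻¹ * b⁻¹) * (n * b * n⁻¹ * b⁻¹) := by group
      _ = n * b * n⁻¹ * b⁻¹ * (m * b * m⁻¹ * b⁻¹) := (hc _).symm
  have hrange : φ.range ≤ Subgroup.center N := by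
    rintro _ ⟨n, rfl⟩
    rw [hφ]; exact hcomm n
  have hidx : φ.ker.index ≤ p := by
    rw [Subgroup.index_ker]
    exact le_trans (Subgroup.card_le_of_le hrange) hZle
  have hker : p ^ 2 < Nat.card φ.ker := by
    have h1 := Subgroup.card_mul_index φ.ker
    have h2 : Nat.card φ.ker * φ.ker.index ≤ Nat.card φ.ker * p := Nat.mul_le_mul_left _ hidx
    by_contra hcon2
    have h3 : Nat.card φ.ker ≤ p ^ 2 := not_lt.mp hcon2
    have h4 : Nat.card φ.ker * p ≤ p ^ 2 * p := Nat.mul_le_mul_right _ h3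
    have h5 : p ^ 2 * p = p ^ 3 := by ring
    exact absurd (calc p ^ 3 < Nat.card N := hcard
      _ = Nat.card φ.ker * φ.ker.index := h1.symm
      _ ≤ Nat.card φ.ker * p := h2
      _ ≤ p ^ 2 * p := h4
      _ = p ^ 3 := h5) (lt_irrefl _)
  have hE1ker : E1 ≤ φ.ker := by
    rw [hE1def]
    refine sup_le (fun z hz => ?_) (Subgroup.zpowers_le.mpr ?_)
    · rw [MonoidHom.mem_ker, hφ]
      have := Subgroup.mem_center_iff.mp hz b
      rw [← this]; group
    · rw [MonoidHom.mem_ker, hφ]; group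
  obtain ⟨c, hcker, hcE1⟩ : ∃ c ∈ φ.ker, c ∉ E1 := by
    by_contra h
    have hle : φ.ker ≤ E1 := fun c hc => by
      by_contra hc'
      exact h ⟨c, hc, hc'⟩
    have := Subgroup.card_le_of_le hle
    omega
  have hcb : c * b = b * c := by
    have h1 : c * b * c⁻¹ * b⁻¹ = 1 := by rw [← hφ]; exact MonoidHom.mem_ker.mp hcker
    calc c * b = (c * b * c⁻¹ * b⁻¹) * (b * c) := by group
      _ = b * c := by rw [h1, one_mul]
  have hE1cen : ∀ a ∈ E1, a * c = c * a := by
    have hle : E1 ≤ Subgroup.centralizer ({c} : Set N) := by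
      rw [hE1def]
      refine sup_le (fun z hz => ?_) (Subgroup.zpowers_le.mpr ?_)
      · rw [Subgroup.mem_centralizer_singleton_iff]
        exact (Subgroup.mem_center_iff.mp hz c).symm
      · rw [Subgroup.mem_centralizer_singleton_iff]
        exact hcb.symm
    intro a ha
    exact Subgroup.mem_centralizer_singleton_iff.mp (hle ha)
  have hE2c := comm_adj E1 hE1c c hE1cen
  have hE2card : Nat.card (E1 ⊔ Subgroup.zpowers c : Subgroup N) ≤ p ^ 2 := hrk _ hE2c
  have hE12 : p * Nat.card E1 ≤ Nat.card (E1 ⊔ Subgroup.zpowers c : Subgroup N) :=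
    lt_card hN E1 _ le_sup_left
      (fun h => hcE1 (by rw [h]; exact Subgroup.mem_sup_right (Subgroup.mem_zpowers c)))
  have h6 : p * (p * p) ≤ p * Nat.card E1 :=
    Nat.mul_le_mul_left _ (le_trans (Nat.mul_le_mul_left _ hZp) hZE1card)
  have h7 : p * (p * p) ≤ p ^ 2 := le_trans h6 (le_trans hE12 hE2card)
  have h8 : p ^ 2 < p * (p * p) := by
    calc p ^ 2 = 1 * (p * p) := by ring
      _ < p * (p * p) := Nat.mul_lt_mul_of_pos_right hp1 (Nat.mul_pos hp0 hp0)
  omega

theorem hrk_sub {R : Type*} [Group R] [Finite R] {p : ℕ} (H : Subgroup R)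
    (hrk : ∀ E : Subgroup R, Cfsg.IsElementaryAbelian p E → Nat.card E ≤ p ^ 2) :
    ∀ E : Subgroup H, Cfsg.IsElementaryAbelian p E → Nat.card E ≤ p ^ 2 := by
  intro E hE
  have h1 : Cfsg.IsElementaryAbelian p (E.map H.subtype) := by
    haveI := hE.1
    refine ⟨inferInstance, ?_⟩
    rintro _ ⟨a, ha, rfl⟩
    rw [← map_pow, hE.2 a ha, map_one]
  have h2 := hrk _ h1
  rwa [Subgroup.card_map_of_injective H.subtype_injective] at h2

theorem main (p : ℕ) [Fact p.Prime] (hp : 3 < p) : ∀ n : ℕ, ∀ (R : Type u) [Group R] [Finite R],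
    Nat.card R = n → IsPGroup p R →
    (∀ E : Subgroup R, Cfsg.IsElementaryAbelian p E → Nat.card E ≤ p ^ 2) →
    ∀ x y : R, x ^ p = 1 → y ^ p = 1 → (x * y) ^ p = 1 := by
  intro n
  induction n using Nat.strong_induction_on with
  | _ n ih =>
    intro R _ _ hn hR hrk x y hx hy
    by_cases hH : Subgroup.closure ({x, y} : Set R) = ⊤
    · by_cases hX : Subgroup.zpowers x = ⊤
      · have hyx : y ∈ Subgroup.zpowers x := by rw [hX]; exact Subgroup.mem_top y
        obtain ⟨i, rfl⟩ := Subgroup.mem_zpowers_iff.mp hyx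
        have hc : Commute x (x ^ i) := (Commute.refl x).zpow_right i
        rw [hc.mul_pow, hx, hy, one_mul]
      · obtain ⟨M, hM, hxM⟩ := (eq_top_or_exists_le_coatom (Subgroup.zpowers x)).resolve_left hX
        haveI : Group.IsNilpotent R := hR.isNilpotent
        haveI hMn : M.Normal :=
          Subgroup.NormalizerCondition.normal_of_coatom M Group.normalizerCondition_of_isNilpotent hM
        have hMlt : Nat.card M < n := by
          rw [← hn]
          rcases lt_or_eq_of_le (Subgroup.card_le_card_group M) with h | h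
          · exact h
          · exact absurd (Subgroup.eq_top_of_card_eq M h) hM.1
        have ihM : ∀ a b : M, a ^ p = 1 → b ^ p = 1 → (a * b) ^ p = 1 :=
          ih (Nat.card M) hMlt M rfl (hR.to_subgroup M) (hrk_sub M hrk)
        obtain ⟨N, hNdef⟩ : ∃ N : Subgroup R, ∀ m : R, m ∈ N ↔ (m ∈ M ∧ m ^ p = 1) := by
          refine ⟨{ carrier := {m | m ∈ M ∧ m ^ p = 1}
                    mul_mem' := ?_
                    one_mem' := ⟨M.one_mem, one_pow p⟩
                    inv_mem' := ?_ }, fun m => Iff.rfl⟩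
          · rintro a b ⟨ha, ha'⟩ ⟨hb, hb'⟩
            refine ⟨M.mul_mem ha hb, ?_⟩
            have h := ihM ⟨a, ha⟩ ⟨b, hb⟩ (Subtype.ext (by simpa using ha'))
              (Subtype.ext (by simpa using hb'))
            have h' := congrArg Subtype.val h
            simpa using h'
          · rintro a ⟨ha, ha'⟩
            exact ⟨M.inv_mem ha, by rw [inv_pow, ha', inv_one]⟩
        haveI hNn : N.Normal := by
          constructor
          intro m hm g
          rw [hNdef] at hm ⊢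
          exact ⟨hMn.conj_mem m hm.1 g, by rw [conj_pow, hm.2, mul_one, mul_inv_cancel]⟩
        have hxN : x ∈ N := (hNdef x).mpr ⟨hxM (Subgroup.mem_zpowers x), hx⟩
        have hN3 : Nat.card N ≤ p ^ 3 := by
          refine e3 (hR.to_subgroup N) ?_
          intro E hE
          have h1 : Cfsg.IsElementaryAbelian p (E.map N.subtype) := by
            refine ⟨isComm_of _ ?_, ?_⟩
            · rintro _ ⟨a, ha, rfl⟩ _ ⟨a', ha', rfl⟩
              rw [← map_mul, ← map_mul, hE a ha a' ha']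
            · rintro _ ⟨a, _, rfl⟩
              exact ((hNdef _).mp a.2).2
          have h2 := hrk _ h1
          rwa [Subgroup.card_map_of_injective N.subtype_injective] at h2
        have hNy : N ⊔ Subgroup.zpowers y = ⊤ := by
          rw [eq_top_iff, ← hH, Subgroup.closure_le]
          intro g hg
          rcases hg with hg | hg
          · rw [hg]; exact Subgroup.mem_sup_left hxN
          · rw [Set.mem_singleton_iff.mp hg]
            exact Subgroup.mem_sup_right (Subgroup.mem_zpowers _)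
        have hcl : ⁅⁅commutator R, (⊤ : Subgroup R)⁆, (⊤ : Subgroup R)⁆ = ⊥ := by
          rw [eq_bot_iff, ← chain3 hR N hN3]
          exact Subgroup.commutator_mono (Subgroup.commutator_mono (comm_le N y hNy) le_rfl) le_rfl
        exact Cfsg.Agent.S0124.result hp hR hcl (x * y)
          (Subgroup.mul_mem _ (Subgroup.subset_closure hx) (Subgroup.subset_closure hy))
    · obtain ⟨H, hHdef⟩ : ∃ H : Subgroup R, H = Subgroup.closure ({x, y} : Set R) := ⟨_, rfl⟩
      have hxH : x ∈ H := by rw [hHdef]; exact Subgroup.subset_closure (Set.mem_insert _ _)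
      have hyH : y ∈ H := by
        rw [hHdef]; exact Subgroup.subset_closure (Set.mem_insert_of_mem _ rfl)
      have hHlt : Nat.card H < n := by
        rw [← hn]
        rcases lt_or_eq_of_le (Subgroup.card_le_card_group H) with h | h
        · exact h
        · exact absurd (hHdef.symm.trans (Subgroup.eq_top_of_card_eq H h)) hH
      have h := ih (Nat.card H) hHlt H rfl (hR.to_subgroup H) (hrk_sub H hrk) ⟨x, hxH⟩ ⟨y, hyH⟩
        (Subtype.ext (by simpa using hx)) (Subtype.ext (by simpa using hy))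
      have h' := congrArg Subtype.val h
      simpa using h'

/-- For p > 3, in a p-group of p-rank at most 2 the elements of order dividing p generate a subgroup of exponent dividing p. -/
theorem result {R : Type*} [Group R] [Finite R] {p : ℕ} [Fact p.Prime] (hp : 3 < p) (hR : IsPGroup p R) (hrk : ∀ E : Subgroup R, Cfsg.IsElementaryAbelian p E → Nat.card E ≤ p ^ 2) (g : R) (hg : g ∈ Subgroup.closure {x : R | x ^ p = 1}) : g ^ p = 1 := by
  have main' := main p hp (Nat.card R) R rfl hR hrk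
  refine Subgroup.closure_induction (p := fun g _ => g ^ p = 1) ?_ ?_ ?_ ?_ hg
  · intro x hx; exact hx
  · exact one_pow p
  · intro a b _ _ ha hb; exact main' a b ha hb
  · intro a _ ha; rw [inv_pow, ha, inv_one]

end Cfsg.Agent.S0128
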