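-- S0640: proof by helper7
import Cfsg.Statements.S0640
import Mathlib
import Cfsg.Agent.S0093
import Cfsg.Agent.S0128
import Cfsg.Agent.Helper8.Metacyclic4
import Cfsg.Agent.Helper8.PowFormula

set_option autoImplicit false
open Cfsg

namespace Cfsg.Agent.S0640

universe u

open scoped commutatorElement

theorem fix_pow {P : Type*} [Group P] (α : MulAut P) (x k : P) (h1 : α x = x * k) (h2 : α k = k)
    (j : ℕ) : (α ^ j) x = x * k ^ j := by
  induction j with
  | zero => simp
  | succ j ih =>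
    rw [pow_succ', MulAut.mul_apply, ih, map_mul, map_pow, h1, h2, pow_succ', mul_assoc]

theorem fix_of {P : Type*} [Group P] (α : MulAut P) (q m : ℕ) (hα : α ^ q = 1)
    (hc : Nat.Coprime q m) (x : P) (hk : (x⁻¹ * α x) ^ m = 1)
    (h2 : α (x⁻¹ * α x) = x⁻¹ * α x) : α x = x := by
  have h1 : α x = x * (x⁻¹ * α x) := by group
  have h3 := fix_pow α x (x⁻¹ * α x) h1 h2 q
  rw [hα, MulAut.one_apply] at h3
  have h4 : (x⁻¹ * α x) ^ q = 1 := by
    have : x * (x⁻¹ * α x) ^ q = x * 1 := by rw [mul_one]; exact h3.symm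
    exact mul_left_cancel this
  have h5 : (x⁻¹ * α x) ^ (Nat.gcd q m) = 1 := pow_gcd_eq_one.mpr ⟨h4, hk⟩
  rw [hc.gcd_eq_one, pow_one] at h5
  calc α x = x * (x⁻¹ * α x) := h1
    _ = x := by rw [h5, mul_one]

theorem comm_pow_one {G : Type*} [Group G] (x y : G) (n : ℕ)
    (hcx : x * (x * y * x⁻¹ * y⁻¹) = (x * y * x⁻¹ * y⁻¹) * x) (hxn : x ^ n * y = y * x ^ n) :
    (x * y * x⁻¹ * y⁻¹) ^ n = 1 := by
  have key : ∀ m : ℕ, x ^ m * y * (x ^ m)⁻¹ = (x * y * x⁻¹ * y⁻¹) ^ m * y := by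
    intro m
    induction m with
    | zero => simp
    | succ m ih =>
      have hcm : x * (x * y * x⁻¹ * y⁻¹) ^ m = (x * y * x⁻¹ * y⁻¹) ^ m * x :=
        ((show Commute x (x * y * x⁻¹ * y⁻¹) from hcx).pow_right m).eq
      calc x ^ (m + 1) * y * (x ^ (m + 1))⁻¹ = x * (x ^ m * y * (x ^ m)⁻¹) * x⁻¹ := by
            rw [pow_succ']; group
        _ = x * ((x * y * x⁻¹ * y⁻¹) ^ m * y) * x⁻¹ := by rw [ih]
        _ = (x * (x * y * x⁻¹ * y⁻¹) ^ m) * (y * x⁻¹) := by
            simp only [mul_assoc]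
        _ = (x * y * x⁻¹ * y⁻¹) ^ m * x * (y * x⁻¹) := by rw [hcm]
        _ = (x * y * x⁻¹ * y⁻¹) ^ m * ((x * y * x⁻¹ * y⁻¹) * y) := by
            simp only [mul_assoc, inv_mul_cancel, mul_one]
        _ = (x * y * x⁻¹ * y⁻¹) ^ (m + 1) * y := by
            rw [pow_succ, mul_assoc ((x * y * x⁻¹ * y⁻¹) ^ m)]
  have h1 := key n
  have h2 : x ^ n * y * (x ^ n)⁻¹ = y := by rw [hxn, mul_assoc, mul_inv_cancel, mul_one]
  rw [h2] at h1
  have : (x * y * x⁻¹ * y⁻¹) ^ n * y = 1 * y := by rw [one_mul]; exact h1.symm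
  exact mul_right_cancel this

theorem pab {G : Type*} [Group G] (p : ℕ) (hp : p.Prime) (hp2 : p ≠ 2) (x y v : G)
    (hv : y * x = x * y * v) (hvy : Commute v y) (hvx : Commute v x) (hvp : v ^ p = 1) :
    (x * y) ^ p = x ^ p * y ^ p := by
  have h := Cfsg.Agent.Helper8.PowFormula.mul_pow_two x y v hv hvy hvx p
  have h3 : 2 < p := lt_of_le_of_ne hp.two_le (Ne.symm hp2)
  obtain ⟨t, ht⟩ := hp.dvd_choose_self (by norm_num : (2 : ℕ) ≠ 0) h3
  rw [h, ht, pow_mul, hvp, one_pow, mul_one]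

theorem count {R : Type*} [Group R] (α : MulAut R) (q : ℕ) [Fact q.Prime] (hα : α ^ q = 1)
    (S : Subgroup R) [Finite S] (hS : ∀ x ∈ S, α x ∈ S) :
    ∃ F : Subgroup S, (∀ x : S, x ∈ F ↔ α (x : R) = x) ∧ Nat.card S ≡ Nat.card F [MOD q] := by
  classical
  haveI : Fintype S := Fintype.ofFinite S
  obtain ⟨F, hF⟩ : ∃ F : Subgroup S, ∀ x : S, x ∈ F ↔ α (x : R) = x := by
    refine ⟨{ carrier := {x | α (x : R) = x}
              mul_mem' := ?_
              one_mem' := ?_
              inv_mem' := ?_ }, fun x => Iff.rfl⟩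
    · intro a b ha hb
      show α ((a * b : S) : R) = ((a * b : S) : R)
      rw [Subgroup.coe_mul, map_mul, ha, hb]
    · show α ((1 : S) : R) = ((1 : S) : R)
      rw [Subgroup.coe_one, map_one]
    · intro a ha
      show α ((a⁻¹ : S) : R) = ((a⁻¹ : S) : R)
      rw [Subgroup.coe_inv, map_inv, ha]
  refine ⟨F, hF, ?_⟩
  let f : Function.End S := fun x => ⟨α (x : R), hS x x.2⟩
  have hfpow : ∀ n : ℕ, ∀ x : S, (((f ^ n) x : S) : R) = (α ^ n) (x : R) := by
    intro n
    induction n with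
    | zero => intro x; rw [pow_zero, pow_zero]; rfl
    | succ n ih =>
      intro x
      rw [pow_succ, pow_succ]
      exact ih (f x)
  have hfq : f ^ q ^ 1 = 1 := by
    rw [pow_one]
    funext x
    apply Subtype.ext
    rw [hfpow, hα]
    rfl
  have h := Equiv.Perm.card_fixedPoints_modEq (f := f) (p := q) (n := 1) hfq
  rw [← Nat.card_eq_fintype_card, ← Nat.card_eq_fintype_card] at h
  have e2 : Nat.card F = Nat.card (Function.fixedPoints f) :=
    Nat.card_congr (Equiv.subtypeEquivRight (fun x => (hF x).trans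
      ⟨fun hx => (show f x = x from Subtype.ext hx),
       fun hx => congrArg Subtype.val (show f x = x from hx)⟩))
  rw [e2]
  exact h

theorem sq_sub_one (p : ℕ) (hp : 1 ≤ p) : p ^ 2 - 1 = (p - 1) * (p + 1) := by
  obtain ⟨k, rfl⟩ : ∃ k, p = k + 1 := ⟨p - 1, by omega⟩
  have : (k + 1) ^ 2 = (k + 1 - 1) * (k + 1 + 1) + 1 := by
    rw [Nat.add_sub_cancel]; ring
  exact Nat.sub_eq_of_eq_add this

theorem arith {p q a b : ℕ} (hp : p.Prime) (hq : q.Prime) (hqp : q ≠ p) (hba : b < a)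
    (hd : a - b ≤ 2) (h : p ^ a ≡ p ^ b [MOD q]) : q ∣ p ^ 2 - 1 := by
  have hle : p ^ b ≤ p ^ a := Nat.pow_le_pow_right hp.pos hba.le
  have h1 : q ∣ p ^ a - p ^ b := (Nat.modEq_iff_dvd' hle).mp h.symm
  have h2 : p ^ a - p ^ b = p ^ b * (p ^ (a - b) - 1) := by
    rw [Nat.mul_sub_one, ← pow_add, Nat.add_sub_cancel' hba.le]
  rw [h2] at h1
  rcases (Nat.Prime.dvd_mul hq).mp h1 with h3 | h3
  · exact absurd ((Nat.prime_dvd_prime_iff_eq hq hp).mp (hq.dvd_of_dvd_pow h3)) hqp
  · have hd1 : a - b = 1 ∨ a - b = 2 := by omega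
    rcases hd1 with hd1 | hd1
    · rw [hd1, pow_one] at h3
      have h4 : p - 1 ∣ p ^ 2 - 1 := ⟨p + 1, sq_sub_one p hp.one_le⟩
      exact dvd_trans h3 h4
    · rw [hd1] at h3; exact h3

theorem arith2 {p q : ℕ} (hp : p.Prime) (hp2 : p ≠ 2) (hq : q.Prime) (hqp : q ≠ p)
    (h : q ∣ p ^ 2 - 1) : q < p := by
  have hp3 : 2 < p := lt_of_le_of_ne hp.two_le (Ne.symm hp2)
  have h2 : p ^ 2 - 1 = (p - 1) * (p + 1) := sq_sub_one p hp.one_le
  rw [h2] at h
  rcases (Nat.Prime.dvd_mul hq).mp h with h3 | h3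
  · have := Nat.le_of_dvd (by omega) h3
    omega
  · have h4 := Nat.le_of_dvd (by omega) h3
    rcases Nat.lt_or_ge q (p + 1) with h5 | h5
    · omega
    · have h6 : q = p + 1 := le_antisymm h4 h5
      have hodd : Odd p := hp.odd_of_ne_two hp2
      have heven : Even q := by rw [h6]; exact hodd.add_one
      have : q = 2 := (hq.even_iff).mp heven
      omega

/-- For odd p, a prime q ≠ p dividing the order of the automorphism group of a p-group of rank at most 2 divides p² - 1 and is less than p. -/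
theorem result {R : Type*} [Group R] [Finite R] {p : ℕ} [Fact p.Prime] (hp : p ≠ 2) (hR : IsPGroup p R) (hrk : Cfsg.PRankLE p 2 R) (q : ℕ) (hq : q.Prime) (hqp : q ≠ p) (hdvd : q ∣ Nat.card (MulAut R)) : q ∣ p ^ 2 - 1 ∧ q < p := by
  have hpp : p.Prime := Fact.out
  haveI : Fact q.Prime := ⟨hq⟩
  haveI : Finite (MulAut R) :=
    Finite.of_injective (fun f : MulAut R => (f : R → R)) DFunLike.coe_injective
  obtain ⟨α, hα⟩ := exists_prime_orderOf_dvd_card' q hdvd
  have hαq : α ^ q = 1 := by rw [← hα]; exact pow_orderOf_eq_one α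
  have hα1 : α ≠ 1 := by
    intro h
    rw [h, orderOf_one] at hα
    exact hq.ne_one hα.symm
  have hcop : Nat.Coprime q p := (Nat.coprime_primes hq hpp).mpr hqp
  have hdiv : q ∣ p ^ 2 - 1 := by
    obtain ⟨H, hchar, hΦ, hHP, hC⟩ := Cfsg.Agent.S0093.result hR
    haveI := hchar
    haveI hHn : H.Normal := inferInstance
    have hαH : ∀ x : R, α x ∈ H ↔ x ∈ H := fun x => Cfsg.Agent.S0093.char_mem hchar α x
    have A1 : ∀ a ∈ H, ∀ g : R, a * g * a⁻¹ * g⁻¹ ∈ H ⊓ Subgroup.centralizer (H : Set R) :=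
      fun a ha g => hHP (Subgroup.commutator_mem_commutator ha (Subgroup.mem_top g))
    have A2 : ∀ a ∈ H, a ^ p ∈ Subgroup.centralizer (H : Set R) := by
      intro a ha
      have h1 : (⟨a, ha⟩ : H) ^ p ∈ frattini H :=
        Cfsg.Agent.Helper8.Meta.pow_mem_frattini (hR.to_subgroup H) ⟨a, ha⟩
      have h2 := hΦ (Subgroup.mem_map_of_mem H.subtype h1)
      simpa using h2
    have hcentral : ∀ c ∈ Subgroup.centralizer (H : Set R), ∀ h ∈ H, Commute c h :=
      fun c hc h hh => (Subgroup.mem_centralizer_iff.mp hc h hh).symm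
    have habH : ∀ x ∈ H, ∀ y ∈ H, (x * y) ^ p = x ^ p * y ^ p := by
      intro x hx y hy
      have hv := A1 y⁻¹ (H.inv_mem hy) x⁻¹
      have hvc := (Subgroup.mem_inf.mp hv).2
      refine pab p hpp hp x y (y⁻¹ * x⁻¹ * (y⁻¹)⁻¹ * (x⁻¹)⁻¹) (by group)
        (hcentral _ hvc y hy) (hcentral _ hvc x hx) ?_
      refine comm_pow_one y⁻¹ x⁻¹ p ?_ ?_
      · exact ((hcentral _ hvc y⁻¹ (H.inv_mem hy)).eq).symm
      · exact (hcentral _ (A2 y⁻¹ (H.inv_mem hy)) x⁻¹ (H.inv_mem hx)).eq
    obtain ⟨E, hEdef⟩ : ∃ E : Subgroup R, ∀ m : R, m ∈ E ↔ (m ∈ H ∧ m ^ p = 1) := by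
      refine ⟨{ carrier := {m | m ∈ H ∧ m ^ p = 1}
                mul_mem' := ?_
                one_mem' := ⟨H.one_mem, one_pow p⟩
                inv_mem' := ?_ }, fun m => Iff.rfl⟩
      · rintro a b ⟨ha, ha'⟩ ⟨hb, hb'⟩
        exact ⟨H.mul_mem ha hb, by rw [habH a ha b hb, ha', hb', one_mul]⟩
      · rintro a ⟨ha, ha'⟩
        exact ⟨H.inv_mem ha, by rw [inv_pow, ha', inv_one]⟩
    have hαE : ∀ x : R, α x ∈ E ↔ x ∈ E := by
      intro x
      rw [hEdef, hEdef, hαH, ← map_pow, EmbeddingLike.map_eq_one_iff]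
    have hmove : ∃ e ∈ E, α e ≠ e := by
      by_contra hcon
      have hfixE : ∀ e ∈ E, α e = e := fun e he => by
        by_contra h; exact hcon ⟨e, he, h⟩
      have hfixH : ∀ n : ℕ, ∀ x ∈ H, x ^ (p ^ n) = 1 → α x = x := by
        intro n
        induction n with
        | zero =>
          intro x _ hx
          rw [pow_zero, pow_one] at hx
          rw [hx, map_one]
        | succ n ih =>
          intro x hx hxp
          have h1 : α (x ^ p) = x ^ p := by
            apply ih (x ^ p) (H.pow_mem hx p)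
            rw [← pow_mul, ← pow_succ']
            exact hxp
          have hkH : x⁻¹ * α x ∈ H := H.mul_mem (H.inv_mem hx) ((hαH x).mpr hx)
          have hkp : (x⁻¹ * α x) ^ p = 1 := by
            rw [habH x⁻¹ (H.inv_mem hx) (α x) ((hαH x).mpr hx), ← map_pow, h1, inv_pow,
              inv_mul_cancel]
          exact fix_of α q p hαq hcop x hkp (hfixE _ ((hEdef _).mpr ⟨hkH, hkp⟩))
      have hfixH' : ∀ x ∈ H, α x = x := fun x hx => by
        obtain ⟨n, hn⟩ := hR x
        exact hfixH n x hx hn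
      have hall : ∀ x : R, α x = x := by
        intro x
        have hkC : x⁻¹ * α x ∈ Subgroup.centralizer (H : Set R) := by
          rw [Subgroup.mem_centralizer_iff]
          intro h hh
          have hconj : x * h * x⁻¹ ∈ H := hHn.conj_mem h hh x
          have e1 : α x * h * (α x)⁻¹ = x * h * x⁻¹ := by
            have := hfixH' _ hconj
            rw [map_mul, map_mul, map_inv, hfixH' h hh] at this
            exact this
          calc h * (x⁻¹ * α x) = x⁻¹ * (x * h * x⁻¹) * α x := by group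
            _ = x⁻¹ * (α x * h * (α x)⁻¹) * α x := by rw [e1]
            _ = x⁻¹ * α x * h := by group
        have hkH : x⁻¹ * α x ∈ H := hC hkC
        obtain ⟨n, hn⟩ := hR (x⁻¹ * α x)
        exact fix_of α q (p ^ n) hαq (Nat.Coprime.pow_right n hcop) x hn (hfixH' _ hkH)
      exact hα1 (MulEquiv.ext hall)
    obtain ⟨e₀, he₀E, he₀⟩ := hmove
    have hEp : IsPGroup p E := hR.to_subgroup E
    have hE3 : Nat.card E ≤ p ^ 3 := by
      refine Cfsg.Agent.S0128.e3 hEp ?_
      intro A hA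
      have hcomm : ∀ a ∈ A.map E.subtype, ∀ a' ∈ A.map E.subtype, a * a' = a' * a := by
        rintro _ ⟨a, ha, rfl⟩ _ ⟨a', ha', rfl⟩
        rw [← map_mul, ← map_mul, hA a ha a' ha']
      have hexp : ∀ a ∈ A.map E.subtype, a ^ p = 1 := by
        rintro _ ⟨a, _, rfl⟩
        exact ((hEdef _).mp a.2).2
      have h2 := hrk (A.map E.subtype) (Cfsg.Agent.S0128.isComm_of _ hcomm) hexp
      rwa [Subgroup.card_map_of_injective E.subtype_injective] at h2
    obtain ⟨a, ha⟩ := hEp.exists_card_eq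
    have ha3 : a ≤ 3 := by
      rw [ha] at hE3
      exact (Nat.pow_le_pow_iff_right hpp.one_lt).mp hE3
    obtain ⟨F, hF, hFmod⟩ := count α q hαq E (fun x hx => (hαE x).mpr hx)
    obtain ⟨b, hb⟩ := (hEp.to_subgroup F).exists_card_eq
    have hFtop : F ≠ ⊤ := by
      intro h
      have : (⟨e₀, he₀E⟩ : E) ∈ F := by rw [h]; exact Subgroup.mem_top _
      exact he₀ ((hF _).mp this)
    have hba : b < a := by
      have hlt : Nat.card F < Nat.card E := by
        rcases lt_or_eq_of_le (Subgroup.card_le_card_group F) with h | h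
        · exact h
        · exact absurd (Subgroup.eq_top_of_card_eq F h) hFtop
      rw [ha, hb] at hlt
      exact (Nat.pow_lt_pow_iff_right hpp.one_lt).mp hlt
    rw [ha, hb] at hFmod
    obtain ⟨Z, hZdef⟩ : ∃ Z : Subgroup R, Z = E ⊓ Subgroup.centralizer (E : Set R) := ⟨_, rfl⟩
    have hαZ : ∀ x ∈ Z, α x ∈ Z := by
      intro x hx
      rw [hZdef, Subgroup.mem_inf] at hx ⊢
      refine ⟨(hαE x).mpr hx.1, ?_⟩
      rw [Subgroup.mem_centralizer_iff]
      intro e he
      have he' : α.symm e ∈ E := by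
        rw [← hαE, MulEquiv.apply_symm_apply]; exact he
      have h1 := Subgroup.mem_centralizer_iff.mp hx.2 _ he'
      have h2 := congrArg α h1
      rw [map_mul, map_mul, MulEquiv.apply_symm_apply] at h2
      exact h2
    have hZcomm : ∀ x ∈ Z, ∀ y ∈ Z, x * y = y * x := by
      intro x hx y hy
      rw [hZdef, Subgroup.mem_inf] at hx hy
      exact (Subgroup.mem_centralizer_iff.mp hy.2 x hx.1)
    have hZexp : ∀ x ∈ Z, x ^ p = 1 := by
      intro x hx
      rw [hZdef, Subgroup.mem_inf] at hx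
      exact ((hEdef x).mp hx.1).2
    have hZ2 : Nat.card Z ≤ p ^ 2 := hrk Z (Cfsg.Agent.S0128.isComm_of Z hZcomm) hZexp
    have hZp : IsPGroup p Z := hR.to_subgroup Z
    obtain ⟨c, hc⟩ := hZp.exists_card_eq
    have hc2 : c ≤ 2 := by
      rw [hc] at hZ2
      exact (Nat.pow_le_pow_iff_right hpp.one_lt).mp hZ2
    obtain ⟨FZ, hFZ, hFZmod⟩ := count α q hαq Z hαZ
    obtain ⟨b', hb'⟩ := (hZp.to_subgroup FZ).exists_card_eq
    rw [hc, hb'] at hFZmod
    by_cases hFZtop : FZ = ⊤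
    · have hZfix : ∀ z ∈ Z, α z = z := fun z hz =>
        (hFZ ⟨z, hz⟩).mp (by rw [hFZtop]; exact Subgroup.mem_top _)
      have hb1 : 1 ≤ b := by
        haveI : Nontrivial E := ⟨⟨⟨e₀, he₀E⟩, 1, fun h => he₀ (by
          have h' : e₀ = 1 := congrArg Subtype.val h
          rw [h', map_one])⟩⟩
        haveI := hEp.center_nontrivial
        obtain ⟨⟨z, hz⟩, hz1⟩ := exists_ne (1 : Subgroup.center E)
        have hzZ : (z : R) ∈ Z := by
          rw [hZdef, Subgroup.mem_inf]
          refine ⟨z.2, ?_⟩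
          rw [Subgroup.mem_centralizer_iff]
          intro e he
          have := Subgroup.mem_center_iff.mp hz ⟨e, he⟩
          exact congrArg Subtype.val this
        have hzF : z ∈ F := (hF z).mpr (hZfix _ hzZ)
        have hFbot : F ≠ ⊥ := by
          intro h
          rw [h, Subgroup.mem_bot] at hzF
          exact hz1 (Subtype.ext hzF)
        by_contra hb0
        have hb0' : b = 0 := by omega
        rw [hb0', pow_zero] at hb
        exact hFbot (Subgroup.eq_bot_of_card_eq F hb)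
      exact arith hpp hq hqp hba (by omega) hFmod
    · have hb'c : b' < c := by
        have hlt : Nat.card FZ < Nat.card Z := by
          rcases lt_or_eq_of_le (Subgroup.card_le_card_group FZ) with h | h
          · exact h
          · exact absurd (Subgroup.eq_top_of_card_eq FZ h) hFZtop
        rw [hc, hb'] at hlt
        exact (Nat.pow_lt_pow_iff_right hpp.one_lt).mp hlt
      exact arith hpp hq hqp hb'c (by omega) hFZmod
  exact ⟨hdiv, arith2 hpp hp hq hqp hdiv⟩

end Cfsg.Agent.S0640
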