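import Cfsg.Statements.S0645
import Mathlib
import Cfsg.Agent.Helper8.Nilp

set_option autoImplicit false
open Cfsg

namespace Cfsg.Agent.S0645

/-- Lifting the exponent for `r ^ p ≡ 1` modulo `p ^ (n - 1)`. -/
theorem nt_main (p : ℕ) [Fact p.Prime] (hp : p ≠ 2) (n : ℕ) (hn : 3 ≤ n) (r : ℕ)
    (h1 : r ^ p ≡ 1 [MOD p ^ (n - 1)]) (h2 : ¬ r ≡ 1 [MOD p ^ (n - 1)]) :
    (∃ k, r = 1 + p ^ (n - 2) * k ∧ ¬ p ∣ k) ∧
    (∃ σ, ∑ l ∈ Finset.range p, r ^ l = p * σ ∧ ¬ p ∣ σ) := by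
  have hpp : p.Prime := Fact.out
  have hodd : Odd p := hpp.odd_of_ne_two hp
  have hN : p ∣ p ^ (n - 1) := dvd_pow_self p (by omega)
  have hrp : r ^ p ≡ 1 [MOD p] := Nat.ModEq.of_dvd hN h1
  have hfermat : r ^ p ≡ r [MOD p] := by
    rw [← ZMod.natCast_eq_natCast_iff]
    push_cast
    exact ZMod.pow_card _
  have hr1 : r ≡ 1 [MOD p] := hfermat.symm.trans hrp
  have hr0 : r ≠ 0 := by
    intro h0
    rw [h0] at hr1
    have h3 := (Nat.modEq_iff_dvd' (Nat.zero_le 1)).mp hr1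
    have h4 : p ∣ 1 := by simpa using h3
    exact hpp.one_lt.ne' (Nat.dvd_one.mp h4)
  have hr1' : r ≠ 1 := by
    intro h0
    rw [h0] at h2
    exact h2 (Nat.ModEq.refl 1)
  have hr2 : 1 < r := by omega
  have hpd : p ∣ r - 1 := (Nat.modEq_iff_dvd' hr2.le).mp hr1.symm
  have hpr : ¬ p ∣ r := by
    intro h
    have h3 := Nat.dvd_sub h hpd
    have h4 : r - (r - 1) = 1 := by omega
    rw [h4] at h3
    exact hpp.one_lt.ne' (Nat.dvd_one.mp h3)
  have hlte := padicValNat.pow_sub_pow hodd hr2 hpd hpr (n := p) hpp.ne_zero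
  rw [one_pow, padicValNat_self] at hlte
  have hrp1 : 1 < r ^ p := Nat.one_lt_pow hpp.ne_zero hr2
  have hne1 : r ^ p - 1 ≠ 0 := by omega
  have hne2 : r - 1 ≠ 0 := by omega
  have hd1 : p ^ (n - 1) ∣ r ^ p - 1 := (Nat.modEq_iff_dvd' hrp1.le).mp h1.symm
  have hd2 : ¬ p ^ (n - 1) ∣ r - 1 := fun h => h2 ((Nat.modEq_iff_dvd' hr2.le).mpr h).symm
  have hv1 : n - 1 ≤ padicValNat p (r ^ p - 1) := (padicValNat_dvd_iff_le hne1).mp hd1
  have hv2 : ¬ n - 1 ≤ padicValNat p (r - 1) := fun h => hd2 ((padicValNat_dvd_iff_le hne2).mpr h)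
  have he : padicValNat p (r - 1) = n - 2 := by omega
  have e1 : p ^ (n - 1) = p ^ (n - 2) * p := by
    rw [← pow_succ]; congr 1; omega
  constructor
  · have hd3 : p ^ (n - 2) ∣ r - 1 := (padicValNat_dvd_iff_le hne2).mpr (by omega)
    obtain ⟨k, hk⟩ := hd3
    refine ⟨k, by omega, ?_⟩
    intro hpk
    obtain ⟨k', hk'⟩ := hpk
    apply hd2
    rw [hk, e1, hk']
    exact ⟨k', by ring⟩
  · have hgeo : (∑ l ∈ Finset.range p, r ^ l) * (r - 1) = r ^ p - 1 :=
      geom_sum_mul_of_one_le hr2.le p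
    have hS0 : (∑ l ∈ Finset.range p, r ^ l) ≠ 0 := by
      intro h0; rw [h0, zero_mul] at hgeo; omega
    have hval : padicValNat p (∑ l ∈ Finset.range p, r ^ l) = 1 := by
      have h3 := padicValNat.mul (p := p) hS0 hne2
      rw [hgeo, hlte] at h3
      omega
    have hd : p ^ 1 ∣ ∑ l ∈ Finset.range p, r ^ l := (padicValNat_dvd_iff_le hS0).mpr (by omega)
    rw [pow_one] at hd
    obtain ⟨σ, hσ⟩ := hd
    refine ⟨σ, hσ, ?_⟩
    intro hps
    obtain ⟨σ', hσ'⟩ := hps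
    have h5 : p ^ 2 ∣ ∑ l ∈ Finset.range p, r ^ l := ⟨σ', by rw [hσ, hσ']; ring⟩
    rw [padicValNat_dvd_iff_le hS0] at h5
    omega

/-- A suitable power of `1 + p^(n-2) k` is `1 + p^(n-2)` modulo `p^(n-1)`. -/
theorem nt_pow (p : ℕ) [Fact p.Prime] (n : ℕ) (hn : 3 ≤ n) (k : ℕ) (hk : ¬ p ∣ k) :
    ∃ j, j.Coprime p ∧ (1 + p ^ (n - 2) * k) ^ j ≡ 1 + p ^ (n - 2) [MOD p ^ (n - 1)] := by
  have hpp : p.Prime := Fact.out
  have e1 : p ^ (n - 1) = p ^ (n - 2) * p := by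
    rw [← pow_succ]; congr 1; omega
  have e2 : p ^ (n - 2) = p ^ (n - 3) * p := by
    rw [← pow_succ]; congr 1; omega
  have hexp : ∀ j : ℕ, (1 + p ^ (n - 2) * k) ^ j ≡ 1 + j * k * p ^ (n - 2) [MOD p ^ (n - 1)] := by
    intro j
    induction j with
    | zero => simp [Nat.ModEq]
    | succ j ih =>
      have h1 : (1 + p ^ (n - 2) * k) ^ (j + 1) ≡
          (1 + j * k * p ^ (n - 2)) * (1 + p ^ (n - 2) * k) [MOD p ^ (n - 1)] := by
        rw [pow_succ]; exact ih.mul_right _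
      refine h1.trans ?_
      have h2 : (1 + j * k * p ^ (n - 2)) * (1 + p ^ (n - 2) * k)
          = 1 + (j + 1) * k * p ^ (n - 2) + p ^ (n - 1) * (p ^ (n - 3) * (j * k * k)) := by
        rw [e1, e2]; ring
      rw [h2]
      exact Nat.add_mul_mod_self_left _ _ _
  have hcop : Nat.Coprime k p := ((Nat.Prime.coprime_iff_not_dvd hpp).mpr hk).symm
  obtain ⟨j, -, hj⟩ := Nat.exists_mul_mod_eq_one_of_coprime hcop hpp.one_lt
  refine ⟨j, ?_, (hexp j).trans ?_⟩
  · rw [Nat.coprime_comm, Nat.Prime.coprime_iff_not_dvd hpp]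
    intro hpj
    obtain ⟨j', hj'⟩ := hpj
    rw [hj', show k * (p * j') = p * (k * j') by ring, Nat.mul_mod_right] at hj
    omega
  · have hdm := Nat.div_add_mod (k * j) p
    rw [hj] at hdm
    have h3 : 1 + j * k * p ^ (n - 2) = 1 + p ^ (n - 2) + p ^ (n - 1) * (k * j / p) := by
      have h4 : j * k = p * (k * j / p) + 1 := by rw [hdm]; ring
      rw [e1, h4]; ring
    rw [h3]
    exact Nat.add_mul_mod_self_left _ _ _

theorem conj_pow_formula {G : Type*} [Group G] (x c : G) (r : ℕ) (h : x * c * x⁻¹ = c ^ r) :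
    ∀ m : ℕ, x ^ m * c * (x ^ m)⁻¹ = c ^ (r ^ m) := by
  intro m
  induction m with
  | zero => simp
  | succ m ih =>
    calc x ^ (m + 1) * c * (x ^ (m + 1))⁻¹ = x * (x ^ m * c * (x ^ m)⁻¹) * x⁻¹ := by
          rw [pow_succ', mul_inv_rev]; simp only [mul_assoc]
      _ = x * c ^ (r ^ m) * x⁻¹ := by rw [ih]
      _ = (x * c * x⁻¹) ^ (r ^ m) := by rw [conj_pow]
      _ = c ^ (r ^ (m + 1)) := by rw [h, ← pow_mul, ← pow_succ']

theorem pow_formula {G : Type*} [Group G] (x c : G) (r : ℕ) (h : x * c * x⁻¹ = c ^ r) (i : ℕ) :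
    ∀ m : ℕ, (c ^ i * x) ^ m = c ^ (i * ∑ l ∈ Finset.range m, r ^ l) * x ^ m := by
  intro m
  induction m with
  | zero => simp
  | succ m ih =>
    have hc := conj_pow_formula x c r h m
    have hci : x ^ m * c ^ i * (x ^ m)⁻¹ = c ^ (r ^ m * i) := by
      rw [← conj_pow, hc, ← pow_mul]
    calc (c ^ i * x) ^ (m + 1) = (c ^ i * x) ^ m * (c ^ i * x) := pow_succ _ _
      _ = c ^ (i * ∑ l ∈ Finset.range m, r ^ l) * x ^ m * (c ^ i * x) := by rw [ih]
      _ = c ^ (i * ∑ l ∈ Finset.range m, r ^ l) * (x ^ m * c ^ i * (x ^ m)⁻¹) * x ^ (m + 1) := by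
          rw [pow_succ x m]; simp only [mul_assoc, inv_mul_cancel_left]
      _ = c ^ (i * ∑ l ∈ Finset.range (m + 1), r ^ l) * x ^ (m + 1) := by
          rw [hci, ← pow_add, Finset.sum_range_succ]
          congr 2
          ring

theorem eq_top_of_index_prime {G : Type*} [Group G] [Finite G] {p : ℕ} (hp : p.Prime)
    (C K : Subgroup G) (hCi : C.index = p) (hCK : C ≤ K) (x : G) (hxK : x ∈ K) (hxC : x ∉ C) :
    K = ⊤ := by
  have hdvd : K.index ∣ C.index := Subgroup.index_dvd_of_le hCK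
  rw [hCi] at hdvd
  rcases (Nat.dvd_prime hp).mp hdvd with h1 | h1
  · exact Subgroup.index_eq_one.mp h1
  · exfalso
    have hc1 := C.card_mul_index
    have hc2 := K.card_mul_index
    rw [hCi] at hc1; rw [h1] at hc2
    have hcard : Nat.card K = Nat.card C := Nat.eq_of_mul_eq_mul_right hp.pos (hc2.trans hc1.symm)
    have h3 := Subgroup.eq_of_le_of_card_ge hCK hcard.le
    exact hxC (h3 ▸ hxK)

theorem result {G : Type*} [Group G] [Finite G] {p : ℕ} [Fact p.Prime] (hp : p ≠ 2) (n : ℕ) (hn : 3 ≤ n) (hG : Nat.card G = p ^ n) (C : Subgroup G) (hC : IsCyclic C) (hCi : C.index = p) (hna : ∃ x y : G, x * y ≠ y * x) : ∃ a b : G, orderOf a = p ^ (n - 1) ∧ orderOf b = p ∧ b ∉ Subgroup.zpowers a ∧ b * a * b⁻¹ = a ^ (1 + p ^ (n - 2)) := by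
  have hpp : p.Prime := Fact.out
  obtain ⟨g, hg⟩ := hC.exists_generator
  obtain ⟨c, hc⟩ : ∃ c : G, c = (g : G) := ⟨_, rfl⟩
  have hCz : C = Subgroup.zpowers c := by
    ext z
    constructor
    · intro hz
      obtain ⟨m, hm⟩ := Subgroup.mem_zpowers_iff.mp (hg ⟨z, hz⟩)
      rw [Subgroup.mem_zpowers_iff]
      refine ⟨m, ?_⟩
      have h3 := congrArg (fun w : ↥C => (w : G)) hm
      simpa [hc] using h3
    · intro hz
      obtain ⟨m, hm⟩ := Subgroup.mem_zpowers_iff.mp hz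
      rw [← hm, hc]
      exact C.zpow_mem g.2 m
  have e1 : p ^ n = p ^ (n - 1) * p := by
    rw [← pow_succ]; congr 1; omega
  have hcardC : Nat.card C = p ^ (n - 1) := by
    have h1 := C.card_mul_index
    rw [hCi, hG, e1] at h1
    exact Nat.eq_of_mul_eq_mul_right hpp.pos h1
  have hoc : orderOf c = p ^ (n - 1) := by
    rw [← hcardC, hCz, Nat.card_zpowers]
  have hcC : c ∈ C := by rw [hCz]; exact Subgroup.mem_zpowers c
  haveI hCn : C.Normal := by
    apply Subgroup.normal_of_index_eq_minFac_card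
    rw [hCi, hG, Nat.Prime.pow_minFac hpp (by omega)]
  have hCtop : C ≠ ⊤ := by
    intro h
    rw [h, Subgroup.index_top] at hCi
    exact hpp.one_lt.ne hCi
  obtain ⟨x, hx⟩ : ∃ x, x ∉ C := by
    by_contra hall
    push Not at hall
    exact hCtop (eq_top_iff.mpr fun z _ => hall z)
  have hxp : x ^ p ∈ Subgroup.zpowers c := by
    have h3 := Subgroup.pow_index_mem C x
    rw [hCi] at h3
    rw [← hCz]; exact h3
  have hconj : x * c * x⁻¹ ∈ Subgroup.zpowers c := by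
    rw [← hCz]; exact hCn.conj_mem c hcC x
  obtain ⟨r, hr⟩ : ∃ r : ℕ, x * c * x⁻¹ = c ^ r := by
    obtain ⟨r, hr⟩ := (Submonoid.mem_powers_iff _ _).mp (mem_powers_iff_mem_zpowers.mpr hconj)
    exact ⟨r, hr.symm⟩
  obtain ⟨t, ht⟩ : ∃ t : ℕ, x ^ p = c ^ t := by
    obtain ⟨t, ht⟩ := (Submonoid.mem_powers_iff _ _).mp (mem_powers_iff_mem_zpowers.mpr hxp)
    exact ⟨t, ht.symm⟩
  -- x does not commute with c
  have hxc : x * c ≠ c * x := by
    intro hcomm
    obtain ⟨u, v, huv⟩ := hna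
    apply huv
    have hK1 : Subgroup.centralizer ({c} : Set G) = ⊤ := by
      apply eq_top_of_index_prime hpp C _ hCi _ x _ hx
      · intro z hz
        rw [hCz] at hz
        obtain ⟨m, hm⟩ := Subgroup.mem_zpowers_iff.mp hz
        rw [Cfsg.Agent.Helper8.mem_cent, ← hm]
        exact (Commute.zpow_right (Commute.refl c) m).eq
      · rw [Cfsg.Agent.Helper8.mem_cent]; exact hcomm.symm
    have hK2 : Subgroup.centralizer ({x} : Set G) = ⊤ := by
      apply eq_top_of_index_prime hpp C _ hCi _ x _ hx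
      · intro z hz
        rw [hCz] at hz
        obtain ⟨m, hm⟩ := Subgroup.mem_zpowers_iff.mp hz
        rw [Cfsg.Agent.Helper8.mem_cent, ← hm]
        exact (Commute.zpow_right (show Commute x c from hcomm) m).eq
      · rw [Cfsg.Agent.Helper8.mem_cent]
    have hK3 : Subgroup.center G = ⊤ := by
      apply eq_top_of_index_prime hpp C _ hCi _ x _ hx
      · intro z hz
        rw [hCz] at hz
        obtain ⟨m, hm⟩ := Subgroup.mem_zpowers_iff.mp hz
        rw [← hm]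
        apply Subgroup.zpow_mem
        rw [Subgroup.mem_center_iff]
        intro w
        have h3 : w ∈ Subgroup.centralizer ({c} : Set G) := by rw [hK1]; exact Subgroup.mem_top w
        rw [Cfsg.Agent.Helper8.mem_cent] at h3
        exact h3.symm
      · rw [Subgroup.mem_center_iff]
        intro w
        have h3 : w ∈ Subgroup.centralizer ({x} : Set G) := by rw [hK2]; exact Subgroup.mem_top w
        rw [Cfsg.Agent.Helper8.mem_cent] at h3
        exact h3.symm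
    have hv : v ∈ Subgroup.center G := by rw [hK3]; exact Subgroup.mem_top v
    exact Subgroup.mem_center_iff.mp hv u
  have hr1 : ¬ r ≡ 1 [MOD p ^ (n - 1)] := by
    intro h
    rw [← hoc, ← pow_eq_pow_iff_modEq, pow_one] at h
    apply hxc
    rw [h] at hr
    calc x * c = x * c * x⁻¹ * x := by group
      _ = c * x := by rw [hr]
  have hrp : r ^ p ≡ 1 [MOD p ^ (n - 1)] := by
    rw [← hoc, ← pow_eq_pow_iff_modEq, pow_one, ← conj_pow_formula x c r hr p, ht,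
      ← pow_succ, pow_succ', mul_inv_cancel_right]
  obtain ⟨⟨k, hk, hpk⟩, ⟨σ, hσ, hpσ⟩⟩ := nt_main p hp n hn r hrp hr1
  have hN1 : 1 < p ^ (n - 1) := Nat.one_lt_pow (by omega) hpp.one_lt
  have hpt : p ∣ t := by
    by_contra hnd
    have hcop : Nat.Coprime t (orderOf c) := by
      rw [hoc]
      exact Nat.Coprime.pow_right _ ((Nat.Prime.coprime_iff_not_dvd hpp).mpr hnd).symm
    have ho1 : 1 < orderOf c := by rw [hoc]; exact hN1
    obtain ⟨u, -, hu⟩ := Nat.exists_mul_mod_eq_one_of_coprime hcop ho1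
    have hcu : c = (x ^ p) ^ u := by
      rw [ht, ← pow_mul, ← pow_mod_orderOf, hu, pow_one]
    apply hxc
    have h3 : x * (x ^ p) ^ u = (x ^ p) ^ u * x := by
      rw [← pow_mul, ← pow_succ', ← pow_succ]
    rw [← hcu] at h3
    exact h3
  obtain ⟨t', ht'⟩ := hpt
  have hcopσ : Nat.Coprime σ (p ^ (n - 1)) :=
    Nat.Coprime.pow_right _ ((Nat.Prime.coprime_iff_not_dvd hpp).mpr hpσ).symm
  obtain ⟨σ', -, hσ'⟩ := Nat.exists_mul_mod_eq_one_of_coprime hcopσ hN1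
  obtain ⟨i, hi⟩ : ∃ i, i = (p ^ (n - 1) - 1) * t' * σ' := ⟨_, rfl⟩
  obtain ⟨b0, hb0⟩ : ∃ b0, b0 = c ^ i * x := ⟨_, rfl⟩
  have hb0p : b0 ^ p = 1 := by
    rw [hb0, pow_formula x c r hr i p, ht, ← pow_add, hσ]
    apply orderOf_dvd_iff_pow_eq_one.mp
    rw [hoc, hi, ht']
    have hdm := Nat.div_add_mod (σ * σ') (p ^ (n - 1))
    rw [hσ'] at hdm
    obtain ⟨q, hq⟩ : ∃ q, q = σ * σ' / p ^ (n - 1) := ⟨_, rfl⟩
    rw [← hq] at hdm
    obtain ⟨M, hM⟩ : ∃ M, p ^ (n - 1) = M + 1 := ⟨p ^ (n - 1) - 1, by omega⟩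
    rw [hM] at hdm ⊢
    simp only [Nat.add_sub_cancel]
    refine ⟨p * t' * (M * q + 1), ?_⟩
    have h3 : M * t' * σ' * (p * σ) = p * t' * M * (σ * σ') := by ring
    rw [h3, ← hdm]; ring
  have hb0C : b0 ∉ C := by
    intro h
    apply hx
    have hci : c ^ i ∈ C := C.pow_mem hcC i
    have h3 : x = (c ^ i)⁻¹ * b0 := by rw [hb0]; group
    rw [h3]; exact C.mul_mem (C.inv_mem hci) h
  have hb0c : b0 * c * b0⁻¹ = c ^ r := by
    rw [hb0]
    calc c ^ i * x * c * (c ^ i * x)⁻¹ = c ^ i * (x * c * x⁻¹) * (c ^ i)⁻¹ := by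
          rw [mul_inv_rev]; simp only [mul_assoc]
      _ = c ^ i * c ^ r * (c ^ i)⁻¹ := by rw [hr]
      _ = c ^ r := by rw [← pow_add, add_comm, pow_add, mul_inv_cancel_right]
  obtain ⟨j, hjp, hj⟩ := nt_pow p n hn k hpk
  rw [← hk] at hj
  have hbjC : b0 ^ j ∉ C := by
    intro h
    obtain ⟨j', -, hj'⟩ := Nat.exists_mul_mod_eq_one_of_coprime hjp hpp.one_lt
    have hdm := Nat.div_add_mod (j * j') p
    rw [hj'] at hdm
    have h3 : b0 = (b0 ^ j) ^ j' := by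
      rw [← pow_mul, ← hdm, pow_add, pow_mul, hb0p, one_pow, one_mul, pow_one]
    apply hb0C
    rw [h3]; exact C.pow_mem h j'
  refine ⟨c, b0 ^ j, hoc, ?_, ?_, ?_⟩
  · have h1 : (b0 ^ j) ^ p = 1 := by rw [← pow_mul, mul_comm, pow_mul, hb0p, one_pow]
    have h2 : b0 ^ j ≠ 1 := fun h => hbjC (h ▸ C.one_mem)
    exact orderOf_eq_prime h1 h2
  · rw [← hCz]; exact hbjC
  · rw [conj_pow_formula b0 c r hb0c j, pow_eq_pow_iff_modEq, hoc]
    exact hj

end Cfsg.Agent.S0645
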