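import Cfsg.Statements.S3379
import Mathlib
import Cfsg.Agent.S0645

set_option autoImplicit false
open Cfsg

namespace Cfsg.Agent.S3379

theorem exists_zpowers_eq {G : Type*} [Group G] (C : Subgroup G) (hC : IsCyclic C) :
    ∃ c : G, C = Subgroup.zpowers c := by
  obtain ⟨g, hg⟩ := hC.exists_generator
  refine ⟨(g : G), ?_⟩
  ext z
  constructor
  · intro hz
    obtain ⟨m, hm⟩ := Subgroup.mem_zpowers_iff.mp (hg ⟨z, hz⟩)
    rw [Subgroup.mem_zpowers_iff]
    refine ⟨m, ?_⟩
    have h3 := congrArg (fun w : ↥C => (w : G)) hm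
    simpa using h3
  · intro hz
    obtain ⟨m, hm⟩ := Subgroup.mem_zpowers_iff.mp hz
    rw [← hm]
    exact C.zpow_mem g.2 m

/-- Subgroups of a cyclic normal subgroup generated by a power are normal. -/
theorem zpowers_pow_normal {G : Type*} [Group G] (y : G) (hN : (Subgroup.zpowers y).Normal)
    (k : ℕ) : (Subgroup.zpowers (y ^ k)).Normal := by
  constructor
  intro a ha g
  obtain ⟨j, hj⟩ := Subgroup.mem_zpowers_iff.mp ha
  obtain ⟨i, hi⟩ := Subgroup.mem_zpowers_iff.mp (hN.conj_mem y (Subgroup.mem_zpowers y) g)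
  rw [Subgroup.mem_zpowers_iff]
  refine ⟨i * j, ?_⟩
  rw [← hj, ← conj_zpow, ← conj_pow, ← hi, ← zpow_natCast, ← zpow_natCast]
  simp only [← zpow_mul]
  congr 1
  ring

theorem result {G : Type*} [Group G] [Finite G]
    (hZ : ∀ (p : ℕ) [Fact p.Prime] (P : Sylow p G), IsCyclic (P : Subgroup G)) :
    ∃ (x y : G) (n m r : ℕ), Subgroup.closure {x, y} = ⊤ ∧ orderOf x = n ∧ orderOf y = m ∧
      x⁻¹ * y * x = y ^ r ∧ Nat.Coprime (r - 1) m ∧ Nat.Coprime n m ∧ 1 ≤ r ∧ r ^ n % m = 1 % m := by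
  haveI hZG : IsZGroup G := ⟨fun p hp P => by haveI := Fact.mk hp; exact hZ p P⟩
  have hcop := IsZGroup.coprime_commutator_index G
  obtain ⟨H, hH⟩ := Subgroup.exists_right_complement'_of_coprime hcop
  have h1 : Abelianization G ≃* H := hH.symm.QuotientMulEquiv
  have hHc : IsCyclic H := isCyclic_of_surjective _ h1.surjective
  have hNc : IsCyclic (commutator G) := IsZGroup.isCyclic_commutator G
  obtain ⟨y, hy⟩ := exists_zpowers_eq (commutator G) hNc
  obtain ⟨x, hx⟩ := exists_zpowers_eq H hHc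
  have hNn : (Subgroup.zpowers y).Normal := by rw [← hy]; infer_instance
  have hoy : orderOf y = Nat.card (commutator G) := by rw [hy, Nat.card_zpowers]
  have hox : orderOf x = Nat.card H := by rw [hx, Nat.card_zpowers]
  have hidx : (commutator G).index = Nat.card H := hH.symm.index_eq_card
  have hgen : Subgroup.closure ({x, y} : Set G) = ⊤ := by
    apply top_le_iff.mp
    rw [← hH.sup_eq_top]
    apply sup_le
    · rw [hy, Subgroup.zpowers_le]; exact Subgroup.subset_closure (by simp)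
    · rw [hx, Subgroup.zpowers_le]; exact Subgroup.subset_closure (by simp)
  have hmpos : 0 < orderOf y := orderOf_pos y
  obtain ⟨r, hr, hr1⟩ : ∃ r : ℕ, x⁻¹ * y * x = y ^ r ∧ 1 ≤ r := by
    have hc := hNn.conj_mem y (Subgroup.mem_zpowers y) x⁻¹
    rw [inv_inv] at hc
    obtain ⟨r₀, hr₀⟩ := (Submonoid.mem_powers_iff _ _).mp (mem_powers_iff_mem_zpowers.mpr hc)
    refine ⟨r₀ % orderOf y + orderOf y, ?_, by omega⟩
    rw [pow_add, pow_mod_orderOf, pow_orderOf_eq_one, mul_one]
    exact hr₀.symm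
  -- r ^ n ≡ 1
  have hrn : r ^ orderOf x ≡ 1 [MOD orderOf y] := by
    have hconj : x⁻¹ * y * (x⁻¹)⁻¹ = y ^ r := by rw [inv_inv]; exact hr
    have h2 := Cfsg.Agent.S0645.conj_pow_formula x⁻¹ y r hconj (orderOf x)
    rw [inv_pow, pow_orderOf_eq_one, inv_one, one_mul, inv_one, mul_one] at h2
    have h3 : y ^ (r ^ orderOf x) = y ^ 1 := by rw [pow_one]; exact h2.symm
    exact pow_eq_pow_iff_modEq.mp h3
  -- coprimality of r - 1 and m
  have hcop2 : Nat.Coprime (r - 1) (orderOf y) := by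
    obtain ⟨K, hK⟩ : ∃ K : Subgroup G, K = Subgroup.zpowers (y ^ (r - 1)) := ⟨_, rfl⟩
    haveI hKn : K.Normal := by rw [hK]; exact zpowers_pow_normal y hNn (r - 1)
    have hyx : (x * y)⁻¹ * (y * x) = y ^ (r - 1) := by
      have h2 : y * x = x * y ^ r := by rw [← hr]; group
      have h3 : y ^ r = y * y ^ (r - 1) := by
        rw [← pow_succ']; congr 1; omega
      rw [h2, h3]; group
    have hcomm : ((x : G) : G ⧸ K) * ((y : G) : G ⧸ K) = (y : G ⧸ K) * (x : G ⧸ K) := by
      rw [← QuotientGroup.mk_mul, ← QuotientGroup.mk_mul, QuotientGroup.eq, hyx, hK]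
      exact Subgroup.mem_zpowers _
    have hcl : Subgroup.closure ({(x : G ⧸ K), (y : G ⧸ K)} : Set (G ⧸ K)) = ⊤ := by
      have h4 := congrArg (Subgroup.map (QuotientGroup.mk' K)) hgen
      rw [MonoidHom.map_closure, Subgroup.map_top_of_surjective _ (QuotientGroup.mk'_surjective K),
        Set.image_pair] at h4
      exact h4
    have hpair : ∀ u ∈ ({(x : G ⧸ K), (y : G ⧸ K)} : Set (G ⧸ K)),
        ∀ v ∈ ({(x : G ⧸ K), (y : G ⧸ K)} : Set (G ⧸ K)), u * v = v * u := by
      intro u hu v hv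
      rcases hu with rfl | rfl <;> rcases hv with rfl | rfl
      · rfl
      · exact hcomm
      · exact hcomm.symm
      · rfl
    have hab : ∀ a b : G ⧸ K, a * b = b * a := by
      intro a b
      have ha : a ∈ Subgroup.closure ({(x : G ⧸ K), (y : G ⧸ K)} : Set (G ⧸ K)) := by
        rw [hcl]; exact Subgroup.mem_top a
      have hb : b ∈ Subgroup.closure ({(x : G ⧸ K), (y : G ⧸ K)} : Set (G ⧸ K)) := by
        rw [hcl]; exact Subgroup.mem_top b
      exact isMulCommutative_iff_of_setLike.mp (Subgroup.isMulCommutative_closure hpair) a ha b hb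
    have hle : commutator G ≤ K := by
      rw [commutator_eq_closure, Subgroup.closure_le]
      rintro _ ⟨g, h, rfl⟩
      rw [SetLike.mem_coe, ← QuotientGroup.eq_one_iff, commutatorElement_def]
      simp only [QuotientGroup.mk_mul, QuotientGroup.mk_inv]
      rw [hab (g : G ⧸ K) (h : G ⧸ K)]
      group
    have hyK : y ∈ K := hle (by rw [hy]; exact Subgroup.mem_zpowers y)
    have hle2 : Subgroup.zpowers y ≤ K := Subgroup.zpowers_le.mpr hyK
    have hcard := Subgroup.card_le_of_le hle2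
    rw [hK, Nat.card_zpowers, Nat.card_zpowers, orderOf_pow] at hcard
    have hg0 : 0 < Nat.gcd (orderOf y) (r - 1) := Nat.gcd_pos_of_pos_left _ hmpos
    have hg1 : Nat.gcd (orderOf y) (r - 1) = 1 := by
      by_contra hne
      have hlt := Nat.div_lt_self hmpos (by omega : 1 < Nat.gcd (orderOf y) (r - 1))
      omega
    exact (Nat.coprime_comm.mp hg1)
  refine ⟨x, y, orderOf x, orderOf y, r, hgen, rfl, rfl, hr, hcop2, ?_, hr1, hrn⟩
  rw [hox, hoy, ← hidx]
  exact hcop.symm

end Cfsg.Agent.S3379
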