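import Cfsg.Statements.S4213
import Cfsg.Agent.S3993
import Mathlib

set_option autoImplicit false
open Cfsg

namespace Cfsg.Agent.S4213

universe u

open scoped commutatorElement

theorem exists_normal_exp_p {G : Type u} [Group G] [Finite G] [Group.IsSolvable G] [Nontrivial G] :
    ∃ (N : Subgroup G) (p : ℕ), p.Prime ∧ N.Normal ∧ N ≠ ⊥ ∧ ∀ x ∈ N, x ^ p = 1 := by
  classical
  have hex : ∃ n, derivedSeries G n = ⊥ := Group.IsSolvable.solvable
  have hn := Nat.find_spec hex
  have h0 : Nat.find hex ≠ 0 := by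
    intro h0
    rw [h0, derivedSeries_zero] at hn
    obtain ⟨x, hx⟩ := exists_ne (1 : G)
    have hx' : x ∈ (⊥ : Subgroup G) := hn ▸ Subgroup.mem_top x
    exact hx (Subgroup.mem_bot.mp hx')
  obtain ⟨j, hj⟩ : ∃ j, Nat.find hex = j + 1 := ⟨Nat.find hex - 1, by omega⟩
  have hDne : derivedSeries G j ≠ ⊥ := by
    intro h
    have := Nat.find_min' hex h
    omega
  have hDab : ∀ x ∈ derivedSeries G j, ∀ y ∈ derivedSeries G j, x * y = y * x := by
    intro x hx y hy
    have hc : ⁅x, y⁆ ∈ derivedSeries G (Nat.find hex) := by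
      rw [hj, derivedSeries_succ]
      exact Subgroup.commutator_mem_commutator hx hy
    rw [hn, Subgroup.mem_bot] at hc
    exact commutatorElement_eq_one_iff_mul_comm.mp hc
  haveI hDn : (derivedSeries G j).Normal := derivedSeries_normal G j
  have hcard : Nat.card (derivedSeries G j) ≠ 1 := fun h => hDne ((derivedSeries G j).eq_bot_of_card_eq h)
  obtain ⟨p, hp, hpd⟩ := Nat.exists_prime_and_dvd hcard
  haveI : Fact p.Prime := ⟨hp⟩
  obtain ⟨x0, hx0⟩ := exists_prime_orderOf_dvd_card' p hpd
  obtain ⟨N, hN⟩ : ∃ N : Subgroup G, ∀ x, x ∈ N ↔ (x ∈ derivedSeries G j ∧ x ^ p = 1) :=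
    ⟨{ carrier := {x | x ∈ derivedSeries G j ∧ x ^ p = 1}
       mul_mem' := by
         rintro x y ⟨hx, hxp⟩ ⟨hy, hyp⟩
         refine ⟨Subgroup.mul_mem _ hx hy, ?_⟩
         rw [(show Commute x y from hDab x hx y hy).mul_pow, hxp, hyp, one_mul]
       one_mem' := ⟨Subgroup.one_mem _, one_pow p⟩
       inv_mem' := by
         rintro x ⟨hx, hxp⟩
         exact ⟨Subgroup.inv_mem _ hx, by rw [inv_pow, hxp, inv_one]⟩ }, fun x => Iff.rfl⟩
  refine ⟨N, p, hp, ⟨fun x hx g => ?_⟩, ?_, fun x hx => ((hN x).mp hx).2⟩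
  · obtain ⟨h1, h2⟩ := (hN x).mp hx
    exact (hN _).mpr ⟨hDn.conj_mem x h1 g, by rw [conj_pow, h2, mul_one, mul_inv_cancel]⟩
  · intro hbot
    have hmem : (x0 : G) ∈ N := by
      refine (hN _).mpr ⟨x0.2, ?_⟩
      have h1 := pow_orderOf_eq_one x0
      rw [hx0] at h1
      exact congrArg Subtype.val h1
    rw [hbot, Subgroup.mem_bot] at hmem
    have h2 : x0 = 1 := Subtype.ext hmem
    rw [h2, orderOf_one] at hx0
    exact hp.one_lt.ne hx0

theorem card_comap_mk {G : Type u} [Group G] [Finite G] (N : Subgroup G) [N.Normal]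
    (M : Subgroup (G ⧸ N)) :
    Nat.card (M.comap (QuotientGroup.mk' N)) = Nat.card M * Nat.card N := by
  have h1 := Subgroup.card_mul_index (M.comap (QuotientGroup.mk' N))
  have h2 := Subgroup.card_mul_index M
  have h3 : (M.comap (QuotientGroup.mk' N)).index = M.index := by
    apply Subgroup.index_comap_of_surjective
    exact QuotientGroup.mk'_surjective N
  have h4 : Nat.card G = Nat.card (G ⧸ N) * Nat.card N :=
    Subgroup.card_eq_card_quotient_mul_card_subgroup N
  have h5 : M.index ≠ 0 := Subgroup.index_ne_zero_of_finite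
  rw [h3] at h1
  have h6 : Nat.card (M.comap (QuotientGroup.mk' N)) * M.index
      = (Nat.card M * Nat.card N) * M.index := by
    rw [h1, h4, ← h2]; ring
  exact Nat.eq_of_mul_eq_mul_right (Nat.pos_of_ne_zero h5) h6

theorem pow_card_sub {G : Type u} [Group G] [Finite G] (H : Subgroup G) {x : G} (hx : x ∈ H) :
    x ^ Nat.card H = 1 := by
  have h := pow_card_eq_one' (G := H) (x := ⟨x, hx⟩)
  exact congrArg Subtype.val h

theorem close_of_subset {G : Type u} [Group G] [Finite G] (n : ℕ) (H : Subgroup G)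
    (hsub : ∀ x ∈ H, x ^ n = 1) (hcard : Nat.card {x : G // x ^ n = 1} ≤ Nat.card H) :
    (H : Set G) = {x : G | x ^ n = 1} := by
  refine Set.eq_of_subset_of_ncard_le (fun x hx => hsub x hx) ?_ (Set.toFinite _)
  rw [← Nat.card_coe_set_eq, ← Nat.card_coe_set_eq]
  exact hcard

theorem main : ∀ (k : ℕ) (G : Type u) [Group G] [Finite G] [Group.IsSolvable G], Nat.card G = k →
    ∀ n : ℕ, n ∣ Nat.card G → Nat.card {x : G // x ^ n = 1} = n →
    ∃ H : Subgroup G, (H : Set G) = {x : G | x ^ n = 1} := by
  intro k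
  induction k using Nat.strong_induction_on with
  | _ k ih =>
    intro G _ _ _ hk n hn hcount
    by_cases htriv : Subsingleton G
    · refine ⟨⊤, ?_⟩
      ext x
      simp only [Subgroup.coe_top, Set.mem_univ, Set.mem_setOf_eq, true_iff]
      rw [Subsingleton.elim x 1, one_pow]
    haveI : Nontrivial G := not_subsingleton_iff_nontrivial.mp htriv
    obtain ⟨N, p, hp, hNn, hNne, hNp⟩ := exists_normal_exp_p (G := G)
    haveI := hNn
    haveI : Fact p.Prime := ⟨hp⟩
    have hNpg : IsPGroup p N := fun x => ⟨1, by rw [pow_one]; exact Subtype.ext (hNp x x.2)⟩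
    obtain ⟨e, he⟩ := IsPGroup.iff_card.mp hNpg
    have hcardG : Nat.card G = Nat.card (G ⧸ N) * Nat.card N :=
      Subgroup.card_eq_card_quotient_mul_card_subgroup N
    have hNgt : 1 < Nat.card N := (Subgroup.one_lt_card_iff_ne_bot N).mpr hNne
    have hQpos : 0 < Nat.card (G ⧸ N) := Nat.card_pos
    have hQlt : Nat.card (G ⧸ N) < k := by
      rw [← hk, hcardG]
      exact lt_mul_of_one_lt_right hQpos hNgt
    have hn0 : n ≠ 0 := by
      rintro rfl
      have h1 := Nat.eq_zero_of_zero_dvd hn
      have h2 : 0 < Nat.card G := Nat.card_pos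
      omega
    have IH : ∀ d : ℕ, d ∣ Nat.card (G ⧸ N) → Nat.card {y : G ⧸ N // y ^ d = 1} ≤ d →
        ∃ M : Subgroup (G ⧸ N), (M : Set (G ⧸ N)) = {y : G ⧸ N | y ^ d = 1} ∧ Nat.card M = d := by
      intro d hd hle
      have hdiv := Cfsg.Agent.S3993.result (G := G ⧸ N) d hd
      have hpos : 0 < Nat.card {y : G ⧸ N // y ^ d = 1} := by
        haveI : Nonempty {y : G ⧸ N // y ^ d = 1} := ⟨⟨1, one_pow d⟩⟩
        exact Nat.card_pos
      have heq : Nat.card {y : G ⧸ N // y ^ d = 1} = d :=
        le_antisymm hle (Nat.le_of_dvd hpos hdiv)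
      obtain ⟨M, hM⟩ := ih _ hQlt (G ⧸ N) rfl d hd heq
      refine ⟨M, hM, ?_⟩
      rw [← heq]
      exact Nat.card_congr (Equiv.subtypeEquivRight (fun y => Set.ext_iff.mp hM y))
    by_cases hpn : p ∣ n
    · -- the prime divides n
      obtain ⟨a, m, hm, hnam⟩ := Nat.exists_eq_pow_mul_and_not_dvd hn0 p hp.ne_one
      have ha : a ≠ 0 := by
        rintro rfl
        rw [pow_zero, one_mul] at hnam
        exact hm (hnam ▸ hpn)
      have hm0 : 0 < m := Nat.pos_of_ne_zero (by rintro rfl; exact hm (dvd_zero p))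
      have hineq : ∀ d : ℕ, d * p ∣ n →
          Nat.card {y : G ⧸ N // y ^ d = 1} * Nat.card N ≤ n := by
        intro d hdp
        have e1 : ∀ t : {y : G ⧸ N // y ^ d = 1} × N,
            (((Quotient.out t.1.1 : G) * (t.2 : G) : G) : G ⧸ N) = t.1.1 := by
          intro t
          rw [QuotientGroup.mk_mul, (QuotientGroup.eq_one_iff (t.2 : G)).mpr t.2.2, mul_one]
          exact QuotientGroup.out_eq' t.1.1
        have hmem : ∀ t : {y : G ⧸ N // y ^ d = 1} × N,
            ((Quotient.out t.1.1 : G) * (t.2 : G)) ^ n = 1 := by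
          intro t
          have h2 : ((Quotient.out t.1.1 : G) * (t.2 : G)) ^ d ∈ N := by
            rw [← QuotientGroup.eq_one_iff, QuotientGroup.mk_pow, e1 t]
            exact t.1.2
          obtain ⟨r, hr⟩ := hdp
          rw [hr, pow_mul, pow_mul, hNp _ h2, one_pow]
        rw [← hcount, ← Nat.card_prod]
        apply Nat.card_le_card_of_injective (fun t : {y : G ⧸ N // y ^ d = 1} × N =>
          (⟨(Quotient.out t.1.1 : G) * (t.2 : G), hmem t⟩ : {x : G // x ^ n = 1}))
        intro t t' htt
        have h0 : (Quotient.out t.1.1 : G) * (t.2 : G) = (Quotient.out t'.1.1 : G) * (t'.2 : G) :=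
          congrArg Subtype.val htt
        have h1 : t.1.1 = t'.1.1 := by
          rw [← e1 t, ← e1 t', h0]
        have h2 : (t.2 : G) = (t'.2 : G) := by
          rw [h1] at h0
          exact mul_left_cancel h0
        exact Prod.ext (Subtype.ext h1) (Subtype.ext h2)
      have hea : e ≤ a := by
        by_contra hlt
        rw [not_le] at hlt
        have hmp : m * p ∣ n := by
          obtain ⟨a', ha'⟩ : ∃ a', a = a' + 1 := ⟨a - 1, by omega⟩
          rw [hnam, ha', pow_succ]
          exact ⟨p ^ a', by ring⟩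
        have h1 := hineq m hmp
        have hmQ : m ∣ Nat.card (G ⧸ N) := by
          have hmG : m ∣ Nat.card (G ⧸ N) * Nat.card N := by
            rw [← hcardG]; exact (Dvd.intro_left _ hnam.symm).trans hn
          have hmc : Nat.Coprime m (Nat.card N) := by
            rw [he]
            exact Nat.Coprime.pow_right e
              (Nat.coprime_comm.mp ((Nat.Prime.coprime_iff_not_dvd hp).mpr hm))
          exact hmc.dvd_of_dvd_mul_right hmG
        have hdiv := Cfsg.Agent.S3993.result (G := G ⧸ N) m hmQ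
        have hpos : 0 < Nat.card {y : G ⧸ N // y ^ m = 1} := by
          haveI : Nonempty {y : G ⧸ N // y ^ m = 1} := ⟨⟨1, one_pow m⟩⟩
          exact Nat.card_pos
        have h2 : m ≤ Nat.card {y : G ⧸ N // y ^ m = 1} := Nat.le_of_dvd hpos hdiv
        have h3 : p ^ a < p ^ e := Nat.pow_lt_pow_right hp.one_lt hlt
        have h4 : m * p ^ a < m * p ^ e := mul_lt_mul_of_pos_left h3 hm0
        have h5 : m * p ^ e ≤ Nat.card {y : G ⧸ N // y ^ m = 1} * p ^ e :=
          Nat.mul_le_mul_right (p ^ e) h2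
        rw [he, hnam] at h1
        have h6 : m * p ^ e ≤ m * p ^ a := by
          calc m * p ^ e ≤ Nat.card {y : G ⧸ N // y ^ m = 1} * p ^ e := h5
            _ ≤ p ^ a * m := h1
            _ = m * p ^ a := mul_comm _ _
        exact (not_le.mpr h4) h6
      obtain ⟨b, hb⟩ : ∃ b, a = e + b := ⟨a - e, by omega⟩
      have hpe0 : 0 < p ^ e := pow_pos hp.pos e
      have hnd : n = (p ^ b * m) * p ^ e := by rw [hnam, hb, pow_add]; ring
      have he0 : e ≠ 0 := by
        rintro rfl
        rw [pow_zero] at he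
        omega
      have hpe : p ^ e = p * p ^ (e - 1) := by
        rw [← pow_succ']
        congr 1
        omega
      have hdp : (p ^ b * m) * p ∣ n := ⟨p ^ (e - 1), by rw [hnd, hpe]; ring⟩
      have hdQ : p ^ b * m ∣ Nat.card (G ⧸ N) := by
        have hn' := hn
        rw [hnd, hcardG, he] at hn'
        exact Nat.dvd_of_mul_dvd_mul_right hpe0 hn'
      have hle : Nat.card {y : G ⧸ N // y ^ (p ^ b * m) = 1} ≤ p ^ b * m := by
        have h1 := hineq (p ^ b * m) hdp
        rw [he] at h1
        have h2 : Nat.card {y : G ⧸ N // y ^ (p ^ b * m) = 1} * p ^ e ≤ (p ^ b * m) * p ^ e := by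
          rw [← hnd]; exact h1
        exact Nat.le_of_mul_le_mul_right h2 hpe0
      obtain ⟨Mb, hMb, hMbcard⟩ := IH (p ^ b * m) hdQ hle
      have hMcard : Nat.card (Mb.comap (QuotientGroup.mk' N)) = n := by
        rw [card_comap_mk, hMbcard, he, ← hnd]
      refine ⟨Mb.comap (QuotientGroup.mk' N), close_of_subset n _ ?_ (by rw [hcount, hMcard])⟩
      intro x hx
      have hx1 : (x : G ⧸ N) ∈ (Mb : Set (G ⧸ N)) := hx
      rw [hMb] at hx1
      have hx2 : (x : G ⧸ N) ^ (p ^ b * m) = 1 := hx1
      have hx3 : x ^ (p ^ b * m) ∈ N := by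
        rw [← QuotientGroup.eq_one_iff, QuotientGroup.mk_pow]
        exact hx2
      obtain ⟨r, hr⟩ := hdp
      rw [hr, pow_mul, pow_mul, hNp _ hx3, one_pow]
    · -- the prime does not divide n
      have hcop' : Nat.Coprime p n := (Nat.Prime.coprime_iff_not_dvd hp).mpr hpn
      have hcop : Nat.Coprime n (Nat.card N) := by
        rw [he]
        exact Nat.Coprime.pow_right e (Nat.coprime_comm.mp hcop')
      have hd : n ∣ Nat.card (G ⧸ N) := by
        have hn' := hn
        rw [hcardG] at hn'
        exact hcop.dvd_of_dvd_mul_right hn'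
      have hle : Nat.card {y : G ⧸ N // y ^ n = 1} ≤ n := by
        obtain ⟨c, -, hc⟩ := Nat.exists_mul_mod_eq_of_coprime 1 hcop' hn0
        have hf : ∀ x : {x : G // x ^ n = 1}, ((x.1 : G) : G ⧸ N) ^ n = 1 := by
          intro x
          rw [← QuotientGroup.mk_pow, x.2]
          rfl
        have hsurj : Function.Surjective (fun x : {x : G // x ^ n = 1} =>
            (⟨((x.1 : G) : G ⧸ N), hf x⟩ : {y : G ⧸ N // y ^ n = 1})) := by
          rintro ⟨y, hy⟩
          obtain ⟨x, rfl⟩ := QuotientGroup.mk_surjective y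
          have hxN : x ^ n ∈ N := by
            rw [← QuotientGroup.eq_one_iff, QuotientGroup.mk_pow]
            exact hy
          have hxnp : x ^ (n * p) = 1 := by rw [pow_mul]; exact hNp _ hxN
          refine ⟨⟨x ^ (p * c), ?_⟩, ?_⟩
          · rw [← pow_mul, show p * c * n = n * p * c by ring, pow_mul, hxnp, one_pow]
          · apply Subtype.ext
            show ((x ^ (p * c) : G) : G ⧸ N) = (x : G ⧸ N)
            rw [QuotientGroup.mk_pow, pow_eq_pow_mod (p * c) hy, hc, ← pow_eq_pow_mod 1 hy, pow_one]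
        have := Nat.card_le_card_of_surjective _ hsurj
        rw [hcount] at this
        exact this
      obtain ⟨Mb, hMb, hMbcard⟩ := IH n hd hle
      obtain ⟨M, hMdef⟩ : ∃ M : Subgroup G, M = Mb.comap (QuotientGroup.mk' N) := ⟨_, rfl⟩
      have hMcard : Nat.card M = n * Nat.card N := by rw [hMdef, card_comap_mk, hMbcard]
      have hNM : N ≤ M := by
        intro x hx
        rw [hMdef, Subgroup.mem_comap]
        have h1 : (QuotientGroup.mk' N) x = 1 := (QuotientGroup.eq_one_iff x).mpr hx
        rw [h1]; exact Subgroup.one_mem _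
      have hN'card : Nat.card (N.subgroupOf M) = Nat.card N :=
        Nat.card_congr (Subgroup.subgroupOfEquivOfLe hNM).toEquiv
      have hidx : (N.subgroupOf M).index = n := by
        have h1 := Subgroup.card_mul_index (N.subgroupOf M)
        rw [hN'card, hMcard] at h1
        have h2 : (N.subgroupOf M).index * Nat.card N = n * Nat.card N := by
          rw [mul_comm]; exact h1
        exact Nat.eq_of_mul_eq_mul_right (by omega) h2
      haveI : (N.subgroupOf M).Normal := Subgroup.normal_subgroupOf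
      obtain ⟨H', hH'⟩ := Subgroup.exists_right_complement'_of_coprime (N := N.subgroupOf M)
        (by rw [hN'card, hidx]; exact hcop.symm)
      have hH'card : Nat.card H' = n := hH'.symm.index_eq_card.symm.trans hidx
      have hHcard : Nat.card (H'.map M.subtype) = n := by
        rw [Subgroup.card_map_of_injective M.subtype_injective, hH'card]
      refine ⟨H'.map M.subtype, close_of_subset n _ (fun x hx => ?_) (by rw [hcount, hHcard])⟩
      have h1 := pow_card_sub (H'.map M.subtype) hx
      rwa [hHcard] at h1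

/-- If `G` is a finite solvable group and `n` divides the order of `G` and exactly `n` elements `x` of `G` satisfy `x^n = 1`, then these elements form a normal subgroup. -/
theorem result {G : Type*} [Group G] [Finite G] [Group.IsSolvable G] (n : ℕ) (hn : n ∣ Nat.card G) (hcount : Nat.card {x : G // x ^ n = 1} = n) : ∃ H : Subgroup G, H.Normal ∧ (H : Set G) = {x : G | x ^ n = 1} := by
  obtain ⟨H, hH⟩ := main _ G rfl n hn hcount
  refine ⟨H, ⟨fun x hx g => ?_⟩, hH⟩
  have hx' : x ^ n = 1 := by
    have h1 : x ∈ (H : Set G) := hx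
    rw [hH] at h1
    exact h1
  have h2 : g * x * g⁻¹ ∈ (H : Set G) := by
    rw [hH]
    show (g * x * g⁻¹) ^ n = 1
    rw [conj_pow, hx', mul_one, mul_inv_cancel]
  exact h2

end Cfsg.Agent.S4213
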