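import Cfsg.Statements.S1236
import Mathlib
import Cfsg.Agent.Helper8.MaxClass2
import Cfsg.Agent.Helper9.Dihedral
import Cfsg.Agent.S4213

set_option autoImplicit false
open Cfsg

namespace Cfsg.Agent.S1236

theorem zp_comm {G : Type*} [Group G] (x a b : G) (ha : a ∈ Subgroup.zpowers x)
    (hb : b ∈ Subgroup.zpowers x) : a * b = b * a := by
  obtain ⟨i, rfl⟩ := Subgroup.mem_zpowers_iff.mp ha
  obtain ⟨j, rfl⟩ := Subgroup.mem_zpowers_iff.mp hb
  exact zpow_mul_comm x i j

theorem core {G : Type*} [Group G] [Finite G] (x y : G)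
    (hcov : ∀ g, g ∈ Subgroup.zpowers x ∨ ∃ c ∈ Subgroup.zpowers x, g = c * y)
    (hfix : ∀ c ∈ Subgroup.zpowers x, y * c = c * y → c * c = 1)
    (V : Subgroup G) (hV4 : Nat.card V = 4) (hV2 : ∀ v ∈ V, v * v = 1)
    (g : G) (hg : ∀ v ∈ V, g * v = v * g) : g ∈ V := by
  have hsmall : ∀ u ∈ V, u ≠ 1 → ∃ v ∈ V, v ≠ 1 ∧ v ≠ u := by
    intro u hu hu1
    by_contra hcon
    push Not at hcon
    have hle : V ≤ Subgroup.zpowers u := by
      intro v hv
      by_cases hv1 : v = 1
      · rw [hv1]; exact one_mem _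
      · rw [hcon v hv hv1]; exact Subgroup.mem_zpowers u
    have h1 := Subgroup.card_le_of_le hle
    have h2 : Nat.card (Subgroup.zpowers u) = 2 := by
      rw [Nat.card_zpowers]
      exact orderOf_eq_prime (by rw [pow_two]; exact hV2 u hu) hu1
    omega
  have hnt : ∃ u ∈ V, u ≠ 1 := by
    have : Nontrivial V := by
      rw [← Finite.one_lt_card_iff_nontrivial]; omega
    obtain ⟨u, hu⟩ := exists_ne (1 : V)
    exact ⟨u, u.2, fun h => hu (Subtype.ext h)⟩
  have hb : ∃ b ∈ V, b ∉ Subgroup.zpowers x := by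
    by_contra hcon
    push Not at hcon
    obtain ⟨u, hu, hu1⟩ := hnt
    obtain ⟨v, hv, hv1, hvu⟩ := hsmall u hu hu1
    exact hvu (Cfsg.Agent.Helper9.involution_unique_zpowers x v u (hcon v hv) (hcon u hu)
      (hV2 v hv) (hV2 u hu) hv1 hu1)
  obtain ⟨b, hbV, hbC⟩ := hb
  have hb1 : b ≠ 1 := fun h => hbC (by rw [h]; exact one_mem _)
  obtain ⟨c2, hc2, hbc2⟩ : ∃ c ∈ Subgroup.zpowers x, b = c * y := by
    rcases hcov b with h | h
    · exact absurd h hbC
    · exact h
  have hz : ∃ z ∈ V, z ∈ Subgroup.zpowers x ∧ z ≠ 1 := by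
    obtain ⟨v, hv, hv1, hvb⟩ := hsmall b hbV hb1
    rcases hcov v with h | ⟨c1, hc1, hvc1⟩
    · exact ⟨v, hv, h, hv1⟩
    · refine ⟨v * b⁻¹, V.mul_mem hv (V.inv_mem hbV), ?_, ?_⟩
      · have : v * b⁻¹ = c1 * c2⁻¹ := by rw [hvc1, hbc2]; group
        rw [this]
        exact Subgroup.mul_mem _ hc1 (Subgroup.inv_mem _ hc2)
      · intro h
        apply hvb
        calc v = v * b⁻¹ * b := by group
          _ = b := by rw [h, one_mul]
  obtain ⟨z, hzV, hzC, hz1⟩ := hz
  have key : ∀ d ∈ Subgroup.zpowers x, b * d = d * b → d ∈ V := by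
    intro d hd hbd
    have h1 : y * d = d * y := by
      have h2 : c2 * y * d = d * (c2 * y) := by rw [← hbc2]; exact hbd
      have h3 : d * c2 = c2 * d := zp_comm x d c2 hd hc2
      have h4 : c2 * (y * d) = c2 * (d * y) := by
        calc c2 * (y * d) = c2 * y * d := by group
          _ = d * (c2 * y) := h2
          _ = d * c2 * y := by group
          _ = c2 * d * y := by rw [h3]
          _ = c2 * (d * y) := by group
      exact mul_left_cancel h4
    have h5 := hfix d hd h1
    by_cases hd1 : d = 1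
    · rw [hd1]; exact one_mem _
    · have := Cfsg.Agent.Helper9.involution_unique_zpowers x d z hd hzC h5
        (hV2 z hzV) hd1 hz1
      rw [this]; exact hzV
  rcases hcov g with h | ⟨c, hc, hgc⟩
  · exact key g h (hg b hbV).symm
  · have hd : g * b⁻¹ ∈ Subgroup.zpowers x := by
      have : g * b⁻¹ = c * c2⁻¹ := by rw [hgc, hbc2]; group
      rw [this]
      exact Subgroup.mul_mem _ hc (Subgroup.inv_mem _ hc2)
    have hcomm : b * (g * b⁻¹) = (g * b⁻¹) * b := by
      have := hg b hbV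
      calc b * (g * b⁻¹) = b * g * b⁻¹ := by group
        _ = g * b * b⁻¹ := by rw [this]
        _ = (g * b⁻¹) * b := by group
    have := key _ hd hcomm
    have h6 : g = (g * b⁻¹) * b := by group
    rw [h6]
    exact V.mul_mem this hbV

theorem reduce {R : Type*} [Group R] [Finite R] (t : R) (ht : orderOf t = 2)
    [(Subgroup.zpowers t).Normal] (A : Subgroup R) (hA : Cfsg.IsElementaryAbelian 2 A)
    (hA8 : Nat.card A = 8) (htA : t ∈ A)
    (x y : R ⧸ Subgroup.zpowers t)
    (hcov : ∀ g, g ∈ Subgroup.zpowers x ∨ ∃ c ∈ Subgroup.zpowers x, g = c * y)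
    (hfix : ∀ c ∈ Subgroup.zpowers x, y * c = c * y → c * c = 1) :
    Subgroup.centralizer (A : Set R) = A := by
  obtain ⟨π, hπ⟩ : ∃ π : R →* R ⧸ Subgroup.zpowers t,
    π = QuotientGroup.mk' (Subgroup.zpowers t) := ⟨_, rfl⟩
  have hNA : Subgroup.zpowers t ≤ A := Subgroup.zpowers_le.mpr htA
  have hcm : (A.map π).comap π = A := by
    rw [Subgroup.comap_map_eq, hπ, QuotientGroup.ker_mk']
    exact sup_eq_left.mpr hNA
  have hV4 : Nat.card (A.map π) = 4 := by
    have h1 := Cfsg.Agent.S4213.card_comap_mk (Subgroup.zpowers t) (A.map π)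
    rw [← hπ, hcm, hA8] at h1
    have h2 : Nat.card (Subgroup.zpowers t) = 2 := by rw [Nat.card_zpowers, ht]
    rw [h2] at h1
    omega
  have hV2 : ∀ v ∈ A.map π, v * v = 1 := by
    rintro v ⟨a, ha, rfl⟩
    have h1 : a ^ 2 = 1 := hA.2 a ha
    have h2 : π a * π a = π (a * a) := (map_mul π a a).symm
    rw [h2, ← pow_two, h1, map_one]
  apply le_antisymm
  · intro g hg
    rw [Subgroup.mem_centralizer_iff] at hg
    have h1 : π g ∈ A.map π := by
      apply core x y hcov hfix (A.map π) hV4 hV2 (π g)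
      rintro v ⟨a, ha, rfl⟩
      have h2 : π g * π a = π (g * a) := (map_mul π g a).symm
      have h3 : π a * π g = π (a * g) := (map_mul π a g).symm
      rw [h2, h3, hg a ha]
    have h4 : g ∈ (A.map π).comap π := h1
    rw [hcm] at h4
    exact h4
  · intro a ha
    rw [Subgroup.mem_centralizer_iff]
    intro b hb
    have := hA.1.is_comm.comm (⟨b, hb⟩ : A) ⟨a, ha⟩
    exact congrArg Subtype.val this

/-- Let R be a finite group, t a central involution of R such that R ⧸ ⟨t⟩ is dihedral (of order ≥ 4) or quasi-dihedral, and A ≤ R an elementary abelian subgroup of order 8 containing t. Then C_R(A) = A. -/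
theorem result {R : Type*} [Group R] [Finite R] (t : R) (ht : orderOf t = 2) (htz : t ∈ Subgroup.center R) [(Subgroup.zpowers t).Normal] (hq : (∃ m : ℕ, 2 ≤ m ∧ Nonempty (R ⧸ Subgroup.zpowers t ≃* DihedralGroup m)) ∨ Cfsg.IsQuasiDihedral (R ⧸ Subgroup.zpowers t)) (A : Subgroup R) (hA : Cfsg.IsElementaryAbelian 2 A) (hA8 : Nat.card A = 8) (htA : t ∈ A) : Subgroup.centralizer (A : Set R) = A := by
  rcases hq with ⟨m, hm, ⟨e⟩⟩ | ⟨n, hn, hcard, x, y, hx, hy, hxy⟩
  · haveI : NeZero m := ⟨by omega⟩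
    refine reduce t ht A hA hA8 htA (e.symm (DihedralGroup.r 1)) (e.symm (DihedralGroup.sr 0)) ?_ ?_
    · intro g
      obtain ⟨d, hd⟩ : ∃ d, d = e g := ⟨_, rfl⟩
      have hg : g = e.symm d := by rw [hd, e.symm_apply_apply]
      cases d with
      | r i =>
        left
        have h1 : (DihedralGroup.r i : DihedralGroup m) = DihedralGroup.r 1 ^ i.val := by
          rw [DihedralGroup.r_one_pow, ZMod.natCast_zmod_val]
        rw [hg, h1, map_pow]
        exact Subgroup.pow_mem _ (Subgroup.mem_zpowers _) _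
      | sr i =>
        right
        refine ⟨e.symm (DihedralGroup.r (-i)), ?_, ?_⟩
        · have h1 : (DihedralGroup.r (-i) : DihedralGroup m) = DihedralGroup.r 1 ^ (-i).val := by
            rw [DihedralGroup.r_one_pow, ZMod.natCast_zmod_val]
          rw [h1, map_pow]
          exact Subgroup.pow_mem _ (Subgroup.mem_zpowers _) _
        · rw [hg, ← map_mul]
          congr 1
          rw [DihedralGroup.r_mul_sr]
          congr 1
          ring
    · intro c hc hyc
      obtain ⟨k, hk⟩ : ∃ k : ℕ, e.symm (DihedralGroup.r 1) ^ k = c := by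
        have := (mem_powers_iff_mem_zpowers).mpr hc
        exact (Submonoid.mem_powers_iff _ _).mp this
      have h1 : e c = DihedralGroup.r (k : ZMod m) := by
        rw [← hk, map_pow, e.apply_symm_apply, DihedralGroup.r_one_pow]
      have h2 : e (e.symm (DihedralGroup.sr 0) * c) = e (c * e.symm (DihedralGroup.sr 0)) := by
        rw [hyc]
      rw [map_mul, map_mul, e.apply_symm_apply, h1, DihedralGroup.sr_mul_r,
        DihedralGroup.r_mul_sr] at h2
      have h3 : (0 : ZMod m) + (k : ZMod m) = 0 - (k : ZMod m) := DihedralGroup.sr.inj h2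
      apply e.injective
      rw [map_mul, h1, DihedralGroup.r_mul_r, map_one, DihedralGroup.one_def]
      congr 1
      linear_combination h3
  · obtain ⟨k, rfl⟩ : ∃ k, n = k + 3 := ⟨n - 3, by omega⟩
    have hpw : (2:ℕ) ^ (k + 3 - 1) = 4 * 2 ^ k := by
      have : k + 3 - 1 = k + 2 := by omega
      rw [this, pow_add]; ring
    have hw : 1 ≤ 2 ^ k := Nat.one_le_two_pow
    have hpn : (2:ℕ) ^ (k + 3) = 8 * 2 ^ k := by rw [pow_add]; ring
    have hC2 : (Subgroup.zpowers x).index = 2 := by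
      have h1 : 2 ^ (k + 3) * (Subgroup.zpowers x).index = 2 ^ (k + 3) * 2 := by
        have h0 := Subgroup.card_mul_index (Subgroup.zpowers x)
        rw [Nat.card_zpowers, hx, hcard] at h0
        rw [h0]; ring
      exact Nat.eq_of_mul_eq_mul_left (by positivity) h1
    have hyC : y ∉ Subgroup.zpowers x := by
      intro hy'
      have h1 : y * x = x * y := zp_comm x y x hy' (Subgroup.mem_zpowers x)
      have h2 : x ^ (2 ^ (k + 3 - 1) - 1) = x ^ 1 := by
        rw [← hxy, h1, pow_one]; group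
      rw [pow_eq_pow_iff_modEq, hx] at h2
      have h3 := h2
      unfold Nat.ModEq at h3
      have hlt1 : 2 ^ (k + 3 - 1) - 1 < 2 ^ (k + 3) := by omega
      have hlt2 : 1 < 2 ^ (k + 3) := by omega
      rw [Nat.mod_eq_of_lt hlt1, Nat.mod_eq_of_lt hlt2] at h3
      omega
    refine reduce t ht A hA hA8 htA x y
      (fun g => Cfsg.Agent.Helper8.mem_or_eq_mul _ hC2 y hyC g) ?_
    intro c hc hyc
    obtain ⟨i, hi⟩ : ∃ i : ℕ, x ^ i = c := by
      have := (mem_powers_iff_mem_zpowers).mpr hc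
      exact (Submonoid.mem_powers_iff _ _).mp this
    have h1 : c ^ (2 ^ (k + 3 - 1) - 1) = c := by
      calc c ^ (2 ^ (k + 3 - 1) - 1) = (x ^ (2 ^ (k + 3 - 1) - 1)) ^ i := by
            rw [← hi, ← pow_mul, ← pow_mul, mul_comm]
        _ = (y * x * y⁻¹) ^ i := by rw [hxy]
        _ = y * x ^ i * y⁻¹ := conj_pow
        _ = y * c * y⁻¹ := by rw [hi]
        _ = c := by rw [hyc]; group
    have h2 : c ^ (2 ^ (k + 3 - 1) - 2) = 1 := by
      have h3 : c ^ (2 ^ (k + 3 - 1) - 2) * c = 1 * c := by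
        rw [← pow_succ, one_mul]
        have : 2 ^ (k + 3 - 1) - 2 + 1 = 2 ^ (k + 3 - 1) - 1 := by omega
        rw [this]; exact h1
      exact mul_right_cancel h3
    have h4 : orderOf c ∣ 2 ^ (k + 3 - 1) - 2 := orderOf_dvd_of_pow_eq_one h2
    have h5 : orderOf c ∣ 2 ^ (k + 3) := by
      rw [← hx]; exact orderOf_dvd_of_mem_zpowers hc
    obtain ⟨j, hj, hcj⟩ := (Nat.dvd_prime_pow Nat.prime_two).mp h5
    have hj1 : j ≤ 1 := by
      by_contra hcon
      have h6 : (2:ℕ) ^ 2 ∣ 2 ^ j := pow_dvd_pow 2 (by omega)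
      rw [← hcj] at h6
      obtain ⟨q, hq⟩ := h6.trans h4
      omega
    have h7 : orderOf c ∣ 2 := by
      rw [hcj]
      calc 2 ^ j ∣ 2 ^ 1 := pow_dvd_pow 2 hj1
        _ = 2 := pow_one 2
    have := orderOf_dvd_iff_pow_eq_one.mp h7
    rw [← pow_two]; exact this

end Cfsg.Agent.S1236
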