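import Cfsg.Statements.S4023
import Mathlib
import Cfsg.Agent.Helper8.SameOrd

set_option autoImplicit false
open Cfsg

namespace Cfsg.Agent.S4023

/-- Let p be a prime and G a finite group in which any two p-subgroups of the same order are conjugate, with Sylow p-subgroup P. Then P is cyclic, or elementary abelian, or p = 2 and P is a quaternion group of order 8, or p is odd and P is non-abelian of order p³ and exponent p. -/
theorem result {G : Type*} [Group G] [Finite G]
    {p : ℕ} [Fact p.Prime] (hC : ∀ H K : Subgroup G, IsPGroup p H → IsPGroup p K → Nat.card H = Nat.card K →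
      ∃ g : G, K = H.map (MulAut.conj g).toMonoidHom) (P : Sylow p G) :
    IsCyclic P ∨ Cfsg.IsElementaryAbelian p (P : Subgroup G) ∨
      (p = 2 ∧ Nonempty ((P : Subgroup G) ≃* QuaternionGroup 2)) ∨
      (p ≠ 2 ∧ ¬ IsMulCommutative P ∧ Nat.card P = p ^ 3 ∧ Monoid.exponent P = p) := by
  have hQ : IsPGroup p ↥(P : Subgroup G) := P.isPGroup'
  have hiso : Cfsg.Agent.Helper8.SameOrd.Iso ↥(P : Subgroup G) := by
    intro H K hHK
    have h1 : IsPGroup p ↥(H.map (P : Subgroup G).subtype) :=
      IsPGroup.to_le P.isPGroup' (Subgroup.map_subtype_le H)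
    have h2 : IsPGroup p ↥(K.map (P : Subgroup G).subtype) :=
      IsPGroup.to_le P.isPGroup' (Subgroup.map_subtype_le K)
    have h3 : Nat.card ↥(H.map (P : Subgroup G).subtype) =
        Nat.card ↥(K.map (P : Subgroup G).subtype) := by
      rw [Subgroup.card_map_of_injective (Subgroup.subtype_injective _),
        Subgroup.card_map_of_injective (Subgroup.subtype_injective _), hHK]
    obtain ⟨g, hg⟩ := hC _ _ h1 h2 h3
    let e1 := H.equivMapOfInjective (P : Subgroup G).subtype (Subgroup.subtype_injective _)
    let e2 := (H.map (P : Subgroup G).subtype).equivMapOfInjective (MulAut.conj g).toMonoidHom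
      (MulAut.conj g).injective
    let e3 := MulEquiv.subgroupCongr hg
    let e4 := K.equivMapOfInjective (P : Subgroup G).subtype (Subgroup.subtype_injective _)
    exact ⟨e1.trans (e2.trans (e3.symm.trans e4.symm))⟩
  rcases Cfsg.Agent.Helper8.SameOrd.main hQ hiso with h | ⟨hab, hexp⟩ | ⟨hp2, hq⟩ |
    ⟨hp2, hna, hcard, hexp⟩
  · exact Or.inl h
  · right; left
    exact ⟨⟨⟨hab⟩⟩, fun a ha => by
      have h1 := hexp ⟨a, ha⟩
      exact congrArg Subtype.val h1⟩
  · right; right; left; exact ⟨hp2, hq⟩
  · right; right; right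
    exact ⟨hp2, fun hc => hna (fun a b => hc.is_comm.comm a b), hcard, hexp⟩

end Cfsg.Agent.S4023
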