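import Cfsg.Statements.S0026
import Cfsg.Agent.S0022
import Mathlib

set_option autoImplicit false
open Cfsg

namespace Cfsg.Agent.S0026

theorem comm_le {G : Type*} [Group G] (A K : Subgroup G)
    (hAK : A ≤ Subgroup.normalizer (K : Set G)) : ⁅K, A⁆ ≤ K := by
  rw [Subgroup.commutator_le]
  intro k hk a ha
  rw [commutatorElement_def]
  have h1 : a * k⁻¹ * a⁻¹ ∈ K := ((Subgroup.mem_normalizer_iff.1 (hAK ha)) k⁻¹).1 (K.inv_mem hk)
  have := K.mul_mem hk h1
  simpa [mul_assoc] using this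

/-- decomposition `k = x * c` with `x ∈ [K,A]`, `c ∈ C_K(A)`. -/
theorem decomp {G : Type*} [Group G] [Finite G] (A K : Subgroup G) (hAK : A ≤ Subgroup.normalizer (K : Set G))
    (hcop : (Nat.card A).Coprime (Nat.card K)) (hsolv : Group.IsSolvable A ∨ Group.IsSolvable K)
    (k : G) (hk : k ∈ K) :
    ∃ x ∈ ⁅K, A⁆, ∃ c ∈ K ⊓ Subgroup.centralizer (A : Set G), k = x * c := by
  have hNK : ⁅K, A⁆ ≤ K := comm_le A K hAK
  have hKn : K ≤ Subgroup.normalizer ((⁅K, A⁆ : Subgroup G) : Set G) :=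
    Subgroup.normalizer_commutator_ge_left K A
  have hAn : A ≤ Subgroup.normalizer ((⁅K, A⁆ : Subgroup G) : Set G) :=
    Subgroup.normalizer_commutator_ge_right K A
  have hfix : ∀ a ∈ A, a * k * a⁻¹ * k⁻¹ ∈ ⁅K, A⁆ := by
    intro a ha
    have := Subgroup.commutator_mem_commutator ha hk
    rw [Subgroup.commutator_comm]
    rwa [commutatorElement_def] at this
  obtain ⟨c, hc, hkc⟩ := Cfsg.Agent.S0022.result A K hAK hcop hsolv ⁅K, A⁆ hNK hKn hAn k hk hfix
  refine ⟨k * c⁻¹, ?_, c, hc, by group⟩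
  have h1 : (k⁻¹ * c)⁻¹ ∈ ⁅K, A⁆ := Subgroup.inv_mem _ hkc
  have h2 := ((Subgroup.mem_normalizer_iff.1 (hKn hk)) _).1 h1
  have e : k * (k⁻¹ * c)⁻¹ * k⁻¹ = k * c⁻¹ := by group
  rwa [e] at h2

/-- Under coprime action the acted-on group factorises as the commutator with A times the fixed points: K = [K, A] C_K(A). -/
theorem result {G : Type*} [Group G] [Finite G] (A K : Subgroup G) (hAK : A ≤ Subgroup.normalizer (K : Set G))
    (hcop : (Nat.card A).Coprime (Nat.card K)) (hsolv : Group.IsSolvable A ∨ Group.IsSolvable K) :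
    ⁅K, A⁆ ⊔ (K ⊓ Subgroup.centralizer (A : Set G)) = K := by
  apply le_antisymm
  · exact sup_le (comm_le A K hAK) inf_le_left
  · intro k hk
    obtain ⟨x, hx, c, hc, rfl⟩ := decomp A K hAK hcop hsolv k hk
    exact Subgroup.mul_mem_sup hx hc

end Cfsg.Agent.S0026
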