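import Cfsg.Statements.S0027
import Cfsg.Agent.S0026
import Mathlib

set_option autoImplicit false
open Cfsg

namespace Cfsg.Agent.S0027

/-- Under coprime action the commutator subgroup with A is stable: taking the commutator with A twice gives the same subgroup as once. -/
theorem result {G : Type*} [Group G] [Finite G] (A K : Subgroup G) (hAK : A ≤ Subgroup.normalizer (K : Set G))
    (hcop : (Nat.card A).Coprime (Nat.card K)) (hsolv : Group.IsSolvable A ∨ Group.IsSolvable K) :
    ⁅⁅K, A⁆, A⁆ = ⁅K, A⁆ := by
  apply le_antisymm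
  · exact Subgroup.commutator_mono (Cfsg.Agent.S0026.comm_le A K hAK) le_rfl
  · rw [Subgroup.commutator_le]
    intro k hk a ha
    obtain ⟨x, hx, c, hc, rfl⟩ := Cfsg.Agent.S0026.decomp A K hAK hcop hsolv k hk
    have hca : a * c = c * a := (Subgroup.mem_centralizer_iff.1 hc.2) a ha
    have h := Subgroup.commutator_mem_commutator hx ha
    rw [commutatorElement_def] at h ⊢
    have e : x * c * a * (x * c)⁻¹ * a⁻¹ = x * a * x⁻¹ * a⁻¹ := by
      have : x * c * a * (x * c)⁻¹ * a⁻¹ = x * (c * a) * c⁻¹ * x⁻¹ * a⁻¹ := by group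
      rw [this, ← hca]; group
    rw [e]
    exact h

end Cfsg.Agent.S0027
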