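import Cfsg.Statements.S0028
import Cfsg.Agent.S0027
import Mathlib

set_option autoImplicit false
open Cfsg

namespace Cfsg.Agent.S0028

theorem normalizer_commutator_of_le {G : Type*} [Group G] (P U Q : Subgroup G)
    (hPU : P ≤ Subgroup.normalizer (U : Set G)) (hPQ : P ≤ Subgroup.normalizer (Q : Set G)) :
    P ≤ Subgroup.normalizer ((⁅U, Q⁆ : Subgroup G) : Set G) := by
  have key : ∀ x ∈ P, ∀ h ∈ ⁅U, Q⁆, x * h * x⁻¹ ∈ ⁅U, Q⁆ := by
    intro x hx
    have hle : ⁅U, Q⁆ ≤ (⁅U, Q⁆).comap (MulAut.conj x).toMonoidHom := by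
      rw [Subgroup.commutator_le]
      intro u hu q hq
      rw [Subgroup.mem_comap, map_commutatorElement]
      exact Subgroup.commutator_mem_commutator
        ((Subgroup.mem_normalizer_iff.1 (hPU hx) u).1 hu)
        ((Subgroup.mem_normalizer_iff.1 (hPQ hx) q).1 hq)
    intro h hh
    exact hle hh
  intro x hx
  rw [Subgroup.mem_normalizer_iff]
  intro h
  refine ⟨key x hx h, fun hh => ?_⟩
  have h1 := key x⁻¹ (P.inv_mem hx) _ hh
  have e : x⁻¹ * (x * h * x⁻¹) * x⁻¹⁻¹ = h := by group
  rwa [e] at h1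

theorem eq_bot_of_commutator_eq {G : Type*} [Group G] (V S : Subgroup G)
    (hS : Group.IsNilpotent S) (hVS : V ≤ S) (h : ⁅V, S⁆ = V) : V = ⊥ := by
  obtain ⟨n, hn⟩ := (Subgroup.isNilpotent_iff_lowerCentralSeries (S := S)).1 hS
  have key : ∀ m, V ≤ S.lowerCentralSeries m := by
    intro m
    induction m with
    | zero => exact hVS
    | succ m ih =>
      have h1 : ⁅V, S⁆ ≤ ⁅S.lowerCentralSeries m, S⁆ := Subgroup.commutator_mono ih le_rfl
      rw [h] at h1
      rw [Subgroup.lowerCentralSeries_succ]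
      exact h1
  rw [eq_bot_iff, ← hn]
  exact key n

theorem card_lt_of_le_of_ne {G : Type*} [Group G] [Finite G] {H K : Subgroup G} (hle : H ≤ K)
    (hne : H ≠ K) : Nat.card H < Nat.card K := by
  by_contra hge
  exact hne (Subgroup.eq_of_le_of_card_ge hle (not_lt.1 hge))

theorem aux {G : Type*} [Group G] [Finite G] (p : ℕ) [Fact p.Prime]
    (P Q : Subgroup G) (hP : IsPGroup p P) (hQ : (Nat.card Q).Coprime p)
    (hPQ : P ≤ Subgroup.centralizer (Q : Set G)) :
    ∀ n : ℕ, ∀ U : Subgroup G, Nat.card U = n → IsPGroup p U →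
      P ≤ Subgroup.normalizer (U : Set G) → Q ≤ Subgroup.normalizer (U : Set G) →
      U ⊓ Subgroup.centralizer (P : Set G) ≤ Subgroup.centralizer (Q : Set G) →
      Q ≤ Subgroup.centralizer (U : Set G) := by
  intro n
  induction n using Nat.strong_induction_on with
  | _ n ih =>
    intro U hn hU hPU hQU hC
    have hcop : (Nat.card Q).Coprime (Nat.card U) := by
      obtain ⟨k, hk⟩ := IsPGroup.iff_card.1 hU
      rw [hk]; exact Nat.Coprime.pow_right k hQ
    have hsolv : Group.IsSolvable U := by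
      haveI := hU.isNilpotent
      infer_instance
    have hUQ_le : ⁅U, Q⁆ ≤ U := Cfsg.Agent.S0026.comm_le Q U hQU
    have hUP_le : ⁅U, P⁆ ≤ U := Cfsg.Agent.S0026.comm_le P U hPU
    have hQP : Q ≤ Subgroup.centralizer (P : Set G) := by
      intro q hq
      rw [Subgroup.mem_centralizer_iff]
      intro x hx
      exact (Subgroup.mem_centralizer_iff.1 (hPQ hx) q hq).symm
    by_cases hcase : ⁅U, Q⁆ = U
    · by_cases hbot : U = ⊥
      · subst hbot
        intro q _
        rw [Subgroup.mem_centralizer_iff]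
        intro u hu
        have hu1 : u = 1 := Subgroup.mem_bot.1 hu
        rw [hu1, one_mul, mul_one]
      · have hS : IsPGroup p (U ⊔ P : Subgroup G) := IsPGroup.to_sup_of_normal_left' hU hP hPU
        have hnil : Group.IsNilpotent (U ⊔ P : Subgroup G) := hS.isNilpotent
        have hne : ⁅U, P⁆ ≠ U := by
          intro heq
          apply hbot
          apply eq_bot_of_commutator_eq U (U ⊔ P) hnil le_sup_left
          apply le_antisymm
          · exact Cfsg.Agent.S0026.comm_le (U ⊔ P) U (sup_le Subgroup.le_normalizer hPU)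
          · calc U = ⁅U, P⁆ := heq.symm
              _ ≤ ⁅U, U ⊔ P⁆ := Subgroup.commutator_mono le_rfl le_sup_right
        have hlt : Nat.card (⁅U, P⁆ : Subgroup G) < n := by
          rw [← hn]; exact card_lt_of_le_of_ne hUP_le hne
        have hB : Q ≤ Subgroup.centralizer ((⁅U, P⁆ : Subgroup G) : Set G) :=
          ih _ hlt ⁅U, P⁆ rfl (hU.to_le hUP_le)
            (Subgroup.normalizer_commutator_ge_right U P)
            (normalizer_commutator_of_le Q U P hQU
              (hQP.trans (Subgroup.centralizer_le_normalizer _)))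
            ((inf_le_inf_right _ hUP_le).trans hC)
        have h1 : ⁅⁅U, P⁆, Q⁆ = ⊥ := by
          rw [Subgroup.commutator_comm (H₁ := ⁅U, P⁆) (H₂ := Q),
            Subgroup.commutator_eq_bot_iff_le_centralizer]
          exact hB
        have h2 : ⁅⁅P, Q⁆, U⁆ = ⊥ := by
          have h : ⁅P, Q⁆ = ⊥ := Subgroup.commutator_eq_bot_iff_le_centralizer.2 hPQ
          rw [h, Subgroup.commutator_bot_left]
        have h3 : ⁅⁅Q, U⁆, P⁆ = ⊥ := Subgroup.commutator_commutator_eq_bot_of_rotate h1 h2
        rw [Subgroup.commutator_comm (H₁ := Q) (H₂ := U), hcase] at h3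
        have hUP : U ≤ Subgroup.centralizer (P : Set G) :=
          Subgroup.commutator_eq_bot_iff_le_centralizer.1 h3
        have hUQ : U ≤ Subgroup.centralizer (Q : Set G) := (le_inf le_rfl hUP).trans hC
        rw [← Subgroup.commutator_eq_bot_iff_le_centralizer,
          Subgroup.commutator_comm (H₁ := Q) (H₂ := U),
          Subgroup.commutator_eq_bot_iff_le_centralizer]
        exact hUQ
    · have hlt : Nat.card (⁅U, Q⁆ : Subgroup G) < n := by
        rw [← hn]; exact card_lt_of_le_of_ne hUQ_le hcase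
      have hH : Q ≤ Subgroup.centralizer ((⁅U, Q⁆ : Subgroup G) : Set G) :=
        ih _ hlt ⁅U, Q⁆ rfl (hU.to_le hUQ_le)
          (normalizer_commutator_of_le P U Q hPU
            (hPQ.trans (Subgroup.centralizer_le_normalizer _)))
          (Subgroup.normalizer_commutator_ge_right U Q)
          ((inf_le_inf_right _ hUQ_le).trans hC)
      have h1 : ⁅⁅U, Q⁆, Q⁆ = ⊥ := by
        rw [Subgroup.commutator_comm (H₁ := ⁅U, Q⁆) (H₂ := Q),
          Subgroup.commutator_eq_bot_iff_le_centralizer]
        exact hH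
      have h2 : ⁅⁅U, Q⁆, Q⁆ = ⁅U, Q⁆ := Cfsg.Agent.S0027.result Q U hQU hcop (Or.inr hsolv)
      rw [h1] at h2
      rw [← Subgroup.commutator_eq_bot_iff_le_centralizer,
        Subgroup.commutator_comm (H₁ := Q) (H₂ := U)]
      exact h2.symm

/-- Thompson's P × Q Lemma: let a p-subgroup P and a subgroup Q of order prime to p centralise each other and normalise a p-subgroup U; if every element of U fixed by P is fixed by Q, then Q centralises U. -/
theorem result {G : Type*} [Group G] [Finite G] (p : ℕ) [Fact p.Prime]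
    (P Q U : Subgroup G) (hP : IsPGroup p P) (hQ : (Nat.card Q).Coprime p) (hU : IsPGroup p U)
    (hPQ : P ≤ Subgroup.centralizer (Q : Set G))
    (hPU : P ≤ Subgroup.normalizer (U : Set G)) (hQU : Q ≤ Subgroup.normalizer (U : Set G))
    (hC : U ⊓ Subgroup.centralizer (P : Set G) ≤ Subgroup.centralizer (Q : Set G)) :
    Q ≤ Subgroup.centralizer (U : Set G) := by
  exact aux p P Q hP hQ hPQ _ U rfl hU hPU hQU hC

end Cfsg.Agent.S0028
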