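import Cfsg.Statements.S0765
import Mathlib
import Cfsg.Agent.S0766
import Cfsg.Agent.S2585
-- import your own Cfsg.Agent.* helpers here

set_option autoImplicit false
open Cfsg

namespace Cfsg.Agent.S0765

open Matrix


/-- Generation of the symplectic group by symplectic transvections: the subgroup of Sp_2m(F) generated by all matrices of maps x ↦ x + c f(x, w) w is the whole group. -/
theorem result {F : Type*} [Field F] (m : ℕ) : Subgroup.closure {A : Matrix.symplecticGroup (Fin m) F | ∃ (w : Fin m ⊕ Fin m → F) (c : F), (A : Matrix (Fin m ⊕ Fin m) (Fin m ⊕ Fin m) F) = Cfsg.sympTransvection m w c} = ⊤ := by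
  classical
  rw [eq_top_iff]
  intro A _
  obtain ⟨e, he⟩ : ∃ e : Fin (m + m) ≃ Fin m ⊕ Fin m, e = finSumFinEquiv.symm := ⟨_, rfl⟩
  have hAJ : (A : Matrix (Fin m ⊕ Fin m) (Fin m ⊕ Fin m) F).transpose * Matrix.J (Fin m) F *
      (A : Matrix (Fin m ⊕ Fin m) (Fin m ⊕ Fin m) F) = Matrix.J (Fin m) F :=
    SymplecticGroup.mem_iff'.mp A.2
  have hx : LinearIndependent F
      (fun i : Fin (m + m) => (Pi.single (e i) 1 : Fin m ⊕ Fin m → F)) := by
    have h0 := (Pi.basisFun F (Fin m ⊕ Fin m)).linearIndependent.comp e e.injective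
    convert h0 using 1
    ext i
    simp
  have hinj : LinearMap.ker (Matrix.mulVecLin (A : Matrix (Fin m ⊕ Fin m) (Fin m ⊕ Fin m) F))
      = ⊥ := by
    rw [LinearMap.ker_eq_bot]
    exact Matrix.mulVec_injective_iff_isUnit.mpr
      ((Matrix.isUnit_iff_isUnit_det _).mpr (SymplecticGroup.symplectic_det A.2))
  have hy : LinearIndependent F (fun i : Fin (m + m) =>
      (A : Matrix (Fin m ⊕ Fin m) (Fin m ⊕ Fin m) F) *ᵥ
        (Pi.single (e i) 1 : Fin m ⊕ Fin m → F)) :=
    hx.map' (Matrix.mulVecLin (A : Matrix (Fin m ⊕ Fin m) (Fin m ⊕ Fin m) F)) hinj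
  obtain ⟨g, hgT, hg1, hg2⟩ := S0766.witt_gen (S0766.sB m F) (S0766.sB_nondeg m F)
    (S0766.sB_alt m F) (S0766.Tset m F) (S0766.id_mem m F) (S0766.comp_mem m F)
    (S0766.transv_mem m F) _ _ hx hy
    (fun i j => by rw [S0766.sB_apply, S0766.sB_apply]; exact S2585.symp_inv _ hAJ _ _)
  obtain ⟨M, hM, hgM⟩ := hgT
  have hMA : M = A := by
    apply Subtype.ext
    ext i j
    have h1 := hg2 (e.symm j)
    rw [hgM] at h1
    simp only [Equiv.apply_symm_apply] at h1
    have h2 := congrFun h1 i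
    rw [Matrix.mulVec_single_one, Matrix.mulVec_single_one] at h2
    exact h2
  rw [← hMA]
  exact hM


end Cfsg.Agent.S0765
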