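import Cfsg.Statements.S0768
import Mathlib
import Cfsg.Agent.S0766
import Cfsg.Agent.S2585
-- import your own Cfsg.Agent.* helpers here

set_option autoImplicit false
open scoped LinearAlgebra.Projectivization
open Cfsg

namespace Cfsg.Agent.S0768


open scoped LinearAlgebra.Projectivization
open Matrix

theorem block_step {G X : Type*} [Group G] [MulAction G X] {S : Set X}
    (hS : MulAction.IsBlock G S) {a b : X} (ha : a ∈ S) (hb : b ∈ S) (g : G)
    (hga : g • a ∈ S) : g • b ∈ S := by
  have h := hS.smul_eq_of_mem ha hga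
  rw [← h]
  exact Set.smul_mem_smul_set hb

theorem li_of_ne {F V : Type*} [Field F] [AddCommGroup V] [Module F V] (u v : V)
    (hu : u ≠ 0) (hv : v ≠ 0)
    (h : Projectivization.mk F u hu ≠ Projectivization.mk F v hv) :
    LinearIndependent F ![u, v] := by
  rw [LinearIndependent.pair_iff]
  intro s t hst
  by_cases hs : s = 0
  · rw [hs, zero_smul, zero_add] at hst
    exact ⟨hs, (smul_eq_zero.mp hst).resolve_right hv⟩
  · exfalso
    have h1 : s • u = -(t • v) := eq_neg_of_add_eq_zero_left hst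
    have h2 : (-(s⁻¹ * t)) • v = u := by
      calc (-(s⁻¹ * t)) • v = s⁻¹ • (-(t • v)) := by rw [neg_smul, mul_smul, smul_neg]
        _ = s⁻¹ • (s • u) := by rw [h1]
        _ = u := by rw [smul_smul, inv_mul_cancel₀ hs, one_smul]
    exact h ((Projectivization.mk_eq_mk_iff' F u v hu hv).mpr ⟨_, h2⟩)

/-- Abstract primitivity criterion for a group acting on the points of a symplectic space:
transitivity on non-orthogonal pairs and on orthogonal pairs of distinct points. -/
theorem preprim_abs {F V G : Type*} [Field F] [AddCommGroup V] [Module F V] [Group G]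
    [MulAction G (ℙ F V)]
    (B : LinearMap.BilinForm F V) (hB : B.Nondegenerate) (hA : B.IsAlt)
    (hN : ∀ (u v u' v' : V) (hu : u ≠ 0) (hv : v ≠ 0) (hu' : u' ≠ 0) (hv' : v' ≠ 0),
      B u v ≠ 0 → B u' v' ≠ 0 →
      ∃ g : G, g • Projectivization.mk F u hu = Projectivization.mk F u' hu' ∧
        g • Projectivization.mk F v hv = Projectivization.mk F v' hv')
    (hO : ∀ (u v u' v' : V) (hu : u ≠ 0) (hv : v ≠ 0) (hu' : u' ≠ 0) (hv' : v' ≠ 0),
      LinearIndependent F ![u, v] → LinearIndependent F ![u', v'] → B u v = 0 → B u' v' = 0 →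
      ∃ g : G, g • Projectivization.mk F u hu = Projectivization.mk F u' hu' ∧
        g • Projectivization.mk F v hv = Projectivization.mk F v' hv') :
    MulAction.IsPreprimitive G (ℙ F V) := by
  have hex : ∀ u : V, u ≠ 0 → ∃ v, B u v ≠ 0 := by
    intro u hu
    by_contra hcon
    push Not at hcon
    exact hu (hB.1 u hcon)
  have hex' : ∀ u : V, u ≠ 0 → ∃ v, B v u ≠ 0 := by
    intro u hu
    obtain ⟨v, hv⟩ := hex u hu
    exact ⟨v, fun h0 => hv (by rw [← hA.neg_eq v u, h0, neg_zero])⟩
  have hne : ∀ u v : V, B u v ≠ 0 → v ≠ 0 := by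
    intro u v h hv
    rw [hv, map_zero] at h
    exact h rfl
  have htrans : MulAction.IsPretransitive G (ℙ F V) := by
    refine ⟨fun P Q => ?_⟩
    obtain ⟨u, hu, rfl⟩ : ∃ (u : V) (hu : u ≠ 0), P = Projectivization.mk F u hu :=
      ⟨P.rep, P.rep_nonzero, P.mk_rep.symm⟩
    obtain ⟨u', hu', rfl⟩ : ∃ (u : V) (hu : u ≠ 0), Q = Projectivization.mk F u hu :=
      ⟨Q.rep, Q.rep_nonzero, Q.mk_rep.symm⟩
    obtain ⟨v, hv⟩ := hex u hu
    obtain ⟨v', hv'⟩ := hex u' hu'
    obtain ⟨g, hg, -⟩ := hN u v u' v' hu (hne u v hv) hu' (hne u' v' hv') hv hv'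
    exact ⟨g, hg⟩
  refine { toIsPretransitive := htrans, isTrivialBlock_of_isBlock := ?_ }
  intro S hS
  by_cases hsub : S.Subsingleton
  · exact Or.inl hsub
  · right
    rw [Set.not_subsingleton_iff] at hsub
    obtain ⟨P, hP, Q, hQ, hPQ⟩ := hsub
    obtain ⟨u, hu, rfl⟩ : ∃ (u : V) (hu : u ≠ 0), P = Projectivization.mk F u hu :=
      ⟨P.rep, P.rep_nonzero, P.mk_rep.symm⟩
    obtain ⟨v, hv, rfl⟩ : ∃ (u : V) (hu : u ≠ 0), Q = Projectivization.mk F u hu :=
      ⟨Q.rep, Q.rep_nonzero, Q.mk_rep.symm⟩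
    have hli : LinearIndependent F ![u, v] := li_of_ne u v hu hv hPQ
    rw [Set.eq_univ_iff_forall]
    intro R
    obtain ⟨r, hr, rfl⟩ : ∃ (u : V) (hu : u ≠ 0), R = Projectivization.mk F u hu :=
      ⟨R.rep, R.rep_nonzero, R.mk_rep.symm⟩
    by_cases huv : B u v = 0
    · have O1 : ∀ (x y : V) (hx : x ≠ 0) (hy : y ≠ 0), Projectivization.mk F x hx ∈ S →
          LinearIndependent F ![x, y] → B x y = 0 → Projectivization.mk F y hy ∈ S := by
        intro x y hx hy hxS hxy hBxy
        obtain ⟨g, hg1, hg2⟩ := hO u v x y hu hv hx hy hli hxy huv hBxy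
        rw [← hg2]
        exact block_step hS hP hQ g (by rw [hg1]; exact hxS)
      by_cases hur : B u r = 0
      · by_cases hPR : Projectivization.mk F u hu = Projectivization.mk F r hr
        · rw [← hPR]
          exact hP
        · exact O1 u r hu hr hP (li_of_ne u r hu hr hPR) hur
      · obtain ⟨s, hs⟩ : ∃ s : V, s = B r v • u - B r u • v := ⟨_, rfl⟩
        have hru : B r u ≠ 0 := fun h0 => hur (by rw [← hA.neg_eq r u, h0, neg_zero])
        have hli_us : LinearIndependent F ![u, s] := by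
          rw [LinearIndependent.pair_iff] at hli ⊢
          intro a b hab
          have h1 : (a + b * B r v) • u + (-(b * B r u)) • v = 0 := by
            rw [← hab, hs]
            module
          obtain ⟨h2, h3⟩ := hli _ _ h1
          have hb : b = 0 := by
            rcases mul_eq_zero.mp (neg_eq_zero.mp h3) with h | h
            · exact h
            · exact absurd h hru
          rw [hb, zero_mul, add_zero] at h2
          exact ⟨h2, hb⟩
        have hs0 : s ≠ 0 := by
          intro h0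
          rw [LinearIndependent.pair_iff] at hli_us
          have h1 := hli_us 0 1 (by rw [h0]; simp)
          exact one_ne_zero h1.2
        have hus : B u s = 0 := by
          rw [hs, map_sub, map_smul, map_smul, hA.self_eq_zero, huv]
          simp
        have hsS : Projectivization.mk F s hs0 ∈ S := O1 u s hu hs0 hP hli_us hus
        have hsr : B s r = 0 := by
          rw [hs, map_sub, map_smul, map_smul, LinearMap.sub_apply, LinearMap.smul_apply,
            LinearMap.smul_apply, ← hA.neg_eq r u, ← hA.neg_eq r v]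
          simp only [smul_eq_mul]
          ring
        have hli_sr : LinearIndependent F ![s, r] := by
          rw [LinearIndependent.pair_iff]
          intro a b hab
          have h1 : B u (a • s + b • r) = 0 := by rw [hab, map_zero]
          rw [map_add, map_smul, map_smul, hus, smul_zero, zero_add, smul_eq_mul] at h1
          have hb : b = 0 := (mul_eq_zero.mp h1).resolve_right hur
          rw [hb, zero_smul, add_zero] at hab
          exact ⟨(smul_eq_zero.mp hab).resolve_right hs0, hb⟩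
        have O2 : ∀ (x y : V) (hx : x ≠ 0) (hy : y ≠ 0), Projectivization.mk F x hx ∈ S →
            LinearIndependent F ![x, y] → B x y = 0 → Projectivization.mk F y hy ∈ S := O1
        exact O2 s r hs0 hr hsS hli_sr hsr
    · have N1 : ∀ (x y : V) (hx : x ≠ 0) (hy : y ≠ 0), Projectivization.mk F x hx ∈ S →
          B x y ≠ 0 → Projectivization.mk F y hy ∈ S := by
        intro x y hx hy hxS hBxy
        obtain ⟨g, hg1, hg2⟩ := hN u v x y hu hv hx hy huv hBxy
        rw [← hg2]
        exact block_step hS hP hQ g (by rw [hg1]; exact hxS)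
      obtain ⟨s, hs1, hs2⟩ : ∃ s, B u s ≠ 0 ∧ B s r ≠ 0 := by
        obtain ⟨s1, h1⟩ := hex u hu
        obtain ⟨s2, h2⟩ := hex' r hr
        by_cases h3 : B s1 r = 0
        · by_cases h4 : B u s2 = 0
          · refine ⟨s1 + s2, ?_, ?_⟩
            · rw [map_add, h4, add_zero]
              exact h1
            · rw [map_add, LinearMap.add_apply, h3, zero_add]
              exact h2
          · exact ⟨s2, h4, h2⟩
        · exact ⟨s1, h1, h3⟩
      have hs0 : s ≠ 0 := hne u s hs1
      exact N1 s r hs0 hr (N1 u s hu hs0 hP hs1) hs2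

variable {F : Type*} [Field F]

/-- The symplectic group of Mathlib mapped into the general linear group. -/
noncomputable def toGL (m : ℕ) (F : Type*) [Field F] :
    Matrix.symplecticGroup (Fin m) F →* Matrix.GeneralLinearGroup (Fin m ⊕ Fin m) F :=
  (Units.map (Matrix.symplecticGroup (Fin m) F).subtype).comp
    (toUnits (G := Matrix.symplecticGroup (Fin m) F)).toMonoidHom

theorem toGL_coe (m : ℕ) (A : Matrix.symplecticGroup (Fin m) F) :
    ((toGL m F A : Matrix.GeneralLinearGroup (Fin m ⊕ Fin m) F) :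
      Matrix (Fin m ⊕ Fin m) (Fin m ⊕ Fin m) F)
      = (A : Matrix (Fin m ⊕ Fin m) (Fin m ⊕ Fin m) F) := rfl

theorem toGL_mem (m : ℕ) (A : Matrix.symplecticGroup (Fin m) F) :
    toGL m F A ∈ Cfsg.spGL m F := by
  intro u v
  exact S2585.symp_inv _ (SymplecticGroup.mem_iff'.mp A.2) u v

theorem sp_trans_O (m : ℕ) (u v u' v' : Fin m ⊕ Fin m → F)
    (hli : LinearIndependent F ![u, v]) (hli' : LinearIndependent F ![u', v'])
    (h : S0766.sB m F u v = 0) (h' : S0766.sB m F u' v' = 0) :
    ∃ A : Matrix.symplecticGroup (Fin m) F,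
      (A : Matrix (Fin m ⊕ Fin m) (Fin m ⊕ Fin m) F) *ᵥ u = u' ∧
      (A : Matrix (Fin m ⊕ Fin m) (Fin m ⊕ Fin m) F) *ᵥ v = v' := by
  have hxy : ∀ i j : Fin 2, S0766.sB m F (![u', v'] i) (![u', v'] j)
      = S0766.sB m F (![u, v] i) (![u, v] j) := by
    intro i j
    fin_cases i <;> fin_cases j
    · show S0766.sB m F u' u' = S0766.sB m F u u
      rw [(S0766.sB_alt m F).self_eq_zero u', (S0766.sB_alt m F).self_eq_zero u]
    · show S0766.sB m F u' v' = S0766.sB m F u v
      rw [h, h']
    · show S0766.sB m F v' u' = S0766.sB m F v u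
      rw [← (S0766.sB_alt m F).neg_eq u' v', ← (S0766.sB_alt m F).neg_eq u v, h, h']
    · show S0766.sB m F v' v' = S0766.sB m F v v
      rw [(S0766.sB_alt m F).self_eq_zero v', (S0766.sB_alt m F).self_eq_zero v]
  obtain ⟨g, hgT, hg1, hg2⟩ := S0766.witt_gen (S0766.sB m F) (S0766.sB_nondeg m F)
    (S0766.sB_alt m F) (S0766.Tset m F) (S0766.id_mem m F) (S0766.comp_mem m F)
    (S0766.transv_mem m F) ![u, v] ![u', v'] hli hli' hxy
  obtain ⟨M, hM, hgM⟩ := hgT
  refine ⟨M, ?_, ?_⟩
  · rw [← hgM]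
    exact hg2 0
  · rw [← hgM]
    exact hg2 1

theorem sp_trans_N (m : ℕ) (u v u' v' : Fin m ⊕ Fin m → F)
    (h : S0766.sB m F u v ≠ 0) (h' : S0766.sB m F u' v' ≠ 0) :
    ∃ A : Matrix.symplecticGroup (Fin m) F,
      (A : Matrix (Fin m ⊕ Fin m) (Fin m ⊕ Fin m) F) *ᵥ u = u' ∧
      ∃ c : F, (A : Matrix (Fin m ⊕ Fin m) (Fin m ⊕ Fin m) F) *ᵥ v = c • v' := by
  have h1 : Cfsg.sympForm m F u ((S0766.sB m F u v)⁻¹ • v) = 1 := by
    rw [← S0766.sB_apply, map_smul, smul_eq_mul, inv_mul_cancel₀ h]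
  have h1' : Cfsg.sympForm m F u' ((S0766.sB m F u' v')⁻¹ • v') = 1 := by
    rw [← S0766.sB_apply, map_smul, smul_eq_mul, inv_mul_cancel₀ h']
  obtain ⟨A, -, hA1, hA2⟩ := S0766.result m u _ u' _ h1 h1'
  refine ⟨A, hA1, S0766.sB m F u v * (S0766.sB m F u' v')⁻¹, ?_⟩
  rw [Matrix.mulVec_smul] at hA2
  rw [mul_smul, ← hA2, smul_smul, mul_inv_cancel₀ h, one_smul]

theorem gl_smul_mk (m : ℕ) (g : Cfsg.spGL m F) (v : Fin m ⊕ Fin m → F) (hv : v ≠ 0)
    (w : Fin m ⊕ Fin m → F) (hw : w ≠ 0) (c : F)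
    (h : ((g : Matrix.GeneralLinearGroup (Fin m ⊕ Fin m) F) :
      Matrix (Fin m ⊕ Fin m) (Fin m ⊕ Fin m) F) *ᵥ v = c • w) :
    g • Projectivization.mk F v hv = Projectivization.mk F w hw := by
  show (g : Matrix.GeneralLinearGroup (Fin m ⊕ Fin m) F) • Projectivization.mk F v hv = _
  rw [Projectivization.smul_mk, Projectivization.mk_eq_mk_iff']
  exact ⟨c, h.symm⟩



/-- Primitivity: for m ≥ 1 and F finite, the symplectic group of the form sympForm (as a subgroup of the general linear group) acts primitively on the projective space of F^(2m). -/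
theorem result {F : Type*} [Field F] [Finite F] (m : ℕ) (hm : 1 ≤ m) : MulAction.IsPreprimitive ↥(Cfsg.spGL m F) (ℙ F (Fin m ⊕ Fin m → F)) := by
  classical
  apply preprim_abs (S0766.sB m F) (S0766.sB_nondeg m F) (S0766.sB_alt m F)
  · intro u v u' v' hu hv hu' hv' h h'
    obtain ⟨A, hA1, c, hA2⟩ := sp_trans_N m u v u' v' h h'
    refine ⟨⟨toGL m F A, toGL_mem m A⟩, ?_, ?_⟩
    · exact gl_smul_mk m _ u hu u' hu' 1 (by rw [one_smul]; exact hA1)
    · exact gl_smul_mk m _ v hv v' hv' c hA2
  · intro u v u' v' hu hv hu' hv' hli hli' h h'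
    obtain ⟨A, hA1, hA2⟩ := sp_trans_O m u v u' v' hli hli' h h'
    refine ⟨⟨toGL m F A, toGL_mem m A⟩, ?_, ?_⟩
    · exact gl_smul_mk m _ u hu u' hu' 1 (by rw [one_smul]; exact hA1)
    · exact gl_smul_mk m _ v hv v' hv' 1 (by rw [one_smul]; exact hA2)


end Cfsg.Agent.S0768
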