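import Cfsg.Statements.S0752
import Mathlib
-- import your own Cfsg.Agent.* helpers here

set_option autoImplicit false
open Cfsg

namespace Cfsg.Agent.S0752

def IsHyp {F V : Type*} [Field F] [AddCommGroup V] [Module F V] (B : LinearMap.BilinForm F V)
    (m : ℕ) (e f : Fin m → V) : Prop :=
  (∀ i j, B (e i) (f j) = if i = j then 1 else 0) ∧ (∀ i j, B (e i) (e j) = 0) ∧
    (∀ i j, B (f i) (f j) = 0)

theorem hyp_fe {F V : Type*} [Field F] [AddCommGroup V] [Module F V]
    (B : LinearMap.BilinForm F V) (hA : B.IsAlt) (m : ℕ) (e f : Fin m → V) (h : IsHyp B m e f) :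
    ∀ i j, B (f i) (e j) = if i = j then -1 else 0 := by
  intro i j
  rw [← hA.neg_eq (e j) (f i), h.1]
  by_cases hij : i = j
  · subst hij; simp
  · simp [hij, Ne.symm hij]

theorem hyp_sums {F V : Type*} [Field F] [AddCommGroup V] [Module F V]
    (B : LinearMap.BilinForm F V) (hA : B.IsAlt) (m : ℕ) (e f : Fin m → V) (h : IsHyp B m e f) :
    (∀ (j) (c : Fin m → F), B (e j) (∑ i, c i • e i) = 0) ∧
    (∀ (j) (c : Fin m → F), B (e j) (∑ i, c i • f i) = c j) ∧
    (∀ (j) (c : Fin m → F), B (f j) (∑ i, c i • e i) = - c j) ∧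
    (∀ (j) (c : Fin m → F), B (f j) (∑ i, c i • f i) = 0) := by
  classical
  have hfe := hyp_fe B hA m e f h
  obtain ⟨h1, h2, h3⟩ := h
  refine ⟨?_, ?_, ?_, ?_⟩
  · intro j c; simp [h2]
  · intro j c; simp [h1]
  · intro j c; simp [hfe]
  · intro j c; simp [h3]

theorem hyp_li {F V : Type*} [Field F] [AddCommGroup V] [Module F V]
    (B : LinearMap.BilinForm F V) (hA : B.IsAlt) (m : ℕ) (e f : Fin m → V) (h : IsHyp B m e f) :
    LinearIndependent F (Sum.elim e f) := by
  classical
  obtain ⟨s1, s2, s3, s4⟩ := hyp_sums B hA m e f h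
  rw [Fintype.linearIndependent_iff]
  intro g hg
  rw [Fintype.sum_sum_type] at hg
  simp only [Sum.elim_inl, Sum.elim_inr] at hg
  have key1 : ∀ j, g (Sum.inr j) = 0 := by
    intro j
    have h5 := congrArg (B (e j)) hg
    rw [map_add, s1, s2, map_zero, zero_add] at h5
    exact h5
  have key2 : ∀ j, g (Sum.inl j) = 0 := by
    intro j
    have h5 := congrArg (B (f j)) hg
    rw [map_add, s3, s4, map_zero, add_zero] at h5
    exact neg_eq_zero.mp h5
  rintro (i | i)
  · exact key2 i
  · exact key1 i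

theorem hyp_card {F V : Type*} [Field F] [AddCommGroup V] [Module F V] [FiniteDimensional F V]
    (B : LinearMap.BilinForm F V) (hA : B.IsAlt) (m : ℕ) (e f : Fin m → V) (h : IsHyp B m e f) :
    2 * m ≤ Module.finrank F V := by
  have h1 := (hyp_li B hA m e f h).fintype_card_le_finrank
  rw [Fintype.card_sum, Fintype.card_fin] at h1
  omega

theorem hyp_cons {F V : Type*} [Field F] [AddCommGroup V] [Module F V]
    (B : LinearMap.BilinForm F V) (hA : B.IsAlt) (m : ℕ) (e f : Fin m → V) (h : IsHyp B m e f)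
    (u v : V) (hu : ∀ i, B (e i) u = 0 ∧ B (f i) u = 0) (hv : ∀ i, B (e i) v = 0 ∧ B (f i) v = 0)
    (huv : B u v = 1) : IsHyp B (m+1) (Fin.cons u e) (Fin.cons v f) := by
  obtain ⟨h1, h2, h3⟩ := h
  have hue : ∀ i, B u (e i) = 0 := fun i => by rw [← hA.neg_eq, (hu i).1, neg_zero]
  have huf : ∀ i, B u (f i) = 0 := fun i => by rw [← hA.neg_eq, (hu i).2, neg_zero]
  have hve : ∀ i, B v (e i) = 0 := fun i => by rw [← hA.neg_eq, (hv i).1, neg_zero]
  have hvf : ∀ i, B v (f i) = 0 := fun i => by rw [← hA.neg_eq, (hv i).2, neg_zero]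
  have huu : B u u = 0 := hA.self_eq_zero u
  have hvv : B v v = 0 := hA.self_eq_zero v
  refine ⟨?_, ?_, ?_⟩
  · intro i j
    refine Fin.cases ?_ (fun i => ?_) i <;> refine Fin.cases ?_ (fun j => ?_) j
    · simp [huv]
    · simp [huf, (Fin.succ_ne_zero j).symm]
    · simp [(hv i).1, Fin.succ_ne_zero]
    · simp [h1]
  · intro i j
    refine Fin.cases ?_ (fun i => ?_) i <;> refine Fin.cases ?_ (fun j => ?_) j
    · simp [huu]
    · simp [hue]
    · simp [(hu i).1]
    · simp [h2]
  · intro i j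
    refine Fin.cases ?_ (fun i => ?_) i <;> refine Fin.cases ?_ (fun j => ?_) j
    · simp [hvv]
    · simp [hvf]
    · simp [(hv i).2]
    · simp [h3]

theorem exists_max_hyp {F V : Type*} [Field F] [AddCommGroup V] [Module F V]
    [FiniteDimensional F V] (B : LinearMap.BilinForm F V) (hA : B.IsAlt) :
    ∃ (m : ℕ) (e f : Fin m → V), IsHyp B m e f ∧
      ∀ (e' f' : Fin (m+1) → V), ¬ IsHyp B (m+1) e' f' := by
  by_contra hno
  push Not at hno
  have hall : ∀ m : ℕ, ∃ e f : Fin m → V, IsHyp B m e f := by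
    intro m
    induction m with
    | zero =>
      exact ⟨fun i => i.elim0, fun i => i.elim0, fun i => i.elim0, fun i => i.elim0,
        fun i => i.elim0⟩
    | succ m ih =>
      obtain ⟨e, f, h⟩ := ih
      obtain ⟨e', f', h'⟩ := hno m e f h
      exact ⟨e', f', h'⟩
  obtain ⟨e, f, h⟩ := hall (Module.finrank F V + 1)
  have := hyp_card B hA _ e f h
  omega

theorem main {F V : Type*} [Field F] [AddCommGroup V] [Module F V] [FiniteDimensional F V]
    (B : LinearMap.BilinForm F V) (hA : B.IsAlt) :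
    ∃ (m k : ℕ) (b : Module.Basis ((Fin m ⊕ Fin m) ⊕ Fin k) F V),
      (∀ i j : Fin m, B (b (Sum.inl (Sum.inl i))) (b (Sum.inl (Sum.inr j)))
        = if i = j then 1 else 0) ∧
      (∀ i j : Fin m, B (b (Sum.inl (Sum.inl i))) (b (Sum.inl (Sum.inl j))) = 0) ∧
      (∀ i j : Fin m, B (b (Sum.inl (Sum.inr i))) (b (Sum.inl (Sum.inr j))) = 0) ∧
      (∀ (j : Fin k) (v : V), B (b (Sum.inr j)) v = 0) := by
  classical
  obtain ⟨m, e, f, h, hmax⟩ := exists_max_hyp B hA
  have hli := hyp_li B hA m e f h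
  obtain ⟨s1, s2, s3, s4⟩ := hyp_sums B hA m e f h
  obtain ⟨W, hWmem⟩ : ∃ W : Submodule F V, ∀ w, w ∈ W ↔ ∀ i, B (e i) w = 0 ∧ B (f i) w = 0 := by
    refine ⟨⨅ i, (LinearMap.ker (B (e i)) ⊓ LinearMap.ker (B (f i))), fun w => ?_⟩
    simp only [Submodule.mem_iInf, Submodule.mem_inf, LinearMap.mem_ker]
  have hproj : ∀ v, v - (∑ i, B v (f i) • e i - ∑ i, B v (e i) • f i) ∈ W := by
    intro v
    rw [hWmem]
    intro j
    constructor
    · rw [map_sub, map_sub, s1, s2]
      have hs := hA.neg_eq (e j) v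
      linear_combination (-1 : F) * hs
    · rw [map_sub, map_sub, s3, s4]
      have hs := hA.neg_eq (f j) v
      linear_combination (-1 : F) * hs
  have heH : ∀ i, e i ∈ Submodule.span F (Set.range (Sum.elim e f)) :=
    fun i => Submodule.subset_span ⟨Sum.inl i, rfl⟩
  have hfH : ∀ i, f i ∈ Submodule.span F (Set.range (Sum.elim e f)) :=
    fun i => Submodule.subset_span ⟨Sum.inr i, rfl⟩
  have hcompl : IsCompl (Submodule.span F (Set.range (Sum.elim e f))) W := by
    constructor
    · rw [Submodule.disjoint_def]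
      intro x hxH hxW
      rw [Submodule.mem_span_range_iff_exists_fun] at hxH
      obtain ⟨g, rfl⟩ := hxH
      rw [Fintype.sum_sum_type] at hxW ⊢
      simp only [Sum.elim_inl, Sum.elim_inr] at hxW ⊢
      rw [hWmem] at hxW
      have ha : ∀ j, g (Sum.inl j) = 0 := by
        intro j
        have h5 := (hxW j).2
        rw [map_add, s3, s4, add_zero] at h5
        exact neg_eq_zero.mp h5
      have hc : ∀ j, g (Sum.inr j) = 0 := by
        intro j
        have h5 := (hxW j).1
        rw [map_add, s1, s2, zero_add] at h5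
        exact h5
      simp [ha, hc]
    · rw [codisjoint_iff, eq_top_iff]
      intro v _
      have hv : v = (∑ i, B v (f i) • e i - ∑ i, B v (e i) • f i) +
          (v - (∑ i, B v (f i) • e i - ∑ i, B v (e i) • f i)) := by abel
      rw [hv]
      apply Submodule.add_mem_sup
      · apply Submodule.sub_mem
        · exact Submodule.sum_mem _ (fun i _ => Submodule.smul_mem _ _ (heH i))
        · exact Submodule.sum_mem _ (fun i _ => Submodule.smul_mem _ _ (hfH i))
      · exact hproj v
  have hW0 : ∀ u ∈ W, ∀ v ∈ W, B u v = 0 := by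
    intro u hu v hv
    by_contra hne
    apply hmax (Fin.cons u e) (Fin.cons ((B u v)⁻¹ • v) f)
    apply hyp_cons B hA m e f h u ((B u v)⁻¹ • v) ((hWmem u).mp hu)
    · intro i
      have h5 := (hWmem v).mp hv i
      simp [h5.1, h5.2]
    · simp [hne]
  have hWall : ∀ w ∈ W, ∀ v, B w v = 0 := by
    intro w hw v
    have hv : v = (∑ i, B v (f i) • e i - ∑ i, B v (e i) • f i) +
        (v - (∑ i, B v (f i) • e i - ∑ i, B v (e i) • f i)) := by abel
    have hwe : ∀ i, B w (e i) = 0 := fun i => by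
      rw [← hA.neg_eq, ((hWmem w).mp hw i).1, neg_zero]
    have hwf : ∀ i, B w (f i) = 0 := fun i => by
      rw [← hA.neg_eq, ((hWmem w).mp hw i).2, neg_zero]
    rw [hv, map_add, hW0 w hw _ (hproj v), add_zero, map_sub, map_sum, map_sum]
    simp [hwe, hwf]
  obtain ⟨b, hb1, hb2⟩ : ∃ b : Module.Basis ((Fin m ⊕ Fin m) ⊕ Fin (Module.finrank F W)) F V,
      (∀ s, b (Sum.inl s) = Sum.elim e f s) ∧ (∀ j, b (Sum.inr j) ∈ W) := by
    refine ⟨((Module.Basis.span hli).prod (Module.finBasis F W)).map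
      (Submodule.prodEquivOfIsCompl _ W hcompl), ?_, ?_⟩
    · intro s
      rw [Module.Basis.map_apply, Submodule.coe_prodEquivOfIsCompl',
        Module.Basis.prod_apply_inl_fst, Module.Basis.prod_apply_inl_snd, Module.Basis.span_apply]
      simp
    · intro j
      rw [Module.Basis.map_apply, Submodule.coe_prodEquivOfIsCompl',
        Module.Basis.prod_apply_inr_fst, Module.Basis.prod_apply_inr_snd]
      simp
  obtain ⟨h1, h2, h3⟩ := h
  refine ⟨m, Module.finrank F W, b, ?_, ?_, ?_, ?_⟩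
  · intro i j; rw [hb1, hb1]; exact h1 i j
  · intro i j; rw [hb1, hb1]; exact h2 i j
  · intro i j; rw [hb1, hb1]; exact h3 i j
  · intro j v; exact hWall _ (hb2 j) v


/-- Classification of alternating forms: for an alternating bilinear form B on a finite-dimensional space over any field there is a basis indexed by (Fin m ⊕ Fin m) ⊕ Fin k such that B (e_i, f_j) = δ_ij, the e's are pairwise orthogonal, the f's are pairwise orthogonal, and the last k basis vectors are orthogonal to everything (they span the radical). -/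
theorem result {F V : Type*} [Field F] [AddCommGroup V] [Module F V] [FiniteDimensional F V] (B : LinearMap.BilinForm F V) (hA : B.IsAlt) : ∃ (m k : ℕ) (b : Module.Basis ((Fin m ⊕ Fin m) ⊕ Fin k) F V), (∀ i j : Fin m, B (b (Sum.inl (Sum.inl i))) (b (Sum.inl (Sum.inr j))) = if i = j then 1 else 0) ∧ (∀ i j : Fin m, B (b (Sum.inl (Sum.inl i))) (b (Sum.inl (Sum.inl j))) = 0) ∧ (∀ i j : Fin m, B (b (Sum.inl (Sum.inr i))) (b (Sum.inl (Sum.inr j))) = 0) ∧ (∀ (j : Fin k) (v : V), B (b (Sum.inr j)) v = 0) := by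
  exact main B hA


end Cfsg.Agent.S0752
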