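import Cfsg.Statements.S0245
import Mathlib
import Cfsg.Agent.S0752
import Cfsg.Agent.S0766
import Cfsg.Agent.S2585
-- import your own Cfsg.Agent.* helpers here

set_option autoImplicit false
open Cfsg

namespace Cfsg.Agent.S0245

open Matrix
open Cfsg.Agent.S0752 (IsHyp hyp_cons hyp_fe hyp_li)

universe u

section abstract

variable {F : Type*} {V : Type u} [Field F] [AddCommGroup V] [Module F V]

/-- The orthogonal complement of the pair `u, v`. -/
def Wp (B : LinearMap.BilinForm F V) (u v : V) : Submodule F V :=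
  LinearMap.ker (B u) ⊓ LinearMap.ker (B v)

theorem mem_Wp (B : LinearMap.BilinForm F V) (u v w : V) :
    w ∈ Wp B u v ↔ B u w = 0 ∧ B v w = 0 := Iff.rfl

theorem proj_mem (B : LinearMap.BilinForm F V) (hA : B.IsAlt) (u v : V) (huv : B u v = 1)
    (x : V) : x - B u x • v + B v x • u ∈ Wp B u v := by
  have hvu : B v u = -1 := by rw [← hA.neg_eq u v, huv]
  rw [mem_Wp]
  constructor
  · simp only [map_add, map_sub, map_smul, smul_eq_mul, huv, hA.self_eq_zero]
    ring
  · simp only [map_add, map_sub, map_smul, smul_eq_mul, hvu, hA.self_eq_zero]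
    ring

noncomputable def splitEquiv (B : LinearMap.BilinForm F V) (hA : B.IsAlt) (u v : V)
    (huv : B u v = 1) : V ≃ ↥(Wp B u v) × (F × F) where
  toFun x := (⟨x - B u x • v + B v x • u, proj_mem B hA u v huv x⟩, (B u x, B v x))
  invFun y := (y.1 : V) + y.2.1 • v - y.2.2 • u
  left_inv x := by
    show (x - B u x • v + B v x • u) + B u x • v - B v x • u = x
    abel
  right_inv y := by
    obtain ⟨⟨w, hw⟩, a, b⟩ := y
    have hw' : B u w = 0 ∧ B v w = 0 := hw
    have hvu : B v u = -1 := by rw [← hA.neg_eq u v, huv]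
    have e1 : B u (w + a • v - b • u) = a := by
      rw [map_sub, map_add, map_smul, map_smul, hw'.1, huv, hA.self_eq_zero]
      simp
    have e2 : B v (w + a • v - b • u) = b := by
      rw [map_sub, map_add, map_smul, map_smul, hw'.2, hvu, hA.self_eq_zero]
      simp
    refine Prod.ext (Subtype.ext ?_) (Prod.ext e1 e2)
    show (w + a • v - b • u) - B u (w + a • v - b • u) • v + B v (w + a • v - b • u) • u = w
    rw [e1, e2]
    abel

theorem card_pairs [Finite V] [Finite F] (B : LinearMap.BilinForm F V)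
    (hnd : ∀ u : V, u ≠ 0 → ∃ v, B u v = 1) :
    Nat.card {p : V × V // B p.1 p.2 = 1} * Nat.card F = (Nat.card V - 1) * Nat.card V := by
  classical
  choose! v₀ hv₀ using hnd
  have hne : ∀ p : {p : V × V // B p.1 p.2 = 1}, p.1.1 ≠ 0 := by
    rintro ⟨⟨u, v⟩, h⟩ h0
    have h' : B u v = 1 := h
    have h0' : u = 0 := h0
    rw [h0', map_zero, LinearMap.zero_apply] at h'
    exact zero_ne_one h'
  have e : {p : V × V // B p.1 p.2 = 1} × F ≃ {u : V // u ≠ 0} × V :=
    { toFun := fun y => (⟨y.1.1.1, hne y.1⟩, y.1.1.2 + (y.2 - 1) • v₀ y.1.1.1)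
      invFun := fun z => (⟨(z.1.1, z.2 - (B z.1.1 z.2 - 1) • v₀ z.1.1), by
          show B z.1.1 (z.2 - (B z.1.1 z.2 - 1) • v₀ z.1.1) = 1
          rw [map_sub, map_smul, hv₀ _ z.1.2, smul_eq_mul, mul_one]
          ring⟩, B z.1.1 z.2)
      left_inv := by
        rintro ⟨⟨⟨u, v⟩, h⟩, c⟩
        have hu : u ≠ 0 := hne ⟨⟨u, v⟩, h⟩
        have h' : B u v = 1 := h
        have e1 : B u (v + (c - 1) • v₀ u) = c := by
          rw [map_add, map_smul, h', hv₀ u hu, smul_eq_mul, mul_one]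
          ring
        apply Prod.ext
        · apply Subtype.ext
          apply Prod.ext
          · rfl
          · show v + (c - 1) • v₀ u - (B u (v + (c - 1) • v₀ u) - 1) • v₀ u = v
            rw [e1]
            abel
        · exact e1
      right_inv := by
        rintro ⟨⟨u, hu⟩, x⟩
        apply Prod.ext
        · rfl
        · show x - (B u x - 1) • v₀ u + (B u x - 1) • v₀ u = x
          abel }
  have h1 := Nat.card_congr e
  rw [Nat.card_prod, Nat.card_prod] at h1
  rw [h1]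
  have h2 : Nat.card V = Nat.card {u : V // u ≠ 0} + 1 := by
    rw [← Finite.card_option]
    exact (Nat.card_congr (Equiv.optionSubtypeNe (0 : V))).symm
  have h3 : Nat.card {u : V // u ≠ 0} = Nat.card V - 1 := by omega
  rw [h3]

theorem nd_restrict (B : LinearMap.BilinForm F V) (hA : B.IsAlt)
    (hnd : ∀ u : V, u ≠ 0 → ∃ v, B u v = 1) (u v : V) (huv : B u v = 1) :
    ∀ w : Wp B u v, w ≠ 0 → ∃ w' : Wp B u v, (B.restrict (Wp B u v)) w w' = 1 := by
  intro w hw
  have hw0 : (w : V) ≠ 0 := fun h => hw (Subtype.ext h)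
  obtain ⟨x, hx⟩ := hnd w hw0
  refine ⟨⟨x - B u x • v + B v x • u, proj_mem B hA u v huv x⟩, ?_⟩
  show B (w : V) (x - B u x • v + B v x • u) = 1
  have hw' := (mem_Wp B u v w).mp w.2
  have h1 : B (w : V) u = 0 := by rw [← hA.neg_eq, hw'.1, neg_zero]
  have h2 : B (w : V) v = 0 := by rw [← hA.neg_eq, hw'.2, neg_zero]
  rw [map_add, map_sub, map_smul, map_smul, h1, h2, hx]
  simp

/-- The first pair of a hyperbolic system. -/
def headPair (B : LinearMap.BilinForm F V) (m : ℕ)
    (h : {p : (Fin (m+1) → V) × (Fin (m+1) → V) // IsHyp B (m+1) p.1 p.2}) :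
    {p : V × V // B p.1 p.2 = 1} :=
  ⟨(h.1.1 0, h.1.2 0), by
    have h1 := h.2.1 0 0
    rw [if_pos rfl] at h1
    exact h1⟩

theorem headPair_eq_iff (B : LinearMap.BilinForm F V) (m : ℕ)
    (h : {p : (Fin (m+1) → V) × (Fin (m+1) → V) // IsHyp B (m+1) p.1 p.2}) (u v : V)
    (huv : B u v = 1) :
    headPair B m h = ⟨(u, v), huv⟩ ↔ h.1.1 0 = u ∧ h.1.2 0 = v := by
  constructor
  · intro hh
    have h1 := congrArg Subtype.val hh
    exact ⟨congrArg Prod.fst h1, congrArg Prod.snd h1⟩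
  · rintro ⟨h1, h2⟩
    exact Subtype.ext (Prod.ext h1 h2)

theorem tail_mem_e (B : LinearMap.BilinForm F V) (hA : B.IsAlt) (m : ℕ) (u v : V)
    (e f : Fin (m+1) → V) (h : IsHyp B (m+1) e f) (he : e 0 = u) (hf : f 0 = v) (i : Fin m) :
    e i.succ ∈ Wp B u v := by
  subst he
  subst hf
  rw [mem_Wp]
  refine ⟨h.2.1 0 i.succ, ?_⟩
  rw [hyp_fe B hA _ e f h 0 i.succ, if_neg (Fin.succ_ne_zero i).symm]

theorem tail_mem_f (B : LinearMap.BilinForm F V) (m : ℕ) (u v : V)
    (e f : Fin (m+1) → V) (h : IsHyp B (m+1) e f) (he : e 0 = u) (hf : f 0 = v) (i : Fin m) :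
    f i.succ ∈ Wp B u v := by
  subst he
  subst hf
  rw [mem_Wp]
  refine ⟨?_, h.2.2 0 i.succ⟩
  rw [h.1 0 i.succ, if_neg (Fin.succ_ne_zero i).symm]

theorem tail_hyp (B : LinearMap.BilinForm F V) (m : ℕ) (u v : V)
    (e f : Fin (m+1) → V) (h : IsHyp B (m+1) e f)
    (he' : ∀ i : Fin m, e i.succ ∈ Wp B u v) (hf' : ∀ i : Fin m, f i.succ ∈ Wp B u v) :
    IsHyp (B.restrict (Wp B u v)) m (fun i => ⟨e i.succ, he' i⟩) (fun i => ⟨f i.succ, hf' i⟩) := by
  refine ⟨fun i j => ?_, fun i j => h.2.1 i.succ j.succ, fun i j => h.2.2 i.succ j.succ⟩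
  show B (e i.succ) (f j.succ) = _
  rw [h.1]
  simp only [Fin.succ_inj]

theorem cons_hyp (B : LinearMap.BilinForm F V) (hA : B.IsAlt) (m : ℕ) (u v : V)
    (huv : B u v = 1) (e' f' : Fin m → Wp B u v)
    (h' : IsHyp (B.restrict (Wp B u v)) m e' f') :
    IsHyp B (m+1) (Fin.cons u (fun i => (e' i : V))) (Fin.cons v (fun i => (f' i : V))) := by
  refine hyp_cons B hA m (fun i => (e' i : V)) (fun i => (f' i : V))
    ⟨fun i j => h'.1 i j, fun i j => h'.2.1 i j, fun i j => h'.2.2 i j⟩ u v ?_ ?_ huv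
  · intro i
    have h1 := (mem_Wp B u v _).mp (e' i).2
    have h2 := (mem_Wp B u v _).mp (f' i).2
    constructor
    · show B (e' i : V) u = 0
      rw [← hA.neg_eq, h1.1, neg_zero]
    · show B (f' i : V) u = 0
      rw [← hA.neg_eq, h2.1, neg_zero]
  · intro i
    have h1 := (mem_Wp B u v _).mp (e' i).2
    have h2 := (mem_Wp B u v _).mp (f' i).2
    constructor
    · show B (e' i : V) v = 0
      rw [← hA.neg_eq, h1.2, neg_zero]
    · show B (f' i : V) v = 0
      rw [← hA.neg_eq, h2.2, neg_zero]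

noncomputable def fiberEquiv (B : LinearMap.BilinForm F V) (hA : B.IsAlt) (m : ℕ) (u v : V)
    (huv : B u v = 1) :
    {h : {p : (Fin (m+1) → V) × (Fin (m+1) → V) // IsHyp B (m+1) p.1 p.2} //
      h.1.1 0 = u ∧ h.1.2 0 = v} ≃
    {r : (Fin m → Wp B u v) × (Fin m → Wp B u v) // IsHyp (B.restrict (Wp B u v)) m r.1 r.2} where
  toFun h := ⟨(fun i => ⟨h.1.1.1 i.succ, tail_mem_e B hA m u v _ _ h.1.2 h.2.1 h.2.2 i⟩,
      fun i => ⟨h.1.1.2 i.succ, tail_mem_f B m u v _ _ h.1.2 h.2.1 h.2.2 i⟩),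
    tail_hyp B m u v _ _ h.1.2 _ _⟩
  invFun r := ⟨⟨(Fin.cons u (fun i => (r.1.1 i : V)), Fin.cons v (fun i => (r.1.2 i : V))),
    cons_hyp B hA m u v huv r.1.1 r.1.2 r.2⟩, rfl, rfl⟩
  left_inv h := by
    obtain ⟨⟨⟨e, f⟩, hyp⟩, he, hf⟩ := h
    apply Subtype.ext
    apply Subtype.ext
    apply Prod.ext
    · funext i
      refine Fin.cases ?_ (fun j => ?_) i
      · exact he.symm
      · rfl
    · funext i
      refine Fin.cases ?_ (fun j => ?_) i
      · exact hf.symm
      · rfl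
  right_inv r := by
    obtain ⟨⟨e', f'⟩, hyp'⟩ := r
    exact Subtype.ext (Prod.ext (funext fun i => Subtype.ext rfl)
      (funext fun i => Subtype.ext rfl))

end abstract

theorem count_hyp (F : Type*) [Field F] [Finite F] (m : ℕ) :
    ∀ {V : Type u} [AddCommGroup V] [Module F V] [Finite V] (B : LinearMap.BilinForm F V),
      B.IsAlt → (∀ u : V, u ≠ 0 → ∃ v, B u v = 1) → Nat.card V = Nat.card F ^ (2 * m) →
      Nat.card {p : (Fin m → V) × (Fin m → V) // IsHyp B m p.1 p.2}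
        = Nat.card F ^ (m ^ 2) * ∏ i ∈ Finset.range m, (Nat.card F ^ (2 * (i + 1)) - 1) := by
  induction m with
  | zero =>
    intro V _ _ _ B hA hnd hV
    have hU : Unique {p : (Fin 0 → V) × (Fin 0 → V) // IsHyp B 0 p.1 p.2} :=
      { default := ⟨(fun i => i.elim0, fun i => i.elim0), fun i => i.elim0, fun i => i.elim0,
          fun i => i.elim0⟩
        uniq := fun p => Subtype.ext (Prod.ext (funext fun i => i.elim0)
          (funext fun i => i.elim0)) }
    rw [Nat.card_unique]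
    simp
  | succ m ih =>
    intro V _ _ _ B hA hnd hV
    classical
    have : Fintype {p : V × V // B p.1 p.2 = 1} := Fintype.ofFinite _
    have hq : 0 < Nat.card F := Nat.card_pos
    have hcard := Nat.card_congr (Equiv.sigmaFiberEquiv (headPair B m))
    rw [Nat.card_sigma] at hcard
    have hfib : ∀ p : {p : V × V // B p.1 p.2 = 1},
        Nat.card {h // headPair B m h = p}
          = Nat.card F ^ (m ^ 2) * ∏ i ∈ Finset.range m, (Nat.card F ^ (2 * (i + 1)) - 1) := by
      rintro ⟨⟨u, v⟩, huv⟩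
      have huv' : B u v = 1 := huv
      rw [Nat.card_congr (Equiv.subtypeEquivRight (fun h => headPair_eq_iff B m h u v huv)),
        Nat.card_congr (fiberEquiv B hA m u v huv')]
      apply ih (B.restrict (Wp B u v)) (fun w => hA.self_eq_zero (w : V))
        (nd_restrict B hA hnd u v huv')
      have h2 := Nat.card_congr (splitEquiv B hA u v huv')
      rw [Nat.card_prod, Nat.card_prod, hV] at h2
      have h3 : Nat.card F ^ (2 * (m + 1)) = Nat.card F ^ (2 * m) * (Nat.card F * Nat.card F) := by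
        ring
      rw [h3] at h2
      exact (Nat.eq_of_mul_eq_mul_right (Nat.mul_pos hq hq) h2).symm
    rw [← hcard, Finset.sum_congr rfl (fun p _ => hfib p), Finset.sum_const, Finset.card_univ,
      smul_eq_mul, ← Nat.card_eq_fintype_card]
    have hP := card_pairs B hnd
    rw [hV] at hP
    have hP' : Nat.card {p : V × V // B p.1 p.2 = 1}
        = (Nat.card F ^ (2 * (m + 1)) - 1) * Nat.card F ^ (2 * m + 1) := by
      apply Nat.eq_of_mul_eq_mul_right hq
      rw [hP]
      ring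
    rw [hP', Finset.prod_range_succ]
    ring

/-! ### The matrix group -/

def e0 (m : ℕ) (F : Type*) [Field F] : Fin m → (Fin m ⊕ Fin m → F) :=
  fun i => Pi.single (Sum.inr i) 1

def f0 (m : ℕ) (F : Type*) [Field F] : Fin m → (Fin m ⊕ Fin m → F) :=
  fun i => Pi.single (Sum.inl i) 1

theorem std_hyp (m : ℕ) (F : Type*) [Field F] : IsHyp (S0766.sB m F) m (e0 m F) (f0 m F) := by
  refine ⟨fun i j => ?_, fun i j => ?_, fun i j => ?_⟩
  · show Matrix.toBilin' (Matrix.J (Fin m) F) (Pi.single (Sum.inr i) 1) (Pi.single (Sum.inl j) 1)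
      = _
    rw [Matrix.toBilin'_single]
    simp [Matrix.J, Matrix.one_apply]
  · show Matrix.toBilin' (Matrix.J (Fin m) F) (Pi.single (Sum.inr i) 1) (Pi.single (Sum.inr j) 1)
      = _
    rw [Matrix.toBilin'_single]
    simp [Matrix.J]
  · show Matrix.toBilin' (Matrix.J (Fin m) F) (Pi.single (Sum.inl i) 1) (Pi.single (Sum.inl j) 1)
      = _
    rw [Matrix.toBilin'_single]
    simp [Matrix.J]

theorem hyp_gram {F V : Type*} [Field F] [AddCommGroup V] [Module F V]
    (B : LinearMap.BilinForm F V) (hA : B.IsAlt) (m : ℕ) (e f e' f' : Fin m → V)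
    (h : IsHyp B m e f) (h' : IsHyp B m e' f') :
    ∀ s t : Fin m ⊕ Fin m, B (Sum.elim e' f' s) (Sum.elim e' f' t)
      = B (Sum.elim e f s) (Sum.elim e f t) := by
  rintro (i | i) (j | j)
  · show B (e' i) (e' j) = B (e i) (e j)
    rw [h.2.1, h'.2.1]
  · show B (e' i) (f' j) = B (e i) (f j)
    rw [h.1, h'.1]
  · show B (f' i) (e' j) = B (f i) (e j)
    rw [hyp_fe B hA m e f h, hyp_fe B hA m e' f' h']
  · show B (f' i) (f' j) = B (f i) (f j)
    rw [h.2.2, h'.2.2]

theorem sp_hyp (m : ℕ) (F : Type*) [Field F] (g : Matrix (Fin m ⊕ Fin m) (Fin m ⊕ Fin m) F)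
    (hg : g.transpose * Matrix.J (Fin m) F * g = Matrix.J (Fin m) F) :
    IsHyp (S0766.sB m F) m (fun i => g *ᵥ e0 m F i) (fun i => g *ᵥ f0 m F i) := by
  have hs := std_hyp m F
  have key : ∀ x y, S0766.sB m F (g *ᵥ x) (g *ᵥ y) = S0766.sB m F x y := by
    intro x y
    rw [S0766.sB_apply, S0766.sB_apply]
    exact S2585.symp_inv g hg x y
  exact ⟨fun i j => (key _ _).trans (hs.1 i j), fun i j => (key _ _).trans (hs.2.1 i j),
    fun i j => (key _ _).trans (hs.2.2 i j)⟩

noncomputable def spToHyp (m : ℕ) (F : Type*) [Field F]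
    (g : Matrix.symplecticGroup (Fin m) F) :
    {p : (Fin m → (Fin m ⊕ Fin m → F)) × (Fin m → (Fin m ⊕ Fin m → F)) //
      IsHyp (S0766.sB m F) m p.1 p.2} :=
  ⟨(fun i => (g : Matrix (Fin m ⊕ Fin m) (Fin m ⊕ Fin m) F) *ᵥ e0 m F i,
    fun i => (g : Matrix (Fin m ⊕ Fin m) (Fin m ⊕ Fin m) F) *ᵥ f0 m F i),
    sp_hyp m F _ (SymplecticGroup.mem_iff'.mp g.2)⟩

theorem spToHyp_bij (m : ℕ) (F : Type*) [Field F] : Function.Bijective (spToHyp m F) := by
  classical
  constructor
  · intro g g' h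
    have h1 : ∀ i, (g : Matrix (Fin m ⊕ Fin m) (Fin m ⊕ Fin m) F) *ᵥ e0 m F i
        = (g' : Matrix (Fin m ⊕ Fin m) (Fin m ⊕ Fin m) F) *ᵥ e0 m F i :=
      fun i => congrFun (congrArg (fun p => p.1.1) h) i
    have h2 : ∀ i, (g : Matrix (Fin m ⊕ Fin m) (Fin m ⊕ Fin m) F) *ᵥ f0 m F i
        = (g' : Matrix (Fin m ⊕ Fin m) (Fin m ⊕ Fin m) F) *ᵥ f0 m F i :=
      fun i => congrFun (congrArg (fun p => p.1.2) h) i
    apply Subtype.ext
    ext a b
    rcases b with b | b
    · have h3 := congrFun (h2 b) a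
      unfold f0 at h3
      rw [Matrix.mulVec_single_one, Matrix.mulVec_single_one] at h3
      exact h3
    · have h3 := congrFun (h1 b) a
      unfold e0 at h3
      rw [Matrix.mulVec_single_one, Matrix.mulVec_single_one] at h3
      exact h3
  · rintro ⟨⟨e', f'⟩, hyp'⟩
    have hyp'' : IsHyp (S0766.sB m F) m e' f' := hyp'
    have hx : LinearIndependent F (fun k : Fin (m + m) =>
        Sum.elim (e0 m F) (f0 m F) (finSumFinEquiv.symm k)) :=
      (hyp_li _ (S0766.sB_alt m F) m _ _ (std_hyp m F)).comp _ finSumFinEquiv.symm.injective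
    have hy : LinearIndependent F (fun k : Fin (m + m) =>
        Sum.elim e' f' (finSumFinEquiv.symm k)) :=
      (hyp_li _ (S0766.sB_alt m F) m _ _ hyp'').comp _ finSumFinEquiv.symm.injective
    obtain ⟨g, hgT, hg1, hg2⟩ := S0766.witt_gen (S0766.sB m F) (S0766.sB_nondeg m F)
      (S0766.sB_alt m F) (S0766.Tset m F) (S0766.id_mem m F) (S0766.comp_mem m F)
      (S0766.transv_mem m F) _ _ hx hy
      (fun i j => hyp_gram _ (S0766.sB_alt m F) m _ _ _ _ (std_hyp m F) hyp'' _ _)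
    obtain ⟨M, hM, hgM⟩ := hgT
    refine ⟨M, ?_⟩
    apply Subtype.ext
    apply Prod.ext
    · funext i
      have h3 := hg2 (finSumFinEquiv (Sum.inl i))
      rw [hgM] at h3
      simp only [Equiv.symm_apply_apply, Sum.elim_inl, Sum.elim_inr] at h3
      exact h3
    · funext i
      have h3 := hg2 (finSumFinEquiv (Sum.inr i))
      rw [hgM] at h3
      simp only [Equiv.symm_apply_apply, Sum.elim_inl, Sum.elim_inr] at h3
      exact h3


/-- Order of the finite symplectic group: |Sp_{2m}(q)| = q^(m^2) * prod_{i=1}^{m} (q^(2i) - 1). -/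
theorem result {F : Type*} [Field F] [Fintype F] {q : ℕ} (hF : Fintype.card F = q) (m : ℕ) : Nat.card (Matrix.symplecticGroup (Fin m) F) = q ^ (m ^ 2) * ∏ i ∈ Finset.range m, (q ^ (2 * (i + 1)) - 1) := by
  classical
  rw [Nat.card_eq_of_bijective _ (spToHyp_bij m F)]
  have hq : Nat.card F = q := by rw [Nat.card_eq_fintype_card, hF]
  have hnd : ∀ u : Fin m ⊕ Fin m → F, u ≠ 0 → ∃ v, S0766.sB m F u v = 1 := by
    intro u hu
    have h1 : ∃ y, S0766.sB m F u y ≠ 0 := by
      by_contra hno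
      push Not at hno
      exact hu ((S0766.sB_nondeg m F).1 u hno)
    obtain ⟨y, hy⟩ := h1
    refine ⟨(S0766.sB m F u y)⁻¹ • y, ?_⟩
    rw [map_smul, smul_eq_mul, inv_mul_cancel₀ hy]
  have hV : Nat.card (Fin m ⊕ Fin m → F) = Nat.card F ^ (2 * m) := by
    rw [Nat.card_fun, Nat.card_sum, Nat.card_fin, two_mul]
  have h := count_hyp F m (S0766.sB m F) (S0766.sB_alt m F) hnd hV
  rw [hq] at h
  exact h


end Cfsg.Agent.S0245
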