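import Mathlib
import Cfsg.Statements.S0778

set_option autoImplicit false
open Cfsg

namespace Cfsg.Agent.S0778

open Matrix

theorem blk_mem {F : Type*} [Field F] (m : ℕ) (X Y : Matrix (Fin m) (Fin m) F) (h : X * Y = 1) :
    Matrix.fromBlocks X 0 0 Yᵀ ∈ Matrix.symplecticGroup (Fin m) F := by
  have h2 : Yᵀ * Xᵀ = 1 := by rw [← Matrix.transpose_mul, h, Matrix.transpose_one]
  rw [SymplecticGroup.mem_iff, Matrix.J, Matrix.fromBlocks_multiply, Matrix.fromBlocks_transpose,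
    Matrix.fromBlocks_multiply]
  simp [h, h2]

noncomputable def psi {F : Type*} [Field F] (m : ℕ) :
    Matrix.GeneralLinearGroup (Fin m) F →* Matrix.symplecticGroup (Fin m) F where
  toFun X := ⟨Matrix.fromBlocks (X : Matrix (Fin m) (Fin m) F) 0 0
      ((X⁻¹ : Matrix.GeneralLinearGroup (Fin m) F) : Matrix (Fin m) (Fin m) F)ᵀ,
    blk_mem m _ _ (by rw [← Units.val_mul, mul_inv_cancel, Units.val_one])⟩
  map_one' := by
    apply Subtype.ext
    show Matrix.fromBlocks ((1 : Matrix.GeneralLinearGroup (Fin m) F) : Matrix (Fin m) (Fin m) F) 0 0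
      (((1 : Matrix.GeneralLinearGroup (Fin m) F)⁻¹ : Matrix.GeneralLinearGroup (Fin m) F) :
        Matrix (Fin m) (Fin m) F)ᵀ = 1
    rw [inv_one, Units.val_one, Matrix.transpose_one, Matrix.fromBlocks_one]
  map_mul' X Y := by
    apply Subtype.ext
    show Matrix.fromBlocks ((X * Y : Matrix.GeneralLinearGroup (Fin m) F) : Matrix (Fin m) (Fin m) F)
        0 0 (((X * Y)⁻¹ : Matrix.GeneralLinearGroup (Fin m) F) : Matrix (Fin m) (Fin m) F)ᵀ =
      Matrix.fromBlocks (X : Matrix (Fin m) (Fin m) F) 0 0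
        ((X⁻¹ : Matrix.GeneralLinearGroup (Fin m) F) : Matrix (Fin m) (Fin m) F)ᵀ *
      Matrix.fromBlocks (Y : Matrix (Fin m) (Fin m) F) 0 0
        ((Y⁻¹ : Matrix.GeneralLinearGroup (Fin m) F) : Matrix (Fin m) (Fin m) F)ᵀ
    rw [Matrix.fromBlocks_multiply, _root_.mul_inv_rev, Units.val_mul, Units.val_mul, Matrix.transpose_mul]
    simp

theorem psi_val {F : Type*} [Field F] (m : ℕ) (X : Matrix.GeneralLinearGroup (Fin m) F) :
    ((psi m X : Matrix.symplecticGroup (Fin m) F) : Matrix (Fin m ⊕ Fin m) (Fin m ⊕ Fin m) F) =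
      Matrix.fromBlocks (X : Matrix (Fin m) (Fin m) F) 0 0
        ((X⁻¹ : Matrix.GeneralLinearGroup (Fin m) F) : Matrix (Fin m) (Fin m) F)ᵀ := rfl

theorem psi_inj {F : Type*} [Field F] (m : ℕ) : Function.Injective (psi (F := F) m) := by
  intro X Y h
  have h1 := congrArg (fun A : Matrix.symplecticGroup (Fin m) F =>
    (A : Matrix (Fin m ⊕ Fin m) (Fin m ⊕ Fin m) F).toBlocks₁₁) h
  simp only [psi_val, Matrix.toBlocks_fromBlocks₁₁] at h1
  exact Units.ext h1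

theorem mulVec_eq_zero_iff {F : Type*} [Field F] (m : ℕ) {P Q : Matrix (Fin m) (Fin m) F}
    (h : Q * P = 1) (u : Fin m → F) : P *ᵥ u = 0 ↔ u = 0 := by
  constructor
  · intro hu
    have h1 : Q *ᵥ (P *ᵥ u) = u := by rw [Matrix.mulVec_mulVec, h, Matrix.one_mulVec]
    rw [← h1, hu, Matrix.mulVec_zero]
  · intro hu; rw [hu, Matrix.mulVec_zero]

theorem stab_inr {F : Type*} [Field F] (m : ℕ) (X Z Z' : Matrix (Fin m) (Fin m) F)
    (hZ : Z' * Z = 1) (v : Fin m ⊕ Fin m → F) :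
    (∀ i : Fin m, v (Sum.inr i) = 0) ↔
      (∀ i : Fin m, (Matrix.fromBlocks X 0 0 Z *ᵥ v) (Sum.inr i) = 0) := by
  rw [Matrix.fromBlocks_mulVec]
  have h1 : (∀ i : Fin m, v (Sum.inr i) = 0) ↔ v ∘ Sum.inr = 0 := by
    constructor
    · intro h; funext i; exact h i
    · intro h i; exact congrFun h i
  have h2 : (∀ i : Fin m, (Sum.elim (X *ᵥ (v ∘ Sum.inl) +
      (0 : Matrix (Fin m) (Fin m) F) *ᵥ (v ∘ Sum.inr))
      ((0 : Matrix (Fin m) (Fin m) F) *ᵥ (v ∘ Sum.inl) + Z *ᵥ (v ∘ Sum.inr)) :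
        Fin m ⊕ Fin m → F) (Sum.inr i) = 0) ↔ Z *ᵥ (v ∘ Sum.inr) = 0 := by
    constructor
    · intro h; funext i; have := h i; simpa using this
    · intro h i; simp [h]
  rw [h1, h2, mulVec_eq_zero_iff m hZ]

theorem stab_inl {F : Type*} [Field F] (m : ℕ) (X Z X' : Matrix (Fin m) (Fin m) F)
    (hX : X' * X = 1) (v : Fin m ⊕ Fin m → F) :
    (∀ i : Fin m, v (Sum.inl i) = 0) ↔
      (∀ i : Fin m, (Matrix.fromBlocks X 0 0 Z *ᵥ v) (Sum.inl i) = 0) := by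
  rw [Matrix.fromBlocks_mulVec]
  have h1 : (∀ i : Fin m, v (Sum.inl i) = 0) ↔ v ∘ Sum.inl = 0 := by
    constructor
    · intro h; funext i; exact h i
    · intro h i; exact congrFun h i
  have h2 : (∀ i : Fin m, (Sum.elim (X *ᵥ (v ∘ Sum.inl) +
      (0 : Matrix (Fin m) (Fin m) F) *ᵥ (v ∘ Sum.inr))
      ((0 : Matrix (Fin m) (Fin m) F) *ᵥ (v ∘ Sum.inl) + Z *ᵥ (v ∘ Sum.inr)) :
        Fin m ⊕ Fin m → F) (Sum.inl i) = 0) ↔ X *ᵥ (v ∘ Sum.inl) = 0 := by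
    constructor
    · intro h; funext i; have := h i; simpa using this
    · intro h i; simp [h]
  rw [h1, h2, mulVec_eq_zero_iff m hX]

theorem range_eq {F : Type*} [Field F] (m : ℕ) :
    (psi (F := F) m).range =
      Cfsg.stabilizing (Cfsg.spToMat m F) {v : Fin m ⊕ Fin m → F | ∀ i : Fin m, v (Sum.inr i) = 0} ⊓
      Cfsg.stabilizing (Cfsg.spToMat m F) {v : Fin m ⊕ Fin m → F | ∀ i : Fin m, v (Sum.inl i) = 0} := by
  ext A
  constructor
  · rintro ⟨X, rfl⟩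
    refine Subgroup.mem_inf.mpr ⟨?_, ?_⟩
    · intro v
      show (∀ i : Fin m, v (Sum.inr i) = 0) ↔
        (∀ i : Fin m, (((psi m X : Matrix.symplecticGroup (Fin m) F) :
          Matrix (Fin m ⊕ Fin m) (Fin m ⊕ Fin m) F) *ᵥ v) (Sum.inr i) = 0)
      rw [psi_val]
      apply stab_inr m _ _ ((X : Matrix (Fin m) (Fin m) F)ᵀ)
      rw [← Matrix.transpose_mul, Units.inv_mul, Matrix.transpose_one]
    · intro v
      show (∀ i : Fin m, v (Sum.inl i) = 0) ↔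
        (∀ i : Fin m, (((psi m X : Matrix.symplecticGroup (Fin m) F) :
          Matrix (Fin m ⊕ Fin m) (Fin m ⊕ Fin m) F) *ᵥ v) (Sum.inl i) = 0)
      rw [psi_val]
      apply stab_inl m _ _ ((X⁻¹ : Matrix.GeneralLinearGroup (Fin m) F) : Matrix (Fin m) (Fin m) F)
      rw [Units.inv_mul]
  · intro hA
    obtain ⟨hW, hU⟩ := Subgroup.mem_inf.mp hA
    have hW' : ∀ v : Fin m ⊕ Fin m → F, (∀ i : Fin m, v (Sum.inr i) = 0) ↔
        (∀ i : Fin m, ((A : Matrix (Fin m ⊕ Fin m) (Fin m ⊕ Fin m) F) *ᵥ v) (Sum.inr i) = 0) := hW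
    have hU' : ∀ v : Fin m ⊕ Fin m → F, (∀ i : Fin m, v (Sum.inl i) = 0) ↔
        (∀ i : Fin m, ((A : Matrix (Fin m ⊕ Fin m) (Fin m ⊕ Fin m) F) *ᵥ v) (Sum.inl i) = 0) := hU
    have h21 : (A : Matrix (Fin m ⊕ Fin m) (Fin m ⊕ Fin m) F).toBlocks₂₁ = 0 := by
      ext i j
      have h := (hW' (Pi.single (Sum.inl j) 1)).mp (fun i' => Pi.single_eq_of_ne (by simp) 1) i
      rw [Matrix.mulVec_single_one] at h
      exact h
    have h12 : (A : Matrix (Fin m ⊕ Fin m) (Fin m ⊕ Fin m) F).toBlocks₁₂ = 0 := by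
      ext i j
      have h := (hU' (Pi.single (Sum.inr j) 1)).mp (fun i' => Pi.single_eq_of_ne (by simp) 1) i
      rw [Matrix.mulVec_single_one] at h
      exact h
    have hM : (A : Matrix (Fin m ⊕ Fin m) (Fin m ⊕ Fin m) F) =
        Matrix.fromBlocks (A : Matrix (Fin m ⊕ Fin m) (Fin m ⊕ Fin m) F).toBlocks₁₁ 0 0
          (A : Matrix (Fin m ⊕ Fin m) (Fin m ⊕ Fin m) F).toBlocks₂₂ := by
      conv_lhs => rw [← Matrix.fromBlocks_toBlocks (A : Matrix (Fin m ⊕ Fin m) (Fin m ⊕ Fin m) F)]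
      rw [h21, h12]
    have hsymp := SymplecticGroup.mem_iff.mp A.2
    rw [hM, Matrix.J, Matrix.fromBlocks_multiply, Matrix.fromBlocks_transpose,
      Matrix.fromBlocks_multiply, Matrix.fromBlocks_inj] at hsymp
    obtain ⟨-, hs12, -, -⟩ := hsymp
    have hPS : (A : Matrix (Fin m ⊕ Fin m) (Fin m ⊕ Fin m) F).toBlocks₁₁ *
        ((A : Matrix (Fin m ⊕ Fin m) (Fin m ⊕ Fin m) F).toBlocks₂₂)ᵀ = 1 := by
      simpa using hs12
    refine ⟨⟨(A : Matrix (Fin m ⊕ Fin m) (Fin m ⊕ Fin m) F).toBlocks₁₁,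
      ((A : Matrix (Fin m ⊕ Fin m) (Fin m ⊕ Fin m) F).toBlocks₂₂)ᵀ, hPS,
      mul_eq_one_comm.mp hPS⟩, ?_⟩
    apply Subtype.ext
    rw [psi_val]
    show Matrix.fromBlocks (A : Matrix (Fin m ⊕ Fin m) (Fin m ⊕ Fin m) F).toBlocks₁₁ 0 0
      (((A : Matrix (Fin m ⊕ Fin m) (Fin m ⊕ Fin m) F).toBlocks₂₂)ᵀ)ᵀ = A
    rw [Matrix.transpose_transpose]
    exact hM.symm

/-- The elements of Sp_2m(F) stabilising both W = ⟨e_1..e_m⟩ and U = ⟨f_1..f_m⟩ form a subgroup isomorphic to GL_m(F) (block-diagonal matrices diag(X, X^(−ᵀ)) up to the sign convention of J), for m ≥ 1 or m = 0 alike. -/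
theorem result {F : Type*} [Field F] (m : ℕ) : Nonempty (↥(Cfsg.stabilizing (Cfsg.spToMat m F) {v : Fin m ⊕ Fin m → F | ∀ i : Fin m, v (Sum.inr i) = 0} ⊓ Cfsg.stabilizing (Cfsg.spToMat m F) {v : Fin m ⊕ Fin m → F | ∀ i : Fin m, v (Sum.inl i) = 0}) ≃* Matrix.GeneralLinearGroup (Fin m) F) :=
  ⟨((MonoidHom.ofInjective (psi_inj m)).trans (MulEquiv.subgroupCongr (range_eq m))).symm⟩

end Cfsg.Agent.S0778
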