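import Cfsg.Statements.S2389
import Mathlib
import Cfsg.Agent.Helper14.SpConjV
import Cfsg.Agent.Helper2.SpEmbed

set_option autoImplicit false
open Cfsg

namespace Cfsg.Agent.S2389
open Polynomial

theorem semi_sp {F : Type*} [Field F] [Fintype F] (p : ℕ) [Fact p.Prime] [CharP F p] (n : ℕ)
    (g : ↥(Matrix.symplecticGroup (Fin n) F)) (hg : (orderOf g).Coprime p) :
    Module.End.IsSemisimple
      (Matrix.toLin' (g : Matrix (Fin n ⊕ Fin n) (Fin n ⊕ Fin n) F)) := by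
  apply Module.End.isSemisimple_of_squarefree_aeval_eq_zero (p := X ^ (orderOf g) - 1)
  · apply (Polynomial.X_pow_sub_one_separable_iff.mpr _).squarefree
    intro h0
    rw [CharP.cast_eq_zero_iff F p] at h0
    have h1 := Nat.Coprime.eq_one_of_dvd hg.symm h0
    exact (Fact.out : p.Prime).one_lt.ne' h1
  · have h1 : Matrix.toLin' (g : Matrix (Fin n ⊕ Fin n) (Fin n ⊕ Fin n) F) =
        Matrix.toLinAlgEquiv' (g : Matrix (Fin n ⊕ Fin n) (Fin n ⊕ Fin n) F) := rfl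
    have h2 : (g : Matrix (Fin n ⊕ Fin n) (Fin n ⊕ Fin n) F) ^ orderOf g = 1 := by
      rw [← SubmonoidClass.coe_pow, pow_orderOf_eq_one]; rfl
    rw [map_sub, map_pow, aeval_X, map_one, h1, ← map_pow, h2, map_one, sub_self]

theorem conj_sp {F : Type*} [Field F] [Fintype F] (n : ℕ)
    (A B : Matrix (Fin n ⊕ Fin n) (Fin n ⊕ Fin n) F)
    (hA : A ∈ Matrix.symplecticGroup (Fin n) F) (hB : B ∈ Matrix.symplecticGroup (Fin n) F)
    (hsA : Module.End.IsSemisimple (Matrix.toLin' A))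
    (hsB : Module.End.IsSemisimple (Matrix.toLin' B)) (hc : A.charpoly = B.charpoly) :
    ∃ P : Matrix (Fin n ⊕ Fin n) (Fin n ⊕ Fin n) F,
      P ∈ Matrix.symplecticGroup (Fin n) F ∧ P * A = B * P := by
  have hGA : Cfsg.Agent.Helper14.SpConj.Good (Cfsg.Agent.S0766.sB n F) (Matrix.toLin' A) :=
    ⟨fun x => (Cfsg.Agent.S0766.sB_alt n F).self_eq_zero x, (Cfsg.Agent.S0766.sB_nondeg n F).1,
      fun x y => by
        rw [Matrix.toLin'_apply, Matrix.toLin'_apply]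
        exact Cfsg.Agent.Helper2.SpEmbed.sB_symp n A hA x y⟩
  have hGB : Cfsg.Agent.Helper14.SpConj.Good (Cfsg.Agent.S0766.sB n F) (Matrix.toLin' B) :=
    ⟨fun x => (Cfsg.Agent.S0766.sB_alt n F).self_eq_zero x, (Cfsg.Agent.S0766.sB_nondeg n F).1,
      fun x y => by
        rw [Matrix.toLin'_apply, Matrix.toLin'_apply]
        exact Cfsg.Agent.Helper2.SpEmbed.sB_symp n B hB x y⟩
  obtain ⟨ψ, hψ1, hψ2⟩ := Cfsg.Agent.Helper14.SpConj.sp_conj (F := F) _ (Fin n ⊕ Fin n → F)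
    (Fin n ⊕ Fin n → F) (Cfsg.Agent.S0766.sB n F) (Cfsg.Agent.S0766.sB n F) (Matrix.toLin' A)
    (Matrix.toLin' B) rfl hGA hGB hsA hsB
    (by rw [Matrix.charpoly_toLin', Matrix.charpoly_toLin', hc])
  refine ⟨LinearMap.toMatrix' ψ, ?_, ?_⟩
  · rw [SymplecticGroup.mem_iff']
    apply Matrix.toBilin'.injective
    rw [← Matrix.toBilin'_comp, Matrix.toLin'_toMatrix']
    apply LinearMap.ext₂
    intro x y
    exact hψ1 x y
  · apply Matrix.toLin'.injective
    rw [Matrix.toLin'_mul, Matrix.toLin'_mul, Matrix.toLin'_toMatrix']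
    apply LinearMap.ext
    intro x
    exact hψ2 x


/-- In the symplectic group `Sp_{2n}(q)`, `q` a power of the prime `p`, two elements of order prime to `p` with the same characteristic polynomial are conjugate in `Sp_{2n}(q)`. -/
theorem result {F : Type*} [Field F] [Fintype F] (p : ℕ) [Fact p.Prime] [CharP F p] (n : ℕ)
    (g h : ↥(Matrix.symplecticGroup (Fin n) F)) (hg : (orderOf g).Coprime p) (hh : (orderOf h).Coprime p)
    (hc : (g : Matrix (Fin n ⊕ Fin n) (Fin n ⊕ Fin n) F).charpoly = (h : Matrix (Fin n ⊕ Fin n) (Fin n ⊕ Fin n) F).charpoly) :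
    IsConj g h := by
  have hA : (g : Matrix (Fin n ⊕ Fin n) (Fin n ⊕ Fin n) F) ∈ Matrix.symplecticGroup (Fin n) F :=
    g.2
  have hB : (h : Matrix (Fin n ⊕ Fin n) (Fin n ⊕ Fin n) F) ∈ Matrix.symplecticGroup (Fin n) F :=
    h.2
  have hsA := semi_sp p n g hg
  have hsB := semi_sp p n h hh
  obtain ⟨P, hP, hPA⟩ := conj_sp n _ _ hA hB hsA hsB hc
  obtain ⟨c, hc'⟩ : ∃ c : ↥(Matrix.symplecticGroup (Fin n) F),
      (c : Matrix (Fin n ⊕ Fin n) (Fin n ⊕ Fin n) F) = P := ⟨⟨P, hP⟩, rfl⟩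
  rw [isConj_iff]
  refine ⟨c, ?_⟩
  rw [mul_inv_eq_iff_eq_mul]
  apply Subtype.ext
  rw [Submonoid.coe_mul, Submonoid.coe_mul, hc']
  exact hPA

end Cfsg.Agent.S2389
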