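import Cfsg.Statements.S0278
import Mathlib
import Cfsg.Agent.S0284
import Cfsg.Agent.S0277
-- import your own Cfsg.Agent.* helpers here

set_option autoImplicit false
open Cfsg

namespace Cfsg.Agent.S0278


open Matrix

theorem gram_eq_one {F : Type*} [Field F] [Fintype F] {q : ℕ} (hF : Fintype.card F = q ^ 2)
    (n : ℕ) (A : Matrix (Fin n) (Fin n) F)
    (hA : ∀ u v, hermForm n F q (A *ᵥ u) (A *ᵥ v) = hermForm n F q u v) :
    Aᵀ * A.map (S0284.frob hF) = 1 := by
  classical
  have hq := S0284.q_two_le hF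
  ext i j
  have h := hA (Pi.single i 1) (Pi.single j 1)
  rw [S0277.herm_single_right n q (by omega), Pi.single_apply] at h
  rw [Matrix.mul_apply, Matrix.one_apply]
  have h2 : hermForm n F q (A *ᵥ Pi.single i 1) (A *ᵥ Pi.single j 1)
      = ∑ a, Aᵀ i a * (A.map (S0284.frob hF)) a j := by
    unfold hermForm
    apply Finset.sum_congr rfl
    intro a _
    rw [Matrix.mulVec_single_one, Matrix.mulVec_single_one]
    rfl
  rw [← h2, h]
  by_cases hij : i = j
  · subst hij
    rfl
  · rw [if_neg hij, if_neg (fun h' => hij h'.symm)]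

theorem det_norm {F : Type*} [Field F] [Fintype F] {q : ℕ} (hF : Fintype.card F = q ^ 2)
    (n : ℕ) (A : Matrix (Fin n) (Fin n) F)
    (hA : ∀ u v, hermForm n F q (A *ᵥ u) (A *ᵥ v) = hermForm n F q u v) :
    A.det ^ (q + 1) = 1 := by
  have h1 := congrArg Matrix.det (gram_eq_one hF n A hA)
  rw [Matrix.det_mul, Matrix.det_transpose, Matrix.det_one] at h1
  have h2 : (A.map (S0284.frob hF)).det = A.det ^ q := by
    have h3 := RingHom.map_det (S0284.frob hF) A
    rw [S0284.frob_apply] at h3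
    rw [h3]
    rfl
  rw [h2] at h1
  rw [pow_succ']
  exact h1

theorem exists_diag {F : Type*} [Field F] [Fintype F] {q : ℕ} (n : ℕ) (hn : 1 ≤ n) (a : Fˣ)
    (ha : a ^ (q + 1) = 1) :
    ∃ g : GU n F q, Matrix.GeneralLinearGroup.det (g : GL (Fin n) F) = a := by
  classical
  obtain ⟨d, hd⟩ : ∃ d : Fin n → F, d = Function.update (fun _ => (1 : F)) ⟨0, hn⟩ (a : F) :=
    ⟨_, rfl⟩
  have hd1 : ∀ i, d i ^ (q + 1) = 1 := by
    intro i
    rw [hd]
    by_cases hi : i = ⟨0, hn⟩
    · rw [hi, Function.update_self]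
      have h1 := congrArg (fun u : Fˣ => (u : F)) ha
      simpa using h1
    · rw [Function.update_of_ne hi, one_pow]
  have hdet : (Matrix.diagonal d).det = a := by
    rw [Matrix.det_diagonal, hd, Finset.prod_update_of_mem (Finset.mem_univ _)]
    simp
  have hU : IsUnit (Matrix.diagonal d) := by
    rw [Matrix.isUnit_iff_isUnit_det, hdet]
    exact a.isUnit
  refine ⟨⟨hU.unit, ?_⟩, ?_⟩
  · intro u v
    show hermForm n F q ((hU.unit : Matrix (Fin n) (Fin n) F) *ᵥ u)
      ((hU.unit : Matrix (Fin n) (Fin n) F) *ᵥ v) = hermForm n F q u v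
    rw [IsUnit.unit_spec]
    unfold hermForm
    apply Finset.sum_congr rfl
    intro i _
    rw [Matrix.mulVec_diagonal, Matrix.mulVec_diagonal, mul_pow]
    have h1 := hd1 i
    rw [pow_succ'] at h1
    linear_combination (u i * v i ^ q) * h1
  · apply Units.ext
    show (hU.unit : Matrix (Fin n) (Fin n) F).det = a
    rw [IsUnit.unit_spec, hdet]

theorem card_GU_eq {F : Type*} [Field F] [Fintype F] {q : ℕ} (hF : Fintype.card F = q ^ 2)
    (n : ℕ) (hn : 1 ≤ n) : Nat.card (GU n F q) = (q + 1) * Nat.card (SU n F q) := by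
  classical
  have hq := S0284.q_two_le hF
  obtain ⟨f, hf⟩ : ∃ f : GU n F q →* Fˣ,
      ∀ g, f g = Matrix.GeneralLinearGroup.det (g : GL (Fin n) F) :=
    ⟨Matrix.GeneralLinearGroup.det.comp (GU n F q).subtype, fun g => rfl⟩
  have h1 : Nat.card f.ker * Nat.card f.range = Nat.card (GU n F q) := by
    rw [← Subgroup.index_ker]
    exact Subgroup.card_mul_index _
  have h2 : f.range = (powMonoidHom (q + 1) : Fˣ →* Fˣ).ker := by
    ext a
    rw [MonoidHom.mem_range, MonoidHom.mem_ker, powMonoidHom_apply]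
    constructor
    · rintro ⟨g, rfl⟩
      apply Units.ext
      rw [Units.val_pow_eq_pow_val, Units.val_one, hf]
      exact det_norm hF n _ ((S0277.mem_GU n q g.1).1 g.2)
    · intro ha
      obtain ⟨g, hg⟩ := exists_diag n hn a ha
      exact ⟨g, (hf g).trans hg⟩
  have h3 : Nat.card f.range = q + 1 := by
    rw [h2, IsCyclic.card_powMonoidHom_ker, Nat.card_units, Nat.card_eq_fintype_card (α := F), hF]
    apply Nat.gcd_eq_right
    refine ⟨q - 1, ?_⟩
    obtain ⟨k, rfl⟩ : ∃ k, q = k + 1 := ⟨q - 1, by omega⟩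
    simp only [Nat.add_sub_cancel]
    have h3 : (k + 1) ^ 2 = (k + 1 + 1) * k + 1 := by ring
    omega
  have h4 : Nat.card f.ker = Nat.card (SU n F q) := by
    apply Nat.card_congr
    exact
      { toFun := fun g => ⟨⟨((g.1.1 : GL (Fin n) F) : Matrix (Fin n) (Fin n) F), by
            have h5 := g.2
            rw [MonoidHom.mem_ker, hf] at h5
            exact congrArg (fun u : Fˣ => (u : F)) h5⟩,
            fun u v => (S0277.mem_GU n q g.1.1).1 g.1.2 u v⟩
        invFun := fun A => ⟨⟨Matrix.SpecialLinearGroup.toGL A.1, fun u v => A.2 u v⟩, by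
            rw [MonoidHom.mem_ker, hf]
            apply Units.ext
            exact A.1.2⟩
        left_inv := fun g => Subtype.ext (Subtype.ext (Units.ext rfl))
        right_inv := fun A => Subtype.ext (Subtype.ext rfl) }
  rw [← h1, h3, h4, mul_comm]


/-- Order of SU_n(q): (q + 1) |SU_n(q)| = |GU_n(q)| = q^(n(n-1)/2) * prod_{i=1}^{n} (q^i - (-1)^i), n at least 1. -/
theorem result {F : Type*} [Field F] [Fintype F] {q : ℕ} (hF : Fintype.card F = q ^ 2) (n : ℕ) (hn : 1 ≤ n) : (q + 1) * Nat.card (Cfsg.SU n F q) = q ^ (n * (n - 1) / 2) * ∏ i ∈ Finset.range n, (if Even i then q ^ (i + 1) + 1 else q ^ (i + 1) - 1) := by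
  rw [← S0277.result hF n]
  exact (card_GU_eq hF n hn).symm


end Cfsg.Agent.S0278
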