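import Cfsg.Statements.S2157
import Mathlib

set_option autoImplicit false
open Cfsg

namespace Cfsg.Agent.S2157

open Cfsg.Lie

/-- Consistency of one chain of the table: each term is obtained from the previous one by adding `r`
(as recorded by `chainRoot r prev 1`). -/
def okList (D : ChevalleyDatum) (r : ℕ) : ℕ → List ℕ → Bool
  | _, [] => true
  | prev, u :: us => decide (prev < D.nroots) && decide (D.chainRoot r prev 1 = some u) && okList D r u us

/-- Consistency of the whole chain table. -/
def chainOK (D : ChevalleyDatum) : Bool :=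
  (List.range D.nroots).all fun r =>
    ((D.chain.getD r #[]).toList).all fun e => okList D r e.1 (e.2.toList.map Prod.fst)

theorem okList_spec {F : Type*} [Field F] (D : ChevalleyDatum) (χ : ℕ → Fˣ) (hχ : D.IsRootCharacter χ)
    (r : ℕ) (hr : r < D.nroots) :
    ∀ (us : List ℕ) (prev : ℕ), okList D r prev us = true →
      ∀ (j u : ℕ), us[j]? = some u → χ u = χ r ^ (j + 1) * χ prev := by
  intro us
  induction us with
  | nil => intro prev _ j u h; simp at h
  | cons u0 us ih =>
    intro prev hok j u hj
    simp only [okList, Bool.and_eq_true, decide_eq_true_eq] at hok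
    obtain ⟨⟨hprev, hroot⟩, hrest⟩ := hok
    have h0 : χ u0 = χ r * χ prev := hχ.2 r prev u0 hr hprev hroot
    cases j with
    | zero =>
      simp only [List.getElem?_cons_zero, Option.some.injEq] at hj
      subst hj
      rw [h0]; simp
    | succ j =>
      simp only [List.getElem?_cons_succ] at hj
      rw [ih u0 hrest j u hj, h0, pow_succ (χ r) (j + 1), mul_assoc]

theorem mem_chainCoeff (D : ChevalleyDatum) (r s u k : ℕ) (M : ℤ) (h : (k, M) ∈ D.chainCoeff r s u) :
    ∃ e ∈ (D.chain.getD r #[]).toList, e.1 = s ∧ ∃ j, e.2.toList[j]? = some (u, M) ∧ k = j + 1 := by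
  simp only [ChevalleyDatum.chainCoeff, List.mem_flatMap, List.mem_filter, List.mem_map,
    decide_eq_true_eq] at h
  obtain ⟨e, ⟨he, hes⟩, ⟨q, ⟨hq, hqu⟩, hkm⟩⟩ := h
  refine ⟨e, he, hes, q.2, ?_, ?_⟩
  · have := List.mem_zipIdx_iff_getElem?.mp hq
    rw [this]
    have h1 : q.1.1 = u := hqu
    have h2 : q.1.2 = M := (Prod.mk.inj hkm).2
    rw [← h1, ← h2]
  · exact (Prod.mk.inj hkm).1.symm

theorem chi_chain {F : Type*} [Field F] (D : ChevalleyDatum) (hok : chainOK D = true)
    (χ : ℕ → Fˣ) (hχ : D.IsRootCharacter χ) (r : ℕ) (hr : r < D.nroots) (s u k : ℕ) (M : ℤ)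
    (h : (k, M) ∈ D.chainCoeff r s u) : χ u = χ r ^ k * χ s := by
  obtain ⟨e, he, hes, j, hj, hk⟩ := mem_chainCoeff D r s u k M h
  simp only [chainOK, List.all_eq_true, List.mem_range] at hok
  have h1 := hok r hr e he
  have h2 : (e.2.toList.map Prod.fst)[j]? = some u := by
    rw [List.getElem?_map, hj]; rfl
  rw [hk, ← hes]
  exact okList_spec D χ hχ r hr _ _ h1 j u h2

theorem sum_conj {F : Type*} [Field F] {α : Type*} (a b : F) (f g : α → F) :
    ∀ L : List α, (∀ x ∈ L, a * f x * b = g x) → a * (L.map f).sum * b = (L.map g).sum := by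
  intro L
  induction L with
  | nil => intro _; simp
  | cons x L ih =>
    intro h
    rw [List.map_cons, List.sum_cons, List.map_cons, List.sum_cons, mul_add, add_mul,
      h x List.mem_cons_self, ih (fun y hy => h y (List.mem_cons_of_mem _ hy))]

theorem conj_xMat {F : Type*} [Field F] (D : ChevalleyDatum) (hok : chainOK D = true)
    (χ : ℕ → Fˣ) (hχ : D.IsRootCharacter χ) (r : Fin D.nroots) (t : F) :
    D.charDiag F χ * D.xMat F r t * D.charDiag F (fun s => (χ s)⁻¹) = D.xMat F r ((χ r : F) * t) := by
  have hneg : ∀ s : Fin D.nroots, s.val = D.negIdx.getD r.val 0 → ((χ s.val)⁻¹ : Fˣ) = χ r.val := by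
    intro s hs
    have := hχ.1 r.val r.2
    rw [ChevalleyDatum.neg, ← hs] at this
    rw [this, inv_inv]
  ext row col
  rw [ChevalleyDatum.charDiag, ChevalleyDatum.charDiag, Matrix.mul_diagonal, Matrix.diagonal_mul]
  rcases col with i | s
  · rcases row with i' | u
    · simp [ChevalleyDatum.xMat]
    · simp only [ChevalleyDatum.xMat, Matrix.of_apply, Sum.elim_inr, Sum.elim_inl, mul_one]
      split_ifs with h
      · subst h; ring
      · simp
  · rcases row with i | u
    · simp only [ChevalleyDatum.xMat, Matrix.of_apply, Sum.elim_inr, Sum.elim_inl, one_mul]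
      split_ifs with h1 h2
      · simp
      · rw [hneg s h2]; ring
      · simp
    · simp only [ChevalleyDatum.xMat, Matrix.of_apply, Sum.elim_inr]
      by_cases h1 : s = r
      · simp only [if_pos h1]
        by_cases h2 : u = r
        · simp only [if_pos h2]
          rw [h1, h2, mul_one, ← Units.val_mul, mul_inv_cancel, Units.val_one]
        · simp [if_neg h2]
      · simp only [if_neg h1]
        by_cases h3 : s.val = D.negIdx.getD r.val 0
        · simp only [if_pos h3]
          by_cases h4 : u = s
          · simp only [if_pos h4]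
            rw [h4, mul_one, ← Units.val_mul, mul_inv_cancel, Units.val_one]
          · simp only [if_neg h4]
            by_cases h5 : u = r
            · simp only [if_pos h5]
              rw [h5, hneg s h3]; ring
            · simp [if_neg h5]
        · simp only [if_neg h3]
          rw [mul_add, add_mul]
          congr 1
          · by_cases h6 : u = s
            · rw [if_pos h6, h6, mul_one, ← Units.val_mul, mul_inv_cancel, Units.val_one]
            · rw [if_neg h6]; simp
          · apply sum_conj
            intro km hkm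
            have := chi_chain D hok χ hχ r.val r.2 s.val u.val km.1 km.2 hkm
            rw [this, Units.val_mul, Units.val_pow_eq_pow_val, mul_pow]
            have e : ((χ s.val : Fˣ) : F) * (((χ s.val)⁻¹ : Fˣ) : F) = 1 := by
              rw [← Units.val_mul, mul_inv_cancel, Units.val_one]
            calc (χ r.val : F) ^ km.1 * (χ s.val : F) * ((km.2 : F) * t ^ km.1) * (((χ s.val)⁻¹ : Fˣ) : F)
                = (km.2 : F) * ((χ r.val : F) ^ km.1 * t ^ km.1) * ((χ s.val : F) * (((χ s.val)⁻¹ : Fˣ) : F)) := by ring
              _ = (km.2 : F) * ((χ r.val : F) ^ km.1 * t ^ km.1) := by rw [e, mul_one]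

theorem ok_G2 : chainOK chevG2 = true := by decide +kernel
theorem ok_B2 : chainOK chevB2 = true := by decide +kernel
theorem ok_D4 : chainOK chevD4 = true := by decide +kernel
theorem ok_F4 : chainOK chevF4 = true := by decide +kernel

theorem ok_E6 : chainOK chevE6 = true := by decide +kernel
theorem ok_E7 : chainOK chevE7 = true := by decide +kernel
theorem ok_E8 : chainOK chevE8 = true := by decide +kernel

/-- In a Chevalley group of type G₂, B₂, D₄, F₄, E₆, E₇ or E₈, for every character `χ` of the root lattice with values in `Fˣ` the diagonal matrix `ĥ(χ)` (identity on the coroot coordinates, `χ(s)` on the coordinate of `e_s`) conjugates each root element `x_r(t)` to `x_r(χ(r) t)`: `ĥ(χ) x_r(t) ĥ(χ)⁻¹ = x_r(χ(r) t)` as matrices, with `ĥ(χ)⁻¹` written as `ĥ(χ⁻¹)`. -/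
theorem result {F : Type*} [Field F] (D : Cfsg.Lie.ChevalleyDatum) (hD : D ∈ [Cfsg.Lie.chevG2, Cfsg.Lie.chevB2, Cfsg.Lie.chevD4, Cfsg.Lie.chevF4, Cfsg.Lie.chevE6, Cfsg.Lie.chevE7, Cfsg.Lie.chevE8]) (χ : ℕ → Fˣ) (hχ : D.IsRootCharacter χ) (r : ℕ) (hr : r < D.nroots) (t : F) :
    D.charDiag F χ * D.x F r t * D.charDiag F (fun s => (χ s)⁻¹) = D.x F r ((χ r : F) * t) := by
  have hok : chainOK D = true := by
    simp only [List.mem_cons, List.not_mem_nil, or_false] at hD
    rcases hD with rfl | rfl | rfl | rfl | rfl | rfl | rfl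
    · exact ok_G2
    · exact ok_B2
    · exact ok_D4
    · exact ok_F4
    · exact ok_E6
    · exact ok_E7
    · exact ok_E8
  rw [ChevalleyDatum.x, ChevalleyDatum.x, dif_pos hr, dif_pos hr]
  exact conj_xMat D hok χ hχ ⟨r, hr⟩ t

end Cfsg.Agent.S2157
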