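import Cfsg.Statements.S0319
import Cfsg.Agent.Helper2.BN3

set_option autoImplicit false
open Cfsg

namespace Cfsg.Agent.S0319

/-- Simplicity criterion for groups with a (B,N)-pair: if the distinguished generators admit no
splitting into two non-empty mutually commuting parts, `B` is solvable, `G` is perfect and the intersection
of all conjugates of `B` is trivial, then `G` is simple. -/
theorem result {G : Type*} [Group G] [Nontrivial G]
    (P : Cfsg.BNPair G) (hirr : P.Irreducible) (hsolv : Group.IsSolvable P.B) (hperf : commutator G = ⊤)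
    (hcore : P.B.normalCore = ⊥) : IsSimpleGroup G := by
  refine ⟨fun Z hZ => ?_⟩
  have hXS : P.S ∩ ((Z ⊔ P.B : Subgroup G) : Set G) ⊆ P.S := Set.inter_subset_left
  have hM : Z ⊔ P.B = P.parabolic (P.S ∩ ((Z ⊔ P.B : Subgroup G) : Set G)) :=
    Helper2.BN.eq_parabolic_of_B_le P _ le_sup_right
  by_cases h1 : (P.S ∩ ((Z ⊔ P.B : Subgroup G) : Set G)).Nonempty
  · by_cases h2 : (P.S \ (P.S ∩ ((Z ⊔ P.B : Subgroup G) : Set G))).Nonempty
    · obtain ⟨s, hs, s', hs', hn⟩ := hirr _ hXS h1 h2
      exact absurd (Helper2.BN.commute_of_normal P hZ hXS hM hs hs'.1 hs'.2) hn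
    · right
      have hXeq : P.S ∩ ((Z ⊔ P.B : Subgroup G) : Set G) = P.S := by
        apply Set.Subset.antisymm hXS
        intro s hs
        by_contra hcon
        exact h2 ⟨s, hs, hcon⟩
      have htop : Z ⊔ P.B = ⊤ := by
        rw [hM, hXeq, Helper2.BN.parabolic_S_eq_top]
      have : Group.IsPerfect G := ⟨hperf⟩
      have := hZ
      have hsurj : Function.Surjective ((QuotientGroup.mk' Z).comp P.B.subtype) := by
        intro q
        obtain ⟨g, rfl⟩ := QuotientGroup.mk'_surjective Z q
        have hg : g ∈ ((Z ⊔ P.B : Subgroup G) : Set G) := by rw [htop]; trivial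
        rw [Subgroup.normal_mul] at hg
        obtain ⟨z, hz, b, hb, hzb⟩ := Set.mem_mul.1 hg
        refine ⟨⟨b, hb⟩, ?_⟩
        show (QuotientGroup.mk' Z) b = (QuotientGroup.mk' Z) g
        rw [← hzb, map_mul]
        have : (QuotientGroup.mk' Z) z = 1 := (QuotientGroup.eq_one_iff z).2 hz
        rw [this, one_mul]
      have hsolvQ : Group.IsSolvable (G ⧸ Z) := Group.isSolvable_of_surjective hsurj
      by_contra hZtop
      have : Nontrivial (G ⧸ Z) := by
        by_contra hnt
        rw [not_nontrivial_iff_subsingleton] at hnt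
        exact hZtop (QuotientGroup.subgroup_eq_top_of_subsingleton Z hnt)
      exact Group.IsPerfect.not_isSolvable (G ⧸ Z) hsolvQ
  · left
    have hXe : P.S ∩ ((Z ⊔ P.B : Subgroup G) : Set G) = ∅ := Set.not_nonempty_iff_eq_empty.1 h1
    have hZB : Z ≤ P.B := by
      have h3 : Z ⊔ P.B = P.B := by
        rw [hM, hXe, Cfsg.BNPair.parabolic, Subgroup.closure_empty, sup_bot_eq]
      rw [← h3]; exact le_sup_left
    have := hZ
    have h4 : Z ≤ P.B.normalCore := Subgroup.normal_le_normalCore.2 hZB
    rw [hcore] at h4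
    exact le_bot_iff.1 h4

end Cfsg.Agent.S0319
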