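import Cfsg.Statements.S2305
import Mathlib
import Cfsg.Agent.Helper12.IndFun
import Cfsg.Agent.S5016

set_option autoImplicit false
open Cfsg

namespace Cfsg.Agent.S2305

open Cfsg.Agent.Helper12

section prep

variable {F : Type*} [Field F]

theorem mem_B_iff (g : Matrix.GeneralLinearGroup (Fin 2) F) :
    g ∈ Cfsg.upperTriangularGL 2 F ↔ (g : Matrix (Fin 2) (Fin 2) F) 1 0 = 0 := by
  constructor
  · intro h
    have h' : (g : Matrix (Fin 2) (Fin 2) F).BlockTriangular id := h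
    exact h' (show id (0 : Fin 2) < id 1 by decide)
  · intro h
    show (g : Matrix (Fin 2) (Fin 2) F).BlockTriangular id
    intro i j hij
    have hij' : j < i := hij
    fin_cases i <;> fin_cases j <;> first | exact h | exact absurd hij' (by decide)

theorem det_ne_zero' (x : Matrix.GeneralLinearGroup (Fin 2) F) :
    (x : Matrix (Fin 2) (Fin 2) F) 0 0 * (x : Matrix (Fin 2) (Fin 2) F) 1 1 - (x : Matrix (Fin 2) (Fin 2) F) 0 1 * (x : Matrix (Fin 2) (Fin 2) F) 1 0 ≠ 0 := by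
  have h1 : IsUnit (x : Matrix (Fin 2) (Fin 2) F).det := (Matrix.isUnit_iff_isUnit_det _).mp x.isUnit
  rw [Matrix.det_fin_two] at h1
  exact h1.ne_zero

noncomputable def dg (a b : F) (ha : a ≠ 0) (hb : b ≠ 0) : Matrix.GeneralLinearGroup (Fin 2) F :=
  Matrix.GeneralLinearGroup.mkOfDetNeZero !![a, 0; 0, b]
    (by rw [Matrix.det_fin_two_of]; simp [ha, hb])

theorem dg_val (a b : F) (ha : a ≠ 0) (hb : b ≠ 0) :
    ((dg a b ha hb : Matrix.GeneralLinearGroup (Fin 2) F) : Matrix (Fin 2) (Fin 2) F) = !![a, 0; 0, b] := rfl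

theorem dg_00 (a b : F) (ha : a ≠ 0) (hb : b ≠ 0) :
    ((dg a b ha hb : Matrix.GeneralLinearGroup (Fin 2) F) : Matrix (Fin 2) (Fin 2) F) 0 0 = a := rfl

theorem dg_01 (a b : F) (ha : a ≠ 0) (hb : b ≠ 0) :
    ((dg a b ha hb : Matrix.GeneralLinearGroup (Fin 2) F) : Matrix (Fin 2) (Fin 2) F) 0 1 = 0 := rfl

theorem dg_10 (a b : F) (ha : a ≠ 0) (hb : b ≠ 0) :
    ((dg a b ha hb : Matrix.GeneralLinearGroup (Fin 2) F) : Matrix (Fin 2) (Fin 2) F) 1 0 = 0 := rfl

theorem dg_11 (a b : F) (ha : a ≠ 0) (hb : b ≠ 0) :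
    ((dg a b ha hb : Matrix.GeneralLinearGroup (Fin 2) F) : Matrix (Fin 2) (Fin 2) F) 1 1 = b := rfl

noncomputable def wG : Matrix.GeneralLinearGroup (Fin 2) F :=
  Matrix.GeneralLinearGroup.mkOfDetNeZero !![0, 1; 1, 0]
    (by rw [Matrix.det_fin_two_of]; simp)

theorem wG_10 : ((wG : Matrix.GeneralLinearGroup (Fin 2) F) : Matrix (Fin 2) (Fin 2) F) 1 0 = 1 := rfl

theorem wG_11 : ((wG : Matrix.GeneralLinearGroup (Fin 2) F) : Matrix (Fin 2) (Fin 2) F) 1 1 = 0 := rfl

noncomputable def th (α β : MulChar F ℂ) : ↥(Cfsg.upperTriangularGL 2 F) → ℂ :=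
  fun b => α (((b : Matrix.GeneralLinearGroup (Fin 2) F) : Matrix (Fin 2) (Fin 2) F) 0 0) * β (((b : Matrix.GeneralLinearGroup (Fin 2) F) : Matrix (Fin 2) (Fin 2) F) 1 1)

theorem ext_th_mem (α β : MulChar F ℂ) (y : Matrix.GeneralLinearGroup (Fin 2) F) (hy : (y : Matrix (Fin 2) (Fin 2) F) 1 0 = 0) :
    Cfsg.extendByZero (Cfsg.upperTriangularGL 2 F) (th α β) y =
      α ((y : Matrix (Fin 2) (Fin 2) F) 0 0) * β ((y : Matrix (Fin 2) (Fin 2) F) 1 1) :=
  extendByZero_mem _ _ ((mem_B_iff y).mpr hy)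

theorem ext_th_not_mem (α β : MulChar F ℂ) (y : Matrix.GeneralLinearGroup (Fin 2) F) (hy : (y : Matrix (Fin 2) (Fin 2) F) 1 0 ≠ 0) :
    Cfsg.extendByZero (Cfsg.upperTriangularGL 2 F) (th α β) y = 0 :=
  extendByZero_not_mem _ _ (fun h => hy ((mem_B_iff y).mp h))

theorem conj_rel (x g : Matrix.GeneralLinearGroup (Fin 2) F) :
    (x : Matrix (Fin 2) (Fin 2) F) * ((x⁻¹ * g * x : Matrix.GeneralLinearGroup (Fin 2) F) : Matrix (Fin 2) (Fin 2) F) = (g : Matrix (Fin 2) (Fin 2) F) * (x : Matrix (Fin 2) (Fin 2) F) := by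
  rw [← Units.val_mul, ← Units.val_mul]
  congr 1
  group

theorem conj_data (x g : Matrix.GeneralLinearGroup (Fin 2) F) :
    ∃ p q r s y00 y01 y10 y11 : F,
      (x : Matrix (Fin 2) (Fin 2) F) 0 0 = p ∧ (x : Matrix (Fin 2) (Fin 2) F) 1 0 = r ∧
      ((x⁻¹ * g * x : Matrix.GeneralLinearGroup (Fin 2) F) : Matrix (Fin 2) (Fin 2) F) 0 0 = y00 ∧
      ((x⁻¹ * g * x : Matrix.GeneralLinearGroup (Fin 2) F) : Matrix (Fin 2) (Fin 2) F) 1 0 = y10 ∧
      ((x⁻¹ * g * x : Matrix.GeneralLinearGroup (Fin 2) F) : Matrix (Fin 2) (Fin 2) F) 1 1 = y11 ∧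
      p * s - q * r ≠ 0 ∧
      p * y00 + q * y10 = (g : Matrix (Fin 2) (Fin 2) F) 0 0 * p + (g : Matrix (Fin 2) (Fin 2) F) 0 1 * r ∧
      p * y01 + q * y11 = (g : Matrix (Fin 2) (Fin 2) F) 0 0 * q + (g : Matrix (Fin 2) (Fin 2) F) 0 1 * s ∧
      r * y00 + s * y10 = (g : Matrix (Fin 2) (Fin 2) F) 1 0 * p + (g : Matrix (Fin 2) (Fin 2) F) 1 1 * r ∧
      r * y01 + s * y11 = (g : Matrix (Fin 2) (Fin 2) F) 1 0 * q + (g : Matrix (Fin 2) (Fin 2) F) 1 1 * s := by
  have h := conj_rel x g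
  have e1 := congrFun (congrFun h 0) 0
  have e2 := congrFun (congrFun h 0) 1
  have e3 := congrFun (congrFun h 1) 0
  have e4 := congrFun (congrFun h 1) 1
  simp only [Matrix.mul_apply, Fin.sum_univ_two] at e1 e2 e3 e4
  exact ⟨(x : Matrix (Fin 2) (Fin 2) F) 0 0, (x : Matrix (Fin 2) (Fin 2) F) 0 1, (x : Matrix (Fin 2) (Fin 2) F) 1 0, (x : Matrix (Fin 2) (Fin 2) F) 1 1,
    ((x⁻¹ * g * x : Matrix.GeneralLinearGroup (Fin 2) F) : Matrix (Fin 2) (Fin 2) F) 0 0, ((x⁻¹ * g * x : Matrix.GeneralLinearGroup (Fin 2) F) : Matrix (Fin 2) (Fin 2) F) 0 1,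
    ((x⁻¹ * g * x : Matrix.GeneralLinearGroup (Fin 2) F) : Matrix (Fin 2) (Fin 2) F) 1 0, ((x⁻¹ * g * x : Matrix.GeneralLinearGroup (Fin 2) F) : Matrix (Fin 2) (Fin 2) F) 1 1,
    rfl, rfl, rfl, rfl, rfl, det_ne_zero' x, e1, e2, e3, e4⟩

theorem wG_mul_10 (x : Matrix.GeneralLinearGroup (Fin 2) F) :
    ((wG * x : Matrix.GeneralLinearGroup (Fin 2) F) : Matrix (Fin 2) (Fin 2) F) 1 0 = (x : Matrix (Fin 2) (Fin 2) F) 0 0 := by
  rw [Units.val_mul, Matrix.mul_apply, Fin.sum_univ_two, wG_10, wG_11]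
  ring

theorem dg_central (a : F) (ha : a ≠ 0) (x : Matrix.GeneralLinearGroup (Fin 2) F) : x * dg a a ha ha = dg a a ha ha * x := by
  apply Units.ext
  rw [Units.val_mul, Units.val_mul, dg_val]
  obtain ⟨X, hX⟩ : ∃ X : Matrix (Fin 2) (Fin 2) F, X = (x : Matrix (Fin 2) (Fin 2) F) := ⟨_, rfl⟩
  rw [← hX, Matrix.eta_fin_two X, Matrix.mul_fin_two, Matrix.mul_fin_two]
  apply S5016.mat2_ext <;> ring

theorem conj_dg (y : Matrix.GeneralLinearGroup (Fin 2) F) (hy : (y : Matrix (Fin 2) (Fin 2) F) 1 0 = 0) {a b : F}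
    (h00 : (y : Matrix (Fin 2) (Fin 2) F) 0 0 = a) (h11 : (y : Matrix (Fin 2) (Fin 2) F) 1 1 = b) (ha : a ≠ 0) (hb : b ≠ 0)
    (hab : a ≠ b) : ∃ u : Matrix.GeneralLinearGroup (Fin 2) F, y = u * dg a b ha hb * u⁻¹ := by
  have hba : b - a ≠ 0 := sub_ne_zero.mpr (Ne.symm hab)
  obtain ⟨c, hc⟩ : ∃ c : F, c = (y : Matrix (Fin 2) (Fin 2) F) 0 1 := ⟨_, rfl⟩
  have ht : (c / (b - a)) * (b - a) = c := div_mul_cancel₀ c hba
  obtain ⟨t, htdef⟩ : ∃ t : F, t = c / (b - a) := ⟨_, rfl⟩
  rw [← htdef] at ht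
  refine ⟨Matrix.GeneralLinearGroup.mkOfDetNeZero !![1, t; 0, 1]
    (by rw [Matrix.det_fin_two_of]; simp), ?_⟩
  apply eq_mul_inv_of_mul_eq
  apply Units.ext
  rw [Units.val_mul, Units.val_mul, dg_val]
  have hY : (y : Matrix (Fin 2) (Fin 2) F) = !![a, c; 0, b] := by
    rw [Matrix.eta_fin_two (y : Matrix (Fin 2) (Fin 2) F), h00, h11, hy, ← hc]
  rw [hY]
  show !![a, c; 0, b] * !![1, t; 0, 1] = !![1, t; 0, 1] * !![a, 0; 0, b]
  rw [Matrix.mul_fin_two, Matrix.mul_fin_two]
  apply S5016.mat2_ext <;> first | ring1 | linear_combination (-1 : F) * ht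

theorem indFun_dg [Fintype F] [DecidableEq F] (α β : MulChar F ℂ) (a b : F) (ha : a ≠ 0)
    (hb : b ≠ 0) (hab : a ≠ b) :
    Cfsg.indFun (Cfsg.upperTriangularGL 2 F) (th α β) (dg a b ha hb) =
      α a * β b + α b * β a := by
  have hpt : ∀ x : Matrix.GeneralLinearGroup (Fin 2) F,
      Cfsg.extendByZero (Cfsg.upperTriangularGL 2 F) (th α β) (x⁻¹ * dg a b ha hb * x) =
      Cfsg.extendByZero (Cfsg.upperTriangularGL 2 F) (fun _ => α a * β b) x +
      Cfsg.extendByZero (Cfsg.upperTriangularGL 2 F) (fun _ => α b * β a) (wG * x) := by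
    intro x
    obtain ⟨p, q, r, s, y00, y01, y10, y11, hp, hr, hy00, hy10, hy11, hdet, E1, E2, E3, E4⟩ :=
      conj_data x (dg a b ha hb)
    rw [dg_00, dg_01] at E1 E2
    rw [dg_10, dg_11] at E3 E4
    have hwx : ((wG * x : Matrix.GeneralLinearGroup (Fin 2) F) : Matrix (Fin 2) (Fin 2) F) 1 0 = p := (wG_mul_10 x).trans hp
    by_cases hr0 : r = 0
    · have hp0 : p ≠ 0 := by
        rintro rfl
        apply hdet
        rw [hr0]
        ring
      have hs0 : s ≠ 0 := by
        rintro rfl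
        apply hdet
        rw [hr0]
        ring
      have hy : y10 = 0 := by
        have h1 : s * y10 = 0 := by
          rw [hr0] at E3
          linear_combination E3
        exact (mul_eq_zero.mp h1).resolve_left hs0
      have h00 : y00 = a := by
        have h1 : p * (y00 - a) = 0 := by
          rw [hy] at E1
          linear_combination E1
        exact sub_eq_zero.mp ((mul_eq_zero.mp h1).resolve_left hp0)
      have h11 : y11 = b := by
        have h1 : s * (y11 - b) = 0 := by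
          rw [hr0] at E4
          linear_combination E4
        exact sub_eq_zero.mp ((mul_eq_zero.mp h1).resolve_left hs0)
      rw [ext_th_mem α β _ (hy10.trans hy), hy00, hy11, h00, h11,
        extendByZero_mem _ _ ((mem_B_iff x).mpr (hr.trans hr0)),
        extendByZero_not_mem _ _ (g := wG * x)
          (fun h => hp0 (hwx.symm.trans ((mem_B_iff _).mp h))), add_zero]
    · by_cases hp0 : p = 0
      · have hq0 : q ≠ 0 := by
          rintro rfl
          apply hdet
          rw [hp0]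
          ring
        have hy : y10 = 0 := by
          have h1 : q * y10 = 0 := by
            rw [hp0] at E1
            linear_combination E1
          exact (mul_eq_zero.mp h1).resolve_left hq0
        have h00 : y00 = b := by
          have h1 : r * (y00 - b) = 0 := by
            rw [hy] at E3
            linear_combination E3
          exact sub_eq_zero.mp ((mul_eq_zero.mp h1).resolve_left hr0)
        have h11 : y11 = a := by
          have h1 : q * (y11 - a) = 0 := by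
            rw [hp0] at E2
            linear_combination E2
          exact sub_eq_zero.mp ((mul_eq_zero.mp h1).resolve_left hq0)
        rw [ext_th_mem α β _ (hy10.trans hy), hy00, hy11, h00, h11,
          extendByZero_not_mem _ _ (g := x)
            (fun h => hr0 (hr.symm.trans ((mem_B_iff x).mp h))),
          extendByZero_mem _ _ ((mem_B_iff (wG * x)).mpr (hwx.trans hp0)), zero_add]
      · have hy : y10 ≠ 0 := by
          intro hy
          rw [hy] at E1 E3
          have h1 : p * (y00 - a) = 0 := by linear_combination E1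
          have h2 : r * (y00 - b) = 0 := by linear_combination E3
          have h3 := sub_eq_zero.mp ((mul_eq_zero.mp h1).resolve_left hp0)
          have h4 := sub_eq_zero.mp ((mul_eq_zero.mp h2).resolve_left hr0)
          exact hab (h3.symm.trans h4)
        rw [ext_th_not_mem α β _ (fun h => hy (hy10.symm.trans h)),
          extendByZero_not_mem _ _ (g := x)
            (fun h => hr0 (hr.symm.trans ((mem_B_iff x).mp h))),
          extendByZero_not_mem _ _ (g := wG * x)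
            (fun h => hp0 (hwx.symm.trans ((mem_B_iff _).mp h))), add_zero]
  rw [indFun_def, Finset.sum_congr rfl (fun x _ => hpt x), Finset.sum_add_distrib,
    sum_extendByZero_const, sum_extendByZero_const_mul, ← mul_add, ← mul_assoc,
    inv_mul_cancel₀ (card_subgroup_ne_zero _), one_mul]

end prep

/-- Over a finite field F, for multiplicative characters α, β, α′, β′ of F, the characters of GL₂ induced from the linear characters b ↦ α(b₁₁) β(b₂₂) and b ↦ α′(b₁₁) β′(b₂₂) of the upper triangular subgroup coincide exactly when {α, β} = {α′, β′} as unordered pairs. -/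
theorem result {F : Type*} [Field F] [Fintype F] [DecidableEq F] (α β α' β' : MulChar F ℂ) :
    Cfsg.indFun (Cfsg.upperTriangularGL 2 F) (fun b => α (((b : Matrix.GeneralLinearGroup (Fin 2) F) : Matrix (Fin 2) (Fin 2) F) 0 0) * β (((b : Matrix.GeneralLinearGroup (Fin 2) F) : Matrix (Fin 2) (Fin 2) F) 1 1)) = Cfsg.indFun (Cfsg.upperTriangularGL 2 F) (fun b => α' (((b : Matrix.GeneralLinearGroup (Fin 2) F) : Matrix (Fin 2) (Fin 2) F) 0 0) * β' (((b : Matrix.GeneralLinearGroup (Fin 2) F) : Matrix (Fin 2) (Fin 2) F) 1 1)) ↔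
      (α = α' ∧ β = β') ∨ (α = β' ∧ β = α') := by
  show Cfsg.indFun (Cfsg.upperTriangularGL 2 F) (th α β) =
    Cfsg.indFun (Cfsg.upperTriangularGL 2 F) (th α' β') ↔ _
  constructor
  · intro h
    apply mulChar_pair_eq
    intro a b
    by_cases ha : a = 0
    · rw [ha]
      simp only [MulChar.map_zero, zero_mul, mul_zero, add_zero]
    by_cases hb : b = 0
    · rw [hb]
      simp only [MulChar.map_zero, zero_mul, mul_zero, add_zero]
    by_cases hab : a = b
    · subst hab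
      have hG0 : (Fintype.card (Matrix.GeneralLinearGroup (Fin 2) F) : ℂ) ≠ 0 := Nat.cast_ne_zero.mpr Fintype.card_ne_zero
      have h1 := congrFun h (dg a a ha ha)
      rw [indFun_central _ (th α β) (dg_central a ha) ((mem_B_iff (dg a a ha ha)).mpr rfl),
        indFun_central _ (th α' β') (dg_central a ha) ((mem_B_iff (dg a a ha ha)).mpr rfl)] at h1
      have h2 := mul_left_cancel₀ (inv_ne_zero (card_subgroup_ne_zero _)) h1
      have h3 := mul_left_cancel₀ hG0 h2
      have h4 : α a * β a = α' a * β' a := h3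
      linear_combination 2 * h4
    · have h1 := congrFun h (dg a b ha hb)
      rw [indFun_dg α β a b ha hb hab, indFun_dg α' β' a b ha hb hab] at h1
      exact h1
  · rintro (⟨rfl, rfl⟩ | ⟨rfl, rfl⟩)
    · rfl
    · funext g
      by_cases hc : ∃ x : Matrix.GeneralLinearGroup (Fin 2) F, ((x⁻¹ * g * x : Matrix.GeneralLinearGroup (Fin 2) F) : Matrix (Fin 2) (Fin 2) F) 1 0 = 0 ∧
          ((x⁻¹ * g * x : Matrix.GeneralLinearGroup (Fin 2) F) : Matrix (Fin 2) (Fin 2) F) 0 0 ≠ ((x⁻¹ * g * x : Matrix.GeneralLinearGroup (Fin 2) F) : Matrix (Fin 2) (Fin 2) F) 1 1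
      · obtain ⟨x, hx10, hxne⟩ := hc
        obtain ⟨y, hy⟩ : ∃ y : Matrix.GeneralLinearGroup (Fin 2) F, y = x⁻¹ * g * x := ⟨_, rfl⟩
        rw [← hy] at hx10 hxne
        have hg : g = x * y * x⁻¹ := by
          rw [hy]
          group
        have hd := det_ne_zero' y
        rw [hx10, mul_zero, sub_zero] at hd
        obtain ⟨a, h00⟩ : ∃ a : F, (y : Matrix (Fin 2) (Fin 2) F) 0 0 = a := ⟨_, rfl⟩
        obtain ⟨b, h11⟩ : ∃ b : F, (y : Matrix (Fin 2) (Fin 2) F) 1 1 = b := ⟨_, rfl⟩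
        rw [h00, h11] at hd hxne
        have ha : a ≠ 0 := left_ne_zero_of_mul hd
        have hb : b ≠ 0 := right_ne_zero_of_mul hd
        obtain ⟨u, hu⟩ := conj_dg y hx10 h00 h11 ha hb hxne
        rw [hg, indFun_conj, indFun_conj, hu, indFun_conj, indFun_conj,
          indFun_dg α β a b ha hb hxne, indFun_dg β α a b ha hb hxne]
        ring
      · have hc' : ∀ x : Matrix.GeneralLinearGroup (Fin 2) F, ((x⁻¹ * g * x : Matrix.GeneralLinearGroup (Fin 2) F) : Matrix (Fin 2) (Fin 2) F) 1 0 = 0 →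
            ((x⁻¹ * g * x : Matrix.GeneralLinearGroup (Fin 2) F) : Matrix (Fin 2) (Fin 2) F) 0 0 = ((x⁻¹ * g * x : Matrix.GeneralLinearGroup (Fin 2) F) : Matrix (Fin 2) (Fin 2) F) 1 1 := by
          intro x hx
          by_contra hne
          exact hc ⟨x, hx, hne⟩
        rw [indFun_def, indFun_def]
        congr 1
        refine Finset.sum_congr rfl (fun x _ => ?_)
        by_cases hx : ((x⁻¹ * g * x : Matrix.GeneralLinearGroup (Fin 2) F) : Matrix (Fin 2) (Fin 2) F) 1 0 = 0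
        · rw [ext_th_mem α β _ hx, ext_th_mem β α _ hx, hc' x hx]
          exact mul_comm _ _
        · rw [ext_th_not_mem α β _ hx, ext_th_not_mem β α _ hx]

end Cfsg.Agent.S2305
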