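import Cfsg.Statements.S2308
import Mathlib
import Cfsg.Agent.Helper12.SL2Ind

set_option autoImplicit false
open Cfsg

namespace Cfsg.Agent.S2308

open Cfsg.Agent.Helper12

section prep

theorem fixedPointCharacter_eq_indFun {G : Type*} [Group G] [Fintype G] (H : Subgroup G) (g : G) :
    Cfsg.fixedPointCharacter H g = Cfsg.indFun H (fun _ => (1 : ℂ)) g := by
  classical
  have hiff : ∀ x : G, (x : G ⧸ H) ∈ MulAction.fixedBy (G ⧸ H) g ↔ x⁻¹ * g * x ∈ H := by
    intro x
    rw [MulAction.mem_fixedBy, MulAction.Quotient.smul_mk, QuotientGroup.eq, smul_eq_mul]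
    have h3 : ((g * x)⁻¹ * x)⁻¹ = x⁻¹ * g * x := by group
    rw [← h3, inv_mem_iff]
  have h1 : ∀ x : G, Cfsg.extendByZero H (fun _ => (1 : ℂ)) (x⁻¹ * g * x) =
      if x ∈ (QuotientGroup.mk ⁻¹' (MulAction.fixedBy (G ⧸ H) g) : Set G) then 1 else 0 := by
    intro x
    by_cases hx : x⁻¹ * g * x ∈ H
    · have hx' : x ∈ (QuotientGroup.mk ⁻¹' (MulAction.fixedBy (G ⧸ H) g) : Set G) :=
        (hiff x).mpr hx
      rw [if_pos hx', extendByZero_mem H _ hx]
    · have hx' : x ∉ (QuotientGroup.mk ⁻¹' (MulAction.fixedBy (G ⧸ H) g) : Set G) :=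
        fun h => hx ((hiff x).mp h)
      rw [if_neg hx', extendByZero_not_mem H _ hx]
  have h2 : (∑ x : G, if x ∈ (QuotientGroup.mk ⁻¹' (MulAction.fixedBy (G ⧸ H) g) : Set G)
      then (1 : ℂ) else 0) =
      (Nat.card H : ℂ) * (Nat.card (MulAction.fixedBy (G ⧸ H) g) : ℂ) := by
    rw [Finset.sum_boole, ← Nat.cast_mul, ← Nat.card_prod,
      ← Nat.card_congr (QuotientGroup.preimageMkEquivSubgroupProdSet H _),
      Nat.card_eq_fintype_card, Fintype.card_subtype]
  rw [indFun_def, Finset.sum_congr rfl (fun x _ => h1 x), h2, ← mul_assoc,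
    inv_mul_cancel₀ (card_subgroup_ne_zero H), one_mul]
  rfl

variable {F : Type*} [Field F]

theorem e1_mem (y : Matrix.GeneralLinearGroup (Fin 2) F) (hy : (y : Matrix (Fin 2) (Fin 2) F) 1 0 = 0) : Cfsg.extendByZero (Cfsg.upperTriangularGL 2 F) (fun _ => (1 : ℂ)) y = 1 :=
  extendByZero_mem _ _ ((S2305.mem_B_iff y).mpr hy)

theorem e1_not_mem (y : Matrix.GeneralLinearGroup (Fin 2) F) (hy : (y : Matrix (Fin 2) (Fin 2) F) 1 0 ≠ 0) : Cfsg.extendByZero (Cfsg.upperTriangularGL 2 F) (fun _ => (1 : ℂ)) y = 0 :=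
  extendByZero_not_mem _ _ (fun h => hy ((S2305.mem_B_iff y).mp h))

theorem indFun1_diag [Fintype F] [Fintype (Matrix.GeneralLinearGroup (Fin 2) F)] (g : Matrix.GeneralLinearGroup (Fin 2) F)
    (h01 : (g : Matrix (Fin 2) (Fin 2) F) 0 1 = 0) (h10 : (g : Matrix (Fin 2) (Fin 2) F) 1 0 = 0)
    (hne : (g : Matrix (Fin 2) (Fin 2) F) 0 0 ≠ (g : Matrix (Fin 2) (Fin 2) F) 1 1) :
    Cfsg.indFun (Cfsg.upperTriangularGL 2 F) (fun _ => (1 : ℂ)) g = 2 := by
  obtain ⟨a, ha⟩ : ∃ a : F, (g : Matrix (Fin 2) (Fin 2) F) 0 0 = a := ⟨_, rfl⟩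
  obtain ⟨b, hb⟩ : ∃ b : F, (g : Matrix (Fin 2) (Fin 2) F) 1 1 = b := ⟨_, rfl⟩
  rw [ha, hb] at hne
  have hpt : ∀ x : Matrix.GeneralLinearGroup (Fin 2) F, Cfsg.extendByZero (Cfsg.upperTriangularGL 2 F) (fun _ => (1 : ℂ)) (x⁻¹ * g * x) = Cfsg.extendByZero (Cfsg.upperTriangularGL 2 F) (fun _ => (1 : ℂ)) x + Cfsg.extendByZero (Cfsg.upperTriangularGL 2 F) (fun _ => (1 : ℂ)) (S2305.wG * x) := by
    intro x
    obtain ⟨p, q, r, s, y00, y01, y10, y11, hp, hr, hy00, hy10, hy11, hdet, E1, E2, E3, E4⟩ :=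
      S2305.conj_data x g
    rw [ha, h01] at E1
    rw [h10, hb] at E3
    have hwx : ((S2305.wG * x : Matrix.GeneralLinearGroup (Fin 2) F) : Matrix (Fin 2) (Fin 2) F) 1 0 = p := (S2305.wG_mul_10 x).trans hp
    by_cases hr0 : r = 0
    · have hp0 : p ≠ 0 := by
        intro h0
        apply hdet
        rw [hr0, h0]
        ring
      have hs0 : s ≠ 0 := by
        intro h0
        apply hdet
        rw [hr0, h0]
        ring
      have hy : y10 = 0 := by
        have h1 : s * y10 = 0 := by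
          rw [hr0] at E3
          linear_combination E3
        exact (mul_eq_zero.mp h1).resolve_left hs0
      rw [e1_mem _ (hy10.trans hy), e1_mem x (hr.trans hr0),
        e1_not_mem (S2305.wG * x) (fun h => hp0 (hwx.symm.trans h)), add_zero]
    · by_cases hp0 : p = 0
      · have hq0 : q ≠ 0 := by
          intro h0
          apply hdet
          rw [hp0, h0]
          ring
        have hy : y10 = 0 := by
          have h1 : q * y10 = 0 := by
            rw [hp0] at E1
            linear_combination E1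
          exact (mul_eq_zero.mp h1).resolve_left hq0
        rw [e1_mem _ (hy10.trans hy), e1_not_mem x (fun h => hr0 (hr.symm.trans h)),
          e1_mem (S2305.wG * x) (hwx.trans hp0), zero_add]
      · have hy : y10 ≠ 0 := by
          intro hy
          rw [hy] at E1 E3
          have h1 : p * (y00 - a) = 0 := by linear_combination E1
          have h2 : r * (y00 - b) = 0 := by linear_combination E3
          have h3 := sub_eq_zero.mp ((mul_eq_zero.mp h1).resolve_left hp0)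
          have h4 := sub_eq_zero.mp ((mul_eq_zero.mp h2).resolve_left hr0)
          exact hne (h3.symm.trans h4)
        rw [e1_not_mem _ (fun h => hy (hy10.symm.trans h)),
          e1_not_mem x (fun h => hr0 (hr.symm.trans h)),
          e1_not_mem (S2305.wG * x) (fun h => hp0 (hwx.symm.trans h)), add_zero]
  rw [indFun_def, Finset.sum_congr rfl (fun x _ => hpt x), Finset.sum_add_distrib,
    sum_extendByZero_const, sum_extendByZero_const_mul, ← mul_add, ← mul_assoc,
    inv_mul_cancel₀ (card_subgroup_ne_zero _), one_mul]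
  norm_num

theorem indFun1_elliptic [Fintype F] [Fintype (Matrix.GeneralLinearGroup (Fin 2) F)] (g : Matrix.GeneralLinearGroup (Fin 2) F)
    (hg : ∀ (c : F) (v : Fin 2 → F), v ≠ 0 → (g : Matrix (Fin 2) (Fin 2) F).mulVec v ≠ c • v) :
    Cfsg.indFun (Cfsg.upperTriangularGL 2 F) (fun _ => (1 : ℂ)) g = 0 := by
  have hpt : ∀ x : Matrix.GeneralLinearGroup (Fin 2) F, Cfsg.extendByZero (Cfsg.upperTriangularGL 2 F) (fun _ => (1 : ℂ)) (x⁻¹ * g * x) = 0 := by
    intro x
    obtain ⟨p, q, r, s, y00, y01, y10, y11, hp, hr, hy00, hy10, hy11, hdet, E1, E2, E3, E4⟩ :=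
      S2305.conj_data x g
    apply e1_not_mem
    intro hy
    rw [hy10] at hy
    rw [hy] at E1 E3
    apply hg y00 ![p, r]
    · intro hv0
      have h1 : p = 0 := congrFun hv0 0
      have h2 : r = 0 := congrFun hv0 1
      apply hdet
      rw [h1, h2]
      ring
    · have e1 : (g : Matrix (Fin 2) (Fin 2) F) 0 0 * p + (g : Matrix (Fin 2) (Fin 2) F) 0 1 * r = y00 * p := by
        linear_combination (-1 : F) * E1
      have e3 : (g : Matrix (Fin 2) (Fin 2) F) 1 0 * p + (g : Matrix (Fin 2) (Fin 2) F) 1 1 * r = y00 * r := by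
        linear_combination (-1 : F) * E3
      rw [mulVec_two, Matrix.smul_vec2, e1, e3]
      rfl
  rw [indFun_def, Finset.sum_congr rfl (fun x _ => hpt x), Finset.sum_const_zero, mul_zero]

theorem indFun1_unip [Fintype F] [Fintype (Matrix.GeneralLinearGroup (Fin 2) F)] (g : Matrix.GeneralLinearGroup (Fin 2) F)
    (h10 : (g : Matrix (Fin 2) (Fin 2) F) 1 0 = 0) (heq : (g : Matrix (Fin 2) (Fin 2) F) 0 0 = (g : Matrix (Fin 2) (Fin 2) F) 1 1)
    (h01 : (g : Matrix (Fin 2) (Fin 2) F) 0 1 ≠ 0) :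
    Cfsg.indFun (Cfsg.upperTriangularGL 2 F) (fun _ => (1 : ℂ)) g = 1 := by
  obtain ⟨a, ha⟩ : ∃ a : F, (g : Matrix (Fin 2) (Fin 2) F) 0 0 = a := ⟨_, rfl⟩
  obtain ⟨c, hc⟩ : ∃ c : F, (g : Matrix (Fin 2) (Fin 2) F) 0 1 = c := ⟨_, rfl⟩
  rw [ha] at heq
  rw [hc] at h01
  have hpt : ∀ x : Matrix.GeneralLinearGroup (Fin 2) F, Cfsg.extendByZero (Cfsg.upperTriangularGL 2 F) (fun _ => (1 : ℂ)) (x⁻¹ * g * x) = Cfsg.extendByZero (Cfsg.upperTriangularGL 2 F) (fun _ => (1 : ℂ)) x := by
    intro x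
    obtain ⟨p, q, r, s, y00, y01, y10, y11, hp, hr, hy00, hy10, hy11, hdet, E1, E2, E3, E4⟩ :=
      S2305.conj_data x g
    rw [ha, hc] at E1
    rw [h10, ← heq] at E3
    by_cases hr0 : r = 0
    · have hs0 : s ≠ 0 := by
        intro h0
        apply hdet
        rw [hr0, h0]
        ring
      have hy : y10 = 0 := by
        have h1 : s * y10 = 0 := by
          rw [hr0] at E3
          linear_combination E3
        exact (mul_eq_zero.mp h1).resolve_left hs0
      rw [e1_mem _ (hy10.trans hy), e1_mem x (hr.trans hr0)]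
    · have hy : y10 ≠ 0 := by
        intro hy
        rw [hy] at E1 E3
        have h2 : r * (y00 - a) = 0 := by linear_combination E3
        have h3 : y00 = a := sub_eq_zero.mp ((mul_eq_zero.mp h2).resolve_left hr0)
        rw [h3] at E1
        have h4 : c * r = 0 := by linear_combination (-1 : F) * E1
        rcases mul_eq_zero.mp h4 with h5 | h5
        · exact h01 h5
        · exact hr0 h5
      rw [e1_not_mem _ (fun h => hy (hy10.symm.trans h)),
        e1_not_mem x (fun h => hr0 (hr.symm.trans h))]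
  rw [indFun_def, Finset.sum_congr rfl (fun x _ => hpt x), sum_extendByZero_const,
    ← mul_assoc, inv_mul_cancel₀ (card_subgroup_ne_zero _), one_mul]

noncomputable def belG (a b : Fˣ) (c : F) : Matrix.GeneralLinearGroup (Fin 2) F :=
  Matrix.GeneralLinearGroup.mkOfDetNeZero !![(a : F), c; 0, (b : F)]
    (by rw [Matrix.det_fin_two_of]; simp)

theorem belG_val (a b : Fˣ) (c : F) :
    ((belG a b c : Matrix.GeneralLinearGroup (Fin 2) F) : Matrix (Fin 2) (Fin 2) F) = !![(a : F), c; 0, (b : F)] := rfl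

theorem belG_mem (a b : Fˣ) (c : F) : belG a b c ∈ (Cfsg.upperTriangularGL 2 F) := (S2305.mem_B_iff _).mpr rfl

theorem belG_injective :
    Function.Injective (fun t : Fˣ × Fˣ × F => belG t.1 t.2.1 t.2.2) := by
  rintro ⟨a, b, c⟩ ⟨a', b', c'⟩ h
  have h' : belG a b c = belG a' b' c' := h
  have h1 : ((belG a b c : Matrix.GeneralLinearGroup (Fin 2) F) : Matrix (Fin 2) (Fin 2) F) = ((belG a' b' c' : Matrix.GeneralLinearGroup (Fin 2) F) : Matrix (Fin 2) (Fin 2) F) := by rw [h']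
  rw [belG_val, belG_val] at h1
  obtain ⟨e1, e2, -, e4⟩ := S5016.mat2_inj h1
  rw [Prod.mk.injEq, Prod.mk.injEq]
  exact ⟨Units.ext e1, Units.ext e4, e2⟩

theorem belG_surj (x : Matrix.GeneralLinearGroup (Fin 2) F) (hx : x ∈ (Cfsg.upperTriangularGL 2 F)) :
    x ∈ Set.range (fun t : Fˣ × Fˣ × F => belG t.1 t.2.1 t.2.2) := by
  have h10 := (S2305.mem_B_iff x).mp hx
  have hd := S2305.det_ne_zero' x
  rw [h10, mul_zero, sub_zero] at hd
  have h00 : (x : Matrix (Fin 2) (Fin 2) F) 0 0 ≠ 0 := left_ne_zero_of_mul hd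
  have h11 : (x : Matrix (Fin 2) (Fin 2) F) 1 1 ≠ 0 := right_ne_zero_of_mul hd
  refine ⟨(Units.mk0 _ h00, Units.mk0 _ h11, (x : Matrix (Fin 2) (Fin 2) F) 0 1), ?_⟩
  apply Units.ext
  exact (S5016.mat2_ext rfl rfl h10.symm rfl).trans (Matrix.eta_fin_two (x : Matrix (Fin 2) (Fin 2) F)).symm

theorem card_B [Fintype F] [Fintype (Matrix.GeneralLinearGroup (Fin 2) F)] :
    (Nat.card ↥(Cfsg.upperTriangularGL 2 F) : ℂ) =
      ((Fintype.card F : ℂ) - 1) * (((Fintype.card F : ℂ) - 1) * (Fintype.card F : ℂ)) := by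
  classical
  have h2 := sum_extendByZero_const (Cfsg.upperTriangularGL 2 F) (1 : ℂ)
  rw [mul_one] at h2
  rw [← h2]
  have h3 : (∑ _t : Fˣ × Fˣ × F, (1 : ℂ)) = ∑ x : Matrix.GeneralLinearGroup (Fin 2) F, Cfsg.extendByZero (Cfsg.upperTriangularGL 2 F) (fun _ => (1 : ℂ)) x := by
    refine Fintype.sum_of_injective (fun t : Fˣ × Fˣ × F => belG t.1 t.2.1 t.2.2)
      belG_injective _ _ ?_ ?_
    · intro x hx
      exact extendByZero_not_mem _ _ (fun h => hx (belG_surj x h))
    · intro t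
      exact (extendByZero_mem _ (fun _ => (1 : ℂ)) (belG_mem t.1 t.2.1 t.2.2)).symm
  rw [← h3]
  simp only [Finset.sum_const, Finset.card_univ, nsmul_eq_mul, mul_one, Fintype.card_prod,
    Fintype.card_units, Nat.cast_mul]
  rw [Nat.cast_sub Fintype.card_pos, Nat.cast_one]

theorem card_GL_complex [Fintype F] [Fintype (Matrix.GeneralLinearGroup (Fin 2) F)] :
    (Fintype.card (Matrix.GeneralLinearGroup (Fin 2) F) : ℂ) =
      ((Fintype.card F : ℂ) ^ 2 - 1) * ((Fintype.card F : ℂ) ^ 2 - (Fintype.card F : ℂ)) := by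
  have h := Matrix.card_GL_field (𝔽 := F) 2
  rw [Fin.prod_univ_two] at h
  simp only [Fin.val_zero, Fin.val_one, pow_zero, pow_one] at h
  rw [← Nat.card_eq_fintype_card, h, Nat.cast_mul,
    Nat.cast_sub (Nat.one_le_pow _ _ Fintype.card_pos),
    Nat.cast_sub (Nat.le_self_pow (by norm_num) _), Nat.cast_pow, Nat.cast_one]

theorem indFun1_scalar [Fintype F] [Fintype (Matrix.GeneralLinearGroup (Fin 2) F)] (g : Matrix.GeneralLinearGroup (Fin 2) F) (a : F)
    (hg : (g : Matrix (Fin 2) (Fin 2) F) = a • (1 : Matrix (Fin 2) (Fin 2) F)) :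
    Cfsg.indFun (Cfsg.upperTriangularGL 2 F) (fun _ => (1 : ℂ)) g = (Fintype.card F : ℂ) + 1 := by
  have hcen : ∀ x : Matrix.GeneralLinearGroup (Fin 2) F, x * g = g * x := by
    intro x
    apply Units.ext
    rw [Units.val_mul, Units.val_mul, hg, Matrix.mul_smul, Matrix.smul_mul, mul_one, one_mul]
  have hgB : g ∈ (Cfsg.upperTriangularGL 2 F) := by
    rw [S2305.mem_B_iff, hg]
    simp
  rw [indFun_central _ _ hcen hgB]
  show (Nat.card ↥(Cfsg.upperTriangularGL 2 F) : ℂ)⁻¹ * ((Fintype.card (Matrix.GeneralLinearGroup (Fin 2) F) : ℂ) * 1) = _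
  rw [card_B, card_GL_complex]
  have hq0 : (Fintype.card F : ℂ) ≠ 0 := Nat.cast_ne_zero.mpr Fintype.card_ne_zero
  have hq1 : (Fintype.card F : ℂ) - 1 ≠ 0 := card_sub_one_ne_zero
  field_simp
  ring

end prep

/-- Values of the permutation character of GL₂ over a finite field F with q elements on the cosets of its upper triangular subgroup (equivalently, the number of lines of F² that an element maps to themselves): q + 1 at a scalar matrix, 2 at a diagonal matrix with two different diagonal entries, 0 at an element with no eigenvector in F², and 1 at an upper triangular matrix with equal diagonal entries and non-zero upper right entry. -/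
theorem result {F : Type*} [Field F] [Fintype F] (g : Matrix.GeneralLinearGroup (Fin 2) F) :
    ((∃ a : F, (g : Matrix (Fin 2) (Fin 2) F) = a • (1 : Matrix (Fin 2) (Fin 2) F)) → Cfsg.fixedPointCharacter (Cfsg.upperTriangularGL 2 F) g = Fintype.card F + 1) ∧
    ((g : Matrix (Fin 2) (Fin 2) F) 0 1 = 0 → (g : Matrix (Fin 2) (Fin 2) F) 1 0 = 0 → (g : Matrix (Fin 2) (Fin 2) F) 0 0 ≠ (g : Matrix (Fin 2) (Fin 2) F) 1 1 →
      Cfsg.fixedPointCharacter (Cfsg.upperTriangularGL 2 F) g = 2) ∧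
    ((∀ (c : F) (v : Fin 2 → F), v ≠ 0 → (g : Matrix (Fin 2) (Fin 2) F).mulVec v ≠ c • v) → Cfsg.fixedPointCharacter (Cfsg.upperTriangularGL 2 F) g = 0) ∧
    ((g : Matrix (Fin 2) (Fin 2) F) 1 0 = 0 → (g : Matrix (Fin 2) (Fin 2) F) 0 0 = (g : Matrix (Fin 2) (Fin 2) F) 1 1 → (g : Matrix (Fin 2) (Fin 2) F) 0 1 ≠ 0 →
      Cfsg.fixedPointCharacter (Cfsg.upperTriangularGL 2 F) g = 1) := by
  classical
  refine ⟨?_, ?_, ?_, ?_⟩
  · rintro ⟨a, ha⟩
    rw [fixedPointCharacter_eq_indFun]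
    exact indFun1_scalar g a ha
  · intro h01 h10 hne
    rw [fixedPointCharacter_eq_indFun]
    exact indFun1_diag g h01 h10 hne
  · intro hg
    rw [fixedPointCharacter_eq_indFun]
    exact indFun1_elliptic g hg
  · intro h10 heq h01
    rw [fixedPointCharacter_eq_indFun]
    exact indFun1_unip g h10 heq h01

end Cfsg.Agent.S2308
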