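import Cfsg.Statements.S2304
import Mathlib
import Cfsg.Agent.Helper12.SL2IndInner
import Cfsg.Agent.S2308

set_option autoImplicit false
open Cfsg

namespace Cfsg.Agent.S2304

open Cfsg.Agent.Helper12
open Cfsg.Agent.S2305 (th)

section prep

variable {F : Type*} [Field F]

theorem b_ne_zero (b : ↥(Cfsg.upperTriangularGL 2 F)) :
    ((b : Matrix.GeneralLinearGroup (Fin 2) F) : Matrix (Fin 2) (Fin 2) F) 0 0 * ((b : Matrix.GeneralLinearGroup (Fin 2) F) : Matrix (Fin 2) (Fin 2) F) 1 1 ≠ 0 := by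
  have hd := S2305.det_ne_zero' (b : Matrix.GeneralLinearGroup (Fin 2) F)
  rw [(S2305.mem_B_iff _).mp b.2, mul_zero, sub_zero] at hd
  exact hd

noncomputable def bD0 : ↥(Cfsg.upperTriangularGL 2 F) →* Fˣ where
  toFun b := Units.mk0 _ (left_ne_zero_of_mul (b_ne_zero b))
  map_one' := Units.ext (by
    show (((1 : ↥(Cfsg.upperTriangularGL 2 F)) : Matrix.GeneralLinearGroup (Fin 2) F) : Matrix (Fin 2) (Fin 2) F) 0 0 = 1
    rw [Subgroup.coe_one, Units.val_one, Matrix.one_apply_eq])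
  map_mul' b b' := Units.ext (by
    show (((b * b' : ↥(Cfsg.upperTriangularGL 2 F)) : Matrix.GeneralLinearGroup (Fin 2) F) : Matrix (Fin 2) (Fin 2) F) 0 0 =
      ((b : Matrix.GeneralLinearGroup (Fin 2) F) : Matrix (Fin 2) (Fin 2) F) 0 0 * ((b' : Matrix.GeneralLinearGroup (Fin 2) F) : Matrix (Fin 2) (Fin 2) F) 0 0
    rw [Subgroup.coe_mul, Units.val_mul, Matrix.mul_apply, Fin.sum_univ_two,
      (S2305.mem_B_iff _).mp b'.2, mul_zero, add_zero])

noncomputable def bD1 : ↥(Cfsg.upperTriangularGL 2 F) →* Fˣ where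
  toFun b := Units.mk0 _ (right_ne_zero_of_mul (b_ne_zero b))
  map_one' := Units.ext (by
    show (((1 : ↥(Cfsg.upperTriangularGL 2 F)) : Matrix.GeneralLinearGroup (Fin 2) F) : Matrix (Fin 2) (Fin 2) F) 1 1 = 1
    rw [Subgroup.coe_one, Units.val_one, Matrix.one_apply_eq])
  map_mul' b b' := Units.ext (by
    show (((b * b' : ↥(Cfsg.upperTriangularGL 2 F)) : Matrix.GeneralLinearGroup (Fin 2) F) : Matrix (Fin 2) (Fin 2) F) 1 1 =
      ((b : Matrix.GeneralLinearGroup (Fin 2) F) : Matrix (Fin 2) (Fin 2) F) 1 1 * ((b' : Matrix.GeneralLinearGroup (Fin 2) F) : Matrix (Fin 2) (Fin 2) F) 1 1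
    rw [Subgroup.coe_mul, Units.val_mul, Matrix.mul_apply, Fin.sum_univ_two,
      (S2305.mem_B_iff _).mp b.2, zero_mul, zero_add])

theorem th_isCharacter (α β : MulChar F ℂ) : Cfsg.IsCharacter ↥(Cfsg.upperTriangularGL 2 F) (th α β) := by
  have h := isIrrCharacter_of_hom'
    ((α.toUnitHom.comp (bD0 (F := F))) * (β.toUnitHom.comp (bD1 (F := F))))
  have e : (fun b : ↥(Cfsg.upperTriangularGL 2 F) =>
      ((((α.toUnitHom.comp bD0) * (β.toUnitHom.comp bD1)) b : ℂˣ) : ℂ)) = th α β := by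
    funext b
    rw [MonoidHom.mul_apply, Units.val_mul, MonoidHom.comp_apply, MonoidHom.comp_apply,
      MulChar.coe_toUnitHom, MulChar.coe_toUnitHom]
    rfl
  rw [e] at h
  exact Helper24.isCharacter_of_isIrrCharacter h

theorem indFun_th_unip [Fintype F] [DecidableEq F] (α β : MulChar F ℂ) (g : Matrix.GeneralLinearGroup (Fin 2) F)
    (h10 : (g : Matrix (Fin 2) (Fin 2) F) 1 0 = 0) (heq : (g : Matrix (Fin 2) (Fin 2) F) 0 0 = (g : Matrix (Fin 2) (Fin 2) F) 1 1)
    (h01 : (g : Matrix (Fin 2) (Fin 2) F) 0 1 ≠ 0) :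
    Cfsg.indFun (Cfsg.upperTriangularGL 2 F) (th α β) g = α ((g : Matrix (Fin 2) (Fin 2) F) 0 0) * β ((g : Matrix (Fin 2) (Fin 2) F) 0 0) := by
  obtain ⟨a, ha⟩ : ∃ a : F, (g : Matrix (Fin 2) (Fin 2) F) 0 0 = a := ⟨_, rfl⟩
  obtain ⟨c, hc⟩ : ∃ c : F, (g : Matrix (Fin 2) (Fin 2) F) 0 1 = c := ⟨_, rfl⟩
  rw [ha] at heq ⊢
  rw [hc] at h01
  have hpt : ∀ x : Matrix.GeneralLinearGroup (Fin 2) F, Cfsg.extendByZero (Cfsg.upperTriangularGL 2 F) (th α β) (x⁻¹ * g * x) =
      Cfsg.extendByZero (Cfsg.upperTriangularGL 2 F) (fun _ => α a * β a) x := by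
    intro x
    obtain ⟨p, q, r, s, y00, y01, y10, y11, hp, hr, hy00, hy10, hy11, hdet, E1, E2, E3, E4⟩ :=
      S2305.conj_data x g
    rw [ha, hc] at E1
    rw [h10, ← heq] at E3 E4
    by_cases hr0 : r = 0
    · have hp0 : p ≠ 0 := by
        intro h0
        apply hdet
        rw [hr0, h0]
        ring
      have hs0 : s ≠ 0 := by
        intro h0
        apply hdet
        rw [hr0, h0]
        ring
      have hy : y10 = 0 := by
        have h1 : s * y10 = 0 := by
          rw [hr0] at E3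
          linear_combination E3
        exact (mul_eq_zero.mp h1).resolve_left hs0
      have h00 : y00 = a := by
        have h1 : p * (y00 - a) = 0 := by
          rw [hy, hr0] at E1
          linear_combination E1
        exact sub_eq_zero.mp ((mul_eq_zero.mp h1).resolve_left hp0)
      have h11 : y11 = a := by
        have h1 : s * (y11 - a) = 0 := by
          rw [hr0] at E4
          linear_combination E4
        exact sub_eq_zero.mp ((mul_eq_zero.mp h1).resolve_left hs0)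
      rw [S2305.ext_th_mem α β _ (hy10.trans hy), hy00, hy11, h00, h11,
        extendByZero_mem _ _ ((S2305.mem_B_iff x).mpr (hr.trans hr0))]
    · have hy : y10 ≠ 0 := by
        intro hy
        rw [hy] at E1 E3
        have h2 : r * (y00 - a) = 0 := by linear_combination E3
        have h3 : y00 = a := sub_eq_zero.mp ((mul_eq_zero.mp h2).resolve_left hr0)
        rw [h3] at E1
        have h4 : c * r = 0 := by linear_combination (-1 : F) * E1
        rcases mul_eq_zero.mp h4 with h5 | h5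
        · exact h01 h5
        · exact hr0 h5
      rw [S2305.ext_th_not_mem α β _ (fun h => hy (hy10.symm.trans h)),
        extendByZero_not_mem _ _ (g := x)
          (fun h => hr0 (hr.symm.trans ((S2305.mem_B_iff x).mp h)))]
  rw [indFun_def, Finset.sum_congr rfl (fun x _ => hpt x), sum_extendByZero_const,
    ← mul_assoc, inv_mul_cancel₀ (card_subgroup_ne_zero _), one_mul]

theorem indFun_th_scalar [Fintype F] [DecidableEq F] (α β : MulChar F ℂ) (a : Fˣ) :
    Cfsg.indFun (Cfsg.upperTriangularGL 2 F) (th α β) (S2308.belG a a 0) =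
      ((Fintype.card F : ℂ) + 1) * (α (a : F) * β (a : F)) := by
  have hcen : ∀ x : Matrix.GeneralLinearGroup (Fin 2) F, x * S2308.belG a a 0 = S2308.belG a a 0 * x := by
    intro x
    exact S2305.dg_central (a : F) a.ne_zero x
  have hmem : S2308.belG a a 0 ∈ (Cfsg.upperTriangularGL 2 F) := S2308.belG_mem a a 0
  rw [indFun_central _ (th α β) hcen hmem]
  show (Nat.card ↥(Cfsg.upperTriangularGL 2 F) : ℂ)⁻¹ * ((Fintype.card (Matrix.GeneralLinearGroup (Fin 2) F) : ℂ) * (α (a : F) * β (a : F))) = _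
  rw [S2308.card_B, S2308.card_GL_complex]
  have hq0 : (Fintype.card F : ℂ) ≠ 0 := Nat.cast_ne_zero.mpr Fintype.card_ne_zero
  have hq1 : (Fintype.card F : ℂ) - 1 ≠ 0 := card_sub_one_ne_zero
  field_simp
  ring

theorem indFunG_bel_sum [Fintype F] [DecidableEq F] (α β : MulChar F ℂ) (a b : Fˣ) :
    (∑ c : F, Cfsg.indFun (Cfsg.upperTriangularGL 2 F) (th α β) (S2308.belG a b c)) =
      (Fintype.card F : ℂ) * (α (a : F) * β (b : F) + α (b : F) * β (a : F)) := by
  by_cases hab : (a : F) = (b : F)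
  · have hab' : a = b := Units.ext hab
    subst hab'
    have h0 := indFun_th_scalar α β a
    have h1 : ∀ c ∈ (Finset.univ : Finset F).erase 0,
        Cfsg.indFun (Cfsg.upperTriangularGL 2 F) (th α β) (S2308.belG a a c) = α (a : F) * β (a : F) := by
      intro c hc
      exact indFun_th_unip α β (S2308.belG a a c) rfl rfl (Finset.ne_of_mem_erase hc)
    rw [← Finset.add_sum_erase Finset.univ _ (Finset.mem_univ (0 : F)), h0,
      Finset.sum_congr rfl h1, Finset.sum_const, Finset.card_erase_of_mem (Finset.mem_univ _),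
      Finset.card_univ, nsmul_eq_mul, Nat.cast_sub Fintype.card_pos, Nat.cast_one]
    ring
  · have h1 : ∀ c : F, Cfsg.indFun (Cfsg.upperTriangularGL 2 F) (th α β) (S2308.belG a b c) =
        α (a : F) * β (b : F) + α (b : F) * β (a : F) := by
      intro c
      obtain ⟨u, hu⟩ := S2305.conj_dg (S2308.belG a b c) rfl (a := (a : F)) (b := (b : F))
        rfl rfl a.ne_zero b.ne_zero hab
      rw [hu, indFun_conj]
      exact S2305.indFun_dg α β (a : F) (b : F) a.ne_zero b.ne_zero hab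
    rw [Finset.sum_congr rfl (fun c _ => h1 c), Finset.sum_const, Finset.card_univ, nsmul_eq_mul]

theorem sum_B [Fintype F] [DecidableEq F] (θ : ↥(Cfsg.upperTriangularGL 2 F) → ℂ) (ψ : Matrix.GeneralLinearGroup (Fin 2) F → ℂ) :
    (∑ g : Matrix.GeneralLinearGroup (Fin 2) F, Cfsg.extendByZero (Cfsg.upperTriangularGL 2 F) θ g * ψ g) =
      ∑ a : Fˣ, ∑ b : Fˣ, ∑ c : F,
        θ ⟨S2308.belG a b c, S2308.belG_mem a b c⟩ * ψ (S2308.belG a b c) := by
  have h : (∑ t : Fˣ × Fˣ × F, θ ⟨S2308.belG t.1 t.2.1 t.2.2, S2308.belG_mem t.1 t.2.1 t.2.2⟩ *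
      ψ (S2308.belG t.1 t.2.1 t.2.2)) = ∑ g : Matrix.GeneralLinearGroup (Fin 2) F, Cfsg.extendByZero (Cfsg.upperTriangularGL 2 F) θ g * ψ g := by
    refine Fintype.sum_of_injective (fun t : Fˣ × Fˣ × F => S2308.belG t.1 t.2.1 t.2.2)
      S2308.belG_injective _ _ ?_ ?_
    · intro x hx
      have hx' : x ∉ (Cfsg.upperTriangularGL 2 F) := fun h => hx (S2308.belG_surj x h)
      show Cfsg.extendByZero (Cfsg.upperTriangularGL 2 F) θ x * ψ x = 0
      rw [extendByZero_not_mem _ _ hx', zero_mul]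
    · intro t
      show θ ⟨S2308.belG t.1 t.2.1 t.2.2, S2308.belG_mem t.1 t.2.1 t.2.2⟩ *
        ψ (S2308.belG t.1 t.2.1 t.2.2) =
        Cfsg.extendByZero (Cfsg.upperTriangularGL 2 F) θ (S2308.belG t.1 t.2.1 t.2.2) * ψ (S2308.belG t.1 t.2.1 t.2.2)
      rw [extendByZero_mem _ _ (S2308.belG_mem t.1 t.2.1 t.2.2)]
  rw [← h, Fintype.sum_prod_type]
  refine Finset.sum_congr rfl (fun a _ => ?_)
  rw [Fintype.sum_prod_type]

theorem classInner_RG [Fintype F] [DecidableEq F] (α β : MulChar F ℂ) (hαβ : α ≠ β) :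
    Cfsg.classInner (Cfsg.indFun (Cfsg.upperTriangularGL 2 F) (th α β)) (Cfsg.indFun (Cfsg.upperTriangularGL 2 F) (th α β)) = 1 := by
  show (Nat.card (Matrix.GeneralLinearGroup (Fin 2) F) : ℂ)⁻¹ * ∑ g : Matrix.GeneralLinearGroup (Fin 2) F, Cfsg.indFun (Cfsg.upperTriangularGL 2 F) (th α β) g *
    (starRingEnd ℂ) (Cfsg.indFun (Cfsg.upperTriangularGL 2 F) (th α β) g) = 1
  have hG0 : (Fintype.card (Matrix.GeneralLinearGroup (Fin 2) F) : ℂ) ≠ 0 := Nat.cast_ne_zero.mpr Fintype.card_ne_zero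
  have hq0 : (Fintype.card F : ℂ) ≠ 0 := Nat.cast_ne_zero.mpr Fintype.card_ne_zero
  have hq1 : (Fintype.card F : ℂ) - 1 ≠ 0 := card_sub_one_ne_zero
  have hψ : ∀ x g : Matrix.GeneralLinearGroup (Fin 2) F,
      (fun g => (starRingEnd ℂ) (Cfsg.indFun (Cfsg.upperTriangularGL 2 F) (th α β) g)) (x * g * x⁻¹) =
      (fun g => (starRingEnd ℂ) (Cfsg.indFun (Cfsg.upperTriangularGL 2 F) (th α β) g)) g := by
    intro x g
    show (starRingEnd ℂ) (Cfsg.indFun (Cfsg.upperTriangularGL 2 F) (th α β) (x * g * x⁻¹)) =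
      (starRingEnd ℂ) (Cfsg.indFun (Cfsg.upperTriangularGL 2 F) (th α β) g)
    rw [indFun_conj]
  have h1 := sum_indFun_mul (Cfsg.upperTriangularGL 2 F) (th α β)
    (fun g => (starRingEnd ℂ) (Cfsg.indFun (Cfsg.upperTriangularGL 2 F) (th α β) g)) hψ
  have h2 := sum_B (F := F) (th α β) (fun g => (starRingEnd ℂ) (Cfsg.indFun (Cfsg.upperTriangularGL 2 F) (th α β) g))
  beta_reduce at h1 h2
  have hconj : ∀ (χ : MulChar F ℂ) (x : F), (starRingEnd ℂ) (χ x) = χ⁻¹ x :=
    fun χ x => MulChar.star_apply' χ x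
  have h3 : ∀ a b : Fˣ, (∑ c : F, th α β ⟨S2308.belG a b c, S2308.belG_mem a b c⟩ *
      (starRingEnd ℂ) (Cfsg.indFun (Cfsg.upperTriangularGL 2 F) (th α β) (S2308.belG a b c))) =
      (Fintype.card F : ℂ) * ((α * α⁻¹) (a : F) * (β * β⁻¹) (b : F) +
        (α * β⁻¹) (a : F) * (β * α⁻¹) (b : F)) := by
    intro a b
    have e4 : ∀ c : F, th α β ⟨S2308.belG a b c, S2308.belG_mem a b c⟩ *
        (starRingEnd ℂ) (Cfsg.indFun (Cfsg.upperTriangularGL 2 F) (th α β) (S2308.belG a b c)) =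
        (α (a : F) * β (b : F)) *
          (starRingEnd ℂ) (Cfsg.indFun (Cfsg.upperTriangularGL 2 F) (th α β) (S2308.belG a b c)) := fun c => rfl
    rw [Finset.sum_congr rfl (fun c _ => e4 c), ← Finset.mul_sum, ← map_sum, indFunG_bel_sum,
      map_mul, map_add, map_mul, map_mul, map_natCast]
    simp only [hconj, MulChar.mul_apply]
    ring
  have h6 : ∀ a : Fˣ, (∑ b : Fˣ, ∑ c : F, th α β ⟨S2308.belG a b c, S2308.belG_mem a b c⟩ *
      (starRingEnd ℂ) (Cfsg.indFun (Cfsg.upperTriangularGL 2 F) (th α β) (S2308.belG a b c))) =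
      (Fintype.card F : ℂ) * ((α * α⁻¹) (a : F) * (∑ b : Fˣ, (β * β⁻¹) (b : F)) +
        (α * β⁻¹) (a : F) * (∑ b : Fˣ, (β * α⁻¹) (b : F))) := by
    intro a
    rw [Finset.sum_congr rfl (fun b _ => h3 a b), ← Finset.mul_sum, Finset.sum_add_distrib,
      ← Finset.mul_sum, ← Finset.mul_sum]
  rw [h1, h2, Finset.sum_congr rfl (fun a _ => h6 a), ← Finset.mul_sum, Finset.sum_add_distrib,
    ← Finset.sum_mul, ← Finset.sum_mul,
    sum_units_eq (⇑(α * α⁻¹)) (MulChar.map_zero _), sum_units_eq (⇑(β * β⁻¹)) (MulChar.map_zero _),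
    sum_units_eq (⇑(α * β⁻¹)) (MulChar.map_zero _), mulChar_sum_self, mulChar_sum_self,
    mulChar_sum_ne hαβ, zero_mul, add_zero, S2308.card_B, Nat.card_eq_fintype_card]
  field_simp

end prep

/-- Over a finite field F with q elements, for multiplicative characters α ≠ β of F, the function induced to GL₂ from the linear character b ↦ α(b₁₁) β(b₂₂) of the upper triangular subgroup B is an irreducible character (of degree q + 1). -/
theorem result {F : Type*} [Field F] [Fintype F] [DecidableEq F] (α β : MulChar F ℂ) (hαβ : α ≠ β) :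
    Cfsg.IsIrrCharacter (Matrix.GeneralLinearGroup (Fin 2) F) (Cfsg.indFun (Cfsg.upperTriangularGL 2 F) (fun b => α (((b : Matrix.GeneralLinearGroup (Fin 2) F) : Matrix (Fin 2) (Fin 2) F) 0 0) * β (((b : Matrix.GeneralLinearGroup (Fin 2) F) : Matrix (Fin 2) (Fin 2) F) 1 1))) := by
  show Cfsg.IsIrrCharacter (Matrix.GeneralLinearGroup (Fin 2) F) (Cfsg.indFun (Cfsg.upperTriangularGL 2 F) (th α β))
  exact Helper24.isIrrCharacter_of_inner_self
    (Helper24.isCharacter_induced _ _ (th_isCharacter α β)) (classInner_RG α β hαβ)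

end Cfsg.Agent.S2304
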