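import Cfsg.Statements.S2307
import Mathlib
import Cfsg.Agent.Helper12.SL2IndInner
import Cfsg.Agent.S2304
import Cfsg.Agent.Helper22.GalIrr

set_option autoImplicit false
open Cfsg

namespace Cfsg.Agent.S2307

open Cfsg.Agent.Helper12
open Cfsg.Agent.S2305 (th)

section generic

universe u

theorem exists_two_irr_of_norm_two {G : Type u} [Group G] [Fintype G] {ψ : G → ℂ}
    (hψ : Cfsg.IsCharacter G ψ) (h2 : Cfsg.classInner ψ ψ = 2) :
    ∃ χ₁ χ₂ : Cfsg.IrrCharacter G, χ₁ ≠ χ₂ ∧ ψ = (χ₁ : G → ℂ) + (χ₂ : G → ℂ) := by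
  classical
  choose k hk using fun χ : IrrCharacter G => Helper24.isCharacter_inner_irr hψ χ
  have hcf := Helper24.isCharacter_isClassFunction hψ
  have hdec : ψ = ∑ χ : IrrCharacter G, (k χ : ℂ) • (χ : G → ℂ) := by
    have := Helper24.classFunction_eq_sum_irr ψ hcf
    simp only [hk] at this
    exact this
  have hsq : ∑ χ : IrrCharacter G, ((k χ : ℂ)) ^ 2 = 2 := by
    have e : classInner ψ ψ =
        classInner (∑ χ : IrrCharacter G, (k χ : ℂ) • (χ : G → ℂ)) ψ := by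
      rw [← hdec]
    rw [← h2, e, Helper24.classInner_sum_left]
    refine Finset.sum_congr rfl fun χ _ => ?_
    rw [Helper24.classInner_smul_left, Helper24.classInner_conj_symm, hk χ, Complex.conj_natCast]
    ring
  have hsqN : ∑ χ : IrrCharacter G, (k χ) ^ 2 = 2 := by exact_mod_cast hsq
  obtain ⟨χ₁, hχ₁⟩ : ∃ χ₁, k χ₁ ≠ 0 := by
    by_contra hcon
    have hcon' : ∀ χ, k χ = 0 := fun χ => by
      by_contra h
      exact hcon ⟨χ, h⟩
    simp [hcon'] at hsqN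
  have h3 := Finset.add_sum_erase Finset.univ (fun χ => (k χ) ^ 2) (Finset.mem_univ χ₁)
  beta_reduce at h3
  rw [hsqN] at h3
  have hk1 : k χ₁ = 1 := by
    by_contra hne1
    have h4 : 2 ≤ k χ₁ := by
      have := Nat.pos_of_ne_zero hχ₁
      omega
    have h5 : 4 ≤ (k χ₁) ^ 2 := by nlinarith
    omega
  rw [hk1] at h3
  have h6 : ∑ χ ∈ Finset.univ.erase χ₁, (k χ) ^ 2 = 1 := by
    simp only [one_pow] at h3
    omega
  obtain ⟨χ₂, hχ₂mem, hχ₂⟩ : ∃ χ₂ ∈ Finset.univ.erase χ₁, k χ₂ ≠ 0 := by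
    by_contra hcon
    have hcon' : ∀ χ ∈ Finset.univ.erase χ₁, (k χ) ^ 2 = 0 := fun χ hχ => by
      have h : k χ = 0 := by
        by_contra h
        exact hcon ⟨χ, hχ, h⟩
      rw [h]
      rfl
    rw [Finset.sum_eq_zero hcon'] at h6
    omega
  have hne : χ₂ ≠ χ₁ := Finset.ne_of_mem_erase hχ₂mem
  have h7 := Finset.add_sum_erase (Finset.univ.erase χ₁) (fun χ => (k χ) ^ 2) hχ₂mem
  beta_reduce at h7
  rw [h6] at h7
  have hk2 : k χ₂ = 1 := by
    by_contra hne1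
    have h4 : 2 ≤ k χ₂ := by
      have := Nat.pos_of_ne_zero hχ₂
      omega
    have h5 : 4 ≤ (k χ₂) ^ 2 := by nlinarith
    omega
  rw [hk2] at h7
  have h8 : ∑ χ ∈ (Finset.univ.erase χ₁).erase χ₂, (k χ) ^ 2 = 0 := by
    simp only [one_pow] at h7
    omega
  have hrest : ∀ χ, χ ≠ χ₁ → χ ≠ χ₂ → k χ = 0 := by
    intro χ h1 h2'
    have := (Finset.sum_eq_zero_iff.mp h8) χ
      (Finset.mem_erase.mpr ⟨h2', Finset.mem_erase.mpr ⟨h1, Finset.mem_univ χ⟩⟩)
    exact (pow_eq_zero_iff two_ne_zero).mp this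
  refine ⟨χ₁, χ₂, hne.symm, ?_⟩
  rw [hdec, Finset.sum_eq_add χ₁ χ₂ hne.symm]
  · rw [hk1, hk2]
    simp
  · intro χ _ hχ
    rw [hrest χ hχ.1 hχ.2]
    simp
  · intro h
    exact absurd (Finset.mem_univ _) h
  · intro h
    exact absurd (Finset.mem_univ _) h

theorem isIrr_transport {G H : Type u} [Group G] [Group H] (e : G ≃* H) {χ : G → ℂ}
    (hχ : Cfsg.IsIrrCharacter G χ) : Cfsg.IsIrrCharacter H (fun h => χ (e.symm h)) := by
  obtain ⟨n, ρ, hρ, hρχ⟩ := hχ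
  refine ⟨n, MonoidHom.comp ρ e.symm.toMonoidHom,
    (Helper24.isIrreducible_comp_iff _ e.symm.surjective ρ).mpr hρ, ?_⟩
  funext h
  rw [← hρχ]
  rfl

theorem classInner_transport {G H : Type u} [Group G] [Group H] [Fintype G] [Fintype H]
    (e : G ≃* H) (φ ψ : G → ℂ) :
    Cfsg.classInner (fun h => φ (e.symm h)) (fun h => ψ (e.symm h)) = Cfsg.classInner φ ψ := by
  show (Nat.card H : ℂ)⁻¹ * ∑ h : H, φ (e.symm h) * (starRingEnd ℂ) (ψ (e.symm h)) =
    (Nat.card G : ℂ)⁻¹ * ∑ g : G, φ g * (starRingEnd ℂ) (ψ g)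
  rw [Nat.card_congr e.symm.toEquiv]
  congr 1
  exact Fintype.sum_equiv e.symm.toEquiv _ _ (fun h => rfl)

end generic

section prep

variable {F : Type*} [Field F]

theorem range_toGL_normal : ((Matrix.SpecialLinearGroup.toGL : Matrix.SpecialLinearGroup (Fin 2) F →* Matrix.GeneralLinearGroup (Fin 2) F).range).Normal := by
  refine ⟨fun n hn y => ?_⟩
  obtain ⟨g, rfl⟩ := hn
  have hdet : ((y * Matrix.SpecialLinearGroup.toGL g * y⁻¹ : Matrix.GeneralLinearGroup (Fin 2) F) : Matrix (Fin 2) (Fin 2) F).det = 1 := by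
    have h1 : Matrix.GeneralLinearGroup.det (y * Matrix.SpecialLinearGroup.toGL g * y⁻¹) =
        Matrix.GeneralLinearGroup.det (Matrix.SpecialLinearGroup.toGL g) := by
      rw [map_mul, map_mul, map_inv, mul_comm, inv_mul_cancel_left]
    have h2 := congrArg Units.val h1
    rw [Matrix.GeneralLinearGroup.val_det_apply, Matrix.GeneralLinearGroup.val_det_apply] at h2
    rw [h2]
    exact g.det_coe
  exact ⟨⟨_, hdet⟩, Units.ext rfl⟩

theorem indFun_th_elliptic [Fintype F] [DecidableEq F] (α β : MulChar F ℂ) (g : Matrix.GeneralLinearGroup (Fin 2) F)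
    (hg : ∀ (c : F) (v : Fin 2 → F), v ≠ 0 → (g : Matrix (Fin 2) (Fin 2) F).mulVec v ≠ c • v) :
    Cfsg.indFun (Cfsg.upperTriangularGL 2 F) (th α β) g = 0 := by
  have hpt : ∀ x : Matrix.GeneralLinearGroup (Fin 2) F, Cfsg.extendByZero (Cfsg.upperTriangularGL 2 F) (th α β) (x⁻¹ * g * x) = 0 := by
    intro x
    obtain ⟨p, q, r, s, y00, y01, y10, y11, hp, hr, hy00, hy10, hy11, hdet, E1, E2, E3, E4⟩ :=
      S2305.conj_data x g
    apply S2305.ext_th_not_mem
    intro hy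
    rw [hy10] at hy
    rw [hy] at E1 E3
    apply hg y00 ![p, r]
    · intro hv0
      have h1 : p = 0 := congrFun hv0 0
      have h2 : r = 0 := congrFun hv0 1
      apply hdet
      rw [h1, h2]
      ring
    · have e1 : (g : Matrix (Fin 2) (Fin 2) F) 0 0 * p + (g : Matrix (Fin 2) (Fin 2) F) 0 1 * r = y00 * p := by
        linear_combination (-1 : F) * E1
      have e3 : (g : Matrix (Fin 2) (Fin 2) F) 1 0 * p + (g : Matrix (Fin 2) (Fin 2) F) 1 1 * r = y00 * r := by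
        linear_combination (-1 : F) * E3
      rw [mulVec_two, Matrix.smul_vec2, e1, e3]
      rfl
  rw [indFun_def, Finset.sum_congr rfl (fun x _ => hpt x), Finset.sum_const_zero, mul_zero]

theorem exists_sl2_col (p r : F) (h : p ≠ 0 ∨ r ≠ 0) :
    ∃ x : Matrix.SpecialLinearGroup (Fin 2) F, (x : Matrix (Fin 2) (Fin 2) F) 0 0 = p ∧ (x : Matrix (Fin 2) (Fin 2) F) 1 0 = r := by
  by_cases hp : p = 0
  · have hr : r ≠ 0 := h.resolve_left (not_not.mpr hp)
    refine ⟨sl2mk p (-r⁻¹) r 0 (by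
      have h1 : r⁻¹ * r = 1 := inv_mul_cancel₀ hr
      linear_combination h1), rfl, rfl⟩
  · refine ⟨sl2mk p 0 r p⁻¹ (by
      have h1 : p * p⁻¹ = 1 := mul_inv_cancel₀ hp
      linear_combination h1), rfl, rfl⟩

theorem exists_conj_upper (g : Matrix.SpecialLinearGroup (Fin 2) F) (c : F) (v : Fin 2 → F) (hv0 : v ≠ 0)
    (hv : (g : Matrix (Fin 2) (Fin 2) F).mulVec v = c • v) :
    ∃ x : Matrix.SpecialLinearGroup (Fin 2) F, ((x⁻¹ * g * x : Matrix.SpecialLinearGroup (Fin 2) F) : Matrix (Fin 2) (Fin 2) F) 1 0 = 0 := by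
  have h0 := congrFun hv 0
  have h1 := congrFun hv 1
  simp only [Matrix.mulVec, Matrix.vec2_dotProduct, Pi.smul_apply, smul_eq_mul] at h0 h1
  have hpr : v 0 ≠ 0 ∨ v 1 ≠ 0 := by
    by_contra hcon
    rw [not_or, not_not, not_not] at hcon
    apply hv0
    funext i
    fin_cases i
    · exact hcon.1
    · exact hcon.2
  obtain ⟨x, hx0, hx1⟩ := exists_sl2_col (v 0) (v 1) hpr
  refine ⟨x, ?_⟩
  obtain ⟨p, q, r, s, y00, y01, y10, y11, hp, hr, hy00, hy10, hdet, E1, E2, E3, E4⟩ :=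
    conj_dataS x g
  rw [hy10]
  rw [hx0] at hp
  rw [hx1] at hr
  rw [← hp, ← hr] at E1 E3 hdet
  linear_combination (-y10) * hdet + v 0 * E3 + v 0 * h1 - v 1 * E1 - v 1 * h0

theorem resGL_bel [Fintype F] [DecidableEq F] (α : MulChar F ℂ) (a : Fˣ) (c : F) :
    Cfsg.indFun (Cfsg.upperTriangularGL 2 F) (th α 1) (Matrix.SpecialLinearGroup.toGL (bel a c)) = Cfsg.indFun ((Cfsg.upperTriangularGL 2 F).comap Matrix.SpecialLinearGroup.toGL) (thS α) (bel a c) := by
  have htoGL : Matrix.SpecialLinearGroup.toGL (bel a c) = S2308.belG a a⁻¹ c := Units.ext rfl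
  have h1a : ∀ u : Fˣ, (1 : MulChar F ℂ) (u : F) = 1 := fun u => MulChar.one_apply_coe u
  rw [htoGL]
  by_cases hne : (a : F) = ((a⁻¹ : Fˣ) : F)
  · have ha' : a⁻¹ = a := (Units.ext hne).symm
    rw [ha']
    by_cases hc : c = 0
    · subst hc
      rw [S2304.indFun_th_scalar α 1 a, indFunS_central α (bel a 0) rfl rfl hne, h1a, mul_one]
      rfl
    · rw [S2304.indFun_th_unip α 1 (S2308.belG a a c) rfl rfl hc,
        indFunS_unip α (bel a c) rfl hne hc]
      show α (a : F) * (1 : MulChar F ℂ) (a : F) = α (a : F)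
      rw [h1a, mul_one]
  · obtain ⟨u, hu⟩ := bel_conj a c hne
    obtain ⟨u', hu'⟩ := S2305.conj_dg (S2308.belG a a⁻¹ c) rfl (a := (a : F))
      (b := ((a⁻¹ : Fˣ) : F)) rfl rfl a.ne_zero a⁻¹.ne_zero hne
    rw [hu', indFun_conj, S2305.indFun_dg α 1 _ _ a.ne_zero a⁻¹.ne_zero hne, hu, indFun_conj,
      indFunS_diag α (bel a 0) rfl rfl hne, h1a, h1a, mul_one, mul_one]
    rfl

theorem resGL [Fintype F] [DecidableEq F] (α : MulChar F ℂ) (g : Matrix.SpecialLinearGroup (Fin 2) F) :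
    Cfsg.indFun (Cfsg.upperTriangularGL 2 F) (th α 1) (Matrix.SpecialLinearGroup.toGL g) = Cfsg.indFun ((Cfsg.upperTriangularGL 2 F).comap Matrix.SpecialLinearGroup.toGL) (thS α) g := by
  by_cases hell : ∀ (c : F) (v : Fin 2 → F), v ≠ 0 → (g : Matrix (Fin 2) (Fin 2) F).mulVec v ≠ c • v
  · rw [indFunS_elliptic α g hell]
    exact indFun_th_elliptic α 1 (Matrix.SpecialLinearGroup.toGL g) hell
  · have hell' : ∃ (c : F) (v : Fin 2 → F), v ≠ 0 ∧ (g : Matrix (Fin 2) (Fin 2) F).mulVec v = c • v := by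
      by_contra hcon
      apply hell
      intro c v hv0 hv
      exact hcon ⟨c, v, hv0, hv⟩
    obtain ⟨c, v, hv0, hv⟩ := hell'
    obtain ⟨x, hx⟩ := exists_conj_upper g c v hv0 hv
    obtain ⟨⟨a, c'⟩, hac⟩ := bel_surj (x⁻¹ * g * x) ((mem_BS_iff _).mpr hx)
    have hac' : bel a c' = x⁻¹ * g * x := hac
    have hg : g = x * bel a c' * x⁻¹ := by
      rw [hac']
      group
    rw [hg, indFun_conj, map_mul, map_mul, map_inv, indFun_conj]
    exact resGL_bel α a c'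

theorem conj_of_constituents [Fintype F] [DecidableEq F] (Θ : Matrix.GeneralLinearGroup (Fin 2) F → ℂ)
    (hΘ : Cfsg.IsIrrCharacter (Matrix.GeneralLinearGroup (Fin 2) F) Θ) (χ₁ χ₂ : Cfsg.IrrCharacter (Matrix.SpecialLinearGroup (Fin 2) F))
    (h1 : Cfsg.classInner (fun g : Matrix.SpecialLinearGroup (Fin 2) F => Θ (Matrix.SpecialLinearGroup.toGL g)) (χ₁ : Matrix.SpecialLinearGroup (Fin 2) F → ℂ) ≠ 0)
    (h2 : Cfsg.classInner (fun g : Matrix.SpecialLinearGroup (Fin 2) F => Θ (Matrix.SpecialLinearGroup.toGL g)) (χ₂ : Matrix.SpecialLinearGroup (Fin 2) F → ℂ) ≠ 0) :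
    ∃ x : Matrix.GeneralLinearGroup (Fin 2) F, ∀ g h : Matrix.SpecialLinearGroup (Fin 2) F, Matrix.SpecialLinearGroup.toGL h = x * Matrix.SpecialLinearGroup.toGL g * x⁻¹ →
      (χ₂ : Matrix.SpecialLinearGroup (Fin 2) F → ℂ) h = (χ₁ : Matrix.SpecialLinearGroup (Fin 2) F → ℂ) g := by
  classical
  have hNn : ((Matrix.SpecialLinearGroup.toGL : Matrix.SpecialLinearGroup (Fin 2) F →* Matrix.GeneralLinearGroup (Fin 2) F).range).Normal := range_toGL_normal
  haveI : Fintype ↥((Matrix.SpecialLinearGroup.toGL : Matrix.SpecialLinearGroup (Fin 2) F →* Matrix.GeneralLinearGroup (Fin 2) F).range) := Fintype.ofFinite _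
  obtain ⟨e, he⟩ : ∃ e : Matrix.SpecialLinearGroup (Fin 2) F ≃* ↥((Matrix.SpecialLinearGroup.toGL : Matrix.SpecialLinearGroup (Fin 2) F →* Matrix.GeneralLinearGroup (Fin 2) F).range), ∀ g, ((e g : ↥((Matrix.SpecialLinearGroup.toGL : Matrix.SpecialLinearGroup (Fin 2) F →* Matrix.GeneralLinearGroup (Fin 2) F).range)) : Matrix.GeneralLinearGroup (Fin 2) F) = Matrix.SpecialLinearGroup.toGL g :=
    ⟨MonoidHom.ofInjective Matrix.SpecialLinearGroup.toGL_injective, fun g => rfl⟩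
  obtain ⟨θ₁, hθ₁⟩ : ∃ θ₁ : Cfsg.IrrCharacter ↥((Matrix.SpecialLinearGroup.toGL : Matrix.SpecialLinearGroup (Fin 2) F →* Matrix.GeneralLinearGroup (Fin 2) F).range),
      (θ₁ : ↥((Matrix.SpecialLinearGroup.toGL : Matrix.SpecialLinearGroup (Fin 2) F →* Matrix.GeneralLinearGroup (Fin 2) F).range) → ℂ) = fun n => (χ₁ : Matrix.SpecialLinearGroup (Fin 2) F → ℂ) (e.symm n) :=
    ⟨⟨_, isIrr_transport e χ₁.2⟩, rfl⟩
  obtain ⟨θ₂, hθ₂⟩ : ∃ θ₂ : Cfsg.IrrCharacter ↥((Matrix.SpecialLinearGroup.toGL : Matrix.SpecialLinearGroup (Fin 2) F →* Matrix.GeneralLinearGroup (Fin 2) F).range),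
      (θ₂ : ↥((Matrix.SpecialLinearGroup.toGL : Matrix.SpecialLinearGroup (Fin 2) F →* Matrix.GeneralLinearGroup (Fin 2) F).range) → ℂ) = fun n => (χ₂ : Matrix.SpecialLinearGroup (Fin 2) F → ℂ) (e.symm n) :=
    ⟨⟨_, isIrr_transport e χ₂.2⟩, rfl⟩
  have hres : (fun n : ↥((Matrix.SpecialLinearGroup.toGL : Matrix.SpecialLinearGroup (Fin 2) F →* Matrix.GeneralLinearGroup (Fin 2) F).range) => Θ (n : Matrix.GeneralLinearGroup (Fin 2) F)) =
      fun n => (fun g : Matrix.SpecialLinearGroup (Fin 2) F => Θ (Matrix.SpecialLinearGroup.toGL g)) (e.symm n) := by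
    funext n
    show Θ (n : Matrix.GeneralLinearGroup (Fin 2) F) = Θ (Matrix.SpecialLinearGroup.toGL (e.symm n))
    rw [← he (e.symm n), e.apply_symm_apply]
  have hc1 : Cfsg.classInner (fun n : ↥((Matrix.SpecialLinearGroup.toGL : Matrix.SpecialLinearGroup (Fin 2) F →* Matrix.GeneralLinearGroup (Fin 2) F).range) => Θ (n : Matrix.GeneralLinearGroup (Fin 2) F)) (θ₁ : ↥((Matrix.SpecialLinearGroup.toGL : Matrix.SpecialLinearGroup (Fin 2) F →* Matrix.GeneralLinearGroup (Fin 2) F).range) → ℂ) ≠ 0 := by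
    rw [hθ₁, hres]
    intro h0
    apply h1
    rw [← classInner_transport e (fun g : Matrix.SpecialLinearGroup (Fin 2) F => Θ (Matrix.SpecialLinearGroup.toGL g)) (χ₁ : Matrix.SpecialLinearGroup (Fin 2) F → ℂ)]
    exact h0
  have hc2 : Cfsg.classInner (fun n : ↥((Matrix.SpecialLinearGroup.toGL : Matrix.SpecialLinearGroup (Fin 2) F →* Matrix.GeneralLinearGroup (Fin 2) F).range) => Θ (n : Matrix.GeneralLinearGroup (Fin 2) F)) (θ₂ : ↥((Matrix.SpecialLinearGroup.toGL : Matrix.SpecialLinearGroup (Fin 2) F →* Matrix.GeneralLinearGroup (Fin 2) F).range) → ℂ) ≠ 0 := by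
    rw [hθ₂, hres]
    intro h0
    apply h2
    rw [← classInner_transport e (fun g : Matrix.SpecialLinearGroup (Fin 2) F => Θ (Matrix.SpecialLinearGroup.toGL g)) (χ₂ : Matrix.SpecialLinearGroup (Fin 2) F → ℂ)]
    exact h0
  obtain ⟨y, hy⟩ := Helper22.exists_twist_of_constituent ((Matrix.SpecialLinearGroup.toGL : Matrix.SpecialLinearGroup (Fin 2) F →* Matrix.GeneralLinearGroup (Fin 2) F).range) Θ hΘ θ₁ θ₂ hc1 hc2
  refine ⟨y⁻¹, fun g h hgh => ?_⟩
  have h3 := congrFun hy (e h)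
  have h4 : (⟨y * ((e h : ↥((Matrix.SpecialLinearGroup.toGL : Matrix.SpecialLinearGroup (Fin 2) F →* Matrix.GeneralLinearGroup (Fin 2) F).range)) : Matrix.GeneralLinearGroup (Fin 2) F) * y⁻¹, hNn.conj_mem _ (e h).2 y⟩ : ↥((Matrix.SpecialLinearGroup.toGL : Matrix.SpecialLinearGroup (Fin 2) F →* Matrix.GeneralLinearGroup (Fin 2) F).range)) = e g := by
    apply Subtype.ext
    show y * ((e h : ↥((Matrix.SpecialLinearGroup.toGL : Matrix.SpecialLinearGroup (Fin 2) F →* Matrix.GeneralLinearGroup (Fin 2) F).range)) : Matrix.GeneralLinearGroup (Fin 2) F) * y⁻¹ = ((e g : ↥((Matrix.SpecialLinearGroup.toGL : Matrix.SpecialLinearGroup (Fin 2) F →* Matrix.GeneralLinearGroup (Fin 2) F).range)) : Matrix.GeneralLinearGroup (Fin 2) F)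
    rw [he, he, hgh]
    group
  have h5 : (θ₂ : ↥((Matrix.SpecialLinearGroup.toGL : Matrix.SpecialLinearGroup (Fin 2) F →* Matrix.GeneralLinearGroup (Fin 2) F).range) → ℂ) (e h) = (χ₂ : Matrix.SpecialLinearGroup (Fin 2) F → ℂ) h := by
    rw [hθ₂]
    show (χ₂ : Matrix.SpecialLinearGroup (Fin 2) F → ℂ) (e.symm (e h)) = _
    rw [e.symm_apply_apply]
  have h6 : Helper24.twist ((Matrix.SpecialLinearGroup.toGL : Matrix.SpecialLinearGroup (Fin 2) F →* Matrix.GeneralLinearGroup (Fin 2) F).range) (θ₁ : ↥((Matrix.SpecialLinearGroup.toGL : Matrix.SpecialLinearGroup (Fin 2) F →* Matrix.GeneralLinearGroup (Fin 2) F).range) → ℂ) y (e h) = (χ₁ : Matrix.SpecialLinearGroup (Fin 2) F → ℂ) g := by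
    rw [hθ₁]
    show (χ₁ : Matrix.SpecialLinearGroup (Fin 2) F → ℂ) (e.symm ⟨y * ((e h : ↥((Matrix.SpecialLinearGroup.toGL : Matrix.SpecialLinearGroup (Fin 2) F →* Matrix.GeneralLinearGroup (Fin 2) F).range)) : Matrix.GeneralLinearGroup (Fin 2) F) * y⁻¹, _⟩) = _
    rw [h4, e.symm_apply_apply]
  rw [← h5, h3, h6]

end prep

/-- Over a finite field F with q elements, q odd, let α be the multiplicative character of F of order 2. The character of SL₂ induced from the linear character b ↦ α(b₁₁) of the upper triangular subgroup is the sum of two distinct irreducible characters, each of degree (q + 1)/2, which are conjugate under GL₂: some fixed element of GL₂ conjugates the one into the other. -/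
theorem result {F : Type*} [Field F] [Fintype F] [DecidableEq F] (hodd : Odd (Fintype.card F)) (α : MulChar F ℂ)
    (hα : α ^ 2 = 1) (hα1 : α ≠ 1) :
    ∃ χ₁ χ₂ : Matrix.SpecialLinearGroup (Fin 2) F → ℂ, Cfsg.IsIrrCharacter (Matrix.SpecialLinearGroup (Fin 2) F) χ₁ ∧ Cfsg.IsIrrCharacter (Matrix.SpecialLinearGroup (Fin 2) F) χ₂ ∧ χ₁ ≠ χ₂ ∧
      Cfsg.indFun ((Cfsg.upperTriangularGL 2 F).comap Matrix.SpecialLinearGroup.toGL) (fun b => α (((b : Matrix.SpecialLinearGroup (Fin 2) F) : Matrix (Fin 2) (Fin 2) F) 0 0)) = χ₁ + χ₂ ∧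
      χ₁ 1 = (((Fintype.card F + 1) / 2 : ℕ) : ℂ) ∧ χ₂ 1 = (((Fintype.card F + 1) / 2 : ℕ) : ℂ) ∧
      ∃ x : Matrix.GeneralLinearGroup (Fin 2) F, ∀ g h : Matrix.SpecialLinearGroup (Fin 2) F,
        Matrix.SpecialLinearGroup.toGL h = x * Matrix.SpecialLinearGroup.toGL g * x⁻¹ → χ₂ h = χ₁ g := by
  classical
  have hRchar : Cfsg.IsCharacter (Matrix.SpecialLinearGroup (Fin 2) F) (Cfsg.indFun ((Cfsg.upperTriangularGL 2 F).comap Matrix.SpecialLinearGroup.toGL) (thS α)) :=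
    Helper24.isCharacter_induced _ _ (thS_isCharacter α)
  have hnorm : Cfsg.classInner (Cfsg.indFun ((Cfsg.upperTriangularGL 2 F).comap Matrix.SpecialLinearGroup.toGL) (thS α)) (Cfsg.indFun ((Cfsg.upperTriangularGL 2 F).comap Matrix.SpecialLinearGroup.toGL) (thS α)) = 2 := by
    have h := classInner_RS α α
    have hinv : α = α⁻¹ := by
      rw [eq_inv_iff_mul_eq_one, ← sq]
      exact hα
    rw [if_pos rfl, if_pos hinv] at h
    rw [h]
    norm_num
  obtain ⟨χ₁, χ₂, hne, hdec⟩ := exists_two_irr_of_norm_two hRchar hnorm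
  have hirrGL : Cfsg.IsIrrCharacter (Matrix.GeneralLinearGroup (Fin 2) F) (Cfsg.indFun (Cfsg.upperTriangularGL 2 F) (th α 1)) :=
    Helper24.isIrrCharacter_of_inner_self
      (Helper24.isCharacter_induced _ _ (S2304.th_isCharacter α 1)) (S2304.classInner_RG α 1 hα1)
  have hresR : (fun g : Matrix.SpecialLinearGroup (Fin 2) F => Cfsg.indFun (Cfsg.upperTriangularGL 2 F) (th α 1) (Matrix.SpecialLinearGroup.toGL g)) =
      Cfsg.indFun ((Cfsg.upperTriangularGL 2 F).comap Matrix.SpecialLinearGroup.toGL) (thS α) := funext (fun g => resGL α g)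
  have hc1 : Cfsg.classInner (fun g : Matrix.SpecialLinearGroup (Fin 2) F => Cfsg.indFun (Cfsg.upperTriangularGL 2 F) (th α 1) (Matrix.SpecialLinearGroup.toGL g))
      (χ₁ : Matrix.SpecialLinearGroup (Fin 2) F → ℂ) ≠ 0 := by
    rw [hresR, hdec, Helper24.classInner_add_left, Helper24.irr_inner_self,
      Helper24.irr_inner_ne hne.symm]
    norm_num
  have hc2 : Cfsg.classInner (fun g : Matrix.SpecialLinearGroup (Fin 2) F => Cfsg.indFun (Cfsg.upperTriangularGL 2 F) (th α 1) (Matrix.SpecialLinearGroup.toGL g))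
      (χ₂ : Matrix.SpecialLinearGroup (Fin 2) F → ℂ) ≠ 0 := by
    rw [hresR, hdec, Helper24.classInner_add_left, Helper24.irr_inner_self,
      Helper24.irr_inner_ne hne]
    norm_num
  obtain ⟨x, hx⟩ := conj_of_constituents _ hirrGL χ₁ χ₂ hc1 hc2
  have h12 : (χ₂ : Matrix.SpecialLinearGroup (Fin 2) F → ℂ) 1 = (χ₁ : Matrix.SpecialLinearGroup (Fin 2) F → ℂ) 1 :=
    hx 1 1 (by rw [map_one, mul_one, mul_inv_cancel])
  have hR1 : Cfsg.indFun ((Cfsg.upperTriangularGL 2 F).comap Matrix.SpecialLinearGroup.toGL) (thS α) 1 = (Fintype.card F : ℂ) + 1 := by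
    have h01 : ((1 : Matrix.SpecialLinearGroup (Fin 2) F) : Matrix (Fin 2) (Fin 2) F) 0 1 = 0 := by
      show (1 : Matrix (Fin 2) (Fin 2) F) 0 1 = 0
      exact Matrix.one_apply_ne (by decide)
    have h10 : ((1 : Matrix.SpecialLinearGroup (Fin 2) F) : Matrix (Fin 2) (Fin 2) F) 1 0 = 0 := by
      show (1 : Matrix (Fin 2) (Fin 2) F) 1 0 = 0
      exact Matrix.one_apply_ne (by decide)
    have h00 : ((1 : Matrix.SpecialLinearGroup (Fin 2) F) : Matrix (Fin 2) (Fin 2) F) 0 0 = 1 := by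
      show (1 : Matrix (Fin 2) (Fin 2) F) 0 0 = 1
      exact Matrix.one_apply_eq 0
    have h11 : ((1 : Matrix.SpecialLinearGroup (Fin 2) F) : Matrix (Fin 2) (Fin 2) F) 1 1 = 1 := by
      show (1 : Matrix (Fin 2) (Fin 2) F) 1 1 = 1
      exact Matrix.one_apply_eq 1
    rw [indFunS_central α 1 h01 h10 (h00.trans h11.symm), h00, map_one, mul_one]
  have hsum : (χ₁ : Matrix.SpecialLinearGroup (Fin 2) F → ℂ) 1 + (χ₂ : Matrix.SpecialLinearGroup (Fin 2) F → ℂ) 1 = (Fintype.card F : ℂ) + 1 := by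
    rw [← hR1, hdec]
    rfl
  obtain ⟨k, hk⟩ := hodd
  have hqk : (Fintype.card F : ℂ) = 2 * (k : ℂ) + 1 := by
    rw [hk]
    push_cast
    ring
  have hhalf : (Fintype.card F + 1) / 2 = k + 1 := by omega
  refine ⟨χ₁, χ₂, χ₁.2, χ₂.2, fun h => hne (Subtype.ext h), hdec, ?_, ?_, x, hx⟩
  · rw [hhalf]
    push_cast
    linear_combination (1 / 2 : ℂ) * hsum - (1 / 2 : ℂ) * h12 + (1 / 2 : ℂ) * hqk
  · rw [hhalf]
    push_cast
    linear_combination (1 / 2 : ℂ) * hsum + (1 / 2 : ℂ) * h12 + (1 / 2 : ℂ) * hqk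

end Cfsg.Agent.S2307
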