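import Cfsg.Statements.S2298
import Mathlib
import Cfsg.Agent.Helper12.GL2Char

set_option autoImplicit false
open Cfsg

namespace Cfsg.Agent.S2298

open Cfsg.Agent.Helper12
open Cfsg.Agent.S2305 (th)
open Cfsg.Agent.S2308 (belG)

section generic98

theorem sum_four_split {ι : Type*} [Fintype ι] (d : ι → ℕ) (a b c : ℕ) (hab : a ≠ b) (hac : a ≠ c)
    (hbc : b ≠ c) (f : ι → ℕ) :
    ∑ i, f i = ∑ i ∈ Finset.univ.filter (fun i => d i = a), f i +
      ∑ i ∈ Finset.univ.filter (fun i => d i = b), f i +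
      ∑ i ∈ Finset.univ.filter (fun i => d i = c), f i +
      ∑ i ∈ Finset.univ.filter (fun i => d i ≠ a ∧ d i ≠ b ∧ d i ≠ c), f i := by
  rw [Finset.sum_filter, Finset.sum_filter, Finset.sum_filter, Finset.sum_filter,
    ← Finset.sum_add_distrib, ← Finset.sum_add_distrib, ← Finset.sum_add_distrib]
  refine Finset.sum_congr rfl (fun i _ => ?_)
  by_cases h1 : d i = a
  · have h2 : d i ≠ b := fun h => hab (h1.symm.trans h)
    have h3 : d i ≠ c := fun h => hac (h1.symm.trans h)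
    have h4 : ¬ (d i ≠ a ∧ d i ≠ b ∧ d i ≠ c) := fun h => h.1 h1
    simp only [if_pos h1, if_neg h2, if_neg h3, if_neg h4, add_zero]
  · by_cases h2 : d i = b
    · have h3 : d i ≠ c := fun h => hbc (h2.symm.trans h)
      have h4 : ¬ (d i ≠ a ∧ d i ≠ b ∧ d i ≠ c) := fun h => h.2.1 h2
      simp only [if_neg h1, if_pos h2, if_neg h3, if_neg h4, add_zero, zero_add]
    · by_cases h3 : d i = c
      · have h4 : ¬ (d i ≠ a ∧ d i ≠ b ∧ d i ≠ c) := fun h => h.2.2 h3
        simp only [if_neg h1, if_neg h2, if_pos h3, if_neg h4, add_zero, zero_add]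
      · have h4 : d i ≠ a ∧ d i ≠ b ∧ d i ≠ c := ⟨h1, h2, h3⟩
        simp only [if_neg h1, if_neg h2, if_neg h3, if_pos h4, zero_add]

theorem two_choose_two (m : ℕ) : 2 * m.choose 2 + m = m * m := by
  induction m with
  | zero => rfl
  | succ k ih =>
    rw [Nat.choose_succ_succ', Nat.choose_one_right]
    nlinarith [ih]

theorem arith_core98 (m N ap c S : ℕ) (hm : 1 ≤ m) (eN : N = m + m + ap + c)
    (hN : m * (m + 2) ≤ N) (eap : 2 * ap + m = m * m)
    (eG : m ^ 2 * (m + 1) * (m + 2) = m * 1 ^ 2 + m * (m + 1) ^ 2 + ap * (m + 2) ^ 2 + S)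
    (hS : c * m ^ 2 ≤ S) : 2 * c = m * (m + 1) ∧ S = c * m ^ 2 := by
  have eN' : (N : ℤ) = m + m + ap + c := by exact_mod_cast eN
  have hN' : (m : ℤ) * (m + 2) ≤ N := by exact_mod_cast hN
  have eap' : 2 * (ap : ℤ) + m = m * m := by exact_mod_cast eap
  have eG' : (m : ℤ) ^ 2 * (m + 1) * (m + 2) =
      m * 1 ^ 2 + m * (m + 1) ^ 2 + ap * (m + 2) ^ 2 + S := by
    exact_mod_cast eG
  have hS' : (c : ℤ) * m ^ 2 ≤ S := by exact_mod_cast hS
  have hm' : (1 : ℤ) ≤ m := by exact_mod_cast hm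
  have h2S : 2 * (S : ℤ) = m ^ 3 * (m + 1) := by
    linear_combination (-2 : ℤ) * eG' - ((m : ℤ) + 2) ^ 2 * eap'
  have h2c : (m : ℤ) ^ 2 + m ≤ 2 * c := by nlinarith [eN', hN', eap']
  have hmsq : (0 : ℤ) < (m : ℤ) ^ 2 := pow_pos (by linarith) 2
  have h3 : (2 * (c : ℤ) - ((m : ℤ) ^ 2 + m)) * (m : ℤ) ^ 2 ≤ 0 := by nlinarith [h2S, hS']
  have h4 : 2 * (c : ℤ) - ((m : ℤ) ^ 2 + m) = 0 := by
    by_contra hne
    have hpos : 0 < 2 * (c : ℤ) - ((m : ℤ) ^ 2 + m) :=
      lt_of_le_of_ne (by linarith) (Ne.symm hne)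
    have h5 := mul_pos hpos hmsq
    linarith
  have h5 : 2 * (c : ℤ) = (m : ℤ) * (m + 1) := by linear_combination h4
  have h6 : (S : ℤ) = c * m ^ 2 := by
    have h7 : 2 * (S : ℤ) = 2 * (c * m ^ 2) := by linear_combination h2S - (m : ℤ) ^ 2 * h5
    linarith
  exact ⟨by exact_mod_cast h5, by exact_mod_cast h6⟩

end generic98

section classes98

variable {F : Type*} [Field F]

noncomputable def compG (t : F) (d : Fˣ) : (Matrix.GeneralLinearGroup (Fin 2) F) :=
  Matrix.GeneralLinearGroup.mkOfDetNeZero !![0, -(d : F); 1, t]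
    (by rw [Matrix.det_fin_two_of]; simp)

theorem compG_val (t : F) (d : Fˣ) :
    ((compG t d : (Matrix.GeneralLinearGroup (Fin 2) F)) : (Matrix (Fin 2) (Fin 2) F)) = !![0, -(d : F); 1, t] := rfl

theorem trace_conj12 (c a : (Matrix.GeneralLinearGroup (Fin 2) F)) :
    ((c * a * c⁻¹ : (Matrix.GeneralLinearGroup (Fin 2) F)) : (Matrix (Fin 2) (Fin 2) F)).trace = (a : (Matrix (Fin 2) (Fin 2) F)).trace := by
  rw [Units.val_mul, Units.val_mul, Matrix.trace_mul_comm, ← mul_assoc, ← Units.val_mul,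
    inv_mul_cancel, Units.val_one, one_mul]

theorem det_conj12' (c a : (Matrix.GeneralLinearGroup (Fin 2) F)) :
    ((c * a * c⁻¹ : (Matrix.GeneralLinearGroup (Fin 2) F)) : (Matrix (Fin 2) (Fin 2) F)).det = (a : (Matrix (Fin 2) (Fin 2) F)).det := by
  have h := det_conj12 c⁻¹ a
  rw [inv_inv] at h
  exact h

theorem compG_trace (t : F) (d : Fˣ) : ((compG t d : (Matrix.GeneralLinearGroup (Fin 2) F)) : (Matrix (Fin 2) (Fin 2) F)).trace = t := by
  rw [compG_val, Matrix.trace_fin_two_of, zero_add]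

theorem compG_det (t : F) (d : Fˣ) : ((compG t d : (Matrix.GeneralLinearGroup (Fin 2) F)) : (Matrix (Fin 2) (Fin 2) F)).det = (d : F) := by
  rw [compG_val, Matrix.det_fin_two_of]
  ring

noncomputable def classMap : (F × Fˣ) ⊕ Fˣ → ConjClasses (Matrix.GeneralLinearGroup (Fin 2) F)
  | Sum.inl p => ConjClasses.mk (compG p.1 p.2)
  | Sum.inr a => ConjClasses.mk (belG a a 0)

theorem comp_ne_scalar (t : F) (d a : Fˣ) (c : (Matrix.GeneralLinearGroup (Fin 2) F)) (h : c * compG t d * c⁻¹ = belG a a 0) :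
    False := by
  have hcen := S2305.dg_central (a : F) a.ne_zero c
  have hcen' : c * belG a a 0 = belG a a 0 * c := hcen
  have h1 : compG t d = c⁻¹ * belG a a 0 * c := by
    rw [← h]
    group
  rw [mul_assoc, ← hcen', inv_mul_cancel_left] at h1
  have h10 := congrArg (fun g : (Matrix.GeneralLinearGroup (Fin 2) F) => (g : (Matrix (Fin 2) (Fin 2) F)) 1 0) h1
  have h10' : (1 : F) = 0 := h10
  exact one_ne_zero h10'

theorem classMap_injective : Function.Injective (classMap (F := F)) := by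
  rintro (⟨t, d⟩ | a) (⟨t', d'⟩ | a') h
  · have h' : ConjClasses.mk (compG t d) = ConjClasses.mk (compG t' d') := h
    obtain ⟨c, hc'⟩ := isConj_iff.mp (ConjClasses.mk_eq_mk_iff_isConj.mp h')
    have h1 := trace_conj12 c (compG t d)
    have h2 := det_conj12' c (compG t d)
    rw [hc', compG_trace, compG_trace] at h1
    rw [hc', compG_det, compG_det] at h2
    rw [h1, Units.ext h2]
  · exfalso
    have h' : ConjClasses.mk (compG t d) = ConjClasses.mk (belG a' a' 0) := h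
    obtain ⟨c, hc'⟩ := isConj_iff.mp (ConjClasses.mk_eq_mk_iff_isConj.mp h')
    exact comp_ne_scalar t d a' c hc'
  · exfalso
    have h' : ConjClasses.mk (compG t' d') = ConjClasses.mk (belG a a 0) := h.symm
    obtain ⟨c, hc'⟩ := isConj_iff.mp (ConjClasses.mk_eq_mk_iff_isConj.mp h')
    exact comp_ne_scalar t' d' a c hc'
  · have h' : ConjClasses.mk (belG a a 0) = ConjClasses.mk (belG a' a' 0) := h
    obtain ⟨c, hc'⟩ := isConj_iff.mp (ConjClasses.mk_eq_mk_iff_isConj.mp h')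
    have hcen := S2305.dg_central (a : F) a.ne_zero c
    have hcen' : c * belG a a 0 = belG a a 0 * c := hcen
    rw [hcen', mul_inv_cancel_right] at hc'
    have h00 := congrArg (fun g : (Matrix.GeneralLinearGroup (Fin 2) F) => (g : (Matrix (Fin 2) (Fin 2) F)) 0 0) hc'
    have h00' : (a : F) = (a' : F) := h00
    rw [Units.ext h00']

theorem card_conjClasses_ge [Fintype F] [DecidableEq F] (m : ℕ) (hm : Fintype.card F = m + 1) :
    m * (m + 2) ≤ Nat.card (ConjClasses (Matrix.GeneralLinearGroup (Fin 2) F)) := by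
  have h := Nat.card_le_card_of_injective (classMap (F := F)) classMap_injective
  rw [Nat.card_sum, Nat.card_prod, Nat.card_eq_fintype_card (α := F),
    Nat.card_eq_fintype_card (α := Fˣ), Fintype.card_units, hm, Nat.add_sub_cancel] at h
  nlinarith [h]

theorem card_GL_nat [Fintype F] [DecidableEq F] (m : ℕ) (hm : Fintype.card F = m + 1) :
    Fintype.card (Matrix.GeneralLinearGroup (Fin 2) F) = m ^ 2 * (m + 1) * (m + 2) := by
  have h := S2308.card_GL_complex (F := F)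
  rw [hm] at h
  have h2 : (Fintype.card (Matrix.GeneralLinearGroup (Fin 2) F) : ℂ) = ((m ^ 2 * (m + 1) * (m + 2) : ℕ) : ℂ) := by
    rw [h]
    push_cast
    ring
  exact_mod_cast h2

end classes98

section count98

variable {F : Type*} [Field F]

theorem gl2_types_nat [Fintype F] [DecidableEq F] (St : (Cfsg.IrrCharacter (Matrix.GeneralLinearGroup (Fin 2) F)))
    (hSt : RG (1 : MulChar F ℂ) 1 = (fun _ => (1 : ℂ)) + (St : (Matrix.GeneralLinearGroup (Fin 2) F) → ℂ)) (m : ℕ)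
    (hm : Fintype.card F = m + 1) (χ : (Cfsg.IrrCharacter (Matrix.GeneralLinearGroup (Fin 2) F))) (n : ℕ) (hn : (χ : (Matrix.GeneralLinearGroup (Fin 2) F) → ℂ) 1 = n) :
    (1 ≤ n ∧ m ∣ n ∧ n ^ 2 * ((m + 1) * m ^ 2 + 1) ≤ (m + 1) * m ^ 4 * (m + 2)) ∨
    (n = m + 2 ∧ ∃ α β : MulChar F ℂ, α ≠ β ∧ (χ : (Matrix.GeneralLinearGroup (Fin 2) F) → ℂ) = RG α β) ∨
    (n = 1 ∧ ∃ α : MulChar F ℂ, (χ : (Matrix.GeneralLinearGroup (Fin 2) F) → ℂ) = detChar α) ∨
    (n = m + 1 ∧ ∃ α : MulChar F ℂ, (χ : (Matrix.GeneralLinearGroup (Fin 2) F) → ℂ) = detChar α * (St : (Matrix.GeneralLinearGroup (Fin 2) F) → ℂ)) := by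
  have hQ : (Fintype.card F : ℂ) = (m : ℂ) + 1 := by
    rw [hm]
    push_cast
    ring
  have hone : ((1 : (Matrix.GeneralLinearGroup (Fin 2) F)) : (Matrix (Fin 2) (Fin 2) F)) = (1 : F) • (1 : (Matrix (Fin 2) (Fin 2) F)) := (one_smul _ _).symm
  rcases gl2_dichotomy St hSt χ with hc | ⟨α, β, hαβ, h⟩ | ⟨α, h⟩ | ⟨α, h⟩
  · left
    obtain ⟨-, hdvd, hineq⟩ := cusp_main χ hc m n hm hn
    refine ⟨?_, hdvd, hineq⟩
    rcases Nat.eq_zero_or_pos n with h0 | h0
    · exfalso
      rw [h0, Nat.cast_zero] at hn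
      exact Helper5.irr_one_ne_zero χ hn
    · exact h0
  · right
    left
    refine ⟨?_, α, β, hαβ, h⟩
    have e : (n : ℂ) = (m : ℂ) + 2 := by
      rw [← hn, h, RG_one, hQ]
      ring
    exact_mod_cast e
  · right
    right
    left
    refine ⟨?_, α, h⟩
    have e : (n : ℂ) = 1 := by
      rw [← hn, h, detChar_one]
    exact_mod_cast e
  · right
    right
    right
    refine ⟨?_, α, h⟩
    have e : (n : ℂ) = (m : ℂ) + 1 := by
      rw [← hn, h]
      show detChar α 1 * (St : (Matrix.GeneralLinearGroup (Fin 2) F) → ℂ) 1 = (m : ℂ) + 1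
      rw [detChar_one, St_val St hSt, S2308.indFun1_scalar 1 1 hone, hQ]
      ring
    exact_mod_cast e

theorem detChar_belG (α : MulChar F ℂ) (a b : Fˣ) (c : F) :
    detChar α (belG a b c) = α (a : F) * α (b : F) := by
  show α (Matrix.det !![(a : F), c; 0, (b : F)]) = _
  rw [Matrix.det_fin_two_of, mul_zero, sub_zero, map_mul]

theorem detChar_injective : Function.Injective (detChar (F := F)) := by
  intro α α' h
  apply MulChar.ext
  intro a
  have h1 := congrFun h (belG a 1 0)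
  rw [detChar_belG, detChar_belG, Units.val_one, map_one, map_one, mul_one, mul_one] at h1
  exact h1

theorem detChar_St_injective [Fintype F] [DecidableEq F] (St : (Cfsg.IrrCharacter (Matrix.GeneralLinearGroup (Fin 2) F)))
    (hSt : RG (1 : MulChar F ℂ) 1 = (fun _ => (1 : ℂ)) + (St : (Matrix.GeneralLinearGroup (Fin 2) F) → ℂ)) :
    Function.Injective (fun α : MulChar F ℂ => detChar α * (St : (Matrix.GeneralLinearGroup (Fin 2) F) → ℂ)) := by
  intro α α' h
  apply MulChar.ext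
  intro a
  by_cases ha : a = 1
  · rw [ha, Units.val_one, map_one, map_one]
  · have h1 := congrFun h (belG a 1 0)
    have hne : ((belG a 1 0 : (Matrix.GeneralLinearGroup (Fin 2) F)) : (Matrix (Fin 2) (Fin 2) F)) 0 0 ≠ ((belG a 1 0 : (Matrix.GeneralLinearGroup (Fin 2) F)) : (Matrix (Fin 2) (Fin 2) F)) 1 1 :=
      fun h' => ha (Units.ext (show (a : F) = ((1 : Fˣ) : F) from h'))
    have hSt1 : (St : (Matrix.GeneralLinearGroup (Fin 2) F) → ℂ) (belG a 1 0) = 1 := by
      rw [St_val St hSt, S2308.indFun1_diag (belG a 1 0) rfl rfl hne]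
      norm_num
    have h2 : detChar α (belG a 1 0) * (St : (Matrix.GeneralLinearGroup (Fin 2) F) → ℂ) (belG a 1 0) =
        detChar α' (belG a 1 0) * (St : (Matrix.GeneralLinearGroup (Fin 2) F) → ℂ) (belG a 1 0) := h1
    rw [hSt1, mul_one, mul_one, detChar_belG, detChar_belG, Units.val_one, map_one, map_one,
      mul_one, mul_one] at h2
    exact h2

theorem RG_comm [Fintype F] [DecidableEq F] (α β : MulChar F ℂ) : RG α β = RG β α :=
  (S2305.result α β β α).mpr (Or.inr ⟨rfl, rfl⟩)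

noncomputable def PhiG [Fintype F] [DecidableEq F] : Sym2 (MulChar F ℂ) → (Matrix.GeneralLinearGroup (Fin 2) F) → ℂ :=
  Sym2.lift ⟨fun α β => RG α β, fun α β => RG_comm α β⟩

theorem PhiG_mk [Fintype F] [DecidableEq F] (α β : MulChar F ℂ) : PhiG s(α, β) = RG α β := rfl

theorem PhiG_injective [Fintype F] [DecidableEq F] : Function.Injective (PhiG (F := F)) := by
  intro a b
  refine Sym2.inductionOn₂ a b (fun α β α' β' h => ?_)
  rw [PhiG_mk, PhiG_mk] at h
  exact Sym2.eq_iff.mpr ((S2305.result α β α' β').mp h)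

theorem gl2_count [Fintype F] [DecidableEq F] (m : ℕ) (hm : Fintype.card F = m + 1) (hm2 : 2 ≤ m)
    (deg : (Cfsg.IrrCharacter (Matrix.GeneralLinearGroup (Fin 2) F)) → ℕ) (hdeg : ∀ χ : (Cfsg.IrrCharacter (Matrix.GeneralLinearGroup (Fin 2) F)), (χ : (Matrix.GeneralLinearGroup (Fin 2) F) → ℂ) 1 = (deg χ : ℂ)) :
    (∀ χ : (Cfsg.IrrCharacter (Matrix.GeneralLinearGroup (Fin 2) F)), deg χ = 1 ∨ deg χ = m ∨ deg χ = m + 1 ∨ deg χ = m + 2) ∧
    Nat.card {χ : (Cfsg.IrrCharacter (Matrix.GeneralLinearGroup (Fin 2) F)) // deg χ = 1} = m ∧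
    Nat.card {χ : (Cfsg.IrrCharacter (Matrix.GeneralLinearGroup (Fin 2) F)) // deg χ = m + 1} = m ∧
    Nat.card {χ : (Cfsg.IrrCharacter (Matrix.GeneralLinearGroup (Fin 2) F)) // deg χ = m + 2} = m.choose 2 ∧
    2 * Nat.card {χ : (Cfsg.IrrCharacter (Matrix.GeneralLinearGroup (Fin 2) F)) // deg χ = m} = m * (m + 1) := by
  classical
  obtain ⟨St, hSt⟩ := exists_St (F := F)
  have hQ : (Fintype.card F : ℂ) = (m : ℂ) + 1 := by
    rw [hm]
    push_cast
    ring
  have hone : ((1 : (Matrix.GeneralLinearGroup (Fin 2) F)) : (Matrix (Fin 2) (Fin 2) F)) = (1 : F) • (1 : (Matrix (Fin 2) (Fin 2) F)) := (one_smul _ _).symm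
  have : Fintype (MulChar F ℂ) := Fintype.ofFinite _
  have hcardM : Nat.card (MulChar F ℂ) = m := by
    have : NeZero (Monoid.exponent Fˣ) := ⟨Monoid.exponent_ne_zero_of_finite⟩
    rw [MulChar.card_eq_card_units_of_hasEnoughRootsOfUnity F ℂ, Nat.card_eq_fintype_card,
      Fintype.card_units, hm, Nat.add_sub_cancel]
  have htype := fun χ : (Cfsg.IrrCharacter (Matrix.GeneralLinearGroup (Fin 2) F)) => gl2_types_nat St hSt m hm χ (deg χ) (hdeg χ)
  have hT1 : ∀ χ : (Cfsg.IrrCharacter (Matrix.GeneralLinearGroup (Fin 2) F)), deg χ = 1 → ∃ α : MulChar F ℂ, (χ : (Matrix.GeneralLinearGroup (Fin 2) F) → ℂ) = detChar α := by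
    intro χ h1
    rcases htype χ with ⟨-, hdvd, -⟩ | ⟨h, -⟩ | ⟨-, h⟩ | ⟨h, -⟩
    · exfalso
      rw [h1] at hdvd
      have h2 := Nat.le_of_dvd (by norm_num) hdvd
      omega
    · exfalso
      omega
    · exact h
    · exfalso
      omega
  have hT2 : ∀ χ : (Cfsg.IrrCharacter (Matrix.GeneralLinearGroup (Fin 2) F)), deg χ = m + 1 →
      ∃ α : MulChar F ℂ, (χ : (Matrix.GeneralLinearGroup (Fin 2) F) → ℂ) = detChar α * (St : (Matrix.GeneralLinearGroup (Fin 2) F) → ℂ) := by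
    intro χ h1
    rcases htype χ with ⟨-, hdvd, -⟩ | ⟨h, -⟩ | ⟨h, -⟩ | ⟨-, h⟩
    · exfalso
      rw [h1] at hdvd
      have h2 : m ∣ 1 := (Nat.dvd_add_right (dvd_refl m)).mp hdvd
      have h3 := Nat.le_of_dvd (by norm_num) h2
      omega
    · exfalso
      omega
    · exfalso
      omega
    · exact h
  have hT3 : ∀ χ : (Cfsg.IrrCharacter (Matrix.GeneralLinearGroup (Fin 2) F)), deg χ = m + 2 →
      ∃ α β : MulChar F ℂ, α ≠ β ∧ (χ : (Matrix.GeneralLinearGroup (Fin 2) F) → ℂ) = RG α β := by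
    intro χ h1
    rcases htype χ with ⟨-, hdvd, hineq⟩ | ⟨-, h⟩ | ⟨h, -⟩ | ⟨h, -⟩
    · exfalso
      rw [h1] at hdvd hineq
      have h2 : m ∣ 2 := (Nat.dvd_add_right (dvd_refl m)).mp hdvd
      have h3 : m ≤ 2 := Nat.le_of_dvd (by norm_num) h2
      have h4 : m = 2 := by omega
      rw [h4] at hineq
      norm_num at hineq
    · exact h
    · exfalso
      omega
    · exfalso
      omega
  have hT4 : ∀ χ : (Cfsg.IrrCharacter (Matrix.GeneralLinearGroup (Fin 2) F)), deg χ ≠ 1 → deg χ ≠ m + 1 → deg χ ≠ m + 2 → m ≤ deg χ := by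
    intro χ h1 h2 h3
    rcases htype χ with ⟨hpos, hdvd, -⟩ | ⟨h, -⟩ | ⟨h, -⟩ | ⟨h, -⟩
    · exact Nat.le_of_dvd hpos hdvd
    · exact absurd h h3
    · exact absurd h h1
    · exact absurd h h2
  have hdegL : ∀ α : MulChar F ℂ, deg ⟨detChar α, detChar_irr α⟩ = 1 := by
    intro α
    have e : ((deg ⟨detChar α, detChar_irr α⟩ : ℕ) : ℂ) = 1 := by
      rw [← hdeg]
      exact detChar_one α
    exact_mod_cast e
  have hstirr : ∀ α : MulChar F ℂ, Cfsg.IsIrrCharacter (Matrix.GeneralLinearGroup (Fin 2) F) (detChar α * (St : (Matrix.GeneralLinearGroup (Fin 2) F) → ℂ)) :=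
    fun α => linear_mul_irr12 _ _ (detChar_irr α) (detChar_one α) St.2
  have hdegS : ∀ α : MulChar F ℂ, deg ⟨detChar α * (St : (Matrix.GeneralLinearGroup (Fin 2) F) → ℂ), hstirr α⟩ = m + 1 := by
    intro α
    have e : ((deg ⟨detChar α * (St : (Matrix.GeneralLinearGroup (Fin 2) F) → ℂ), hstirr α⟩ : ℕ) : ℂ) = (m : ℂ) + 1 := by
      rw [← hdeg]
      show detChar α 1 * (St : (Matrix.GeneralLinearGroup (Fin 2) F) → ℂ) 1 = (m : ℂ) + 1
      rw [detChar_one, St_val St hSt, S2308.indFun1_scalar 1 1 hone, hQ]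
      ring
    exact_mod_cast e
  have hPirr : ∀ a : Sym2 (MulChar F ℂ), ¬ a.IsDiag → Cfsg.IsIrrCharacter (Matrix.GeneralLinearGroup (Fin 2) F) (PhiG a) := by
    intro a
    refine Sym2.inductionOn a (fun α β hnd => ?_)
    have hαβ : α ≠ β := fun h => hnd (Sym2.mk_isDiag_iff.mpr h)
    rw [PhiG_mk]
    exact Helper24.isIrrCharacter_of_inner_self
      (Helper24.isCharacter_induced _ _ (S2304.th_isCharacter α β)) (S2304.classInner_RG α β hαβ)
  have hPone : ∀ a : Sym2 (MulChar F ℂ), PhiG a 1 = (m : ℂ) + 2 := by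
    intro a
    refine Sym2.inductionOn a (fun α β => ?_)
    rw [PhiG_mk, RG_one, hQ]
    ring
  have hdegP : ∀ (a : Sym2 (MulChar F ℂ)) (ha : ¬ a.IsDiag), deg ⟨PhiG a, hPirr a ha⟩ = m + 2 := by
    intro a ha
    have e : ((deg ⟨PhiG a, hPirr a ha⟩ : ℕ) : ℂ) = (m : ℂ) + 2 := by
      rw [← hdeg]
      exact hPone a
    exact_mod_cast e
  have hc1 : Nat.card {χ : (Cfsg.IrrCharacter (Matrix.GeneralLinearGroup (Fin 2) F)) // deg χ = 1} = m := by
    refine (Nat.card_eq_of_bijective (fun α : MulChar F ℂ =>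
      (⟨⟨detChar α, detChar_irr α⟩, hdegL α⟩ : {χ : (Cfsg.IrrCharacter (Matrix.GeneralLinearGroup (Fin 2) F)) // deg χ = 1})) ⟨?_, ?_⟩).symm.trans hcardM
    · intro α α' h
      have h1 := congrArg (fun x : {χ : (Cfsg.IrrCharacter (Matrix.GeneralLinearGroup (Fin 2) F)) // deg χ = 1} => ((x : (Cfsg.IrrCharacter (Matrix.GeneralLinearGroup (Fin 2) F))) : (Matrix.GeneralLinearGroup (Fin 2) F) → ℂ)) h
      exact detChar_injective h1
    · rintro ⟨χ, hχ⟩
      obtain ⟨α, hα⟩ := hT1 χ hχ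
      exact ⟨α, Subtype.ext (Subtype.ext hα.symm)⟩
  have hc2 : Nat.card {χ : (Cfsg.IrrCharacter (Matrix.GeneralLinearGroup (Fin 2) F)) // deg χ = m + 1} = m := by
    refine (Nat.card_eq_of_bijective (fun α : MulChar F ℂ =>
      (⟨⟨detChar α * (St : (Matrix.GeneralLinearGroup (Fin 2) F) → ℂ), hstirr α⟩, hdegS α⟩ : {χ : (Cfsg.IrrCharacter (Matrix.GeneralLinearGroup (Fin 2) F)) // deg χ = m + 1}))
      ⟨?_, ?_⟩).symm.trans hcardM
    · intro α α' h
      have h1 := congrArg (fun x : {χ : (Cfsg.IrrCharacter (Matrix.GeneralLinearGroup (Fin 2) F)) // deg χ = m + 1} => ((x : (Cfsg.IrrCharacter (Matrix.GeneralLinearGroup (Fin 2) F))) : (Matrix.GeneralLinearGroup (Fin 2) F) → ℂ)) h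
      exact detChar_St_injective St hSt h1
    · rintro ⟨χ, hχ⟩
      obtain ⟨α, hα⟩ := hT2 χ hχ
      exact ⟨α, Subtype.ext (Subtype.ext hα.symm)⟩
  have hc3 : Nat.card {χ : (Cfsg.IrrCharacter (Matrix.GeneralLinearGroup (Fin 2) F)) // deg χ = m + 2} = m.choose 2 := by
    have hS2 := Sym2.card_subtype_not_diag (α := MulChar F ℂ)
    rw [← Nat.card_eq_fintype_card, ← Nat.card_eq_fintype_card, hcardM] at hS2
    refine (Nat.card_eq_of_bijective (fun a : {a : Sym2 (MulChar F ℂ) // ¬ a.IsDiag} =>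
      (⟨⟨PhiG a.1, hPirr a.1 a.2⟩, hdegP a.1 a.2⟩ : {χ : (Cfsg.IrrCharacter (Matrix.GeneralLinearGroup (Fin 2) F)) // deg χ = m + 2}))
      ⟨?_, ?_⟩).symm.trans hS2
    · intro a a' h
      have h1 := congrArg (fun x : {χ : (Cfsg.IrrCharacter (Matrix.GeneralLinearGroup (Fin 2) F)) // deg χ = m + 2} => ((x : (Cfsg.IrrCharacter (Matrix.GeneralLinearGroup (Fin 2) F))) : (Matrix.GeneralLinearGroup (Fin 2) F) → ℂ)) h
      exact Subtype.ext (PhiG_injective h1)
    · rintro ⟨χ, hχ⟩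
      obtain ⟨α, β, hαβ, hα⟩ := hT3 χ hχ
      exact ⟨⟨s(α, β), fun hd => hαβ (Sym2.mk_isDiag_iff.mp hd)⟩,
        Subtype.ext (Subtype.ext hα.symm)⟩
  have card_filter : ∀ k : ℕ, Nat.card {χ : (Cfsg.IrrCharacter (Matrix.GeneralLinearGroup (Fin 2) F)) // deg χ = k} =
      (Finset.univ.filter (fun χ : (Cfsg.IrrCharacter (Matrix.GeneralLinearGroup (Fin 2) F)) => deg χ = k)).card := by
    intro k
    rw [Nat.card_eq_fintype_card]
    exact Fintype.card_of_subtype _ (fun χ => by simp)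
  have h1ne : (1 : ℕ) ≠ m + 1 := by omega
  have h2ne : (1 : ℕ) ≠ m + 2 := by omega
  have h3ne : m + 1 ≠ m + 2 := by omega
  have hsplit := sum_four_split deg 1 (m + 1) (m + 2) h1ne h2ne h3ne
  obtain ⟨C, hC⟩ : ∃ C : Finset (Cfsg.IrrCharacter (Matrix.GeneralLinearGroup (Fin 2) F)), C = Finset.univ.filter
      (fun χ : (Cfsg.IrrCharacter (Matrix.GeneralLinearGroup (Fin 2) F)) => deg χ ≠ 1 ∧ deg χ ≠ m + 1 ∧ deg χ ≠ m + 2) := ⟨_, rfl⟩
  have eN : Fintype.card (Cfsg.IrrCharacter (Matrix.GeneralLinearGroup (Fin 2) F)) = m + m + m.choose 2 + C.card := by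
    have h := hsplit (fun _ => 1)
    simp only [Finset.sum_const, smul_eq_mul, mul_one, Finset.card_univ] at h
    rw [← card_filter, ← card_filter, ← card_filter, hc1, hc2, hc3, ← hC] at h
    exact h
  have sum_filter_sq : ∀ k : ℕ, ∑ χ ∈ Finset.univ.filter (fun χ : (Cfsg.IrrCharacter (Matrix.GeneralLinearGroup (Fin 2) F)) => deg χ = k), deg χ ^ 2 =
      Nat.card {χ : (Cfsg.IrrCharacter (Matrix.GeneralLinearGroup (Fin 2) F)) // deg χ = k} * k ^ 2 := by
    intro k
    have h1 : ∀ χ ∈ Finset.univ.filter (fun χ : (Cfsg.IrrCharacter (Matrix.GeneralLinearGroup (Fin 2) F)) => deg χ = k), deg χ ^ 2 = k ^ 2 := by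
      intro χ hχ
      rw [(Finset.mem_filter.mp hχ).2]
    rw [Finset.sum_congr rfl h1, Finset.sum_const, smul_eq_mul, card_filter]
  have hs : ∑ χ : (Cfsg.IrrCharacter (Matrix.GeneralLinearGroup (Fin 2) F)), deg χ ^ 2 = m ^ 2 * (m + 1) * (m + 2) := by
    have h1 := Helper24.sum_irr_one_sq (G := (Matrix.GeneralLinearGroup (Fin 2) F))
    rw [Nat.card_eq_fintype_card, card_GL_nat m hm] at h1
    have h2 : (∑ χ : (Cfsg.IrrCharacter (Matrix.GeneralLinearGroup (Fin 2) F)), ((deg χ ^ 2 : ℕ) : ℂ)) = ((m ^ 2 * (m + 1) * (m + 2) : ℕ) : ℂ) := by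
      rw [← h1]
      refine Finset.sum_congr rfl (fun χ _ => ?_)
      rw [hdeg χ]
      push_cast
      ring
    exact_mod_cast h2
  have eG : m ^ 2 * (m + 1) * (m + 2) =
      m * 1 ^ 2 + m * (m + 1) ^ 2 + m.choose 2 * (m + 2) ^ 2 + ∑ χ ∈ C, deg χ ^ 2 := by
    have h := hsplit (fun χ => deg χ ^ 2)
    beta_reduce at h
    rw [hs, sum_filter_sq, sum_filter_sq, sum_filter_sq, hc1, hc2, hc3, ← hC] at h
    exact h
  have hN : m * (m + 2) ≤ Fintype.card (Cfsg.IrrCharacter (Matrix.GeneralLinearGroup (Fin 2) F)) := by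
    have h1 := card_conjClasses_ge (F := F) m hm
    rw [← Helper24.card_irr_eq_card_conjClasses, Nat.card_eq_fintype_card] at h1
    exact h1
  have hle : ∀ χ ∈ C, m ^ 2 ≤ deg χ ^ 2 := by
    intro χ hχ
    rw [hC] at hχ
    obtain ⟨-, h1, h2, h3⟩ := Finset.mem_filter.mp hχ
    exact Nat.pow_le_pow_left (hT4 χ h1 h2 h3) 2
  have e : ∑ _χ ∈ C, m ^ 2 = C.card * m ^ 2 := by rw [Finset.sum_const, smul_eq_mul]
  have hS : C.card * m ^ 2 ≤ ∑ χ ∈ C, deg χ ^ 2 := by
    rw [← e]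
    exact Finset.sum_le_sum hle
  obtain ⟨h2c, hSeq⟩ := arith_core98 m (Fintype.card (Cfsg.IrrCharacter (Matrix.GeneralLinearGroup (Fin 2) F))) (m.choose 2) C.card
    (∑ χ ∈ C, deg χ ^ 2) (by omega) eN hN (two_choose_two m) eG hS
  have hCdeg : ∀ χ ∈ C, deg χ = m := by
    have heq : ∑ _χ ∈ C, m ^ 2 = ∑ χ ∈ C, deg χ ^ 2 := by rw [e, hSeq]
    intro χ hχ
    have h1 := (Finset.sum_eq_sum_iff_of_le hle).mp heq χ hχ
    have hχ' := hχ
    rw [hC] at hχ'
    obtain ⟨-, g1, g2, g3⟩ := Finset.mem_filter.mp hχ'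
    have h2 : m ≤ deg χ := hT4 χ g1 g2 g3
    rcases Nat.lt_or_ge m (deg χ) with h3 | h3
    · have h4 := Nat.pow_lt_pow_left h3 (by norm_num : 2 ≠ 0)
      omega
    · omega
  have hall : ∀ χ : (Cfsg.IrrCharacter (Matrix.GeneralLinearGroup (Fin 2) F)), deg χ = 1 ∨ deg χ = m ∨ deg χ = m + 1 ∨ deg χ = m + 2 := by
    intro χ
    by_cases h1 : deg χ = 1
    · exact Or.inl h1
    by_cases h2 : deg χ = m + 1
    · exact Or.inr (Or.inr (Or.inl h2))
    by_cases h3 : deg χ = m + 2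
    · exact Or.inr (Or.inr (Or.inr h3))
    have hmem : χ ∈ C := by
      rw [hC]
      exact Finset.mem_filter.mpr ⟨Finset.mem_univ _, h1, h2, h3⟩
    exact Or.inr (Or.inl (hCdeg χ hmem))
  have hc4 : Nat.card {χ : (Cfsg.IrrCharacter (Matrix.GeneralLinearGroup (Fin 2) F)) // deg χ = m} = C.card := by
    rw [card_filter]
    congr 1
    ext χ
    constructor
    · intro h
      have h' : deg χ = m := (Finset.mem_filter.mp h).2
      rw [hC]
      exact Finset.mem_filter.mpr ⟨Finset.mem_univ _, by omega, by omega, by omega⟩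
    · intro h
      exact Finset.mem_filter.mpr ⟨Finset.mem_univ _, hCdeg χ h⟩
  refine ⟨hall, hc1, hc2, hc3, ?_⟩
  rw [hc4]
  exact h2c

end count98

/-- Over a finite field F with q elements, every irreducible complex character of GL₂ has degree 1, q − 1, q or q + 1; and when q ≥ 3 (so that these four numbers are distinct) there are exactly q − 1 irreducible characters of degree 1, exactly q − 1 of degree q, exactly (q − 1)(q − 2)/2 of degree q + 1 and exactly q(q − 1)/2 of degree q − 1. -/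
theorem result {F : Type*} [Field F] [Fintype F] :
    (∀ χ : Matrix.GeneralLinearGroup (Fin 2) F → ℂ, Cfsg.IsIrrCharacter (Matrix.GeneralLinearGroup (Fin 2) F) χ →
      χ 1 = 1 ∨ χ 1 = (Fintype.card F : ℂ) - 1 ∨ χ 1 = (Fintype.card F : ℂ) ∨ χ 1 = (Fintype.card F : ℂ) + 1) ∧
    (3 ≤ Fintype.card F →
      Nat.card {χ : Cfsg.IrrCharacter (Matrix.GeneralLinearGroup (Fin 2) F) // (χ : Matrix.GeneralLinearGroup (Fin 2) F → ℂ) 1 = 1} = Fintype.card F - 1 ∧
      Nat.card {χ : Cfsg.IrrCharacter (Matrix.GeneralLinearGroup (Fin 2) F) // (χ : Matrix.GeneralLinearGroup (Fin 2) F → ℂ) 1 = (Fintype.card F : ℂ)} = Fintype.card F - 1 ∧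
      Nat.card {χ : Cfsg.IrrCharacter (Matrix.GeneralLinearGroup (Fin 2) F) // (χ : Matrix.GeneralLinearGroup (Fin 2) F → ℂ) 1 = (Fintype.card F : ℂ) + 1} = (Fintype.card F - 1) * (Fintype.card F - 2) / 2 ∧
      Nat.card {χ : Cfsg.IrrCharacter (Matrix.GeneralLinearGroup (Fin 2) F) // (χ : Matrix.GeneralLinearGroup (Fin 2) F → ℂ) 1 = (Fintype.card F : ℂ) - 1} = Fintype.card F * (Fintype.card F - 1) / 2) := by
  classical
  obtain ⟨m, hm⟩ : ∃ m, Fintype.card F = m + 1 :=
    Nat.exists_eq_succ_of_ne_zero Fintype.card_ne_zero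
  have hm1 : 1 ≤ m := by
    have := Fintype.one_lt_card (α := F)
    omega
  have hQ : (Fintype.card F : ℂ) = (m : ℂ) + 1 := by
    rw [hm]
    push_cast
    ring
  choose deg hdeg using fun χ : (Cfsg.IrrCharacter (Matrix.GeneralLinearGroup (Fin 2) F)) => Helper24.irr_one_eq_natCast χ
  have hiff : ∀ (χ : (Cfsg.IrrCharacter (Matrix.GeneralLinearGroup (Fin 2) F))) (k : ℕ) (c : ℂ), c = (k : ℂ) →
      ((χ : (Matrix.GeneralLinearGroup (Fin 2) F) → ℂ) 1 = c ↔ deg χ = k) := by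
    intro χ k c hc
    rw [hdeg χ, hc]
    exact Nat.cast_inj
  constructor
  · intro χ hχ
    by_cases hm2 : 2 ≤ m
    · obtain ⟨hall, -⟩ := gl2_count m hm hm2 deg hdeg
      have h := hall ⟨χ, hχ⟩
      have hd' : χ 1 = (deg ⟨χ, hχ⟩ : ℂ) := hdeg ⟨χ, hχ⟩
      rw [hd', hQ]
      rcases h with h | h | h | h
      · left
        rw [h]
        norm_num
      · right
        left
        rw [h]
        ring
      · right
        right
        left
        rw [h]
        first | (push_cast; ring) | push_cast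
      · right
        right
        right
        rw [h]
        first | (push_cast; ring) | push_cast
    · have hm' : m = 1 := by omega
      subst hm'
      rcases gl2_classify χ hχ 1 hm with ⟨n, hn, hdvd, hineq, hval, hsplit⟩ | ⟨h1, hval, hell⟩ |
        ⟨h1, hval, hnorm⟩ | ⟨h1, hval, hsp, hell⟩
      · left
        have hn0 : n ≠ 0 := by
          rintro rfl
          rw [Nat.cast_zero] at hn
          exact Helper5.irr_one_ne_zero ⟨χ, hχ⟩ hn
        have hn1 : n ≤ 1 := by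
          by_contra hcon
          have h2 : 2 ≤ n := by omega
          have h4 : 4 ≤ n ^ 2 := by nlinarith
          norm_num at hineq
          omega
        have hn' : n = 1 := by omega
        rw [hn, hn']
        norm_num
      · right
        right
        right
        rw [h1, hQ]
        norm_num
      · left
        exact h1
      · right
        right
        left
        rw [h1, hQ]
  · intro h3
    have hm2 : 2 ≤ m := by omega
    obtain ⟨-, hc1, hc2, hc3, hc4⟩ := gl2_count m hm hm2 deg hdeg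
    have e1 : Fintype.card F - 1 = m := by omega
    have e2 : Fintype.card F - 2 = m - 1 := by omega
    refine ⟨?_, ?_, ?_, ?_⟩
    · rw [e1]
      exact (Nat.card_congr (Equiv.subtypeEquivRight
        (fun χ => hiff χ 1 1 (by norm_num)))).trans hc1
    · rw [e1]
      exact (Nat.card_congr (Equiv.subtypeEquivRight
        (fun χ => hiff χ (m + 1) _ (by rw [hm])))).trans hc2
    · rw [e1, e2, ← Nat.choose_two_right]
      exact (Nat.card_congr (Equiv.subtypeEquivRight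
        (fun χ => hiff χ (m + 2) _ (by rw [hm]; first | (push_cast; ring) | push_cast)))).trans hc3
    · rw [e1, hm]
      have e3 : (m + 1) * m = 2 * Nat.card {χ : (Cfsg.IrrCharacter (Matrix.GeneralLinearGroup (Fin 2) F)) // deg χ = m} := by
        rw [hc4]
        ring
      rw [e3, Nat.mul_div_cancel_left _ (by norm_num : 0 < 2)]
      exact Nat.card_congr (Equiv.subtypeEquivRight
        (fun χ => hiff χ m _ (by first | (push_cast; ring) | push_cast | (rw [hm]; push_cast; ring) | (rw [hm]; push_cast))))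

end Cfsg.Agent.S2298
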