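import Cfsg.Statements.S2352
-- import your own Cfsg.Agent.* helpers here

set_option autoImplicit false
open Cfsg

namespace Cfsg.Agent.S2352

theorem exists_perm_of_rel {α : Type*} [Finite α] (R : α → α → Prop)
    (h1 : ∀ a b b', R a b → R a b' → b = b') (h2 : ∀ a a' b, R a b → R a' b → a = a') :
    ∃ σ : Equiv.Perm α, ∀ a b, R a b → σ a = b := by
  classical
  let p : α → Prop := fun a => ∃ b, R a b
  let q : α → Prop := fun b => ∃ a, R a b
  let f : {a // p a} → {b // q b} := fun a => ⟨a.2.choose, ⟨a.1, a.2.choose_spec⟩⟩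
  have hf : Function.Bijective f := by
    constructor
    · intro a a' h
      have h' : a.2.choose = a'.2.choose := congrArg Subtype.val h
      apply Subtype.ext
      apply h2 a.1 a'.1 a.2.choose a.2.choose_spec
      rw [h']; exact a'.2.choose_spec
    · rintro ⟨b, a, hab⟩
      refine ⟨⟨a, b, hab⟩, ?_⟩
      apply Subtype.ext
      exact h1 a _ _ (Exists.choose_spec (⟨b, hab⟩ : p a)) hab
  refine ⟨(Equiv.ofBijective f hf).extendSubtype, ?_⟩
  intro a b hab
  rw [Equiv.extendSubtype_apply_of_mem _ a ⟨b, hab⟩]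
  exact h1 a _ _ (Exists.choose_spec (⟨b, hab⟩ : p a)) hab

/-- the partial injection attached to the generator `x` by the word `L` -/
def rel (L : List (ℕ × Bool)) (x : ℕ) (a b : Fin (L.length + 1)) : Prop :=
  ∃ (j : ℕ) (_ : j < L.length), (L[j]? = some (x, true) ∧ a.val = j + 1 ∧ b.val = j) ∨
    (L[j]? = some (x, false) ∧ a.val = j ∧ b.val = j + 1)

theorem red_adj (L : List (ℕ × Bool)) (hL : FreeGroup.IsReduced L) (j : ℕ) (hj : j + 1 < L.length)
    (x : ℕ) (b b' : Bool) (h1 : L[j]? = some (x, b)) (h2 : L[j+1]? = some (x, b')) : b = b' := by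
  have := List.IsChain.getElem hL j hj
  rw [List.getElem?_eq_getElem (by omega)] at h1 h2
  have h1' := Option.some.inj h1
  have h2' := Option.some.inj h2
  rw [h1', h2'] at this
  exact this rfl

theorem rel_fun (L : List (ℕ × Bool)) (hL : FreeGroup.IsReduced L) (x : ℕ)
    (a b b' : Fin (L.length + 1)) (h : rel L x a b) (h' : rel L x a b') : b = b' := by
  obtain ⟨j, hj, h⟩ := h
  obtain ⟨j', hj', h'⟩ := h'
  apply Fin.ext
  rcases h with ⟨e1, e2, e3⟩ | ⟨e1, e2, e3⟩ <;> rcases h' with ⟨e1', e2', e3'⟩ | ⟨e1', e2', e3'⟩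
  · omega
  · exfalso
    have hjj : j' = j + 1 := by omega
    subst hjj
    exact absurd (red_adj L hL j hj' x true false e1 e1') (by simp)
  · exfalso
    have hjj : j = j' + 1 := by omega
    subst hjj
    exact absurd (red_adj L hL j' hj x true false e1' e1) (by simp)
  · omega

theorem rel_inj (L : List (ℕ × Bool)) (hL : FreeGroup.IsReduced L) (x : ℕ)
    (a a' b : Fin (L.length + 1)) (h : rel L x a b) (h' : rel L x a' b) : a = a' := by
  obtain ⟨j, hj, h⟩ := h
  obtain ⟨j', hj', h'⟩ := h'
  apply Fin.ext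
  rcases h with ⟨e1, e2, e3⟩ | ⟨e1, e2, e3⟩ <;> rcases h' with ⟨e1', e2', e3'⟩ | ⟨e1', e2', e3'⟩
  · omega
  · exfalso
    have hjj : j = j' + 1 := by omega
    subst hjj
    exact absurd (red_adj L hL j' hj x false true e1' e1) (by simp)
  · exfalso
    have hjj : j' = j + 1 := by omega
    subst hjj
    exact absurd (red_adj L hL j hj' x false true e1 e1') (by simp)
  · omega

theorem exists_perm_path (L : List (ℕ × Bool)) (hL : FreeGroup.IsReduced L) :
    ∃ f : ℕ → Equiv.Perm (Fin (L.length + 1)),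
      (L.map fun x => cond x.2 (f x.1) (f x.1)⁻¹).prod (Fin.last _) = 0 := by
  have hex : ∀ x : ℕ, ∃ σ : Equiv.Perm (Fin (L.length + 1)), ∀ a b, rel L x a b → σ a = b :=
    fun x => exists_perm_of_rel (rel L x) (rel_fun L hL x) (rel_inj L hL x)
  choose f hf using hex
  refine ⟨f, ?_⟩
  have key : ∀ d k : ℕ, (hk : k + d = L.length) →
      ((L.drop k).map fun x => cond x.2 (f x.1) (f x.1)⁻¹).prod (Fin.last _) =
        (⟨k, by omega⟩ : Fin (L.length + 1)) := by
    intro d
    induction d with
    | zero =>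
      intro k hk
      have hkl : k = L.length := by omega
      subst hkl
      rw [List.drop_length]
      rfl
    | succ d ih =>
      intro k hk
      have hk' : k < L.length := by omega
      rw [List.drop_eq_getElem_cons hk', List.map_cons, List.prod_cons, Equiv.Perm.mul_apply,
        ih (k+1) (by omega)]
      have hget : L[k]? = some (L[k].1, L[k].2) := by
        rw [List.getElem?_eq_getElem hk']
      show (cond L[k].2 (f L[k].1) (f L[k].1)⁻¹) (⟨k + 1, by omega⟩ : Fin (L.length + 1))
        = ⟨k, by omega⟩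
      rcases hb : L[k].2 with _ | _
      · rw [hb] at hget
        rw [cond_false, Equiv.Perm.inv_eq_iff_eq]
        exact (hf L[k].1 ⟨k, by omega⟩ ⟨k+1, by omega⟩ ⟨k, hk', Or.inr ⟨hget, rfl, rfl⟩⟩).symm
      · rw [hb] at hget
        rw [cond_true]
        exact hf L[k].1 ⟨k+1, by omega⟩ ⟨k, by omega⟩ ⟨k, hk', Or.inl ⟨hget, rfl, rfl⟩⟩
  have h0 := key L.length 0 (by omega)
  rw [List.drop_zero] at h0
  exact h0.trans (Fin.ext (by simp))

theorem exists_hom_alt (m N : ℕ) (h : 2 * m ≤ N) :
    ∃ φ : Equiv.Perm (Fin m) →* Equiv.Perm (Fin N), Function.Injective φ ∧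
      ∀ σ, Equiv.Perm.sign (φ σ) = 1 := by
  classical
  have hcard : Fintype.card (Fin m ⊕ Fin m) ≤ Fintype.card (Fin N) := by
    simp only [Fintype.card_sum, Fintype.card_fin]; omega
  obtain ⟨ι⟩ := Function.Embedding.nonempty_of_card_le hcard
  refine ⟨(Equiv.Perm.viaEmbeddingHom ι).comp ((Equiv.Perm.sumCongrHom (Fin m) (Fin m)).comp
    (MonoidHom.prod (MonoidHom.id _) (MonoidHom.id _))), ?_, ?_⟩
  · rw [MonoidHom.coe_comp, MonoidHom.coe_comp]
    refine (Equiv.Perm.viaEmbeddingHom_injective ι).comp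
      (Equiv.Perm.sumCongrHom_injective.comp ?_)
    intro a b hab
    exact congrArg Prod.fst hab
  · intro σ
    show Equiv.Perm.sign (Equiv.Perm.viaEmbeddingHom ι (Equiv.sumCongr σ σ)) = 1
    rw [Equiv.Perm.viaEmbeddingHom_apply]
    unfold Equiv.Perm.viaEmbedding
    rw [Equiv.Perm.sign_extendDomain, Equiv.Perm.sign_sumCongr, Int.units_mul_self]

/-- A non-trivial law holds in only finitely many alternating groups: for every non-trivial element w of the free group on countably many generators there is N such that for all n ≥ N some substitution of elements of the alternating group of degree n into w is not the identity. -/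
theorem result (w : FreeGroup ℕ) (hw : w ≠ 1) :
    ∃ N : ℕ, ∀ n : ℕ, N ≤ n → ∃ f : ℕ → alternatingGroup (Fin n), FreeGroup.lift f w ≠ 1 := by
  classical
  obtain ⟨L, hL⟩ : ∃ L, L = w.toWord := ⟨_, rfl⟩
  have hLred : FreeGroup.IsReduced L := hL ▸ FreeGroup.isReduced_toWord
  have hLne : L ≠ [] := fun h => hw (FreeGroup.toWord_eq_nil_iff.mp (hL ▸ h))
  have hmk : w = FreeGroup.mk L := by rw [hL]; exact FreeGroup.mk_toWord.symm
  obtain ⟨σ, hσ⟩ := exists_perm_path L hLred
  have hσw : FreeGroup.lift σ w ≠ 1 := by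
    intro h1
    rw [hmk, FreeGroup.lift_mk] at h1
    rw [h1] at hσ
    have hlen : 0 < L.length := List.length_pos_of_ne_nil hLne
    have h3 := congrArg Fin.val hσ
    rw [Equiv.Perm.one_apply] at h3
    simp only [Fin.val_last, Fin.val_zero] at h3
    omega
  refine ⟨2 * (L.length + 1), fun n hn => ?_⟩
  obtain ⟨φ, hφinj, hφsign⟩ := exists_hom_alt (L.length + 1) n hn
  refine ⟨fun x => ⟨φ (σ x), Equiv.Perm.mem_alternatingGroup.mpr (hφsign _)⟩, fun h1 => hσw ?_⟩
  have hcomp : (alternatingGroup (Fin n)).subtype.comp (FreeGroup.lift fun x =>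
      (⟨φ (σ x), Equiv.Perm.mem_alternatingGroup.mpr (hφsign _)⟩ : alternatingGroup (Fin n)))
      = φ.comp (FreeGroup.lift σ) := by
    ext x
    simp
  have h2 := DFunLike.congr_fun hcomp w
  simp only [MonoidHom.comp_apply, h1] at h2
  apply hφinj
  rw [← h2]
  simp

end Cfsg.Agent.S2352
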