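import Cfsg.Statements.S2353
-- import your own Cfsg.Agent.* helpers here

set_option autoImplicit false
open Cfsg

namespace Cfsg.Agent.S2353

open Polynomial

section
variable {R : Type*} [CommRing R]

/-- upper unitriangular matrix -/
def uM (f : R) : Matrix (Fin 2) (Fin 2) R := !![1, f; 0, 1]

/-- lower unitriangular matrix -/
def vM (f : R) : Matrix (Fin 2) (Fin 2) R := !![1, 0; f, 1]

/-- the product `U(l) V(m) U(r)` as an element of `SL₂` -/
def uvu (l m r : R) : Matrix.SpecialLinearGroup (Fin 2) R :=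
  ⟨uM l * vM m * uM r, by simp [uM, vM, Matrix.det_fin_two_of]; ring⟩

theorem uvu_mul_inv (l m r : R) : uvu l m r * uvu (-r) (-m) (-l) = 1 := by
  apply Subtype.ext
  show uM l * vM m * uM r * (uM (-r) * vM (-m) * uM (-l)) = 1
  ext i j
  fin_cases i <;> fin_cases j <;> simp [uM, vM, Matrix.mul_apply, Fin.sum_univ_two] <;> ring

theorem uvu_inv (l m r : R) : (uvu l m r)⁻¹ = uvu (-r) (-m) (-l) :=
  inv_eq_of_mul_eq_one_right (uvu_mul_inv l m r)

theorem uvu_map {S : Type*} [CommRing S] (φ : R →+* S) (l m r : R) :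
    Matrix.SpecialLinearGroup.map φ (uvu l m r) = uvu (φ l) (φ m) (φ r) := by
  apply Subtype.ext
  show φ.mapMatrix (uM l * vM m * uM r) = uM (φ l) * vM (φ m) * uM (φ r)
  ext i j
  fin_cases i <;> fin_cases j <;> simp [uM, vM, Matrix.mul_apply, Fin.sum_univ_two]

variable (R) in
/-- the images of the free generators -/
noncomputable def gen (i : ℕ) : Matrix.SpecialLinearGroup (Fin 2) R[X] :=
  uvu (X ^ (2 * i + 1)) X (X ^ (2 * i + 2))

variable (R) in
/-- left polynomial of a letter -/
noncomputable def lP (y : ℕ × Bool) : R[X] := cond y.2 (X ^ (2 * y.1 + 1)) (-(X ^ (2 * y.1 + 2)))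

variable (R) in
/-- middle polynomial of a letter -/
noncomputable def mP (y : ℕ × Bool) : R[X] := cond y.2 X (-X)

variable (R) in
/-- right polynomial of a letter -/
noncomputable def rP (y : ℕ × Bool) : R[X] := cond y.2 (X ^ (2 * y.1 + 2)) (-(X ^ (2 * y.1 + 1)))

theorem letter_eq (y : ℕ × Bool) :
    cond y.2 (gen R y.1) (gen R y.1)⁻¹ = uvu (lP R y) (mP R y) (rP R y) := by
  rcases y with ⟨i, _ | _⟩
  · show (gen R i)⁻¹ = uvu (-(X ^ (2 * i + 2))) (-X) (-(X ^ (2 * i + 1)))
    exact uvu_inv _ _ _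
  · rfl

variable (R) in
/-- left polynomial of the first letter of a word -/
noncomputable def lam : List (ℕ × Bool) → R[X]
  | [] => 0
  | y :: _ => lP R y

end

section
variable {F : Type*} [Field F]

theorem step1 (f a b : F[X]) (hf : 1 ≤ f.natDegree) (hab : a.degree < b.degree) :
    b.degree < (a + f * b).degree := by
  have hb : b ≠ 0 := Polynomial.ne_zero_of_degree_gt hab
  have hf0 : f ≠ 0 := by rintro rfl; simp at hf
  have h2 : b.degree < (f * b).degree := by
    rw [Polynomial.degree_mul, Polynomial.degree_eq_natDegree hb,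
      Polynomial.degree_eq_natDegree hf0]
    exact_mod_cast (by omega : b.natDegree < f.natDegree + b.natDegree)
  rw [Polynomial.degree_add_eq_right_of_degree_lt (hab.trans h2)]
  exact h2

theorem nd_add (u v : F[X]) (h : u.natDegree ≠ v.natDegree) (h1 : 1 ≤ u.natDegree)
    (h2 : 1 ≤ v.natDegree) : 1 ≤ (u + v).natDegree := by
  rcases lt_or_gt_of_ne h with h' | h'
  · rw [Polynomial.natDegree_add_eq_right_of_natDegree_lt h']; exact h2
  · rw [Polynomial.natDegree_add_eq_left_of_natDegree_lt h']; exact h1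

theorem natDegree_lP (y : ℕ × Bool) :
    (lP F y).natDegree = cond y.2 (2 * y.1 + 1) (2 * y.1 + 2) := by
  rcases y with ⟨i, _ | _⟩ <;> simp [lP]

theorem natDegree_rP (y : ℕ × Bool) :
    (rP F y).natDegree = cond y.2 (2 * y.1 + 2) (2 * y.1 + 1) := by
  rcases y with ⟨i, _ | _⟩ <;> simp [rP]

theorem natDegree_mP (y : ℕ × Bool) : (mP F y).natDegree = 1 := by
  rcases y with ⟨i, _ | _⟩ <;> simp [mP]

theorem one_le_lP (y : ℕ × Bool) : 1 ≤ (lP F y).natDegree := by
  rw [natDegree_lP]
  rcases y with ⟨i, _ | _⟩ <;> simp only [cond_true, cond_false] <;> omega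

theorem one_le_rP (y : ℕ × Bool) : 1 ≤ (rP F y).natDegree := by
  rw [natDegree_rP]
  rcases y with ⟨i, _ | _⟩ <;> simp only [cond_true, cond_false] <;> omega

theorem junction (y y' : ℕ × Bool) (h : y.1 = y'.1 → y.2 = y'.2) :
    1 ≤ (rP F y + lP F y').natDegree := by
  apply nd_add _ _ _ (one_le_rP y) (one_le_lP y')
  rw [natDegree_rP, natDegree_lP]
  rcases y with ⟨i, _ | _⟩ <;> rcases y' with ⟨j, _ | _⟩
  · simp only [cond_false]; omega
  · simp only [cond_false, cond_true]
    intro h'
    have hij : i = j := by omega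
    exact absurd (h hij) (by simp)
  · simp only [cond_false, cond_true]
    intro h'
    have hij : i = j := by omega
    exact absurd (h hij) (by simp)
  · simp only [cond_true]; omega

theorem main_ind (L : List (ℕ × Bool)) (hL : FreeGroup.IsReduced L) :
    ∃ c a d b : F[X], a.degree < b.degree ∧
      ((L.map fun y => cond y.2 (gen F y.1) (gen F y.1)⁻¹).prod : Matrix (Fin 2) (Fin 2) F[X]) =
        uM (lam F L) * !![c, a; d, b] := by
  induction L with
  | nil =>
    refine ⟨1, 0, 0, 1, ?_, ?_⟩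
    · rw [degree_zero, degree_one]; exact WithBot.bot_lt_coe 0
    · show (1 : Matrix (Fin 2) (Fin 2) F[X]) = uM 0 * !![1, 0; 0, 1]
      refine Matrix.ext fun i j => ?_
      fin_cases i <;> fin_cases j <;> simp [uM, Matrix.mul_apply, Fin.sum_univ_two]
  | cons y L' ih =>
    have hL' : FreeGroup.IsReduced L' := hL.infix ⟨[y], [], by simp⟩
    obtain ⟨c, a, d, b, hab, hprod⟩ := ih hL'
    have hf : 1 ≤ (rP F y + lam F L').natDegree := by
      cases L' with
      | nil =>
        show 1 ≤ (rP F y + 0).natDegree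
        rw [add_zero]; exact one_le_rP y
      | cons y' L'' => exact junction y y' (FreeGroup.isReduced_cons_cons.mp hL).1
    have h1 := step1 (rP F y + lam F L') a b hf hab
    have h2 := step1 (mP F y) b (a + (rP F y + lam F L') * b) (by rw [natDegree_mP]) h1
    refine ⟨c + (rP F y + lam F L') * d, a + (rP F y + lam F L') * b,
      d + mP F y * (c + (rP F y + lam F L') * d), b + mP F y * (a + (rP F y + lam F L') * b),
      h2, ?_⟩
    rw [List.map_cons, List.prod_cons, Matrix.SpecialLinearGroup.coe_mul, hprod, letter_eq]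
    show uM (lP F y) * vM (mP F y) * uM (rP F y) * (uM (lam F L') * !![c, a; d, b]) =
      uM (lP F y) * !![c + (rP F y + lam F L') * d, a + (rP F y + lam F L') * b;
        d + mP F y * (c + (rP F y + lam F L') * d), b + mP F y * (a + (rP F y + lam F L') * b)]
    refine Matrix.ext fun i j => ?_
    fin_cases i <;> fin_cases j <;> simp [uM, vM, Matrix.mul_apply, Fin.sum_univ_two] <;> ring

theorem entry_ne_zero (L : List (ℕ × Bool)) (hL : FreeGroup.IsReduced L) (hne : L ≠ []) :
    ((L.map fun y => cond y.2 (gen F y.1) (gen F y.1)⁻¹).prod : Matrix (Fin 2) (Fin 2) F[X]) 0 1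
      ≠ 0 := by
  obtain ⟨c, a, d, b, hab, hprod⟩ := main_ind (F := F) L hL
  rw [hprod]
  cases L with
  | nil => exact absurd rfl hne
  | cons y L' =>
    have h1 := step1 (lP F y) a b (one_le_lP y) hab
    have h3 : (uM (lam F (y :: L')) * !![c, a; d, b]) 0 1 = a + lP F y * b := by
      show (uM (lP F y) * !![c, a; d, b]) 0 1 = a + lP F y * b
      simp [uM, Matrix.mul_apply, Fin.sum_univ_two]
    rw [h3]
    exact Polynomial.ne_zero_of_degree_gt h1

end

/-- A non-trivial law holds in PSL_2 over only finitely many finite fields: for every non-trivial element w of the free group on countably many generators there is N such that over every finite field with at least N elements some substitution of elements of PSL_2 into w is not the identity. -/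
theorem result (w : FreeGroup ℕ) (hw : w ≠ 1) :
    ∃ N : ℕ, ∀ (F : Type*) [Field F] [Fintype F], N ≤ Fintype.card F →
      ∃ f : ℕ → Matrix.ProjectiveSpecialLinearGroup (Fin 2) F, FreeGroup.lift f w ≠ 1 := by
  classical
  refine ⟨(((FreeGroup.lift (gen ℤ) w : Matrix.SpecialLinearGroup (Fin 2) ℤ[X]) :
    Matrix (Fin 2) (Fin 2) ℤ[X]) 0 1).natDegree + 1, ?_⟩
  intro F instF instFin hcard
  obtain ⟨pZ, hpZ⟩ : ∃ pZ : ℤ[X], pZ = ((FreeGroup.lift (gen ℤ) w :
    Matrix.SpecialLinearGroup (Fin 2) ℤ[X]) : Matrix (Fin 2) (Fin 2) ℤ[X]) 0 1 := ⟨_, rfl⟩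
  obtain ⟨pF, hpF⟩ : ∃ pF : F[X], pF = ((FreeGroup.lift (gen F) w :
    Matrix.SpecialLinearGroup (Fin 2) F[X]) : Matrix (Fin 2) (Fin 2) F[X]) 0 1 := ⟨_, rfl⟩
  rw [← hpZ] at hcard
  have hmap : pF = Polynomial.map (Int.castRingHom F) pZ := by
    have hcomp : (Matrix.SpecialLinearGroup.map (n := Fin 2)
        (Polynomial.mapRingHom (Int.castRingHom F))).comp (FreeGroup.lift (gen ℤ))
        = FreeGroup.lift (gen F) := by
      ext i : 1
      simp only [MonoidHom.comp_apply, FreeGroup.lift_apply_of]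
      show Matrix.SpecialLinearGroup.map _ (uvu _ _ _) = uvu _ _ _
      rw [uvu_map]
      simp
    have h3 := DFunLike.congr_fun hcomp w
    rw [hpF, ← h3, hpZ]
    simp
  have hpF0 : pF ≠ 0 := by
    obtain ⟨L, hL⟩ : ∃ L, L = w.toWord := ⟨_, rfl⟩
    have hmk : w = FreeGroup.mk L := by rw [hL]; exact FreeGroup.mk_toWord.symm
    rw [hpF, hmk, FreeGroup.lift_mk]
    exact entry_ne_zero L (hL ▸ FreeGroup.isReduced_toWord)
      (fun h => hw (FreeGroup.toWord_eq_nil_iff.mp (hL ▸ h)))
  have hdeg : pF.natDegree < Fintype.card F := by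
    have h4 : (Polynomial.map (Int.castRingHom F) pZ).natDegree ≤ pZ.natDegree :=
      Polynomial.natDegree_map_le
    rw [hmap]; omega
  obtain ⟨c, hc⟩ : ∃ c : F, pF.eval c ≠ 0 := by
    by_contra hall
    push Not at hall
    exact hpF0 (Polynomial.eq_zero_of_natDegree_lt_card_of_eval_eq_zero pF (f := id)
      Function.injective_id hall hdeg)
  obtain ⟨ev, hev⟩ : ∃ ev : Matrix.SpecialLinearGroup (Fin 2) F[X] →*
      Matrix.SpecialLinearGroup (Fin 2) F,
      ev = Matrix.SpecialLinearGroup.map (n := Fin 2) (Polynomial.evalRingHom c) := ⟨_, rfl⟩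
  obtain ⟨π, hπ⟩ : ∃ π : Matrix.SpecialLinearGroup (Fin 2) F →*
      Matrix.ProjectiveSpecialLinearGroup (Fin 2) F,
      π = QuotientGroup.mk' (Subgroup.center (Matrix.SpecialLinearGroup (Fin 2) F)) := ⟨_, rfl⟩
  refine ⟨fun i => π (ev (gen F i)), fun h1 => hc ?_⟩
  have hcomp : FreeGroup.lift (fun i => π (ev (gen F i)))
      = π.comp (ev.comp (FreeGroup.lift (gen F))) := by
    ext i : 1
    simp [FreeGroup.lift_apply_of]
  rw [hcomp] at h1
  have hmem : ev (FreeGroup.lift (gen F) w) ∈
      Subgroup.center (Matrix.SpecialLinearGroup (Fin 2) F) := by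
    have h5 : π (ev (FreeGroup.lift (gen F) w)) = 1 := h1
    rw [hπ] at h5
    exact (QuotientGroup.eq_one_iff _).mp h5
  obtain ⟨r, _, hr⟩ := Matrix.SpecialLinearGroup.mem_center_iff.mp hmem
  have h01 := congrFun (congrFun hr 0) 1
  have hev' : ((ev (FreeGroup.lift (gen F) w) : Matrix.SpecialLinearGroup (Fin 2) F) :
      Matrix (Fin 2) (Fin 2) F) 0 1 = pF.eval c := by
    rw [hev, hpF]
    simp
  rw [← hev', ← h01]
  simp

end Cfsg.Agent.S2353
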