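import Cfsg.Statements.S2394
import Mathlib
import Cfsg.Agent.S2904
import Cfsg.Agent.Helper2.SpEmbed

set_option autoImplicit false
open scoped MatrixGroups
open Cfsg

namespace Cfsg.Agent.S2394

theorem torus {F L : Type*} [Field F] [Fintype F] [Field L] [Fintype L] [Algebra F L] (n : ℕ)
    (hn : 0 < n) (hdim : Module.finrank F L = n + n) :
    ∃ φ : ↥((powMonoidHom (Fintype.card F ^ n + 1) : Lˣ →* Lˣ).ker) →*
      ↥(Matrix.symplecticGroup (Fin n) F), Function.Injective φ := by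
  classical
  obtain ⟨Q, hQ⟩ : ∃ Q, Q = Fintype.card F ^ n := ⟨_, rfl⟩
  have hq1 : 1 < Fintype.card F := Fintype.one_lt_card
  have hQ1 : 1 < Q := by rw [hQ]; exact Nat.one_lt_pow hn.ne' hq1
  have hLcard : Fintype.card L = Q ^ 2 := by
    rw [Module.card_eq_pow_finrank (K := F) (V := L), hdim, hQ, ← pow_mul, mul_two]
  obtain ⟨σ, hσ⟩ : ∃ σ : L ≃ₐ[F] L, ∀ x, σ x = x ^ Q := by
    refine ⟨FiniteField.frobeniusAlgEquivOfAlgebraic F L ^ n, fun x => ?_⟩
    rw [AlgEquiv.coe_pow, FiniteField.coe_frobeniusAlgEquivOfAlgebraic_iterate, hQ]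
  have hσσ : ∀ x, σ (σ x) = x := by
    intro x; rw [hσ, hσ, ← pow_mul, ← sq, ← hLcard, FiniteField.pow_card]
  obtain ⟨θ, hθ⟩ := Cfsg.Agent.Helper2.SpEmbed.exists_not_fixed hQ1 hLcard
  obtain ⟨t, ht⟩ : ∃ t, t = θ - σ θ := ⟨_, rfl⟩
  have ht0 : t ≠ 0 := by rw [ht, hσ]; exact sub_ne_zero.mpr (Ne.symm hθ)
  let f : LinearMap.BilinForm F L :=
    (Algebra.traceForm F L).comp (LinearMap.mulLeft F θ) σ.toLinearMap
  have hf : ∀ x y, f x y = Algebra.trace F L (θ * x * σ y) := fun x y => rfl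
  let B : LinearMap.BilinForm F L := f - f.flip
  have hBapp : ∀ x y, B x y = f x y - f y x := fun x y => rfl
  have hBalt : B.IsAlt := fun x => by rw [hBapp, sub_self]
  have hB2 : ∀ x y, B x y = Algebra.trace F L (t * x * σ y) := by
    intro x y
    rw [hBapp, hf, hf]
    have h1 : Algebra.trace F L (θ * y * σ x) = Algebra.trace F L (σ (θ * y * σ x)) :=
      (Algebra.trace_eq_of_algEquiv σ _).symm
    rw [h1, map_mul σ, map_mul σ, hσσ, ← map_sub, ht]
    congr 1; ring
  have hnd : ∀ a : L, a ≠ 0 → ∃ w, B a w ≠ 0 := by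
    intro a ha
    by_contra hcon
    push_neg at hcon
    have hta : t * a ≠ 0 := mul_ne_zero ht0 ha
    apply hta
    apply (traceForm_nondegenerate F L).1 (t * a)
    intro z
    rw [Algebra.traceForm_apply]
    have := hcon (σ z)
    rw [hB2, hσσ] at this
    exact this
  have hN : ∀ u : ↥((powMonoidHom (Fintype.card F ^ n + 1) : Lˣ →* Lˣ).ker),
      ((u : Lˣ) : L) * σ ((u : Lˣ) : L) = 1 := by
    intro u
    have h1 : (u : Lˣ) ^ (Fintype.card F ^ n + 1) = 1 := by
      have := u.2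
      rwa [MonoidHom.mem_ker, powMonoidHom_apply] at this
    rw [hσ, hQ, ← pow_succ', ← Units.val_pow_eq_pow_val, h1, Units.val_one]
  let ρ : ↥((powMonoidHom (Fintype.card F ^ n + 1) : Lˣ →* Lˣ).ker) →* Module.End F L :=
    { toFun := fun u => LinearMap.mulLeft F ((u : Lˣ) : L)
      map_one' := by ext v; simp
      map_mul' := fun u v => by ext w; simp }
  have hρapp : ∀ (u : ↥((powMonoidHom (Fintype.card F ^ n + 1) : Lˣ →* Lˣ).ker)) v,
      ρ u v = ((u : Lˣ) : L) * v := fun u v => rfl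
  have hρinj : Function.Injective ρ := by
    intro u u' h
    have h1 := congrArg (fun e : Module.End F L => e 1) h
    simp only [hρapp, mul_one] at h1
    exact Subtype.ext (Units.ext h1)
  have hiso : ∀ (u : ↥((powMonoidHom (Fintype.card F ^ n + 1) : Lˣ →* Lˣ).ker)) x y,
      B (ρ u x) (ρ u y) = B x y := by
    intro u x y
    rw [hB2, hB2, hρapp, hρapp, map_mul σ]
    congr 1
    have := hN u
    calc t * (((u : Lˣ) : L) * x) * (σ ((u : Lˣ) : L) * σ y)
        = t * x * σ y * (((u : Lˣ) : L) * σ ((u : Lˣ) : L)) := by ring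
      _ = t * x * σ y := by rw [this, mul_one]
  exact Cfsg.Agent.Helper2.SpEmbed.embed B hBalt hnd n hdim ρ hρinj hiso

theorem exists_order {L : Type*} [Field L] [Fintype L] (Q m : ℕ) (hcard : Fintype.card L = Q ^ 2)
    (hQ : 1 < Q) (hm : m ∣ Q + 1) : ∃ u : Lˣ, u ^ (Q + 1) = 1 ∧ orderOf u = m := by
  classical
  obtain ⟨ζ, hζ⟩ := IsCyclic.exists_ofOrder_eq_natCard (α := Lˣ)
  have hc : Nat.card Lˣ = Q ^ 2 - 1 := by
    rw [Nat.card_eq_fintype_card, Fintype.card_units, hcard]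
  obtain ⟨t, ht⟩ := hm
  have ht0 : t ≠ 0 := by rintro rfl; omega
  have hm0 : 0 < m := by
    rcases Nat.eq_zero_or_pos m with rfl | h
    · simp at ht
    · exact h
  have hfac : Q ^ 2 - 1 = (Q - 1) * t * m := by
    obtain ⟨Q', rfl⟩ : ∃ Q', Q = Q' + 1 := ⟨Q - 1, by omega⟩
    have h1 : (Q' + 1) ^ 2 = Q' * (Q' + 1 + 1) + 1 := by ring
    rw [h1, ht]
    simp only [Nat.add_sub_cancel]
    ring
  refine ⟨ζ ^ ((Q - 1) * t), ?_, ?_⟩
  · rw [← pow_mul, ht]
    have : (Q - 1) * t * (m * t) = (Q ^ 2 - 1) * t := by rw [hfac]; ring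
    rw [this, pow_mul, ← hc, ← hζ, pow_orderOf_eq_one, one_pow]
  · have hQ1 : Q - 1 ≠ 0 := by omega
    rw [orderOf_pow_of_dvd (mul_ne_zero hQ1 ht0) (by rw [hζ, hc, hfac]; exact dvd_mul_right _ _),
      hζ, hc, hfac]
    exact Nat.mul_div_cancel_left m (Nat.pos_of_ne_zero (mul_ne_zero hQ1 ht0))

theorem count {F V : Type*} [Field F] [Fintype F] [AddCommGroup V] [Module F V] [Finite V]
    (r e : ℕ) [Fact r.Prime] (hrq : ¬ r ∣ Fintype.card F)
    (g : (Module.End F V)ˣ) (hg : orderOf g = r ^ (e + 1)) :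
    ∃ k, 0 < k ∧ k ≤ Module.finrank F V ∧ r ^ (e + 1) ∣ Fintype.card F ^ k - 1 := by
  classical
  have hr : r.Prime := Fact.out
  obtain ⟨y, hy⟩ : ∃ y : (Module.End F V)ˣ, y = g ^ (r ^ e) := ⟨_, rfl⟩
  have hy1 : y ≠ 1 := by
    rw [hy]
    apply pow_ne_one_of_lt_orderOf (pow_ne_zero _ hr.ne_zero)
    rw [hg]; exact Nat.pow_lt_pow_right hr.one_lt (Nat.lt_succ_self e)
  have hgy : ∀ v, (g : Module.End F V) ((y : Module.End F V) v)
      = (y : Module.End F V) ((g : Module.End F V) v) := by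
    intro v
    have h1 : g * y = y * g := by rw [hy, ← pow_succ', ← pow_succ]
    have h2 := congrArg (fun u : (Module.End F V)ˣ => (u : Module.End F V) v) h1
    simpa using h2
  obtain ⟨C, hC⟩ : ∃ C : Submodule F V, C = LinearMap.ker ((y : Module.End F V) - 1) := ⟨_, rfl⟩
  have hCmem : ∀ v, v ∈ C ↔ (y : Module.End F V) v = v := by
    intro v; rw [hC, LinearMap.mem_ker, LinearMap.sub_apply, sub_eq_zero]; rfl
  have hCtop : C ≠ ⊤ := by
    intro h
    apply hy1
    apply Units.ext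
    ext v
    have : v ∈ C := by rw [h]; exact Submodule.mem_top
    exact (hCmem v).mp this
  have hginv : ∀ a, ((g⁻¹ : (Module.End F V)ˣ) : Module.End F V) ((g : Module.End F V) a) = a := by
    intro a
    have h : ((g⁻¹ : (Module.End F V)ˣ) : Module.End F V) * (g : Module.End F V) = 1 :=
      Units.inv_mul g
    exact congrArg (fun e : Module.End F V => e a) h
  have hginj : Function.Injective (g : Module.End F V) := by
    intro a b hab
    have := congrArg (fun x => ((g⁻¹ : (Module.End F V)ˣ) : Module.End F V) x) hab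
    simp only [hginv] at this
    exact this
  have hgC : ∀ v, (g : Module.End F V) v ∈ C ↔ v ∈ C := by
    intro v
    rw [hCmem, hCmem, ← hgy]
    exact ⟨fun h => hginj h, fun h => by rw [h]⟩
  let X : Type _ := {v : V // v ∉ C}
  let σ₀ : X → X := fun v => ⟨(g : Module.End F V) v.1, fun h => v.2 ((hgC v.1).mp h)⟩
  have hσ₀inj : Function.Injective σ₀ :=
    fun a b h => Subtype.ext (hginj (congrArg Subtype.val h))
  obtain ⟨σ, hσ⟩ : ∃ σ : Equiv.Perm X, ∀ v, σ v = σ₀ v :=
    ⟨Equiv.ofBijective σ₀ (Finite.injective_iff_bijective.mp hσ₀inj), fun v => rfl⟩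
  have hσpow : ∀ (k : ℕ) (v : X),
      ((σ ^ k) v : V) = ((g ^ k : (Module.End F V)ˣ) : Module.End F V) v.1 := by
    intro k
    induction k with
    | zero => intro v; simp
    | succ k ih =>
      intro v
      rw [pow_succ, Equiv.Perm.mul_apply, ih, hσ, pow_succ, Units.val_mul]
      rfl
  have hσord : σ ^ (r ^ (e + 1)) = 1 := by
    ext v
    rw [hσpow, ← hg, pow_orderOf_eq_one]; rfl
  have hper : ∀ v : X, MulAction.period σ v = r ^ (e + 1) := by
    intro v
    have h1 : MulAction.period σ v ∣ r ^ (e + 1) :=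
      MulAction.pow_smul_eq_iff_period_dvd.mp (by rw [hσord]; exact one_smul _ _)
    obtain ⟨j, hj, hpj⟩ := (Nat.dvd_prime_pow hr).mp h1
    by_contra hne
    have hje : j ≤ e := by
      rcases Nat.lt_or_ge e j with h | h
      · exfalso; apply hne; rw [hpj]; congr 1; omega
      · exact h
    have h2 : MulAction.period σ v ∣ r ^ e := by rw [hpj]; exact pow_dvd_pow r hje
    have h3 : σ ^ (r ^ e) • v = v := MulAction.pow_smul_eq_iff_period_dvd.mpr h2
    have h4 : ((σ ^ (r ^ e)) v : V) = v.1 := congrArg Subtype.val h3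
    rw [hσpow, ← hy] at h4
    exact v.2 ((hCmem v.1).mpr h4)
  have hfree : ∀ v : X, MulAction.stabilizer (Subgroup.zpowers σ) v = ⊥ := by
    intro v
    rw [eq_bot_iff]
    intro z hz
    rw [MulAction.mem_stabilizer_iff] at hz
    obtain ⟨k, hk⟩ := Subgroup.mem_zpowers_iff.mp z.2
    have h1 : σ ^ k • v = v := by rw [hk]; exact hz
    have h2 := MulAction.zpow_smul_eq_iff_period_dvd.mp h1
    rw [hper v] at h2
    have h3 : σ ^ k = 1 := by
      have h4 : (orderOf σ : ℤ) ∣ k := by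
        have : orderOf σ ∣ r ^ (e + 1) := orderOf_dvd_of_pow_eq_one hσord
        exact (Int.natCast_dvd_natCast.mpr this).trans h2
      exact orderOf_dvd_iff_zpow_eq_one.mp h4
    rw [Subgroup.mem_bot]
    exact Subtype.ext (hk.symm.trans h3)
  obtain ⟨v₀, hv₀⟩ : ∃ v₀ : V, v₀ ∉ C := by
    by_contra hcon
    push_neg at hcon
    exact hCtop (eq_top_iff.mpr fun v _ => hcon v)
  have hord : orderOf σ = r ^ (e + 1) :=
    Nat.dvd_antisymm (orderOf_dvd_of_pow_eq_one hσord)
      (by rw [← hper ⟨v₀, hv₀⟩]; exact MulAction.period_dvd_orderOf σ _)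
  have hdvd : r ^ (e + 1) ∣ Nat.card X := by
    have e1 := MulAction.selfEquivOrbitsQuotientProd hfree
    rw [Nat.card_congr e1, Nat.card_prod, Nat.card_zpowers, hord]
    exact dvd_mul_left _ _
  have hsum : Nat.card V = Nat.card C + Nat.card X := by
    rw [← Nat.card_sum]
    exact Nat.card_congr (Equiv.sumCompl (fun v => v ∈ C)).symm
  rw [Module.natCard_eq_pow_finrank (K := F) (V := V),
    Module.natCard_eq_pow_finrank (K := F) (V := C), Nat.card_eq_fintype_card] at hsum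
  have hlt : Module.finrank F C < Module.finrank F V := Submodule.finrank_lt hCtop
  obtain ⟨c, hc⟩ : ∃ c, c = Module.finrank F C := ⟨_, rfl⟩
  obtain ⟨d, hd⟩ : ∃ d, d = Module.finrank F V := ⟨_, rfl⟩
  rw [← hc, ← hd] at hsum hlt
  refine ⟨d - c, by omega, by rw [← hd]; omega, ?_⟩
  have hX : Nat.card X = Fintype.card F ^ c * (Fintype.card F ^ (d - c) - 1) := by
    have h0 : Fintype.card F ^ d = Fintype.card F ^ c * Fintype.card F ^ (d - c) := by
      rw [← pow_add]; congr 1; omega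
    have h1 : 1 ≤ Fintype.card F ^ (d - c) := Nat.one_le_pow _ _ Fintype.card_pos
    rw [Nat.mul_sub, mul_one, ← h0]
    omega
  rw [hX] at hdvd
  exact (Nat.Coprime.pow (e + 1) c
    ((Nat.Prime.coprime_iff_not_dvd hr).mpr hrq)).dvd_of_dvd_mul_left hdvd

theorem exists_ppd (q n : ℕ) (hq : 1 < q) (hn : 0 < n) :
    ∃ r e, r.Prime ∧ r ^ (e + 1) ∣ q ^ n + 1 ∧
      ∀ k, 0 < k → k < 2 * n → ¬ r ^ (e + 1) ∣ q ^ k - 1 := by
  by_cases h6 : q = 2 ∧ 2 * n = 6
  · obtain ⟨rfl, h⟩ := h6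
    have : n = 3 := by omega
    subst this
    refine ⟨3, 1, Nat.prime_three, by norm_num, ?_⟩
    intro k hk hk6
    interval_cases k <;> norm_num
  by_cases h2 : 2 * n = 2 ∧ ∃ s, q + 1 = 2 ^ s
  · obtain ⟨hn1, s, hs⟩ := h2
    have : n = 1 := by omega
    subst this
    have hs2 : 2 ≤ s := by
      by_contra hlt
      have : 2 ^ s ≤ 2 ^ 1 := Nat.pow_le_pow_right (by norm_num) (by omega)
      omega
    obtain ⟨s', rfl⟩ : ∃ s', s = s' + 2 := ⟨s - 2, by omega⟩
    have hq4 : q + 1 = 4 * 2 ^ s' := by rw [hs, pow_add]; ring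
    refine ⟨2, 1, Nat.prime_two, ?_, ?_⟩
    · rw [pow_one, hq4]; exact Dvd.intro _ rfl
    · intro k hk hk2
      have : k = 1 := by omega
      subst this
      rw [pow_one]
      omega
  · obtain ⟨r, hr, hrd, hrp⟩ := Cfsg.Agent.S2904.result q (2 * n) hq (by omega) h6 h2
    refine ⟨r, 0, hr, ?_, ?_⟩
    · have hfac : q ^ (2 * n) - 1 = (q ^ n - 1) * (q ^ n + 1) := by
        have h1 : 1 ≤ q ^ n := Nat.one_le_pow _ _ (by omega)
        obtain ⟨a, ha⟩ : ∃ a, q ^ n = a + 1 := ⟨q ^ n - 1, by omega⟩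
        rw [mul_comm 2 n, pow_mul, ha]
        simp only [Nat.add_sub_cancel]
        have h3 : (a + 1) ^ 2 = a * (a + 1 + 1) + 1 := by ring
        rw [h3]; simp
      rw [hfac] at hrd
      rcases (Nat.Prime.dvd_mul hr).mp hrd with h | h
      · exact absurd h (hrp n hn (by omega))
      · simpa using h
    · intro k hk hk2
      simpa using hrp k hk hk2


/-- The smallest degree of a faithful representation of the symplectic group `Sp_{2n}(q)` over its own field `F_q` is `2n`: every injective homomorphism from `Sp_{2n}(F)` to `GL_d(F)`, `F` the field with `q` elements, has `d ≥ 2n`. -/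
theorem result {F : Type*} [Field F] [Fintype F] (n : ℕ) {d : ℕ}
    (ρ : ↥(Matrix.symplecticGroup (Fin n) F) →* GL (Fin d) F) (hρ : Function.Injective ρ) : 2 * n ≤ d := by
  classical
  rcases Nat.eq_zero_or_pos n with rfl | hn
  · simp
  obtain ⟨p, hp⟩ := CharP.exists F
  haveI := hp
  haveI : Fact p.Prime := ⟨CharP.char_is_prime F p⟩
  haveI : NeZero (n + n) := ⟨by omega⟩
  obtain ⟨r, e, hr, hrd, hrp⟩ := exists_ppd (Fintype.card F) n Fintype.one_lt_card hn
  haveI := Fact.mk hr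
  have hrq : ¬ r ∣ Fintype.card F := by
    intro h
    have h1 : r ∣ Fintype.card F ^ n := dvd_pow h hn.ne'
    have h2 : r ∣ Fintype.card F ^ n + 1 := (dvd_pow_self r (Nat.succ_ne_zero e)).trans hrd
    have h3 : r ∣ 1 := (Nat.dvd_add_right h1).mp h2
    exact hr.one_lt.ne' (Nat.dvd_one.mp h3)
  haveI : Fintype (FiniteField.Extension F p (n + n)) :=
    Fintype.ofFinite (FiniteField.Extension F p (n + n))
  have hdim : Module.finrank F (FiniteField.Extension F p (n + n)) = n + n :=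
    FiniteField.finrank_extension F p (n + n)
  obtain ⟨φ, hφ⟩ := torus (F := F) (L := FiniteField.Extension F p (n + n)) n hn hdim
  have hLcard : Fintype.card (FiniteField.Extension F p (n + n)) = (Fintype.card F ^ n) ^ 2 := by
    rw [Module.card_eq_pow_finrank (K := F) (V := FiniteField.Extension F p (n + n)), hdim,
      ← pow_mul, mul_two]
  obtain ⟨u, hu1, hu2⟩ := exists_order (L := FiniteField.Extension F p (n + n))
    (Fintype.card F ^ n) (r ^ (e + 1)) hLcard (Nat.one_lt_pow hn.ne' Fintype.one_lt_card) hrd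
  have huN : u ∈ (powMonoidHom (Fintype.card F ^ n + 1) :
      (FiniteField.Extension F p (n + n))ˣ →* (FiniteField.Extension F p (n + n))ˣ).ker := by
    rw [MonoidHom.mem_ker, powMonoidHom_apply]; exact hu1
  obtain ⟨g, hg⟩ : ∃ g : (Module.End F (Fin d → F))ˣ,
      g = Matrix.GeneralLinearGroup.toLin (ρ (φ ⟨u, huN⟩)) := ⟨_, rfl⟩
  have hgo : orderOf g = r ^ (e + 1) := by
    rw [hg, MulEquiv.orderOf_eq, orderOf_injective ρ hρ, orderOf_injective φ hφ,
      Subgroup.orderOf_mk, hu2]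
  obtain ⟨k, hk0, hkd, hkdvd⟩ := count r e hrq g hgo
  rw [Module.finrank_fin_fun] at hkd
  by_contra hlt
  exact hrp k hk0 (by omega) hkdvd

end Cfsg.Agent.S2394
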