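import Cfsg.Statements.S2569
import Mathlib

set_option autoImplicit false
open Cfsg

namespace Cfsg.Agent.S2569

section aux
variable {F V : Type*} [Field F] [AddCommGroup V] [Module F V]

/-- Maschke-type averaging: an equivariant projection onto an invariant subspace. -/
theorem maschke (X : Module.End F V) (N : ℕ)
    (hN : X ^ N = 1) (hNF : (N : F) ≠ 0) (W : Submodule F V) (hW : ∀ w ∈ W, X w ∈ W) :
    ∃ π : Module.End F V, (∀ v, π v ∈ W) ∧ (∀ w ∈ W, π w = w) ∧ X * π = π * X := by
  have hN0 : N ≠ 0 := by rintro rfl; simp at hNF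
  obtain ⟨g, hg⟩ := LinearMap.exists_leftInverse_of_injective W.subtype (Submodule.ker_subtype W)
  obtain ⟨π₀, hπ₀⟩ : ∃ π₀ : Module.End F V, π₀ = W.subtype ∘ₗ g := ⟨_, rfl⟩
  have hπ₀W : ∀ v, π₀ v ∈ W := fun v => by rw [hπ₀]; exact (g v).2
  have hπ₀id : ∀ w ∈ W, π₀ w = w := by
    intro w hw
    rw [hπ₀]
    have := congrArg (fun f : W →ₗ[F] W => (f ⟨w, hw⟩ : V)) hg
    exact this
  obtain ⟨Y, hY⟩ : ∃ Y : Module.End F V, Y = X ^ (N - 1) := ⟨_, rfl⟩
  have hXY : X * Y = 1 := by
    rw [hY, ← pow_succ', Nat.sub_add_cancel (Nat.pos_of_ne_zero hN0), hN]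
  have hYX : Y * X = 1 := by
    rw [hY, ← pow_succ, Nat.sub_add_cancel (Nat.pos_of_ne_zero hN0), hN]
  have hcomm : Commute X Y := by rw [hY]; exact (Commute.refl X).pow_right _
  have hXpow : ∀ (i : ℕ) w, w ∈ W → (X ^ i) w ∈ W := by
    intro i
    induction i with
    | zero => intro w hw; simpa using hw
    | succ i ih =>
      intro w hw
      rw [pow_succ]
      exact ih _ (hW w hw)
  have hYW : ∀ w ∈ W, Y w ∈ W := fun w hw => by rw [hY]; exact hXpow _ w hw
  have hYpow : ∀ (i : ℕ) w, w ∈ W → (Y ^ i) w ∈ W := by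
    intro i
    induction i with
    | zero => intro w hw; simpa using hw
    | succ i ih =>
      intro w hw
      rw [pow_succ]
      exact ih _ (hYW w hw)
  have hXYpow : ∀ i : ℕ, X ^ i * Y ^ i = 1 := fun i => by rw [← hcomm.mul_pow, hXY, one_pow]
  obtain ⟨T, hT⟩ : ∃ T : Module.End F V, T = ∑ i ∈ Finset.range N, X ^ i * π₀ * Y ^ i :=
    ⟨_, rfl⟩
  have hTW : ∀ v, T v ∈ W := by
    intro v
    rw [hT, LinearMap.sum_apply]
    apply Submodule.sum_mem
    intro i _
    exact hXpow i _ (hπ₀W _)
  have hTid : ∀ w ∈ W, T w = (N : F) • w := by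
    intro w hw
    rw [hT, LinearMap.sum_apply]
    have h1 : ∀ i ∈ Finset.range N, (X ^ i * π₀ * Y ^ i) w = w := by
      intro i _
      show (X ^ i) (π₀ ((Y ^ i) w)) = w
      rw [hπ₀id _ (hYpow i w hw)]
      have := congrArg (fun f : Module.End F V => f w) (hXYpow i)
      exact this
    rw [Finset.sum_congr rfl h1, Finset.sum_const, Finset.card_range, Nat.cast_smul_eq_nsmul]
  have hconj : X * T * Y = T := by
    rw [hT, Finset.mul_sum, Finset.sum_mul]
    have h1 : ∀ i ∈ Finset.range N,
        X * (X ^ i * π₀ * Y ^ i) * Y = X ^ (i + 1) * π₀ * Y ^ (i + 1) := by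
      intro i _; rw [pow_succ' X, pow_succ Y]; simp only [mul_assoc]
    rw [Finset.sum_congr rfl h1]
    have h2 := Finset.sum_range_succ (fun i => X ^ i * π₀ * Y ^ i) N
    have h3 := Finset.sum_range_succ' (fun i => X ^ i * π₀ * Y ^ i) N
    have hfN : X ^ N * π₀ * Y ^ N = X ^ 0 * π₀ * Y ^ 0 := by
      have hYN : Y ^ N = 1 := by rw [hY, ← pow_mul, mul_comm, pow_mul, hN, one_pow]
      rw [hN, hYN]; simp
    rw [h2, hfN] at h3
    exact (add_right_cancel h3).symm
  have hTX : X * T = T * X := by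
    calc X * T = X * T * (Y * X) := by rw [hYX, mul_one]
      _ = (X * T * Y) * X := by simp only [mul_assoc]
      _ = T * X := by rw [hconj]
  refine ⟨(N : F)⁻¹ • T, fun v => ?_, fun w hw => ?_, ?_⟩
  · rw [LinearMap.smul_apply]; exact W.smul_mem _ (hTW v)
  · rw [LinearMap.smul_apply, hTid w hw, smul_smul, inv_mul_cancel₀ hNF, one_smul]
  · rw [mul_smul_comm, smul_mul_assoc, hTX]

/-- A minimal nonzero invariant subspace. -/
theorem exists_min_inv [FiniteDimensional F V] [Nontrivial V] (X : Module.End F V) :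
    ∃ W : Submodule F V, W ≠ ⊥ ∧ (∀ w ∈ W, X w ∈ W) ∧
      ∀ U : Submodule F V, U ≤ W → (∀ u ∈ U, X u ∈ U) → U = ⊥ ∨ U = W := by
  classical
  have hex : ∃ d, ∃ W : Submodule F V, W ≠ ⊥ ∧ (∀ w ∈ W, X w ∈ W) ∧ Module.finrank F W = d :=
    ⟨_, ⊤, top_ne_bot, fun _ _ => Submodule.mem_top, rfl⟩
  obtain ⟨W, hW0, hWinv, hWd⟩ := Nat.find_spec hex
  refine ⟨W, hW0, hWinv, fun U hU hUinv => ?_⟩
  by_cases hU0 : U = ⊥
  · exact Or.inl hU0
  · right
    have h1 : Nat.find hex ≤ Module.finrank F U := Nat.find_min' hex ⟨U, hU0, hUinv, rfl⟩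
    exact Submodule.eq_of_le_of_finrank_le hU (by rw [hWd]; exact h1)

end aux

/-- For a semisimple `X` on a nonzero finite space there are centralizing maps of every nonzero
determinant. -/
theorem exists_cent_det {F V : Type*} [Field F] [Fintype F] [AddCommGroup V] [Module F V]
    [Finite V] [Nontrivial V] (X : Module.End F V) (N : ℕ) (hN : X ^ N = 1) (hNF : (N : F) ≠ 0)
    (δ : F) (hδ : δ ≠ 0) : ∃ c : Module.End F V, X * c = c * X ∧ LinearMap.det c = δ := by
  classical
  obtain ⟨W, hW0, hWinv, hWmin⟩ := exists_min_inv X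
  obtain ⟨π, hπW, hπid, hπX⟩ := maschke X N hN hNF W hWinv
  -- restriction of X to W
  obtain ⟨XW, hXW⟩ : ∃ XW : Module.End F W, ∀ w : W, (XW w : V) = X w :=
    ⟨X.restrict hWinv, fun w => rfl⟩
  have hirr : ∀ U : Submodule F W, (∀ u ∈ U, XW u ∈ U) → U = ⊥ ∨ U = ⊤ := by
    intro U hU
    have hU' : ∀ u ∈ U.map W.subtype, X u ∈ U.map W.subtype := by
      rintro u ⟨u', hu', rfl⟩
      exact ⟨XW u', hU u' hu', hXW u'⟩
    have hle : U.map W.subtype ≤ W := by
      rintro u ⟨u', _, rfl⟩
      exact u'.2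
    rcases hWmin _ hle hU' with h | h
    · left
      rw [eq_bot_iff]
      intro u hu
      have h1 : (u : V) ∈ U.map W.subtype := ⟨u, hu, rfl⟩
      rw [h] at h1
      rw [Submodule.mem_bot]
      exact Subtype.ext ((Submodule.mem_bot F).mp h1)
    · right
      rw [eq_top_iff]
      intro w _
      have h1 : (w : V) ∈ U.map W.subtype := by rw [h]; exact w.2
      obtain ⟨u', hu', hu'w⟩ := h1
      have : u' = w := Subtype.ext hu'w
      rw [← this]; exact hu'
  -- nonzero vector of W
  obtain ⟨w₀, hw₀⟩ : ∃ w₀ : W, w₀ ≠ 0 := by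
    by_contra hcon
    push_neg at hcon
    apply hW0
    rw [eq_bot_iff]
    intro w hw
    have := hcon ⟨w, hw⟩
    rw [Submodule.mem_bot]
    exact congrArg Subtype.val this
  obtain ⟨D, hD⟩ : ∃ D : Subalgebra F (Module.End F W), D = Subalgebra.centralizer F {XW} :=
    ⟨_, rfl⟩
  have hDmem : ∀ d : Module.End F W, d ∈ D ↔ XW * d = d * XW := by
    intro d; rw [hD, Subalgebra.mem_centralizer_iff]; simp
  have hXWD : XW ∈ D := (hDmem XW).mpr rfl
  have hinj : ∀ d : Module.End F W, d ∈ D → d ≠ 0 → Function.Injective d := by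
    intro d hd hd0
    rw [← LinearMap.ker_eq_bot]
    rcases hirr (LinearMap.ker d) (fun u hu => by
        rw [LinearMap.mem_ker] at hu ⊢
        have h1 : d (XW u) = XW (d u) := by
          have := congrArg (fun f : Module.End F W => f u) ((hDmem d).mp hd)
          exact this.symm
        rw [h1, hu, map_zero]) with h | h
    · exact h
    · exact absurd (LinearMap.ker_eq_top.mp h) hd0
  have hunit : ∀ d : Module.End F W, d ∈ D → d ≠ 0 →
      ∃ u : (Module.End F W)ˣ, (u : Module.End F W) = d := by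
    intro d hd hd0
    have h1 : IsUnit d := by
      rw [LinearMap.isUnit_iff_ker_eq_bot, LinearMap.ker_eq_bot]
      exact hinj d hd hd0
    obtain ⟨u, hu⟩ := h1
    exact ⟨u, hu⟩
  have hinvmem : ∀ u : (Module.End F W)ˣ, (u : Module.End F W) ∈ D →
      ((u⁻¹ : (Module.End F W)ˣ) : Module.End F W) ∈ D := by
    intro u hu
    rw [hDmem] at hu ⊢
    calc XW * ((u⁻¹ : (Module.End F W)ˣ) : Module.End F W)
        = ((u⁻¹ : (Module.End F W)ˣ) : Module.End F W) *
            ((u : Module.End F W) * XW) *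
            ((u⁻¹ : (Module.End F W)ˣ) : Module.End F W) := by
          rw [← mul_assoc, Units.inv_mul, one_mul]
      _ = ((u⁻¹ : (Module.End F W)ˣ) : Module.End F W) *
            (XW * (u : Module.End F W)) *
            ((u⁻¹ : (Module.End F W)ˣ) : Module.End F W) := by rw [hu]
      _ = ((u⁻¹ : (Module.End F W)ˣ) : Module.End F W) * XW := by
          rw [mul_assoc, mul_assoc, Units.mul_inv, mul_one]
  have h01 : (0 : Module.End F W) ≠ 1 := by
    intro h
    have := congrArg (fun f : Module.End F W => f w₀) h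
    exact hw₀ this.symm
  -- the evaluation map
  let ev : D →ₗ[F] W :=
    { toFun := fun d => (d : Module.End F W) w₀
      map_add' := fun a b => rfl
      map_smul' := fun c a => rfl }
  have hevinj : Function.Injective ev := by
    intro a b hab
    by_contra hne
    have hsub : ((a - b : D) : Module.End F W) ≠ 0 := by
      intro h0
      apply hne
      apply Subtype.ext
      have : (a : Module.End F W) - (b : Module.End F W) = 0 := h0
      exact sub_eq_zero.mp this
    have h1 := hinj _ (a - b).2 hsub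
    have h2 : ((a - b : D) : Module.End F W) w₀ = ((a - b : D) : Module.End F W) 0 := by
      rw [map_zero]
      show ((a : Module.End F W) - (b : Module.End F W)) w₀ = 0
      rw [LinearMap.sub_apply, sub_eq_zero]; exact hab
    exact hw₀ (h1 h2)
  have hevsurj : Function.Surjective ev := by
    rw [← LinearMap.range_eq_top]
    rcases hirr (LinearMap.range ev) (by
        rintro u ⟨d, rfl⟩
        exact ⟨⟨XW * d.1, D.mul_mem hXWD d.2⟩, rfl⟩) with h | h
    · exfalso
      have h1 : w₀ ∈ LinearMap.range ev := ⟨1, rfl⟩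
      rw [h] at h1
      exact hw₀ ((Submodule.mem_bot F).mp h1)
    · exact h
  have hDunit : ∀ a : D, IsUnit a ∨ a = 0 := by
    intro a
    by_cases ha : a = 0
    · exact Or.inr ha
    · left
      have ha' : (a : Module.End F W) ≠ 0 := fun h => ha (Subtype.ext h)
      obtain ⟨u, hu⟩ := hunit a.1 a.2 ha'
      have hmem := hinvmem u (by rw [hu]; exact a.2)
      refine ⟨⟨a, ⟨_, hmem⟩, ?_, ?_⟩, rfl⟩
      · apply Subtype.ext
        show (a : Module.End F W) * ((u⁻¹ : (Module.End F W)ˣ) : Module.End F W) = 1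
        rw [← hu, Units.mul_inv]
      · apply Subtype.ext
        show ((u⁻¹ : (Module.End F W)ˣ) : Module.End F W) * (a : Module.End F W) = 1
        rw [← hu, Units.inv_mul]
  haveI : Finite (Module.End F W) :=
    Finite.of_injective (fun f : Module.End F W => (f : W → W)) DFunLike.coe_injective
  haveI : Nontrivial D := ⟨⟨0, 1, fun h => h01 (congrArg Subtype.val h)⟩⟩
  letI : DivisionRing D := DivisionRing.ofIsUnitOrEqZero hDunit
  letI : Field D := littleWedderburn D
  let evE : D ≃ₗ[F] W := LinearEquiv.ofBijective ev ⟨hevinj, hevsurj⟩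
  have hevE : ∀ d : D, evE d = (d : Module.End F W) w₀ := fun d => rfl
  have hdet : ∀ d : D, LinearMap.det (d : Module.End F W) = Algebra.norm F d := by
    intro d
    rw [Algebra.norm_apply, ← LinearMap.det_conj (Algebra.lmul F D d) evE]
    congr 1
    apply LinearMap.ext
    intro w
    show (d : Module.End F W) w = evE (d * evE.symm w)
    rw [hevE]
    have h1 : ((d * evE.symm w : D) : Module.End F W) w₀
        = (d : Module.End F W) (((evE.symm w : D) : Module.End F W) w₀) := rfl
    rw [h1, ← hevE, LinearEquiv.apply_symm_apply]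
  obtain ⟨d, hd⟩ := FiniteField.norm_surjective F D δ
  have hdd : LinearMap.det (d : Module.End F W) = δ := by rw [hdet, hd]
  have hdD : XW * (d : Module.End F W) = (d : Module.End F W) * XW := (hDmem _).mp d.2
  -- the complement
  obtain ⟨W', hW'⟩ : ∃ W' : Submodule F V, W' = LinearMap.ker π := ⟨_, rfl⟩
  have hcompl : IsCompl W W' := by
    constructor
    · rw [Submodule.disjoint_def]
      intro x hx hx'
      rw [hW', LinearMap.mem_ker] at hx'
      rw [← hπid x hx, hx']
    · rw [codisjoint_iff, eq_top_iff]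
      intro v _
      rw [Submodule.mem_sup]
      refine ⟨π v, hπW v, v - π v, ?_, by abel⟩
      rw [hW', LinearMap.mem_ker, map_sub, hπid _ (hπW v), sub_self]
  let πW : V →ₗ[F] W := π.codRestrict W hπW
  have hπWapp : ∀ v, (πW v : V) = π v := fun v => rfl
  let c : Module.End F V := 1 + W.subtype ∘ₗ ((d : Module.End F W) - 1) ∘ₗ πW
  have hcapp : ∀ v, c v = v + (((d : Module.End F W) (πW v) : W) : V) - π v := by
    intro v
    show v + ((((d : Module.End F W) - 1) (πW v) : W) : V) = _
    rw [LinearMap.sub_apply, Submodule.coe_sub]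
    show v + ((((d : Module.End F W) (πW v) : W) : V) - (πW v : V)) = _
    rw [hπWapp]; abel
  have hπWX : ∀ v, πW (X v) = XW (πW v) := by
    intro v
    apply Subtype.ext
    rw [hXW, hπWapp, hπWapp]
    have := congrArg (fun f : Module.End F V => f v) hπX
    exact this.symm
  refine ⟨c, ?_, ?_⟩
  · apply LinearMap.ext
    intro v
    show X (c v) = c (X v)
    rw [hcapp, hcapp, map_sub, map_add, hπWX]
    have h1 : X (((d : Module.End F W) (πW v) : W) : V)
        = (((d : Module.End F W) (XW (πW v)) : W) : V) := by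
      rw [← hXW]
      have := congrArg (fun f : Module.End F W => (f (πW v) : V)) hdD
      exact this
    have h2 : X (π v) = π (X v) := by
      have := congrArg (fun f : Module.End F V => f v) hπX
      exact this
    rw [h1, h2]
  · -- determinant
    let e := Submodule.prodEquivOfIsCompl W W' hcompl
    have he : ∀ (w : W) (w' : W'), e (w, w') = (w : V) + (w' : V) := fun w w' => by
      simp [e, Submodule.coe_prodEquivOfIsCompl']
    have hce : ∀ y : W × W', c (e y) = e (LinearMap.prodMap (d : Module.End F W) LinearMap.id y) := by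
      rintro ⟨w, w'⟩
      rw [LinearMap.prodMap_apply, he, he, hcapp]
      have h1 : π ((w : V) + (w' : V)) = w := by
        rw [map_add, hπid _ w.2]
        have : (w' : V) ∈ LinearMap.ker π := by rw [← hW']; exact w'.2
        rw [LinearMap.mem_ker.mp this, add_zero]
      have h2 : πW ((w : V) + (w' : V)) = w := Subtype.ext (by rw [hπWapp, h1])
      rw [h1, h2]
      simp only [LinearMap.id_coe, id_eq]
      abel
    have hc : c = (e : (W × W') →ₗ[F] V) ∘ₗ
        (LinearMap.prodMap (d : Module.End F W) LinearMap.id) ∘ₗ (e.symm : V →ₗ[F] (W × W')) := by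
      apply LinearMap.ext
      intro v
      show c v = e (LinearMap.prodMap (d : Module.End F W) LinearMap.id (e.symm v))
      rw [← hce, LinearEquiv.apply_symm_apply]
    rw [hc, LinearMap.det_conj, LinearMap.det_prodMap, hdd, LinearMap.det_id, mul_one]

/-- In GL_n over a finite field of characteristic p, the conjugacy class of a semisimple element (an element of order prime to p) under the special linear group is its whole GL-conjugacy class: for every such x and every invertible g there is h of determinant one with h x h⁻¹ = g x g⁻¹. -/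
theorem result {F : Type*} [Field F] [Fintype F] {p : ℕ} [Fact p.Prime] [CharP F p] {n : ℕ} (x g : GL (Fin n) F) (hx : (orderOf x).Coprime p) : ∃ h : GL (Fin n) F, (h : Matrix (Fin n) (Fin n) F).det = 1 ∧ h * x * h⁻¹ = g * x * g⁻¹ := by
  classical
  suffices h : ∃ c : GL (Fin n) F, c * x = x * c ∧
      (c : Matrix (Fin n) (Fin n) F).det = (g : Matrix (Fin n) (Fin n) F).det by
    obtain ⟨c, hc, hdet⟩ := h
    have hc1 : ((c⁻¹ : GL (Fin n) F) : Matrix (Fin n) (Fin n) F).det
        * (c : Matrix (Fin n) (Fin n) F).det = 1 := by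
      rw [← Matrix.det_mul, ← Units.val_mul, inv_mul_cancel]; simp
    have hg1 : ((g⁻¹ : GL (Fin n) F) : Matrix (Fin n) (Fin n) F).det
        * (g : Matrix (Fin n) (Fin n) F).det = 1 := by
      rw [← Matrix.det_mul, ← Units.val_mul, inv_mul_cancel]; simp
    have hg0 : (g : Matrix (Fin n) (Fin n) F).det ≠ 0 := by
      intro h0; rw [h0, mul_zero] at hg1; exact zero_ne_one hg1
    refine ⟨g * c⁻¹, ?_, ?_⟩
    · rw [Units.val_mul, Matrix.det_mul]
      rw [hdet] at hc1
      rw [eq_inv_of_mul_eq_one_left hc1, mul_inv_cancel₀ hg0]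
    · have h1 : c⁻¹ * x * c = x := by
        rw [mul_assoc, ← hc, ← mul_assoc, inv_mul_cancel, one_mul]
      rw [mul_inv_rev, inv_inv]
      calc g * c⁻¹ * x * (c * g⁻¹) = g * (c⁻¹ * x * c) * g⁻¹ := by simp only [mul_assoc]
        _ = g * x * g⁻¹ := by rw [h1]
  rcases Nat.eq_zero_or_pos n with hn | hn
  · subst hn
    refine ⟨1, by rw [one_mul, mul_one], ?_⟩
    rw [Matrix.det_isEmpty, Matrix.det_isEmpty]
  haveI : Nonempty (Fin n) := ⟨⟨0, hn⟩⟩
  have hg1 : ((g⁻¹ : GL (Fin n) F) : Matrix (Fin n) (Fin n) F).det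
      * (g : Matrix (Fin n) (Fin n) F).det = 1 := by
    rw [← Matrix.det_mul, ← Units.val_mul, inv_mul_cancel]; simp
  have hg0 : (g : Matrix (Fin n) (Fin n) F).det ≠ 0 := by
    intro h0; rw [h0, mul_zero] at hg1; exact zero_ne_one hg1
  obtain ⟨X, hX⟩ : ∃ X : Module.End F (Fin n → F),
      X = Matrix.toLin' (x : Matrix (Fin n) (Fin n) F) := ⟨_, rfl⟩
  have hpow : ∀ k : ℕ, X ^ k = Matrix.toLin' ((x : Matrix (Fin n) (Fin n) F) ^ k) := by
    intro k
    induction k with
    | zero => rw [pow_zero, pow_zero, Matrix.toLin'_one]; rfl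
    | succ k ih => rw [pow_succ, pow_succ, Matrix.toLin'_mul, ih, hX]; rfl
  have hXN : X ^ orderOf x = 1 := by
    rw [hpow, ← Units.val_pow_eq_pow_val, pow_orderOf_eq_one, Units.val_one, Matrix.toLin'_one]
    rfl
  have hNF : ((orderOf x : ℕ) : F) ≠ 0 := by
    intro h0
    rw [CharP.cast_eq_zero_iff F p] at h0
    have h1 : p ∣ Nat.gcd (orderOf x) p := Nat.dvd_gcd h0 dvd_rfl
    rw [hx] at h1
    exact (Fact.out : p.Prime).one_lt.ne' (Nat.dvd_one.mp h1)
  obtain ⟨c₀, hc₀, hc₀det⟩ := exists_cent_det X (orderOf x) hXN hNF _ hg0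
  obtain ⟨C, hC⟩ : ∃ C : Matrix (Fin n) (Fin n) F, C = LinearMap.toMatrix' c₀ := ⟨_, rfl⟩
  have hCdet : C.det = (g : Matrix (Fin n) (Fin n) F).det := by
    rw [hC, LinearMap.det_toMatrix', hc₀det]
  have hCx : C * (x : Matrix (Fin n) (Fin n) F) = (x : Matrix (Fin n) (Fin n) F) * C := by
    have h1 : LinearMap.toMatrix' X = (x : Matrix (Fin n) (Fin n) F) := by
      rw [hX, LinearMap.toMatrix'_toLin']
    rw [hC, ← h1, ← LinearMap.toMatrix'_mul, ← LinearMap.toMatrix'_mul, hc₀]
  refine ⟨Matrix.GeneralLinearGroup.mkOfDetNeZero C (by rw [hCdet]; exact hg0), ?_, ?_⟩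
  · apply Units.ext
    exact hCx
  · exact hCdet

end Cfsg.Agent.S2569
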