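import Cfsg.Statements.S2388
import Mathlib
import Cfsg.Agent.Helper14.SemiConj
import Cfsg.Agent.S2569

set_option autoImplicit false
open Cfsg

namespace Cfsg.Agent.S2388
open Cfsg.Agent.Helper14.SemiConj

theorem semi_of_order {F : Type*} [Field F] [Fintype F] (p : ℕ) [hp : Fact p.Prime] [CharP F p]
    (n : ℕ) (A : Matrix (Fin n) (Fin n) F) (m : ℕ) (hm : m.Coprime p) (hA : A ^ m = 1) :
    Module.End.IsSemisimple (Matrix.toLin' A) := by
  apply semisimple_of_pow A m _ hA
  intro h0
  have h1 := (CharP.cast_eq_zero_iff F p m).mp h0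
  have h2 := Nat.Coprime.eq_one_of_dvd hm.symm h1
  exact hp.out.one_lt.ne' h2


/-- In `SL_n(q)`, `q` a power of the prime `p`, two elements of order prime to `p` with the same characteristic polynomial are conjugate in `SL_n(q)` (not merely in `GL_n`). -/
theorem result {F : Type*} [Field F] [Fintype F] (p : ℕ) [Fact p.Prime] [CharP F p] (n : ℕ)
    (g h : Matrix.SpecialLinearGroup (Fin n) F) (hg : (orderOf g).Coprime p) (hh : (orderOf h).Coprime p)
    (hc : (g : Matrix (Fin n) (Fin n) F).charpoly = (h : Matrix (Fin n) (Fin n) F).charpoly) : IsConj g h := by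
  classical
  have key : ∀ x : Matrix.SpecialLinearGroup (Fin n) F, (orderOf x).Coprime p →
      Module.End.IsSemisimple (Matrix.toLin' (x : Matrix (Fin n) (Fin n) F)) := by
    intro x hx
    apply semi_of_order p n _ (orderOf x) hx
    have h2 : ((x ^ orderOf x : Matrix.SpecialLinearGroup (Fin n) F) :
        Matrix (Fin n) (Fin n) F) = ((1 : Matrix.SpecialLinearGroup (Fin n) F) :
        Matrix (Fin n) (Fin n) F) := by rw [pow_orderOf_eq_one]
    rw [Matrix.SpecialLinearGroup.coe_pow, Matrix.SpecialLinearGroup.coe_one] at h2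
    exact h2
  obtain ⟨P, hP⟩ := conj_matrix _ _ (key g hg) (key h hh) hc
  have hxo : (orderOf (Matrix.SpecialLinearGroup.toGL g : GL (Fin n) F)).Coprime p := by
    rw [orderOf_injective (Matrix.SpecialLinearGroup.toGL : Matrix.SpecialLinearGroup (Fin n) F →* GL (Fin n) F)
      (fun a b hab => by
        apply Subtype.ext
        exact congrArg (fun y : GL (Fin n) F => (y : Matrix (Fin n) (Fin n) F)) hab) g]
    exact hg
  obtain ⟨c, hcdet, hcc⟩ := Cfsg.Agent.S2569.result (p := p)
    (Matrix.SpecialLinearGroup.toGL g : GL (Fin n) F) P hxo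
  have h1 : P * (Matrix.SpecialLinearGroup.toGL g : GL (Fin n) F) * P⁻¹ =
      Matrix.SpecialLinearGroup.toGL h := by
    rw [mul_inv_eq_iff_eq_mul]
    apply Units.ext
    exact hP
  have h2 : c * (Matrix.SpecialLinearGroup.toGL g : GL (Fin n) F) =
      Matrix.SpecialLinearGroup.toGL h * c := by
    rw [← h1, ← hcc]
    group
  rw [isConj_iff]
  obtain ⟨cS, hcS⟩ : ∃ cS : Matrix.SpecialLinearGroup (Fin n) F,
      (cS : Matrix (Fin n) (Fin n) F) = (c : Matrix (Fin n) (Fin n) F) := ⟨⟨_, hcdet⟩, rfl⟩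
  refine ⟨cS, ?_⟩
  rw [mul_inv_eq_iff_eq_mul]
  apply Subtype.ext
  show (cS : Matrix (Fin n) (Fin n) F) * (g : Matrix (Fin n) (Fin n) F) =
    (h : Matrix (Fin n) (Fin n) F) * (cS : Matrix (Fin n) (Fin n) F)
  rw [hcS]
  exact congrArg (fun y : GL (Fin n) F => (y : Matrix (Fin n) (Fin n) F)) h2

end Cfsg.Agent.S2388
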