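import Cfsg.Statements.S0803
import Cfsg.Agent.Helper12.S4
import Cfsg.Agent.Helper12.A4PSL
import Cfsg.Agent.Helper12.SL2Card

set_option autoImplicit false
open Cfsg

namespace Cfsg.Agent.S0803

open Cfsg.Agent.Helper12

variable {F : Type*} [Field F]

theorem mk_of_neg (X Y : Matrix.SpecialLinearGroup (Fin 2) F) (h : X = sl2NegOne * Y) :
    (QuotientGroup.mk X : Matrix.ProjectiveSpecialLinearGroup (Fin 2) F) = QuotientGroup.mk Y := by
  rw [h]
  have hz1 : (QuotientGroup.mk sl2NegOne : Matrix.ProjectiveSpecialLinearGroup (Fin 2) F) = 1 :=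
    (QuotientGroup.eq_one_iff _).mpr sl2NegOne_mem_center
  show (QuotientGroup.mk sl2NegOne : Matrix.ProjectiveSpecialLinearGroup (Fin 2) F) * QuotientGroup.mk Y = QuotientGroup.mk Y
  rw [hz1, one_mul]

/-- `PSL₂(q)` contains a copy of `S₄` when `q ≡ ±1 (mod 8)`. -/
theorem psl2_exists_s4 [Fintype F] (hodd : Odd (Fintype.card F))
    (h8 : Fintype.card F % 8 = 1 ∨ Fintype.card F % 8 = 7) :
    ∃ H : Subgroup (Matrix.ProjectiveSpecialLinearGroup (Fin 2) F), Nonempty (H ≃* Equiv.Perm (Fin 4)) := by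
  have h2 : (2 : F) ≠ 0 := two_ne_zero_of_odd hodd
  obtain ⟨a, b, hab⟩ := sl2_norm_universal hodd (0 : F) (S0809.four_ne_zero_sq hodd) (-1)
  obtain ⟨h, hh⟩ : ∃ h : F, 2 * h = 1 := ⟨2⁻¹, mul_inv_cancel₀ h2⟩
  have hsq2 : IsSquare (2 : F) := FiniteField.isSquare_two_iff.mpr ⟨by omega, by omega⟩
  obtain ⟨s, hs⟩ := hsq2
  have hs0 : s ≠ 0 := by
    rintro rfl
    rw [mul_zero] at hs
    exact h2 hs
  obtain ⟨σ, hσ⟩ : ∃ σ : F, 2 * σ ^ 2 = 1 := ⟨s⁻¹, by rw [hs]; field_simp⟩
  have hdetA : (0 : F) * 0 - 1 * (-1) = 1 := by ring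
  have hdetB : a * (-a) - b * b = 1 := by linear_combination (-1 : F) * hab
  have hdetU : (h * (1 + a + b)) * (h * (1 - a - b)) - (h * (1 + b - a)) * (h * (-1 + b - a)) = 1 := by
    linear_combination (2 * h + 1) * hh - 2 * h ^ 2 * hab
  have hdetT : (σ * (-a)) * (σ * a) - (σ * (1 - b)) * (σ * (-1 - b)) = 1 := by
    linear_combination hσ - σ ^ 2 * hab
  obtain ⟨A, hA⟩ : ∃ A : Matrix.SpecialLinearGroup (Fin 2) F, A = sl2mk (0 : F) 1 (-1) 0 hdetA := ⟨_, rfl⟩
  obtain ⟨B, hB⟩ : ∃ B : Matrix.SpecialLinearGroup (Fin 2) F, B = sl2mk a b b (-a) hdetB := ⟨_, rfl⟩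
  obtain ⟨U, hU⟩ : ∃ U : Matrix.SpecialLinearGroup (Fin 2) F,
      U = sl2mk (h * (1 + a + b)) (h * (1 + b - a)) (h * (-1 + b - a)) (h * (1 - a - b)) hdetU :=
    ⟨_, rfl⟩
  obtain ⟨T, hT⟩ : ∃ T : Matrix.SpecialLinearGroup (Fin 2) F,
      T = sl2mk (σ * (-a)) (σ * (1 - b)) (σ * (-1 - b)) (σ * a) hdetT := ⟨_, rfl⟩
  have hanti : A * B = sl2NegOne * (B * A) := by
    apply Subtype.ext
    rw [hA, hB]
    simp only [Matrix.SpecialLinearGroup.coe_mul, sl2NegOne, sl2mk_val, Matrix.mul_fin_two]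
    apply S5016.mat2_ext <;> ring
  have hUA : U * A = B * U := by
    rw [sl2_mul_eq_iff, hU, hA, hB, sl2mk_val, sl2mk_val, sl2mk_val, Matrix.mul_fin_two,
      Matrix.mul_fin_two]
    apply S5016.mat2_ext <;>
      first | ring1 | linear_combination h * hab | linear_combination (-h) * hab
  have hUB : U * B = (A * B) * U := by
    rw [sl2_mul_eq_iff, Matrix.SpecialLinearGroup.coe_mul, hU, hA, hB, sl2mk_val, sl2mk_val,
      sl2mk_val, Matrix.mul_fin_two, Matrix.mul_fin_two, Matrix.mul_fin_two]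
    apply S5016.mat2_ext <;>
      first | ring1 | linear_combination h * hab | linear_combination (-h) * hab
  have hTT : T * T = sl2NegOne := by
    apply Subtype.ext
    rw [hT]
    simp only [Matrix.SpecialLinearGroup.coe_mul, sl2NegOne, sl2mk_val, Matrix.mul_fin_two]
    apply S5016.mat2_ext <;>
      first | ring1 | linear_combination σ ^ 2 * hab - hσ | linear_combination hσ - σ ^ 2 * hab
  have hTA : T * A = sl2NegOne * (B * T) := by
    apply Subtype.ext
    rw [hT, hA, hB]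
    simp only [Matrix.SpecialLinearGroup.coe_mul, sl2NegOne, sl2mk_val, Matrix.mul_fin_two]
    apply S5016.mat2_ext <;>
      first | ring1 | linear_combination (-σ) * hab | linear_combination σ * hab
  have hTB : T * B = sl2NegOne * (A * T) := by
    apply Subtype.ext
    rw [hT, hA, hB]
    simp only [Matrix.SpecialLinearGroup.coe_mul, sl2NegOne, sl2mk_val, Matrix.mul_fin_two]
    apply S5016.mat2_ext <;>
      first | ring1 | linear_combination (-σ) * hab | linear_combination σ * hab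
  have hTU : T * U = U⁻¹ * T := by
    rw [sl2_mul_eq_iff, Matrix.SpecialLinearGroup.coe_inv, hU, hT, sl2mk_val, sl2mk_val,
      Matrix.adjugate_fin_two_of, Matrix.mul_fin_two, Matrix.mul_fin_two]
    apply S5016.mat2_ext <;>
      first | ring1 | linear_combination (-2 * h * σ) * hab | linear_combination (2 * h * σ) * hab
  obtain ⟨ha1, hb1, hne, haa, hbb, hcomm⟩ := S0807.kpair_of_anti h2 A B hanti
  have hca : (QuotientGroup.mk U : Matrix.ProjectiveSpecialLinearGroup (Fin 2) F) *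
      QuotientGroup.mk A * (QuotientGroup.mk U)⁻¹ = QuotientGroup.mk B := by
    rw [mul_inv_eq_iff_eq_mul]
    exact congrArg (QuotientGroup.mk : Matrix.SpecialLinearGroup (Fin 2) F → Matrix.ProjectiveSpecialLinearGroup (Fin 2) F) hUA
  have hcb : (QuotientGroup.mk U : Matrix.ProjectiveSpecialLinearGroup (Fin 2) F) *
      QuotientGroup.mk B * (QuotientGroup.mk U)⁻¹ = QuotientGroup.mk A * QuotientGroup.mk B := by
    rw [mul_inv_eq_iff_eq_mul]
    exact congrArg (QuotientGroup.mk : Matrix.SpecialLinearGroup (Fin 2) F → Matrix.ProjectiveSpecialLinearGroup (Fin 2) F) hUB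
  have hc1 : (QuotientGroup.mk U : Matrix.ProjectiveSpecialLinearGroup (Fin 2) F) ≠ 1 := by
    intro h1
    rw [h1, one_mul, inv_one, mul_one] at hca
    exact hne hca
  have htr : (U : Matrix (Fin 2) (Fin 2) F).trace = 1 := by
    rw [hU, sl2mk_val, Matrix.trace_fin_two_of]
    linear_combination hh
  have hM2 : (U : Matrix (Fin 2) (Fin 2) F) * (U : Matrix (Fin 2) (Fin 2) F) =
      (U : Matrix (Fin 2) (Fin 2) F) - 1 := by
    rw [sl2_cayley, htr, one_smul]
  have hM3 : (U : Matrix (Fin 2) (Fin 2) F) ^ 3 = (-1 : F) • (1 : Matrix (Fin 2) (Fin 2) F) := by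
    calc (U : Matrix (Fin 2) (Fin 2) F) ^ 3
        = (U : Matrix (Fin 2) (Fin 2) F) * (U : Matrix (Fin 2) (Fin 2) F) *
          (U : Matrix (Fin 2) (Fin 2) F) := by rw [pow_succ, pow_two]
      _ = ((U : Matrix (Fin 2) (Fin 2) F) - 1) * (U : Matrix (Fin 2) (Fin 2) F) := by rw [hM2]
      _ = (U : Matrix (Fin 2) (Fin 2) F) * (U : Matrix (Fin 2) (Fin 2) F) -
          (U : Matrix (Fin 2) (Fin 2) F) := by rw [sub_mul, one_mul]
      _ = (U : Matrix (Fin 2) (Fin 2) F) - 1 - (U : Matrix (Fin 2) (Fin 2) F) := by rw [hM2]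
      _ = (-1 : F) • (1 : Matrix (Fin 2) (Fin 2) F) := by rw [neg_smul, one_smul]; abel
  have hc3 : (QuotientGroup.mk U : Matrix.ProjectiveSpecialLinearGroup (Fin 2) F) ^ 3 = 1 :=
    psl2_pow_eq_one_of_scalar U 3 (-1) hM3
  have hc : orderOf (QuotientGroup.mk U : Matrix.ProjectiveSpecialLinearGroup (Fin 2) F) = 3 :=
    orderOf_eq_prime hc3 hc1
  have htt : (QuotientGroup.mk T : Matrix.ProjectiveSpecialLinearGroup (Fin 2) F) * QuotientGroup.mk T = 1 := by
    have e : (QuotientGroup.mk (T * T) : Matrix.ProjectiveSpecialLinearGroup (Fin 2) F) = 1 := by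
      rw [hTT]; exact (QuotientGroup.eq_one_iff _).mpr sl2NegOne_mem_center
    exact e
  have hta : (QuotientGroup.mk T : Matrix.ProjectiveSpecialLinearGroup (Fin 2) F) * QuotientGroup.mk A * (QuotientGroup.mk T)⁻¹ =
      QuotientGroup.mk B := by
    rw [mul_inv_eq_iff_eq_mul]
    exact mk_of_neg (T * A) (B * T) hTA
  have htb : (QuotientGroup.mk T : Matrix.ProjectiveSpecialLinearGroup (Fin 2) F) * QuotientGroup.mk B * (QuotientGroup.mk T)⁻¹ =
      QuotientGroup.mk A := by
    rw [mul_inv_eq_iff_eq_mul]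
    exact mk_of_neg (T * B) (A * T) hTB
  have htc : (QuotientGroup.mk T : Matrix.ProjectiveSpecialLinearGroup (Fin 2) F) * QuotientGroup.mk U * (QuotientGroup.mk T)⁻¹ =
      (QuotientGroup.mk U)⁻¹ := by
    rw [mul_inv_eq_iff_eq_mul]
    exact congrArg (QuotientGroup.mk : Matrix.SpecialLinearGroup (Fin 2) F → Matrix.ProjectiveSpecialLinearGroup (Fin 2) F) hTU
  have ht1 : (QuotientGroup.mk T : Matrix.ProjectiveSpecialLinearGroup (Fin 2) F) ≠ 1 := by
    intro h1
    rw [h1, one_mul, inv_one, mul_one] at hta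
    exact hne hta
  exact exists_s4_of_rel _ _ _ _ haa hbb hcomm ha1 hb1 hne hc hca hcb htt ht1 hta htb htc

theorem no_order_four_char2 [CharP F 2] (X : Matrix.SpecialLinearGroup (Fin 2) F)
    (h4 : (X * X) * (X * X) = 1) (h2 : X * X ≠ 1) : False := by
  apply h2
  have h00 := (sl2_char2_mul_self_eq_one_iff (X * X)).mp h4
  obtain ⟨x, y, z, w, hXm, -⟩ := sl2_eta X
  rw [Matrix.SpecialLinearGroup.coe_mul, hXm, Matrix.mul_fin_two] at h00
  have h00' : x * x + y * z = z * y + w * w := h00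
  have hxw : x = w := char2_sq_eq_sq (by linear_combination h00')
  apply (sl2_char2_mul_self_eq_one_iff X).mpr
  rw [hXm]
  exact hxw

/-- PSL_2(q) has a subgroup isomorphic to S_4 iff q² ≡ 1 (mod 16). -/
theorem result {F : Type*} [Field F] [Fintype F] {q : ℕ} (hF : Fintype.card F = q) : (∃ H : Subgroup (Matrix.ProjectiveSpecialLinearGroup (Fin 2) F), Nonempty (H ≃* Equiv.Perm (Fin 4))) ↔ q ^ 2 % 16 = 1 := by
  subst hF
  constructor
  · rintro ⟨H, ⟨e⟩⟩
    rcases Nat.even_or_odd (Fintype.card F) with heven | hodd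
    · exfalso
      have hchar : ringChar F = 2 :=
        FiniteField.even_card_iff_char_two.mpr (Nat.even_iff.mp heven)
      have : CharP F 2 := ringChar.of_eq hchar
      have h2 : (2 : F) = 0 := char2_two_eq_zero
      have hπ : Function.Bijective
          (QuotientGroup.mk' (Subgroup.center (Matrix.SpecialLinearGroup (Fin 2) F))) :=
        ⟨psl2_mk_injective_char2 h2, QuotientGroup.mk'_surjective _⟩
      obtain ⟨E⟩ : Nonempty (Matrix.SpecialLinearGroup (Fin 2) F ≃* Matrix.ProjectiveSpecialLinearGroup (Fin 2) F) := ⟨MulEquiv.ofBijective _ hπ⟩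
      obtain ⟨f, hf⟩ : ∃ f : Equiv.Perm (Fin 4) →* Matrix.SpecialLinearGroup (Fin 2) F, Function.Injective f :=
        ⟨E.symm.toMonoidHom.comp (H.subtype.comp e.symm.toMonoidHom),
          E.symm.injective.comp (H.subtype_injective.comp e.symm.injective)⟩
      have hX4 : (f s4cyc * f s4cyc) * (f s4cyc * f s4cyc) = 1 := by
        rw [← map_mul, ← map_mul, s4cyc_four, map_one]
      have hX2 : f s4cyc * f s4cyc ≠ 1 := by
        intro h
        rw [← map_mul] at h
        exact s4cyc_sq_ne (hf (h.trans (map_one f).symm))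
      exact no_order_four_char2 (f s4cyc) hX4 hX2
    · have h2 : (2 : F) ≠ 0 := two_ne_zero_of_odd hodd
      have hH : Nat.card H = 24 := by
        rw [Nat.card_congr e.toEquiv, Nat.card_perm, Nat.card_eq_fintype_card, Fintype.card_fin]
        decide
      have hdvd : Nat.card H ∣ Nat.card (Matrix.ProjectiveSpecialLinearGroup (Fin 2) F) := Subgroup.card_subgroup_dvd_card H
      have hP := psl2_card_odd (F := F) h2
      rw [hH] at hdvd
      obtain ⟨m, hm⟩ := hdvd
      have h16 : 16 ∣ Fintype.card F * (Fintype.card F ^ 2 - 1) :=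
        ⟨3 * m, by rw [← hP, hm]; ring⟩
      have hcop : Nat.Coprime 16 (Fintype.card F) :=
        Nat.Coprime.pow_left 4 (Nat.coprime_two_left.mpr hodd)
      have h16' : 16 ∣ Fintype.card F ^ 2 - 1 := hcop.dvd_of_dvd_mul_left h16
      have hpos : 1 ≤ Fintype.card F ^ 2 := Nat.one_le_pow _ _ Fintype.card_pos
      omega
  · intro hq
    have h8 := mod8_of_sq _ hq
    have hodd : Odd (Fintype.card F) := Nat.odd_iff.mpr (by omega)
    exact psl2_exists_s4 hodd h8

end Cfsg.Agent.S0803
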