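import Cfsg.Statements.S0540
import Cfsg.Agent.Helper3.Zipper

set_option autoImplicit false
open Cfsg
open scoped Pointwise

namespace Cfsg.Agent.S0540

open Cfsg.Agent.Helper3

universe u

theorem mem_normalizer_of_smul_le {G : Type u} [Group G] [Finite G] (H : Subgroup G) (g : G)
    (h : MulAut.conj g • H ≤ H) : g ∈ Subgroup.normalizer (H : Set G) := by
  rw [Subgroup.mem_normalizer_iff_map_conj_eq]
  have hcard : Nat.card H ≤ Nat.card (MulAut.conj g • H : Subgroup G) := by
    have : Nat.card (H.map (MulAut.conj g).toMonoidHom) = Nat.card H :=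
      Subgroup.card_map_of_injective (MulAut.conj g).injective
    exact this.ge
  exact Subgroup.eq_of_le_of_card_ge h hcard

theorem conj_smul_smul {G : Type u} [Group G] (a b : G) (Z : Subgroup G) :
    MulAut.conj a • MulAut.conj b • Z = MulAut.conj (a * b) • Z := by
  rw [smul_smul, ← map_mul]

/-- A uniqueness lemma of zipper type. Let A be a subgroup of a finite group G and U a nonempty family of subgroups. For V in U write S(V) for the set of conjugates of A that lie in V and are subnormal in V. Assume: A belongs to S(V) for every V in U; a member of some S(W) that lies in V belongs to S(V); and for all V, W in U the normalizer of the join of S(V) ∩ S(W) lies in some member of U. Then U has a greatest element. -/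
theorem result {G : Type*} [Group G] [Finite G] (A : Subgroup G) (U : Set (Subgroup G)) (hU : U.Nonempty) (S : Subgroup G → Set (Subgroup G)) (hS : ∀ V B : Subgroup G, B ∈ S V ↔ (∃ g : G, B = MulAut.conj g • A) ∧ B ≤ V ∧ (B.subgroupOf V).IsSubnormal) (h1 : ∀ V ∈ U, A ∈ S V) (h2 : ∀ V ∈ U, ∀ W ∈ U, ∀ B ∈ S W, B ≤ V → B ∈ S V) (h3 : ∀ V ∈ U, ∀ W ∈ U, ∃ X ∈ U, Subgroup.normalizer ((sSup (S V ∩ S W) : Subgroup G) : Set G) ≤ X) : ∃ M ∈ U, ∀ V ∈ U, V ≤ M := by
  have hUfin : U.Finite := Set.toFinite U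
  have hSle : ∀ V B, B ∈ S V → B ≤ V := fun V B hB => ((hS V B).mp hB).2.1
  have hSsub : ∀ V B, B ∈ S V → (B.subgroupOf V).IsSubnormal := fun V B hB => ((hS V B).mp hB).2.2
  have hSconj : ∀ V : Subgroup G, ∀ B ∈ S V, ∀ v ∈ V, MulAut.conj v • B ∈ S V := by
    intro V B hB v hv
    obtain ⟨⟨g, rfl⟩, hle, hsub⟩ := (hS V _).mp hB
    have hle' : MulAut.conj v • MulAut.conj g • A ≤ V := by
      have h1 : MulAut.conj v • MulAut.conj g • A ≤ MulAut.conj v • V :=
        Subgroup.pointwise_smul_le_pointwise_smul_iff.mpr hle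
      rwa [Subgroup.conj_smul_eq_self_of_mem hv] at h1
    refine (hS V _).mpr ⟨⟨v * g, conj_smul_smul v g A⟩, hle', ?_⟩
    have e : (MulAut.conj v • MulAut.conj g • A).subgroupOf V
        = MulAut.conj (⟨v, hv⟩ : V) • ((MulAut.conj g • A).subgroupOf V) := by
      apply Subgroup.map_injective V.subtype_injective
      rw [map_subtype_conj, Subgroup.subgroupOf_map_subtype, Subgroup.subgroupOf_map_subtype,
        inf_of_le_left hle', inf_of_le_left hle]
    rw [e]
    exact hsub.smul _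
  -- the side lemma
  have side : ∀ V W : Subgroup G, Maximal (· ∈ U) V →
      (∀ Y', Maximal (· ∈ U) Y' → Y' ≠ V → (S V ∩ S Y').ncard ≤ (S V ∩ S W).ncard) →
      ∀ Y, Maximal (· ∈ U) Y →
        Subgroup.normalizer ((sSup (S V ∩ S W) : Subgroup G) : Set G) ≤ Y → Y = V := by
    intro V W hV hstar Y hY hNY
    by_cases PV : S V ⊆ S W
    · have hSig : S V ∩ S W = S V := Set.inter_eq_left.mpr PV
      rw [hSig] at hNY
      have hVN : V ≤ Subgroup.normalizer ((sSup (S V) : Subgroup G) : Set G) := by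
        intro v hv
        apply mem_normalizer_of_smul_le
        show (sSup (S V)).map (MulAut.conj v).toMonoidHom ≤ _
        rw [Subgroup.map_le_iff_le_comap]
        apply sSup_le
        intro B hB
        rw [← Subgroup.map_le_iff_le_comap]
        exact le_sSup (hSconj V B hB v hv)
      exact le_antisymm (hV.2 hY.1 (hVN.trans hNY)) (hVN.trans hNY)
    · have hss : S V ∩ S W ⊂ S V :=
        ⟨Set.inter_subset_left, fun h => PV (fun B hB => (h hB).2)⟩
      obtain ⟨B, hBS, hB0, hBn⟩ := zipper_rel V (S V) (S V ∩ S W) (hSle V) (hSsub V)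
        (hSconj V) hss
      by_contra hYV
      have hle := hstar Y hY hYV
      have hsub2 : S V ∩ S W ⊂ S V ∩ S Y := by
        refine ⟨fun C hC => ⟨hC.1, ?_⟩, fun h => ?_⟩
        · have hCY : C ≤ Y := (le_sSup hC).trans (Subgroup.le_normalizer.trans hNY)
          exact h2 Y hY.1 V hV.1 C hC.1 hCY
        · apply hB0
          exact h ⟨hBS, h2 Y hY.1 V hV.1 B hBS (hBn.trans hNY)⟩
      have hlt := Set.ncard_lt_ncard hsub2 (Set.toFinite _)
      omega
  -- existence of a maximal element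
  obtain ⟨V₀, hV₀⟩ := hU
  obtain ⟨M, -, hM⟩ := hUfin.exists_le_maximal hV₀
  by_contra hcon
  push Not at hcon
  obtain ⟨V₁, hV₁U, hV₁M⟩ := hcon M hM.1
  obtain ⟨M', hV₁M', hM'⟩ := hUfin.exists_le_maximal hV₁U
  have hMM' : M ≠ M' := by
    intro h
    exact hV₁M (h ▸ hV₁M')
  haveI : Nonempty {q : Subgroup G × Subgroup G // Maximal (· ∈ U) q.1 ∧ Maximal (· ∈ U) q.2 ∧
      q.1 ≠ q.2} := ⟨⟨(M, M'), hM, hM', hMM'⟩⟩
  obtain ⟨⟨⟨V, W⟩, hV, hW, hVW⟩, hmax⟩ := Finite.exists_max
    (fun q : {q : Subgroup G × Subgroup G // Maximal (· ∈ U) q.1 ∧ Maximal (· ∈ U) q.2 ∧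
      q.1 ≠ q.2} => (S q.1.1 ∩ S q.1.2).ncard)
  have hmax' : ∀ V' W' : Subgroup G, Maximal (· ∈ U) V' → Maximal (· ∈ U) W' → V' ≠ W' →
      (S V' ∩ S W').ncard ≤ (S V ∩ S W).ncard := fun V' W' a b c => hmax ⟨(V', W'), a, b, c⟩
  obtain ⟨X, hXU, hNX⟩ := h3 V hV.1 W hW.1
  obtain ⟨Y, hXY, hY⟩ := hUfin.exists_le_maximal hXU
  have hYV : Y = V := side V W hV (fun Y' hY' hne => hmax' V Y' hV hY' (Ne.symm hne)) Y hY
    (hNX.trans hXY)
  have hstarW : ∀ Y', Maximal (· ∈ U) Y' → Y' ≠ W → (S W ∩ S Y').ncard ≤ (S W ∩ S V).ncard := by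
    intro Y' hY' hne
    rw [Set.inter_comm (S W) (S V)]
    exact hmax' W Y' hW hY' (Ne.symm hne)
  have hNW : Subgroup.normalizer ((sSup (S W ∩ S V) : Subgroup G) : Set G) ≤ Y := by
    rw [Set.inter_comm (S W) (S V)]
    exact hNX.trans hXY
  have hYW : Y = W := side W V hW hstarW Y hY hNW
  exact hVW (hYV.symm.trans hYW)

end Cfsg.Agent.S0540
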