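import Mathlib
import Cfsg.Statements.S0130
import Cfsg.Agent.Helper19.Nilpotent
-- import your own Cfsg.Agent.* helpers here

set_option autoImplicit false
open Cfsg

namespace Cfsg.Agent.S0130

universe u

/-- class-2 power formula -/
theorem pow_class2 {G : Type*} [Group G] (x t a : G) (hax : a * x = x * a) (hat : a * t = t * a)
    (h : t * x = a * x * t) : ∀ k : ℕ, (x * t) ^ k = a ^ (k.choose 2) * (x ^ k * t ^ k) := by
  have hax' : Commute a x := hax
  have hat' : Commute a t := hat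
  have aux : ∀ k : ℕ, t ^ k * x = a ^ k * x * t ^ k := by
    intro k
    induction k with
    | zero => simp
    | succ k ih =>
      calc t ^ (k + 1) * x = t ^ k * (t * x) := by rw [pow_succ, mul_assoc]
        _ = t ^ k * (a * x * t) := by rw [h]
        _ = (t ^ k * a) * x * t := by simp only [mul_assoc]
        _ = (a * t ^ k) * x * t := by rw [(hat'.pow_right k).eq]
        _ = a * (t ^ k * x) * t := by simp only [mul_assoc]
        _ = a * (a ^ k * x * t ^ k) * t := by rw [ih]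
        _ = a ^ (k + 1) * x * t ^ (k + 1) := by
            rw [pow_succ' a k, pow_succ t k]; simp only [mul_assoc]
  intro k
  induction k with
  | zero => simp
  | succ k ih =>
    have hc : (k + 1).choose 2 = k.choose 2 + k := by
      have h1 := Nat.choose_succ_succ' k 1
      simp at h1
      omega
    calc (x * t) ^ (k + 1) = (x * t) ^ k * (x * t) := pow_succ _ _
      _ = a ^ (k.choose 2) * (x ^ k * t ^ k) * (x * t) := by rw [ih]
      _ = a ^ (k.choose 2) * (x ^ k * (t ^ k * x) * t) := by simp only [mul_assoc]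
      _ = a ^ (k.choose 2) * (x ^ k * (a ^ k * x * t ^ k) * t) := by rw [aux k]
      _ = a ^ (k.choose 2) * ((x ^ k * a ^ k) * x * t ^ k * t) := by simp only [mul_assoc]
      _ = a ^ (k.choose 2) * ((a ^ k * x ^ k) * x * t ^ k * t) := by
          rw [((hax'.pow_pow k k).eq)]
      _ = a ^ ((k + 1).choose 2) * (x ^ (k + 1) * t ^ (k + 1)) := by
          rw [hc, pow_add a (k.choose 2) k, pow_succ x k, pow_succ t k]; simp only [mul_assoc]

theorem sup_zpowers_props {G : Type*} [Group G] (A : Subgroup G) [A.Normal]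
    (hA : ∀ a ∈ A, ∀ b ∈ A, a * b = b * a) (e : ℕ) (hAe : ∀ a ∈ A, a ^ e = 1)
    (x : G) (hx : ∀ a ∈ A, a * x = x * a) (hxe : x ^ e = 1) :
    (∀ y ∈ A ⊔ Subgroup.zpowers x, y ^ e = 1) ∧
    (∀ y ∈ A ⊔ Subgroup.zpowers x, ∀ y' ∈ A ⊔ Subgroup.zpowers x, y * y' = y' * y) := by
  have hnf : ∀ y ∈ A ⊔ Subgroup.zpowers x, ∃ a ∈ A, ∃ k : ℤ, y = a * x ^ k := by
    intro y hy
    obtain ⟨a, ha, z, hz, rfl⟩ := Subgroup.mem_sup_of_normal_left.1 hy
    obtain ⟨k, rfl⟩ := Subgroup.mem_zpowers_iff.1 hz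
    exact ⟨a, ha, k, rfl⟩
  constructor
  · intro y hy
    obtain ⟨a, ha, k, rfl⟩ := hnf y hy
    have hc : Commute a (x ^ k) := (show Commute a x from hx a ha).zpow_right k
    rw [hc.mul_pow, hAe a ha, one_mul, ← zpow_natCast, ← zpow_mul, mul_comm, zpow_mul,
      zpow_natCast, hxe, one_zpow]
  · intro y hy y' hy'
    obtain ⟨a, ha, k, rfl⟩ := hnf y hy
    obtain ⟨a', ha', k', rfl⟩ := hnf y' hy'
    have h1 : Commute a (x ^ k') := (show Commute a x from hx a ha).zpow_right k'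
    have h2 : Commute a' (x ^ k) := (show Commute a' x from hx a' ha').zpow_right k
    have h3 : Commute a a' := hA a ha a' ha'
    have h4 : Commute (x ^ k) (x ^ k') := (Commute.refl x).zpow_zpow k k'
    exact ((h3.mul_right h1).mul_left ((h2.symm).mul_right h4)).eq

theorem sup_zpowers_normal {G : Type*} [Group G] (A : Subgroup G) [hAn : A.Normal]
    (x : G) (hconj : ∀ g : G, x⁻¹ * (g * x * g⁻¹) ∈ A) :
    (A ⊔ Subgroup.zpowers x).Normal := by
  refine ⟨fun y hy g => ?_⟩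
  obtain ⟨a, ha, z, hz, rfl⟩ := Subgroup.mem_sup_of_normal_left.1 hy
  obtain ⟨k, rfl⟩ := Subgroup.mem_zpowers_iff.1 hz
  have h1 : g * (a * x ^ k) * g⁻¹ = (g * a * g⁻¹) * (g * x * g⁻¹) ^ k := by
    rw [conj_zpow]; group
  rw [h1]
  apply Subgroup.mul_mem
  · exact Subgroup.mem_sup_left (hAn.conj_mem a ha g)
  · apply Subgroup.zpow_mem
    have h2 : g * x * g⁻¹ = x * (x⁻¹ * (g * x * g⁻¹)) := by group
    rw [h2]
    exact Subgroup.mul_mem _ (Subgroup.mem_sup_right (Subgroup.mem_zpowers x))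
      (Subgroup.mem_sup_left (hconj g))

theorem exists_step {G : Type*} [Group G] [Finite G] {p : ℕ} [Fact p.Prime] (hG : IsPGroup p G)
    (R R' : Subgroup G) [R.Normal] [hR'n : R'.Normal] (hle : R ≤ R') (hne : R ≠ R') :
    ∃ W : Subgroup G, W.Normal ∧ R ≤ W ∧ W ≤ R' ∧ W ≠ R ∧
      (∀ y ∈ W, ∀ g : G, g * y * g⁻¹ * y⁻¹ ∈ R) ∧ (∀ y ∈ W, y ^ p ∈ R) := by
  classical
  haveI : Group.IsNilpotent (G ⧸ R) := (hG.to_quotient R).isNilpotent
  haveI hmapn : (R'.map (QuotientGroup.mk' R)).Normal :=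
    Subgroup.Normal.map hR'n _ (QuotientGroup.mk'_surjective R)
  have hmapne : R'.map (QuotientGroup.mk' R) ≠ ⊥ := by
    intro hbot
    apply hne
    apply le_antisymm hle
    intro r hr
    have h1 : QuotientGroup.mk' R r ∈ R'.map (QuotientGroup.mk' R) :=
      Subgroup.mem_map_of_mem _ hr
    rw [hbot, Subgroup.mem_bot] at h1
    exact (QuotientGroup.eq_one_iff r).1 h1
  have h2 := Cfsg.Agent.Helper19.inf_center_ne_bot_of_normal (R'.map (QuotientGroup.mk' R)) hmapne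
  obtain ⟨z, hz, hz1⟩ : ∃ z ∈ R'.map (QuotientGroup.mk' R) ⊓ Subgroup.center (G ⧸ R), z ≠ 1 := by
    by_contra hcon; push_neg at hcon
    exact h2 ((Subgroup.eq_bot_iff_forall _).2 hcon)
  obtain ⟨w', hw', hw'1, hw'p⟩ : ∃ w' ∈ R'.map (QuotientGroup.mk' R) ⊓ Subgroup.center (G ⧸ R),
      w' ≠ 1 ∧ w' ^ p = 1 := by
    have hex : ∃ k : ℕ, z ^ p ^ k = 1 := (hG.to_quotient R) z
    have hk0 : Nat.find hex ≠ 0 := by
      intro h0
      have h3 := Nat.find_spec hex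
      rw [h0, pow_zero, pow_one] at h3
      exact hz1 h3
    obtain ⟨k, hk⟩ := Nat.exists_eq_succ_of_ne_zero hk0
    refine ⟨z ^ p ^ k, Subgroup.pow_mem _ hz _, ?_, ?_⟩
    · intro h
      have h3 := Nat.find_min' hex h
      omega
    · have hk' : p ^ k * p = p ^ Nat.find hex := by rw [hk]; exact (pow_succ p k).symm
      rw [← pow_mul, hk']; exact Nat.find_spec hex
  obtain ⟨w, hwR', hw⟩ := Subgroup.mem_map.1 hw'.1
  have hWle : R ⊔ Subgroup.zpowers w ≤ (Subgroup.zpowers w').comap (QuotientGroup.mk' R) := by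
    apply sup_le
    · intro r hr
      rw [Subgroup.mem_comap]
      have h3 : QuotientGroup.mk' R r = 1 := (QuotientGroup.eq_one_iff r).2 hr
      rw [h3]; exact Subgroup.one_mem _
    · rw [Subgroup.zpowers_le, Subgroup.mem_comap, hw]
      exact Subgroup.mem_zpowers w'
  have hw'c : ∀ q : G ⧸ R, q * w' = w' * q := fun q => (Subgroup.mem_center_iff.1 hw'.2) q
  have hd : ∀ y ∈ R ⊔ Subgroup.zpowers w, ∀ g : G, g * y * g⁻¹ * y⁻¹ ∈ R := by
    intro y hy g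
    obtain ⟨k, hk⟩ := Subgroup.mem_zpowers_iff.1 (hWle hy)
    have hc : Commute (QuotientGroup.mk' R g) (w' ^ k) :=
      (show Commute (QuotientGroup.mk' R g) w' from hw'c _).zpow_right k
    have h1 : QuotientGroup.mk' R (g * y * g⁻¹ * y⁻¹) = 1 := by
      rw [map_mul, map_mul, map_mul, map_inv, map_inv, ← hk, hc.eq]; group
    exact (QuotientGroup.eq_one_iff _).1 h1
  have he : ∀ y ∈ R ⊔ Subgroup.zpowers w, y ^ p ∈ R := by
    intro y hy
    obtain ⟨k, hk⟩ := Subgroup.mem_zpowers_iff.1 (hWle hy)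
    have h1 : QuotientGroup.mk' R (y ^ p) = 1 := by
      rw [map_pow, ← hk, ← zpow_natCast, ← zpow_mul, mul_comm, zpow_mul, zpow_natCast, hw'p,
        one_zpow]
    exact (QuotientGroup.eq_one_iff _).1 h1
  refine ⟨R ⊔ Subgroup.zpowers w, ?_, le_sup_left, sup_le hle (Subgroup.zpowers_le.2 hwR'), ?_,
    hd, he⟩
  · refine ⟨fun y hy g => ?_⟩
    have h1 : g * y * g⁻¹ = (g * y * g⁻¹ * y⁻¹) * y := by group
    rw [h1]
    exact Subgroup.mul_mem _ (Subgroup.mem_sup_left (hd y hy g)) hy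
  · intro hWR
    have hwW : w ∈ R ⊔ Subgroup.zpowers w := Subgroup.mem_sup_right (Subgroup.mem_zpowers w)
    rw [hWR] at hwW
    apply hw'1
    rw [← hw]
    exact (QuotientGroup.eq_one_iff w).2 hwW

theorem main {p : ℕ} [Fact p.Prime] (n : ℕ) (hn : p ^ n ≠ 2) :
    ∀ (N : ℕ) (G : Type u) [Group G] [Finite G],
    Nat.card G = N → IsPGroup p G → ∀ (A : Subgroup G) [A.Normal], IsMulCommutative A →
    (∀ a ∈ A, a ^ p ^ n = 1) →
    (∀ B : Subgroup G, B.Normal → IsMulCommutative B → (∀ b ∈ B, b ^ p ^ n = 1) → A ≤ B → B = A) →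
    ∀ x : G, x ∈ Subgroup.centralizer (A : Set G) → x ^ p ^ n = 1 → x ∈ A := by
  intro N
  induction N using Nat.strong_induction_on with
  | _ N ih =>
  intro G _ _ hcard hG A hAn hA hAe hmax x hx hxn
  classical
  by_contra hxA
  have hp : p.Prime := Fact.out
  haveI : Group.IsNilpotent G := hG.isNilpotent
  have hAc : ∀ a ∈ A, ∀ b ∈ A, a * b = b * a := fun a ha b hb =>
    congrArg Subtype.val (hA.is_comm.comm ⟨a, ha⟩ ⟨b, hb⟩)
  have hxc : ∀ a ∈ A, a * x = x * a := fun a ha => (Subgroup.mem_centralizer_iff.1 hx a ha)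
  obtain ⟨hBe, hBc⟩ := sup_zpowers_props A hAc (p ^ n) hAe x hxc hxn
  obtain ⟨R', hR'n, hR'top, hAR', hR'C, hxR'⟩ : ∃ R' : Subgroup G, R'.Normal ∧ R' ≠ ⊤ ∧ A ≤ R' ∧
      R' ≤ Subgroup.centralizer (A : Set G) ∧ x ∈ R' := by
    by_cases hC : Subgroup.centralizer (A : Set G) = ⊤
    · by_cases hB : A ⊔ Subgroup.zpowers x = ⊤
      · exfalso
        have hBn : (A ⊔ Subgroup.zpowers x).Normal := by rw [hB]; infer_instance
        have h1 := hmax _ hBn ⟨⟨fun a b => Subtype.ext (hBc a a.2 b b.2)⟩⟩ hBe le_sup_left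
        apply hxA
        rw [← h1]
        exact Subgroup.mem_sup_right (Subgroup.mem_zpowers x)
      · obtain ⟨M, hM, hBM⟩ :=
          (eq_top_or_exists_le_coatom (A ⊔ Subgroup.zpowers x)).resolve_left hB
        refine ⟨M, Subgroup.NormalizerCondition.normal_of_coatom M
          Group.normalizerCondition_of_isNilpotent hM, hM.1, le_trans le_sup_left hBM, ?_,
          hBM (Subgroup.mem_sup_right (Subgroup.mem_zpowers x))⟩
        rw [hC]; exact le_top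
    · refine ⟨Subgroup.centralizer (A : Set G), inferInstance, hC, ?_, le_rfl, hx⟩
      intro a ha
      rw [Subgroup.mem_centralizer_iff]
      intro b hb
      exact hAc b hb a ha
  haveI := hR'n
  obtain ⟨R, -, hRmax⟩ := (Set.toFinite {R : Subgroup G | R.Normal ∧ A ≤ R ∧ R ≤ R' ∧
    ∀ y ∈ R, y ^ p ^ n = 1 → y ∈ A}).exists_le_maximal (a := A)
    ⟨hAn, le_rfl, hAR', fun y hy _ => hy⟩
  obtain ⟨hRn, hAR, hRR', hRE⟩ := hRmax.1
  haveI := hRn
  have hRne : R ≠ R' := by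
    intro h
    exact hxA (hRE x (by rw [h]; exact hxR') hxn)
  obtain ⟨W, hWn, hRW, hWR', hWR, hWd, hWe⟩ := exists_step hG R R' hRR' hRne
  haveI := hWn
  have hWC : ∀ y ∈ W, ∀ a ∈ A, a * y = y * a := fun y hy a ha =>
    Subgroup.mem_centralizer_iff.1 (hR'C (hWR' hy)) a ha
  obtain ⟨y₀, hy₀W, hy₀n, hy₀A⟩ : ∃ y₀ ∈ W, y₀ ^ p ^ n = 1 ∧ y₀ ∉ A := by
    by_contra hcon
    push_neg at hcon
    have hW𝓢 : W ∈ {R : Subgroup G | R.Normal ∧ A ≤ R ∧ R ≤ R' ∧
        ∀ y ∈ R, y ^ p ^ n = 1 → y ∈ A} := ⟨hWn, le_trans hAR hRW, hWR', hcon⟩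
    exact hWR (le_antisymm (hRmax.2 hW𝓢 hRW) hRW)
  have hWcard : Nat.card W < N := by
    rw [← hcard]
    have hWtop : W ≠ ⊤ := fun h => hR'top (top_le_iff.1 (h ▸ hWR'))
    exact lt_of_le_of_ne (Subgroup.card_le_card_group W)
      (fun h => hWtop (Subgroup.eq_top_of_card_eq W h))
  have hA'𝓠 : A.subgroupOf W ∈ {B' : Subgroup W | B'.Normal ∧ IsMulCommutative B' ∧
      (∀ b ∈ B', b ^ p ^ n = 1) ∧ A.subgroupOf W ≤ B'} := by
    refine ⟨inferInstance, ⟨⟨fun a b => Subtype.ext (Subtype.ext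
      (hAc _ (Subgroup.mem_subgroupOf.1 a.2) _ (Subgroup.mem_subgroupOf.1 b.2)))⟩⟩, ?_, le_rfl⟩
    intro b hb
    apply Subtype.ext
    rw [Subgroup.coe_pow, Subgroup.coe_one]
    exact hAe _ (Subgroup.mem_subgroupOf.1 hb)
  obtain ⟨A₁, hA'A₁, hA₁max⟩ := (Set.toFinite _).exists_le_maximal hA'𝓠
  obtain ⟨hA₁n, hA₁c, hA₁e, -⟩ := hA₁max.1
  haveI := hA₁n
  have hIH := ih (Nat.card W) hWcard W rfl (hG.to_subgroup W) A₁ hA₁c hA₁e
    (fun B hBn hBc hBe hle =>
      le_antisymm (hA₁max.2 ⟨hBn, hBc, hBe, le_trans hA'A₁ hle⟩ hle) hle)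
  have hne1 : ¬ A₁ ≤ A.subgroupOf W := by
    intro hle
    have hA₁eq : A₁ = A.subgroupOf W := le_antisymm hle hA'A₁
    have h1 := hIH ⟨y₀, hy₀W⟩ (by
      rw [Subgroup.mem_centralizer_iff]
      intro a ha
      rw [hA₁eq] at ha
      exact Subtype.ext (hWC y₀ hy₀W _ (Subgroup.mem_subgroupOf.1 ha)))
      (Subtype.ext (by rw [Subgroup.coe_pow, Subgroup.coe_one]; exact hy₀n))
    rw [hA₁eq] at h1
    exact hy₀A (Subgroup.mem_subgroupOf.1 h1)
  obtain ⟨x₁', hx₁'A₁, hx₁'A⟩ := SetLike.not_le_iff_exists.1 hne1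
  obtain ⟨x₁, hx₁W⟩ := x₁'
  have hx₁A : x₁ ∉ A := fun h => hx₁'A (Subgroup.mem_subgroupOf.2 h)
  have hx₁n : x₁ ^ p ^ n = 1 := by
    have h1 := hA₁e _ hx₁'A₁
    have h2 := congrArg Subtype.val h1
    rw [Subgroup.coe_pow, Subgroup.coe_one] at h2
    exact h2
  have hx₁c : ∀ a ∈ A, a * x₁ = x₁ * a := hWC x₁ hx₁W
  have hx₁R : x₁ ∉ R := fun h => hx₁A (hRE x₁ h hx₁n)
  have hx₁p : x₁ ^ p ∈ A := by
    apply hRE _ (hWe x₁ hx₁W)
    rw [← pow_mul, mul_comm, pow_mul, hx₁n, one_pow]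
  have hK1 : ∀ y ∈ W, y * x₁ * y⁻¹ * x₁⁻¹ ∈ A := by
    intro y hy
    apply hRE _ (hWd x₁ hx₁W y)
    have h1 : (⟨y, hy⟩ : W) * ⟨x₁, hx₁W⟩ * (⟨y, hy⟩ : W)⁻¹ * (⟨x₁, hx₁W⟩ : W)⁻¹ ∈ A₁ :=
      A₁.mul_mem (hA₁n.conj_mem _ hx₁'A₁ _) (A₁.inv_mem hx₁'A₁)
    have h2 := congrArg Subtype.val (hA₁e _ h1)
    rw [Subgroup.coe_pow, Subgroup.coe_one] at h2
    exact h2
  have hconj : ∀ g : G, x₁⁻¹ * (g * x₁ * g⁻¹) ∈ A := by
    intro g
    obtain ⟨t, ht⟩ : ∃ t : G, t = x₁⁻¹ * (g * x₁ * g⁻¹) := ⟨_, rfl⟩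
    rw [← ht]
    have htR : t ∈ R := by
      have h1 := hWd x₁ hx₁W g
      have h2 : t = x₁⁻¹ * (g * x₁ * g⁻¹ * x₁⁻¹) * x₁⁻¹⁻¹ := by rw [ht]; group
      rw [h2]
      exact hRn.conj_mem _ h1 _
    have htW : t ∈ W := hRW htR
    obtain ⟨a, ha⟩ : ∃ a : G, a = t * x₁ * t⁻¹ * x₁⁻¹ := ⟨_, rfl⟩
    have haA : a ∈ A := by rw [ha]; exact hK1 t htW
    have hax : a * x₁ = x₁ * a := hx₁c a haA
    have hat : a * t = t * a := hWC t htW a haA
    have htx : t * x₁ = a * x₁ * t := by rw [ha]; group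
    have hap : a ^ p = 1 := by
      have h1 : t * x₁ ^ p * t⁻¹ = (a * x₁) ^ p := by
        rw [← conj_pow]; congr 1; rw [ha]; group
      have h2 : (a * x₁) ^ p = a ^ p * x₁ ^ p := (show Commute a x₁ from hax).mul_pow p
      have h3 : t * x₁ ^ p * t⁻¹ = x₁ ^ p := by
        have h4 := hWC t htW _ hx₁p
        calc t * x₁ ^ p * t⁻¹ = (x₁ ^ p * t) * t⁻¹ := by rw [h4]
          _ = x₁ ^ p := by group
      rw [h3, h2] at h1
      have h5 : a ^ p * x₁ ^ p = 1 * x₁ ^ p := by rw [one_mul]; exact h1.symm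
      exact mul_right_cancel h5
    have hformula := pow_class2 x₁ t a hax hat htx (p ^ n)
    have hu : (x₁ * t) ^ p ^ n = 1 := by
      have h1 : x₁ * t = g * x₁ * g⁻¹ := by rw [ht]; group
      rw [h1, conj_pow, hx₁n]; group
    have hchoose : a ^ ((p ^ n).choose 2) = 1 := by
      obtain ⟨c, hc⟩ := hp.dvd_choose_pow (n := n) (k := 2) (by norm_num) (fun h => hn h.symm)
      rw [hc, pow_mul, hap, one_pow]
    rw [hu, hchoose, hx₁n, one_mul, one_mul] at hformula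
    exact hRE t htR hformula.symm
  have hB₁n := sup_zpowers_normal A x₁ hconj
  obtain ⟨hB₁e, hB₁c⟩ := sup_zpowers_props A hAc (p ^ n) hAe x₁ hx₁c hx₁n
  have h1 := hmax _ hB₁n ⟨⟨fun a b => Subtype.ext (hB₁c a a.2 b b.2)⟩⟩ hB₁e le_sup_left
  apply hx₁A
  rw [← h1]
  exact Subgroup.mem_sup_right (Subgroup.mem_zpowers x₁)


/-- If A is maximal among the normal abelian subgroups of exponent dividing p^n of a p-group (p^n ≠ 2), then A contains every element of order dividing p^n in its centralizer. -/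
theorem result {G : Type*} [Group G] [Finite G] {p : ℕ} [Fact p.Prime] (hG : IsPGroup p G) (n : ℕ) (hn : p ^ n ≠ 2) (A : Subgroup G) [A.Normal] (hA : IsMulCommutative A) (hAe : ∀ a ∈ A, a ^ p ^ n = 1) (hmax : ∀ B : Subgroup G, B.Normal → IsMulCommutative B → (∀ b ∈ B, b ^ p ^ n = 1) → A ≤ B → B = A) (x : G) (hx : x ∈ Subgroup.centralizer (A : Set G)) (hxn : x ^ p ^ n = 1) : x ∈ A := by
  exact main n hn (Nat.card G) G rfl hG A hA hAe hmax x hx hxn

end Cfsg.Agent.S0130
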