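import Cfsg.Statements.S0499
import Mathlib
import Cfsg.Agent.Helper8.Nilp
import Cfsg.Agent.Helper1.Frobenius

set_option autoImplicit false
open Cfsg

namespace Cfsg.Agent.S0499

/-- An element normalizing but not centralizing `Q` has a power acting with prime order. -/
theorem exists_prime_action {G : Type*} [Group G] [Finite G] (Q : Subgroup G) (g : G)
    (hg : g ∈ Subgroup.normalizer (Q : Set G)) (hgc : g ∉ Subgroup.centralizer (Q : Set G)) :
    ∃ (y : G) (r : ℕ), r.Prime ∧ y ∈ Subgroup.normalizer (Q : Set G) ∧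
      y ∉ Subgroup.centralizer (Q : Set G) ∧ y ^ r ∈ Subgroup.centralizer (Q : Set G) ∧
      orderOf y ∣ orderOf g ∧ r ∣ orderOf y := by
  classical
  have hex : ∃ n : ℕ, 0 < n ∧ g ^ n ∈ Subgroup.centralizer (Q : Set G) :=
    ⟨orderOf g, orderOf_pos g, by rw [pow_orderOf_eq_one]; exact Subgroup.one_mem _⟩
  obtain ⟨n, hn⟩ : ∃ n, n = Nat.find hex := ⟨_, rfl⟩
  obtain ⟨hnpos, hnc⟩ : 0 < n ∧ g ^ n ∈ Subgroup.centralizer (Q : Set G) := by
    rw [hn]; exact Nat.find_spec hex
  have hmin : ∀ m : ℕ, m < n → 0 < m → g ^ m ∉ Subgroup.centralizer (Q : Set G) := by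
    intro m hm hm0 hmc
    exact Nat.find_min hex (hn ▸ hm) ⟨hm0, hmc⟩
  have hn1 : n ≠ 1 := by
    intro h1
    rw [h1, pow_one] at hnc
    exact hgc hnc
  have hr : (n.minFac).Prime := Nat.minFac_prime hn1
  obtain ⟨m, hm⟩ := Nat.minFac_dvd n
  obtain ⟨r, hrdef⟩ : ∃ r, r = n.minFac := ⟨_, rfl⟩
  rw [← hrdef] at hm hr
  have hm0 : 0 < m := by
    rcases Nat.eq_zero_or_pos m with h | h
    · rw [h, mul_zero] at hm; omega
    · exact h
  have hmn : m < n := by
    have := hr.two_le
    nlinarith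
  obtain ⟨y, hy⟩ : ∃ y, y = g ^ m := ⟨_, rfl⟩
  have hyC : y ∉ Subgroup.centralizer (Q : Set G) := by rw [hy]; exact hmin m hmn hm0
  have hyr : y ^ r ∈ Subgroup.centralizer (Q : Set G) := by
    rw [hy, ← pow_mul, Nat.mul_comm m r, ← hm]; exact hnc
  refine ⟨y, r, hr, ?_, hyC, hyr, ?_, ?_⟩
  · rw [hy]; exact Subgroup.pow_mem _ hg m
  · rw [hy]; exact orderOf_pow_dvd m
  · by_contra hnd
    have hcop : Nat.Coprime r (orderOf y) := (Nat.Prime.coprime_iff_not_dvd hr).mpr hnd
    have ho1 : 1 < orderOf y := by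
      have hpos : 0 < orderOf y := orderOf_pos _
      have hne : orderOf y ≠ 1 := by
        intro h1
        rw [orderOf_eq_one_iff] at h1
        exact hyC (by rw [h1]; exact Subgroup.one_mem _)
      omega
    obtain ⟨a, -, ha⟩ := Nat.exists_mul_mod_eq_one_of_coprime hcop ho1
    have hya : y = (y ^ r) ^ a := by
      rw [← pow_mul, ← pow_mod_orderOf, ha, pow_one]
    apply hyC
    rw [hya]
    exact Subgroup.pow_mem _ hyr a

/-- Fixed point congruence for a map whose `r`-th iterate is the identity. -/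
theorem card_fixed_modEq_of_iterate {α : Type*} [Finite α] (f : α → α) (r : ℕ) [Fact r.Prime]
    (hf : ∀ a, f^[r] a = a) : Nat.card α ≡ Nat.card (Function.fixedPoints f) [MOD r] := by
  classical
  haveI : Fintype α := Fintype.ofFinite _
  have h1 : ∀ n : ℕ, ∀ F : Function.End α, (F ^ n : Function.End α) = Nat.iterate F n :=
    fun n F => hom_coe_pow (fun g : Function.End α ↦ g) rfl (fun g h ↦ rfl) F n
  have hfr : @HPow.hPow (Function.End α) ℕ (Function.End α) _ f (r ^ 1) = 1 := by
    rw [pow_one]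
    refine (h1 r f).trans ?_
    funext a
    exact hf a
  have h := Equiv.Perm.card_fixedPoints_modEq (p := r) (n := 1) hfr
  rw [Fintype.card_eq_nat_card, Fintype.card_eq_nat_card] at h
  exact h

/-- Fixed point congruence for an element acting with prime order on `Q`. -/
theorem card_fix_modEq {G : Type*} [Group G] [Finite G] (Q : Subgroup G) (y : G)
    (hy : y ∈ Subgroup.normalizer (Q : Set G)) (r : ℕ) [Fact r.Prime]
    (hyr : y ^ r ∈ Subgroup.centralizer (Q : Set G)) :
    Nat.card Q ≡ Nat.card ((Subgroup.centralizer ({y} : Set G)).subgroupOf Q) [MOD r] := by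
  classical
  haveI : Fintype ↥Q := Fintype.ofFinite _
  obtain ⟨f, hf⟩ : ∃ f : ↥Q → ↥Q, ∀ q : ↥Q, ((f q : ↥Q) : G) = y * q * y⁻¹ :=
    ⟨fun q => ⟨y * q * y⁻¹, (Subgroup.mem_normalizer_iff.mp hy q).mp q.2⟩, fun q => rfl⟩
  have hiter : ∀ n : ℕ, ∀ q : ↥Q, ((f^[n] q : ↥Q) : G) = y ^ n * q * (y ^ n)⁻¹ := by
    intro n
    induction n with
    | zero => intro q; simp
    | succ n ih =>
      intro q
      rw [Function.iterate_succ_apply', hf, ih q, pow_succ']
      group
  have key : Nat.card ↥Q ≡ Nat.card (Function.fixedPoints f) [MOD r] := by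
    apply card_fixed_modEq_of_iterate f r
    intro q
    apply Subtype.ext
    rw [hiter r q]
    have hc := (Subgroup.mem_centralizer_iff.mp hyr) q q.2
    rw [← hc]; group
  have hset : (((Subgroup.centralizer ({y} : Set G)).subgroupOf Q : Subgroup ↥Q) : Set ↥Q)
      = Function.fixedPoints f := by
    ext q
    rw [Function.mem_fixedPoints, Function.IsFixedPt]
    simp only [SetLike.mem_coe, Subgroup.mem_subgroupOf]
    rw [Cfsg.Agent.Helper8.mem_cent]
    constructor
    · intro h
      apply Subtype.ext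
      rw [hf, h]; group
    · intro h
      have h' : y * (q : G) * y⁻¹ = q := by rw [← hf, h]
      calc y * (q : G) = y * q * y⁻¹ * y := by group
        _ = q * y := by rw [h']
  have e : Nat.card ((Subgroup.centralizer ({y} : Set G)).subgroupOf Q)
      = Nat.card (Function.fixedPoints f) := Nat.card_congr (Equiv.setCongr hset)
  rw [e]
  exact key

theorem arith (k j r : ℕ) (hk : k ≤ 3) (hj : j < k) (hr : r.Prime) (hr2 : r ≠ 2)
    (hd : r ∣ 2 ^ k - 2 ^ j) : (r = 3 ∧ 2 ≤ k) ∨ (r = 7 ∧ k = 3) := by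
  have h2 := hr.two_le
  have hle : r ≤ 7 := by
    have h7 : 2 ^ k - 2 ^ j ≤ 7 := by
      interval_cases k <;> interval_cases j <;> norm_num
    have hpos : 0 < 2 ^ k - 2 ^ j := by
      have := Nat.pow_lt_pow_right (by norm_num : 1 < 2) hj
      omega
    exact le_trans (Nat.le_of_dvd hpos hd) h7
  interval_cases k <;> interval_cases j <;> interval_cases r <;>
    first
      | (exfalso; exact hr2 rfl)
      | (exfalso; revert hr; norm_num; done)
      | (exfalso; revert hd; norm_num; done)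
      | (left; exact ⟨rfl, by norm_num⟩)
      | (right; exact ⟨rfl, rfl⟩)

theorem key {G : Type*} [Group G] [Finite G] (h12 : ¬ 12 ∣ Nat.card G)
    (h16 : ¬ 16 ∣ Nat.card G) (h56 : ¬ 56 ∣ Nat.card G) :
    Cfsg.Agent.Helper1.LocalP 2 G := by
  intro Q hQ g hg hgo
  by_contra hgc
  obtain ⟨y, r, hr, hyN, hyC, hyr, hyg, hry⟩ := exists_prime_action Q g hg hgc
  haveI : Fact r.Prime := ⟨hr⟩
  haveI : Fact (Nat.Prime 2) := ⟨Nat.prime_two⟩
  have hmod := card_fix_modEq Q y hyN r hyr
  obtain ⟨k, hk⟩ := IsPGroup.iff_card.mp hQ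
  have hQG : Nat.card Q ∣ Nat.card G := Subgroup.card_subgroup_dvd_card Q
  have hk3 : k ≤ 3 := by
    by_contra hk4
    push Not at hk4
    apply h16
    calc 16 = 2 ^ 4 := by norm_num
      _ ∣ 2 ^ k := pow_dvd_pow 2 hk4
      _ = Nat.card Q := hk.symm
      _ ∣ Nat.card G := hQG
  have hFd : Nat.card ((Subgroup.centralizer ({y} : Set G)).subgroupOf Q) ∣ Nat.card Q :=
    Subgroup.card_subgroup_dvd_card _
  rw [hk] at hFd
  obtain ⟨j, hjk, hj⟩ := (Nat.dvd_prime_pow Nat.prime_two).mp hFd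
  have hjne : j ≠ k := by
    intro hjk'
    have hcard : Nat.card ((Subgroup.centralizer ({y} : Set G)).subgroupOf Q) = Nat.card Q := by
      rw [hj, hk, hjk']
    have htop := (Subgroup.card_eq_iff_eq_top _).mp hcard
    apply hyC
    rw [Subgroup.mem_centralizer_iff]
    intro q hq
    have hmem : (⟨q, hq⟩ : ↥Q) ∈ (Subgroup.centralizer ({y} : Set G)).subgroupOf Q := by
      rw [htop]; exact Subgroup.mem_top _
    rw [Subgroup.mem_subgroupOf, Cfsg.Agent.Helper8.mem_cent] at hmem
    exact hmem.symm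
  have hjlt : j < k := lt_of_le_of_ne hjk hjne
  have hrodd : r ≠ 2 := by
    intro hr2
    rw [hr2] at hry
    have h2g : 2 ∣ orderOf g := dvd_trans hry hyg
    have := Nat.Coprime.eq_one_of_dvd hgo.symm h2g
    omega
  have hd : r ∣ 2 ^ k - 2 ^ j := by
    rw [hk, hj] at hmod
    exact (Nat.modEq_iff_dvd' (Nat.pow_le_pow_right (by norm_num) hjk)).mp hmod.symm
  have hrG : r ∣ Nat.card G := dvd_trans hry (orderOf_dvd_natCard y)
  rcases arith k j r hk3 hjlt hr hrodd hd with ⟨h3, hk2⟩ | ⟨h7, hk3'⟩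
  · apply h12
    have h4 : 4 ∣ Nat.card G := by
      calc 4 = 2 ^ 2 := by norm_num
        _ ∣ 2 ^ k := pow_dvd_pow 2 hk2
        _ = Nat.card Q := hk.symm
        _ ∣ Nat.card G := hQG
    rw [h3] at hrG
    have := Nat.Coprime.mul_dvd_of_dvd_of_dvd (by norm_num : Nat.Coprime 4 3) h4 hrG
    norm_num at this
    exact this
  · apply h56
    have h8 : 8 ∣ Nat.card G := by
      calc 8 = 2 ^ 3 := by norm_num
        _ = 2 ^ k := by rw [hk3']
        _ = Nat.card Q := hk.symm
        _ ∣ Nat.card G := hQG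
    rw [h7] at hrG
    have := Nat.Coprime.mul_dvd_of_dvd_of_dvd (by norm_num : Nat.Coprime 8 7) h8 hrG
    norm_num at this
    exact this

/-- A non-abelian finite simple group of even order has order divisible by 12, 16 or 56. -/
theorem result {G : Type*} [Group G] [Finite G] [IsSimpleGroup G]
    (hG : ¬ IsMulCommutative G) (h2 : Even (Nat.card G)) :
    12 ∣ Nat.card G ∨ 16 ∣ Nat.card G ∨ 56 ∣ Nat.card G := by
  by_contra hcon
  push Not at hcon
  obtain ⟨h12, h16, h56⟩ := hcon
  haveI : Fact (Nat.Prime 2) := ⟨Nat.prime_two⟩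
  obtain ⟨P, N, hN, hc⟩ := Cfsg.Agent.Helper1.npc_of_local (key h12 h16 h56)
  rcases hN.eq_bot_or_eq_top with h | h
  · rw [h, Subgroup.isComplement'_bot_left] at hc
    have hcard : Nat.card G = Nat.card (P : Subgroup G) := by rw [hc, Subgroup.card_top]
    obtain ⟨k, hk⟩ := IsPGroup.iff_card.mp P.isPGroup'
    have hPG : IsPGroup 2 G := IsPGroup.of_card (n := k) (hcard.trans hk)
    have hcn := hPG.center_nontrivial
    have hct : Subgroup.center G = ⊤ := by
      rcases (inferInstance : (Subgroup.center G).Normal).eq_bot_or_eq_top with h0 | h0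
      · exfalso
        rw [Subgroup.nontrivial_iff_ne_bot] at hcn
        exact hcn h0
      · exact h0
    apply hG
    rw [isMulCommutative_iff]
    intro a b
    have hb : b ∈ Subgroup.center G := by rw [hct]; exact Subgroup.mem_top b
    exact Subgroup.mem_center_iff.mp hb a
  · rw [h, Subgroup.isComplement'_top_left] at hc
    exact P.ne_bot_of_dvd_card (even_iff_two_dvd.mp h2) hc

end Cfsg.Agent.S0499
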