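import Cfsg.Statements.S0114
import Mathlib
import Cfsg.Agent.Helper8.MaxClass
import Cfsg.Agent.Helper8.MaxClass2
import Cfsg.Agent.Helper9.Dihedral
import Cfsg.Agent.S0206

set_option autoImplicit false
open Cfsg

namespace Cfsg.Agent.S0114

theorem transport {Q : Type*} [Group Q] (H : Subgroup Q) (m k : ℕ) (hH : H = ⊤) (hm : m = k)
    (e : Nonempty (↥H ≃* DihedralGroup m)) : Nonempty (Q ≃* DihedralGroup k) := by
  subst hH; subst hm
  obtain ⟨e⟩ := e
  exact ⟨Subgroup.topEquiv.symm.trans e⟩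

theorem zpowers_comm {X : Type*} [Group X] (c a b : X) (ha : a ∈ Subgroup.zpowers c)
    (hb : b ∈ Subgroup.zpowers c) : a * b = b * a := by
  obtain ⟨i, rfl⟩ := Subgroup.mem_zpowers_iff.mp ha
  obtain ⟨j, rfl⟩ := Subgroup.mem_zpowers_iff.mp hb
  rw [← zpow_add, ← zpow_add, add_comm]

/-- The central quotient of a 2-group of maximal class is dihedral. -/
theorem result {X : Type*} [Group X] [Finite X] (n : ℕ) (hn : 3 ≤ n) (hX : Nat.card X = 2 ^ n) (hc : Group.nilpotencyClass X = n - 1) : Nonempty (X ⧸ Subgroup.center X ≃* DihedralGroup (2 ^ (n - 2))) := by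
  haveI : Fact (Nat.Prime 2) := ⟨Nat.prime_two⟩
  obtain ⟨c, hcidx⟩ := Cfsg.Agent.Helper8.exists_cyclic_index_two n hn X hX hc
  obtain ⟨hZ, hQ, -⟩ := Cfsg.Agent.Helper8.maxclass_center (p := 2) n hn hX hc
  obtain ⟨C, hC⟩ : ∃ C : Subgroup X, C = Subgroup.zpowers c := ⟨_, rfl⟩
  rw [← hC] at hcidx
  have hcC : c ∈ C := by rw [hC]; exact Subgroup.mem_zpowers c
  have hab : ∀ a ∈ C, ∀ b ∈ C, a * b = b * a := by
    intro a ha b hb; rw [hC] at ha hb; exact zpowers_comm c a b ha hb
  have hco : orderOf c = 2 ^ (n - 1) := by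
    have h1 := C.card_mul_index
    rw [hcidx, hC, Nat.card_zpowers, hX] at h1
    have h2 : 2 ^ n = 2 ^ (n - 1) * 2 := by rw [← pow_succ]; congr 1; omega
    rw [h2] at h1
    exact Nat.eq_of_mul_eq_mul_right (by norm_num) h1
  have h4le : 4 ≤ 2 ^ (n - 1) := by
    have h1 : 2 ^ 2 ≤ 2 ^ (n - 1) := Nat.pow_le_pow_right (by norm_num) (by omega)
    simpa using h1
  have hcZ : c ∉ Subgroup.center X := by
    intro h
    have h1 := Subgroup.orderOf_dvd_natCard _ h
    rw [hco, hZ] at h1
    have h2 := Nat.le_of_dvd (by norm_num) h1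
    omega
  have hZC : Subgroup.center X ≤ C :=
    Cfsg.Agent.Helper8.center_le_of_index_two C hcidx hab
      (Cfsg.Agent.Helper8.noncomm_of_maxclass (p := 2) n hn hX hc)
  obtain ⟨t, ht⟩ := Cfsg.Agent.Helper8.exists_not_mem_of_index_two C hcidx
  have htc : t * c ∉ C := by
    intro h
    apply ht
    have h1 : t = t * c * c⁻¹ := by group
    rw [h1]; exact C.mul_mem h (C.inv_mem hcC)
  obtain ⟨π, hπ⟩ : ∃ π : X →* X ⧸ Subgroup.center X,
      π = QuotientGroup.mk' (Subgroup.center X) := ⟨_, rfl⟩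
  have hπsurj : Function.Surjective π := by rw [hπ]; exact QuotientGroup.mk'_surjective _
  have hπker : ∀ x : X, π x = 1 ↔ x ∈ Subgroup.center X := by
    intro x; rw [hπ, QuotientGroup.mk'_apply, QuotientGroup.eq_one_iff]
  have hxx : π t * π t = 1 := by
    rw [← map_mul, hπker]; exact Cfsg.Agent.Helper8.sq_mem_center C hcidx hab t ht
  have hx1 : π t ≠ 1 := fun h => ht (hZC ((hπker t).mp h))
  have hyy : π (t * c) * π (t * c) = 1 := by
    rw [← map_mul, hπker]; exact Cfsg.Agent.Helper8.sq_mem_center C hcidx hab _ htc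
  have hy1 : π (t * c) ≠ 1 := fun h => htc (hZC ((hπker _).mp h))
  have hxo : orderOf (π t) = 2 := orderOf_eq_prime (by rw [pow_two]; exact hxx) hx1
  have hyo : orderOf (π (t * c)) = 2 := orderOf_eq_prime (by rw [pow_two]; exact hyy) hy1
  have hxy : π t ≠ π (t * c) := by
    intro h
    apply hcZ
    rw [← hπker]
    have h1 : π c = (π t)⁻¹ * π (t * c) := by rw [map_mul, inv_mul_cancel_left]
    rw [h1, ← h, inv_mul_cancel]
  have hprod : π t * π (t * c) = π c := by
    rw [map_mul, ← mul_assoc, hxx, one_mul]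
  have hpc : orderOf (π c) = 2 ^ (n - 2) := by
    have e1 : n - 2 = (n - 3) + 1 := by omega
    rw [e1]
    apply orderOf_eq_prime_pow
    · intro h
      rw [← map_pow, hπker] at h
      have h1 := Subgroup.orderOf_dvd_natCard _ h
      rw [hZ] at h1
      have h2 := orderOf_dvd_iff_pow_eq_one.mp h1
      rw [← pow_mul, ← pow_succ, ← e1] at h2
      have h3 := orderOf_dvd_of_pow_eq_one h2
      rw [hco] at h3
      have h4 := Nat.le_of_dvd (by positivity) h3
      have h5 : 2 ^ (n - 2) < 2 ^ (n - 1) := Nat.pow_lt_pow_right (by norm_num) (by omega)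
      omega
    · rw [← e1, ← map_pow, hπker]
      obtain ⟨z, hzZ, hz1, hzz, -⟩ := Cfsg.Agent.Helper8.card_two_elems _ hZ
      have hzc : z ∈ Subgroup.zpowers c := by rw [← hC]; exact hZC hzZ
      obtain ⟨w, hw⟩ : ∃ w, w = c ^ (2 ^ (n - 2)) := ⟨_, rfl⟩
      have hww : w * w = 1 := by
        rw [hw, ← pow_add, ← two_mul, ← pow_succ']
        have h1 : n - 2 + 1 = n - 1 := by omega
        rw [h1, ← hco, pow_orderOf_eq_one]
      have hw1 : w ≠ 1 := by
        intro h
        rw [hw] at h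
        have h3 := orderOf_dvd_of_pow_eq_one h
        rw [hco] at h3
        have h4 := Nat.le_of_dvd (by positivity) h3
        have h5 : 2 ^ (n - 2) < 2 ^ (n - 1) := Nat.pow_lt_pow_right (by norm_num) (by omega)
        omega
      have hwc : w ∈ Subgroup.zpowers c := by
        rw [hw]; exact Subgroup.pow_mem _ (Subgroup.mem_zpowers c) _
      have h6 := Cfsg.Agent.Helper9.involution_unique_zpowers c w z hwc hzc hww hzz hw1 hz1
      rw [← hw, h6]; exact hzZ
  have hcl : Subgroup.closure ({π t, π (t * c)} : Set (X ⧸ Subgroup.center X)) = ⊤ := by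
    rw [eq_top_iff]
    intro q _
    obtain ⟨g, rfl⟩ := hπsurj q
    have hxm : π t ∈ Subgroup.closure ({π t, π (t * c)} : Set (X ⧸ Subgroup.center X)) :=
      Subgroup.subset_closure (Set.mem_insert _ _)
    have hym : π (t * c) ∈ Subgroup.closure ({π t, π (t * c)} : Set (X ⧸ Subgroup.center X)) :=
      Subgroup.subset_closure (Set.mem_insert_of_mem _ (Set.mem_singleton _))
    have hcm : π c ∈ Subgroup.closure ({π t, π (t * c)} : Set (X ⧸ Subgroup.center X)) := by
      rw [← hprod]; exact Subgroup.mul_mem _ hxm hym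
    have hCm : ∀ a ∈ C,
        π a ∈ Subgroup.closure ({π t, π (t * c)} : Set (X ⧸ Subgroup.center X)) := by
      intro a ha
      rw [hC] at ha
      obtain ⟨i, rfl⟩ := Subgroup.mem_zpowers_iff.mp ha
      rw [map_zpow]; exact Subgroup.zpow_mem _ hcm i
    rcases Cfsg.Agent.Helper8.mem_or_eq_mul C hcidx t ht g with hg | ⟨a, ha, rfl⟩
    · exact hCm g hg
    · have h1 : π (a * t) = π a * π t := map_mul π a t
      rw [h1]; exact Subgroup.mul_mem _ (hCm a ha) hxm
  have e := Cfsg.Agent.S0206.result (π t) (π (t * c)) hxo hyo hxy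
  exact transport _ _ _ hcl (by rw [hprod, hpc]) e

end Cfsg.Agent.S0114
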