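import Cfsg.Statements.S0115
import Mathlib
import Cfsg.Agent.Helper8.MaxClass
import Cfsg.Agent.Helper8.MaxClass2
import Cfsg.Agent.Helper8.TwoLocal
import Cfsg.Agent.Helper9.Dihedral
import Cfsg.Agent.Helper19.Nilpotent
import Cfsg.Agent.S0114

set_option autoImplicit false
open Cfsg

universe u

namespace Cfsg.Agent.S0115

theorem forward {X : Type u} [Group X] [Finite X] (n : ℕ) (hn : 3 ≤ n) (hX : Nat.card X = 2 ^ n)
    (hc : Group.nilpotencyClass X = n - 1) : IsKleinFour (X ⧸ commutator X) := by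
  haveI : Fact (Nat.Prime 2) := ⟨Nat.prime_two⟩
  obtain ⟨c, hcidx⟩ := Cfsg.Agent.Helper8.exists_cyclic_index_two n hn X hX hc
  obtain ⟨hZ, -, -⟩ := Cfsg.Agent.Helper8.maxclass_center (p := 2) n hn hX hc
  obtain ⟨C, hC⟩ : ∃ C : Subgroup X, C = Subgroup.zpowers c := ⟨_, rfl⟩
  rw [← hC] at hcidx
  have hab : ∀ a ∈ C, ∀ b ∈ C, a * b = b * a := by
    intro a ha b hb; rw [hC] at ha hb; exact Cfsg.Agent.S0114.zpowers_comm c a b ha hb
  have hZC : Subgroup.center X ≤ C :=
    Cfsg.Agent.Helper8.center_le_of_index_two C hcidx hab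
      (Cfsg.Agent.Helper8.noncomm_of_maxclass (p := 2) n hn hX hc)
  obtain ⟨hX'C, hform⟩ := Cfsg.Agent.Helper8.card_formula C hcidx hab hZC
  have hCcard : Nat.card C = 2 ^ (n - 1) := by
    have h1 := C.card_mul_index
    rw [hcidx, hX] at h1
    have h2 : 2 ^ n = 2 ^ (n - 1) * 2 := by rw [← pow_succ]; congr 1; omega
    rw [h2] at h1
    exact Nat.eq_of_mul_eq_mul_right (by norm_num) h1
  have hX'card : Nat.card (commutator X) = 2 ^ (n - 2) := by
    rw [hCcard, hZ] at hform
    have h2 : 2 ^ (n - 1) = 2 * 2 ^ (n - 2) := by rw [← pow_succ']; congr 1; omega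
    rw [h2] at hform
    exact (Nat.eq_of_mul_eq_mul_left (by norm_num) hform).symm
  rw [Cfsg.Agent.Helper8.kleinFour_quot_iff]
  constructor
  · have h1 := (commutator X).card_mul_index
    rw [hX'card, hX] at h1
    have h2 : 2 ^ n = 2 ^ (n - 2) * 4 := by
      have h3 : 2 ^ n = 2 ^ ((n - 2) + 2) := by congr 1; omega
      rw [h3, pow_add]; norm_num
    rw [h2] at h1
    exact Nat.eq_of_mul_eq_mul_left (by positivity) h1
  · intro y
    by_cases hy : y ∈ C
    · have hrel : ((commutator X).subgroupOf C).index = 2 := by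
        have h1 := Cfsg.Agent.Helper8.card_eq_card_mul_relIndex hX'C
        rw [hCcard, hX'card] at h1
        have h2 : 2 ^ (n - 1) = 2 ^ (n - 2) * 2 := by rw [← pow_succ]; congr 1; omega
        rw [h2] at h1
        exact (Nat.eq_of_mul_eq_mul_left (by positivity) h1).symm
      have h3 := (Subgroup.mul_mem_iff_of_index_two hrel (a := (⟨y, hy⟩ : ↥C))
        (b := ⟨y, hy⟩)).mpr Iff.rfl
      exact Subgroup.mem_subgroupOf.mp h3
    · have h1 := Cfsg.Agent.Helper8.sq_mem_center C hcidx hab y hy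
      obtain ⟨z, hzZ, hz1, hzz, hZel⟩ := Cfsg.Agent.Helper8.card_two_elems _ hZ
      have hzX' : z ∈ commutator X := by
        have h2dvd : 2 ∣ Nat.card (commutator X) := by
          rw [hX'card]; exact dvd_pow_self 2 (by omega)
        obtain ⟨v, hv⟩ := exists_prime_orderOf_dvd_card' 2 h2dvd
        have hvo : orderOf (v : X) = 2 := by rw [Subgroup.orderOf_coe]; exact hv
        have hvv : (v : X) * v = 1 := by rw [← pow_two, ← hvo]; exact pow_orderOf_eq_one _
        have hv1 : (v : X) ≠ 1 := by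
          intro h; rw [h, orderOf_one] at hvo; norm_num at hvo
        have hvc : (v : X) ∈ Subgroup.zpowers c := by rw [← hC]; exact hX'C v.2
        have hzc : z ∈ Subgroup.zpowers c := by rw [← hC]; exact hZC hzZ
        have h4 := Cfsg.Agent.Helper9.involution_unique_zpowers c (v : X) z hvc hzc hvv hzz hv1 hz1
        rw [← h4]; exact v.2
      rcases hZel _ h1 with h | h
      · rw [h]; exact Subgroup.one_mem _
      · rw [h]; exact hzX'

theorem two_le_class {X : Type u} [Group X] [Finite X] (n : ℕ) (hX : Nat.card X = 2 ^ n)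
    (hnc : ∃ a b : X, a * b ≠ b * a) : 2 ≤ Group.nilpotencyClass X := by
  haveI : Fact (Nat.Prime 2) := ⟨Nat.prime_two⟩
  have hPG : IsPGroup 2 X := IsPGroup.of_card hX
  haveI : Group.IsNilpotent X := hPG.isNilpotent
  haveI : Nontrivial X := by
    obtain ⟨a, b, hab⟩ := hnc
    exact ⟨⟨a * b, b * a, hab⟩⟩
  have hcl := Group.nilpotencyClass_eq_quotient_center_plus_one (G := X)
  by_contra hlt
  have h0 : Group.nilpotencyClass (X ⧸ Subgroup.center X) = 0 := by omega
  have hss : Subsingleton (X ⧸ Subgroup.center X) :=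
    Group.nilpotencyClass_zero_iff_subsingleton.mp h0
  have htop : Subgroup.center X = ⊤ := by
    rw [← Subgroup.index_eq_one, Subgroup.index_eq_card]
    exact Nat.card_unique
  obtain ⟨a, b, hab⟩ := hnc
  apply hab
  have hb : b ∈ Subgroup.center X := by rw [htop]; exact Subgroup.mem_top b
  exact Subgroup.mem_center_iff.mp hb a

theorem class_quot_eq {X : Type u} [Group X] (N : Subgroup X) [N.Normal]
    (h : N = Subgroup.center X) :
    Group.nilpotencyClass (X ⧸ N) = Group.nilpotencyClass (X ⧸ Subgroup.center X) := by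
  subst h; rfl

theorem noncomm_of_index {X : Type u} [Group X] [Finite X] (n : ℕ) (hn : 3 ≤ n)
    (hX : Nat.card X = 2 ^ n) (hidx : (commutator X).index = 4) : ∃ a b : X, a * b ≠ b * a := by
  by_contra hcon
  push Not at hcon
  have htop : Subgroup.center X = ⊤ := by
    rw [eq_top_iff]
    intro x _
    rw [Subgroup.mem_center_iff]
    intro g
    exact hcon g x
  rw [(commutator_eq_bot_iff_center_eq_top X).mpr htop, Subgroup.index_bot, hX] at hidx
  have h1 : 2 ^ 3 ≤ 2 ^ n := Nat.pow_le_pow_right (by norm_num) hn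
  omega

theorem backward : ∀ n : ℕ, 3 ≤ n → ∀ (X : Type u) [Group X] [Finite X],
    Nat.card X = 2 ^ n → (commutator X).index = 4 → (∀ y : X, y * y ∈ commutator X) →
    Group.nilpotencyClass X = n - 1 := by
  haveI : Fact (Nat.Prime 2) := ⟨Nat.prime_two⟩
  intro n hn
  induction n, hn using Nat.le_induction with
  | base =>
    intro X _ _ hX hidx hsq
    have hnc := noncomm_of_index 3 le_rfl hX hidx
    have h1 := two_le_class 3 hX hnc
    have h2 := (Cfsg.Agent.Helper8.class_le (p := 2) 3 X hX).2 (by norm_num)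
    omega
  | succ n hn ih =>
    intro X _ _ hX hidx hsq
    have hnc := noncomm_of_index (n + 1) (by omega) hX hidx
    have hPG : IsPGroup 2 X := IsPGroup.of_card hX
    haveI : Group.IsNilpotent X := hPG.isNilpotent
    haveI : Nontrivial X := by
      obtain ⟨a, b, hab⟩ := hnc
      exact ⟨⟨a * b, b * a, hab⟩⟩
    have hX'card : Nat.card (commutator X) = 2 ^ (n - 1) := by
      have h1 := (commutator X).card_mul_index
      rw [hidx, hX] at h1
      have h2 : 2 ^ (n + 1) = 2 ^ (n - 1) * 4 := by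
        have h3 : 2 ^ (n + 1) = 2 ^ ((n - 1) + 2) := by congr 1; omega
        rw [h3, pow_add]; norm_num
      rw [h2] at h1
      exact Nat.eq_of_mul_eq_mul_right (by norm_num) h1
    have hX'ne : commutator X ≠ ⊥ := by
      rw [← Subgroup.one_lt_card_iff_ne_bot, hX'card]
      exact Nat.one_lt_pow (by omega) (by norm_num)
    have hmeet := Cfsg.Agent.Helper19.inf_center_ne_bot_of_normal (commutator X) hX'ne
    -- an involution in X' ∩ Z
    have h2dvd : 2 ∣ Nat.card ↥(commutator X ⊓ Subgroup.center X) := by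
      have hdvd : Nat.card ↥(commutator X ⊓ Subgroup.center X) ∣ 2 ^ (n + 1) := by
        rw [← hX]; exact Subgroup.card_subgroup_dvd_card _
      obtain ⟨j, hj, hjc⟩ := (Nat.dvd_prime_pow Nat.prime_two).mp hdvd
      have hj1 : j ≠ 0 := by
        intro h0
        rw [h0, pow_zero] at hjc
        have h1 := (Subgroup.one_lt_card_iff_ne_bot _).mpr hmeet
        omega
      rw [hjc]; exact dvd_pow_self 2 hj1
    obtain ⟨v, hv⟩ := exists_prime_orderOf_dvd_card' 2 h2dvd
    obtain ⟨z₀, hz₀⟩ : ∃ z₀ : X, z₀ = (v : X) := ⟨_, rfl⟩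
    have hz₀o : orderOf z₀ = 2 := by rw [hz₀, Subgroup.orderOf_coe]; exact hv
    have hz₀X' : z₀ ∈ commutator X := by rw [hz₀]; exact v.2.1
    have hz₀Z : z₀ ∈ Subgroup.center X := by rw [hz₀]; exact v.2.2
    obtain ⟨Z₀, hZ₀⟩ : ∃ Z₀ : Subgroup X, Z₀ = Subgroup.zpowers z₀ := ⟨_, rfl⟩
    have hZ₀card : Nat.card Z₀ = 2 := by rw [hZ₀, Nat.card_zpowers]; exact hz₀o
    have hZ₀le : Z₀ ≤ Subgroup.center X := by rw [hZ₀, Subgroup.zpowers_le]; exact hz₀Z
    have hZ₀X' : Z₀ ≤ commutator X := by rw [hZ₀, Subgroup.zpowers_le]; exact hz₀X'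
    haveI hZ₀n : Z₀.Normal := by
      constructor
      intro x hx g
      have h1 := Subgroup.mem_center_iff.mp (hZ₀le hx) g
      rw [h1, mul_inv_cancel_right]; exact hx
    have hsurj : Function.Surjective (QuotientGroup.mk' Z₀) := QuotientGroup.mk'_surjective Z₀
    have hQ₁ : Nat.card (X ⧸ Z₀) = 2 ^ n := by
      have h1 := Subgroup.card_eq_card_quotient_mul_card_subgroup Z₀
      rw [hX, hZ₀card, pow_succ] at h1
      exact (Nat.eq_of_mul_eq_mul_right (by norm_num) h1).symm
    have hcomm : commutator (X ⧸ Z₀) = Subgroup.map (QuotientGroup.mk' Z₀) (commutator X) := by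
      rw [commutator_def (X ⧸ Z₀), commutator_def X, Subgroup.map_commutator,
        Subgroup.map_top_of_surjective _ hsurj]
    have hidx₁ : (commutator (X ⧸ Z₀)).index = 4 := by
      have h1 : ((commutator X).map (QuotientGroup.mk' Z₀)).comap (QuotientGroup.mk' Z₀) =
          commutator X := by
        rw [Subgroup.comap_map_eq, QuotientGroup.ker_mk', sup_eq_left]; exact hZ₀X'
      rw [hcomm, ← Subgroup.index_comap_of_surjective _ hsurj, h1]; exact hidx
    have hsq₁ : ∀ q : X ⧸ Z₀, q * q ∈ commutator (X ⧸ Z₀) := by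
      intro q
      obtain ⟨y, rfl⟩ := QuotientGroup.mk_surjective q
      rw [hcomm]
      exact Subgroup.mem_map.mpr ⟨y * y, hsq y, map_mul (QuotientGroup.mk' Z₀) y y⟩
    have hcl₁ := ih (X ⧸ Z₀) hQ₁ hidx₁ hsq₁
    obtain ⟨q₁, hq₁⟩ := Cfsg.Agent.Helper8.exists_cyclic_index_two n hn (X ⧸ Z₀) hQ₁ hcl₁
    obtain ⟨c₁, rfl⟩ := QuotientGroup.mk_surjective q₁
    obtain ⟨C, hCdef⟩ : ∃ C : Subgroup X,
        C = (Subgroup.zpowers (QuotientGroup.mk' Z₀ c₁)).comap (QuotientGroup.mk' Z₀) := ⟨_, rfl⟩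
    have hCidx : C.index = 2 := by
      rw [hCdef, Subgroup.index_comap_of_surjective _ hsurj]; exact hq₁
    have hK : ∀ x ∈ C, ∃ i : ℤ, ∃ u ∈ Z₀, x = u * c₁ ^ i := by
      intro x hx
      rw [hCdef, Subgroup.mem_comap] at hx
      obtain ⟨i, hi⟩ := Subgroup.mem_zpowers_iff.mp hx
      refine ⟨i, x * (c₁ ^ i)⁻¹, ?_, by group⟩
      have h1 : QuotientGroup.mk' Z₀ (x * (c₁ ^ i)⁻¹) = 1 := by
        rw [map_mul, map_inv, map_zpow, hi, mul_inv_cancel]
      rw [QuotientGroup.mk'_apply, QuotientGroup.eq_one_iff] at h1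
      exact h1
    have hab : ∀ a ∈ C, ∀ b ∈ C, a * b = b * a := by
      intro a ha b hb
      obtain ⟨i, u, hu, rfl⟩ := hK a ha
      obtain ⟨j, w, hw, rfl⟩ := hK b hb
      have hu' := Subgroup.mem_center_iff.mp (hZ₀le hu)
      have hw' := Subgroup.mem_center_iff.mp (hZ₀le hw)
      calc u * c₁ ^ i * (w * c₁ ^ j) = u * (c₁ ^ i * w) * c₁ ^ j := by group
        _ = u * (w * c₁ ^ i) * c₁ ^ j := by rw [hw' (c₁ ^ i)]
        _ = (u * w) * (c₁ ^ i * c₁ ^ j) := by group
        _ = (w * u) * (c₁ ^ j * c₁ ^ i) := by rw [hw' u, zpow_mul_comm]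
        _ = w * (u * c₁ ^ j) * c₁ ^ i := by group
        _ = w * (c₁ ^ j * u) * c₁ ^ i := by rw [← hu' (c₁ ^ j)]
        _ = w * c₁ ^ j * (u * c₁ ^ i) := by group
    have hZC : Subgroup.center X ≤ C :=
      Cfsg.Agent.Helper8.center_le_of_index_two C hCidx hab hnc
    obtain ⟨-, hform⟩ := Cfsg.Agent.Helper8.card_formula C hCidx hab hZC
    have hCcard : Nat.card C = 2 ^ n := by
      have h1 := C.card_mul_index
      rw [hCidx, hX, pow_succ] at h1
      exact Nat.eq_of_mul_eq_mul_right (by norm_num) h1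
    have hZ : Nat.card (Subgroup.center X) = 2 := by
      rw [hCcard, hX'card] at hform
      have h2 : 2 ^ n = 2 * 2 ^ (n - 1) := by rw [← pow_succ']; congr 1; omega
      rw [h2] at hform
      exact (Nat.eq_of_mul_eq_mul_right (by positivity) hform).symm
    have hZeq : Z₀ = Subgroup.center X :=
      Subgroup.eq_of_le_of_card_ge hZ₀le (by rw [hZ, hZ₀card])
    have hcl₂ := class_quot_eq Z₀ hZeq
    have hcl := Group.nilpotencyClass_eq_quotient_center_plus_one (G := X)
    omega

/-- A 2-group of order 2^n, n ≥ 3, is of maximal class exactly when its commutator quotient is a Klein four-group. -/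
theorem result {X : Type*} [Group X] [Finite X] (n : ℕ) (hn : 3 ≤ n) (hX : Nat.card X = 2 ^ n) : Group.nilpotencyClass X = n - 1 ↔ IsKleinFour (X ⧸ commutator X) := by
  constructor
  · exact forward n hn hX
  · intro h
    obtain ⟨hidx, hsq⟩ := (Cfsg.Agent.Helper8.kleinFour_quot_iff (commutator X)).mp h
    exact backward n hn X hX hidx hsq

end Cfsg.Agent.S0115
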