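import Cfsg.Statements.S4189
import Mathlib
import Cfsg.Agent.Helper8.MaxClass
import Cfsg.Agent.Helper8.MaxClass2
import Cfsg.Agent.Helper8.TwoLocal
import Cfsg.Agent.Helper9.Dihedral
import Cfsg.Agent.Helper16.QuatExt
import Cfsg.Agent.S0115
import Cfsg.Agent.S1236

set_option autoImplicit false
open Cfsg

namespace Cfsg.Agent.S4189

open scoped commutatorElement

universe u

/-- A finite p-group with cyclic abelianization is abelian. -/
theorem comm_of_cyclic_ab {p : ℕ} [Fact p.Prime] : ∀ n : ℕ, ∀ (G : Type u) [Group G] [Finite G],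
    Nat.card G = n → IsPGroup p G → IsCyclic (G ⧸ commutator G) → ∀ a b : G, a * b = b * a := by
  intro n
  induction n using Nat.strong_induction_on with
  | _ n ih =>
    intro G _ _ hcard hG hcyc
    by_cases htriv : Subsingleton G
    · intro a b; rw [Subsingleton.elim a b]
    · haveI : Nontrivial G := not_subsingleton_iff_nontrivial.mp htriv
      haveI := hG.center_nontrivial
      have hlt : Nat.card (G ⧸ Subgroup.center G) < n := by
        have h1 := Subgroup.card_eq_card_quotient_mul_card_subgroup (Subgroup.center G)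
        have h2 : 1 < Nat.card (Subgroup.center G) :=
          Finite.one_lt_card_iff_nontrivial.mpr inferInstance
        have h3 : 0 < Nat.card (G ⧸ Subgroup.center G) := Nat.card_pos
        rw [hcard] at h1
        nlinarith
      have hGq : IsPGroup p (G ⧸ Subgroup.center G) := hG.to_quotient _
      have hcyc' : IsCyclic ((G ⧸ Subgroup.center G) ⧸ commutator (G ⧸ Subgroup.center G)) := by
        obtain ⟨φ, hφdef⟩ : ∃ φ : G →* Abelianization (G ⧸ Subgroup.center G),
          φ = Abelianization.of.comp (QuotientGroup.mk' (Subgroup.center G)) := ⟨_, rfl⟩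
        have hs1 : Function.Surjective
            (Abelianization.of : (G ⧸ Subgroup.center G) →* Abelianization (G ⧸ Subgroup.center G)) :=
          QuotientGroup.mk'_surjective _
        have hφ : Function.Surjective φ := by
          intro y
          obtain ⟨x, rfl⟩ := hs1 y
          obtain ⟨g, rfl⟩ := QuotientGroup.mk'_surjective (Subgroup.center G) x
          exact ⟨g, by rw [hφdef]; rfl⟩
        have hker : commutator G ≤ φ.ker := Abelianization.commutator_subset_ker φ
        have hψ : Function.Surjective (QuotientGroup.lift (commutator G) φ hker) := by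
          intro y
          obtain ⟨g, rfl⟩ := hφ y
          exact ⟨QuotientGroup.mk g, rfl⟩
        haveI := hcyc
        have h : IsCyclic (Abelianization (G ⧸ Subgroup.center G)) :=
          isCyclic_of_surjective (QuotientGroup.lift (commutator G) φ hker) hψ
        exact h
      have hab := ih _ hlt (G ⧸ Subgroup.center G) rfl hGq hcyc'
      have hle : commutator G ≤ Subgroup.center G := by
        rw [commutator_eq_closure, Subgroup.closure_le]
        rintro _ ⟨a, b, rfl⟩
        rw [SetLike.mem_coe, ← QuotientGroup.eq_one_iff]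
        have h1 : ((⁅a, b⁆ : G) : G ⧸ Subgroup.center G)
            = ⁅(a : G ⧸ Subgroup.center G), (b : G ⧸ Subgroup.center G)⁆ := rfl
        rw [h1, commutatorElement_eq_one_iff_mul_comm]
        exact hab _ _
      have hker : (QuotientGroup.mk' (commutator G)).ker ≤ Subgroup.center G := by
        rw [QuotientGroup.ker_mk']; exact hle
      haveI := hcyc
      have hfin := MonoidHom.isMulCommutative_of_isCyclic_of_ker_le_center
        (QuotientGroup.mk' (commutator G)) hker
      exact fun a b => hfin.is_comm.comm a b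

theorem klein_of_index_four {P : Type u} [Group P] [Finite P] (hP : IsPGroup 2 P)
    (hna : ¬ IsMulCommutative P) (h4 : (commutator P).index = 4) :
    IsKleinFour (P ⧸ commutator P) := by
  haveI : Fact (Nat.Prime 2) := ⟨Nat.prime_two⟩
  rw [Cfsg.Agent.Helper8.kleinFour_quot_iff]
  refine ⟨h4, ?_⟩
  by_contra hcon
  push Not at hcon
  obtain ⟨y, hy⟩ := hcon
  apply hna
  have hcard : Nat.card (P ⧸ commutator P) = 4 := by rw [← Subgroup.index_eq_card]; exact h4
  have hcyc : IsCyclic (P ⧸ commutator P) := by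
    have ho : orderOf (QuotientGroup.mk y : P ⧸ commutator P) = 4 := by
      have h1 : orderOf (QuotientGroup.mk y : P ⧸ commutator P) ∣ 2 ^ 2 := by
        have := orderOf_dvd_natCard (QuotientGroup.mk y : P ⧸ commutator P)
        rw [hcard] at this
        exact this
      obtain ⟨j, hj, hoj⟩ := (Nat.dvd_prime_pow Nat.prime_two).mp h1
      have hy2 : (QuotientGroup.mk y : P ⧸ commutator P) ^ 2 ≠ 1 := by
        intro h
        apply hy
        have h' : (QuotientGroup.mk y : P ⧸ commutator P) * QuotientGroup.mk y = 1 := by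
          rw [← pow_two]; exact h
        rw [← QuotientGroup.eq_one_iff, QuotientGroup.mk_mul]
        exact h'
      have hj2 : j = 2 := by
        by_contra hne
        have hj01 : j = 0 ∨ j = 1 := by omega
        apply hy2
        rw [← orderOf_dvd_iff_pow_eq_one, hoj]
        rcases hj01 with rfl | rfl <;> norm_num
      rw [hoj, hj2]; norm_num
    exact isCyclic_of_orderOf_eq_card (QuotientGroup.mk y : P ⧸ commutator P) (by rw [ho, hcard])
  exact ⟨⟨comm_of_cyclic_ab (p := 2) _ P rfl hP hcyc⟩⟩

theorem aut_pow_cyc {P : Type u} [Group P] (α : MulAut P) (c : P) (k : ℕ) (hk : α c = c ^ k) :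
    ∀ i : ℕ, (α ^ i) c = c ^ (k ^ i) := by
  intro i
  induction i with
  | zero => simp
  | succ i ih =>
    rw [pow_succ', MulAut.mul_apply, ih, map_pow, hk, ← pow_mul, pow_succ']

theorem aut_pow_out {P : Type u} [Group P] (α : MulAut P) (t d : P) (ht : α t = t * d)
    (hd : α d = d) : ∀ i : ℕ, (α ^ i) t = t * d ^ i := by
  intro i
  induction i with
  | zero => simp
  | succ i ih =>
    rw [pow_succ', MulAut.mul_apply, ih, map_mul, map_pow, ht, hd, pow_succ', mul_assoc]

/-- An automorphism of odd order stabilizing a cyclic 2-subgroup of index 2 is trivial. -/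
theorem aut_trivial {P : Type u} [Group P] [Finite P] (α : MulAut P) (r : ℕ) (hr : Odd r)
    (hαr : α ^ r = 1) (c : P) (m : ℕ) (hc : orderOf c = 2 ^ m)
    (hc2 : (Subgroup.zpowers c).index = 2) (hinv : α c ∈ Subgroup.zpowers c) : α = 1 := by
  have hfixc : α c = c := by
    obtain ⟨k, hk⟩ := (Submonoid.mem_powers_iff _ _).mp (mem_powers_iff_mem_zpowers.mpr hinv)
    have h1 := aut_pow_cyc α c k hk.symm r
    rw [hαr, MulAut.one_apply] at h1
    have h2 : c ^ (k ^ r) = c ^ 1 := by rw [pow_one]; exact h1.symm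
    have h3 : k ^ r ≡ 1 [MOD 2 ^ m] := by rw [← hc]; exact pow_eq_pow_iff_modEq.mp h2
    have h4 := Cfsg.Agent.Helper8.nt_odd_pow k r m hr h3
    have h5 : c ^ k = c ^ 1 := by rw [pow_eq_pow_iff_modEq, hc]; exact h4
    rw [← hk, h5, pow_one]
  have hfixC : ∀ g ∈ Subgroup.zpowers c, α g = g := by
    intro g hg
    obtain ⟨j, rfl⟩ := Subgroup.mem_zpowers_iff.mp hg
    rw [map_zpow, hfixc]
  obtain ⟨t, ht⟩ := Cfsg.Agent.Helper8.exists_not_mem_of_index_two _ hc2
  have hαt : α t ∉ Subgroup.zpowers c := by
    intro h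
    have h1 := hfixC _ h
    have h2 : α t = t := α.injective h1
    exact ht (h2 ▸ h)
  have hd : t⁻¹ * α t ∈ Subgroup.zpowers c := by
    rw [Subgroup.mul_mem_iff_of_index_two hc2]
    constructor
    · intro h; exact absurd ((Subgroup.inv_mem_iff _).mp h) ht
    · intro h; exact absurd h hαt
  have hαt' : α t = t * (t⁻¹ * α t) := by group
  have h6 := aut_pow_out α t (t⁻¹ * α t) hαt' (hfixC _ hd) r
  rw [hαr, MulAut.one_apply] at h6
  have h7 : (t⁻¹ * α t) ^ r = 1 := by
    have h7' : t * 1 = t * (t⁻¹ * α t) ^ r := by rw [mul_one]; exact h6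
    exact (mul_left_cancel h7').symm
  have h8 : orderOf (t⁻¹ * α t) ∣ r := orderOf_dvd_of_pow_eq_one h7
  have h9 : orderOf (t⁻¹ * α t) ∣ 2 ^ m := by rw [← hc]; exact orderOf_dvd_of_mem_zpowers hd
  obtain ⟨j, hj, hoj⟩ := (Nat.dvd_prime_pow Nat.prime_two).mp h9
  have hj0 : j = 0 := by
    by_contra hne
    have h2j : 2 ∣ 2 ^ j := dvd_pow_self 2 hne
    rw [← hoj] at h2j
    obtain ⟨q, hq⟩ := hr
    have := h2j.trans h8
    omega
  have h11 : t⁻¹ * α t = 1 := orderOf_eq_one_iff.mp (by rw [hoj, hj0, pow_zero])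
  have h12 : α t = t := by rw [hαt', h11, mul_one]
  apply MulEquiv.ext
  intro g
  rw [MulAut.one_apply]
  rcases Cfsg.Agent.Helper8.mem_or_eq_mul _ hc2 t ht g with hg | ⟨a, ha, rfl⟩
  · exact hfixC g hg
  · rw [map_mul, hfixC a ha, h12]

/-- Let P be a finite non-abelian 2-group whose commutator subgroup has index 4 and whose automorphism group is not a 2-group (some automorphism has order that is not a power of 2). Then P is isomorphic to the quaternion group of order 8. -/
theorem result {P : Type*} [Group P] [Finite P] (hP : IsPGroup 2 P) (hna : ¬ IsMulCommutative P) (h4 : (commutator P).index = 4) (haut : ¬ IsPGroup 2 (MulAut P)) : Nonempty (P ≃* QuaternionGroup 2) := by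
  haveI : Fact (Nat.Prime 2) := ⟨Nat.prime_two⟩
  obtain ⟨n, hn⟩ := IsPGroup.iff_card.mp hP
  have hK := klein_of_index_four hP hna h4
  have hnc : ∃ a b : P, a * b ≠ b * a := by
    by_contra hcon
    push Not at hcon
    exact hna ⟨⟨hcon⟩⟩
  have hn3 : 3 ≤ n := by
    have h1 := Subgroup.card_mul_index (commutator P)
    rw [h4, hn] at h1
    have h4dvd : 2 ^ 2 ∣ 2 ^ n := ⟨Nat.card (commutator P), by rw [← h1]; ring⟩
    have h5 : 2 ≤ n := (Nat.pow_dvd_pow_iff_le_right (by norm_num : 1 < 2)).mp h4dvd
    by_contra hcon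
    have h6 : n = 2 := by omega
    rw [h6] at h1
    have h7 : Nat.card (commutator P) = 1 := by
      have h22 : (2:ℕ) ^ 2 = 4 := by norm_num
      rw [h22] at h1
      omega
    obtain ⟨a, b, hab⟩ := hnc
    apply hab
    have h8 : ⁅a, b⁆ ∈ commutator P := by
      rw [commutator_def]
      exact Subgroup.commutator_mem_commutator (Subgroup.mem_top a) (Subgroup.mem_top b)
    have h9 : commutator P = ⊥ := Subgroup.eq_bot_of_card_eq _ h7
    rw [h9, Subgroup.mem_bot] at h8
    exact commutatorElement_eq_one_iff_mul_comm.mp h8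
  have hc := (Cfsg.Agent.S0115.result n hn3 hn).mpr hK
  obtain ⟨c, hc2⟩ := Cfsg.Agent.Helper8.exists_cyclic_index_two n hn3 P hn hc
  have hZ := (Cfsg.Agent.Helper8.maxclass_center (p := 2) n hn3 hn hc).1
  have habC : ∀ a ∈ Subgroup.zpowers c, ∀ b ∈ Subgroup.zpowers c, a * b = b * a :=
    fun a ha b hb => Cfsg.Agent.S1236.zp_comm c a b ha hb
  have hZC := Cfsg.Agent.Helper8.center_le_of_index_two _ hc2 habC hnc
  have hoc : orderOf c = 2 ^ (n - 1) := by
    have h1 := Subgroup.card_mul_index (Subgroup.zpowers c)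
    rw [hc2, hn, Nat.card_zpowers] at h1
    have h2 : 2 ^ n = 2 ^ (n - 1) * 2 := by
      rw [← pow_succ]; congr 1; omega
    rw [h2] at h1
    exact Nat.eq_of_mul_eq_mul_right (by norm_num) h1
  obtain ⟨r, hrp, hr2, hrd⟩ : ∃ r : ℕ, r.Prime ∧ r ≠ 2 ∧ r ∣ Nat.card (MulAut P) := by
    by_contra hcon
    apply haut
    have h1 := Nat.eq_prime_pow_of_unique_prime_dvd (n := Nat.card (MulAut P)) (p := 2)
      Nat.card_pos.ne'
      (fun {d} hd hdvd => by
        by_contra hne
        exact hcon ⟨d, hd, hne, hdvd⟩)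
    exact IsPGroup.of_card h1
  haveI : Fact r.Prime := ⟨hrp⟩
  obtain ⟨α, hα⟩ := exists_prime_orderOf_dvd_card' r hrd
  have hrodd : Odd r := hrp.odd_of_ne_two hr2
  have hαr : α ^ r = 1 := by rw [← hα]; exact pow_orderOf_eq_one α
  have hα1 : α ≠ 1 := by
    intro h
    rw [h, orderOf_one] at hα
    exact hrp.one_lt.ne hα
  by_cases hinv : α c ∈ Subgroup.zpowers c
  · exact absurd (aut_trivial α r hrodd hαr c (n - 1) hoc hc2 hinv) hα1
  · obtain ⟨y, hy⟩ : ∃ y, y = α c := ⟨_, rfl⟩
    rw [← hy] at hinv
    have hoy : orderOf y = 2 ^ (n - 1) := by rw [hy, MulEquiv.orderOf_eq, hoc]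
    have hy2 : (Subgroup.zpowers y).index = 2 := by
      have h1 := Subgroup.card_mul_index (Subgroup.zpowers y)
      have h2 := Subgroup.card_mul_index (Subgroup.zpowers c)
      rw [Nat.card_zpowers, hoy] at h1
      rw [Nat.card_zpowers, hoc, hc2] at h2
      exact Nat.eq_of_mul_eq_mul_left (by positivity) (h1.trans h2.symm)
    have habY : ∀ a ∈ Subgroup.zpowers y, ∀ b ∈ Subgroup.zpowers y, a * b = b * a :=
      fun a ha b hb => Cfsg.Agent.S1236.zp_comm y a b ha hb
    have hint : Subgroup.zpowers c ⊓ Subgroup.zpowers y ≤ Subgroup.center P := by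
      rintro g ⟨hgC, hgY⟩
      rw [Subgroup.mem_center_iff]
      intro x
      rcases Cfsg.Agent.Helper8.mem_or_eq_mul _ hc2 y hinv x with hx | ⟨a, ha, rfl⟩
      · exact habC x hx g hgC
      · calc a * y * g = a * (y * g) := by group
          _ = a * (g * y) := by rw [habY y (Subgroup.mem_zpowers y) g hgY]
          _ = (a * g) * y := by group
          _ = (g * a) * y := by rw [habC a ha g hgC]
          _ = g * (a * y) := by group
    have hn3' : n = 3 := by
      have h1 := Subgroup.card_mul_index (Subgroup.zpowers c ⊓ Subgroup.zpowers y)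
      have h2 := Subgroup.index_inf_le (H := Subgroup.zpowers c) (K := Subgroup.zpowers y)
      rw [hc2, hy2] at h2
      have h3 := Subgroup.card_le_of_le hint
      rw [hZ] at h3
      rw [hn] at h1
      have h4' : 2 ^ n ≤ 2 * (2 * 2) := by
        rw [← h1]; exact Nat.mul_le_mul h3 h2
      have h5 : 2 ^ n ≤ 2 ^ 3 := by
        have h23 : (2:ℕ) ^ 3 = 2 * (2 * 2) := by norm_num
        rw [h23]; exact h4'
      have h6 : n ≤ 3 := (Nat.pow_le_pow_iff_right (by norm_num : 1 < 2)).mp h5
      omega
    subst hn3'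
    have hoc4 : orderOf c = 4 := by rw [hoc]; norm_num
    have hoy4 : orderOf y = 4 := by rw [hoy]; norm_num
    haveI hCn : (Subgroup.zpowers c).Normal := Subgroup.normal_of_index_eq_two hc2
    have hconj : y * c * y⁻¹ = c⁻¹ := by
      have hmem : y * c * y⁻¹ ∈ Subgroup.zpowers c := hCn.conj_mem c (Subgroup.mem_zpowers c) y
      obtain ⟨k, hk⟩ := (Submonoid.mem_powers_iff _ _).mp (mem_powers_iff_mem_zpowers.mpr hmem)
      have hk' : c ^ (k % 4) = y * c * y⁻¹ := by
        rw [← hk, ← hoc4, pow_mod_orderOf]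
      have hc4 : c ^ 4 = 1 := by rw [← hoc4]; exact pow_orderOf_eq_one c
      have hc1 : c ≠ 1 := by intro h; rw [h, orderOf_one] at hoc4; omega
      have hc2' : c ^ 2 ≠ 1 := by
        intro h
        have := orderOf_dvd_of_pow_eq_one h
        rw [hoc4] at this
        omega
      have hcases : k % 4 = 0 ∨ k % 4 = 1 ∨ k % 4 = 2 ∨ k % 4 = 3 := by omega
      rcases hcases with h | h | h | h <;> rw [h] at hk'
      · exfalso; apply hc1
        rw [pow_zero] at hk'
        have h1 : y * c * y⁻¹ = y * 1 * y⁻¹ := by rw [← hk']; group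
        exact mul_left_cancel (mul_right_cancel h1)
      · exfalso
        rw [pow_one] at hk'
        have hyc : y * c = c * y := by
          calc y * c = (y * c * y⁻¹) * y := by group
            _ = c * y := by rw [← hk']
        have hycen : y ∈ Subgroup.center P := by
          rw [Subgroup.mem_center_iff]
          intro x
          have hyC : ∀ a ∈ Subgroup.zpowers c, a * y = y * a := by
            intro a ha
            obtain ⟨j, rfl⟩ := Subgroup.mem_zpowers_iff.mp ha
            exact (Commute.zpow_left (show Commute c y from hyc.symm) j).eq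
          rcases Cfsg.Agent.Helper8.mem_or_eq_mul _ hc2 y hinv x with hx | ⟨a, ha, rfl⟩
          · exact hyC x hx
          · calc a * y * y = (y * a) * y := by rw [hyC a ha]
              _ = y * (a * y) := by group
        exact hinv (hZC hycen)
      · exfalso; apply hc2'
        have h1 : (y * c * y⁻¹) ^ 2 = 1 := by rw [← hk', ← pow_mul]; exact hc4
        rw [conj_pow] at h1
        have h2 : y * c ^ 2 * y⁻¹ = y * 1 * y⁻¹ := by rw [h1]; group
        exact mul_left_cancel (mul_right_cancel h2)
      · rw [← hk']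
        apply eq_inv_of_mul_eq_one_left
        rw [← pow_succ]; exact hc4
    have hinvC : ∀ a ∈ Subgroup.zpowers c, y * a * y⁻¹ = a⁻¹ := by
      intro a ha
      obtain ⟨j, rfl⟩ := (Submonoid.mem_powers_iff _ _).mp (mem_powers_iff_mem_zpowers.mpr ha)
      rw [← conj_pow, hconj, inv_pow]
    have hyy : y * y ≠ 1 := by
      intro h
      have := orderOf_dvd_of_pow_eq_one (show y ^ 2 = 1 by rw [pow_two]; exact h)
      rw [hoy4] at this
      omega
    have hinvol : ∀ u : P, orderOf u = 2 → u ∈ Subgroup.zpowers c := by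
      intro u hu
      by_contra huC
      obtain ⟨a, ha, rfl⟩ : ∃ a ∈ Subgroup.zpowers c, u = a * y := by
        rcases Cfsg.Agent.Helper8.mem_or_eq_mul _ hc2 y hinv u with h | h
        · exact absurd h huC
        · exact h
      apply hyy
      have h1 : (a * y) * (a * y) = 1 := by rw [← pow_two, ← hu]; exact pow_orderOf_eq_one _
      calc y * y = a * a⁻¹ * y * y := by group
        _ = a * (y * a * y⁻¹) * y * y := by rw [hinvC a ha]
        _ = (a * y) * (a * y) := by group
        _ = 1 := h1
    obtain ⟨z, hzZ, hz1, hzz, -⟩ := Cfsg.Agent.Helper8.card_two_elems _ hZ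
    have hoz : orderOf z = 2 := orderOf_eq_prime (by rw [pow_two]; exact hzz) hz1
    have huniq : ∃! x : P, orderOf x = 2 := by
      refine ⟨z, hoz, ?_⟩
      intro u hu
      have hu1 : u ≠ 1 := by intro h; rw [h, orderOf_one] at hu; omega
      have huu : u * u = 1 := by rw [← pow_two, ← hu]; exact pow_orderOf_eq_one u
      exact Cfsg.Agent.Helper9.involution_unique_zpowers c u z (hinvol u hu) (hZC hzZ) huu hzz
        hu1 hz1
    obtain ⟨k, hk, ⟨e⟩⟩ := Cfsg.Agent.Helper16.QuatExt.exists_quat hP hna huniq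
    have hk1 : k = 1 := by
      haveI : NeZero (2 ^ k) := ⟨by positivity⟩
      have h1 : Nat.card P = Nat.card (QuaternionGroup (2 ^ k)) := Nat.card_congr e.toEquiv
      rw [hn, Nat.card_eq_fintype_card, QuaternionGroup.card] at h1
      have h8 : (2:ℕ) ^ 3 = 8 := by norm_num
      rw [h8] at h1
      have h2 : 2 ^ k = 2 ^ 1 := by rw [pow_one]; omega
      exact Nat.pow_right_injective (le_refl 2) h2
    subst hk1
    rw [pow_one] at e
    exact ⟨e⟩

end Cfsg.Agent.S4189
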