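import Cfsg.Statements.S0112
import Mathlib
import Cfsg.Agent.Helper1.Hall

set_option autoImplicit false
open Cfsg
open scoped commutatorElement

namespace Cfsg.Agent.S0112

universe u

theorem card_lt_of_lt' {G : Type*} [Group G] [Finite G] {H K : Subgroup G} (h : H < K) :
    Nat.card H < Nat.card K :=
  lt_of_le_of_ne (Subgroup.card_le_of_le h.le)
    (fun e => h.ne (Subgroup.eq_of_le_of_card_ge h.le e.ge))

theorem mem_centralizer_singleton {G : Type*} [Group G] (x g : G) :
    g ∈ Subgroup.centralizer {x} ↔ x * g = g * x := by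
  constructor
  · intro h
    exact Subgroup.mem_centralizer_iff.mp h x rfl
  · intro h
    apply Subgroup.mem_centralizer_iff.mpr
    intro w hw
    rw [Set.mem_singleton_iff] at hw
    rw [hw]; exact h

theorem main (p : ℕ) [Fact p.Prime] : ∀ n : ℕ, ∀ (X : Type u) [Group X] [Finite X],
    Nat.card X = p ^ n → (∃ x : X, Nat.card (Subgroup.centralizer {x}) = p ^ 2) →
    Group.nilpotencyClass X = n - 1 := by
  intro n
  induction n using Nat.strongRecOn with | ind n ih => ?_
  intro X _ _ hX hex
  obtain ⟨x, hx⟩ := hex
  have hp : p.Prime := Fact.out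
  have hXp : IsPGroup p X := IsPGroup.of_card hX
  haveI : Group.IsNilpotent X := hXp.isNilpotent
  have hn2 : 2 ≤ n := by
    have h1 : p ^ 2 ≤ p ^ n := by
      rw [← hx, ← hX]; exact Subgroup.card_le_card_group _
    exact (Nat.pow_le_pow_iff_right hp.one_lt).mp h1
  haveI : Nontrivial X := by
    apply Finite.one_lt_card_iff_nontrivial.mp
    rw [hX]; exact Nat.one_lt_pow (by omega) hp.one_lt
  have hxC : x ∈ Subgroup.centralizer {x} := (mem_centralizer_singleton x x).mpr rfl
  by_cases hxZ : x ∈ Subgroup.center X
  · have hCtop : Subgroup.centralizer {x} = ⊤ := by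
      rw [eq_top_iff]
      intro g _
      exact (mem_centralizer_singleton x g).mpr (Subgroup.mem_center_iff.mp hxZ g).symm
    have hcard : Nat.card X = p ^ 2 := by
      rw [← hx, hCtop, Subgroup.card_top]
    have hn : n = 2 := by
      rw [hX] at hcard
      exact Nat.pow_right_injective hp.two_le hcard
    have hcomm : ∀ a b : X, a * b = b * a := IsPGroup.commutative_of_card_eq_prime_sq hcard
    have h1 : Group.nilpotencyClass X ≤ 1 :=
      Group.IsNilpotent.nilpotencyClass_le_one_iff.mpr ⟨⟨hcomm⟩⟩
    have h0 : Group.nilpotencyClass X ≠ 0 := by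
      intro h0
      have := Group.nilpotencyClass_zero_iff_subsingleton.mp h0
      exact not_subsingleton X this
    omega
  · have hZC : Subgroup.center X ≤ Subgroup.centralizer {x} := Subgroup.center_le_centralizer _
    have hZltC : Subgroup.center X < Subgroup.centralizer {x} :=
      lt_of_le_of_ne hZC (fun h => hxZ (h ▸ hxC))
    have hZcard : Nat.card (Subgroup.center X) = p := by
      have h1 : Nat.card (Subgroup.center X) ∣ p ^ 2 := by
        rw [← hx]; exact Subgroup.card_dvd_of_le hZC
      obtain ⟨k, hk, hk'⟩ := (Nat.dvd_prime_pow hp).mp h1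
      have h2 : Nat.card (Subgroup.center X) < p ^ 2 := by
        rw [← hx]; exact card_lt_of_lt' hZltC
      have h3 : Nat.card (Subgroup.center X) ≠ 1 := by
        intro h
        have h4 := Subgroup.eq_bot_of_card_eq _ h
        exact (hXp.bot_lt_center).ne' h4
      rw [hk'] at h2 h3
      have h5 : k < 2 := (Nat.pow_lt_pow_iff_right hp.one_lt).mp h2
      have h6 : k ≠ 0 := by
        rintro rfl
        exact h3 (pow_zero p)
      have h7 : k = 1 := by omega
      rw [hk', h7, pow_one]
    have hXbar : Nat.card (X ⧸ Subgroup.center X) = p ^ (n - 1) := by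
      have h1 : Nat.card X = Nat.card (X ⧸ Subgroup.center X) * Nat.card (Subgroup.center X) :=
        Subgroup.card_eq_card_quotient_mul_card_subgroup _
      rw [hX, hZcard] at h1
      have h2 : p ^ n = p ^ (n - 1) * p := by
        rw [← pow_succ]; congr 1; omega
      rw [h2] at h1
      exact (Nat.eq_of_mul_eq_mul_right hp.pos h1).symm
    have hXbarp : IsPGroup p (X ⧸ Subgroup.center X) := hXp.to_quotient _
    obtain ⟨xb, hxb⟩ : ∃ xb : X ⧸ Subgroup.center X,
        xb = QuotientGroup.mk' (Subgroup.center X) x := ⟨_, rfl⟩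
    have hxb1 : xb ≠ 1 := by
      intro h
      rw [hxb] at h
      exact hxZ ((QuotientGroup.eq_one_iff x).mp h)
    haveI : Nontrivial (X ⧸ Subgroup.center X) := ⟨⟨xb, 1, hxb1⟩⟩
    let D : Subgroup X :=
      (Subgroup.centralizer {xb}).comap (QuotientGroup.mk' (Subgroup.center X))
    have hcardD : Nat.card D = p * Nat.card (Subgroup.centralizer {xb}) := by
      have h0 := Helper1.card_comap_mk (Subgroup.center X) (Subgroup.centralizer {xb})
      rw [hZcard] at h0
      exact h0
    have hDZ : ∀ g : D, ⁅(g : X), x⁆ ∈ Subgroup.center X := by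
      intro g
      have h1 : QuotientGroup.mk' (Subgroup.center X) (g : X) ∈ Subgroup.centralizer {xb} := g.2
      have h2 := (mem_centralizer_singleton _ _).mp h1
      apply (QuotientGroup.eq_one_iff _).mp
      show (QuotientGroup.mk' (Subgroup.center X)) ⁅(g : X), x⁆ = 1
      rw [map_commutatorElement, ← hxb]
      exact commutatorElement_eq_one_iff_mul_comm.mpr h2.symm
    let ψ : D →* Subgroup.center X := MonoidHom.mk' (fun g => ⟨⁅(g : X), x⁆, hDZ g⟩) (by
      intro g h
      apply Subtype.ext
      have hc : (g : X) * ⁅(h : X), x⁆ = ⁅(h : X), x⁆ * (g : X) :=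
        Subgroup.mem_center_iff.mp (hDZ h) (g : X)
      show ⁅(g : X) * (h : X), x⁆ = ⁅(g : X), x⁆ * ⁅(h : X), x⁆
      calc ⁅(g : X) * (h : X), x⁆ = ((g : X) * ⁅(h : X), x⁆) * x * (g : X)⁻¹ * x⁻¹ := by
            simp only [commutatorElement_def]; group
        _ = (⁅(h : X), x⁆ * (g : X)) * x * (g : X)⁻¹ * x⁻¹ := by rw [hc]
        _ = ⁅(h : X), x⁆ * ⁅(g : X), x⁆ := by simp only [commutatorElement_def]; group
        _ = ⁅(g : X), x⁆ * ⁅(h : X), x⁆ := (Subgroup.mem_center_iff.mp (hDZ h) _).symm)
    have hCD : Subgroup.centralizer {x} ≤ D := by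
      intro g hg
      show QuotientGroup.mk' (Subgroup.center X) g ∈ Subgroup.centralizer {xb}
      apply (mem_centralizer_singleton _ _).mpr
      have h1 := (mem_centralizer_singleton _ _).mp hg
      rw [hxb, ← map_mul, ← map_mul, h1]
    have hker : ψ.ker = (Subgroup.centralizer {x}).subgroupOf D := by
      ext g
      rw [MonoidHom.mem_ker, Subgroup.mem_subgroupOf, mem_centralizer_singleton]
      constructor
      · intro h
        have h1 : ⁅(g : X), x⁆ = 1 := congrArg Subtype.val h
        exact (commutatorElement_eq_one_iff_mul_comm.mp h1).symm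
      · intro h
        apply Subtype.ext
        show ⁅(g : X), x⁆ = 1
        exact commutatorElement_eq_one_iff_mul_comm.mpr h.symm
    have hcardker : Nat.card ψ.ker = p ^ 2 := by
      rw [hker, ← hx]
      exact Nat.card_congr (Subgroup.subgroupOfEquivOfLe hCD).toEquiv
    have hcardD' : Nat.card D = p ^ 2 * Nat.card ψ.range := by
      rw [← Subgroup.card_mul_index ψ.ker, hcardker, Subgroup.index_ker]
    have hrange : Nat.card ψ.range ∣ p := by
      rw [← hZcard]; exact Subgroup.card_subgroup_dvd_card _
    have hCb : Nat.card (Subgroup.centralizer {xb}) = p ^ 2 := by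
      rcases (Nat.dvd_prime hp).mp hrange with h1 | h1
      · exfalso
        rw [h1, mul_one, hcardD] at hcardD'
        have hCbp : Nat.card (Subgroup.centralizer {xb}) = p := by
          have h0 : p * Nat.card (Subgroup.centralizer {xb}) = p * p := by rw [hcardD', sq]
          exact Nat.eq_of_mul_eq_mul_left hp.pos h0
        have hcen_le : Subgroup.center (X ⧸ Subgroup.center X) ≤ Subgroup.centralizer {xb} :=
          Subgroup.center_le_centralizer _
        have hcen_card : Nat.card (Subgroup.center (X ⧸ Subgroup.center X)) = p := by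
          have h2 : Nat.card (Subgroup.center (X ⧸ Subgroup.center X)) ∣ p := by
            rw [← hCbp]; exact Subgroup.card_dvd_of_le hcen_le
          rcases (Nat.dvd_prime hp).mp h2 with h3 | h3
          · exfalso
            exact (hXbarp.bot_lt_center).ne' (Subgroup.eq_bot_of_card_eq _ h3)
          · exact h3
        have hcen_eq : Subgroup.center (X ⧸ Subgroup.center X) = Subgroup.centralizer {xb} :=
          Subgroup.eq_of_le_of_card_ge hcen_le (by rw [hcen_card, hCbp])
        have hxbcen : xb ∈ Subgroup.center (X ⧸ Subgroup.center X) := by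
          rw [hcen_eq]; exact (mem_centralizer_singleton xb xb).mpr rfl
        have hCbtop : Subgroup.centralizer {xb} = ⊤ := by
          rw [eq_top_iff]
          intro g _
          exact (mem_centralizer_singleton xb g).mpr (Subgroup.mem_center_iff.mp hxbcen g).symm
        have hXbp : Nat.card (X ⧸ Subgroup.center X) = p := by
          rw [← hCbp, hCbtop, Subgroup.card_top]
        haveI : IsCyclic (X ⧸ Subgroup.center X) := isCyclic_of_prime_card hXbp
        have hcomm := commutative_of_cyclic_center_quotient
          (QuotientGroup.mk' (Subgroup.center X)) (by rw [QuotientGroup.ker_mk'])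
        exact hxZ (Subgroup.mem_center_iff.mpr (fun g => hcomm g x))
      · rw [h1, hcardD] at hcardD'
        have h0 : p * Nat.card (Subgroup.centralizer {xb}) = p * p ^ 2 := by
          rw [hcardD']; ring
        exact Nat.eq_of_mul_eq_mul_left hp.pos h0
    have hih := ih (n - 1) (by omega) (X ⧸ Subgroup.center X) hXbar ⟨xb, hCb⟩
    have hfin := Group.nilpotencyClass_eq_quotient_center_plus_one (G := X)
    rw [hih] at hfin
    omega

/-- A p-group with a self-centralizing subgroup of order p^2 is of maximal class. -/
theorem result {X : Type*} [Group X] [Finite X] {p : ℕ} [Fact p.Prime] (n : ℕ) (hX : Nat.card X = p ^ n) (A : Subgroup X) (hA : Nat.card A = p ^ 2) (hC : Subgroup.centralizer (A : Set X) = A) : Group.nilpotencyClass X = n - 1 := by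
  have hp : p.Prime := Fact.out
  apply main p n X hX
  have hXp : IsPGroup p X := IsPGroup.of_card hX
  have hZA : Subgroup.center X ≤ A := by
    rw [← hC]; exact Subgroup.center_le_centralizer _
  by_cases hAZ : A ≤ Subgroup.center X
  · have h1 : Subgroup.centralizer (A : Set X) = ⊤ :=
      Subgroup.centralizer_eq_top_iff_subset.mpr hAZ
    have h3 : A = ⊤ := hC.symm.trans h1
    refine ⟨1, ?_⟩
    have h2 : Subgroup.centralizer ({1} : Set X) = ⊤ := by
      rw [eq_top_iff]
      intro g _
      exact (mem_centralizer_singleton 1 g).mpr (by simp)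
    rw [h2, Subgroup.card_top, ← hA, h3, Subgroup.card_top]
  · obtain ⟨x, hxA, hxZ⟩ := SetLike.not_le_iff_exists.mp hAZ
    refine ⟨x, ?_⟩
    obtain ⟨T, hT⟩ : ∃ T : Subgroup X, T = Subgroup.center X ⊔ Subgroup.zpowers x := ⟨_, rfl⟩
    have hTA : T ≤ A := by
      rw [hT]; exact sup_le hZA (Subgroup.zpowers_le.mpr hxA)
    have hZT : Subgroup.center X < T := by
      apply lt_of_le_of_ne (by rw [hT]; exact le_sup_left)
      intro h
      apply hxZ
      rw [h, hT]
      exact (le_sup_right : Subgroup.zpowers x ≤ Subgroup.center X ⊔ Subgroup.zpowers x)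
        (Subgroup.mem_zpowers x)
    haveI : Nontrivial X := by
      apply Finite.one_lt_card_iff_nontrivial.mp
      calc 1 < p ^ 2 := Nat.one_lt_pow (by norm_num) hp.one_lt
        _ = Nat.card A := hA.symm
        _ ≤ Nat.card X := Subgroup.card_le_card_group _
    have hZ1 : 1 < Nat.card (Subgroup.center X) :=
      (Subgroup.one_lt_card_iff_ne_bot _).mpr (hXp.bot_lt_center).ne'
    have hTcard : Nat.card T = p ^ 2 := by
      have h1 : Nat.card T ∣ p ^ 2 := by rw [← hA]; exact Subgroup.card_dvd_of_le hTA
      obtain ⟨j, hj, hj'⟩ := (Nat.dvd_prime_pow hp).mp h1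
      have h2 : Nat.card (Subgroup.center X) < Nat.card T := card_lt_of_lt' hZT
      have h3 : Nat.card (Subgroup.center X) ∣ Nat.card T := Subgroup.card_dvd_of_le hZT.le
      rw [hj'] at h2 h3 ⊢
      obtain ⟨i, hi, hi'⟩ := (Nat.dvd_prime_pow hp).mp h3
      rw [hi'] at h2 hZ1
      have h4 : i < j := (Nat.pow_lt_pow_iff_right hp.one_lt).mp h2
      have h5 : i ≠ 0 := by
        rintro rfl
        simp at hZ1
      have h6 : j = 2 := by omega
      rw [h6]
    have hTeq : T = A := Subgroup.eq_of_le_of_card_ge hTA (by rw [hTcard, hA])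
    have hcent : Subgroup.centralizer {x} = A := by
      apply le_antisymm
      · intro g hg
        rw [← hC]
        apply Subgroup.mem_centralizer_iff.mpr
        intro a ha
        have h1 : T ≤ Subgroup.centralizer {g} := by
          rw [hT]
          apply sup_le
          · exact Subgroup.center_le_centralizer _
          · rw [Subgroup.zpowers_le]
            exact (mem_centralizer_singleton g x).mpr
              ((mem_centralizer_singleton x g).mp hg).symm
        have h2 : a ∈ T := by rw [hTeq]; exact ha
        exact ((mem_centralizer_singleton g a).mp (h1 h2)).symm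
      · intro a ha
        have h1 : a ∈ Subgroup.centralizer (A : Set X) := by rw [hC]; exact ha
        exact (mem_centralizer_singleton x a).mpr (Subgroup.mem_centralizer_iff.mp h1 x hxA)
    rw [hcent, hA]

end Cfsg.Agent.S0112
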