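import Mathlib
import Cfsg.Statements.S3224
import Cfsg.Agent.S0112
import Cfsg.Agent.Helper8.MaxClass
import Cfsg.Agent.Helper6.QD2
-- import your own Cfsg.Agent.* helpers here

set_option autoImplicit false
open Cfsg

namespace Cfsg.Agent.S3224



/-- A finite 2-group containing an involution whose centralizer has order 4 is dihedral, quasi-dihedral (semidihedral), or of order 4. -/
theorem result {S : Type*} [Group S] [Finite S] (hS : IsPGroup 2 S)
    (x : S) (hx : orderOf x = 2) (hC : Nat.card ↥(Subgroup.centralizer ({x} : Set S)) = 4) :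
    (∃ n : ℕ, Nonempty (S ≃* DihedralGroup n)) ∨ Cfsg.IsQuasiDihedral S ∨ Nat.card S = 4 := by
  classical
  haveI : Fact (Nat.Prime 2) := ⟨Nat.prime_two⟩
  obtain ⟨n, hn⟩ := IsPGroup.iff_card.1 hS
  set A : Subgroup S := Subgroup.centralizer ({x} : Set S) with hA
  have hx2 : x * x = 1 := by rw [← pow_two, ← hx, pow_orderOf_eq_one]
  have hxinv : x⁻¹ = x := inv_eq_of_mul_eq_one_left hx2
  have hx1 : x ≠ 1 := by
    intro h; rw [h, orderOf_one] at hx; omega
  have hxA : x ∈ A :=
    Subgroup.mem_centralizer_iff.2 (fun h hh => by rw [Set.mem_singleton_iff.1 hh])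
  have h4 : 4 ∣ 2 ^ n := by rw [← hn, ← hC]; exact Subgroup.card_subgroup_dvd_card A
  have hn2 : 2 ≤ n := by
    by_contra hlt
    have : n = 0 ∨ n = 1 := by omega
    rcases this with h | h
    · rw [h] at h4; exact absurd h4 (by decide)
    · rw [h] at h4; exact absurd h4 (by decide)
  by_cases hn3 : n = 2
  · right; right; rw [hn, hn3]; norm_num
  have hn3' : 3 ≤ n := by omega
  have hAc : Subgroup.centralizer (A : Set S) = A := by
    apply le_antisymm
    · intro g hg
      rw [hA, Subgroup.mem_centralizer_iff]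
      intro h hh
      rw [Set.mem_singleton_iff.1 hh]
      exact (Subgroup.mem_centralizer_iff.1 hg) x hxA
    · intro g hg
      rw [Subgroup.mem_centralizer_iff]
      intro h hh
      have hcomm := (IsPGroup.isMulCommutative_of_card_eq_prime_sq (p := 2) (G := A)
        (hC.trans (by norm_num))).is_comm.comm ⟨h, hh⟩ ⟨g, hg⟩
      exact congrArg Subtype.val hcomm
  have hclass : Group.nilpotencyClass S = n - 1 :=
    Cfsg.Agent.S0112.result (p := 2) n hn A (hC.trans (by norm_num)) hAc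
  obtain ⟨c, hc⟩ := Cfsg.Agent.Helper8.exists_cyclic_index_two n hn3' S hn hclass
  obtain ⟨N, rfl⟩ : ∃ N, n = N + 3 := ⟨n - 3, by omega⟩
  have hoc : orderOf c = 2 ^ (N + 2) := by
    have h1 := (Subgroup.zpowers c).card_mul_index
    rw [hc, hn, Nat.card_zpowers] at h1
    have h2 : 2 ^ (N + 3) = 2 ^ (N + 2) * 2 := by ring
    exact Nat.eq_of_mul_eq_mul_right (by norm_num : 0 < 2) (h1.trans h2)
  haveI hCn : (Subgroup.zpowers c).Normal := Subgroup.normal_of_index_eq_two hc
  obtain ⟨k, hk⟩ : ∃ k : ℕ, c ^ k = x * c * x⁻¹ := by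
    have hmem : x * c * x⁻¹ ∈ Subgroup.zpowers c := hCn.conj_mem c (Subgroup.mem_zpowers c) x
    rw [← mem_powers_iff_mem_zpowers] at hmem
    exact (Submonoid.mem_powers_iff _ _).1 hmem
  have hp1 : 2 ^ (N + 2) = 2 ^ (N + 1) * 2 := by ring
  have hinvol : ∀ g ∈ Subgroup.zpowers c, g * g = 1 → g ≠ 1 → g = c ^ (2 ^ (N + 1)) := by
    intro g hg hgg hg1
    rw [← mem_powers_iff_mem_zpowers] at hg
    obtain ⟨j, rfl⟩ := (Submonoid.mem_powers_iff _ _).1 hg
    rw [← pow_add] at hgg
    have hd : 2 ^ (N + 2) ∣ j + j := by rw [← hoc]; exact orderOf_dvd_of_pow_eq_one hgg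
    have hnd : ¬ 2 ^ (N + 2) ∣ j := by
      intro h; apply hg1; rw [← hoc] at h; exact orderOf_dvd_iff_pow_eq_one.1 h
    rw [pow_eq_pow_iff_modEq, hoc]
    obtain ⟨t, ht⟩ := hd
    have hj : j = 2 ^ (N + 1) * t := by
      rw [hp1] at ht
      linarith
    rcases Nat.even_or_odd' t with ⟨s, rfl | rfl⟩
    · exfalso; apply hnd; rw [hj, hp1]; exact ⟨s, by ring⟩
    · rw [hj, hp1]
      have e : 2 ^ (N + 1) * (2 * s + 1) = 2 ^ (N + 1) + 2 ^ (N + 1) * 2 * s := by ring
      rw [e]
      exact Nat.add_mul_mod_self_left _ _ _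
  have hxC : x ∉ Subgroup.zpowers c := by
    intro hxc
    have hxz := hinvol x hxc hx2 hx1
    have hcen : ∀ g : S, g * x = x * g := by
      intro g
      have h1 : g * x * g⁻¹ ∈ Subgroup.zpowers c := hCn.conj_mem x hxc g
      have h2 : (g * x * g⁻¹) * (g * x * g⁻¹) = 1 := by
        calc (g * x * g⁻¹) * (g * x * g⁻¹) = g * (x * x) * g⁻¹ := by group
          _ = 1 := by rw [hx2]; group
      have h3 : g * x * g⁻¹ ≠ 1 := by
        intro h; exact hx1 (conj_eq_one_iff.1 h)
      have h4 := hinvol _ h1 h2 h3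
      rw [← hxz] at h4
      calc g * x = (g * x * g⁻¹) * g := by group
        _ = x * g := by rw [h4]
    have hAtop : A = ⊤ := by
      rw [eq_top_iff]; intro g _
      exact Subgroup.mem_centralizer_iff.2
        (fun h hh => by rw [Set.mem_singleton_iff.1 hh]; exact (hcen g).symm)
    rw [hAtop, Subgroup.card_top, hn] at hC
    have e8 : 2 ^ (N + 3) = 2 ^ N * 8 := by ring
    have e1 : 1 ≤ 2 ^ N := Nat.one_le_two_pow
    omega
  have hkk : k * k ≡ 1 [MOD 2 ^ (N + 2)] := by
    rw [← hoc, ← pow_eq_pow_iff_modEq, pow_one, pow_mul c k k, hk, conj_pow, hk, hxinv]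
    calc x * (x * c * x) * x = (x * x) * c * (x * x) := by group
      _ = c := by rw [hx2]; group
  set w : S := c ^ (2 ^ N) with hw
  have how : orderOf w = 4 := by
    rw [hw, orderOf_pow_of_dvd (by positivity) (by rw [hoc]; exact ⟨4, by ring⟩), hoc]
    have e : 2 ^ (N + 2) = 2 ^ N * 4 := by ring
    rw [e, Nat.mul_div_cancel_left _ (by positivity)]
  have hwc : w ∈ Subgroup.zpowers c := Subgroup.pow_mem _ (Subgroup.mem_zpowers c) _
  have hxw : x * w * x⁻¹ = w ^ k := by
    rw [hw, ← conj_pow, ← hk, ← pow_mul, ← pow_mul, mul_comm]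
  have hk4 : k % 4 = 3 := by
    have h4' : k * k ≡ 1 [MOD 4] := Nat.ModEq.of_dvd ⟨2 ^ N, by ring⟩ hkk
    have hr : k % 4 < 4 := Nat.mod_lt _ (by norm_num)
    have h5 : (k % 4) * (k % 4) % 4 = 1 := by
      have h6 := h4'
      unfold Nat.ModEq at h6
      rw [Nat.mul_mod] at h6
      exact h6
    have key : ∀ r < 4, r * r % 4 = 1 → r = 1 ∨ r = 3 := by decide
    rcases key _ hr h5 with h1 | h3
    · exfalso
      have hwk : w ^ k = w := by
        have h7 : k ≡ 1 [MOD orderOf w] := by rw [how]; exact h1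
        rw [← pow_eq_pow_iff_modEq] at h7
        rw [h7, pow_one]
      have hwA : w ∈ A := by
        rw [hA]; refine Subgroup.mem_centralizer_iff.2 (fun h hh => ?_)
        rw [Set.mem_singleton_iff.1 hh]
        calc x * w = (x * w * x⁻¹) * x := by group
          _ = w * x := by rw [hxw, hwk]
      have hle : Subgroup.zpowers w ≤ A := Subgroup.zpowers_le.2 hwA
      have heq : Subgroup.zpowers w = A :=
        Subgroup.eq_of_le_of_card_ge hle (by rw [Nat.card_zpowers, how, hC])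
      have hxw' : x ∈ Subgroup.zpowers w := by rw [heq]; exact hxA
      exact hxC ((Subgroup.zpowers_le.2 hwc) hxw')
    · exact h3
  obtain ⟨i, hi⟩ : ∃ i, k = 4 * i + 3 := ⟨k / 4, by omega⟩
  have hdiv : 2 ^ (N + 1) ∣ k + 1 := by
    have hk1 : 1 ≤ k := by omega
    have h1 : 2 ^ (N + 2) ∣ k * k - 1 :=
      (Nat.modEq_iff_dvd' (Nat.mul_le_mul hk1 hk1)).1 hkk.symm
    have h2 : k * k - 1 = 2 * ((2 * i + 1) * (k + 1)) := by
      have h3 : k * k = 2 * ((2 * i + 1) * (k + 1)) + 1 := by rw [hi]; ring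
      omega
    have hp2 : 2 ^ (N + 2) = 2 * 2 ^ (N + 1) := by ring
    rw [h2, hp2] at h1
    have h3 : 2 ^ (N + 1) ∣ (2 * i + 1) * (k + 1) :=
      Nat.dvd_of_mul_dvd_mul_left (by norm_num) h1
    have hcop : Nat.Coprime (2 ^ (N + 1)) (2 * i + 1) := by
      apply Nat.Coprime.pow_left
      rw [Nat.coprime_two_left]
      exact ⟨i, rfl⟩
    exact hcop.dvd_of_dvd_mul_left h3
  obtain ⟨t, ht⟩ := hdiv
  rcases Nat.even_or_odd' t with ⟨s, rfl | rfl⟩
  · left
    have hck : c ^ k = c⁻¹ := by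
      apply eq_inv_of_mul_eq_one_left
      rw [← pow_succ, ht]
      have e : 2 ^ (N + 1) * (2 * s) = 2 ^ (N + 2) * s := by ring
      rw [e, pow_mul c (2 ^ (N + 2)) s, ← hoc, pow_orderOf_eq_one, one_pow]
    have hinv : x * c * x⁻¹ = c⁻¹ := by rw [← hk, hck]
    haveI : NeZero (2 ^ (N + 2)) := ⟨by positivity⟩
    refine ⟨2 ^ (N + 2), ?_⟩
    have hinj := Cfsg.Agent.Helper6.QD.dihHom_injective hoc hinv hx2 hxC
    have hbij : Function.Bijective (Cfsg.Agent.Helper6.QD.dihHom hoc hinv hx2) := by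
      apply hinj.bijective_of_nat_card_le
      rw [DihedralGroup.nat_card, hn]
      exact le_of_eq (by ring)
    exact ⟨(MulEquiv.ofBijective _ hbij).symm⟩
  · right; left
    have hN : 1 ≤ N := by
      by_contra h0
      have hN0 : N = 0 := by omega
      have e : 2 ^ (N + 1) = 2 := by rw [hN0]; norm_num
      rw [e] at ht
      omega
    have hck : c ^ k = c ^ (2 ^ (N + 1) - 1) := by
      have h1 : c ^ k * c = c ^ (2 ^ (N + 1) - 1) * c := by
        rw [← pow_succ, ← pow_succ, ht]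
        have e1 : 2 ^ (N + 1) - 1 + 1 = 2 ^ (N + 1) := Nat.sub_add_cancel Nat.one_le_two_pow
        have e2 : 2 ^ (N + 1) * (2 * s + 1) = 2 ^ (N + 1) + 2 ^ (N + 2) * s := by ring
        rw [e1, e2, pow_add c (2 ^ (N + 1)) (2 ^ (N + 2) * s), pow_mul c (2 ^ (N + 2)) s, ← hoc,
          pow_orderOf_eq_one, one_pow, mul_one]
      exact mul_right_cancel h1
    unfold Cfsg.IsQuasiDihedral
    have e : N + 2 - 1 = N + 1 := by omega
    refine ⟨N + 2, by omega, hn, c, x, hoc, hx, ?_⟩
    rw [e, ← hk, hck]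

end Cfsg.Agent.S3224
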