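import Cfsg.Statements.S4399
import Mathlib
import Cfsg.Agent.Helper8.MaxClass
import Cfsg.Agent.Helper8.MaxClass2
import Cfsg.Agent.Helper8.TwoLocal
import Cfsg.Agent.Helper9.Dihedral
import Cfsg.Agent.Helper16.QuatExt
import Cfsg.Agent.S0115
import Cfsg.Agent.S3224
import Cfsg.Agent.S1236

set_option autoImplicit false
open Cfsg

namespace Cfsg.Agent.S4399

/-- In a 2-group of maximal class with cyclic maximal subgroup `⟨c⟩`, an involution outside
`⟨c⟩` has centralizer of order 4. -/
theorem card_centralizer_invol {S : Type*} [Group S] [Finite S] (c u : S)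
    (hc2 : (Subgroup.zpowers c).index = 2) (hZ : Nat.card (Subgroup.center S) = 2)
    (hZC : Subgroup.center S ≤ Subgroup.zpowers c) (huC : u ∉ Subgroup.zpowers c) :
    Nat.card ↥(Subgroup.centralizer ({u} : Set S)) = 4 := by
  have habC : ∀ a ∈ Subgroup.zpowers c, ∀ b ∈ Subgroup.zpowers c, a * b = b * a :=
    fun a ha b hb => Cfsg.Agent.S1236.zp_comm c a b ha hb
  obtain ⟨K, hKdef⟩ : ∃ K : Subgroup S, K = Subgroup.centralizer ({u} : Set S) := ⟨_, rfl⟩
  rw [← hKdef]
  have hinf : Subgroup.zpowers c ⊓ K = Subgroup.center S := by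
    apply le_antisymm
    · rintro g ⟨hgC, hgK⟩
      rw [Subgroup.mem_center_iff]
      intro x
      have hgu : u * g = g * u := by
        have hgK' : g ∈ Subgroup.centralizer ({u} : Set S) := by rw [← hKdef]; exact hgK
        exact Subgroup.mem_centralizer_iff.mp hgK' u (Set.mem_singleton u)
      rcases Cfsg.Agent.Helper8.mem_or_eq_mul _ hc2 u huC x with hx | ⟨a, ha, rfl⟩
      · exact habC x hx g hgC
      · calc a * u * g = a * (u * g) := by group
          _ = a * (g * u) := by rw [hgu]
          _ = (a * g) * u := by group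
          _ = (g * a) * u := by rw [habC a ha g hgC]
          _ = g * (a * u) := by group
    · intro g hg
      have hgK : g ∈ Subgroup.centralizer ({u} : Set S) := by
        rw [Subgroup.mem_centralizer_iff]
        intro h hh
        rw [Set.mem_singleton_iff] at hh
        rw [hh]
        exact Subgroup.mem_center_iff.mp hg u
      rw [← hKdef] at hgK
      exact ⟨hZC hg, hgK⟩
  have hrel : (Subgroup.zpowers c).relIndex K = 2 := by
    haveI : (Subgroup.zpowers c).Normal := Subgroup.normal_of_index_eq_two hc2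
    have h1 : (Subgroup.zpowers c).relIndex K ∣ 2 := by
      rw [← hc2]; exact Subgroup.relIndex_dvd_index_of_normal _ K
    have h2 : (Subgroup.zpowers c).relIndex K ≠ 1 := by
      rw [Ne, Subgroup.relIndex_eq_one]
      intro hle
      apply huC
      apply hle
      rw [hKdef, Subgroup.mem_centralizer_iff]
      intro h hh
      rw [Set.mem_singleton_iff] at hh
      rw [hh]
    rcases (Nat.dvd_prime Nat.prime_two).mp h1 with h | h
    · exact absurd h h2
    · exact h
  have h3 := Cfsg.Agent.Helper8.card_eq_card_mul_relIndex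
    (inf_le_right : Subgroup.zpowers c ⊓ K ≤ K)
  rw [Subgroup.inf_relIndex_right, hinf, hZ, hrel] at h3
  omega

/-- Let S be a finite 2-group whose commutator quotient S/[S,S] is a Klein four-group (order 4 and exponent 2). Then S itself has order 4, or S is dihedral of order at least 8, semidihedral of order at least 16 (order 2^(k+4) with an element a of order 2^(k+3) and an involution b with b a b⁻¹ = a^(2^(k+2)−1)), or generalized quaternion of order at least 8. -/
theorem result {S : Type*} [Group S] [Finite S] (h2 : IsPGroup 2 S) (hab : Nat.card (Abelianization S) = 4)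
    (hexp : ∀ x : Abelianization S, x ^ 2 = 1) :
    Nat.card S = 4 ∨
    ((∃ k : ℕ, Nonempty (S ≃* DihedralGroup (2 ^ (k + 2)))) ∨
      (∃ k : ℕ, Nat.card S = 2 ^ (k + 4) ∧ ∃ a b : S, orderOf a = 2 ^ (k + 3) ∧ orderOf b = 2 ∧ b * a * b⁻¹ = a ^ (2 ^ (k + 2) - 1)) ∨
      (∃ k : ℕ, Nonempty (S ≃* QuaternionGroup (2 ^ (k + 1))))) := by
  haveI : Fact (Nat.Prime 2) := ⟨Nat.prime_two⟩
  obtain ⟨n, hn⟩ := IsPGroup.iff_card.mp h2
  by_cases h4 : Nat.card S = 4
  · exact Or.inl h4
  right
  have hab' : Nat.card (S ⧸ commutator S) = 4 := hab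
  have hidx : (commutator S).index = 4 := by rw [Subgroup.index_eq_card]; exact hab'
  have hn3 : 3 ≤ n := by
    have h1 := Subgroup.card_mul_index (commutator S)
    rw [hidx, hn] at h1
    have h4dvd : 2 ^ 2 ∣ 2 ^ n := ⟨Nat.card (commutator S), by rw [← h1]; ring⟩
    have h5 : 2 ≤ n := (Nat.pow_dvd_pow_iff_le_right (by norm_num : 1 < 2)).mp h4dvd
    by_contra hcon
    have h6 : n = 2 := by omega
    apply h4
    rw [hn, h6]; norm_num
  have hK : IsKleinFour (S ⧸ commutator S) := by
    haveI : Nontrivial (S ⧸ commutator S) := by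
      rw [← Finite.one_lt_card_iff_nontrivial, hab']; norm_num
    refine ⟨hab', ?_⟩
    rw [Monoid.exponent_eq_prime_iff Nat.prime_two]
    intro g hg
    exact orderOf_eq_prime (hexp g) hg
  have hc : Group.nilpotencyClass S = n - 1 := (Cfsg.Agent.S0115.result n hn3 hn).mpr hK
  obtain ⟨c, hc2⟩ := Cfsg.Agent.Helper8.exists_cyclic_index_two n hn3 S hn hc
  have hZ := (Cfsg.Agent.Helper8.maxclass_center (p := 2) n hn3 hn hc).1
  have hnc := Cfsg.Agent.Helper8.noncomm_of_maxclass (p := 2) n hn3 hn hc
  have habC : ∀ a ∈ Subgroup.zpowers c, ∀ b ∈ Subgroup.zpowers c, a * b = b * a :=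
    fun a ha b hb => Cfsg.Agent.S1236.zp_comm c a b ha hb
  have hZC := Cfsg.Agent.Helper8.center_le_of_index_two _ hc2 habC hnc
  have hnab : ¬ IsMulCommutative S := by
    intro h
    obtain ⟨a, b, hne⟩ := hnc
    exact hne (h.is_comm.comm a b)
  by_cases huniq : ∃! x : S, orderOf x = 2
  · obtain ⟨k, hk, ⟨e⟩⟩ := Cfsg.Agent.Helper16.QuatExt.exists_quat h2 hnab huniq
    right; right
    exact ⟨k - 1, by rw [Nat.sub_add_cancel hk]; exact ⟨e⟩⟩
  · have hu : ∃ u : S, orderOf u = 2 ∧ u ∉ Subgroup.zpowers c := by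
      by_contra hcon
      push Not at hcon
      apply huniq
      obtain ⟨z, hzZ, hz1, hzz, -⟩ := Cfsg.Agent.Helper8.card_two_elems _ hZ
      have hoz : orderOf z = 2 := orderOf_eq_prime (by rw [pow_two]; exact hzz) hz1
      refine ⟨z, hoz, ?_⟩
      intro y hy
      have hyC := hcon y hy
      have hzC := hZC hzZ
      have hy1 : y ≠ 1 := by intro h; rw [h, orderOf_one] at hy; omega
      have hyy : y * y = 1 := by rw [← pow_two, ← hy]; exact pow_orderOf_eq_one y
      exact Cfsg.Agent.Helper9.involution_unique_zpowers c y z hyC hzC hyy hzz hy1 hz1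
    obtain ⟨u, hou, huC⟩ := hu
    have hC4 := card_centralizer_invol c u hc2 hZ hZC huC
    rcases Cfsg.Agent.S3224.result h2 u hou hC4 with ⟨m, ⟨e⟩⟩ | ⟨m, hm, hcard, x, y, hx, hy, hxy⟩ | h
    · left
      refine ⟨n - 3, ?_⟩
      have h1 : Nat.card S = Nat.card (DihedralGroup m) := Nat.card_congr e.toEquiv
      rw [DihedralGroup.nat_card, hn] at h1
      have h2' : m = 2 ^ (n - 3 + 2) := by
        have h7 : n = (n - 3 + 2) + 1 := by omega
        rw [h7, pow_succ] at h1
        omega
      subst h2'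
      exact ⟨e⟩
    · right; left
      obtain ⟨k, rfl⟩ : ∃ k, m = k + 3 := ⟨m - 3, by omega⟩
      have e1 : k + 3 + 1 = k + 4 := by omega
      have e2 : k + 3 - 1 = k + 2 := by omega
      refine ⟨k, ?_, x, y, hx, hy, ?_⟩
      · rw [hcard, e1]
      · rw [hxy, e2]
    · exact absurd h h4

end Cfsg.Agent.S4399
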