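import Cfsg.Statements.S0519
import Mathlib
import Cfsg.Agent.Helper8.MaxClass
import Cfsg.Agent.Helper8.MaxClass2
import Cfsg.Agent.Helper9.Dihedral
import Cfsg.Agent.Helper19.Nilpotent
import Cfsg.Agent.S0016
import Cfsg.Agent.S0130
import Cfsg.Agent.S3379
import Cfsg.Agent.S4189
import Cfsg.Agent.S4399
import Cfsg.Agent.S1236

set_option autoImplicit false
open Cfsg

namespace Cfsg.Agent.S0519

/-- A maximal normal abelian subgroup of exponent dividing `p ^ n`, with Alperin's property. -/
theorem exists_alperin {P : Type*} [Group P] [Finite P] {p : ℕ} [Fact p.Prime] (hP : IsPGroup p P)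
    (n : ℕ) (hn : p ^ n ≠ 2) :
    ∃ A : Subgroup P, A.Normal ∧ IsMulCommutative A ∧ (∀ a ∈ A, a ^ p ^ n = 1) ∧
      ∀ x ∈ Subgroup.centralizer (A : Set P), x ^ p ^ n = 1 → x ∈ A := by
  have hbot : IsMulCommutative (⊥ : Subgroup P) := ⟨⟨fun a b => by
    have ha : a = 1 := Subtype.ext (by simpa using Subgroup.mem_bot.mp a.2)
    rw [ha, one_mul, mul_one]⟩⟩
  obtain ⟨A, ⟨hAn, hAc, hAe⟩, hmaxc⟩ := Set.Finite.exists_maximalFor
    (fun M : Subgroup P => Nat.card M)
    {M : Subgroup P | M.Normal ∧ IsMulCommutative M ∧ ∀ b ∈ M, b ^ p ^ n = 1}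
    (Set.toFinite _)
    ⟨⊥, inferInstance, hbot, fun b hb => by rw [Subgroup.mem_bot.mp hb, one_pow]⟩
  haveI := hAn
  have hmax : ∀ B : Subgroup P, B.Normal → IsMulCommutative B → (∀ b ∈ B, b ^ p ^ n = 1) →
      A ≤ B → B = A := by
    intro B hBn hBc hBe hAB
    have h1 := hmaxc ⟨hBn, hBc, hBe⟩ (Subgroup.card_le_of_le hAB)
    exact (Subgroup.eq_of_le_of_card_ge hAB h1).symm
  exact ⟨A, hAn, hAc, hAe, fun x hx hxn =>
    Cfsg.Agent.S0130.result hP n hn A hAc hAe hmax x hx hxn⟩

theorem mem_centralizer_zpowers {P : Type*} [Group P] (a g : P) (h : g * a = a * g) :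
    g ∈ Subgroup.centralizer ((Subgroup.zpowers a : Subgroup P) : Set P) := by
  rw [Subgroup.mem_centralizer_iff]
  intro x hx
  obtain ⟨j, rfl⟩ := Subgroup.mem_zpowers_iff.mp hx
  exact ((Commute.zpow_left (show Commute a g from h.symm) j)).eq

theorem conj_inv_of_order_four {P : Type*} [Group P] [Finite P] (c y : P) (hc : orderOf c = 4)
    (hmem : y * c * y⁻¹ ∈ Subgroup.zpowers c) (hne : y * c ≠ c * y) : y * c * y⁻¹ = c⁻¹ := by
  obtain ⟨k, hk⟩ := (Submonoid.mem_powers_iff _ _).mp (mem_powers_iff_mem_zpowers.mpr hmem)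
  have hk' : c ^ (k % 4) = y * c * y⁻¹ := by
    rw [← hk, ← hc, pow_mod_orderOf]
  have hc4 : c ^ 4 = 1 := by rw [← hc]; exact pow_orderOf_eq_one c
  have hc1 : c ≠ 1 := by intro h; rw [h, orderOf_one] at hc; omega
  have hc2' : c ^ 2 ≠ 1 := by
    intro h
    have := orderOf_dvd_of_pow_eq_one h
    rw [hc] at this
    omega
  have hcases : k % 4 = 0 ∨ k % 4 = 1 ∨ k % 4 = 2 ∨ k % 4 = 3 := by omega
  rcases hcases with h | h | h | h <;> rw [h] at hk'
  · exfalso; apply hc1
    rw [pow_zero] at hk'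
    have h1 : y * c * y⁻¹ = y * 1 * y⁻¹ := by rw [← hk']; group
    exact mul_left_cancel (mul_right_cancel h1)
  · exfalso
    rw [pow_one] at hk'
    apply hne
    calc y * c = (y * c * y⁻¹) * y := by group
      _ = c * y := by rw [← hk']
  · exfalso; apply hc2'
    have h1 : (y * c * y⁻¹) ^ 2 = 1 := by rw [← hk', ← pow_mul]; exact hc4
    rw [conj_pow] at h1
    have h2 : y * c ^ 2 * y⁻¹ = y * 1 * y⁻¹ := by rw [h1]; group
    exact mul_left_cancel (mul_right_cancel h2)
  · rw [← hk']
    apply eq_inv_of_mul_eq_one_left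
    rw [← pow_succ]; exact hc4

/-- A non-cyclic abelian subgroup of a 2-group contains two distinct involutions. -/
theorem exists_two_involutions {P : Type*} [Group P] [Finite P] (hP : IsPGroup 2 P)
    (B : Subgroup P) (hBc : IsMulCommutative B) (hBn : ¬ IsCyclic B) :
    ∃ u v : P, u ≠ v ∧ u ≠ 1 ∧ v ≠ 1 ∧ u * u = 1 ∧ v * v = 1 := by
  haveI : Fact (Nat.Prime 2) := ⟨Nat.prime_two⟩
  by_contra hcon
  have huniq : ∀ H K : Subgroup ↥B, Nat.card H = 2 → Nat.card K = 2 → H = K := by
    intro H K hH hK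
    obtain ⟨h, hhH, hh1, hhh, hHel⟩ := Cfsg.Agent.Helper8.card_two_elems H hH
    obtain ⟨k, hkK, hk1, hkk, hKel⟩ := Cfsg.Agent.Helper8.card_two_elems K hK
    have hhk : h = k := by
      by_contra hne
      exact hcon ⟨(h : P), (k : P), fun e => hne (Subtype.ext e), fun e => hh1 (Subtype.ext e),
        fun e => hk1 (Subtype.ext e), congrArg Subtype.val hhh, congrArg Subtype.val hkk⟩
    apply le_antisymm
    · intro x hx
      rcases hHel x hx with rfl | rfl
      · exact one_mem _
      · rw [hhk]; exact hkK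
    · intro x hx
      rcases hKel x hx with rfl | rfl
      · exact one_mem _
      · rw [← hhk]; exact hhH
  rcases Cfsg.Agent.S0016.result 2 (hP.to_subgroup B) huniq with hcyc | ⟨-, n, ⟨e⟩⟩
  · exact hBn hcyc
  · by_cases hn0 : n = 0
    · subst hn0
      apply hBn
      have e' : ↥B ≃* QuaternionGroup 1 := by rw [pow_zero] at e; exact e
      haveI := QuaternionGroup.quaternionGroup_one_isCyclic
      exact isCyclic_of_surjective e'.symm e'.symm.surjective
    · have hcomm := hBc.is_comm.comm (e.symm (QuaternionGroup.a 1)) (e.symm (QuaternionGroup.xa 0))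
      rw [← map_mul, ← map_mul] at hcomm
      have h2 := e.symm.injective hcomm
      rw [QuaternionGroup.a_mul_xa, QuaternionGroup.xa_mul_a] at h2
      have h3 : (0 : ZMod (2 * 2 ^ n)) - 1 = 0 + 1 := QuaternionGroup.xa.inj h2
      have h4 : ((2 : ℕ) : ZMod (2 * 2 ^ n)) = 0 := by
        push_cast
        linear_combination -h3
      rw [ZMod.natCast_eq_zero_iff] at h4
      have h5 : 2 * 2 ^ n ≤ 2 := Nat.le_of_dvd (by norm_num) h4
      have h6 : 2 ^ n ≥ 2 := by
        calc 2 ^ n ≥ 2 ^ 1 := Nat.pow_le_pow_right (by norm_num) (by omega)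
          _ = 2 := by norm_num
      omega

theorem two_case {P : Type*} [Group P] [Finite P] (hP : IsPGroup 2 P)
    (hn : ∀ A : Subgroup P, A.Normal → IsMulCommutative A → IsCyclic A)
    (B : Subgroup P) (hBc : IsMulCommutative B) (hBn : ¬ IsCyclic B) :
    (∃ n : ℕ, Nonempty (P ≃* QuaternionGroup n)) ∨
      (∃ n : ℕ, 8 ≤ n ∧ Nonempty (P ≃* DihedralGroup n)) ∨ Cfsg.IsQuasiDihedral P := by
  haveI : Fact (Nat.Prime 2) := ⟨Nat.prime_two⟩
  have h4 : (2:ℕ) ^ 2 = 4 := by norm_num
  have hx4 : ∀ x : P, x * x = 1 → x ^ 4 = 1 := by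
    intro x hx
    rw [show (4:ℕ) = 2 + 2 from rfl, pow_add, pow_two, hx, one_mul]
  obtain ⟨A, hAn, hAc, hAe, hCA⟩ := exists_alperin hP 2 (by norm_num)
  obtain ⟨a, hAa⟩ := Cfsg.Agent.S3379.exists_zpowers_eq A (hn A hAn hAc)
  subst hAa
  have hAe4 : ∀ x ∈ Subgroup.zpowers a, x ^ 4 = 1 := fun x hx => by
    have := hAe x hx; rwa [h4] at this
  have hCA4 : ∀ x ∈ Subgroup.centralizer ((Subgroup.zpowers a : Subgroup P) : Set P),
      x ^ 4 = 1 → x ∈ Subgroup.zpowers a := fun x hx h => hCA x hx (by rw [h4]; exact h)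
  obtain ⟨u, v, huv, hu1, hv1, huu, hvv⟩ := exists_two_involutions hP B hBc hBn
  have hg0 : ∃ g0 : P, g0 ∉ Subgroup.centralizer ((Subgroup.zpowers a : Subgroup P) : Set P) := by
    by_contra hcon
    push Not at hcon
    have huA : u ∈ Subgroup.zpowers a := hCA4 u (hcon u) (hx4 u huu)
    have hvA : v ∈ Subgroup.zpowers a := hCA4 v (hcon v) (hx4 v hvv)
    exact huv (Cfsg.Agent.Helper9.involution_unique_zpowers a u v huA hvA huu hvv hu1 hv1)
  obtain ⟨g0, hg0⟩ := hg0
  have hg0a : g0 * a ≠ a * g0 := fun h => hg0 (mem_centralizer_zpowers a g0 h)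
  have haA : a ∈ Subgroup.zpowers a := Subgroup.mem_zpowers a
  have hoa : orderOf a = 4 := by
    have h1 : orderOf a ∣ 2 ^ 2 := orderOf_dvd_of_pow_eq_one (hAe a haA)
    obtain ⟨j, hj, hoj⟩ := (Nat.dvd_prime_pow Nat.prime_two).mp h1
    have hmem : g0 * a * g0⁻¹ ∈ Subgroup.zpowers a := hAn.conj_mem a haA g0
    have hj012 : j = 0 ∨ j = 1 ∨ j = 2 := by omega
    rcases hj012 with rfl | rfl | rfl
    · exfalso; apply hg0a
      have ha1 : a = 1 := orderOf_eq_one_iff.mp (by rw [hoj]; norm_num)
      rw [ha1, mul_one, one_mul]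
    · exfalso; apply hg0a
      have hoa2 : orderOf a = 2 := by rw [hoj]; norm_num
      have haa : a * a = 1 := by rw [← pow_two, ← hoa2]; exact pow_orderOf_eq_one a
      have ha1 : a ≠ 1 := by intro h; rw [h, orderOf_one] at hoa2; omega
      have hsq : g0 * a * g0⁻¹ * (g0 * a * g0⁻¹) = 1 := by
        calc g0 * a * g0⁻¹ * (g0 * a * g0⁻¹) = g0 * (a * a) * g0⁻¹ := by group
          _ = 1 := by rw [haa]; group
      have hne1 : g0 * a * g0⁻¹ ≠ 1 := by
        intro h
        apply ha1
        have h' : g0 * a * g0⁻¹ = g0 * 1 * g0⁻¹ := by rw [h]; group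
        exact mul_left_cancel (mul_right_cancel h')
      have h2 : g0 * a * g0⁻¹ = a :=
        Cfsg.Agent.Helper9.involution_unique_zpowers a _ _ hmem haA hsq haa hne1 ha1
      calc g0 * a = (g0 * a * g0⁻¹) * g0 := by group
        _ = a * g0 := by rw [h2]
    · rw [hoj]; norm_num
  obtain ⟨C, hCdef⟩ : ∃ C : Subgroup P,
    C = Subgroup.centralizer ((Subgroup.zpowers a : Subgroup P) : Set P) := ⟨_, rfl⟩
  have hmemC : ∀ g : P, g ∈ C ↔ g * a = a * g := by
    intro g
    rw [hCdef]
    constructor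
    · intro h
      exact (Subgroup.mem_centralizer_iff.mp h a haA).symm
    · intro h
      exact mem_centralizer_zpowers a g h
  have hconj : ∀ g : P, g ∉ C → g * a * g⁻¹ = a⁻¹ := by
    intro g hg
    apply conj_inv_of_order_four a g hoa (hAn.conj_mem a haA g)
    intro h
    exact hg ((hmemC g).mpr h)
  have hg0C : g0 ∉ C := by rw [hCdef]; exact hg0
  have hC2 : C.index = 2 := by
    rw [Subgroup.index_eq_two_iff]
    refine ⟨g0, fun b => ?_⟩
    by_cases hb : b ∈ C
    · right
      refine ⟨hb, fun h => hg0C ?_⟩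
      have h' : g0 = b⁻¹ * (b * g0) := by group
      rw [h']; exact C.mul_mem (C.inv_mem hb) h
    · left
      refine ⟨?_, hb⟩
      rw [hmemC]
      have h1 := hconj b hb
      have h2 := hconj g0 hg0C
      calc b * g0 * a = b * (g0 * a * g0⁻¹) * g0 := by group
        _ = b * a⁻¹ * g0 := by rw [h2]
        _ = (b * a * b⁻¹)⁻¹ * b * g0 := by group
        _ = a * (b * g0) := by rw [h1]; group
  have hCel : ∀ x ∈ C, x ^ 4 = 1 → x ∈ Subgroup.zpowers a := by
    intro x hx h
    exact hCA4 x (by rw [← hCdef]; exact hx) h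
  have hCcyc : IsCyclic ↥C := by
    have huniq : ∀ H K : Subgroup ↥C, Nat.card H = 2 → Nat.card K = 2 → H = K := by
      intro H K hH hK
      obtain ⟨h, hhH, hh1, hhh, hHel⟩ := Cfsg.Agent.Helper8.card_two_elems H hH
      obtain ⟨k, hkK, hk1, hkk, hKel⟩ := Cfsg.Agent.Helper8.card_two_elems K hK
      have hhP : (h : P) * (h : P) = 1 := congrArg Subtype.val hhh
      have hkP : (k : P) * (k : P) = 1 := congrArg Subtype.val hkk
      have hhA : (h : P) ∈ Subgroup.zpowers a := hCel _ h.2 (hx4 _ hhP)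
      have hkA : (k : P) ∈ Subgroup.zpowers a := hCel _ k.2 (hx4 _ hkP)
      have hhk : h = k := Subtype.ext
        (Cfsg.Agent.Helper9.involution_unique_zpowers a _ _ hhA hkA hhP hkP
          (fun e => hh1 (Subtype.ext e)) (fun e => hk1 (Subtype.ext e)))
      apply le_antisymm
      · intro x hx
        rcases hHel x hx with rfl | rfl
        · exact one_mem _
        · rw [hhk]; exact hkK
      · intro x hx
        rcases hKel x hx with rfl | rfl
        · exact one_mem _
        · rw [← hhk]; exact hhH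
    rcases Cfsg.Agent.S0016.result 2 (hP.to_subgroup C) huniq with hcyc | ⟨-, n, ⟨e⟩⟩
    · exact hcyc
    · by_cases hn0 : n = 0
      · subst hn0
        have e' : ↥C ≃* QuaternionGroup 1 := by rw [pow_zero] at e; exact e
        haveI := QuaternionGroup.quaternionGroup_one_isCyclic
        exact isCyclic_of_surjective e'.symm e'.symm.surjective
      · exfalso
        obtain ⟨x1, hx1⟩ : ∃ x1 : ↥C, x1 = e.symm (QuaternionGroup.xa 0) := ⟨_, rfl⟩
        obtain ⟨x2, hx2⟩ : ∃ x2 : ↥C, x2 = e.symm (QuaternionGroup.xa 1) := ⟨_, rfl⟩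
        have h14 : x1 ^ 4 = 1 := by rw [hx1, ← map_pow, QuaternionGroup.xa_pow_four, map_one]
        have h24 : x2 ^ 4 = 1 := by rw [hx2, ← map_pow, QuaternionGroup.xa_pow_four, map_one]
        have h1A : (x1 : P) ∈ Subgroup.zpowers a := hCel _ x1.2 (by
          have := congrArg Subtype.val h14; simpa using this)
        have h2A : (x2 : P) ∈ Subgroup.zpowers a := hCel _ x2.2 (by
          have := congrArg Subtype.val h24; simpa using this)
        have hcomm : x1 * x2 = x2 * x1 := Subtype.ext (Cfsg.Agent.S1236.zp_comm a _ _ h1A h2A)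
        rw [hx1, hx2, ← map_mul, ← map_mul] at hcomm
        have h2 := e.symm.injective hcomm
        rw [QuaternionGroup.xa_mul_xa, QuaternionGroup.xa_mul_xa] at h2
        have h3 := QuaternionGroup.a.inj h2
        have h4' : ((2 : ℕ) : ZMod (2 * 2 ^ n)) = 0 := by
          push_cast
          linear_combination h3
        rw [ZMod.natCast_eq_zero_iff] at h4'
        have h5 : 2 * 2 ^ n ≤ 2 := Nat.le_of_dvd (by norm_num) h4'
        have h6 : 2 ^ n ≥ 2 := by
          calc 2 ^ n ≥ 2 ^ 1 := Nat.pow_le_pow_right (by norm_num) (by omega)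
            _ = 2 := by norm_num
        omega
  obtain ⟨c, hCc⟩ := Cfsg.Agent.S3379.exists_zpowers_eq C hCcyc
  have hc2 : (Subgroup.zpowers c).index = 2 := by rw [← hCc]; exact hC2
  have habC : ∀ x ∈ Subgroup.zpowers c, ∀ y ∈ Subgroup.zpowers c, x * y = y * x :=
    fun x hx y hy => Cfsg.Agent.S1236.zp_comm c x y hx hy
  have hnc : ∃ x y : P, x * y ≠ y * x := ⟨g0, a, hg0a⟩
  have hZC := Cfsg.Agent.Helper8.center_le_of_index_two _ hc2 habC hnc
  have haC : a ∈ C := (hmemC a).mpr rfl
  have hcardA : Nat.card (Subgroup.zpowers a) = 4 := by rw [Nat.card_zpowers, hoa]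
  have hZ : Nat.card (Subgroup.center P) = 2 := by
    obtain ⟨j, hj⟩ := IsPGroup.iff_card.mp (hP.to_subgroup (Subgroup.center P))
    have hj0 : j ≠ 0 := by
      intro h
      rw [h, pow_zero] at hj
      have hbot := Subgroup.eq_bot_of_card_eq _ hj
      haveI : Nontrivial P := ⟨⟨g0, a, fun h => hg0a (by rw [h])⟩⟩
      haveI := hP.center_nontrivial
      exact (Subgroup.nontrivial_iff_ne_bot _).mp inferInstance hbot
    by_contra hne
    have hj2 : 2 ≤ j := by
      by_contra hlt
      have hj1 : j = 1 := by omega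
      rw [hj1, pow_one] at hj
      exact hne hj
    have hdvd : 2 ^ 2 ∣ Nat.card (Subgroup.center P) := by rw [hj]; exact pow_dvd_pow 2 hj2
    obtain ⟨K', hK'⟩ := Sylow.exists_subgroup_card_pow_prime 2 hdvd
    have hKA : K'.map (Subgroup.center P).subtype ≤ Subgroup.zpowers a := by
      rintro _ ⟨x, hx, rfl⟩
      have h1 : (⟨x, hx⟩ : K') ^ 4 = 1 := by rw [← h4, ← hK']; exact pow_card_eq_one'
      have h2 := congrArg Subtype.val h1
      have h3 := congrArg Subtype.val h2
      apply hCel
      · rw [hCc]; exact hZC x.2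
      · simpa using h3
    have hKeq : K'.map (Subgroup.center P).subtype = Subgroup.zpowers a := by
      apply Subgroup.eq_of_le_of_card_ge hKA
      rw [hcardA, Subgroup.card_map_of_injective (Subgroup.subtype_injective _), hK']; norm_num
    have hacen : a ∈ Subgroup.center P := by
      have hmem : a ∈ K'.map (Subgroup.center P).subtype := by rw [hKeq]; exact haA
      obtain ⟨x, -, hx⟩ := hmem
      rw [← hx]; exact x.2
    exact hg0a (Subgroup.mem_center_iff.mp hacen g0)
  obtain ⟨hP'C, hcardC⟩ := Cfsg.Agent.Helper8.card_formula _ hc2 habC hZC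
  have h4idx : (commutator P).index = 4 := by
    have h1 := Subgroup.card_mul_index (commutator P)
    have h2 := Subgroup.card_mul_index (Subgroup.zpowers c)
    rw [hc2, hcardC, hZ] at h2
    have hpos : 0 < Nat.card (commutator P) := Nat.card_pos
    have h3 : Nat.card (commutator P) * (commutator P).index = Nat.card (commutator P) * 4 := by
      rw [h1, ← h2]; ring
    exact Nat.eq_of_mul_eq_mul_left hpos h3
  have hna : ¬ IsMulCommutative P := fun h => hg0a (h.is_comm.comm g0 a)
  have hK := Cfsg.Agent.S4189.klein_of_index_four hP hna h4idx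
  have hab : Nat.card (Abelianization P) = 4 := hK.card_four
  have hexp : ∀ x : Abelianization P, x ^ 2 = 1 := by
    intro x
    have h := Monoid.pow_exponent_eq_one (G := P ⧸ commutator P) x
    rw [hK.exponent_two] at h
    exact h
  have hcardP : 8 ≤ Nat.card P := by
    have h2 := Subgroup.card_mul_index (Subgroup.zpowers c)
    rw [hc2] at h2
    have h3 : Nat.card (Subgroup.zpowers a) ≤ Nat.card (Subgroup.zpowers c) := by
      apply Subgroup.card_le_of_le
      rw [← hCc, Subgroup.zpowers_le]; exact haC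
    omega
  rcases Cfsg.Agent.S4399.result hP hab hexp with
    h | ⟨k, ⟨e⟩⟩ | ⟨k, hcard, x, y, hx, hy, hxy⟩ | ⟨k, ⟨e⟩⟩
  · omega
  · right; left
    refine ⟨2 ^ (k + 2), ?_, ⟨e⟩⟩
    by_contra hlt
    have hk0 : k = 0 := by
      by_contra hk
      apply hlt
      calc (8:ℕ) = 2 ^ 3 := by norm_num
        _ ≤ 2 ^ (k + 2) := Nat.pow_le_pow_right (by norm_num) (by omega)
    subst hk0
    have hc8 : Nat.card P = 8 := by
      rw [Nat.card_congr e.toEquiv, DihedralGroup.nat_card]; norm_num
    have hBcard : Nat.card B ∣ 8 := by rw [← hc8]; exact Subgroup.card_subgroup_dvd_card B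
    have hBne : B ≠ ⊤ := by
      intro h
      apply hna
      refine ⟨⟨fun x y => ?_⟩⟩
      have := hBc.is_comm.comm ⟨x, by rw [h]; trivial⟩ ⟨y, by rw [h]; trivial⟩
      exact congrArg Subtype.val this
    have hB8 : Nat.card B ≠ 8 := by
      intro h
      apply hBne
      apply Subgroup.eq_top_of_card_eq
      rw [h, hc8]
    have hdiv : Nat.card B = 1 ∨ Nat.card B = 2 ∨ Nat.card B = 4 ∨ Nat.card B = 8 := by
      have h8 : (8:ℕ) = 2 ^ 3 := by norm_num
      rw [h8] at hBcard
      obtain ⟨j, hj, hBj⟩ := (Nat.dvd_prime_pow Nat.prime_two).mp hBcard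
      have hj0123 : j = 0 ∨ j = 1 ∨ j = 2 ∨ j = 3 := by omega
      rcases hj0123 with rfl | rfl | rfl | rfl <;> simp [hBj]
    rcases hdiv with h | h | h | h
    · apply hBn
      haveI : Subsingleton ↥B := (Finite.card_le_one_iff_subsingleton).mp (by omega)
      exact isCyclic_of_subsingleton
    · apply hBn
      exact isCyclic_of_prime_card h
    · apply hBn
      have hidx : B.index = 2 := by
        have h1 := Subgroup.card_mul_index B
        rw [h, hc8] at h1
        omega
      exact hn B (Subgroup.normal_of_index_eq_two hidx) hBc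
    · exact hB8 h
  · right; right
    have e1 : k + 3 + 1 = k + 4 := by omega
    have e2 : k + 3 - 1 = k + 2 := by omega
    refine ⟨k + 3, by omega, ?_, x, y, hx, hy, ?_⟩
    · rw [e1]; exact hcard
    · rw [e2]; exact hxy
  · left
    exact ⟨2 ^ (k + 1), ⟨e⟩⟩

theorem odd_case {P : Type*} [Group P] [Finite P] (p : ℕ) [Fact p.Prime] (hp2 : p ≠ 2)
    (hP : IsPGroup p P) (hn : ∀ A : Subgroup P, A.Normal → IsMulCommutative A → IsCyclic A)
    (B : Subgroup P) (hBc : IsMulCommutative B) (hBn : ¬ IsCyclic B) : False := by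
  have hpp : p.Prime := Fact.out
  obtain ⟨A, hAn, hAc, hAe, hCA⟩ := exists_alperin hP 1 (by rw [pow_one]; exact hp2)
  obtain ⟨a, hAa⟩ := Cfsg.Agent.S3379.exists_zpowers_eq A (hn A hAn hAc)
  subst hAa
  have hAe' : ∀ x ∈ Subgroup.zpowers a, x ^ p = 1 := fun x hx => by
    have := hAe x hx; rwa [pow_one] at this
  have hap : a ^ p = 1 := hAe' a (Subgroup.mem_zpowers a)
  have hacen : a ∈ Subgroup.center P := by
    by_cases ha1 : a = 1
    · rw [ha1]; exact one_mem _
    · haveI : Group.IsNilpotent P := hP.isNilpotent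
      have hne : Subgroup.zpowers a ≠ ⊥ := by
        intro h
        apply ha1
        have hmem : a ∈ (⊥ : Subgroup P) := by rw [← h]; exact Subgroup.mem_zpowers a
        exact Subgroup.mem_bot.mp hmem
      have h1 := Cfsg.Agent.Helper19.inf_center_ne_bot_of_normal (Subgroup.zpowers a) hne
      haveI := (Subgroup.nontrivial_iff_ne_bot _).mpr h1
      obtain ⟨x, hx1⟩ := exists_ne (1 : ↥(Subgroup.zpowers a ⊓ Subgroup.center P))
      have hxP : (x : P) ≠ 1 := fun h => hx1 (Subtype.ext h)
      have hxa : (x : P) ∈ Subgroup.zpowers a := x.2.1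
      have hxc : (x : P) ∈ Subgroup.center P := x.2.2
      have hox : orderOf (x : P) = p := orderOf_eq_prime (hAe' _ hxa) hxP
      have hoa : orderOf a = p := orderOf_eq_prime hap ha1
      have hle : Subgroup.zpowers (x : P) ≤ Subgroup.zpowers a := Subgroup.zpowers_le.mpr hxa
      have heq : Subgroup.zpowers (x : P) = Subgroup.zpowers a := by
        apply Subgroup.eq_of_le_of_card_ge hle
        rw [Nat.card_zpowers, Nat.card_zpowers, hox, hoa]
      have hmem : a ∈ Subgroup.zpowers (x : P) := by rw [heq]; exact Subgroup.mem_zpowers a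
      exact (Subgroup.zpowers_le.mpr hxc) hmem
  have hall : ∀ x : P, x ^ p = 1 → x ∈ Subgroup.zpowers a := by
    intro x hx
    apply hCA x _ (by rw [pow_one]; exact hx)
    rw [Subgroup.mem_centralizer_iff]
    intro y hy
    obtain ⟨j, rfl⟩ := Subgroup.mem_zpowers_iff.mp hy
    have hc : Commute a x := (Subgroup.mem_center_iff.mp hacen x).symm
    exact (hc.zpow_left j).eq
  have hcardA : Nat.card (Subgroup.zpowers a) ≤ p := by
    rw [Nat.card_zpowers]
    exact Nat.le_of_dvd hpp.pos (orderOf_dvd_of_pow_eq_one hap)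
  have huniq : ∀ H K : Subgroup ↥B, Nat.card H = p → Nat.card K = p → H = K := by
    have key : ∀ H : Subgroup ↥B, Nat.card H = p → H.map B.subtype = Subgroup.zpowers a := by
      intro H hH
      have hle : H.map B.subtype ≤ Subgroup.zpowers a := by
        rintro _ ⟨x, hx, rfl⟩
        apply hall
        have h1 : (⟨x, hx⟩ : H) ^ p = 1 := by rw [← hH]; exact pow_card_eq_one'
        have h2 := congrArg Subtype.val h1
        have h3 := congrArg Subtype.val h2
        simpa using h3
      apply Subgroup.eq_of_le_of_card_ge hle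
      rw [Subgroup.card_map_of_injective B.subtype_injective, hH]
      exact hcardA
    intro H K hH hK
    have hHK := (key H hH).trans (key K hK).symm
    exact Subgroup.map_injective B.subtype_injective hHK
  rcases Cfsg.Agent.S0016.result p (hP.to_subgroup B) huniq with hcyc | ⟨h2, -⟩
  · exact hBn hcyc
  · exact hp2 h2

/-- Let P be a finite p-group in which every abelian normal subgroup is cyclic, but which has a non-cyclic abelian
subgroup. Then p = 2 and P is generalized quaternion, dihedral of order at least 16, or quasi-dihedral. -/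
theorem result {P : Type*} [Group P] [Finite P] (p : ℕ) [Fact p.Prime]
    (hP : IsPGroup p P) (hn : ∀ A : Subgroup P, A.Normal → IsMulCommutative A → IsCyclic A)
    (hm : ∃ B : Subgroup P, IsMulCommutative B ∧ ¬ IsCyclic B) :
    p = 2 ∧ ((∃ n : ℕ, Nonempty (P ≃* QuaternionGroup n)) ∨ (∃ n : ℕ, 8 ≤ n ∧ Nonempty (P ≃* DihedralGroup n)) ∨
      Cfsg.IsQuasiDihedral P) := by
  obtain ⟨B, hBc, hBn⟩ := hm
  by_cases hp2 : p = 2
  · subst hp2
    exact ⟨rfl, two_case hP hn B hBc hBn⟩
  · exact (odd_case p hp2 hP hn B hBc hBn).elim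

end Cfsg.Agent.S0519
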