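import Mathlib
import Cfsg.Statements.S3380
import Cfsg.Agent.S0519
import Cfsg.Agent.S0016
import Cfsg.Agent.Helper19.Nilpotent

set_option autoImplicit false

open Cfsg

namespace Cfsg.Agent.S3380

theorem cyc_unique {G : Type*} [Group G] [Finite G] (B : Subgroup G) (hB : IsCyclic ↥B) (p : ℕ)
    (X Y : Subgroup G) (hX : X ≤ B) (hY : Y ≤ B) (hXc : Nat.card X = p) (hYc : Nat.card Y = p) :
    X = Y := by
  classical
  letI : CommGroup ↥B := IsCyclic.commGroup
  have hp : 0 < p := by rw [← hXc]; exact Nat.card_pos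
  obtain ⟨K, hK⟩ : ∃ K : Subgroup ↥B, K = (powMonoidHom p : ↥B →* ↥B).ker := ⟨_, rfl⟩
  have hKc : Nat.card K ≤ p := by
    rw [hK, @IsCyclic.card_powMonoidHom_ker ↥B _ hB _ p]
    exact Nat.gcd_le_right _ hp
  have key : ∀ Z : Subgroup G, Z ≤ B → Nat.card Z = p → Z.subgroupOf B = K := by
    intro Z hZ hZc
    have hc : Nat.card (Z.subgroupOf B) = p := by
      rw [← hZc]; exact Nat.card_congr (Subgroup.subgroupOfEquivOfLe hZ).toEquiv
    apply Subgroup.eq_of_le_of_card_ge
    · intro b hb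
      rw [hK, MonoidHom.mem_ker, powMonoidHom_apply]
      have h1 := pow_card_eq_one' (G := ↥(Z.subgroupOf B)) (x := ⟨b, hb⟩)
      rw [hc] at h1
      have h2 := congrArg Subtype.val h1
      simpa using h2
    · rw [hc]; exact hKc
  have h1 := key X hX hXc
  have h2 := key Y hY hYc
  apply le_antisymm
  · intro x hx
    have h3 : (⟨x, hX hx⟩ : ↥B) ∈ X.subgroupOf B := by rw [Subgroup.mem_subgroupOf]; exact hx
    rw [h1, ← h2, Subgroup.mem_subgroupOf] at h3
    exact h3
  · intro x hx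
    have h3 : (⟨x, hY hx⟩ : ↥B) ∈ Y.subgroupOf B := by rw [Subgroup.mem_subgroupOf]; exact hx
    rw [h2, ← h1, Subgroup.mem_subgroupOf] at h3
    exact h3

theorem quat_noncomm (n : ℕ) (h : ∀ u v : QuaternionGroup (2 ^ n), u * v = v * u) : n = 0 := by
  have h1 := h (QuaternionGroup.a 1) (QuaternionGroup.xa 0)
  rw [QuaternionGroup.a_mul_xa, QuaternionGroup.xa_mul_a] at h1
  have h2 : (0 - 1 : ZMod (2 * 2 ^ n)) = 0 + 1 := by
    injection h1
  have h3 : ((2 : ℕ) : ZMod (2 * 2 ^ n)) = 0 := by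
    have h4 : (2 : ZMod (2 * 2 ^ n)) = 0 := by linear_combination (-1 : ZMod (2 * 2 ^ n)) * h2
    exact_mod_cast h4
  have h5 : 2 * 2 ^ n ∣ 2 * 1 := by
    rw [mul_one]; exact (ZMod.natCast_eq_zero_iff 2 (2 * 2 ^ n)).mp h3
  have h6 : 2 ^ n ∣ 1 := Nat.dvd_of_mul_dvd_mul_left (by norm_num) h5
  have h7 : 2 ^ n ≤ 1 := Nat.le_of_dvd one_pos h6
  by_contra hn
  have h8 : 2 ^ 1 ≤ 2 ^ n := Nat.pow_le_pow_right (by norm_num) (Nat.one_le_iff_ne_zero.mpr hn)
  omega

theorem exists_two {G : Type*} [Group G] [Finite G] (p : ℕ) [Fact p.Prime] (hG : IsPGroup p G)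
    (A : Subgroup G) (hAc : ∀ a ∈ A, ∀ b ∈ A, a * b = b * a) (hAn : ¬ IsCyclic ↥A) :
    ∃ X Y : Subgroup G, X ≤ A ∧ Y ≤ A ∧ Nat.card X = p ∧ Nat.card Y = p ∧ X ≠ Y := by
  by_contra hcon
  push Not at hcon
  have hAp : IsPGroup p ↥A := hG.to_subgroup A
  have huniq : ∀ H K : Subgroup ↥A, Nat.card H = p → Nat.card K = p → H = K := by
    intro H K hH hK
    have h1 := hcon (H.map A.subtype) (K.map A.subtype) (Subgroup.map_subtype_le H)
      (Subgroup.map_subtype_le K)
      (by rw [Subgroup.card_map_of_injective A.subtype_injective]; exact hH)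
      (by rw [Subgroup.card_map_of_injective A.subtype_injective]; exact hK)
    exact Subgroup.map_injective A.subtype_injective h1
  rcases Cfsg.Agent.S0016.result p hAp huniq with hc | ⟨-, n, ⟨e⟩⟩
  · exact hAn hc
  · have hn : n = 0 := by
      apply quat_noncomm n
      intro u v
      have h1 := hAc (e.symm u) (e.symm u).2 (e.symm v) (e.symm v).2
      have h2 : e.symm u * e.symm v = e.symm v * e.symm u := Subtype.ext h1
      have h3 := congrArg e h2
      simpa using h3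
    subst hn
    apply hAn
    haveI : IsCyclic (QuaternionGroup (2 ^ 0)) := QuaternionGroup.quaternionGroup_one_isCyclic
    exact isCyclic_of_surjective e.symm e.symm.surjective

theorem exists_zy {G : Type*} [Group G] [Finite G] (p : ℕ) [Fact p.Prime] (hG : IsPGroup p G)
    (hnc : ¬ IsCyclic G) (hnq : ∀ n : ℕ, ¬ Nonempty (G ≃* QuaternionGroup n))
    (hnd : ∀ n : ℕ, ¬ Nonempty (G ≃* DihedralGroup n)) (hnsd : ¬ Cfsg.IsQuasiDihedral G) :
    ∃ z y : G, z ∈ Subgroup.center G ∧ z ≠ 1 ∧ z ^ p = 1 ∧ y ^ p = 1 ∧ y ∉ Subgroup.zpowers z ∧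
      ∀ g : G, g * y * g⁻¹ * y⁻¹ ∈ Subgroup.zpowers z := by
  have hp := (Fact.out : p.Prime)
  haveI : Nontrivial G := by
    by_contra h
    rw [not_nontrivial_iff_subsingleton] at h
    exact hnc inferInstance
  have hA : ∃ A : Subgroup G, A.Normal ∧ IsMulCommutative ↥A ∧ ¬ IsCyclic ↥A := by
    by_contra hcon
    push Not at hcon
    by_cases hm : ∃ B : Subgroup G, IsMulCommutative ↥B ∧ ¬ IsCyclic ↥B
    · obtain ⟨-, h | h | h⟩ := Cfsg.Agent.S0519.result p hG hcon hm
      · obtain ⟨n, hn⟩ := h; exact hnq n hn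
      · obtain ⟨n, -, hn⟩ := h; exact hnd n hn
      · exact hnsd h
    · push Not at hm
      obtain ⟨z0, hz0⟩ : ∃ z0 : ↥(Subgroup.center G), orderOf z0 = p := by
        apply exists_prime_orderOf_dvd_card'
        have hcp : IsPGroup p ↥(Subgroup.center G) := hG.to_subgroup _
        haveI := hG.center_nontrivial
        rcases hcp.card_eq_or_dvd with h | h
        · exact absurd h (Finite.one_lt_card).ne'
        · exact h
      obtain ⟨Z0, hZ0⟩ : ∃ Z0 : Subgroup G, Z0 = Subgroup.zpowers (z0 : G) := ⟨_, rfl⟩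
      have hZ0c : Nat.card Z0 = p := by
        rw [hZ0, Nat.card_zpowers, Subgroup.orderOf_coe]; exact hz0
      have hZ0cen : ∀ a ∈ Z0, ∀ g : G, g * a = a * g := by
        intro a ha g
        have h1 : a ∈ Subgroup.center G := by
          rw [hZ0] at ha
          exact (Subgroup.zpowers_le.mpr z0.2) ha
        exact Subgroup.mem_center_iff.mp h1 g
      have key : ∀ X : Subgroup G, Nat.card X = p → X = Z0 := by
        intro X hX
        haveI : IsCyclic ↥X := isCyclic_of_prime_card hX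
        have hXcomm : ∀ a ∈ X, ∀ b ∈ X, a * b = b * a := by
          intro a ha b hb
          letI := IsCyclic.commGroup (α := ↥X)
          exact congrArg Subtype.val (mul_comm (⟨a, ha⟩ : ↥X) ⟨b, hb⟩)
        obtain ⟨B, hBdef⟩ : ∃ B : Subgroup G,
            B = Subgroup.closure ((X : Set G) ∪ (Z0 : Set G)) := ⟨_, rfl⟩
        have hBcomm : IsMulCommutative ↥B := by
          rw [hBdef]
          apply Subgroup.isMulCommutative_closure
          intro a ha b hb
          rcases ha with ha | ha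
          · rcases hb with hb | hb
            · exact hXcomm a ha b hb
            · exact hZ0cen b hb a
          · exact (hZ0cen a ha b).symm
        have hBcyc := hm B hBcomm
        have hXB : X ≤ B := by
          rw [hBdef]; exact fun x hx => Subgroup.subset_closure (Or.inl hx)
        have hZB : Z0 ≤ B := by
          rw [hBdef]; exact fun x hx => Subgroup.subset_closure (Or.inr hx)
        exact cyc_unique B hBcyc p X Z0 hXB hZB hX hZ0c
      rcases Cfsg.Agent.S0016.result p hG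
        (fun H K hH hK => (key H hH).trans (key K hK).symm) with h | ⟨-, n, hn⟩
      · exact hnc h
      · exact hnq _ hn
  obtain ⟨A, hAnorm, hAcomm, hAnc⟩ := hA
  have hAc : ∀ a ∈ A, ∀ b ∈ A, a * b = b * a := fun a ha b hb => setLike_mul_comm ha hb
  obtain ⟨X, Y, hXA, hYA, hXc, hYc, hXY⟩ := exists_two p hG A hAc hAnc
  obtain ⟨Om, hOm⟩ : ∃ Om : Subgroup G, ∀ a, a ∈ Om ↔ a ∈ A ∧ a ^ p = 1 :=
    ⟨{ carrier := {a | a ∈ A ∧ a ^ p = 1}
       mul_mem' := by
         rintro a b ⟨ha, ha'⟩ ⟨hb, hb'⟩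
         exact ⟨A.mul_mem ha hb, by
           rw [(show Commute a b from hAc a ha b hb).mul_pow, ha', hb', one_mul]⟩
       one_mem' := ⟨A.one_mem, one_pow p⟩
       inv_mem' := by
         rintro a ⟨ha, ha'⟩
         exact ⟨A.inv_mem ha, by rw [inv_pow, ha', inv_one]⟩ }, fun a => Iff.rfl⟩
  haveI hOmN : Om.Normal := by
    constructor
    intro a ha g
    rw [hOm] at ha ⊢
    refine ⟨hAnorm.conj_mem a ha.1 g, ?_⟩
    rw [conj_pow, ha.2, mul_one, mul_inv_cancel]
  have hsub : ∀ Z : Subgroup G, Z ≤ A → Nat.card Z = p → Z ≤ Om := by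
    intro Z hZA hZc x hx
    rw [hOm]
    refine ⟨hZA hx, ?_⟩
    have h1 := pow_card_eq_one' (G := ↥Z) (x := ⟨x, hx⟩)
    rw [hZc] at h1
    have h2 := congrArg Subtype.val h1
    simpa using h2
  have hXO := hsub X hXA hXc
  have hYO := hsub Y hYA hYc
  have hOmne : Om ≠ ⊥ := by
    intro h
    rw [h] at hXO
    have h1 : X = ⊥ := le_bot_iff.mp hXO
    rw [h1, Subgroup.card_bot] at hXc
    exact hp.one_lt.ne hXc
  haveI : Group.IsNilpotent G := hG.isNilpotent
  have h1 := Cfsg.Agent.Helper19.inf_center_ne_bot_of_normal Om hOmne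
  obtain ⟨⟨z, hzmem⟩, hz1'⟩ := (Subgroup.ne_bot_iff_exists_ne_one).mp h1
  have hz1 : z ≠ 1 := fun h => hz1' (Subtype.ext h)
  have hzOm : z ∈ Om := hzmem.1
  have hzc : z ∈ Subgroup.center G := hzmem.2
  have hzp : z ^ p = 1 := ((hOm z).mp hzOm).2
  obtain ⟨Z1, hZ1⟩ : ∃ Z1 : Subgroup G, Z1 = Subgroup.zpowers z := ⟨_, rfl⟩
  have hZ1cen : ∀ t ∈ Z1, ∀ g : G, g * t = t * g := by
    intro t ht g
    rw [hZ1] at ht
    exact Subgroup.mem_center_iff.mp ((Subgroup.zpowers_le.mpr hzc) ht) g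
  haveI hZ1n : Z1.Normal := by
    constructor
    intro a ha g
    rw [hZ1cen a ha g, mul_inv_cancel_right]
    exact ha
  have hordz : orderOf z = p := orderOf_eq_prime hzp hz1
  have hZ1card : Nat.card ↥Z1 = p := by rw [hZ1, Nat.card_zpowers, hordz]
  have hnotle : ¬ Om ≤ Z1 := by
    intro hle
    apply hXY
    have e1 : X = Z1 := Subgroup.eq_of_le_of_card_ge (hXO.trans hle) (by rw [hXc, hZ1card])
    have e2 : Y = Z1 := Subgroup.eq_of_le_of_card_ge (hYO.trans hle) (by rw [hYc, hZ1card])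
    rw [e1, e2]
  obtain ⟨N', hN'⟩ : ∃ N' : Subgroup (G ⧸ Z1), N' = Om.map (QuotientGroup.mk' Z1) := ⟨_, rfl⟩
  haveI hN'n : N'.Normal := by
    rw [hN']
    exact Subgroup.Normal.map hOmN (QuotientGroup.mk' Z1) (QuotientGroup.mk'_surjective Z1)
  have hN'ne : N' ≠ ⊥ := by
    intro h
    apply hnotle
    rw [hN', Subgroup.map_eq_bot_iff, QuotientGroup.ker_mk'] at h
    exact h
  haveI : Group.IsNilpotent (G ⧸ Z1) := (hG.to_quotient Z1).isNilpotent
  have h2 := Cfsg.Agent.Helper19.inf_center_ne_bot_of_normal N' hN'ne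
  obtain ⟨⟨yb, hybmem⟩, hyb1'⟩ := (Subgroup.ne_bot_iff_exists_ne_one).mp h2
  have hyb1 : yb ≠ 1 := fun h => hyb1' (Subtype.ext h)
  have hybN : yb ∈ N' := hybmem.1
  have hybc : yb ∈ Subgroup.center (G ⧸ Z1) := hybmem.2
  rw [hN'] at hybN
  obtain ⟨y, hyOm, hy2⟩ := Subgroup.mem_map.mp hybN
  have hyp : y ^ p = 1 := ((hOm y).mp hyOm).2
  refine ⟨z, y, hzc, hz1, hzp, hyp, ?_, ?_⟩
  · intro hy
    apply hyb1
    rw [← hy2]
    rw [← hZ1] at hy
    exact (QuotientGroup.eq_one_iff y).mpr hy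
  · intro g
    rw [← hZ1]
    apply (QuotientGroup.eq_one_iff _).mp
    have h3 := Subgroup.mem_center_iff.mp hybc (QuotientGroup.mk' Z1 g)
    rw [← hy2] at h3
    have h4 : (QuotientGroup.mk' Z1) (g * y * g⁻¹ * y⁻¹) = 1 := by
      rw [map_mul, map_mul, map_mul, map_inv, map_inv, h3]
      group
    exact h4

section rep
variable {q : ℕ} [Fact q.Prime] {V : Type*} [AddCommGroup V] [Module (ZMod q) V]
  {G : Type*} [Group G] (ρ : G →* (V ≃ₗ[ZMod q] V))

theorem rho_mul (g h : G) (v : V) : ρ (g * h) v = ρ g (ρ h v) := by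
  rw [map_mul]; rfl

theorem rho_one (v : V) : ρ 1 v = v := by
  rw [map_one]; rfl

theorem fixed_pow (g : G) (w : V) (h : ρ g w = w) (m : ℕ) : ρ (g ^ m) w = w := by
  induction m with
  | zero => rw [pow_zero, rho_one]
  | succ m ih => rw [pow_succ, rho_mul, h, ih]

theorem sum_fixed (p : ℕ) (g : G) (hg : g ^ p = 1) (v : V) :
    ρ g (∑ k ∈ Finset.range p, ρ (g ^ k) v) = ∑ k ∈ Finset.range p, ρ (g ^ k) v := by
  rw [map_sum]
  have h1 : ∀ k, ρ g (ρ (g ^ k) v) = ρ (g ^ (k + 1)) v := by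
    intro k; rw [← rho_mul, ← pow_succ']
  simp only [h1]
  have h2 := Finset.sum_range_succ (fun k => ρ (g ^ k) v) p
  have h3 := Finset.sum_range_succ' (fun k => ρ (g ^ k) v) p
  rw [h2] at h3
  simp only [hg, pow_zero] at h3
  exact (add_right_cancel h3).symm

theorem smul_p_eq_zero (p : ℕ) [Fact p.Prime] (hpq : p ≠ q) (v : V) (h : p • v = 0) : v = 0 := by
  have hp0 : ((p : ℕ) : ZMod q) ≠ 0 := by
    intro h0
    rw [ZMod.natCast_eq_zero_iff] at h0
    exact hpq ((Nat.prime_dvd_prime_iff_eq Fact.out Fact.out).mp h0).symm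
  have h1 : ((p : ℕ) : ZMod q) • v = 0 := by rw [Nat.cast_smul_eq_nsmul]; exact h
  have h2 : v = ((p : ℕ) : ZMod q)⁻¹ • (((p : ℕ) : ZMod q) • v) := by
    rw [smul_smul, inv_mul_cancel₀ hp0, one_smul]
  rw [h2, h1, smul_zero]

theorem kill (p : ℕ) [Fact p.Prime] (z : G) (hz : z ^ p = 1) (hfix : ∀ v : V, ρ z v = v → v = 0)
    (e : ℕ) (he : Nat.Coprime e p) (v : V) : ∑ k ∈ Finset.range p, ρ ((z ^ e) ^ k) v = 0 := by
  apply hfix
  have h1 : (z ^ e) ^ p = 1 := by rw [← pow_mul, mul_comm, pow_mul, hz, one_pow]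
  have h2 := sum_fixed ρ p (z ^ e) h1 v
  obtain ⟨m, -, hm⟩ := Nat.exists_mul_mod_eq_one_of_coprime he (Fact.out : p.Prime).one_lt
  have h3 : (z ^ e) ^ m = z := by
    rw [← pow_mul, pow_eq_pow_mod (e * m) hz, hm, pow_one]
  have h4 := fixed_pow ρ (z ^ e) _ h2 m
  rw [h3] at h4
  exact h4

theorem pow_u (z y : G) (hzy : z * y = y * z) (i k : ℕ) :
    (y * z ^ i) ^ k = y ^ k * (z ^ k) ^ i := by
  have hc : Commute y (z ^ i) := ((show Commute z y from hzy).symm).pow_right i
  rw [hc.mul_pow, pow_right_comm]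

theorem sum_all (p : ℕ) [Fact p.Prime] (z y : G) (hzy : z * y = y * z) (hz : z ^ p = 1)
    (hfix : ∀ v : V, ρ z v = v → v = 0) (v : V) :
    ∑ i ∈ Finset.range p, ∑ k ∈ Finset.range p, ρ ((y * z ^ i) ^ k) v = p • v := by
  rw [Finset.sum_comm]
  have hp := (Fact.out : p.Prime)
  have h1 : ∀ k ∈ Finset.range p, ∑ i ∈ Finset.range p, ρ ((y * z ^ i) ^ k) v
      = ρ (y ^ k) (∑ i ∈ Finset.range p, ρ ((z ^ k) ^ i) v) := by
    intro k _
    rw [map_sum]
    apply Finset.sum_congr rfl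
    intro i _
    rw [pow_u z y hzy, rho_mul]
  rw [Finset.sum_congr rfl h1]
  rw [Finset.sum_eq_single 0]
  · simp only [pow_zero, one_pow, rho_one]
    rw [Finset.sum_const, Finset.card_range]
  · intro k hk hk0
    have hkp : k < p := Finset.mem_range.mp hk
    have hcop : Nat.Coprime k p := by
      apply Nat.Coprime.symm
      rw [Nat.Prime.coprime_iff_not_dvd hp]
      intro hd
      exact absurd (Nat.le_of_dvd (Nat.pos_of_ne_zero hk0) hd) (not_le.mpr hkp)
    rw [kill ρ p z hz hfix k hcop v, map_zero]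
  · intro h0
    exact absurd (Finset.mem_range.mpr hp.pos) h0

theorem fix_mem (g : G) (v : V) :
    v ∈ LinearMap.eqLocus ((ρ g : V ≃ₗ[ZMod q] V) : V →ₗ[ZMod q] V) LinearMap.id ↔ ρ g v = v := by
  rw [LinearMap.mem_eqLocus]; rfl

theorem sup_top (p : ℕ) [Fact p.Prime] (hpq : p ≠ q) (z y : G) (hzy : z * y = y * z)
    (hz : z ^ p = 1) (hy : y ^ p = 1) (hfix : ∀ v : V, ρ z v = v → v = 0) :
    (⨆ i : Fin p, LinearMap.eqLocus ((ρ (y * z ^ (i : ℕ)) : V ≃ₗ[ZMod q] V) : V →ₗ[ZMod q] V)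
      LinearMap.id) = ⊤ := by
  rw [eq_top_iff]
  intro v _
  have hp0 : ((p : ℕ) : ZMod q) ≠ 0 := by
    intro h0
    rw [ZMod.natCast_eq_zero_iff] at h0
    exact hpq ((Nat.prime_dvd_prime_iff_eq Fact.out Fact.out).mp h0).symm
  have h1 := sum_all ρ p z y hzy hz hfix v
  have h2 : p • v ∈ (⨆ i : Fin p, LinearMap.eqLocus
      ((ρ (y * z ^ (i : ℕ)) : V ≃ₗ[ZMod q] V) : V →ₗ[ZMod q] V) LinearMap.id) := by
    rw [← h1, ← Fin.sum_univ_eq_sum_range
      (fun i => ∑ k ∈ Finset.range p, ρ ((y * z ^ i) ^ k) v) p]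
    apply Submodule.sum_mem
    intro i _
    apply Submodule.mem_iSup_of_mem i
    rw [fix_mem]
    apply sum_fixed
    rw [pow_u z y hzy, hy, hz, one_pow, one_mul]
  have h3 : v = ((p : ℕ) : ZMod q)⁻¹ • (p • v) := by
    rw [← Nat.cast_smul_eq_nsmul (ZMod q), smul_smul, inv_mul_cancel₀ hp0, one_smul]
  rw [h3]
  exact Submodule.smul_mem _ _ h2

theorem indep (p : ℕ) [Fact p.Prime] (hpq : p ≠ q) (z y : G) (hzy : z * y = y * z)
    (hz : z ^ p = 1) (hfix : ∀ v : V, ρ z v = v → v = 0) :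
    iSupIndep (fun i : Fin p => LinearMap.eqLocus
      ((ρ (y * z ^ (i : ℕ)) : V ≃ₗ[ZMod q] V) : V →ₗ[ZMod q] V) LinearMap.id) := by
  intro i
  rw [Submodule.disjoint_def]
  intro w hwi hws
  rw [fix_mem] at hwi
  obtain ⟨T, hT⟩ : ∃ T : V →ₗ[ZMod q] V,
      ∀ v, T v = ∑ k ∈ Finset.range p, ρ ((y * z ^ (i : ℕ)) ^ k) v :=
    ⟨∑ k ∈ Finset.range p, ((ρ ((y * z ^ (i : ℕ)) ^ k) : V ≃ₗ[ZMod q] V) : V →ₗ[ZMod q] V),
      fun v => by rw [LinearMap.sum_apply]; rfl⟩
  have h1 : T w = p • w := by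
    rw [hT, Finset.sum_congr rfl (fun k _ => fixed_pow ρ _ w hwi k), Finset.sum_const,
      Finset.card_range]
  have h2 : (⨆ j, ⨆ (_ : j ≠ i), LinearMap.eqLocus
      ((ρ (y * z ^ (j : ℕ)) : V ≃ₗ[ZMod q] V) : V →ₗ[ZMod q] V) LinearMap.id)
      ≤ LinearMap.ker T := by
    apply iSup_le; intro j; apply iSup_le; intro hj
    intro x hx
    rw [fix_mem] at hx
    rw [LinearMap.mem_ker, hT]
    obtain ⟨e, he⟩ : ∃ e : ℕ, e = (i : ℕ) + (p - (j : ℕ)) := ⟨_, rfl⟩
    have hji : (j : ℕ) ≠ (i : ℕ) := fun h => hj (Fin.ext h)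
    have hjp : (j : ℕ) < p := j.2
    have hip : (i : ℕ) < p := i.2
    have hcop : Nat.Coprime e p := by
      apply Nat.Coprime.symm
      rw [Nat.Prime.coprime_iff_not_dvd Fact.out]
      rintro ⟨c, hc⟩
      rcases Nat.lt_or_ge c 2 with hc2 | hc2
      · interval_cases c
        · omega
        · omega
      · have := Nat.mul_le_mul_left p hc2
        omega
    have hui : y * z ^ (i : ℕ) = (y * z ^ (j : ℕ)) * z ^ e := by
      rw [mul_assoc, ← pow_add, he]
      have h5 : (j : ℕ) + ((i : ℕ) + (p - (j : ℕ))) = (i : ℕ) + p := by omega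
      rw [h5, pow_add, hz, mul_one]
    have hcomm : Commute (y * z ^ (j : ℕ)) (z ^ e) := by
      have h5 : Commute z (y * z ^ (j : ℕ)) :=
        (show Commute z y from hzy).mul_right ((Commute.refl z).pow_right _)
      exact (h5.pow_left e).symm
    have hk : ∀ k, ρ ((y * z ^ (i : ℕ)) ^ k) x = ρ ((z ^ e) ^ k) x := by
      intro k
      rw [hui, hcomm.mul_pow, (hcomm.pow_pow k k).eq, rho_mul, fixed_pow ρ _ x hx k]
    rw [Finset.sum_congr rfl (fun k _ => hk k)]
    exact kill ρ p z hz hfix e hcop x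
  have h3 : T w = 0 := LinearMap.mem_ker.mp (h2 hws)
  rw [h1] at h3
  exact smul_p_eq_zero p hpq w h3

end rep

theorem addRight_pow {n : ℕ} [NeZero n] (a : Fin n) (m : ℕ) (i : Fin n) :
    (Equiv.addRight a ^ m) i = i + m • a := by
  induction m generalizing i with
  | zero => simp
  | succ m ih =>
    rw [pow_succ, Equiv.Perm.mul_apply, Equiv.coe_addRight, ih, succ_nsmul, add_comm (m • a) a,
      add_assoc]

/-- Let a finite p-group G act faithfully and irreducibly on a non-trivial finite vector space V over the field with q elements (q prime), and suppose G is not cyclic, generalized quaternion, dihedral or semidihedral. Then G has a subgroup H of index p and V is the direct sum of p subspaces, each invariant under H, on none of which H acts faithfully, and which every element of G outside H permutes in a single p-cycle. -/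
theorem result
    (q : ℕ) [Fact q.Prime] {V : Type*} [AddCommGroup V] [Module (ZMod q) V] [Finite V] [Nontrivial V]
    {G : Type*} [Group G] [Finite G] (p : ℕ) [Fact p.Prime] (hG : IsPGroup p G)
    (ρ : G →* (V ≃ₗ[ZMod q] V)) (hρ : Function.Injective ρ)
    (hirr : ∀ W : Submodule (ZMod q) V, (∀ g : G, ∀ w ∈ W, ρ g w ∈ W) → W = ⊥ ∨ W = ⊤)
    (hnc : ¬ IsCyclic G) (hnq : ∀ n : ℕ, ¬ Nonempty (G ≃* QuaternionGroup n))
    (hnd : ∀ n : ℕ, ¬ Nonempty (G ≃* DihedralGroup n)) (hnsd : ¬ Cfsg.IsQuasiDihedral G) :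
    ∃ (H : Subgroup G) (W : Fin p → Submodule (ZMod q) V), H.index = p ∧
      iSup W = ⊤ ∧ iSupIndep W ∧
      (∀ h ∈ H, ∀ i, ∀ w ∈ W i, ρ h w ∈ W i) ∧
      (∀ i, ∃ h ∈ H, h ≠ 1 ∧ ∀ w ∈ W i, ρ h w = w) ∧
      ∀ g : G, g ∉ H → ∃ σ : Equiv.Perm (Fin p), orderOf σ = p ∧ ∀ i, (W i).map (ρ g : V →ₗ[ZMod q] V) = W (σ i) := by
  classical
  have hp := (Fact.out : p.Prime)
  have hq := (Fact.out : q.Prime)
  have hpq : p ≠ q := by
    intro hEq
    letI : MulAction G V := MulAction.compHom V ρ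
    have hsm : ∀ (g : G) (v : V), g • v = ρ g v := fun g v => rfl
    have h1 := hG.card_modEq_card_fixedPoints V
    have hpV : p ∣ Nat.card V := by
      obtain ⟨v, hv⟩ := exists_ne (0 : V)
      have h2 : addOrderOf v = q := by
        apply addOrderOf_eq_prime
        · rw [← Nat.cast_smul_eq_nsmul (ZMod q), ZMod.natCast_self, zero_smul]
        · exact hv
      rw [hEq, ← h2]; exact addOrderOf_dvd_natCard v
    have h3 : p ∣ Nat.card (MulAction.fixedPoints G V) :=
      (Nat.modEq_zero_iff_dvd).mp (h1.symm.trans ((Nat.modEq_zero_iff_dvd).mpr hpV))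
    have h4 : ∃ v : V, v ≠ 0 ∧ ∀ g : G, ρ g v = v := by
      by_contra hcon
      push Not at hcon
      have h5 : ∀ x : MulAction.fixedPoints G V,
          x = ⟨0, fun g => by rw [hsm, map_zero]⟩ := by
        intro x
        apply Subtype.ext
        by_contra hx
        obtain ⟨g, hg⟩ := hcon x.1 hx
        exact hg (x.2 g)
      have h6 : Nat.card (MulAction.fixedPoints G V) = 1 := by
        rw [Nat.card_eq_one_iff_unique]
        exact ⟨⟨fun a b => (h5 a).trans (h5 b).symm⟩, ⟨⟨0, fun g => by rw [hsm, map_zero]⟩⟩⟩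
      rw [h6] at h3
      exact hp.one_lt.ne' (Nat.dvd_one.mp h3)
    obtain ⟨v, hv0, hv⟩ := h4
    obtain ⟨F, hF⟩ : ∃ F : Submodule (ZMod q) V, ∀ w, w ∈ F ↔ ∀ g : G, ρ g w = w :=
      ⟨{ carrier := {w | ∀ g : G, ρ g w = w}
         add_mem' := by intro a b ha hb g; rw [map_add, ha g, hb g]
         zero_mem' := by intro g; rw [map_zero]
         smul_mem' := by intro c a ha g; rw [map_smul, ha g] }, fun w => Iff.rfl⟩
    rcases hirr F (fun g w hw => by rw [(hF w).mp hw g]; exact hw) with h | h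
    · have h7 : v ∈ F := (hF v).mpr hv
      rw [h] at h7
      exact hv0 ((Submodule.mem_bot _).mp h7)
    · apply hnc
      haveI : Subsingleton G := by
        constructor
        intro a b
        apply hρ
        apply LinearEquiv.ext
        intro w
        have hw : w ∈ F := by rw [h]; exact Submodule.mem_top
        rw [(hF w).mp hw a, (hF w).mp hw b]
      infer_instance
  obtain ⟨z, y, hzc, hz1, hzp, hyp, hyz, hcomm⟩ := exists_zy p hG hnc hnq hnd hnsd
  have hzall : ∀ g : G, g * z = z * g := Subgroup.mem_center_iff.mp hzc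
  have hzy : z * y = y * z := (hzall y).symm
  have hfix : ∀ v : V, ρ z v = v → v = 0 := by
    obtain ⟨F, hF⟩ : ∃ F : Submodule (ZMod q) V, ∀ w, w ∈ F ↔ ρ z w = w :=
      ⟨LinearMap.eqLocus _ _, fun w => fix_mem ρ z w⟩
    rcases hirr F (fun g w hw => by
        rw [hF] at hw ⊢
        rw [← rho_mul, ← hzall g, rho_mul, hw]) with h | h
    · intro v hv
      have h7 : v ∈ F := (hF v).mpr hv
      rw [h] at h7
      exact (Submodule.mem_bot _).mp h7
    · exfalso
      apply hz1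
      apply hρ
      apply LinearEquiv.ext
      intro w
      have hw : w ∈ F := by rw [h]; exact Submodule.mem_top
      rw [(hF w).mp hw, rho_one]
  obtain ⟨Z1, hZ1⟩ : ∃ Z1 : Subgroup G, Z1 = Subgroup.zpowers z := ⟨_, rfl⟩
  have hZ1cen : ∀ t ∈ Z1, ∀ g : G, g * t = t * g := by
    intro t ht g
    rw [hZ1] at ht
    exact Subgroup.mem_center_iff.mp ((Subgroup.zpowers_le.mpr hzc) ht) g
  have hcomm' : ∀ g : G, g * y * g⁻¹ * y⁻¹ ∈ Z1 := by rw [hZ1]; exact hcomm
  obtain ⟨f, hf⟩ : ∃ f : G →* ↥Z1, ∀ g, (f g : G) = g * y * g⁻¹ * y⁻¹ := by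
    refine ⟨MonoidHom.mk' (fun g => ⟨g * y * g⁻¹ * y⁻¹, hcomm' g⟩) ?_, fun g => rfl⟩
    intro a b
    apply Subtype.ext
    show a * b * y * (a * b)⁻¹ * y⁻¹ = (a * y * a⁻¹ * y⁻¹) * (b * y * b⁻¹ * y⁻¹)
    have ht := hZ1cen _ (hcomm' b)
    calc a * b * y * (a * b)⁻¹ * y⁻¹
        = (a * (b * y * b⁻¹ * y⁻¹)) * (y * a⁻¹ * y⁻¹) := by group
      _ = ((b * y * b⁻¹ * y⁻¹) * a) * (y * a⁻¹ * y⁻¹) := by rw [ht a]
      _ = (b * y * b⁻¹ * y⁻¹) * (a * y * a⁻¹ * y⁻¹) := by group
      _ = (a * y * a⁻¹ * y⁻¹) * (b * y * b⁻¹ * y⁻¹) := (ht _).symm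
  have hHmem : ∀ h : G, h ∈ f.ker ↔ h * y = y * h := by
    intro h
    rw [MonoidHom.mem_ker]
    constructor
    · intro h1
      have h2 := congrArg Subtype.val h1
      rw [hf] at h2
      have h3 : h * y * h⁻¹ * y⁻¹ = 1 := h2
      calc h * y = (h * y * h⁻¹ * y⁻¹) * (y * h) := by group
        _ = y * h := by rw [h3, one_mul]
    · intro h1
      apply Subtype.ext
      rw [hf, h1]
      show y * h * h⁻¹ * y⁻¹ = 1
      group
  have hordz : orderOf z = p := orderOf_eq_prime hzp hz1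
  have hZ1card : Nat.card ↥Z1 = p := by rw [hZ1, Nat.card_zpowers, hordz]
  have htop := sup_top ρ p hpq z y hzy hzp hyp hfix
  have hindex : f.ker.index = p := by
    rw [Subgroup.index_ker]
    have h1 : Nat.card ↥f.range ∣ p := by
      rw [← hZ1card]; exact Subgroup.card_subgroup_dvd_card f.range
    rcases (Nat.dvd_prime hp).mp h1 with h | h
    · exfalso
      have hbot : f.range = ⊥ := Subgroup.eq_bot_of_card_eq _ h
      have hycen : ∀ g : G, g * y = y * g := by
        intro g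
        rw [← hHmem, MonoidHom.mem_ker]
        have h2 : f g ∈ f.range := ⟨g, rfl⟩
        rw [hbot] at h2
        exact Subgroup.mem_bot.mp h2
      have hWinv : ∀ i : ℕ, (LinearMap.eqLocus
          ((ρ (y * z ^ i) : V ≃ₗ[ZMod q] V) : V →ₗ[ZMod q] V) LinearMap.id = ⊥) := by
        intro i
        rcases hirr (LinearMap.eqLocus
            ((ρ (y * z ^ i) : V ≃ₗ[ZMod q] V) : V →ₗ[ZMod q] V) LinearMap.id) (fun g w hw => by
          rw [fix_mem] at hw ⊢
          have hc : (y * z ^ i) * g = g * (y * z ^ i) := by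
            have h1 : Commute g (y * z ^ i) :=
              (show Commute g y from hycen g).mul_right
                ((show Commute g z from hzall g).pow_right i)
            exact h1.eq.symm
          rw [← rho_mul, hc, rho_mul, hw]) with h | h
        · exact h
        · exfalso
          apply hyz
          have h1 : y * z ^ i = 1 := by
            apply hρ
            apply LinearEquiv.ext
            intro w
            have hw : w ∈ LinearMap.eqLocus
                ((ρ (y * z ^ i) : V ≃ₗ[ZMod q] V) : V →ₗ[ZMod q] V) LinearMap.id := by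
              rw [h]; exact Submodule.mem_top
            rw [(fix_mem ρ _ w).mp hw, rho_one]
          have h2 : y = (z ^ i)⁻¹ := eq_inv_of_mul_eq_one_left h1
          rw [h2]
          exact Subgroup.inv_mem _ (Subgroup.pow_mem _ (Subgroup.mem_zpowers z) i)
      have hbot' : (⨆ i : Fin p, LinearMap.eqLocus
          ((ρ (y * z ^ (i : ℕ)) : V ≃ₗ[ZMod q] V) : V →ₗ[ZMod q] V) LinearMap.id) = ⊥ := by
        rw [iSup_eq_bot]; intro i; exact hWinv i
      rw [hbot'] at htop
      exact bot_ne_top htop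
    · exact h
  refine ⟨f.ker, fun i : Fin p => LinearMap.eqLocus
    ((ρ (y * z ^ (i : ℕ)) : V ≃ₗ[ZMod q] V) : V →ₗ[ZMod q] V) LinearMap.id, hindex, htop,
    indep ρ p hpq z y hzy hzp hfix, ?_, ?_, ?_⟩
  · intro h hh i w hw
    beta_reduce at hw ⊢
    rw [fix_mem] at hw ⊢
    have hy' := (hHmem h).mp hh
    have hc : (y * z ^ (i : ℕ)) * h = h * (y * z ^ (i : ℕ)) := by
      have h1 : Commute h (y * z ^ (i : ℕ)) :=
        (show Commute h y from hy').mul_right ((show Commute h z from hzall h).pow_right _)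
      exact h1.eq.symm
    rw [← rho_mul, hc, rho_mul, hw]
  · intro i
    refine ⟨y * z ^ (i : ℕ), ?_, ?_, ?_⟩
    · rw [hHmem]
      have h1 : Commute (y * z ^ (i : ℕ)) y :=
        (Commute.refl y).mul_left ((show Commute z y from hzy).pow_left _)
      exact h1.eq
    · intro h1
      apply hyz
      have h2 : y = (z ^ (i : ℕ))⁻¹ := eq_inv_of_mul_eq_one_left h1
      rw [h2]
      exact Subgroup.inv_mem _ (Subgroup.pow_mem _ (Subgroup.mem_zpowers z) _)
    · intro w hw
      exact (fix_mem ρ _ w).mp hw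
  · intro g hg
    have hfg : (f g : G) ∈ Subgroup.zpowers z := by rw [← hZ1]; exact (f g).2
    obtain ⟨k0, hk0⟩ := (Submonoid.mem_powers_iff _ _).mp (mem_powers_iff_mem_zpowers.mpr hfg)
    obtain ⟨k, hkdef⟩ : ∃ k : ℕ, k = k0 % p := ⟨_, rfl⟩
    have hkp : k < p := by rw [hkdef]; exact Nat.mod_lt _ hp.pos
    have hzk : z ^ k = g * y * g⁻¹ * y⁻¹ := by
      rw [hkdef, ← pow_eq_pow_mod k0 hzp, hk0, hf]
    have hk0' : k ≠ 0 := by
      intro h0
      apply hg
      rw [hHmem]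
      rw [h0, pow_zero] at hzk
      calc g * y = (g * y * g⁻¹ * y⁻¹) * (y * g) := by group
        _ = y * g := by rw [← hzk, one_mul]
    have hconj : ∀ i : ℕ, g * (y * z ^ i) * g⁻¹ = y * z ^ (i + k) := by
      intro i
      have h1 : g * y * g⁻¹ = z ^ k * y := by rw [hzk]; group
      have h2 : g * z ^ i * g⁻¹ = z ^ i := by
        have h3 : Commute g (z ^ i) := (show Commute g z from hzall g).pow_right i
        rw [h3.eq, mul_inv_cancel_right]
      calc g * (y * z ^ i) * g⁻¹ = (g * y * g⁻¹) * (g * z ^ i * g⁻¹) := by group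
        _ = z ^ k * y * z ^ i := by rw [h1, h2]
        _ = y * z ^ k * z ^ i := by rw [((show Commute z y from hzy).pow_left k).eq]
        _ = y * z ^ (i + k) := by rw [mul_assoc, ← pow_add, add_comm]
    haveI : NeZero p := ⟨hp.ne_zero⟩
    obtain ⟨kf, hkf⟩ : ∃ kf : Fin p, (kf : ℕ) = k := ⟨⟨k, hkp⟩, rfl⟩
    refine ⟨Equiv.addRight kf, ?_, ?_⟩
    · apply orderOf_eq_prime
      · ext i
        rw [addRight_pow]
        have h1 := card_nsmul_eq_zero (G := Fin p) (x := kf)
        rw [Fintype.card_fin] at h1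
        rw [h1, add_zero]
        rfl
      · intro h1
        have h2 := congrArg (fun s : Equiv.Perm (Fin p) => s 0) h1
        simp only [Equiv.coe_addRight, zero_add, Equiv.Perm.coe_one, id_eq] at h2
        apply hk0'
        rw [← hkf, h2]
        rfl
    · intro i
      have hσ : ((Equiv.addRight kf i : Fin p) : ℕ) = ((i : ℕ) + k) % p := by
        rw [Equiv.coe_addRight, Fin.val_add, hkf]
      have hu : y * z ^ ((Equiv.addRight kf i : Fin p) : ℕ) = g * (y * z ^ (i : ℕ)) * g⁻¹ := by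
        rw [hσ, ← pow_eq_pow_mod _ hzp, hconj]
      ext w
      rw [Submodule.mem_map]
      beta_reduce
      rw [fix_mem, hu]
      constructor
      · rintro ⟨v, hv, rfl⟩
        rw [fix_mem] at hv
        show ρ (g * (y * z ^ (i : ℕ)) * g⁻¹) (ρ g v) = ρ g v
        rw [← rho_mul, inv_mul_cancel_right, rho_mul, hv]
      · intro hw
        refine ⟨ρ g⁻¹ w, ?_, ?_⟩
        · rw [fix_mem, ← rho_mul]
          have h5 : (y * z ^ (i : ℕ)) * g⁻¹ = g⁻¹ * (g * (y * z ^ (i : ℕ)) * g⁻¹) := by group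
          rw [h5, rho_mul, hw]
        · show ρ g (ρ g⁻¹ w) = w
          rw [← rho_mul, mul_inv_cancel, rho_one]

end Cfsg.Agent.S3380
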