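import Cfsg.Statements.S0271
import Mathlib
import Cfsg.Agent.S0766
-- import your own Cfsg.Agent.* helpers here

set_option autoImplicit false
open Cfsg

namespace Cfsg.Agent.S0271



/-- Sp_{2m}(F) is transitive on non-zero vectors. -/
theorem result {F : Type*} [Field F] (m : ℕ) (v w : Fin m ⊕ Fin m → F) (hv : v ≠ 0) (hw : w ≠ 0) : ∃ g : Matrix.symplecticGroup (Fin m) F, (g : Matrix (Fin m ⊕ Fin m) (Fin m ⊕ Fin m) F).mulVec v = w := by
  classical
  have hx : LinearIndependent F (![v] : Fin 1 → (Fin m ⊕ Fin m → F)) :=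
    linearIndependent_unique_iff.mpr (by simpa using hv)
  have hy : LinearIndependent F (![w] : Fin 1 → (Fin m ⊕ Fin m → F)) :=
    linearIndependent_unique_iff.mpr (by simpa using hw)
  obtain ⟨g, hgT, hg1, hg2⟩ := S0766.witt_gen (S0766.sB m F) (S0766.sB_nondeg m F)
    (S0766.sB_alt m F) (S0766.Tset m F) (S0766.id_mem m F) (S0766.comp_mem m F)
    (S0766.transv_mem m F) ![v] ![w] hx hy (fun i j => by
      fin_cases i
      fin_cases j
      show S0766.sB m F w w = S0766.sB m F v v
      rw [(S0766.sB_alt m F).self_eq_zero w, (S0766.sB_alt m F).self_eq_zero v])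
  obtain ⟨M, hM, hgM⟩ := hgT
  refine ⟨M, ?_⟩
  rw [← hgM]
  exact hg2 0


end Cfsg.Agent.S0271
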