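import Cfsg.Statements.S0269
import Mathlib
import Cfsg.Agent.S0766
import Cfsg.Agent.S0765
import Cfsg.Agent.S0271
import Cfsg.Agent.S0764
import Cfsg.Agent.S2585
import Cfsg.Agent.S0245
import Cfsg.Agent.S0752
-- import your own Cfsg.Agent.* helpers here

set_option autoImplicit false
open Cfsg

namespace Cfsg.Agent.S0269


open Matrix

variable {F : Type*} [Field F]

/-- A symplectic transvection as an element of the symplectic group. -/
noncomputable def Tr (m : ℕ) (w : Fin m ⊕ Fin m → F) (c : F) : Matrix.symplecticGroup (Fin m) F :=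
  ⟨Cfsg.sympTransvection m w c, S0764.result m w c⟩

theorem Tr_act (m : ℕ) (w : Fin m ⊕ Fin m → F) (c : F) (v : Fin m ⊕ Fin m → F) :
    (Tr m w c : Matrix (Fin m ⊕ Fin m) (Fin m ⊕ Fin m) F) *ᵥ v
      = v + (c * S0766.sB m F v w) • w := by
  rw [S0766.sB_apply]
  exact S0766.transv_mulVec m w c v

theorem sp_ext (m : ℕ) (A B : Matrix.symplecticGroup (Fin m) F)
    (h : ∀ v : Fin m ⊕ Fin m → F, (A : Matrix (Fin m ⊕ Fin m) (Fin m ⊕ Fin m) F) *ᵥ v
      = (B : Matrix (Fin m ⊕ Fin m) (Fin m ⊕ Fin m) F) *ᵥ v) : A = B := by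
  classical
  apply Subtype.ext
  ext i j
  have h1 := congrFun (h (Pi.single j 1)) i
  rw [Matrix.mulVec_single_one, Matrix.mulVec_single_one] at h1
  exact h1

theorem mul_act (m : ℕ) (A B : Matrix.symplecticGroup (Fin m) F) (v : Fin m ⊕ Fin m → F) :
    ((A * B : Matrix.symplecticGroup (Fin m) F) : Matrix (Fin m ⊕ Fin m) (Fin m ⊕ Fin m) F) *ᵥ v
      = (A : Matrix (Fin m ⊕ Fin m) (Fin m ⊕ Fin m) F) *ᵥ
        ((B : Matrix (Fin m ⊕ Fin m) (Fin m ⊕ Fin m) F) *ᵥ v) := by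
  rw [Matrix.mulVec_mulVec]
  rfl

theorem one_act (m : ℕ) (v : Fin m ⊕ Fin m → F) :
    ((1 : Matrix.symplecticGroup (Fin m) F) : Matrix (Fin m ⊕ Fin m) (Fin m ⊕ Fin m) F) *ᵥ v
      = v := by
  show (1 : Matrix (Fin m ⊕ Fin m) (Fin m ⊕ Fin m) F) *ᵥ v = v
  exact Matrix.one_mulVec v

theorem inv_act (m : ℕ) (A : Matrix.symplecticGroup (Fin m) F) (v : Fin m ⊕ Fin m → F) :
    (A : Matrix (Fin m ⊕ Fin m) (Fin m ⊕ Fin m) F) *ᵥ
      (((A⁻¹ : Matrix.symplecticGroup (Fin m) F) :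
        Matrix (Fin m ⊕ Fin m) (Fin m ⊕ Fin m) F) *ᵥ v) = v := by
  rw [← mul_act, mul_inv_cancel, one_act]

theorem sp_form (m : ℕ) (A : Matrix.symplecticGroup (Fin m) F) (u v : Fin m ⊕ Fin m → F) :
    S0766.sB m F ((A : Matrix (Fin m ⊕ Fin m) (Fin m ⊕ Fin m) F) *ᵥ u)
      ((A : Matrix (Fin m ⊕ Fin m) (Fin m ⊕ Fin m) F) *ᵥ v) = S0766.sB m F u v := by
  rw [S0766.sB_apply, S0766.sB_apply]
  exact S2585.symp_inv _ (SymplecticGroup.mem_iff'.mp A.2) u v

theorem Tr_conj (m : ℕ) (A : Matrix.symplecticGroup (Fin m) F) (w : Fin m ⊕ Fin m → F) (c : F) :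
    A * Tr m w c * A⁻¹
      = Tr m ((A : Matrix (Fin m ⊕ Fin m) (Fin m ⊕ Fin m) F) *ᵥ w) c := by
  apply sp_ext
  intro v
  have h1 : S0766.sB m F (((A⁻¹ : Matrix.symplecticGroup (Fin m) F) :
      Matrix (Fin m ⊕ Fin m) (Fin m ⊕ Fin m) F) *ᵥ v) w
      = S0766.sB m F v ((A : Matrix (Fin m ⊕ Fin m) (Fin m ⊕ Fin m) F) *ᵥ w) := by
    rw [← sp_form m A, inv_act]
  rw [mul_act, mul_act, Tr_act, Tr_act, Matrix.mulVec_add, Matrix.mulVec_smul, inv_act, h1]

theorem Tr_mul (m : ℕ) (w : Fin m ⊕ Fin m → F) (c d : F) :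
    Tr m w c * Tr m w d = Tr m w (c + d) := by
  apply sp_ext
  intro v
  rw [mul_act, Tr_act, Tr_act, Tr_act]
  simp only [map_add, map_smul, LinearMap.add_apply, LinearMap.smul_apply,
    (S0766.sB_alt m F).self_eq_zero, smul_eq_mul, mul_zero, add_zero]
  module

theorem Tr_zero (m : ℕ) (w : Fin m ⊕ Fin m → F) : Tr m w (0 : F) = 1 := by
  apply sp_ext
  intro v
  rw [Tr_act, one_act, zero_mul, zero_smul, add_zero]

theorem Tr_zero_vec (m : ℕ) (c : F) : Tr m (0 : Fin m ⊕ Fin m → F) c = 1 := by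
  apply sp_ext
  intro v
  rw [Tr_act, one_act, smul_zero, add_zero]

theorem Tr_inv (m : ℕ) (w : Fin m ⊕ Fin m → F) (c : F) : (Tr m w c)⁻¹ = Tr m w (-c) := by
  rw [inv_eq_iff_mul_eq_one, Tr_mul, add_neg_cancel, Tr_zero]

theorem Tr_smul (m : ℕ) (w : Fin m ⊕ Fin m → F) (a c : F) :
    Tr m (a • w) c = Tr m w (a ^ 2 * c) := by
  apply sp_ext
  intro v
  rw [Tr_act, Tr_act]
  simp only [map_smul, smul_eq_mul]
  module

theorem comm_mem (m : ℕ) (A B : Matrix.symplecticGroup (Fin m) F) :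
    A * B * A⁻¹ * B⁻¹ ∈ commutator (Matrix.symplecticGroup (Fin m) F) := by
  rw [commutator_def]
  exact Subgroup.commutator_mem_commutator (Subgroup.mem_top A) (Subgroup.mem_top B)

theorem perfect_of (m : ℕ)
    (hT : ∀ (c : F) (w : Fin m ⊕ Fin m → F), w ≠ 0 →
      Tr m w c ∈ commutator (Matrix.symplecticGroup (Fin m) F)) :
    commutator (Matrix.symplecticGroup (Fin m) F) = ⊤ := by
  rw [eq_top_iff, ← S0765.result m]
  apply (Subgroup.closure_le _).mpr
  rintro A ⟨w, c, hA⟩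
  have hAT : A = Tr m w c := Subtype.ext hA
  subst hAT
  show Tr m w c ∈ commutator (Matrix.symplecticGroup (Fin m) F)
  by_cases hw : w = 0
  · rw [hw, Tr_zero_vec]
    exact Subgroup.one_mem _
  · exact hT c w hw

theorem all_of_one (m : ℕ) (w₀ : Fin m ⊕ Fin m → F) (hw₀ : w₀ ≠ 0)
    (h : ∀ c : F, Tr m w₀ c ∈ commutator (Matrix.symplecticGroup (Fin m) F)) :
    ∀ (c : F) (w : Fin m ⊕ Fin m → F), w ≠ 0 →
      Tr m w c ∈ commutator (Matrix.symplecticGroup (Fin m) F) := by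
  intro c w hw
  obtain ⟨A, hA⟩ := S0271.result m w₀ w hw₀ hw
  have h1 : Tr m w c = A * Tr m w₀ c * A⁻¹ := by rw [Tr_conj, hA]
  rw [h1]
  exact (inferInstance : (commutator (Matrix.symplecticGroup (Fin m) F)).Normal).conj_mem _
    (h c) A

theorem exists_a [Fintype F] (hq : 4 ≤ Fintype.card F) : ∃ a : F, a ≠ 0 ∧ a ^ 2 - 1 ≠ 0 := by
  classical
  by_contra hcon
  push_neg at hcon
  have hsub : (Finset.univ : Finset F) ⊆ {0, 1, -1} := by
    intro a _
    by_cases ha : a = 0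
    · simp [ha]
    · have h1 := hcon a ha
      have h2 : (a - 1) * (a + 1) = 0 := by linear_combination h1
      rcases mul_eq_zero.mp h2 with h3 | h3
      · have h4 : a = 1 := by linear_combination h3
        simp [h4]
      · have h4 : a = -1 := by linear_combination h3
        simp [h4]
  have h5 := Finset.card_le_card hsub
  have h3 : ({0, 1, -1} : Finset F).card ≤ 3 := Finset.card_le_three
  rw [Finset.card_univ] at h5
  omega

theorem caseA [Fintype F] (m : ℕ) (hq : 4 ≤ Fintype.card F) (w : Fin m ⊕ Fin m → F)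
    (hw : w ≠ 0) (c : F) : Tr m w c ∈ commutator (Matrix.symplecticGroup (Fin m) F) := by
  obtain ⟨a, ha0, ha1⟩ := exists_a hq
  obtain ⟨A, hA⟩ := S0271.result m w (a • w) hw (smul_ne_zero ha0 hw)
  have key : A * Tr m w (c / (a ^ 2 - 1)) * A⁻¹ * (Tr m w (c / (a ^ 2 - 1)))⁻¹ = Tr m w c := by
    rw [Tr_conj, hA, Tr_smul, Tr_inv, Tr_mul]
    congr 1
    rw [div_eq_mul_inv]
    linear_combination c * mul_inv_cancel₀ ha1
  rw [← key]
  exact comm_mem m _ _

/-- A symplectic map fixing `w` and sending `y` to `y + u`. -/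
theorem exists_shear (m : ℕ) (u w y e : Fin m ⊕ Fin m → F)
    (hwe : S0766.sB m F w e = 0) (hwu : S0766.sB m F w u = 0)
    (hye : S0766.sB m F y e = -1) (hyu : S0766.sB m F y u = 0)
    (hee : S0766.sB m F e e = 0) (hue : S0766.sB m F u e = 0) :
    ∃ A : Matrix.symplecticGroup (Fin m) F,
      (A : Matrix (Fin m ⊕ Fin m) (Fin m ⊕ Fin m) F) *ᵥ w = w ∧
      (A : Matrix (Fin m ⊕ Fin m) (Fin m ⊕ Fin m) F) *ᵥ y = y + u := by
  refine ⟨Tr m e 1 * Tr m (e + u) (-1), ?_, ?_⟩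
  · simp only [mul_act, Tr_act, map_add, map_neg, map_smul, LinearMap.add_apply,
      LinearMap.neg_apply, LinearMap.smul_apply, smul_eq_mul, hwe, hwu, hye, hyu, hee, hue,
      mul_zero, add_zero, zero_add, neg_zero, zero_smul]
  · simp only [mul_act, Tr_act, map_add, map_neg, map_smul, LinearMap.add_apply,
      LinearMap.neg_apply, LinearMap.smul_apply, smul_eq_mul, hwe, hwu, hye, hyu, hee, hue,
      mul_zero, add_zero, zero_add, neg_zero]
    module

theorem caseB_abs (m : ℕ) (u w e : Fin m ⊕ Fin m → F) (d : F)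
    (huu : S0766.sB m F u u = 0) (huw : S0766.sB m F u w = 0)
    (hwu : S0766.sB m F w u = 0) (hww : S0766.sB m F w w = 0)
    (hwe : S0766.sB m F w e = -1) (hue : S0766.sB m F u e = 0)
    (hee : S0766.sB m F e e = 0) :
    Tr m u (2 * d) ∈ commutator (Matrix.symplecticGroup (Fin m) F) := by
  obtain ⟨B, -, hB⟩ := exists_shear m u u w e hue huu hwe hwu hee hue
  obtain ⟨B', -, hB'⟩ := exists_shear m (-u) u w e hue (by simp [huu]) hwe (by simp [hwu]) hee
    (by simp [hue])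
  have key : (B * Tr m w d * B⁻¹ * (Tr m w d)⁻¹) * (B' * Tr m w d * B'⁻¹ * (Tr m w d)⁻¹)
      = Tr m u (2 * d) := by
    rw [Tr_conj, Tr_conj, hB, hB', Tr_inv]
    apply sp_ext
    intro v
    simp only [mul_act, Tr_act, map_add, map_neg, map_smul, LinearMap.add_apply,
      LinearMap.neg_apply, LinearMap.smul_apply, smul_eq_mul, huu, huw, hwu, hww,
      mul_zero, add_zero, zero_add, neg_zero]
    module
  rw [← key]
  exact Subgroup.mul_mem _ (comm_mem m _ _) (comm_mem m _ _)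

theorem caseC_abs (m : ℕ) (u w y e e' : Fin m ⊕ Fin m → F) (c : F)
    (huu : S0766.sB m F u u = 0) (huw : S0766.sB m F u w = 0) (huy : S0766.sB m F u y = 0)
    (hwu : S0766.sB m F w u = 0) (hww : S0766.sB m F w w = 0) (hwy : S0766.sB m F w y = 0)
    (hyu : S0766.sB m F y u = 0) (hyw : S0766.sB m F y w = 0) (hyy : S0766.sB m F y y = 0)
    (hwe : S0766.sB m F w e = -1) (hue : S0766.sB m F u e = 0)
    (hee : S0766.sB m F e e = 0)
    (hye' : S0766.sB m F y e' = -1) (hue' : S0766.sB m F u e' = 0)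
    (hwe' : S0766.sB m F w e' = 0) (he'e' : S0766.sB m F e' e' = 0) :
    Tr m u c ∈ commutator (Matrix.symplecticGroup (Fin m) F) := by
  obtain ⟨B, -, hB⟩ := exists_shear m u u w e hue huu hwe hwu hee hue
  obtain ⟨A, hAw, hAy⟩ := exists_shear m u w y e' hwe' hwu hye' hyu he'e' hue'
  have hR : Tr m (w + u) c * Tr m w (-c) * Tr m u (-c)
      ∈ commutator (Matrix.symplecticGroup (Fin m) F) := by
    have key : A * (Tr m (w + y) c * Tr m w (-c) * Tr m y (-c)) * A⁻¹ *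
        (Tr m (w + y) c * Tr m w (-c) * Tr m y (-c))⁻¹
        = Tr m (w + u) c * Tr m w (-c) * Tr m u (-c) := by
      rw [mul_inv_eq_iff_eq_mul]
      have h1 : A * (Tr m (w + y) c * Tr m w (-c) * Tr m y (-c)) * A⁻¹
          = (A * Tr m (w + y) c * A⁻¹) * (A * Tr m w (-c) * A⁻¹) * (A * Tr m y (-c) * A⁻¹) := by
        group
      rw [h1, Tr_conj, Tr_conj, Tr_conj, Matrix.mulVec_add, hAw, hAy]
      apply sp_ext
      intro v
      simp only [mul_act, Tr_act, map_add, map_neg, map_smul, LinearMap.add_apply,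
        LinearMap.neg_apply, LinearMap.smul_apply, smul_eq_mul, huu, huw, huy, hwu, hww, hwy,
        hyu, hyw, hyy, mul_zero, add_zero, zero_add, neg_zero]
      module
    rw [← key]
    exact comm_mem m _ _
  have key2 : B * Tr m w c * B⁻¹ * (Tr m w c)⁻¹
      = (Tr m (w + u) c * Tr m w (-c) * Tr m u (-c)) * Tr m u c := by
    rw [Tr_conj, hB, Tr_inv, mul_assoc _ (Tr m u (-c)), Tr_mul, neg_add_cancel, Tr_zero, mul_one]
  have h3 : Tr m u c = (Tr m (w + u) c * Tr m w (-c) * Tr m u (-c))⁻¹ *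
      (B * Tr m w c * B⁻¹ * (Tr m w c)⁻¹) := by
    rw [key2, inv_mul_cancel_left]
  rw [h3]
  exact Subgroup.mul_mem _ (Subgroup.inv_mem _ hR) (comm_mem m _ _)

theorem f0_ne_zero (m : ℕ) (i : Fin m) : S0245.f0 m F i ≠ 0 := by
  intro h
  have h1 := (S0245.std_hyp m F).1 i i
  rw [h] at h1
  simp at h1

theorem caseB (m : ℕ) (h2 : (2 : F) ≠ 0) (i0 i1 : Fin m) (hne : i0 ≠ i1) (c : F) :
    Tr m (S0245.f0 m F i0) c ∈ commutator (Matrix.symplecticGroup (Fin m) F) := by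
  have hs := S0245.std_hyp m F
  have hfe := S0752.hyp_fe (S0766.sB m F) (S0766.sB_alt m F) m _ _ hs
  have h := caseB_abs m (S0245.f0 m F i0) (S0245.f0 m F i1) (S0245.e0 m F i1) (c / 2)
    (hs.2.2 _ _) (hs.2.2 _ _) (hs.2.2 _ _) (hs.2.2 _ _) (by rw [hfe, if_pos rfl])
    (by rw [hfe, if_neg hne]) (hs.2.1 _ _)
  have h3 : 2 * (c / 2) = c := by field_simp
  rwa [h3] at h

theorem caseC (m : ℕ) (i0 i1 i2 : Fin m) (h01 : i0 ≠ i1) (h02 : i0 ≠ i2) (h12 : i1 ≠ i2)
    (c : F) : Tr m (S0245.f0 m F i0) c ∈ commutator (Matrix.symplecticGroup (Fin m) F) := by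
  have hs := S0245.std_hyp m F
  have hfe := S0752.hyp_fe (S0766.sB m F) (S0766.sB_alt m F) m _ _ hs
  exact caseC_abs m (S0245.f0 m F i0) (S0245.f0 m F i1) (S0245.f0 m F i2) (S0245.e0 m F i1)
    (S0245.e0 m F i2) c
    (hs.2.2 _ _) (hs.2.2 _ _) (hs.2.2 _ _) (hs.2.2 _ _) (hs.2.2 _ _) (hs.2.2 _ _)
    (hs.2.2 _ _) (hs.2.2 _ _) (hs.2.2 _ _)
    (by rw [hfe, if_pos rfl]) (by rw [hfe, if_neg h01]) (hs.2.1 _ _)
    (by rw [hfe, if_pos rfl]) (by rw [hfe, if_neg h02]) (by rw [hfe, if_neg h12]) (hs.2.1 _ _)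



/-- Sp_{2m}(q) is perfect except for Sp_2(2), Sp_2(3) and Sp_4(2): stated as m at least 3, or m = 2 and q at least 3, or q at least 4. -/
theorem result {F : Type*} [Field F] [Fintype F] (m : ℕ) (h : 3 ≤ m ∨ (m = 2 ∧ 3 ≤ Fintype.card F) ∨ 4 ≤ Fintype.card F) : commutator (Matrix.symplecticGroup (Fin m) F) = ⊤ := by
  classical
  apply perfect_of
  by_cases hq : 4 ≤ Fintype.card F
  · intro c w hw
    exact caseA m hq w hw c
  · have hm : 2 ≤ m := by
      rcases h with h | ⟨h, _⟩ | h <;> omega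
    apply all_of_one m (S0245.f0 m F ⟨0, by omega⟩) (f0_ne_zero m _)
    intro c
    rcases h with h | ⟨h1, h3⟩ | h
    · exact caseC m ⟨0, by omega⟩ ⟨1, by omega⟩ ⟨2, by omega⟩ (by simp [Fin.ext_iff])
        (by simp [Fin.ext_iff]) (by simp [Fin.ext_iff]) c
    · have hq3 : Fintype.card F = 3 := by omega
      have h2 : (2 : F) ≠ 0 := by
        intro h20
        have hch : ringChar F = 2 :=
          CharP.ringChar_of_prime_eq_zero Nat.prime_two (by exact_mod_cast h20)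
        have hev := FiniteField.even_card_of_char_two hch
        omega
      exact caseB m h2 ⟨0, by omega⟩ ⟨1, by omega⟩ (by simp [Fin.ext_iff]) c
    · exact absurd h hq


end Cfsg.Agent.S0269
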