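import Cfsg.Statements.S0246
import Mathlib
import Cfsg.Agent.S0269
import Cfsg.Agent.S0766
import Cfsg.Agent.S0245
-- import your own Cfsg.Agent.* helpers here

set_option autoImplicit false
open Cfsg

namespace Cfsg.Agent.S0246


open Matrix

variable {F : Type*} [Field F]

/-- The element `-1` of the symplectic group. -/
noncomputable def neg1 (m : ℕ) (F : Type*) [Field F] : Matrix.symplecticGroup (Fin m) F :=
  ⟨-1, SymplecticGroup.neg_mem (Submonoid.one_mem _)⟩

theorem eigen (m : ℕ) (z : Matrix.symplecticGroup (Fin m) F)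
    (hz : z ∈ Subgroup.center (Matrix.symplecticGroup (Fin m) F)) (w : Fin m ⊕ Fin m → F) :
    ∃ μ : F, (z : Matrix (Fin m ⊕ Fin m) (Fin m ⊕ Fin m) F) *ᵥ w = μ • w := by
  by_cases hw : w = 0
  · exact ⟨0, by rw [hw, Matrix.mulVec_zero, smul_zero]⟩
  · have hconj : S0269.Tr m ((z : Matrix (Fin m ⊕ Fin m) (Fin m ⊕ Fin m) F) *ᵥ w) 1
        = S0269.Tr m w 1 := by
      rw [← S0269.Tr_conj, ← Subgroup.mem_center_iff.mp hz, mul_inv_cancel_right]
    obtain ⟨v, hv⟩ : ∃ v, S0766.sB m F v w ≠ 0 := by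
      by_contra hcon
      push Not at hcon
      exact hw ((S0766.sB_nondeg m F).2 w hcon)
    have h1 := congrArg (fun T : Matrix.symplecticGroup (Fin m) F =>
      (T : Matrix (Fin m ⊕ Fin m) (Fin m ⊕ Fin m) F) *ᵥ v) hconj
    simp only [S0269.Tr_act, one_mul] at h1
    have h2 := add_left_cancel h1
    have ha : S0766.sB m F v ((z : Matrix (Fin m ⊕ Fin m) (Fin m ⊕ Fin m) F) *ᵥ w) ≠ 0 := by
      intro ha
      rw [ha, zero_smul] at h2
      exact hw ((smul_eq_zero.mp h2.symm).resolve_left hv)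
    refine ⟨(S0766.sB m F v ((z : Matrix (Fin m ⊕ Fin m) (Fin m ⊕ Fin m) F) *ᵥ w))⁻¹
      * S0766.sB m F v w, ?_⟩
    rw [mul_smul, ← h2, smul_smul, inv_mul_cancel₀ ha, one_smul]

theorem scalar (m : ℕ) (z : Matrix.symplecticGroup (Fin m) F)
    (hz : z ∈ Subgroup.center (Matrix.symplecticGroup (Fin m) F)) :
    ∃ μ : F, (z : Matrix (Fin m ⊕ Fin m) (Fin m ⊕ Fin m) F) = μ • 1 := by
  classical
  have h1 := eigen m z hz
  choose μ hμ using fun i : Fin m ⊕ Fin m => h1 (Pi.single i 1)
  have hall : ∀ i j, μ i = μ j := by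
    intro i j
    by_cases hij : i = j
    · rw [hij]
    · obtain ⟨ν, hν⟩ := h1 (Pi.single i 1 + Pi.single j 1)
      rw [Matrix.mulVec_add, hμ i, hμ j] at hν
      have hi := congrFun hν i
      have hj := congrFun hν j
      simp [Pi.single_apply, hij, Ne.symm hij] at hi hj
      rw [hi, hj]
  by_cases hne : Nonempty (Fin m ⊕ Fin m)
  · obtain ⟨i₀⟩ := hne
    refine ⟨μ i₀, ?_⟩
    ext i j
    have h2 := congrFun (hμ j) i
    rw [Matrix.mulVec_single_one] at h2
    rw [Matrix.smul_apply, Matrix.one_apply, ← hall j i₀]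
    simp only [Matrix.col_apply, Pi.smul_apply, Pi.single_apply] at h2
    exact h2
  · exact ⟨1, by ext i j; exact absurd ⟨i⟩ hne⟩

theorem center_sub (m : ℕ) (hm : 1 ≤ m) (z : Matrix.symplecticGroup (Fin m) F)
    (hz : z ∈ Subgroup.center (Matrix.symplecticGroup (Fin m) F)) : z = 1 ∨ z = neg1 m F := by
  obtain ⟨μ, hμ⟩ := scalar m z hz
  have hact : ∀ v : Fin m ⊕ Fin m → F,
      (z : Matrix (Fin m ⊕ Fin m) (Fin m ⊕ Fin m) F) *ᵥ v = μ • v := by
    intro v
    rw [hμ, Matrix.smul_mulVec, Matrix.one_mulVec]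
  have h1 := S0269.sp_form m z (S0245.e0 m F ⟨0, by omega⟩) (S0245.f0 m F ⟨0, by omega⟩)
  simp only [hact, map_smul, LinearMap.smul_apply, smul_eq_mul] at h1
  rw [(S0245.std_hyp m F).1, if_pos rfl] at h1
  have h2 : (μ - 1) * (μ + 1) = 0 := by
    linear_combination h1
  rcases mul_eq_zero.mp h2 with h3 | h3
  · left
    apply Subtype.ext
    rw [hμ, sub_eq_zero.mp h3, one_smul]
    rfl
  · right
    apply Subtype.ext
    rw [hμ, eq_neg_of_add_eq_zero_left h3, neg_one_smul]
    rfl

theorem neg1_mem (m : ℕ) : neg1 m F ∈ Subgroup.center (Matrix.symplecticGroup (Fin m) F) := by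
  rw [Subgroup.mem_center_iff]
  intro g
  apply Subtype.ext
  show (g : Matrix (Fin m ⊕ Fin m) (Fin m ⊕ Fin m) F) * (-1)
    = (-1) * (g : Matrix (Fin m ⊕ Fin m) (Fin m ⊕ Fin m) F)
  rw [mul_neg, neg_mul, mul_one, one_mul]

theorem center_eq (m : ℕ) (hm : 1 ≤ m) :
    ((Subgroup.center (Matrix.symplecticGroup (Fin m) F) :
      Subgroup (Matrix.symplecticGroup (Fin m) F)) : Set (Matrix.symplecticGroup (Fin m) F))
      = {1, neg1 m F} := by
  ext z
  constructor
  · intro hz
    exact center_sub m hm z hz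
  · rintro (rfl | rfl)
    · exact Subgroup.one_mem _
    · exact neg1_mem m



/-- The centre of Sp_{2m}(q), m at least 1, is {1, -1}: it has order gcd(2, q-1). -/
theorem result {F : Type*} [Field F] [Fintype F] {q : ℕ} (hF : Fintype.card F = q) (m : ℕ) (hm : 1 ≤ m) : Nat.card (Subgroup.center (Matrix.symplecticGroup (Fin m) F)) = Nat.gcd 2 (q - 1) := by
  classical
  have hset := center_eq (F := F) m hm
  have hcard : Nat.card (Subgroup.center (Matrix.symplecticGroup (Fin m) F))
      = Set.ncard ({1, neg1 m F} : Set (Matrix.symplecticGroup (Fin m) F)) := by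
    rw [← hset]
    exact Nat.card_coe_set_eq _
  rw [hcard]
  have hq1 : 1 < q := hF ▸ Fintype.one_lt_card
  by_cases h2 : (2 : F) = 0
  · have hch : ringChar F = 2 :=
      CharP.ringChar_of_prime_eq_zero Nat.prime_two (by exact_mod_cast h2)
    have hev := FiniteField.even_card_of_char_two hch
    rw [hF] at hev
    have hneg : (-1 : F) = 1 := by linear_combination -h2
    have h11 : neg1 m F = 1 := by
      apply Subtype.ext
      show (-1 : Matrix (Fin m ⊕ Fin m) (Fin m ⊕ Fin m) F) = 1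
      rw [← neg_one_smul F (1 : Matrix (Fin m ⊕ Fin m) (Fin m ⊕ Fin m) F), hneg, one_smul]
    rw [h11, Set.pair_eq_singleton, Set.ncard_singleton]
    symm
    exact Nat.coprime_two_left.mpr (by rw [Nat.odd_iff]; omega)
  · have hch : ringChar F ≠ 2 := by
      intro h
      apply h2
      have h3 := CharP.cast_eq_zero F (ringChar F)
      rw [h] at h3
      exact_mod_cast h3
    have hodd := FiniteField.odd_card_of_char_ne_two hch
    rw [hF] at hodd
    have hne : (1 : Matrix.symplecticGroup (Fin m) F) ≠ neg1 m F := by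
      intro h
      have h3 := congrArg (fun T : Matrix.symplecticGroup (Fin m) F =>
        (T : Matrix (Fin m ⊕ Fin m) (Fin m ⊕ Fin m) F) (Sum.inl ⟨0, by omega⟩)
          (Sum.inl ⟨0, by omega⟩)) h
      apply h2
      have h4 : (1 : F) = -1 := by simpa [neg1] using h3
      linear_combination h4
    rw [Set.ncard_pair hne]
    symm
    exact Nat.gcd_eq_left (by omega)


end Cfsg.Agent.S0246
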