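import Cfsg.Statements.S0044
import Cfsg.Agent.Helper1.Fitting
import Cfsg.Agent.Helper1.Solv

set_option autoImplicit false
open Cfsg

namespace Cfsg.Agent.S0044

/-- In a finite solvable group, the centraliser of the Fitting subgroup is contained in the Fitting subgroup. -/
theorem result {G : Type*} [Group G] [Finite G] [Group.IsSolvable G] :
    Subgroup.centralizer (Cfsg.fittingSubgroup G : Set G) ≤ Cfsg.fittingSubgroup G := by
  haveI hFn : (Cfsg.fittingSubgroup G).Normal := Helper1.fitting_normal G
  by_contra hC
  obtain ⟨M, hMn, hMC, hMF, hMM⟩ := Helper1.exists_normal_commutator_le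
    (Subgroup.centralizer (Cfsg.fittingSubgroup G : Set G)) (Cfsg.fittingSubgroup G) hC
  apply hMF
  apply Helper1.le_fitting hMn
  apply Helper1.isNilpotent_of_commutator_commutator_eq_bot
  have h2 : Cfsg.fittingSubgroup G ≤ Subgroup.centralizer (M : Set G) :=
    Subgroup.le_centralizer_iff.mp hMC
  exact Subgroup.commutator_eq_bot_iff_le_centralizer.mpr (hMM.trans h2)

end Cfsg.Agent.S0044
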