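import Cfsg.Statements.S0069
import Mathlib
import Cfsg.Agent.S0023
import Cfsg.Agent.Helper5.Grp
import Cfsg.Agent.Helper8.FrobContra
import Cfsg.Agent.Helper9.CoprimeGen
import Cfsg.Agent.Helper14.CoprimeAut
import Cfsg.Agent.Helper19.PCenter
import Cfsg.Agent.Helper23.OddPGroup

set_option autoImplicit false
open Cfsg

namespace Cfsg.Agent.S0069

/-- the even case: the unique involution of the complement is central -/
theorem even_case {G : Type*} [Group G] [Finite G] (K H : Subgroup G) [hKn : K.Normal]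
    (hK : K ≠ ⊥) (hfix : ∀ h ∈ H, h ≠ 1 → ∀ k ∈ K, h * k = k * h → k = 1)
    (h2 : 2 ∣ Nat.card H) : ∃ z ∈ H, z ≠ 1 ∧ ∀ h ∈ H, z * h = h * z := by
  haveI : Fact (Nat.Prime 2) := ⟨Nat.prime_two⟩
  obtain ⟨t', ht'⟩ := exists_prime_orderOf_dvd_card' 2 h2
  have htH : (t' : G) ∈ H := t'.2
  have hto : orderOf (t' : G) = 2 := by rw [Subgroup.orderOf_coe]; exact ht'
  have hinv : ∀ t ∈ H, orderOf t = 2 → ∀ k ∈ K, t * k * t⁻¹ = k⁻¹ := by
    intro t htH hto k hk
    have ht1 : t ≠ 1 := by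
      intro h; rw [h, orderOf_one] at hto; omega
    have ht2 : t * t = 1 := by
      have h1 := pow_orderOf_eq_one t
      rw [hto, pow_two] at h1; exact h1
    have htinv : t⁻¹ = t := inv_eq_of_mul_eq_one_right ht2
    let φ : K → K := fun k => ⟨(k : G)⁻¹ * (t * (k : G) * t⁻¹),
      K.mul_mem (K.inv_mem k.2) (hKn.conj_mem _ k.2 t)⟩
    have hφ : Function.Injective φ := by
      intro k l hkl
      have h1 : (k : G)⁻¹ * (t * (k : G) * t⁻¹) = (l : G)⁻¹ * (t * (l : G) * t⁻¹) :=
        congrArg Subtype.val hkl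
      have h2 : t * ((l : G) * (k : G)⁻¹) = ((l : G) * (k : G)⁻¹) * t := by
        have h3 : (l : G) * (k : G)⁻¹ * t * (k : G) = t * (l : G) := by
          calc (l : G) * (k : G)⁻¹ * t * (k : G)
              = (l : G) * ((k : G)⁻¹ * (t * (k : G) * t⁻¹)) * t := by group
            _ = (l : G) * ((l : G)⁻¹ * (t * (l : G) * t⁻¹)) * t := by rw [h1]
            _ = t * (l : G) := by group
        calc t * ((l : G) * (k : G)⁻¹) = (t * (l : G)) * (k : G)⁻¹ := by group
          _ = ((l : G) * (k : G)⁻¹ * t * (k : G)) * (k : G)⁻¹ := by rw [h3]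
          _ = ((l : G) * (k : G)⁻¹) * t := by group
      have h4 := hfix t htH ht1 _ (K.mul_mem l.2 (K.inv_mem k.2)) h2
      apply Subtype.ext
      have h5 : (l : G) = (k : G) := by
        calc (l : G) = ((l : G) * (k : G)⁻¹) * (k : G) := by group
          _ = (k : G) := by rw [h4, one_mul]
      exact h5.symm
    have hφs : Function.Surjective φ := Finite.surjective_of_injective hφ
    obtain ⟨w, hw⟩ := hφs ⟨k, hk⟩
    have hw' : (w : G)⁻¹ * (t * (w : G) * t⁻¹) = k := congrArg Subtype.val hw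
    rw [← hw', htinv]
    calc t * ((w : G)⁻¹ * (t * (w : G) * t)) * t
        = t * (w : G)⁻¹ * t * (w : G) * (t * t) := by group
      _ = t * (w : G)⁻¹ * t * (w : G) := by rw [ht2, mul_one]
      _ = t⁻¹ * (w : G)⁻¹ * t⁻¹ * (w : G) := by rw [htinv]
      _ = ((w : G)⁻¹ * (t * (w : G) * t))⁻¹ := by group
  have ht2 : (t' : G) * (t' : G) = 1 := by
    have h1 := pow_orderOf_eq_one (t' : G)
    rw [hto, pow_two] at h1; exact h1
  have htinv : (t' : G)⁻¹ = (t' : G) := inv_eq_of_mul_eq_one_right ht2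
  have huniq : ∀ s ∈ H, orderOf s = 2 → s = (t' : G) := by
    intro s hsH hso
    by_contra hne
    have hst : s * (t' : G) ≠ 1 := by
      intro h
      apply hne
      have h1 : s = (t' : G)⁻¹ := eq_inv_of_mul_eq_one_left h
      rw [h1, htinv]
    obtain ⟨k, hkK, hk1⟩ : ∃ k ∈ K, k ≠ 1 := by
      by_contra hall
      push Not at hall
      exact hK ((Subgroup.eq_bot_iff_forall K).mpr hall)
    apply hk1
    apply hfix (s * (t' : G)) (H.mul_mem hsH htH) hst k hkK
    have e1 := hinv (t' : G) htH hto k hkK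
    have e2 := hinv s hsH hso k⁻¹ (K.inv_mem hkK)
    rw [inv_inv] at e2
    calc s * (t' : G) * k = s * ((t' : G) * k * (t' : G)⁻¹) * s⁻¹ * (s * (t' : G)) := by group
      _ = s * k⁻¹ * s⁻¹ * (s * (t' : G)) := by rw [e1]
      _ = k * (s * (t' : G)) := by rw [e2]
  refine ⟨(t' : G), htH, ?_, ?_⟩
  · intro h; rw [h, orderOf_one] at hto; omega
  · intro h hh
    have h1 : orderOf (h * (t' : G) * h⁻¹) = 2 := by
      rw [← hto]
      have h3 := orderOf_injective (MulAut.conj h).toMonoidHom (MulAut.conj h).injective (t' : G)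
      simpa using h3
    have h2 := huniq _ (H.mul_mem (H.mul_mem hh htH) (H.inv_mem hh)) h1
    calc (t' : G) * h = (h * (t' : G) * h⁻¹) * h := by rw [h2]
      _ = h * (t' : G) := by group

/-- the orders of complement and kernel are coprime -/
theorem coprime_card {G : Type*} [Group G] [Finite G] (K H : Subgroup G) [hKn : K.Normal]
    (hfix : ∀ h ∈ H, h ≠ 1 → ∀ k ∈ K, h * k = k * h → k = 1) :
    (Nat.card H).Coprime (Nat.card K) := by
  by_contra hcon
  obtain ⟨p, hp, hpH, hpK⟩ := Nat.Prime.not_coprime_iff_dvd.mp hcon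
  haveI : Fact p.Prime := ⟨hp⟩
  obtain ⟨h', hh'⟩ := exists_prime_orderOf_dvd_card' p hpH
  obtain ⟨k', hk'⟩ := exists_prime_orderOf_dvd_card' p hpK
  have hho : orderOf (h' : G) = p := by rw [Subgroup.orderOf_coe]; exact hh'
  have hko : orderOf (k' : G) = p := by rw [Subgroup.orderOf_coe]; exact hk'
  have hh1 : (h' : G) ≠ 1 := by
    intro h; rw [h, orderOf_one] at hho; exact hp.one_lt.ne hho
  have hk1 : (k' : G) ≠ 1 := by
    intro h; rw [h, orderOf_one] at hko; exact hp.one_lt.ne hko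
  have hzp : IsPGroup p (Subgroup.zpowers (h' : G)) := by
    apply IsPGroup.of_card (n := 1)
    rw [Nat.card_zpowers, hho, pow_one]
  obtain ⟨P, hP⟩ := hzp.exists_le_sylow
  have hhP : (h' : G) ∈ (P : Subgroup G) := hP (Subgroup.mem_zpowers _)
  have hzk : IsPGroup p (Subgroup.zpowers (k' : G)) := by
    apply IsPGroup.of_card (n := 1)
    rw [Nat.card_zpowers, hko, pow_one]
  obtain ⟨g, hg⟩ := Cfsg.Agent.Helper5.exists_conj_mem_sylow' P (Subgroup.zpowers (k' : G)) hzk
  have hkP : g * (k' : G) * g⁻¹ ∈ (P : Subgroup G) := hg _ (Subgroup.mem_zpowers _)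
  have hkK : g * (k' : G) * g⁻¹ ∈ K := hKn.conj_mem _ k'.2 g
  have hk1' : g * (k' : G) * g⁻¹ ≠ 1 := by
    intro h
    apply hk1
    have e : (k' : G) = g⁻¹ * (g * (k' : G) * g⁻¹) * g := by group
    rw [e, h]; group
  haveI : (K.subgroupOf (P : Subgroup G)).Normal := inferInstance
  have hdvd : p ∣ Nat.card (K.subgroupOf (P : Subgroup G)) := by
    obtain ⟨j, hj⟩ := (P.isPGroup'.to_subgroup (K.subgroupOf (P : Subgroup G))).exists_card_eq
    rw [hj]
    apply dvd_pow_self
    intro h0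
    rw [h0, pow_zero] at hj
    have hbot := Subgroup.eq_bot_of_card_eq _ hj
    have hmem : (⟨g * (k' : G) * g⁻¹, hkP⟩ : (P : Subgroup G)) ∈
        K.subgroupOf (P : Subgroup G) := Subgroup.mem_subgroupOf.mpr hkK
    rw [hbot, Subgroup.mem_bot] at hmem
    exact hk1' (congrArg Subtype.val hmem)
  obtain ⟨c, hcN, hc1, hcc⟩ := Cfsg.Agent.Helper19.exists_mem_center_of_normal P.isPGroup'
    (K.subgroupOf (P : Subgroup G)) hdvd
  have hcK : (c : G) ∈ K := Subgroup.mem_subgroupOf.mp hcN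
  have e := Subgroup.mem_center_iff.mp hcc ⟨(h' : G), hhP⟩
  have e' : (h' : G) * (c : G) = (c : G) * (h' : G) := congrArg Subtype.val e
  exact hc1 (Subtype.ext (hfix (h' : G) h'.2 hh1 (c : G) hcK e'))

/-- abelian subgroups of the complement are cyclic -/
theorem abelian_cyclic {G : Type*} [Group G] [Finite G] (K H : Subgroup G) [hKn : K.Normal]
    (hK : K ≠ ⊥) (hfix : ∀ h ∈ H, h ≠ 1 → ∀ k ∈ K, h * k = k * h → k = 1)
    (A : Subgroup G) (hAH : A ≤ H) (hAc : ∀ a ∈ A, ∀ b ∈ A, a * b = b * a) : IsCyclic A := by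
  by_contra hnc
  haveI : IsMulCommutative A := ⟨⟨fun a b => Subtype.ext (hAc a a.2 b b.2)⟩⟩
  have hcop := coprime_card K H hfix
  have hcopA : (Nat.card A).Coprime (Nat.card K) :=
    Nat.Coprime.coprime_dvd_left (Subgroup.card_dvd_of_le hAH) hcop
  have hAK : A ≤ Subgroup.normalizer (K : Set G) := by
    intro x _
    rw [Subgroup.mem_normalizer_iff]
    intro h
    constructor
    · intro hh; exact hKn.conj_mem h hh x
    · intro hh
      have h1 := hKn.conj_mem _ hh x⁻¹
      have e : x⁻¹ * (x * h * x⁻¹) * x⁻¹⁻¹ = h := by group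
      rw [e] at h1; exact h1
  have hgen := Cfsg.Agent.Helper9.coprime_generation A K hnc hAK hcopA
  apply hK
  rw [← hgen, eq_bot_iff]
  unfold Cfsg.Agent.Helper9.cgen
  apply iSup₂_le
  intro a ha
  obtain ⟨haA, ha1⟩ := ha
  intro k hk
  obtain ⟨hkK, hkc⟩ := Subgroup.mem_inf.mp hk
  rw [Subgroup.mem_bot]
  apply hfix a (hAH haA) ha1 k hkK
  exact Subgroup.mem_centralizer_iff.mp hkc a (Set.mem_singleton a)

/-- a complement of odd order is a Z-group -/
theorem zgroup {G : Type*} [Group G] [Finite G] (K H : Subgroup G) [hKn : K.Normal]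
    (hK : K ≠ ⊥) (hfix : ∀ h ∈ H, h ≠ 1 → ∀ k ∈ K, h * k = k * h → k = 1)
    (hodd : ¬ 2 ∣ Nat.card H) : IsZGroup H := by
  refine ⟨fun p hp P => ?_⟩
  haveI : Fact p.Prime := ⟨hp⟩
  by_cases hp2 : p = 2
  · subst hp2
    obtain ⟨k, hk⟩ := P.isPGroup'.exists_card_eq
    have hk0 : k = 0 := by
      by_contra hne
      apply hodd
      have h1 : (2 : ℕ) ∣ 2 ^ k := dvd_pow_self 2 hne
      rw [← hk] at h1
      exact h1.trans (Subgroup.card_subgroup_dvd_card _)
    rw [hk0, pow_zero] at hk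
    haveI : Subsingleton (P : Subgroup H) := (Nat.card_eq_one_iff_unique.mp hk).1
    exact isCyclic_of_subsingleton
  · apply Cfsg.Agent.Helper23.isCyclic_of_forall_elementary_card_le hp2 P.isPGroup'
    intro A hA hAe
    obtain ⟨AG, hAG⟩ : ∃ AG : Subgroup G,
        AG = (A.map (P : Subgroup H).subtype).map H.subtype := ⟨_, rfl⟩
    have hcard : Nat.card AG = Nat.card A := by
      rw [hAG, Subgroup.card_map_of_injective H.subtype_injective,
        Subgroup.card_map_of_injective (Subgroup.subtype_injective _)]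
    have hAGH : AG ≤ H := by rw [hAG]; exact Subgroup.map_subtype_le _
    have hAGc : ∀ a ∈ AG, ∀ b ∈ AG, a * b = b * a := by
      rw [hAG]
      rintro _ ⟨_, ⟨a, ha, rfl⟩, rfl⟩ _ ⟨_, ⟨b, hb, rfl⟩, rfl⟩
      haveI := hA
      have e := mul_comm' (⟨a, ha⟩ : A) ⟨b, hb⟩
      have e' : a * b = b * a := congrArg Subtype.val e
      have e'' := congrArg (fun x : ↥(P : Subgroup H) => ((x : H) : G)) e'
      exact e''
    have hAGe : ∀ a ∈ AG, a ^ p = 1 := by
      rw [hAG]
      rintro _ ⟨_, ⟨a, ha, rfl⟩, rfl⟩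
      have e := hAe a ha
      have e'' := congrArg (fun x : ↥(P : Subgroup H) => ((x : H) : G)) e
      exact e''
    haveI hcyc : IsCyclic AG := abelian_cyclic K H hK hfix AG hAGH hAGc
    obtain ⟨g, hg⟩ := IsCyclic.exists_generator (α := AG)
    have hgo : orderOf g = Nat.card AG := orderOf_eq_card_of_forall_mem_zpowers hg
    have hgp : g ^ p = 1 := Subtype.ext (hAGe g g.2)
    rw [← hcard, ← hgo]
    exact Nat.le_of_dvd hp.pos (orderOf_dvd_of_pow_eq_one hgp)

/-- the `pq`-argument in an ambient group with an abelian normal subgroup `N` -/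
theorem pq_core {X : Type*} [Group X] [Finite X] (N : Subgroup X) [hNn : N.Normal]
    [hNc : IsMulCommutative N] (a b : X) (p q : ℕ) (hp : p.Prime) (hq : q.Prime)
    (hao : orderOf a = p) (hbo : orderOf b = q)
    (hnorm : b * a * b⁻¹ ∈ Subgroup.zpowers a) (hab : a * b ≠ b * a)
    (hfixN : ∀ x ∈ Subgroup.zpowers a ⊔ Subgroup.zpowers b, x ≠ 1 →
      ∀ v ∈ N, x * v = v * x → v = 1)
    (hcop : ∀ v ∈ N, v ^ p = 1 → v = 1) : N = ⊥ := by
  have haA : a ∈ Subgroup.zpowers a := Subgroup.mem_zpowers a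
  have hyA : ∀ a' ∈ Subgroup.zpowers a, b * a' * b⁻¹ ∈ Subgroup.zpowers a := by
    intro a' ha'
    obtain ⟨i, rfl⟩ := Subgroup.mem_zpowers_iff.mp ha'
    rw [← conj_zpow]
    exact Subgroup.zpow_mem _ hnorm i
  have hAcomm : ∀ x ∈ Subgroup.zpowers a, ∀ y ∈ Subgroup.zpowers a, Commute x y := by
    intro x hx y hy
    obtain ⟨i, rfl⟩ := Subgroup.mem_zpowers_iff.mp hx
    obtain ⟨j, rfl⟩ := Subgroup.mem_zpowers_iff.mp hy
    exact (Commute.refl a).zpow_zpow i j
  have hbA : b ∉ Subgroup.zpowers a := by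
    intro h
    exact hab (hAcomm a haA b h).eq
  have hbq : b ^ q = 1 := by rw [← hbo]; exact pow_orderOf_eq_one b
  have hcardA : Nat.card (Subgroup.zpowers a) = p := by rw [Nat.card_zpowers, hao]
  have hyt : ∀ a' ∈ Subgroup.zpowers a, (a' * b) ^ q = 1 := by
    intro a' ha'
    have h1 := Cfsg.Agent.Helper8.mul_pow_mem (Subgroup.zpowers a) b hyA a' ha' q
    rw [hbq, inv_one, mul_one] at h1
    by_contra hc1
    have hcb : Commute ((a' * b) ^ q) b := by
      have e1 : Commute ((a' * b) ^ q) (a' * b) := (Commute.refl (a' * b)).pow_left q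
      have e2 : Commute ((a' * b) ^ q) a'⁻¹ := (hAcomm _ h1 a' ha').inv_right
      have e3 := e2.mul_right e1
      rwa [inv_mul_cancel_left] at e3
    have hco : orderOf ((a' * b) ^ q) = p := by
      have hd : orderOf ((a' * b) ^ q) ∣ p := by
        rw [← hcardA]; exact Subgroup.orderOf_dvd_natCard _ h1
      rcases (Nat.dvd_prime hp).mp hd with h | h
      · exact absurd (orderOf_eq_one_iff.mp h) hc1
      · exact h
    have heq : Subgroup.zpowers ((a' * b) ^ q) = Subgroup.zpowers a := by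
      apply Subgroup.eq_of_le_of_card_ge (Subgroup.zpowers_le.mpr h1)
      rw [Nat.card_zpowers, Nat.card_zpowers, hco, hao]
    have haz : a ∈ Subgroup.zpowers ((a' * b) ^ q) := by rw [heq]; exact haA
    obtain ⟨j, hj⟩ := Subgroup.mem_zpowers_iff.mp haz
    apply hab
    rw [← hj]
    exact (hcb.zpow_left j).eq
  have hA1 : Subgroup.zpowers a ≠ ⊥ := by
    intro h
    have h1 : a = 1 := by
      have h2 := haA; rw [h, Subgroup.mem_bot] at h2; exact h2
    rw [h1, orderOf_one] at hao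
    exact hp.one_lt.ne hao
  apply Cfsg.Agent.Helper8.frob_contra N (Subgroup.zpowers a) b q hq hyA hyt
  · intro a' ha' v hv hcomm
    apply hfixN (a' * b) _ _ v hv hcomm
    · exact Subgroup.mul_mem _
        (le_sup_left (a := Subgroup.zpowers a) (b := Subgroup.zpowers b) ha')
        (le_sup_right (a := Subgroup.zpowers a) (b := Subgroup.zpowers b)
          (Subgroup.mem_zpowers b))
    · intro h
      apply hbA
      have h1 : b = a'⁻¹ := eq_inv_of_mul_eq_one_right h
      rw [h1]; exact Subgroup.inv_mem _ ha'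
  · intro a' ha' ha'1 v hv hcomm
    exact hfixN a' (le_sup_left (a := Subgroup.zpowers a) (b := Subgroup.zpowers b) ha')
      ha'1 v hv hcomm
  · exact hA1
  · intro v hv hvp
    rw [hcardA] at hvp
    exact hcop v hv hvp

/-- the `pq`-condition for a complement of odd order -/
theorem pq_comm {G : Type*} [Group G] [Finite G] (K H : Subgroup G) [hKn : K.Normal]
    (hK : K ≠ ⊥) (hfix : ∀ h ∈ H, h ≠ 1 → ∀ k ∈ K, h * k = k * h → k = 1)
    (hodd : ¬ 2 ∣ Nat.card H)
    (a b : G) (ha : a ∈ H) (hb : b ∈ H) (p q : ℕ) (hp : p.Prime) (hq : q.Prime)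
    (hao : orderOf a = p) (hbo : orderOf b = q) (hnorm : b * a * b⁻¹ ∈ Subgroup.zpowers a) :
    a * b = b * a := by
  classical
  by_contra hab
  haveI hZ : IsZGroup H := zgroup K H hK hfix hodd
  have hcop := coprime_card K H hfix
  obtain ⟨B, hBdef⟩ : ∃ B : Subgroup G, B = Subgroup.zpowers a ⊔ Subgroup.zpowers b :=
    ⟨_, rfl⟩
  have hBH : B ≤ H := by
    rw [hBdef]; exact sup_le (Subgroup.zpowers_le.mpr ha) (Subgroup.zpowers_le.mpr hb)
  have haB : a ∈ B := by
    rw [hBdef]
    exact le_sup_left (a := Subgroup.zpowers a) (b := Subgroup.zpowers b) (Subgroup.mem_zpowers a)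
  have hbB : b ∈ B := by
    rw [hBdef]
    exact le_sup_right (a := Subgroup.zpowers a) (b := Subgroup.zpowers b)
      (Subgroup.mem_zpowers b)
  have hBsolv : IsSolvable B :=
    solvable_of_solvable_injective (Subgroup.inclusion_injective hBH)
  have hBK : B ≤ Subgroup.normalizer (K : Set G) := by
    intro x _
    rw [Subgroup.mem_normalizer_iff]
    intro h
    constructor
    · intro hh; exact hKn.conj_mem h hh x
    · intro hh
      have h1 := hKn.conj_mem _ hh x⁻¹
      have e : x⁻¹ * (x * h * x⁻¹) * x⁻¹⁻¹ = h := by group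
      rw [e] at h1; exact h1
  have hcopB : (Nat.card B).Coprime (Nat.card K) :=
    Nat.Coprime.coprime_dvd_left (Subgroup.card_dvd_of_le hBH) hcop
  have hK1 : Nat.card K ≠ 1 := fun h => hK (Subgroup.eq_bot_of_card_eq K h)
  obtain ⟨r, hr, hrK⟩ := Nat.exists_prime_and_dvd hK1
  haveI : Fact r.Prime := ⟨hr⟩
  obtain ⟨R, hR⟩ := Cfsg.Agent.S0023.result B K hBK hcopB (Or.inl hBsolv) r
  obtain ⟨RG, hRGdef⟩ : ∃ RG : Subgroup G, RG = (R : Subgroup K).map K.subtype := ⟨_, rfl⟩
  rw [← hRGdef] at hR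
  have hRGK : RG ≤ K := by rw [hRGdef]; exact Subgroup.map_subtype_le _
  have hRGp : IsPGroup r RG := by rw [hRGdef]; exact R.isPGroup'.map _
  have hRGne : RG ≠ ⊥ := by
    intro h
    have h1 : Nat.card RG = Nat.card (R : Subgroup K) := by
      rw [hRGdef]; exact Subgroup.card_map_of_injective K.subtype_injective
    rw [h, Subgroup.card_bot] at h1
    exact R.ne_bot_of_dvd_card hrK (Subgroup.eq_bot_of_card_eq _ h1.symm)
  obtain ⟨Z, hZdef⟩ : ∃ Z : Subgroup G, Z = RG ⊓ Subgroup.centralizer (RG : Set G) :=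
    ⟨_, rfl⟩
  have hZK : Z ≤ K := by rw [hZdef]; exact inf_le_left.trans hRGK
  have hZne : Z ≠ ⊥ := by
    haveI : Nontrivial RG := (Subgroup.nontrivial_iff_ne_bot RG).mpr hRGne
    haveI hcn : Nontrivial (Subgroup.center RG) := hRGp.center_nontrivial
    obtain ⟨c, hc1⟩ := exists_ne (1 : Subgroup.center RG)
    intro hbot
    have hcZ : ((c : RG) : G) ∈ Z := by
      rw [hZdef]
      apply Subgroup.mem_inf.mpr
      refine ⟨(c : RG).2, ?_⟩
      apply Subgroup.mem_centralizer_iff.mpr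
      intro y hy
      have e := Subgroup.mem_center_iff.mp c.2 ⟨y, hy⟩
      exact congrArg Subtype.val e
    rw [hbot, Subgroup.mem_bot] at hcZ
    apply hc1
    apply Subtype.ext
    apply Subtype.ext
    exact hcZ
  have hconjZ : ∀ x ∈ Subgroup.normalizer (RG : Set G), ∀ h ∈ Z, x * h * x⁻¹ ∈ Z := by
    intro x hx h hh
    rw [hZdef] at hh ⊢
    obtain ⟨h1, h2⟩ := Subgroup.mem_inf.mp hh
    apply Subgroup.mem_inf.mpr
    refine ⟨((Subgroup.mem_normalizer_iff.mp hx) h).mp h1, ?_⟩
    apply Subgroup.mem_centralizer_iff.mpr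
    intro y hy
    have hy' : x⁻¹ * y * x ∈ RG := by
      apply ((Subgroup.mem_normalizer_iff.mp hx) (x⁻¹ * y * x)).mpr
      have e : x * (x⁻¹ * y * x) * x⁻¹ = y := by group
      rw [e]; exact hy
    have e1 := Subgroup.mem_centralizer_iff.mp h2 _ hy'
    calc y * (x * h * x⁻¹) = x * ((x⁻¹ * y * x) * h) * x⁻¹ := by group
      _ = x * (h * (x⁻¹ * y * x)) * x⁻¹ := by rw [e1]
      _ = x * h * x⁻¹ * y := by group
  have hBZ : B ≤ Subgroup.normalizer (Z : Set G) := by
    intro x hx
    have hxR := hR hx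
    have hxR' : x⁻¹ ∈ Subgroup.normalizer (RG : Set G) := Subgroup.inv_mem _ hxR
    rw [Subgroup.mem_normalizer_iff]
    intro h
    constructor
    · intro hh; exact hconjZ x hxR h hh
    · intro hh
      have h1 := hconjZ x⁻¹ hxR' _ hh
      have e : x⁻¹ * (x * h * x⁻¹) * x⁻¹⁻¹ = h := by group
      rw [e] at h1; exact h1
  obtain ⟨NZ, hNZdef⟩ : ∃ NZ : Subgroup G, NZ = Subgroup.normalizer (Z : Set G) := ⟨_, rfl⟩
  have hBNZ : B ≤ NZ := by rw [hNZdef]; exact hBZ
  haveI hNn : (Z.subgroupOf NZ).Normal := by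
    subst hNZdef; exact Subgroup.normal_in_normalizer
  haveI hNc : IsMulCommutative (Z.subgroupOf NZ) := by
    refine ⟨⟨fun u v => ?_⟩⟩
    apply Subtype.ext
    apply Subtype.ext
    have hu : ((u : NZ) : G) ∈ Z := Subgroup.mem_subgroupOf.mp u.2
    have hv : ((v : NZ) : G) ∈ Z := Subgroup.mem_subgroupOf.mp v.2
    have hZle : Z ≤ RG ⊓ Subgroup.centralizer (RG : Set G) := hZdef.le
    have hu' := hZle hu
    have hv' := hZle hv
    exact Subgroup.mem_centralizer_iff.mp (Subgroup.mem_inf.mp hv').2 _ (Subgroup.mem_inf.mp hu').1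
  have hN := pq_core (Z.subgroupOf NZ) (⟨a, hBNZ haB⟩ : NZ) (⟨b, hBNZ hbB⟩ : NZ) p q hp hq
    (by rw [Subgroup.orderOf_mk]; exact hao) (by rw [Subgroup.orderOf_mk]; exact hbo)
    ?_ ?_ ?_ ?_
  · apply hZne
    rw [eq_bot_iff]
    intro c hc
    have hcNZ : c ∈ NZ := by rw [hNZdef]; exact Subgroup.le_normalizer hc
    have h1 : (⟨c, hcNZ⟩ : NZ) ∈ Z.subgroupOf NZ := Subgroup.mem_subgroupOf.mpr hc
    rw [hN, Subgroup.mem_bot] at h1
    rw [Subgroup.mem_bot]
    exact congrArg Subtype.val h1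
  · obtain ⟨i, hi⟩ := Subgroup.mem_zpowers_iff.mp hnorm
    apply Subgroup.mem_zpowers_iff.mpr
    refine ⟨i, Subtype.ext ?_⟩
    simpa using hi
  · intro h
    exact hab (congrArg Subtype.val h)
  · intro x hx hx1 v hv hxv
    have hxH : (x : G) ∈ H := by
      have hle : Subgroup.zpowers (⟨a, hBNZ haB⟩ : NZ) ⊔ Subgroup.zpowers (⟨b, hBNZ hbB⟩ : NZ)
          ≤ H.subgroupOf NZ := by
        apply sup_le
        · rw [Subgroup.zpowers_le]; exact Subgroup.mem_subgroupOf.mpr ha
        · rw [Subgroup.zpowers_le]; exact Subgroup.mem_subgroupOf.mpr hb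
      exact Subgroup.mem_subgroupOf.mp (hle hx)
    have hvK : (v : G) ∈ K := hZK (Subgroup.mem_subgroupOf.mp hv)
    have e := hfix (x : G) hxH (fun h => hx1 (Subtype.ext h)) (v : G) hvK
      (congrArg Subtype.val hxv)
    exact Subtype.ext e
  · intro v hv hvp
    have hvK : (v : G) ∈ K := hZK (Subgroup.mem_subgroupOf.mp hv)
    have hvp' : (v : G) ^ p = 1 := by
      have h1 := congrArg Subtype.val hvp
      simpa using h1
    have h1 : orderOf (v : G) ∣ p := orderOf_dvd_of_pow_eq_one hvp'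
    have h2 : orderOf (v : G) ∣ Nat.card K := Subgroup.orderOf_dvd_natCard K hvK
    have hpH : p ∣ Nat.card H := by rw [← hao]; exact Subgroup.orderOf_dvd_natCard H ha
    have h3 : Nat.Coprime p (Nat.card K) := Nat.Coprime.coprime_dvd_left hpH hcop
    have h4 : orderOf (v : G) = 1 := Nat.eq_one_of_dvd_coprimes h3 h1 h2
    exact Subtype.ext (orderOf_eq_one_iff.mp h4)

/-- a nontrivial Z-group of odd order satisfying the `pq`-condition has nontrivial centre -/
theorem center_of_zgroup {Y : Type*} [Group Y] [Finite Y] [Nontrivial Y] [IsZGroup Y]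
    (hodd : ¬ 2 ∣ Nat.card Y)
    (hpq : ∀ (a b : Y) (p q : ℕ), p.Prime → q.Prime → orderOf a = p → orderOf b = q →
      b * a * b⁻¹ ∈ Subgroup.zpowers a → a * b = b * a) :
    ∃ z : Y, z ≠ 1 ∧ ∀ y : Y, z * y = y * z := by
  classical
  have hcard1 : Nat.card Y ≠ 1 := by
    intro h
    have h1 := (Nat.card_eq_one_iff_unique.mp h).1
    exact not_subsingleton Y h1
  obtain ⟨p, hpdef⟩ : ∃ p, (Nat.card Y).minFac = p := ⟨_, rfl⟩
  have hp : p.Prime := hpdef ▸ Nat.minFac_prime hcard1
  haveI : Fact p.Prime := ⟨hp⟩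
  have hpdvd : p ∣ Nat.card Y := hpdef ▸ Nat.minFac_dvd _
  obtain ⟨P⟩ : Nonempty (Sylow p Y) := inferInstance
  haveI hPc : IsCyclic P := inferInstance
  have hcompl := IsCyclic.isComplement' hpdef hPc
  obtain ⟨N, hNn, hN⟩ : ∃ N : Subgroup Y, N.Normal ∧ N.IsComplement' P :=
    ⟨_, MonoidHom.normal_ker _, hcompl⟩
  have hPdvd : p ∣ Nat.card P := P.dvd_card_of_dvd_card hpdvd
  obtain ⟨z', hz'⟩ := exists_prime_orderOf_dvd_card' p hPdvd
  obtain ⟨z, hzdef⟩ : ∃ z : Y, z = (z' : Y) := ⟨_, rfl⟩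
  have hzP : z ∈ (P : Subgroup Y) := hzdef ▸ z'.2
  have hzo : orderOf z = p := by rw [hzdef, Subgroup.orderOf_coe]; exact hz'
  have hz1 : z ≠ 1 := by
    intro h; rw [h, orderOf_one] at hzo; exact hp.one_lt.ne hzo
  have hzPcomm : ∀ u ∈ (P : Subgroup Y), z * u = u * z := by
    intro u hu
    have e : (⟨z, hzP⟩ : P) * ⟨u, hu⟩ = ⟨u, hu⟩ * ⟨z, hzP⟩ :=
      (IsCyclic.commGroup).mul_comm _ _
    exact congrArg Subtype.val e
  have hpN : ¬ p ∣ Nat.card N := by
    have h1 : Nat.card N = (P : Subgroup Y).index := hN.index_eq_card.symm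
    rw [h1]; exact P.not_dvd_index
  have hcopzN : (Nat.card (Subgroup.zpowers z)).Coprime (Nat.card N) := by
    rw [Nat.card_zpowers, hzo]; exact (Nat.Prime.coprime_iff_not_dvd hp).mpr hpN
  have hzsolv : IsSolvable (Subgroup.zpowers z) :=
    Group.isSolvable_of_comm (fun x y => by
      obtain ⟨x, hx⟩ := x
      obtain ⟨y, hy⟩ := y
      obtain ⟨i, rfl⟩ := Subgroup.mem_zpowers_iff.mp hx
      obtain ⟨j, rfl⟩ := Subgroup.mem_zpowers_iff.mp hy
      exact Subtype.ext ((Commute.refl z).zpow_zpow i j).eq)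
  have hzN : Subgroup.zpowers z ≤ Subgroup.normalizer (N : Set Y) := by
    intro x _
    rw [Subgroup.mem_normalizer_iff]
    intro h
    constructor
    · intro hh; exact hNn.conj_mem h hh x
    · intro hh
      have h1 := hNn.conj_mem _ hh x⁻¹
      have e : x⁻¹ * (x * h * x⁻¹) * x⁻¹⁻¹ = h := by group
      rw [e] at h1; exact h1
  have hNz : N ≤ Subgroup.centralizer ({z} : Set Y) := by
    apply Cfsg.Agent.Helper9.le_of_forall_sylow_le N
    intro r _
    have hr : r.Prime := Fact.out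
    obtain ⟨R, hR⟩ := Cfsg.Agent.S0023.result (Subgroup.zpowers z) N hzN hcopzN
      (Or.inl hzsolv) r
    refine ⟨R, ?_⟩
    obtain ⟨R', hR'def⟩ : ∃ R' : Subgroup Y, R' = (R : Subgroup N).map N.subtype := ⟨_, rfl⟩
    rw [← hR'def] at hR ⊢
    have hR'N : R' ≤ N := by rw [hR'def]; exact Subgroup.map_subtype_le _
    have hR'p : IsPGroup r R' := by rw [hR'def]; exact R.isPGroup'.map _
    have hzR' : z ∈ Subgroup.normalizer (R' : Set Y) := hR (Subgroup.mem_zpowers z)
    by_cases hrN : r ∣ Nat.card N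
    · have hrp : r ≠ p := fun h => hpN (h ▸ hrN)
      have hr2 : r ≠ 2 := by
        intro h
        apply hodd
        have h1 : r ∣ Nat.card Y := hrN.trans (Subgroup.card_subgroup_dvd_card N)
        rw [h] at h1
        exact h1
      have hk : (MulAut.conj z) ^ p = 1 := by
        rw [← map_pow, ← hzo, pow_orderOf_eq_one, map_one]
      have hkp : Nat.Coprime p r := (Nat.coprime_primes hp hr).mpr (Ne.symm hrp)
      have hinv : ∀ h ∈ R', MulAut.conj z h ∈ R' := by
        intro h hh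
        rw [MulAut.conj_apply]
        exact ((Subgroup.mem_normalizer_iff.mp hzR') h).mp hh
      haveI hR'c : IsCyclic R' := IsPGroup.isCyclic_of_isZGroup hR'p
      have hfixr : ∀ x ∈ R', x ^ r = 1 → MulAut.conj z x = x := by
        intro x hx hxr
        rw [MulAut.conj_apply]
        by_cases hx1 : x = 1
        · rw [hx1]; group
        have hxo : orderOf x = r := orderOf_eq_prime hxr hx1
        have hconj : z * x * z⁻¹ ∈ Subgroup.zpowers x := by
          have hy : z * x * z⁻¹ ∈ R' := ((Subgroup.mem_normalizer_iff.mp hzR') x).mp hx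
          have hyo : orderOf (z * x * z⁻¹) = r := by
            rw [← hxo]
            have h3 := orderOf_injective (MulAut.conj z).toMonoidHom (MulAut.conj z).injective x
            simpa using h3
          have e := Cfsg.Agent.Helper23.eq_of_card_eq_of_isCyclic
            (Subgroup.zpowers (⟨z * x * z⁻¹, hy⟩ : R')) (Subgroup.zpowers (⟨x, hx⟩ : R'))
            (by rw [Nat.card_zpowers, Nat.card_zpowers, Subgroup.orderOf_mk,
              Subgroup.orderOf_mk, hyo, hxo])
          have hmem : (⟨z * x * z⁻¹, hy⟩ : R') ∈ Subgroup.zpowers (⟨x, hx⟩ : R') := by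
            rw [← e]; exact Subgroup.mem_zpowers _
          obtain ⟨i, hi⟩ := Subgroup.mem_zpowers_iff.mp hmem
          have hi' := congrArg Subtype.val hi
          exact Subgroup.mem_zpowers_iff.mpr ⟨i, by simpa using hi'⟩
        have e := hpq x z r p hr hp hxo hzo hconj
        calc z * x * z⁻¹ = (x * z) * z⁻¹ := by rw [e]
          _ = x := by group
      have hall := Cfsg.Agent.Helper14.aut_fix_of_fix_order_p hr2 (MulAut.conj z) p hk hkp
        (Nat.card R') R' rfl hR'p hinv hfixr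
      intro h hh
      apply Subgroup.mem_centralizer_iff.mpr
      intro w hw
      rw [Set.mem_singleton_iff] at hw
      rw [hw]
      have e := hall h hh
      rw [MulAut.conj_apply] at e
      calc z * h = (z * h * z⁻¹) * z := by group
        _ = h * z := by rw [e]
    · obtain ⟨k, hk⟩ := hR'p.exists_card_eq
      have hk0 : k = 0 := by
        by_contra hne
        apply hrN
        have h1 : r ∣ r ^ k := dvd_pow_self r hne
        rw [← hk] at h1
        exact h1.trans (Subgroup.card_dvd_of_le hR'N)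
      rw [hk0, pow_zero] at hk
      rw [Subgroup.eq_bot_of_card_eq R' hk]
      exact bot_le
  refine ⟨z, hz1, ?_⟩
  intro y
  obtain ⟨⟨n, u⟩, hnu⟩ := hN.2 y
  have hnu' : (n : Y) * (u : Y) = y := hnu
  have e1 : z * (n : Y) = (n : Y) * z :=
    Subgroup.mem_centralizer_iff.mp (hNz n.2) z (Set.mem_singleton z)
  have e2 : z * (u : Y) = (u : Y) * z := hzPcomm _ u.2
  rw [← hnu']
  calc z * ((n : Y) * (u : Y)) = (z * (n : Y)) * (u : Y) := by group
    _ = ((n : Y) * z) * (u : Y) := by rw [e1]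
    _ = (n : Y) * (z * (u : Y)) := by group
    _ = (n : Y) * ((u : Y) * z) := by rw [e2]
    _ = (n : Y) * (u : Y) * z := by group

/-- A Frobenius complement has nontrivial centre: if H ≠ 1 complements a nontrivial normal subgroup K and every nonidentity element of H has trivial centraliser in K, then the centre of H is nontrivial. -/
theorem result {G : Type*} [Group G] [Finite G] (K H : Subgroup G) [K.Normal]
    (hc : Subgroup.IsComplement' K H) (hK : K ≠ ⊥) (hH : H ≠ ⊥) (hfpf : ∀ h ∈ H, h ≠ 1 → K ⊓ Subgroup.centralizer {h} = ⊥) :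
    Subgroup.center H ≠ ⊥ := by
  classical
  have hfix : ∀ h ∈ H, h ≠ 1 → ∀ k ∈ K, h * k = k * h → k = 1 := by
    intro h hh h1 k hk hcomm
    have hmem : k ∈ K ⊓ Subgroup.centralizer {h} := by
      apply Subgroup.mem_inf.mpr
      refine ⟨hk, ?_⟩
      apply Subgroup.mem_centralizer_iff.mpr
      intro w hw
      rw [Set.mem_singleton_iff] at hw
      rw [hw]; exact hcomm
    rw [hfpf h hh h1, Subgroup.mem_bot] at hmem
    exact hmem
  have key : ∃ z ∈ H, z ≠ 1 ∧ ∀ h ∈ H, z * h = h * z := by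
    by_cases h2 : 2 ∣ Nat.card H
    · exact even_case K H hK hfix h2
    · haveI : Nontrivial H := (Subgroup.nontrivial_iff_ne_bot H).mpr hH
      haveI hZ : IsZGroup H := zgroup K H hK hfix h2
      obtain ⟨z, hz1, hzc⟩ := center_of_zgroup (Y := H) h2 (by
        intro a b p q hp hq hao hbo hnorm
        have e := pq_comm K H hK hfix h2 (a : G) (b : G) a.2 b.2 p q hp hq
          (by rw [Subgroup.orderOf_coe]; exact hao) (by rw [Subgroup.orderOf_coe]; exact hbo)
          (by
            obtain ⟨i, hi⟩ := Subgroup.mem_zpowers_iff.mp hnorm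
            have hi' := congrArg Subtype.val hi
            exact Subgroup.mem_zpowers_iff.mpr ⟨i, by simpa using hi'⟩)
        exact Subtype.ext e)
      refine ⟨(z : G), z.2, fun h => hz1 (Subtype.ext h), ?_⟩
      intro h hh
      exact congrArg Subtype.val (hzc ⟨h, hh⟩)
  obtain ⟨z, hzH, hz1, hzc⟩ := key
  intro hbot
  have hmem : (⟨z, hzH⟩ : H) ∈ Subgroup.center H := by
    rw [Subgroup.mem_center_iff]
    rintro ⟨h, hh⟩
    apply Subtype.ext
    exact (hzc h hh).symm
  rw [hbot, Subgroup.mem_bot] at hmem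
  exact hz1 (congrArg Subtype.val hmem)

end Cfsg.Agent.S0069
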