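import Cfsg.Statements.S1474
import Mathlib
import Cfsg.Agent.Helper1.Fitting
import Cfsg.Agent.Helper8.Nilp
import Cfsg.Agent.Helper23.PSolv
import Cfsg.Agent.Helper21.FrobCons
import Cfsg.Agent.S0069
-- import your own Cfsg.Agent.* helpers here

set_option autoImplicit false
open Cfsg

namespace Cfsg.Agent.S1474

theorem nilpotent_of_le {G : Type*} [Group G] {A B : Subgroup G} (h : A ≤ B)
    (hB : Group.IsNilpotent B) : Group.IsNilpotent A := by
  haveI := hB
  exact Group.nilpotent_of_mulEquiv (Subgroup.subgroupOfEquivOfLe h)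

theorem fh_mem {G : Type*} [Group G] [Finite G] :
    (Cfsg.fittingHall G).Normal ∧ Group.IsNilpotent (Cfsg.fittingHall G) ∧
      (Nat.card (Cfsg.fittingHall G)).Coprime (Cfsg.fittingHall G).index := by
  refine Cfsg.Agent.Helper23.sSup_mem_of_sup_closed
    (S := {N : Subgroup G | N.Normal ∧ Group.IsNilpotent N ∧ (Nat.card N).Coprime N.index})
    ⟨inferInstance, inferInstance, by simp⟩ ?_
  rintro A ⟨hAn, hAnil, hAc⟩ B ⟨hBn, hBnil, hBc⟩
  refine ⟨inferInstance, ?_, ?_⟩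
  · have hle : A ⊔ B ≤ Cfsg.fittingSubgroup G :=
      sup_le (Cfsg.Agent.Helper1.le_fitting hAn hAnil) (Cfsg.Agent.Helper1.le_fitting hBn hBnil)
    exact nilpotent_of_le hle Cfsg.Agent.Helper1.fitting_isNilpotent
  · rw [Cfsg.Agent.Helper23.card_eq_card_mul_relIndex (le_sup_right : B ≤ A ⊔ B),
      Subgroup.relIndex_sup_right]
    apply Nat.Coprime.mul_left
    · exact Nat.Coprime.coprime_dvd_right (Subgroup.index_dvd_of_le le_sup_right) hBc
    · exact Nat.Coprime.coprime_dvd_right (Subgroup.index_dvd_of_le le_sup_left)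
        (Nat.Coprime.coprime_dvd_left (Subgroup.relIndex_dvd_card B A) hAc)

theorem cn_comm {G : Type*} [Group G] (hCN : Cfsg.IsCNGroup G) {a x y : G} (ha : a ≠ 1)
    (hx : a * x = x * a) (hy : a * y = y * a) (h : (orderOf x).Coprime (orderOf y)) :
    x * y = y * x :=
  Cfsg.Agent.Helper8.comm_of_coprime_sub (Subgroup.centralizer {a}) (hCN a ha)
    (Cfsg.Agent.Helper8.mem_cent.mpr hx) (Cfsg.Agent.Helper8.mem_cent.mpr hy) h

theorem fpf_aux {G : Type*} [Group G] [Finite G] (hCN : Cfsg.IsCNGroup G)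
    (E : Subgroup G) (hc : Subgroup.IsComplement' (Cfsg.fittingHall G) E)
    (e h : G) (he : e ∈ E) (he1 : e ≠ 1) (hh : h ∈ Cfsg.fittingHall G)
    (hcomm : e * h = h * e) : h = 1 := by
  by_contra hh1
  obtain ⟨hHn, hHnil, hHc⟩ := fh_mem (G := G)
  obtain ⟨r, hr, hre⟩ := Nat.exists_prime_and_dvd (n := orderOf e)
    (by rwa [Ne, orderOf_eq_one_iff])
  obtain ⟨q, hq, hqh⟩ := Nat.exists_prime_and_dvd (n := orderOf h)
    (by rwa [Ne, orderOf_eq_one_iff])
  haveI := Fact.mk hr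
  haveI := Fact.mk hq
  obtain ⟨e', he'def⟩ : ∃ e' : G, e' = e ^ (orderOf e / r) := ⟨_, rfl⟩
  obtain ⟨h', hh'def⟩ : ∃ h' : G, h' = h ^ (orderOf h / q) := ⟨_, rfl⟩
  have hoe : orderOf e' = r := by
    rw [he'def]; exact orderOf_pow_orderOf_div (orderOf_pos e).ne' hre
  have hoh : orderOf h' = q := by
    rw [hh'def]; exact orderOf_pow_orderOf_div (orderOf_pos h).ne' hqh
  have he'E : e' ∈ E := by rw [he'def]; exact E.pow_mem he _
  have hh'H : h' ∈ Cfsg.fittingHall G := by rw [hh'def]; exact Subgroup.pow_mem _ hh _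
  have hc' : h' * e' = e' * h' := by
    rw [he'def, hh'def]
    exact ((Commute.pow_pow (show Commute h e from hcomm.symm) _ _)).eq
  have he'1 : e' ≠ 1 := by
    intro h0; rw [h0, orderOf_one] at hoe; exact hr.one_lt.ne hoe
  have hh'1 : h' ≠ 1 := by
    intro h0; rw [h0, orderOf_one] at hoh; exact hq.one_lt.ne hoh
  have hqH : q ∣ Nat.card (Cfsg.fittingHall G) := by
    have := orderOf_dvd_natCard (⟨h', hh'H⟩ : Cfsg.fittingHall G)
    rwa [Subgroup.orderOf_mk, hoh] at this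
  have hrE : r ∣ (Cfsg.fittingHall G).index := by
    have := orderOf_dvd_natCard (⟨e', he'E⟩ : E)
    rwa [Subgroup.orderOf_mk, hoe, ← hc.symm.index_eq_card] at this
  have hqr : q ≠ r := by
    rintro rfl
    exact hq.one_lt.ne' (Nat.eq_one_of_dvd_coprimes hHc hqH hrE)
  have hcop : ∀ a b : ℕ, (q ^ a).Coprime (r ^ b) := fun a b =>
    Nat.Coprime.pow _ _ ((Nat.coprime_primes hq hr).mpr hqr)
  -- the Sylow q-subgroup Q of H
  obtain ⟨Q, hQH, hQp, hQall⟩ :=
    Cfsg.Agent.Helper8.exists_sylow_of_nilpotent (Cfsg.fittingHall G) hHnil q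
  have hQn : Q.Normal := by
    constructor
    intro x hx g
    obtain ⟨k, hk⟩ := Cfsg.Agent.Helper8.pelem_of_mem hQp hx
    exact hQall _ (hHn.conj_mem x (hQH hx) g) ⟨k, by rw [conj_pow, hk]; simp⟩
  have hh'Q : h' ∈ Q := hQall h' hh'H ⟨1, by rw [pow_one, ← hoh]; exact pow_orderOf_eq_one h'⟩
  have hQne : Q ≠ ⊥ := by
    intro h0; rw [h0, Subgroup.mem_bot] at hh'Q; exact hh'1 hh'Q
  have hQo : ∀ x ∈ Q, ∃ k : ℕ, orderOf x ∣ q ^ k := by
    intro x hx
    obtain ⟨k, hk⟩ := Cfsg.Agent.Helper8.pelem_of_mem hQp hx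
    exact ⟨k, orderOf_dvd_of_pow_eq_one hk⟩
  obtain ⟨z, hzQ, hz1, hzc⟩ := Cfsg.Agent.Helper8.exists_central_of_pgroup Q hQp hQne
  -- step 1
  have h1 : z * e' = e' * z := by
    obtain ⟨k, hk⟩ := hQo z hzQ
    refine cn_comm hCN hh'1 (hzc h' hh'Q) hc' ?_
    rw [hoe]
    exact Nat.Coprime.coprime_dvd_left hk (by simpa using hcop k 1)
  -- step 2
  have h2 : ∀ x ∈ Q, e' * x = x * e' := by
    intro x hx
    obtain ⟨k, hk⟩ := hQo x hx
    refine cn_comm hCN hz1 h1 (hzc x hx).symm ?_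
    rw [hoe]
    exact Nat.Coprime.coprime_dvd_right hk (by simpa using (hcop k 1).symm)
  -- Sylow r-subgroup R containing e'
  have hpz : IsPGroup r (Subgroup.zpowers e') :=
    IsPGroup.of_card (n := 1) (by rw [Nat.card_zpowers, hoe, pow_one])
  obtain ⟨R, hR⟩ := hpz.exists_le_sylow
  have he'R : e' ∈ (R : Subgroup G) := hR (Subgroup.mem_zpowers e')
  have hRne : (R : Subgroup G) ≠ ⊥ := by
    intro h0; rw [h0, Subgroup.mem_bot] at he'R; exact he'1 he'R
  have hRo : ∀ x ∈ (R : Subgroup G), ∃ k : ℕ, orderOf x ∣ r ^ k := by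
    intro x hx
    obtain ⟨k, hk⟩ := Cfsg.Agent.Helper8.pelem_of_mem R.2 hx
    exact ⟨k, orderOf_dvd_of_pow_eq_one hk⟩
  obtain ⟨z', hz'R, hz'1, hz'c⟩ :=
    Cfsg.Agent.Helper8.exists_central_of_pgroup (R : Subgroup G) R.2 hRne
  -- step 3
  have h3 : ∀ x ∈ Q, z' * x = x * z' := by
    intro x hx
    obtain ⟨k, hk⟩ := hQo x hx
    obtain ⟨j, hj⟩ := hRo z' hz'R
    refine cn_comm hCN he'1 (hz'c e' he'R) (h2 x hx) ?_
    exact Nat.Coprime.coprime_dvd_left hj (Nat.Coprime.coprime_dvd_right hk (hcop k j).symm)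
  -- step 4
  have h4 : ∀ y ∈ (R : Subgroup G), ∀ x ∈ Q, x * y = y * x := by
    intro y hy x hx
    obtain ⟨k, hk⟩ := hQo x hx
    obtain ⟨j, hj⟩ := hRo y hy
    refine cn_comm hCN hz'1 (h3 x hx) (hz'c y hy).symm ?_
    exact Nat.Coprime.coprime_dvd_left hk (Nat.Coprime.coprime_dvd_right hj (hcop k j))
  -- step 5
  have hCn : (Subgroup.centralizer (Q : Set G)).Normal := inferInstance
  have hCnil : Group.IsNilpotent (Subgroup.centralizer (Q : Set G)) :=
    nilpotent_of_le (Subgroup.centralizer_le (by simpa using hzQ)) (hCN z hz1)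
  have hRC : (R : Subgroup G) ≤ Subgroup.centralizer (Q : Set G) := by
    intro y hy
    rw [Subgroup.mem_centralizer_iff]
    intro x hx
    exact h4 y hy x hx
  obtain ⟨T, hTC, hTp, hTall⟩ :=
    Cfsg.Agent.Helper8.exists_sylow_of_nilpotent (Subgroup.centralizer (Q : Set G)) hCnil r
  have hTn : T.Normal := by
    constructor
    intro x hx g
    obtain ⟨k, hk⟩ := Cfsg.Agent.Helper8.pelem_of_mem hTp hx
    exact hTall _ (hCn.conj_mem x (hTC hx) g) ⟨k, by rw [conj_pow, hk]; simp⟩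
  have hRT : (R : Subgroup G) ≤ T := by
    intro y hy
    exact hTall y (hRC hy) (Cfsg.Agent.Helper8.pelem_of_mem R.2 hy)
  have hTR : T = (R : Subgroup G) := R.is_maximal' hTp hRT
  have hRn : (R : Subgroup G).Normal := hTR ▸ hTn
  have hRH : (R : Subgroup G) ≤ Cfsg.fittingHall G :=
    le_sSup ⟨hRn, R.2.isNilpotent, R.card_coprime_index⟩
  have hmem : e' ∈ Cfsg.fittingHall G ⊓ E := ⟨hRH he'R, he'E⟩
  rw [hc.disjoint.eq_bot, Subgroup.mem_bot] at hmem
  exact he'1 hmem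


/-- Let G be a finite group in which every non-identity element has nilpotent centralizer, not itself nilpotent, and having a nontrivial normal Sylow p-subgroup for some prime p. Let H be the largest normal nilpotent Hall subgroup of G. Then H is a nontrivial proper normal subgroup with a complement E that is a Frobenius complement in G (no non-identity element of E centralizes a non-identity element of H), and G/H is nilpotent. -/
theorem result {G : Type*} [Group G] [Finite G] (hCN : Cfsg.IsCNGroup G) (hnn : ¬ Group.IsNilpotent G) (p : ℕ) [Fact p.Prime] (P : Sylow p G)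
    (hP1 : (P : Subgroup G) ≠ ⊥) (hPn : (P : Subgroup G).Normal) :
    Cfsg.fittingHall G ≠ ⊥ ∧ Cfsg.fittingHall G ≠ ⊤ ∧
      (∃ E : Subgroup G, Subgroup.IsComplement' (Cfsg.fittingHall G) E ∧ Cfsg.IsFrobeniusComplement E ∧
        ∀ e ∈ E, e ≠ 1 → Cfsg.fittingHall G ⊓ Subgroup.centralizer ({e} : Set G) = ⊥) ∧
      Group.IsNilpotent (G ⧸ Cfsg.fittingHall G) := by
  obtain ⟨hHn, hHnil, hHc⟩ := fh_mem (G := G)
  have hPH : (P : Subgroup G) ≤ Cfsg.fittingHall G :=
    le_sSup ⟨hPn, P.2.isNilpotent, P.card_coprime_index⟩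
  have hH1 : Cfsg.fittingHall G ≠ ⊥ := fun h => hP1 (by rw [h] at hPH; exact le_bot_iff.mp hPH)
  have hH2 : Cfsg.fittingHall G ≠ ⊤ := fun h => hnn (by
    rw [h] at hHnil
    haveI := hHnil
    exact Group.nilpotent_of_mulEquiv Subgroup.topEquiv)
  obtain ⟨E, hE⟩ := Subgroup.exists_right_complement'_of_coprime hHc
  have hfix : ∀ e ∈ E, e ≠ 1 → ∀ h ∈ Cfsg.fittingHall G, e * h = h * e → h = 1 :=
    fun e he he1 h hh hcomm => fpf_aux hCN E hE e h he he1 hh hcomm
  have hfpf : ∀ e ∈ E, e ≠ 1 → Cfsg.fittingHall G ⊓ Subgroup.centralizer ({e} : Set G) = ⊥ := by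
    intro e he he1
    rw [eq_bot_iff]
    intro h hh
    rw [Subgroup.mem_inf] at hh
    rw [Subgroup.mem_bot]
    exact hfix e he he1 h hh.1 (Cfsg.Agent.Helper8.mem_cent.mp hh.2)
  have hE1 : E ≠ ⊥ := by
    rintro rfl
    exact hH2 (Subgroup.isComplement'_bot_right.mp hE)
  have hE2 : E ≠ ⊤ := by
    rintro rfl
    exact hH1 (Subgroup.isComplement'_top_right.mp hE)
  have hdec : ∀ g : G, ∃ h ∈ Cfsg.fittingHall G, ∃ e0 ∈ E, h * e0 = g := by
    intro g
    obtain ⟨⟨⟨h, hh⟩, ⟨e0, he0⟩⟩, hg⟩ := hE.2 g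
    exact ⟨h, hh, e0, he0, hg⟩
  refine ⟨hH1, hH2, ⟨E, hE, ?_, hfpf⟩, ?_⟩
  · rw [Cfsg.Agent.Helper21.frob_iff]
    refine ⟨hE1, hE2, ?_⟩
    intro g hg x hx hgx
    obtain ⟨h, hh, e0, he0, rfl⟩ := hdec g
    by_contra hx1
    have hh1 : h ≠ 1 := by
      rintro rfl
      exact hg (by simpa using he0)
    have h1 : h⁻¹ * x * h ∈ E := by
      have := E.mul_mem (E.mul_mem he0 hgx) (E.inv_mem he0)
      convert this using 1
      group
    have h2 : x⁻¹ * (h⁻¹ * x * h) ∈ E := E.mul_mem (E.inv_mem hx) h1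
    have h3 : x⁻¹ * (h⁻¹ * x * h) ∈ Cfsg.fittingHall G := by
      have h31 : x⁻¹ * h⁻¹ * x⁻¹⁻¹ ∈ Cfsg.fittingHall G := hHn.conj_mem _ (inv_mem hh) _
      have := mul_mem h31 hh
      convert this using 1
      group
    have h4 : x⁻¹ * (h⁻¹ * x * h) = 1 := by
      have : x⁻¹ * (h⁻¹ * x * h) ∈ Cfsg.fittingHall G ⊓ E := ⟨h3, h2⟩
      rwa [hE.disjoint.eq_bot, Subgroup.mem_bot] at this
    have h5 : x * h = h * x := by
      have : h⁻¹ * x * h = x := by
        have h6 := congrArg (fun t => x * t) h4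
        simpa using h6
      calc x * h = h * (h⁻¹ * x * h) := by group
        _ = h * x := by rw [this]
    exact hh1 (hfix x hx hx1 h hh h5)
  · have hcen := Cfsg.Agent.S0069.result (Cfsg.fittingHall G) E hE hH1 hE1 hfpf
    obtain ⟨z, hz1⟩ := (Subgroup.ne_bot_iff_exists_ne_one).mp hcen
    have hzG : ((z : E) : G) ≠ 1 := by
      intro h0
      apply hz1
      exact Subtype.ext (Subtype.ext h0)
    have hEle : E ≤ Subgroup.centralizer {((z : E) : G)} := by
      intro x hx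
      rw [Cfsg.Agent.Helper8.mem_cent]
      have := Subgroup.mem_center_iff.mp z.2 ⟨x, hx⟩
      exact (congrArg Subtype.val this).symm
    have hEnil : Group.IsNilpotent E := nilpotent_of_le hEle (hCN _ hzG)
    haveI := hEnil
    refine Group.nilpotent_of_surjective
      ((QuotientGroup.mk' (Cfsg.fittingHall G)).comp E.subtype) ?_
    intro y
    obtain ⟨g, rfl⟩ := QuotientGroup.mk_surjective y
    obtain ⟨h, hh, e0, he0, rfl⟩ := hdec g
    refine ⟨⟨e0, he0⟩, ?_⟩
    show (QuotientGroup.mk e0 : G ⧸ Cfsg.fittingHall G) = QuotientGroup.mk (h * e0)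
    rw [QuotientGroup.eq]
    have := hHn.conj_mem h hh e0⁻¹
    simpa [mul_assoc] using this

end Cfsg.Agent.S1474
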