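import Cfsg.Statements.S1478
import Cfsg.Agent.Helper21.ThreeStep
import Cfsg.Agent.Helper21.OddStable
import Cfsg.Agent.Helper10.ZJLocal
import Cfsg.Agent.Helper10.KStable
import Cfsg.Agent.S0650
import Mathlib
-- import your own Cfsg.Agent.* helpers here

set_option autoImplicit false
open Cfsg

namespace Cfsg.Agent.S1478

open scoped commutatorElement

/-- A maximal subgroup of a minimal simple group of odd order is not a three-step group with
respect to a prime. -/
theorem no_max {G : Type*} [Group G] [Finite G] (hodd : Odd (Nat.card G))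
    (hsimple : IsSimpleGroup G) (hnc : ¬ IsMulCommutative G)
    (hmin : ∀ H : Subgroup G, H ≠ ⊤ → Group.IsSolvable H)
    (M : Subgroup G) (hM : IsCoatom M) (q : ℕ) (hq : q.Prime)
    (hM3 : Cfsg.IsThreeStepGroup q ↥M) : False := by
  classical
  haveI := Fact.mk hq
  obtain ⟨hH1, A, hA1, hAc, hAodd, hAcop, hKn, hKtop, ⟨n, hidx⟩, hfpf, hfrob⟩ := hM3
  haveI hHn : (Cfsg.pCore q ↥M).Normal := Cfsg.Agent.Helper1.pCore_normal q _
  have hHp : IsPGroup q (Cfsg.pCore q ↥M) := Cfsg.Agent.Helper1.pCore_isPGroup q _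
  have hsolvM : Group.IsSolvable ↥M := hmin M hM.1
  have hoddM : Odd (Nat.card ↥M) := Odd.of_dvd_nat hodd (Subgroup.card_subgroup_dvd_card _)
  -- q divides |M|
  have hqM : q ∣ Nat.card ↥M := by
    obtain ⟨k, hk⟩ := hHp.exists_card_eq
    have hk0 : k ≠ 0 := by
      intro h0
      rw [h0, pow_zero] at hk
      exact hH1 (Subgroup.eq_bot_of_card_eq _ hk)
    have h1 : q ∣ Nat.card (Cfsg.pCore q ↥M) := by rw [hk]; exact dvd_pow_self q hk0
    exact h1.trans (Subgroup.card_subgroup_dvd_card _)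
  have hq2 : q ≠ 2 := by
    intro h2
    rw [h2] at hqM
    exact (Nat.not_even_iff_odd.mpr hoddM) (even_iff_two_dvd.mpr hqM)
  have hc := Cfsg.Agent.Helper21.ThreeStep.cent_le (Cfsg.pCore q ↥M) A hH1 hA1 hKn hfpf hfrob
  obtain ⟨P₀⟩ : Nonempty (Sylow q ↥M) := inferInstance
  have hnps := Cfsg.Agent.Helper21.OddStable.isNormalizerPStable_of_odd (p := q) hsolvM hoddM hq2
  have hst := Cfsg.Agent.Helper23.zjStable_of_normalizerPStable hnps (P₀ : Subgroup ↥M)
  have hZn := Cfsg.Agent.Helper23.zjSub_normal_gen hq2 false hc P₀ hst (P₀ : Subgroup ↥M) le_rfl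
    (fun x _ g hg => hg)
  have hP₀ne : (P₀ : Subgroup ↥M) ≠ ⊥ := P₀.ne_bot_of_dvd_card hqM
  -- transport to G
  obtain ⟨P', hP'def⟩ : ∃ P' : Subgroup G, P' = (P₀ : Subgroup ↥M).map M.subtype := ⟨_, rfl⟩
  have hP'p : IsPGroup q ↥P' := by rw [hP'def]; exact P₀.isPGroup'.map _
  have hP'M : P' ≤ M := by rw [hP'def]; exact Subgroup.map_subtype_le _
  have hP'ne : P' ≠ ⊥ := by
    intro h0
    apply hP₀ne
    rw [eq_bot_iff]
    intro y hy
    have h1 : (y : G) ∈ P' := by rw [hP'def]; exact Subgroup.mem_map_of_mem _ hy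
    rw [h0, Subgroup.mem_bot] at h1
    exact Subgroup.mem_bot.mpr (Subtype.ext h1)
  have hmemP' : ∀ y : ↥M, (y : G) ∈ P' → y ∈ (P₀ : Subgroup ↥M) := by
    intro y hy
    rw [hP'def] at hy
    obtain ⟨z, hz, hzy⟩ := hy
    have : z = y := Subtype.ext hzy
    rw [← this]; exact hz
  have hZmap : Cfsg.Agent.Helper23.zjSub q false P' =
      (Cfsg.Agent.Helper23.zjSub q false (P₀ : Subgroup ↥M)).map M.subtype := by
    rw [hP'def]
    exact Cfsg.Agent.Helper23.zjSub_map_of_injOn M.subtype _ (fun x _ hx => Subtype.ext hx)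
  have hZ'ne : Cfsg.Agent.Helper23.zjSub q false P' ≠ ⊥ :=
    Cfsg.Agent.Helper23.zjSub_ne_bot hP'p hP'ne
  have hZ'le : Cfsg.Agent.Helper23.zjSub q false P' ≤ P' := Cfsg.Agent.Helper23.zjSub_le q false P'
  have hMN : M ≤ Subgroup.normalizer (Cfsg.Agent.Helper23.zjSub q false P' : Set G) := by
    intro m hm
    apply Cfsg.Agent.S0650.mem_normalizer_of_conj_mem
    intro z hz
    rw [hZmap] at hz ⊢
    obtain ⟨z₀, hz₀, rfl⟩ := hz
    exact ⟨⟨m, hm⟩ * z₀ * ⟨m, hm⟩⁻¹, hZn.conj_mem z₀ hz₀ _, rfl⟩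
  have hNtop : Subgroup.normalizer (Cfsg.Agent.Helper23.zjSub q false P' : Set G) ≠ ⊤ := by
    intro htop
    have hn : (Cfsg.Agent.Helper23.zjSub q false P').Normal :=
      Subgroup.normalizer_eq_top_iff.mp htop
    rcases hn.eq_bot_or_eq_top with h | h
    · exact hZ'ne h
    · apply hM.1
      rw [eq_top_iff, ← h]
      exact hZ'le.trans hP'M
  have hNM : Subgroup.normalizer (Cfsg.Agent.Helper23.zjSub q false P' : Set G) = M :=
    ((eq_or_lt_of_le hMN).resolve_right (fun h => hNtop (hM.2 _ h))).symm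
  -- N(P') ≤ M
  have hW := Cfsg.Agent.Helper10.isConjugacyFunctor_zjSub (G := G) (p := q) false
  have hNP : Subgroup.normalizer (P' : Set G) ≤ M := by
    intro g hg
    rw [← hNM]
    apply Cfsg.Agent.S0650.mem_normalizer_of_conj_mem
    intro z hz
    have h1 : P'.map (MulAut.conj g).toMonoidHom = P' := by
      ext x
      constructor
      · rintro ⟨y, hy, rfl⟩
        exact (Subgroup.mem_normalizer_iff.mp hg y).mp hy
      · intro hx
        refine ⟨g⁻¹ * x * g, ?_, ?_⟩
        · have e : g * (g⁻¹ * x * g) * g⁻¹ = x := by group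
          exact (Subgroup.mem_normalizer_iff.mp hg _).mpr (by rw [e]; exact hx)
        · show g * (g⁻¹ * x * g) * g⁻¹ = x
          group
    have h2 := (hW P' hP'p).2.2 g
    rw [h1] at h2
    have h3 : g * z * g⁻¹ ∈ (Cfsg.Agent.Helper23.zjSub q false P').map (MulAut.conj g).toMonoidHom :=
      ⟨z, hz, rfl⟩
    rw [← h2] at h3
    exact h3
  -- P' is a Sylow subgroup of G
  obtain ⟨S, hS⟩ := hP'p.exists_le_sylow
  have hSP : (S : Subgroup G) = P' := by
    by_contra hne
    haveI : Group.IsNilpotent ↥(S : Subgroup G) := S.isPGroup'.isNilpotent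
    have hnc' : NormalizerCondition ↥(S : Subgroup G) := Group.normalizerCondition_of_isNilpotent
    have hlt : P'.subgroupOf (S : Subgroup G) < ⊤ := by
      rw [lt_top_iff_ne_top]
      intro h0
      rw [Subgroup.subgroupOf_eq_top] at h0
      exact hne (le_antisymm h0 hS)
    obtain ⟨x, hxN, hxn⟩ := SetLike.exists_of_lt (hnc' _ hlt)
    have hxG : (x : G) ∈ Subgroup.normalizer (P' : Set G) := by
      apply Cfsg.Agent.S0650.mem_normalizer_of_conj_mem
      intro y hy
      have h1 : (⟨y, hS hy⟩ : ↥(S : Subgroup G)) ∈ P'.subgroupOf (S : Subgroup G) := by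
        rw [Subgroup.mem_subgroupOf]; exact hy
      have h2 := (Subgroup.mem_normalizer_iff.mp hxN _).mp h1
      rw [Subgroup.mem_subgroupOf] at h2
      exact h2
    have hxM : (x : G) ∈ M := hNP hxG
    have hQp : IsPGroup q ↥(((S : Subgroup G) ⊓ M).subgroupOf M) := by
      apply IsPGroup.comap_subtype
      exact S.isPGroup'.to_le inf_le_left
    have hle : (P₀ : Subgroup ↥M) ≤ ((S : Subgroup G) ⊓ M).subgroupOf M := by
      intro y hy
      rw [Subgroup.mem_subgroupOf]
      have h1 : (y : G) ∈ P' := by rw [hP'def]; exact Subgroup.mem_map_of_mem _ hy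
      exact ⟨hS h1, y.2⟩
    have hQ := P₀.is_maximal' hQp hle
    have h3 : (⟨(x : G), hxM⟩ : ↥M) ∈ ((S : Subgroup G) ⊓ M).subgroupOf M := by
      rw [Subgroup.mem_subgroupOf]; exact ⟨x.2, hxM⟩
    rw [hQ] at h3
    apply hxn
    rw [Subgroup.mem_subgroupOf, hP'def]
    exact ⟨_, h3, rfl⟩
  -- control of fusion
  have hSne : (S : Subgroup G) ≠ ⊥ := by rw [hSP]; exact hP'ne
  have hloc : ∀ T : Subgroup G,
      (S : Subgroup G) ⊓ Subgroup.centralizer ((S : Subgroup G) : Set G) ≤ T →
      T ≤ (S : Subgroup G) →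
      ∀ (Y : Type _) [Group Y], Cfsg.Agent.Helper10.IsSec ↥(Subgroup.normalizer (T : Set G)) Y →
        Cfsg.Agent.Helper10.QStab q Y := by
    intro T hZT hTS
    have hTne : T ≠ ⊥ := by
      haveI hnt : Nontrivial ↥(S : Subgroup G) := (Subgroup.nontrivial_iff_ne_bot _).2 hSne
      haveI hcn : Nontrivial (Subgroup.center ↥(S : Subgroup G)) := S.isPGroup'.center_nontrivial
      obtain ⟨⟨z, hz⟩, hz1⟩ := exists_ne (1 : Subgroup.center ↥(S : Subgroup G))
      intro h0
      have hzT : (z : G) ∈ T := by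
        apply hZT
        refine Subgroup.mem_inf.mpr ⟨z.2, ?_⟩
        rw [Subgroup.mem_centralizer_iff]
        intro y hy
        have := Subgroup.mem_center_iff.mp hz ⟨y, hy⟩
        exact congrArg Subtype.val this
      rw [h0, Subgroup.mem_bot] at hzT
      apply hz1
      apply Subtype.ext
      apply Subtype.ext
      exact hzT
    have hNT : Subgroup.normalizer (T : Set G) ≠ ⊤ := by
      intro htop
      have hn : T.Normal := Subgroup.normalizer_eq_top_iff.mp htop
      rcases hn.eq_bot_or_eq_top with h | h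
      · exact hTne h
      · apply hM.1
        rw [eq_top_iff, ← h]
        exact hTS.trans (hSP ▸ hP'M)
    haveI hsolvN : Group.IsSolvable ↥(Subgroup.normalizer (T : Set G)) := hmin _ hNT
    have hoddN : Odd (Nat.card ↥(Subgroup.normalizer (T : Set G))) :=
      Odd.of_dvd_nat hodd (Subgroup.card_subgroup_dvd_card _)
    apply Cfsg.Agent.Helper10.qstab_of_sections
    intro K R hR
    apply Cfsg.Agent.Helper21.OddStable.isNormalizerPStable_of_odd inferInstance _ hq2
    exact Odd.of_dvd_nat hoddN ((Subgroup.card_quotient_dvd_card _).trans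
      (Subgroup.card_subgroup_dvd_card _))
  have hctl := Cfsg.Agent.Helper10.zj_ctl_of_local hq2 S hloc
  -- focal subgroup
  have hcomm : commutator G = ⊤ := by
    haveI : (commutator G).Normal := inferInstance
    rcases (inferInstance : (commutator G).Normal).eq_bot_or_eq_top with h | h
    · exfalso
      apply hnc
      refine ⟨⟨fun a b => ?_⟩⟩
      have h1 : ⁅a, b⁆ ∈ commutator G := by
        rw [commutator_def]
        exact Subgroup.commutator_mem_commutator (Subgroup.mem_top _) (Subgroup.mem_top _)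
      rw [h, Subgroup.mem_bot] at h1
      exact commutatorElement_eq_one_iff_mul_comm.mp h1
    · exact h
  have hfoc : (S : Subgroup G) ≤ ⁅M, M⁆ := by
    have h2 := Subgroup.commutator_inf_eq_focalSubgroup S
    rw [hcomm, top_inf_eq] at h2
    refine h2.le.trans ?_
    rw [Subgroup.focalSubgroup_def, Subgroup.closure_le]
    rintro c ⟨hcS, x, hxS, u, rfl⟩
    have hxinv : x⁻¹ ∈ (S : Subgroup G) := Subgroup.inv_mem _ hxS
    have h3 : u * x⁻¹ * u⁻¹ ∈ (S : Subgroup G) := by
      have e : u * x⁻¹ * u⁻¹ = x⁻¹ * ⁅x, u⁆ := by rw [commutatorElement_def]; group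
      rw [e]; exact Subgroup.mul_mem _ hxinv hcS
    obtain ⟨m, hm, hmx⟩ := hctl ({x⁻¹} : Set G) u
      (by intro y hy; rw [Set.mem_singleton_iff] at hy; rw [hy]; exact hxinv)
      (by
        rintro y ⟨a, ha, rfl⟩
        rw [Set.mem_singleton_iff] at ha
        rw [ha]; exact h3)
    have hmM : m ∈ M := by
      rw [hSP, hNM] at hm; exact hm
    have hxM : x ∈ M := hP'M (hSP ▸ hxS)
    have e2 : ⁅x, u⁆ = ⁅x, m⁆ := by
      have e3 : ⁅x, u⁆ = x * (u * x⁻¹ * u⁻¹) := by rw [commutatorElement_def]; group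
      rw [e3, ← hmx x⁻¹ (Set.mem_singleton _), commutatorElement_def]; group
    rw [SetLike.mem_coe, e2]
    exact Subgroup.commutator_mem_commutator hxM hmM
  -- conclusion
  have hPc : (P₀ : Subgroup ↥M) ≤ commutator ↥M := by
    intro y hy
    have h1 : (y : G) ∈ P' := by rw [hP'def]; exact Subgroup.mem_map_of_mem _ hy
    have h2 : (y : G) ∈ ⁅M, M⁆ := hfoc (hSP ▸ h1)
    rw [← Subgroup.map_subtype_commutator] at h2
    obtain ⟨z, hz, hzy⟩ := h2
    have : z = y := Subtype.ext hzy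
    rw [← this]; exact hz
  have hcl := Cfsg.Agent.Helper21.ThreeStep.comm_le (Cfsg.pCore q ↥M) A hA1 hAc hKn hfrob
  exact Cfsg.Agent.Helper21.ThreeStep.sylow_not_le (Cfsg.pCore q ↥M) A q hKtop n hidx P₀
    (hPc.trans hcl)



/-- Let G be a minimal simple group of odd order in which every non-identity element has nilpotent centralizer. Then no subgroup of G is a three-step group with respect to any prime. -/
theorem result {G : Type*} [Group G] [Finite G] (hG : Cfsg.IsMinSimpleOddOrder G) (hCN : Cfsg.IsCNGroup G) :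
    ∀ (H : Subgroup G) (p : ℕ), ¬ Cfsg.IsThreeStepGroup p ↥H := by
  intro L p hL
  obtain ⟨hodd, hsimple, hnc, hmin⟩ := hG
  haveI := hsimple
  obtain ⟨hH1, A, hA1, hAc, hAodd, hAcop, hKn, hKtop, ⟨n, hidx⟩, hfpf, hfrob⟩ := hL
  haveI hHn : (Cfsg.pCore p ↥L).Normal := Cfsg.Agent.Helper1.pCore_normal p _
  have hLtop : L ≠ ⊤ := by
    intro hLt
    have hn : ((Cfsg.pCore p ↥L).map L.subtype).Normal := by
      constructor
      rintro _ ⟨y, hy, rfl⟩ g
      have hg : g ∈ L := by rw [hLt]; trivial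
      exact ⟨⟨g, hg⟩ * y * ⟨g, hg⟩⁻¹, hHn.conj_mem y hy _, rfl⟩
    rcases hn.eq_bot_or_eq_top with h | h
    · apply hH1
      rw [eq_bot_iff]
      intro y hy
      have h1 : (y : G) ∈ (Cfsg.pCore p ↥L).map L.subtype := Subgroup.mem_map_of_mem _ hy
      rw [h, Subgroup.mem_bot] at h1
      exact Subgroup.mem_bot.mpr (Subtype.ext h1)
    · apply hKtop
      rw [eq_top_iff]
      intro y _
      have h1 : (y : G) ∈ (Cfsg.pCore p ↥L).map L.subtype := by rw [h]; trivial
      obtain ⟨z, hz, hzy⟩ := h1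
      have : z = y := Subtype.ext hzy
      rw [← this]; exact Subgroup.mem_sup_left hz
  obtain ⟨M, hM, hLM⟩ := (eq_top_or_exists_le_coatom L).resolve_left hLtop
  haveI hsolvM : Group.IsSolvable ↥M := hmin M hM.1
  have hCNM : Cfsg.IsCNGroup ↥M := Cfsg.Agent.Helper21.cn_subgroup hCN M
  rcases Cfsg.Agent.Helper21.ThreeStep.tri hCNM with ⟨F, hFnil, k, hk⟩ | ⟨q, hq, hM3⟩
  · -- nilpotent-by-nilpotent: impossible since M contains the three-step group L
    obtain ⟨a₀, ha₀, ha₀1⟩ := Cfsg.Agent.Helper21.ThreeStep.exists_ne_one' A hA1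
    have hlcs := Cfsg.Agent.Helper21.ThreeStep.le_lcs (Cfsg.pCore p ↥L) A hA1 hAc hKn hKtop
      hfpf hfrob k
    have hchain : ((⊤ : Subgroup ↥L).lowerCentralSeries k).map L.subtype ≤ F.map M.subtype := by
      rw [Subgroup.top_subtype_lowerCentralSeries]
      have hmono : L.lowerCentralSeries k ≤ M.lowerCentralSeries k :=
        Subgroup.lowerCentralSeries_mono k hLM
      refine hmono.trans ?_
      rw [← Subgroup.top_subtype_lowerCentralSeries]
      exact Subgroup.map_mono hk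
    have hHF : (Cfsg.pCore p ↥L).map L.subtype ≤ F.map M.subtype :=
      (Subgroup.map_mono hlcs.1).trans hchain
    have haF : (a₀ : G) ∈ F.map M.subtype :=
      hchain (Subgroup.mem_map_of_mem _ (hlcs.2 ha₀))
    have hFnil' : Group.IsNilpotent ↥(F.map M.subtype) := by
      haveI := hFnil
      exact Group.nilpotent_of_mulEquiv (F.equivMapOfInjective M.subtype M.subtype_injective)
    have hfix := Cfsg.Agent.Helper21.ThreeStep.fix_of_fpf (Cfsg.pCore p ↥L) A hfpf a₀ ha₀ ha₀1
    have hbot := Cfsg.Agent.Helper21.ThreeStep.bot_of_nilpotent ((Cfsg.pCore p ↥L).map L.subtype)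
      (F.map M.subtype) (a₀ : G) haF hHF
      (by
        rintro _ ⟨y, hy, rfl⟩
        exact ⟨a₀ * y * a₀⁻¹, hHn.conj_mem y hy a₀, rfl⟩)
      (by
        rintro _ ⟨y, hy, rfl⟩ hc
        have h1 : a₀ * y = y * a₀ := Subtype.ext hc
        rw [hfix y hy h1]; rfl)
      hFnil'
    apply hH1
    rw [eq_bot_iff]
    intro y hy
    have h1 : (y : G) ∈ (Cfsg.pCore p ↥L).map L.subtype := Subgroup.mem_map_of_mem _ hy
    rw [hbot, Subgroup.mem_bot] at h1
    exact Subgroup.mem_bot.mpr (Subtype.ext h1)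
  · exact no_max hodd hsimple hnc hmin M hM q hq hM3

end Cfsg.Agent.S1478
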