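import Cfsg.Statements.S0031
import Mathlib

set_option autoImplicit false
open Cfsg
open Pointwise

namespace Cfsg.Agent.S0031

/-- A fixed-point-free automorphism of a finite group maps some Sylow p-subgroup to itself. -/
theorem result {G : Type*} [Group G] [Finite G] (φ : G ≃* G)
    (hφ : MonoidHom.FixedPointFree (φ : G →* G)) (p : ℕ) [Fact p.Prime] :
    ∃ P : Sylow p G, (P : Subgroup G).map (φ : G →* G) = P := by
  obtain ⟨P⟩ := (inferInstance : Nonempty (Sylow p G))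
  let φ' : MulAut G := φ
  obtain ⟨g, hg⟩ := MulAction.exists_smul_eq G (φ' • P) P
  obtain ⟨z, hz⟩ := hφ.commutatorMap_surjective g
  have hz' : z * (φ z)⁻¹ = g := by
    rw [← hz]; simp [div_eq_mul_inv]
  refine ⟨z⁻¹ • P, ?_⟩
  have hle : ((φ' • (z⁻¹ • P) : Sylow p G) : Subgroup G) ≤ ((z⁻¹ • P : Sylow p G) : Subgroup G) := by
    intro q hq
    have hq' : q ∈ φ' • ((z⁻¹ • P : Sylow p G) : Subgroup G) := hq
    rw [Subgroup.mem_smul_pointwise_iff_exists] at hq'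
    obtain ⟨s, hs, rfl⟩ := hq'
    have hs' : s ∈ MulAut.conj z⁻¹ • (P : Subgroup G) := hs
    rw [Subgroup.mem_smul_pointwise_iff_exists] at hs'
    obtain ⟨a, ha, rfl⟩ := hs'
    have h1 : φ a ∈ ((φ' • P : Sylow p G) : Subgroup G) := by
      show φ a ∈ φ' • (P : Subgroup G)
      rw [Subgroup.mem_smul_pointwise_iff_exists]
      exact ⟨a, ha, rfl⟩
    have h2 : g * φ a * g⁻¹ ∈ ((g • (φ' • P) : Sylow p G) : Subgroup G) := by
      show g * φ a * g⁻¹ ∈ MulAut.conj g • ((φ' • P : Sylow p G) : Subgroup G)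
      rw [Subgroup.mem_smul_pointwise_iff_exists]
      exact ⟨φ a, h1, rfl⟩
    rw [hg] at h2
    show φ' • (MulAut.conj z⁻¹ • a) ∈ MulAut.conj z⁻¹ • (P : Subgroup G)
    rw [Subgroup.mem_smul_pointwise_iff_exists]
    refine ⟨g * φ a * g⁻¹, h2, ?_⟩
    simp only [MulAut.smul_def, MulAut.conj_apply]
    show z⁻¹ * (g * φ a * g⁻¹) * z⁻¹⁻¹ = φ (z⁻¹ * a * z⁻¹⁻¹)
    rw [← hz']; simp only [map_mul, map_inv]; group
  have heq : ((z⁻¹ • P : Sylow p G) : Subgroup G) = ((φ' • (z⁻¹ • P) : Sylow p G) : Subgroup G) :=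
    (φ' • (z⁻¹ • P)).is_maximal' (z⁻¹ • P).isPGroup' hle
  have hmap : ((z⁻¹ • P : Sylow p G) : Subgroup G).map (φ : G →* G)
      = ((φ' • (z⁻¹ • P) : Sylow p G) : Subgroup G) := by
    ext q
    rw [Subgroup.mem_map]
    show _ ↔ q ∈ φ' • ((z⁻¹ • P : Sylow p G) : Subgroup G)
    rw [Subgroup.mem_smul_pointwise_iff_exists]
    rfl
  rw [hmap]; exact heq.symm

end Cfsg.Agent.S0031
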