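import Cfsg.Statements.S1302
import Cfsg.Agent.S3737
import Cfsg.Agent.S0663
import Cfsg.Agent.Helper26.SmallInv
import Cfsg.Agent.Helper10.PPrimeP
import Cfsg.Agent.Helper14.Basic
import Cfsg.Agent.Helper14.Comm
import Cfsg.Agent.Helper14.Coprime
import Cfsg.Agent.Helper14.PElem

set_option autoImplicit false
open Cfsg

namespace Cfsg.Agent.S1302
open Cfsg.Agent.Helper14
open scoped commutatorElement

theorem mem_normalizer_sup {X : Type*} [Group X] (A B : Subgroup X) (n : X)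
    (hA : n ∈ Subgroup.normalizer (A : Set X)) (hB : n ∈ Subgroup.normalizer (B : Set X)) :
    n ∈ Subgroup.normalizer ((A ⊔ B : Subgroup X) : Set X) := by
  have key : ∀ n : X, n ∈ Subgroup.normalizer (A : Set X) → n ∈ Subgroup.normalizer (B : Set X) →
      ∀ w ∈ A ⊔ B, n * w * n⁻¹ ∈ A ⊔ B := by
    intro n hA hB
    have hle : A ⊔ B ≤ (A ⊔ B).comap (MulAut.conj n).toMonoidHom := by
      apply sup_le
      · intro a ha
        rw [Subgroup.mem_comap]
        show n * a * n⁻¹ ∈ A ⊔ B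
        exact Subgroup.mem_sup_left ((Subgroup.mem_normalizer_iff.mp hA a).mp ha)
      · intro b hb
        rw [Subgroup.mem_comap]
        show n * b * n⁻¹ ∈ A ⊔ B
        exact Subgroup.mem_sup_right ((Subgroup.mem_normalizer_iff.mp hB b).mp hb)
    intro w hw; exact hle hw
  apply mem_normalizer_of_forall _ n (key n hA hB)
  intro w hw
  have := key n⁻¹ (Subgroup.inv_mem _ hA) (Subgroup.inv_mem _ hB) w hw
  rwa [inv_inv] at this

/-- `A` a `p`-group containing the elements of order `p` of its centralizer, `p` odd: every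
`A`-invariant `p'`-subgroup `Q` centralizes every `p`-subgroup normalized by `A` and `Q`. -/
theorem core {X : Type*} [Group X] [Finite X] {p : ℕ} [Fact p.Prime] (hp : p ≠ 2)
    (A Q P : Subgroup X) (hAp : IsPGroup p A)
    (hΩ : ∀ x ∈ Subgroup.centralizer (A : Set X), orderOf x = p → x ∈ A)
    (hQ : (Nat.card Q).Coprime p) (hAQ : A ≤ Subgroup.normalizer (Q : Set X))
    (hP : IsPGroup p P) (hAP : A ≤ Subgroup.normalizer (P : Set X))
    (hQP : Q ≤ Subgroup.normalizer (P : Set X)) :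
    Q ≤ Subgroup.centralizer (P : Set X) := by
  have hsmall : ∀ V : Subgroup X, V ≤ P → A ≤ Subgroup.normalizer (V : Set X) →
      Q ≤ Subgroup.normalizer (V : Set X) → (∀ x ∈ V, x ^ p = 1) →
      Q ≤ Subgroup.centralizer (V : Set X) := by
    intro V hVP hAV hQV hexp
    apply Cfsg.Agent.S3737.result hp A Q V hAp hQ hAQ (hP.to_le hVP) hAV hQV
    intro x hx
    obtain ⟨hxV, hxA⟩ := Subgroup.mem_inf.mp hx
    rw [Subgroup.mem_centralizer_iff]
    intro q hq
    have hq' : q ∈ Q := hq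
    by_cases hx1 : x = 1
    · rw [hx1, mul_one, one_mul]
    · have hord : orderOf x = p := orderOf_eq_prime (hexp x hxV) hx1
      have hxA' : x ∈ A := hΩ x hxA hord
      have hcQ : x * q * x⁻¹ * q⁻¹ ∈ Q :=
        Q.mul_mem ((Subgroup.mem_normalizer_iff.mp (hAQ hxA') q).mp hq') (Q.inv_mem hq')
      have hcV : x * q * x⁻¹ * q⁻¹ ∈ V := by
        have h1 : q * x⁻¹ * q⁻¹ ∈ V :=
          (Subgroup.mem_normalizer_iff.mp (hQV hq') x⁻¹).mp (V.inv_mem hxV)
        have e : x * q * x⁻¹ * q⁻¹ = x * (q * x⁻¹ * q⁻¹) := by group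
        rw [e]; exact V.mul_mem hxV h1
      have hc1 : x * q * x⁻¹ * q⁻¹ = 1 := by
        have h1 : (x * q * x⁻¹ * q⁻¹) ^ Nat.card Q = 1 := by
          have := pow_card_eq_one' (G := ↥Q) (x := ⟨_, hcQ⟩)
          exact congrArg Subtype.val this
        have h2 : (x * q * x⁻¹ * q⁻¹) ^ p ^ 1 = 1 := by rw [pow_one]; exact hexp _ hcV
        exact eq_one_of_pow_coprime (p := p) _ (Nat.card Q) 1 hQ h1 h2
      calc q * x = (x * q * x⁻¹ * q⁻¹)⁻¹ * (x * q) := by group
        _ = x * q := by rw [hc1, inv_one, one_mul]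
  have hQAQ : Q ⊔ A ≤ Subgroup.normalizer (Q : Set X) := sup_le Subgroup.le_normalizer hAQ
  have hQAP : Q ⊔ A ≤ Subgroup.normalizer (P : Set X) := sup_le hQP hAP
  have hfix := Cfsg.Agent.Helper26.aut_fix_of_invariant (G := X) (p := p) p (Or.inl ⟨hp, rfl⟩)
    {f : MulAut X | ∃ g ∈ Q ⊔ A, f = MulAut.conj g} {f : MulAut X | ∃ g ∈ Q, f = MulAut.conj g}
    (by
      rintro f ⟨g, hg, rfl⟩
      exact ⟨g, Subgroup.mem_sup_left hg, rfl⟩)
    (by
      rintro f ⟨g, hg, rfl⟩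
      have h1 : orderOf (MulAut.conj g) ∣ orderOf g := orderOf_map_dvd MulAut.conj g
      have h2 : orderOf g ∣ Nat.card Q := by
        have := orderOf_dvd_natCard (⟨g, hg⟩ : ↥Q)
        rwa [← Subgroup.orderOf_coe] at this
      exact Nat.Coprime.coprime_dvd_left (h1.trans h2) hQ)
    (by
      rintro f ⟨u, hu, rfl⟩ a ⟨q, hq, rfl⟩
      refine ⟨u * q * u⁻¹, (Subgroup.mem_normalizer_iff.mp (hQAQ hu) q).mp hq, ?_⟩
      rw [map_mul, map_mul, map_inv])
    (Nat.card P) P rfl hP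
    (by
      rintro f ⟨u, hu, rfl⟩ h hh
      rw [MulAut.conj_apply]
      exact (Subgroup.mem_normalizer_iff.mp (hQAP hu) h).mp hh)
    (by
      intro V hVP hVinv hexp a ha x hxV
      obtain ⟨q, hq, rfl⟩ := ha
      have hnorm : ∀ u ∈ Q ⊔ A, u ∈ Subgroup.normalizer (V : Set X) := by
        intro u hu
        apply mem_normalizer_of_forall V u
        · intro h hh
          have := hVinv (MulAut.conj u) ⟨u, hu, rfl⟩ h hh
          rwa [MulAut.conj_apply] at this
        · intro h hh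
          have := hVinv (MulAut.conj u⁻¹) ⟨u⁻¹, Subgroup.inv_mem _ hu, rfl⟩ h hh
          rwa [MulAut.conj_apply, inv_inv] at this
      have hQV : Q ≤ Subgroup.normalizer (V : Set X) := fun u hu =>
        hnorm u (Subgroup.mem_sup_left hu)
      have hAV : A ≤ Subgroup.normalizer (V : Set X) := fun u hu =>
        hnorm u (Subgroup.mem_sup_right hu)
      have hcen := hsmall V hVP hAV hQV hexp hq
      rw [Subgroup.mem_centralizer_iff] at hcen
      rw [MulAut.conj_apply]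
      exact mul_inv_eq_iff_eq_mul.mpr (hcen x hxV).symm)
  intro q hq
  rw [Subgroup.mem_centralizer_iff]
  intro h hh
  have h1 := hfix (MulAut.conj q) ⟨q, hq, rfl⟩ h hh
  rw [MulAut.conj_apply] at h1
  exact (mul_inv_eq_iff_eq_mul.mp h1).symm


/-- Let X be a finite p-constrained group, p an odd prime, and A an abelian p-subgroup of X containing every element of order p of C_X(A). Then every subgroup of X of order prime to p that is normalized by A lies in O_{p'}(X). -/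
theorem result {X : Type*} [Group X] [Finite X] (p : ℕ) [Fact p.Prime] (hp : p ≠ 2) (hX : Cfsg.IsPConstrained p X) (A : Subgroup X) (hA : IsMulCommutative ↥A) (hAp : IsPGroup p ↥A) (hΩ : ∀ x ∈ Subgroup.centralizer (A : Set X), orderOf x = p → x ∈ A) (Q : Subgroup X) (hQ : ¬ p ∣ Nat.card ↥Q) (hAQ : A ≤ Subgroup.normalizer (Q : Set X)) : Q ≤ Cfsg.pPrimeCore p X := by
  have hKn : (Cfsg.pPrimeCore p X).Normal := Cfsg.Agent.Helper10.pPrimeCore_normal p X
  have hKc : (Nat.card (Cfsg.pPrimeCore p X)).Coprime p :=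
    Cfsg.Agent.Helper23.pPrimeCore_coprime (G := X) p
  have hLn : (Cfsg.pPrimePCore p X).Normal := Cfsg.Agent.Helper10.pPrimePCore_normal p X
  obtain ⟨S, hAS⟩ := hAp.exists_le_sylow
  obtain ⟨P₀, hP₀⟩ : ∃ P₀ : Subgroup X, P₀ = (S : Subgroup X) ⊓ Cfsg.pPrimePCore p X := ⟨_, rfl⟩
  have hP₀p : IsPGroup p P₀ := by rw [hP₀]; exact S.isPGroup'.to_le inf_le_left
  have hP₀L : P₀ ≤ Cfsg.pPrimePCore p X := by rw [hP₀]; exact inf_le_right
  have hAP₀ : A ≤ Subgroup.normalizer (P₀ : Set X) := by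
    intro a ha
    rw [hP₀]
    exact mem_normalizer_inf _ _ a (Subgroup.le_normalizer (hAS ha))
      (by rw [Subgroup.normalizer_eq_top]; exact Subgroup.mem_top a)
  have hidx : ¬ p ∣ (P₀.subgroupOf (Cfsg.pPrimePCore p X)).index := by
    have := Cfsg.Agent.Helper10.not_dvd_relIndex_pPrimePCore S
    rw [← hP₀] at this; exact this
  have hPsp : IsPGroup p (P₀.subgroupOf (Cfsg.pPrimePCore p X)) := hP₀p.comap_subtype
  have hcen := hX (hPsp.toSylow hidx)
  have hmap : ((hPsp.toSylow hidx : Sylow p ↥(Cfsg.pPrimePCore p X)) :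
      Subgroup ↥(Cfsg.pPrimePCore p X)).map (Cfsg.pPrimePCore p X).subtype = P₀ := by
    rw [IsPGroup.toSylow_coe, Subgroup.subgroupOf_map_subtype, inf_of_le_left hP₀L]
  rw [hmap] at hcen
  obtain ⟨Q₁, hQ₁⟩ : ∃ Q₁ : Subgroup X,
      Q₁ = (Cfsg.pPrimeCore p X ⊔ Q) ⊓ Subgroup.normalizer (P₀ : Set X) := ⟨_, rfl⟩
  have hQc : (Nat.card Q).Coprime p :=
    (Nat.Prime.coprime_iff_not_dvd (Fact.out : p.Prime)).mpr hQ |>.symm
  have hKQ : (Nat.card ↥(Cfsg.pPrimeCore p X ⊔ Q)).Coprime p := by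
    have h1 := Cfsg.Agent.S0663.card_mul_relIndex' (Cfsg.pPrimeCore p X)
      (Cfsg.pPrimeCore p X ⊔ Q) le_sup_left
    have h2 : (Cfsg.pPrimeCore p X).relIndex (Cfsg.pPrimeCore p X ⊔ Q) =
        (Cfsg.pPrimeCore p X).relIndex Q := by
      rw [sup_comm (Cfsg.pPrimeCore p X) Q]; exact Subgroup.relIndex_sup_right (H := Q) (K := Cfsg.pPrimeCore p X)
    rw [h2] at h1
    rw [← h1]
    exact Nat.Coprime.mul_left hKc
      (Nat.Coprime.coprime_dvd_left (Subgroup.relIndex_dvd_card _ _) hQc)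
  have hQ₁c : (Nat.card Q₁).Coprime p := by
    rw [hQ₁]
    exact Nat.Coprime.coprime_dvd_left (Subgroup.card_dvd_of_le inf_le_left) hKQ
  have hQ₁P : Q₁ ≤ Subgroup.normalizer (P₀ : Set X) := by rw [hQ₁]; exact inf_le_right
  have hAQ₁ : A ≤ Subgroup.normalizer (Q₁ : Set X) := by
    intro a ha
    rw [hQ₁]
    apply mem_normalizer_inf
    · exact mem_normalizer_sup _ _ a
        (by rw [Subgroup.normalizer_eq_top]; exact Subgroup.mem_top a) (hAQ ha)
    · exact Subgroup.le_normalizer (hAP₀ ha)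
  have hcore := core hp A Q₁ P₀ hAp hΩ hQ₁c hAQ₁ hP₀p hAP₀ hQ₁P
  have hQ₁L : Q₁ ≤ Cfsg.pPrimePCore p X := hcore.trans hcen
  have hQ₁K : Q₁ ≤ Cfsg.pPrimeCore p X := by
    intro x hx
    have hxL := hQ₁L hx
    have h1 : (QuotientGroup.mk' (Cfsg.pPrimeCore p X)) x ∈
        Cfsg.pCore p (X ⧸ Cfsg.pPrimeCore p X) := hxL
    obtain ⟨j, hj⟩ := (pCore_isPGroup p (X ⧸ Cfsg.pPrimeCore p X)) ⟨_, h1⟩
    have hj' : ((QuotientGroup.mk' (Cfsg.pPrimeCore p X)) x) ^ p ^ j = 1 :=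
      congrArg Subtype.val hj
    have h2 : x ^ Nat.card Q₁ = 1 := by
      have := pow_card_eq_one' (G := ↥Q₁) (x := ⟨x, hx⟩)
      exact congrArg Subtype.val this
    have h3 : ((QuotientGroup.mk' (Cfsg.pPrimeCore p X)) x) ^ Nat.card Q₁ = 1 := by
      rw [← map_pow, h2, map_one]
    have h4 := eq_one_of_pow_coprime (p := p) _ (Nat.card Q₁) j hQ₁c h3 hj'
    exact (QuotientGroup.eq_one_iff x).mp h4
  intro q hq
  obtain ⟨d, hd, hdq⟩ := Cfsg.Agent.Helper10.frattini_pPrimePCore S q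
  have h1 : d * q ∈ Q₁ := by
    rw [hQ₁]
    refine ⟨Subgroup.mul_mem _ (Subgroup.mem_sup_left hd) (Subgroup.mem_sup_right hq), ?_⟩
    rw [hP₀]; exact hdq
  have h2 := hQ₁K h1
  have e : q = d⁻¹ * (d * q) := by group
  rw [e]
  exact Subgroup.mul_mem _ (Subgroup.inv_mem _ hd) h2

end Cfsg.Agent.S1302
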