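-- S1264: proof by helper7
import Cfsg.Statements.S1264
import Mathlib
import Cfsg.Agent.Helper7.Bender

set_option autoImplicit false
open Cfsg

namespace Cfsg.Agent.S1264

/-- Let G be finite, C = C_G(F(G)) the centralizer of the Fitting subgroup, and N a solvable subgroup of C normalized by C. Then N ≤ Z(F(G)). -/
theorem result {G : Type*} [Group G] [Finite G] (N : Subgroup G) (hN : N ≤ Subgroup.centralizer (Cfsg.fittingSubgroup G : Set G)) (hnorm : Subgroup.centralizer (Cfsg.fittingSubgroup G : Set G) ≤ Subgroup.normalizer (N : Set G)) (hsolv : Group.IsSolvable ↥N) : N ≤ (Subgroup.center ↥(Cfsg.fittingSubgroup G)).map (Cfsg.fittingSubgroup G).subtype := by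
  have hFn : (Cfsg.fittingSubgroup G).Normal := Cfsg.Agent.Helper7.fittingSubgroup_normal
  have hsub : N.IsSubnormal :=
    Subgroup.IsSubnormal.step N _ hN (Subgroup.Normal.isSubnormal inferInstance)
      ((Subgroup.normal_subgroupOf_iff_le_normalizer hN).mpr hnorm)
  have h1 : N ≤ Cfsg.fittingSubgroup G :=
    Cfsg.Agent.Helper7.solvable_subnormal_le_fitting hsub hN hsolv
  rw [Cfsg.Agent.Helper7.map_center_subtype]
  exact le_inf h1 hN

end Cfsg.Agent.S1264
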