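import Cfsg.Statements.S1465
import Cfsg.Agent.Helper21.OddStable
import Cfsg.Agent.Helper23.SolvPSolv
import Mathlib
-- import your own Cfsg.Agent.* helpers here

set_option autoImplicit false
open Cfsg

namespace Cfsg.Agent.S1465

open scoped commutatorElement


/-- Let p be an odd prime, G a solvable group of odd order, P a normal p-subgroup of G, and X the subgroup generated by a family of abelian p-subgroups of G each normalized by P. Then the image of X in G/C_G(P) lies in O_p(G/C_G(P)); and if O_{p'}(G) = 1 and O_p(G) ∩ C_G(P) ≤ P then X ≤ O_p(G). -/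
theorem result {G : Type*} [Group G] [Finite G] [Group.IsSolvable G] (hodd : Odd (Nat.card G)) (p : ℕ) [Fact p.Prime] (hp : p ≠ 2) (P : Subgroup G) [P.Normal] (hP : IsPGroup p P)
    (S : Set (Subgroup G)) (hS : ∀ B ∈ S, IsMulCommutative B ∧ IsPGroup p B ∧ P ≤ Subgroup.normalizer (B : Set G)) :
    (sSup S).map (QuotientGroup.mk' (Subgroup.centralizer (P : Set G))) ≤ Cfsg.pCore p (G ⧸ Subgroup.centralizer (P : Set G)) ∧
      (Cfsg.pPrimeCore p G = ⊥ → Cfsg.pCore p G ⊓ Subgroup.centralizer (P : Set G) ≤ P → sSup S ≤ Cfsg.pCore p G) := by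
  have hpr : p.Prime := Fact.out
  have key : ∀ B ∈ S, ∀ b ∈ B, (QuotientGroup.mk' (Subgroup.centralizer (P : Set G))) b ∈
      Cfsg.pCore p (G ⧸ Subgroup.centralizer (P : Set G)) := by
    intro B hB b hb
    obtain ⟨hBc, hBp, hBn⟩ := hS B hB
    have hq : ⁅⁅P, Subgroup.zpowers b⁆, Subgroup.zpowers b⁆ = ⊥ := by
      have h1 : ⁅P, Subgroup.zpowers b⁆ ≤ B := by
        rw [Subgroup.commutator_le]
        intro u hu y hy
        have hyB : y ∈ B := (Subgroup.zpowers_le.mpr hb) hy
        have h2 : u * y * u⁻¹ ∈ B := (Subgroup.mem_normalizer_iff.mp (hBn hu) y).mp hyB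
        rw [commutatorElement_def]
        exact B.mul_mem h2 (B.inv_mem hyB)
      rw [eq_bot_iff, Subgroup.commutator_le]
      intro x hx y hy
      rw [Subgroup.mem_bot, commutatorElement_eq_one_iff_mul_comm]
      exact Cfsg.Agent.Helper23.comm_of_isMulCommutative hBc x (h1 hx) y
        ((Subgroup.zpowers_le.mpr hb) hy)
    exact Cfsg.Agent.Helper21.OddStable.isPStableOn_of_odd inferInstance hodd hp P hP b hq
  have part1 : sSup S ≤ (Cfsg.pCore p (G ⧸ Subgroup.centralizer (P : Set G))).comap
      (QuotientGroup.mk' (Subgroup.centralizer (P : Set G))) := by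
    apply sSup_le
    intro B hB b hb
    exact key B hB b hb
  refine ⟨?_, ?_⟩
  · rw [Subgroup.map_le_iff_le_comap]; exact part1
  · intro hO hle
    have hT := Cfsg.Agent.Helper23.hall_higman
      (Cfsg.Agent.Helper23.isPSolvable_of_isSolvable p G) hO
    have hTn : (Cfsg.pCore p G).Normal := Cfsg.Agent.Helper23.pCore_normal_fin p
    have hTp : IsPGroup p (Cfsg.pCore p G) := Cfsg.Agent.Helper23.pCore_isPGroup p
    have hCn : (Subgroup.centralizer (P : Set G)).Normal := inferInstance
    have hy1 : ∀ y ∈ Subgroup.centralizer (P : Set G), (orderOf y).Coprime p → y = 1 := by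
      intro y hy hco
      obtain ⟨Pc, hPc⟩ : ∃ Pc : ℕ → Subgroup G, Pc = fun i => match i with
          | 0 => Cfsg.pCore p G
          | 1 => Cfsg.pCore p G ⊓ Subgroup.centralizer (P : Set G)
          | _ => ⊥ := ⟨_, rfl⟩
      have h0 : Pc 0 = Cfsg.pCore p G := congrFun hPc 0
      have h1 : Pc 1 = Cfsg.pCore p G ⊓ Subgroup.centralizer (P : Set G) := congrFun hPc 1
      have h2 : Pc 2 = ⊥ := congrFun hPc 2
      have hPcp : ∀ i, IsPGroup p (Pc i) := by
        intro i
        rcases i with _ | _ | i
        · rw [h0]; exact hTp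
        · rw [h1]; exact hTp.to_le inf_le_left
        · have h3 : Pc (i + 1 + 1) = ⊥ := congrFun hPc _
          rw [h3]; exact IsPGroup.of_bot
      have hcent := Cfsg.Agent.Helper10.chain_coprime_centralizes (p := p) Pc 2 h2 hPcp
        (y := y) (by
          intro i hi t ht
          interval_cases i
          · rw [h0] at ht
            rw [h1]
            refine ⟨?_, ?_⟩
            · rw [commutatorElement_def]
              exact (Cfsg.pCore p G).mul_mem (hTn.conj_mem t ht y) ((Cfsg.pCore p G).inv_mem ht)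
            · have h3 : ⁅y, t⁆ = y * (t * y⁻¹ * t⁻¹) := by rw [commutatorElement_def]; group
              rw [h3]
              exact Subgroup.mul_mem _ hy (hCn.conj_mem _ (Subgroup.inv_mem _ hy) t)
          · rw [h1] at ht
            rw [h2, Subgroup.mem_bot, commutatorElement_eq_one_iff_mul_comm]
            exact ((Subgroup.mem_centralizer_iff.mp hy) t (hle ht)).symm) hco
      have hyC : y ∈ Subgroup.centralizer (Cfsg.pCore p G : Set G) := by
        rw [Subgroup.mem_centralizer_iff]
        intro t ht
        have h3 := hcent t (h0 ▸ ht)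
        rw [commutatorElement_eq_one_iff_mul_comm] at h3
        exact h3.symm
      exact Cfsg.Agent.Helper23.eq_one_of_isPGroup_of_pow_eq_one hTp (hT hyC) hco
        (pow_orderOf_eq_one y)
    have hCp : IsPGroup p (Subgroup.centralizer (P : Set G)) := by
      rintro ⟨x, hx⟩
      obtain ⟨e, m', u, v, hord, hpm, hu, hv, hxvu, hue, hvm⟩ :=
        Cfsg.Agent.Helper8.exists_decomp x (orderOf_pos x).ne' p hpr
      have hvco : (orderOf v).Coprime p := by
        have h1 : orderOf v ∣ m' := orderOf_dvd_of_pow_eq_one hvm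
        exact Nat.Coprime.coprime_dvd_left h1 ((Nat.Prime.coprime_iff_not_dvd hpr).mpr hpm).symm
      have hv1 := hy1 v ((Subgroup.zpowers_le.mpr hx) hv) hvco
      refine ⟨e, Subtype.ext ?_⟩
      show x ^ (p ^ e) = 1
      rw [hxvu, hv1, one_mul, hue]
    have hKp : IsPGroup p ((Cfsg.pCore p (G ⧸ Subgroup.centralizer (P : Set G))).comap
        (QuotientGroup.mk' (Subgroup.centralizer (P : Set G)))) := by
      apply IsPGroup.comap_of_ker_isPGroup (Cfsg.Agent.Helper23.pCore_isPGroup p)
      rw [QuotientGroup.ker_mk']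
      exact hCp
    have hpn : (Cfsg.pCore p (G ⧸ Subgroup.centralizer (P : Set G))).Normal :=
      Cfsg.Agent.Helper23.pCore_normal_fin p
    have hKn : ((Cfsg.pCore p (G ⧸ Subgroup.centralizer (P : Set G))).comap
        (QuotientGroup.mk' (Subgroup.centralizer (P : Set G)))).Normal := inferInstance
    exact part1.trans (Cfsg.Agent.Helper23.le_pCore hKn hKp)

end Cfsg.Agent.S1465
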