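import Mathlib
import Cfsg.Statements.S0932

set_option autoImplicit false
open Cfsg

namespace Cfsg.Agent.S0932

/-- Summing a function over all conjugates `x⁻¹ g x`, `x ∈ G`, counts every conjugate `|C(g)|` times. -/
theorem sum_conj {G : Type*} [Group G] [Fintype G] [DecidableEq G] (g : G) (F : G → ℂ) :
    ∑ x : G, F (x⁻¹ * g * x)
      = (Nat.card (Subgroup.centralizer ({g} : Set G)) : ℂ)
        * ∑ y ∈ Finset.univ.filter (fun y : G => IsConj g y), F y := by
  classical
  rw [Finset.sum_comp F (fun x : G => x⁻¹ * g * x), Finset.mul_sum]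
  have himg : (Finset.univ.image (fun x : G => x⁻¹ * g * x))
      = Finset.univ.filter (fun y : G => IsConj g y) := by
    ext y
    simp only [Finset.mem_image, Finset.mem_univ, true_and, Finset.mem_filter, isConj_iff]
    constructor
    · rintro ⟨x, rfl⟩
      exact ⟨x⁻¹, by simp⟩
    · rintro ⟨c, rfl⟩
      exact ⟨c⁻¹, by simp⟩
  rw [himg]
  apply Finset.sum_congr rfl
  intro b hb
  simp only [Finset.mem_filter, Finset.mem_univ, true_and, isConj_iff] at hb
  obtain ⟨c, rfl⟩ := hb
  rw [nsmul_eq_mul]
  congr 1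
  have hC : Nat.card (Subgroup.centralizer ({g} : Set G))
      = (Finset.univ.filter (fun k : G => k ∈ Subgroup.centralizer ({g} : Set G))).card := by
    rw [Nat.card_eq_fintype_card, Fintype.card_subtype]
  rw [hC]
  norm_cast
  apply Finset.card_nbij' (fun a : G => a * c) (fun k : G => k * c⁻¹)
  · intro a ha
    simp only [Finset.coe_filter, Finset.mem_univ, true_and, Set.mem_ofPred_eq] at ha ⊢
    rw [Subgroup.mem_centralizer_singleton_iff]
    have h1 : g * a = a * (c * g * c⁻¹) := by rw [← ha]; group
    symm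
    calc g * (a * c) = (g * a) * c := by group
      _ = a * (c * g * c⁻¹) * c := by rw [h1]
      _ = a * c * g := by group
  · intro k hk
    simp only [Finset.coe_filter, Finset.mem_univ, true_and, Set.mem_ofPred_eq] at hk ⊢
    rw [Subgroup.mem_centralizer_singleton_iff] at hk
    calc (k * c⁻¹)⁻¹ * g * (k * c⁻¹) = c * (k⁻¹ * (g * k)) * c⁻¹ := by group
      _ = c * (k⁻¹ * (k * g)) * c⁻¹ := by rw [← hk]
      _ = c * g * c⁻¹ := by group
  · intro a _; group
  · intro k _; group

/-- Let H be a subgroup of the finite group G and ξ a character of H. For every g ∈ G, the sum of ξ h / ξ 1 over the elements h ∈ H that are conjugate in G to g equals the central character at g of the character of G induced from ξ (class size times value divided by degree). -/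
theorem result {G : Type*} [Group G] [Fintype G] (H : Subgroup G) (ξ : H → ℂ) (hξ : Cfsg.IsCharacter H ξ) (g : G) : Cfsg.inducedCentralChar H ξ g = Cfsg.centralChar (Cfsg.indFun H ξ) g := by
  classical
  have ext_mem : ∀ (k : G) (hk : k ∈ H), Cfsg.extendByZero H ξ k = ξ ⟨k, hk⟩ := by
    intro k hk
    exact Subtype.val_injective.extend_apply ξ 0 ⟨k, hk⟩
  have ext_not_mem : ∀ k : G, k ∉ H → Cfsg.extendByZero H ξ k = 0 := by
    intro k hk
    unfold Cfsg.extendByZero
    rw [Function.extend_apply']
    · rfl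
    · rintro ⟨a, ha⟩
      exact hk (ha ▸ a.2)
  -- the sum over the conjugates of g inside H
  set T : ℂ := ∑ h ∈ Finset.univ.filter (fun h : H => IsConj g (h : G)), ξ h with hT
  have hL : Cfsg.inducedCentralChar H ξ g = T / ξ 1 := by
    unfold Cfsg.inducedCentralChar
    rw [finsum_mem_eq_finite_toFinset_sum _ (Set.toFinite _), hT, Finset.sum_div]
    apply Finset.sum_congr
    · ext p; simp
    · intros; rfl
  have hsumT : ∑ y ∈ Finset.univ.filter (fun y : G => IsConj g y), Cfsg.extendByZero H ξ y = T := by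
    rw [hT]
    symm
    apply Finset.sum_bij_ne_zero (fun (h : H) _ _ => (h : G))
    · intro h hh _
      simp only [Finset.mem_filter, Finset.mem_univ, true_and] at hh ⊢
      exact hh
    · intro h₁ _ _ h₂ _ _ h
      exact Subtype.ext h
    · intro y hy hne
      simp only [Finset.mem_filter, Finset.mem_univ, true_and] at hy
      have hyH : y ∈ H := by
        by_contra h
        exact hne (ext_not_mem y h)
      refine ⟨⟨y, hyH⟩, ?_, ?_, rfl⟩
      · simp only [Finset.mem_filter, Finset.mem_univ, true_and]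
        exact hy
      · rw [ext_mem y hyH] at hne
        exact hne
    · intro h _ _
      rw [ext_mem (h : G) h.2]
  have hg : Cfsg.indFun H ξ g = (Nat.card H : ℂ)⁻¹
      * ((Nat.card (Subgroup.centralizer ({g} : Set G)) : ℂ) * T) := by
    unfold Cfsg.indFun
    rw [sum_conj g (Cfsg.extendByZero H ξ), hsumT]
  have h1 : Cfsg.indFun H ξ 1 = (Nat.card H : ℂ)⁻¹ * ((Nat.card G : ℂ) * ξ 1) := by
    unfold Cfsg.indFun
    congr 1
    have : ∀ x : G, Cfsg.extendByZero H ξ (x⁻¹ * 1 * x) = ξ 1 := by
      intro x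
      have : x⁻¹ * 1 * x = 1 := by group
      rw [this, ext_mem 1 H.one_mem]
      rfl
    rw [Finset.sum_congr rfl (fun x _ => this x), Finset.sum_const, Finset.card_univ,
      nsmul_eq_mul, Nat.card_eq_fintype_card]
  have hcard : ((Subgroup.centralizer ({g} : Set G)).index : ℂ)
      * (Nat.card (Subgroup.centralizer ({g} : Set G)) : ℂ) = (Nat.card G : ℂ) := by
    rw [← Nat.cast_mul, Subgroup.index_mul_card]
  have hH0 : (Nat.card H : ℂ) ≠ 0 := by
    exact_mod_cast (Nat.card_pos (α := H)).ne'
  have hG0 : (Nat.card G : ℂ) ≠ 0 := by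
    exact_mod_cast (Nat.card_pos (α := G)).ne'
  rw [hL]
  unfold Cfsg.centralChar
  rw [hg, h1]
  by_cases hξ1 : ξ 1 = 0
  · simp [hξ1]
  · have e1 : ((Subgroup.centralizer ({g} : Set G)).index : ℂ)
        * ((Nat.card H : ℂ)⁻¹ * ((Nat.card (Subgroup.centralizer ({g} : Set G)) : ℂ) * T))
        = (Nat.card H : ℂ)⁻¹ * ((Nat.card G : ℂ) * T) := by
      rw [← hcard]; ring
    rw [e1]
    field_simp

end Cfsg.Agent.S0932
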