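import Cfsg.Statements.S0961
import Cfsg.Agent.Helper22.Brauer3

set_option autoImplicit false
open Cfsg
open Cfsg.Agent.Helper24 Cfsg.Agent.Helper5 Cfsg.Agent.Helper22

namespace Cfsg.Agent.S0961

/-- Let χ be an irreducible character of the finite group G and let p ^ a be the largest power of the prime p dividing the order of G. Then the function equal to p ^ a * χ x at elements x of order prime to p and to 0 elsewhere is a generalized character (a difference of characters). -/
theorem result {G : Type*} [Group G] [Finite G] (p : ℕ) [Fact p.Prime] (χ : Cfsg.IrrCharacter G) : Cfsg.IsGeneralizedCharacter G (fun x : G => if p ∣ orderOf x then 0 else ((p ^ (Nat.card G).factorization p : ℕ) : ℂ) * (χ : G → ℂ) x) := by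
  classical
  haveI := Fintype.ofFinite G
  have hp : p.Prime := Fact.out
  refine pregular_genChar p χ (p ^ (Nat.card G).factorization p) ?_ _ (fun x hx => if_pos hx)
    (fun x hx => if_neg hx)
  intro y e he
  have hle : e ≤ (Nat.card G).factorization p := by
    have hdvd : p ^ e ∣ Nat.card G := he.trans (Subgroup.card_subgroup_dvd_card _)
    exact (Nat.Prime.pow_dvd_iff_le_factorization hp Nat.card_pos.ne').mp hdvd
  have hpe0 : ((p ^ e : ℕ) : ℂ) ≠ 0 := Nat.cast_ne_zero.mpr (pow_pos hp.pos e).ne'
  have hrw : ((p ^ (Nat.card G).factorization p : ℕ) : ℂ) * (χ : G → ℂ) y / ((p ^ e : ℕ) : ℂ) =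
      ((p ^ ((Nat.card G).factorization p - e) : ℕ) : ℂ) * (χ : G → ℂ) y := by
    rw [div_eq_iff hpe0, mul_right_comm, ← Nat.cast_mul, ← pow_add, Nat.sub_add_cancel hle]
  rw [hrw]
  exact (isIntegral_natCast _).mul (irr_isIntegral χ y)

end Cfsg.Agent.S0961
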