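import Cfsg.Statements.S4665
import Cfsg.Agent.Helper24.CharPerm

set_option autoImplicit false
open Cfsg

namespace Cfsg.Agent.S4665

/-- Fix a prime p, a maximal ideal M of the algebraic integers containing p, and a p-block B of the finite group G, and let p^a be the p-part of the order of G. Let χ be an integer combination of the irreducible characters in B. If the function that agrees with χ on p-regular elements and vanishes on p-singular elements is again an integer combination of the irreducible characters in B, then p^a divides χ(1). -/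
theorem result {G : Type*} [Group G] [Fintype G] (p : ℕ) [Fact p.Prime] (M : Ideal Cfsg.AlgInt) (hM : Cfsg.IsPModular p M) (B : Set (Cfsg.IrrCharacter G)) (hB : Cfsg.IsPBlock M B) (χ : G → ℂ) (hχ : (∃ n : Cfsg.IrrCharacter G → ℤ, ∀ g : G, χ g = ∑ᶠ ψ ∈ B, (n ψ : ℂ) * (ψ : G → ℂ) g)) (h0 : (∃ n : Cfsg.IrrCharacter G → ℤ, ∀ g : G, Cfsg.pRegularPart p χ g = ∑ᶠ ψ ∈ B, (n ψ : ℂ) * (ψ : G → ℂ) g)) : ∃ k : ℤ, χ 1 = (p ^ (Nat.card G).factorization p : ℂ) * k := by
  classical
  obtain ⟨n, hn⟩ := h0
  obtain ⟨P⟩ : Nonempty (Sylow p G) := inferInstance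
  haveI : Fintype (P : Subgroup G) := Fintype.ofFinite _
  have hfin : (B : Set (IrrCharacter G)).Finite := Set.toFinite B
  have hPc : Nat.card (P : Subgroup G) = p ^ (Nat.card G).factorization p := P.card_eq_multiplicity
  have hres : ∀ ψ : IrrCharacter G, ∃ k : ℕ,
      ∑ x : (P : Subgroup G), (ψ : G → ℂ) x = (Nat.card (P : Subgroup G) : ℂ) * k := by
    intro ψ
    have hc := Helper24.isCharacter_restrict (P : Subgroup G)
      (Helper24.isCharacter_of_isIrrCharacter ψ.2)
    obtain ⟨k, hk⟩ := Helper24.isCharacter_inner_irr hc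
      (⟨fun _ => 1, Helper24.isIrrCharacter_one⟩ : IrrCharacter (P : Subgroup G))
    refine ⟨k, ?_⟩
    rw [Helper24.classInner_def'] at hk
    simp only [map_one, mul_one] at hk
    have hP : (Nat.card (P : Subgroup G) : ℂ) ≠ 0 := Nat.cast_ne_zero.mpr Nat.card_pos.ne'
    rw [← hk]
    field_simp
  choose k hk using hres
  have hsum : ∑ x : (P : Subgroup G), Cfsg.pRegularPart p χ x = χ 1 := by
    rw [Finset.sum_eq_single (1 : (P : Subgroup G))]
    · have h1 : ¬ p ∣ 1 := (Fact.out : p.Prime).one_lt.ne' ∘ Nat.dvd_one.mp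
      show Cfsg.pRegularPart p χ (1 : G) = χ 1
      simp [Cfsg.pRegularPart, Cfsg.IsPRegular, orderOf_one, h1]
    · intro x _ hx
      have hdvd : p ∣ orderOf (x : G) := by
        obtain ⟨j, hj⟩ := P.isPGroup' x
        have h1 : orderOf x ∣ p ^ j := orderOf_dvd_of_pow_eq_one hj
        obtain ⟨i, -, hi⟩ := (Nat.dvd_prime_pow (Fact.out : p.Prime)).mp h1
        rw [Subgroup.orderOf_coe, hi]
        have hi0 : i ≠ 0 := by
          rintro rfl
          rw [pow_zero, orderOf_eq_one_iff] at hi
          exact hx hi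
        exact dvd_pow_self p hi0
      have hdvd' : p ∣ orderOf x := by rwa [Subgroup.orderOf_coe] at hdvd
      simp [Cfsg.pRegularPart, Cfsg.IsPRegular, hdvd']
    · intro h
      exact absurd (Finset.mem_univ _) h
  refine ⟨∑ ψ ∈ hfin.toFinset, n ψ * (k ψ : ℤ), ?_⟩
  rw [← hsum]
  simp only [hn, finsum_mem_eq_finite_toFinset_sum _ hfin]
  rw [Finset.sum_comm]
  push_cast
  rw [Finset.mul_sum]
  refine Finset.sum_congr rfl fun ψ _ => ?_
  rw [← Finset.mul_sum, hk ψ, hPc]
  push_cast
  ring

end Cfsg.Agent.S4665
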