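import Cfsg.Statements.S4567
import Cfsg.Agent.Helper24.CharMisc


set_option autoImplicit false
open Cfsg

namespace Cfsg.Agent.S4567

theorem central_shift {G : Type*} [Group G] [Fintype G] (χ : IrrCharacter G) (z : G)
    (hz : z ∈ Subgroup.center G) (g : G) :
    (χ : G → ℂ) (g * z) * (χ : G → ℂ) 1 = (χ : G → ℂ) z * (χ : G → ℂ) g := by
  obtain ⟨χ, n, ρ, hirr, rfl⟩ := χ
  haveI := hirr
  have h := Helper24.sum_char_conj_mul ρ z g
  have hz' : ∀ x : G, x * z * x⁻¹ = z := by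
    intro x
    rw [Subgroup.mem_center_iff.mp hz x, mul_inv_cancel_right]
  simp only [hz'] at h
  rw [Finset.sum_const, Finset.card_univ, nsmul_eq_mul, ← Nat.card_eq_fintype_card] at h
  have hG : (Nat.card G : ℂ) ≠ 0 := Nat.cast_ne_zero.mpr Nat.card_pos.ne'
  have hd : (Module.finrank ℂ (Fin n → ℂ) : ℂ) ≠ 0 :=
    Nat.cast_ne_zero.mpr (Helper24.finrank_pos_of_irreducible ρ).ne'
  have hzg : g * z = z * g := Subgroup.mem_center_iff.mp hz g
  show ρ.character (g * z) * ρ.character 1 = ρ.character z * ρ.character g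
  rw [hzg, Representation.char_one]
  have h2 : (Nat.card G : ℂ) * (ρ.character (z * g) * (Module.finrank ℂ (Fin n → ℂ) : ℂ)) =
      (Nat.card G : ℂ) * (ρ.character z * ρ.character g) := by
    rw [← mul_assoc, h]
    field_simp
  exact mul_left_cancel₀ hG h2

theorem mult_sum_zero {H : Type*} [Group H] [Fintype H] (μ : H → ℂ)
    (hmul : ∀ a b, μ (a * b) = μ a * μ b) (a0 : H) (h0 : μ a0 ≠ 1) : ∑ a : H, μ a = 0 := by
  have h1 : ∑ a : H, μ a = μ a0 * ∑ a : H, μ a := by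
    rw [Finset.mul_sum, ← Equiv.sum_comp (Equiv.mulLeft a0) μ]
    apply Finset.sum_congr rfl
    intro a _
    exact hmul a0 a
  have h2 : (1 - μ a0) * ∑ a : H, μ a = 0 := by linear_combination h1
  rcases mul_eq_zero.mp h2 with h | h
  · exact absurd (sub_eq_zero.mp h).symm h0
  · exact h

theorem psi_facts {G : Type*} [Group G] (N : Subgroup G) [Finite N]
    (hN : N ≤ Subgroup.center G) (ψ : IrrCharacter N) :
    (ψ : N → ℂ) 1 = 1 ∧ (∀ a b : N, (ψ : N → ℂ) (a * b) = (ψ : N → ℂ) a * (ψ : N → ℂ) b) ∧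
    (∀ a : N, starRingEnd ℂ ((ψ : N → ℂ) a) * (ψ : N → ℂ) a = 1) := by
  have hab : ∀ a b : N, a * b = b * a := by
    intro a b
    apply Subtype.ext
    show (a : G) * (b : G) = (b : G) * (a : G)
    exact (Subgroup.mem_center_iff.mp (hN b.2) a)
  have h1 := Helper24.irr_one_of_comm hab ψ
  have hmul := Helper24.irr_linear_mul ψ h1
  refine ⟨h1, hmul, fun a => ?_⟩
  rw [← Helper24.irr_inv ψ a, ← hmul, inv_mul_cancel, h1]

theorem avg_shift {G : Type*} [Group G] [Fintype G] (N : Subgroup G) [Fintype N]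
    (hN : N ≤ Subgroup.center G) (ψ : IrrCharacter N) (χ : IrrCharacter G) (g : G) :
    ((∀ n : N, (χ : G → ℂ) n = (χ : G → ℂ) 1 * (ψ : N → ℂ) n) →
      (Nat.card N : ℂ)⁻¹ * ∑ n : N, starRingEnd ℂ ((ψ : N → ℂ) n) * (χ : G → ℂ) (g * n) =
        (χ : G → ℂ) g) ∧
    ((¬ ∀ n : N, (χ : G → ℂ) n = (χ : G → ℂ) 1 * (ψ : N → ℂ) n) →
      (Nat.card N : ℂ)⁻¹ * ∑ n : N, starRingEnd ℂ ((ψ : N → ℂ) n) * (χ : G → ℂ) (g * n) = 0) := by
  obtain ⟨hψ1, hψmul, hψc⟩ := psi_facts N hN ψ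
  have hχ1 : (χ : G → ℂ) 1 ≠ 0 := Helper24.irr_one_ne_zero χ
  have hsh : ∀ (n : N) (y : G),
      (χ : G → ℂ) (y * n) * (χ : G → ℂ) 1 = (χ : G → ℂ) n * (χ : G → ℂ) y :=
    fun n y => central_shift χ n (hN n.2) y
  have hN0 : (Nat.card N : ℂ) ≠ 0 := Nat.cast_ne_zero.mpr Nat.card_pos.ne'
  constructor
  · intro hP
    have h1 : ∀ n : N, starRingEnd ℂ ((ψ : N → ℂ) n) * (χ : G → ℂ) (g * n) = (χ : G → ℂ) g := by
      intro n
      have e : (χ : G → ℂ) (g * n) = (ψ : N → ℂ) n * (χ : G → ℂ) g := by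
        apply mul_right_cancel₀ hχ1
        rw [hsh n g, hP n]; ring
      rw [e, ← mul_assoc, hψc, one_mul]
    simp only [h1]
    rw [Finset.sum_const, Finset.card_univ, nsmul_eq_mul, ← Nat.card_eq_fintype_card,
      ← mul_assoc, inv_mul_cancel₀ hN0, one_mul]
  · intro hP
    push Not at hP
    obtain ⟨n0, hn0⟩ := hP
    have hμ := mult_sum_zero
      (fun n : N => starRingEnd ℂ ((ψ : N → ℂ) n) * ((χ : G → ℂ) n / (χ : G → ℂ) 1))
      (by
        intro a b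
        have e : (χ : G → ℂ) ((a * b : N) : G) * (χ : G → ℂ) 1 =
            (χ : G → ℂ) b * (χ : G → ℂ) a := hsh b a
        have e' : (χ : G → ℂ) ((a * b : N) : G) =
            (χ : G → ℂ) b * (χ : G → ℂ) a / (χ : G → ℂ) 1 := by
          rw [eq_div_iff hχ1]; exact e
        show starRingEnd ℂ ((ψ : N → ℂ) (a * b)) *
            ((χ : G → ℂ) ((a * b : N) : G) / (χ : G → ℂ) 1) =
          (starRingEnd ℂ ((ψ : N → ℂ) a) * ((χ : G → ℂ) a / (χ : G → ℂ) 1)) *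
            (starRingEnd ℂ ((ψ : N → ℂ) b) * ((χ : G → ℂ) b / (χ : G → ℂ) 1))
        rw [hψmul, map_mul, e']
        field_simp)
      n0 (by
        intro h
        apply hn0
        have h2 : starRingEnd ℂ ((ψ : N → ℂ) n0) * ((χ : G → ℂ) n0 / (χ : G → ℂ) 1) = 1 := h
        have h3 : (χ : G → ℂ) n0 / (χ : G → ℂ) 1 = (ψ : N → ℂ) n0 := by
          calc (χ : G → ℂ) n0 / (χ : G → ℂ) 1
              = (starRingEnd ℂ ((ψ : N → ℂ) n0) * (ψ : N → ℂ) n0) *
                  ((χ : G → ℂ) n0 / (χ : G → ℂ) 1) := by rw [hψc, one_mul]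
            _ = (ψ : N → ℂ) n0 * (starRingEnd ℂ ((ψ : N → ℂ) n0) *
                  ((χ : G → ℂ) n0 / (χ : G → ℂ) 1)) := by ring
            _ = (ψ : N → ℂ) n0 := by rw [h2, mul_one]
        rw [div_eq_iff hχ1] at h3
        rw [h3]; ring)
    have h1 : ∀ n : N, starRingEnd ℂ ((ψ : N → ℂ) n) * (χ : G → ℂ) (g * n) =
        (χ : G → ℂ) g * (starRingEnd ℂ ((ψ : N → ℂ) n) * ((χ : G → ℂ) n / (χ : G → ℂ) 1)) := by
      intro n
      have e : (χ : G → ℂ) (g * n) = (χ : G → ℂ) n * (χ : G → ℂ) g / (χ : G → ℂ) 1 := by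
        rw [eq_div_iff hχ1]; exact hsh n g
      rw [e]; ring
    simp only [h1]
    rw [← Finset.mul_sum, hμ, mul_zero, mul_zero]

theorem in_iff {G : Type*} [Group G] [Fintype G] (N : Subgroup G) [Fintype N]
    (hN : N ≤ Subgroup.center G) (ψ : IrrCharacter N) (χ : IrrCharacter G) :
    classInner (fun n : N => (χ : G → ℂ) n) (ψ : N → ℂ) ≠ 0 ↔
      ∀ n : N, (χ : G → ℂ) n = (χ : G → ℂ) 1 * (ψ : N → ℂ) n := by
  have hav := avg_shift N hN ψ χ 1
  have e : classInner (fun n : N => (χ : G → ℂ) n) (ψ : N → ℂ) =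
      (Nat.card N : ℂ)⁻¹ * ∑ n : N, starRingEnd ℂ ((ψ : N → ℂ) n) * (χ : G → ℂ) (1 * n) := by
    rw [Helper24.classInner_def']
    congr 1
    apply Finset.sum_congr rfl
    intro n _
    rw [one_mul, mul_comm]
  rw [e]
  constructor
  · intro h
    by_contra hP
    exact h (hav.2 hP)
  · intro hP
    rw [hav.1 hP]
    exact Helper24.irr_one_ne_zero χ

theorem key_sum {G : Type*} [Group G] [Fintype G] (N : Subgroup G) [Fintype N]
    (hN : N ≤ Subgroup.center G) (ψ : IrrCharacter N) (g : G)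
    (c : IrrCharacter G → ℂ)
    (hc1 : ∀ χ : IrrCharacter G, (∀ n : N, (χ : G → ℂ) n = (χ : G → ℂ) 1 * (ψ : N → ℂ) n) →
      c χ = (χ : G → ℂ) g * starRingEnd ℂ ((χ : G → ℂ) g))
    (hc0 : ∀ χ : IrrCharacter G, (¬ ∀ n : N, (χ : G → ℂ) n = (χ : G → ℂ) 1 * (ψ : N → ℂ) n) →
      c χ = 0) :
    ∑ χ : IrrCharacter G, c χ =
      (Nat.card N : ℂ)⁻¹ * ∑ n : N, starRingEnd ℂ ((ψ : N → ℂ) n) *
        (Nat.card {x : G // x * (g * (n : G)) * x⁻¹ = g} : ℂ) := by
  classical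
  have h1 : ∀ n : N, (Nat.card {x : G // x * (g * (n : G)) * x⁻¹ = g} : ℂ) =
      ∑ χ : IrrCharacter G, (χ : G → ℂ) (g * n) * starRingEnd ℂ ((χ : G → ℂ) g) := by
    intro n
    rw [Nat.card_eq_fintype_card, Fintype.card_subtype]
    symm
    convert Helper24.sum_irr_mul_conj_eq_card (g * (n : G)) g
  have h2 : (Nat.card N : ℂ)⁻¹ * ∑ n : N, starRingEnd ℂ ((ψ : N → ℂ) n) *
        ∑ χ : IrrCharacter G, (χ : G → ℂ) (g * n) * starRingEnd ℂ ((χ : G → ℂ) g) =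
      ∑ χ : IrrCharacter G, ((Nat.card N : ℂ)⁻¹ *
        ∑ n : N, starRingEnd ℂ ((ψ : N → ℂ) n) * (χ : G → ℂ) (g * n)) *
          starRingEnd ℂ ((χ : G → ℂ) g) := by
    simp only [Finset.mul_sum, Finset.sum_mul]
    rw [Finset.sum_comm]
    apply Finset.sum_congr rfl
    intro χ _
    apply Finset.sum_congr rfl
    intro n _
    ring
  simp only [h1]
  rw [h2]
  apply Finset.sum_congr rfl
  intro χ _
  have hav := avg_shift N hN ψ χ g
  by_cases hP : ∀ n : N, (χ : G → ℂ) n = (χ : G → ℂ) 1 * (ψ : N → ℂ) n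
  · rw [hav.1 hP, hc1 χ hP]
  · rw [hav.2 hP, hc0 χ hP, zero_mul]

theorem comm_sum {G : Type*} [Group G] [Fintype G] (N : Subgroup G) [hNn : N.Normal] [Fintype N]
    (hN : N ≤ Subgroup.center G) (ψ : IrrCharacter N)
    (hfaith : ∀ n : N, (ψ : N → ℂ) n = (ψ : N → ℂ) 1 → n = 1) (g : G) :
    ((∀ x : G, x⁻¹ * g⁻¹ * x * g ∈ N → x * g = g * x) →
      ∑ n : N, starRingEnd ℂ ((ψ : N → ℂ) n) *
          (Nat.card {x : G // x * (g * (n : G)) * x⁻¹ = g} : ℂ) =
        (Nat.card {x : G // x⁻¹ * g⁻¹ * x * g ∈ N} : ℂ)) ∧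
    ((¬ ∀ x : G, x⁻¹ * g⁻¹ * x * g ∈ N → x * g = g * x) →
      ∑ n : N, starRingEnd ℂ ((ψ : N → ℂ) n) *
          (Nat.card {x : G // x * (g * (n : G)) * x⁻¹ = g} : ℂ) = 0) := by
  classical
  obtain ⟨hψ1, hψmul, hψc⟩ := psi_facts N hN ψ
  obtain ⟨F, hF⟩ : ∃ F : G → ℂ, ∀ x, F x =
      if h : x * g⁻¹ * x⁻¹ * g ∈ N then starRingEnd ℂ ((ψ : N → ℂ) ⟨_, h⟩) else 0 :=
    ⟨_, fun x => rfl⟩
  have hcent : ∀ (n : N) (x : G), x * (n : G) = (n : G) * x :=
    fun n x => Subgroup.mem_center_iff.mp (hN n.2) x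
  have hiff : ∀ (x : G) (n : N),
      x * (g * (n : G)) * x⁻¹ = g ↔ (n : G) = x * g⁻¹ * x⁻¹ * g := by
    intro x n
    have e : x * (g * (n : G)) * x⁻¹ = x * g * x⁻¹ * (n : G) := by
      calc x * (g * (n : G)) * x⁻¹ = x * g * ((n : G) * x⁻¹) := by group
        _ = x * g * (x⁻¹ * (n : G)) := by rw [hcent n x⁻¹]
        _ = x * g * x⁻¹ * (n : G) := by group
    rw [e]
    constructor
    · intro h
      calc (n : G) = (x * g * x⁻¹)⁻¹ * (x * g * x⁻¹ * (n : G)) := by group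
        _ = (x * g * x⁻¹)⁻¹ * g := by rw [h]
        _ = x * g⁻¹ * x⁻¹ * g := by group
    · intro h
      rw [h]; group
  have hstep : ∑ n : N, starRingEnd ℂ ((ψ : N → ℂ) n) *
      (Nat.card {x : G // x * (g * (n : G)) * x⁻¹ = g} : ℂ) = ∑ x : G, F x := by
    have h1 : ∀ n : N, (Nat.card {x : G // x * (g * (n : G)) * x⁻¹ = g} : ℂ) =
        ∑ x : G, if x * (g * (n : G)) * x⁻¹ = g then (1 : ℂ) else 0 := by
      intro n
      rw [Nat.card_eq_fintype_card, Fintype.card_subtype, Finset.card_filter]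
      push_cast
      rfl
    simp only [h1, Finset.mul_sum]
    rw [Finset.sum_comm]
    apply Finset.sum_congr rfl
    intro x _
    by_cases h : x * g⁻¹ * x⁻¹ * g ∈ N
    · rw [Finset.sum_eq_single (⟨_, h⟩ : N)]
      · rw [if_pos ((hiff x ⟨_, h⟩).mpr rfl), mul_one, hF x, dif_pos h]
      · intro n _ hne
        rw [if_neg, mul_zero]
        intro hc
        apply hne
        exact Subtype.ext ((hiff x n).mp hc)
      · intro hh; exact absurd (Finset.mem_univ _) hh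
    · rw [hF x, dif_neg h]
      apply Finset.sum_eq_zero
      intro n _
      rw [if_neg, mul_zero]
      intro hc
      apply h
      rw [← (hiff x n).mp hc]
      exact n.2
  have hmem : ∀ x : G, x * g⁻¹ * x⁻¹ * g ∈ N ↔ x⁻¹ * g⁻¹ * x * g ∈ N := by
    intro x
    constructor
    · intro h
      have h1 := hNn.conj_mem _ h x⁻¹
      have h2 := N.inv_mem h1
      have e : (x⁻¹ * (x * g⁻¹ * x⁻¹ * g) * x⁻¹⁻¹)⁻¹ = x⁻¹ * g⁻¹ * x * g := by group
      rw [e] at h2; exact h2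
    · intro h
      have h1 := N.inv_mem h
      have h2 := hNn.conj_mem _ h1 x
      have e : x * (x⁻¹ * g⁻¹ * x * g)⁻¹ * x⁻¹ = x * g⁻¹ * x⁻¹ * g := by group
      rw [e] at h2; exact h2
  constructor
  · intro hgood
    rw [hstep]
    have hF1 : ∀ x : G, F x = if x⁻¹ * g⁻¹ * x * g ∈ N then (1 : ℂ) else 0 := by
      intro x
      rw [hF x]
      by_cases h : x * g⁻¹ * x⁻¹ * g ∈ N
      · rw [dif_pos h, if_pos ((hmem x).mp h)]
        have hx := hgood x ((hmem x).mp h)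
        have e1 : x * g⁻¹ * x⁻¹ * g = 1 := by
          calc x * g⁻¹ * x⁻¹ * g = x * g⁻¹ * x⁻¹ * (g * x) * x⁻¹ := by group
            _ = x * g⁻¹ * x⁻¹ * (x * g) * x⁻¹ := by rw [hx]
            _ = 1 := by group
        have e2 : (⟨x * g⁻¹ * x⁻¹ * g, h⟩ : N) = 1 := Subtype.ext e1
        rw [e2, hψ1, map_one]
      · rw [dif_neg h, if_neg (fun h' => h ((hmem x).mpr h'))]
    simp only [hF1]
    rw [Nat.card_eq_fintype_card, Fintype.card_subtype, Finset.card_filter]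
    push_cast
    rfl
  · intro hbad
    push Not at hbad
    obtain ⟨x0, hx0N, hx0⟩ := hbad
    rw [hstep]
    have hk0 : x0 * g⁻¹ * x0⁻¹ * g ∈ N := (hmem x0).mpr hx0N
    have hk1 : (⟨_, hk0⟩ : N) ≠ 1 := by
      intro h
      apply hx0
      have h' : x0 * g⁻¹ * x0⁻¹ * g = 1 := congrArg Subtype.val h
      calc x0 * g = g * (x0 * g⁻¹ * x0⁻¹ * g)⁻¹ * x0 := by group
        _ = g * x0 := by rw [h', inv_one, mul_one]
    have hψk : starRingEnd ℂ ((ψ : N → ℂ) ⟨_, hk0⟩) ≠ 1 := by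
      intro h
      apply hk1
      apply hfaith
      rw [hψ1]
      have h2 := congrArg (starRingEnd ℂ) h
      simpa using h2
    have hshift : ∀ x : G, F (x * x0) = starRingEnd ℂ ((ψ : N → ℂ) ⟨_, hk0⟩) * F x := by
      intro x
      have hck : x * (x0 * g⁻¹ * x0⁻¹ * g) = (x0 * g⁻¹ * x0⁻¹ * g) * x := hcent ⟨_, hk0⟩ x
      have ec : (x * x0) * g⁻¹ * (x * x0)⁻¹ * g =
          (x0 * g⁻¹ * x0⁻¹ * g) * (x * g⁻¹ * x⁻¹ * g) := by
        calc (x * x0) * g⁻¹ * (x * x0)⁻¹ * g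
            = x * (x0 * g⁻¹ * x0⁻¹ * g) * g⁻¹ * x⁻¹ * g := by group
          _ = (x0 * g⁻¹ * x0⁻¹ * g) * x * g⁻¹ * x⁻¹ * g := by rw [hck]
          _ = _ := by group
      rw [hF (x * x0), hF x]
      by_cases h : x * g⁻¹ * x⁻¹ * g ∈ N
      · have h' : (x * x0) * g⁻¹ * (x * x0)⁻¹ * g ∈ N := by rw [ec]; exact N.mul_mem hk0 h
        rw [dif_pos h, dif_pos h']
        have e3 : (⟨_, h'⟩ : N) = ⟨_, hk0⟩ * ⟨_, h⟩ := Subtype.ext ec
        rw [e3, hψmul, map_mul]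
      · have h' : ¬ (x * x0) * g⁻¹ * (x * x0)⁻¹ * g ∈ N := by
          intro hc
          apply h
          rw [ec] at hc
          have h3 := N.mul_mem (N.inv_mem hk0) hc
          rwa [inv_mul_cancel_left] at h3
        rw [dif_neg h, dif_neg h', mul_zero]
    have hsum : ∑ x : G, F x = starRingEnd ℂ ((ψ : N → ℂ) ⟨_, hk0⟩) * ∑ x : G, F x := by
      rw [Finset.mul_sum, ← Equiv.sum_comp (Equiv.mulRight x0) F]
      apply Finset.sum_congr rfl
      intro x _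
      exact hshift x
    have h2 : (1 - starRingEnd ℂ ((ψ : N → ℂ) ⟨_, hk0⟩)) * ∑ x : G, F x = 0 := by
      linear_combination hsum
    rcases mul_eq_zero.mp h2 with h | h
    · exact absurd (sub_eq_zero.mp h).symm hψk
    · exact h

theorem lhs_count {G : Type*} [Group G] [Fintype G] (N : Subgroup G) [Fintype N]
    (hN : N ≤ Subgroup.center G) (ψ : IrrCharacter N) (c : G → IrrCharacter G → ℂ)
    (hc1 : ∀ (g : G) (χ : IrrCharacter G), (∀ n : N, (χ : G → ℂ) n = (χ : G → ℂ) 1 * (ψ : N → ℂ) n) →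
      c g χ = (χ : G → ℂ) g * starRingEnd ℂ ((χ : G → ℂ) g))
    (hc0 : ∀ (g : G) (χ : IrrCharacter G), (¬ ∀ n : N, (χ : G → ℂ) n = (χ : G → ℂ) 1 * (ψ : N → ℂ) n) → c g χ = 0) :
    (Nat.card {χ : IrrCharacter G //
        classInner (fun n : N => (χ : G → ℂ) n) (ψ : N → ℂ) ≠ 0} : ℂ) * (Nat.card G : ℂ) =
      ∑ g : G, ∑ χ : IrrCharacter G, c g χ := by
  classical
  have h1 : Nat.card {χ : IrrCharacter G //
        classInner (fun n : N => (χ : G → ℂ) n) (ψ : N → ℂ) ≠ 0} =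
      (Finset.univ.filter (fun χ : IrrCharacter G =>
        ∀ n : N, (χ : G → ℂ) n = (χ : G → ℂ) 1 * (ψ : N → ℂ) n)).card := by
    rw [← Fintype.card_subtype, ← Nat.card_eq_fintype_card]
    exact Nat.card_congr (Equiv.subtypeEquivRight (fun χ => in_iff N hN ψ χ))
  rw [h1, Finset.card_filter, Finset.sum_comm]
  push_cast
  rw [Finset.sum_mul]
  apply Finset.sum_congr rfl
  intro χ _
  have hG0 : (Nat.card G : ℂ) ≠ 0 := Nat.cast_ne_zero.mpr Nat.card_pos.ne'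
  have hG : ∑ g : G, (χ : G → ℂ) g * starRingEnd ℂ ((χ : G → ℂ) g) = (Nat.card G : ℂ) := by
    have h := Helper24.irr_inner_self χ
    rw [Helper24.classInner_def'] at h
    calc ∑ g : G, (χ : G → ℂ) g * starRingEnd ℂ ((χ : G → ℂ) g)
        = (Nat.card G : ℂ) * ((Nat.card G : ℂ)⁻¹ *
            ∑ g : G, (χ : G → ℂ) g * starRingEnd ℂ ((χ : G → ℂ) g)) := by
          rw [← mul_assoc, mul_inv_cancel₀ hG0, one_mul]
      _ = (Nat.card G : ℂ) := by rw [h, mul_one]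
  by_cases hP : ∀ n : N, (χ : G → ℂ) n = (χ : G → ℂ) 1 * (ψ : N → ℂ) n
  · rw [if_pos hP, one_mul, ← hG]
    apply Finset.sum_congr rfl
    intro g _
    exact (hc1 g χ hP).symm
  · rw [if_neg hP, zero_mul]
    symm
    apply Finset.sum_eq_zero
    intro g _
    exact hc0 g χ hP

theorem rhs_count {G : Type*} [Group G] [Fintype G] (N : Subgroup G) [hNn : N.Normal]
    (hN : N ≤ Subgroup.center G) (M : G → ℕ)
    (hM1 : ∀ g : G, (∀ x : G, x⁻¹ * g⁻¹ * x * g ∈ N → x * g = g * x) →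
      M g = Nat.card {x : G // x⁻¹ * g⁻¹ * x * g ∈ N})
    (hM0 : ∀ g : G, (¬ ∀ x : G, x⁻¹ * g⁻¹ * x * g ∈ N → x * g = g * x) → M g = 0) :
    Nat.card {C : ConjClasses (G ⧸ N) // ∃ g : G, ConjClasses.mk (g : G ⧸ N) = C ∧
        ∀ x : G, x⁻¹ * g⁻¹ * x * g ∈ N → x * g = g * x} * (Nat.card G * Nat.card N) =
      ∑ g : G, M g := by
  classical
  haveI : Fintype (G ⧸ N) := Fintype.ofFinite _
  haveI : Fintype (ConjClasses (G ⧸ N)) := Fintype.ofFinite _
  have hgoodN : ∀ (g : G) (z : G), z ∈ N →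
      (∀ x : G, x⁻¹ * g⁻¹ * x * g ∈ N → x * g = g * x) →
      (∀ x : G, x⁻¹ * (g * z)⁻¹ * x * (g * z) ∈ N → x * (g * z) = (g * z) * x) := by
    intro g z hz hg x hx
    have hzc : ∀ y : G, y * z = z * y := fun y => Subgroup.mem_center_iff.mp (hN hz) y
    have hzi : ∀ y : G, z⁻¹ * y = y * z⁻¹ := fun y =>
      (Subgroup.mem_center_iff.mp ((Subgroup.center G).inv_mem (hN hz)) y).symm
    have e : x⁻¹ * (g * z)⁻¹ * x * (g * z) = x⁻¹ * g⁻¹ * x * g := by
      calc x⁻¹ * (g * z)⁻¹ * x * (g * z) = x⁻¹ * (z⁻¹ * (g⁻¹ * x * g)) * z := by group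
        _ = x⁻¹ * ((g⁻¹ * x * g) * z⁻¹) * z := by rw [hzi (g⁻¹ * x * g)]
        _ = x⁻¹ * g⁻¹ * x * g := by group
    rw [e] at hx
    have h1 := hg x hx
    calc x * (g * z) = (x * g) * z := by group
      _ = g * x * z := by rw [h1]
      _ = g * (x * z) := by group
      _ = g * (z * x) := by rw [hzc x]
      _ = g * z * x := by group
  have hgoodC : ∀ (g y : G), (∀ x : G, x⁻¹ * g⁻¹ * x * g ∈ N → x * g = g * x) →
      (∀ x : G, x⁻¹ * (y * g * y⁻¹)⁻¹ * x * (y * g * y⁻¹) ∈ N →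
        x * (y * g * y⁻¹) = (y * g * y⁻¹) * x) := by
    intro g y hg x hx
    have h1 := hNn.conj_mem _ hx y⁻¹
    have e : y⁻¹ * (x⁻¹ * (y * g * y⁻¹)⁻¹ * x * (y * g * y⁻¹)) * y⁻¹⁻¹ =
        (y⁻¹ * x * y)⁻¹ * g⁻¹ * (y⁻¹ * x * y) * g := by group
    rw [e] at h1
    have h2 := hg _ h1
    calc x * (y * g * y⁻¹) = y * ((y⁻¹ * x * y) * g) * y⁻¹ := by group
      _ = y * (g * (y⁻¹ * x * y)) * y⁻¹ := by rw [h2]
      _ = (y * g * y⁻¹) * x := by group
  have hR : ∀ g : G, (∃ g' : G, ConjClasses.mk (g' : G ⧸ N) = ConjClasses.mk (g : G ⧸ N) ∧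
      ∀ x : G, x⁻¹ * g'⁻¹ * x * g' ∈ N → x * g' = g' * x) ↔
      (∀ x : G, x⁻¹ * g⁻¹ * x * g ∈ N → x * g = g * x) := by
    intro g
    constructor
    · rintro ⟨g', hmk, hg'⟩
      rw [ConjClasses.mk_eq_mk_iff_isConj, isConj_iff] at hmk
      obtain ⟨q, hq⟩ := hmk
      obtain ⟨y, rfl⟩ := QuotientGroup.mk_surjective q
      have h1 : ((y * g' * y⁻¹ : G) : G ⧸ N) = (g : G ⧸ N) := by
        rw [← hq]; rfl
      rw [QuotientGroup.eq] at h1
      have h2 := hgoodN _ _ h1 (hgoodC g' y hg')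
      have e : y * g' * y⁻¹ * ((y * g' * y⁻¹)⁻¹ * g) = g := by group
      rw [e] at h2
      exact h2
    · intro hg
      exact ⟨g, rfl, hg⟩
  obtain ⟨F, hF⟩ : ∃ F : G ⧸ N → ℕ, ∀ q, F q =
      if (∃ g : G, ConjClasses.mk (g : G ⧸ N) = ConjClasses.mk q ∧
        ∀ x : G, x⁻¹ * g⁻¹ * x * g ∈ N → x * g = g * x)
      then Nat.card {y : G ⧸ N // y * q = q * y} else 0 := ⟨_, fun q => rfl⟩
  have hFinv : ∀ q h : G ⧸ N, F (h * q * h⁻¹) = F q := by
    intro q h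
    have hmk : ConjClasses.mk (h * q * h⁻¹) = ConjClasses.mk q := by
      rw [ConjClasses.mk_eq_mk_iff_isConj]
      exact (isConj_iff.mpr ⟨h, rfl⟩).symm
    have hcard : Nat.card {y : G ⧸ N // y * (h * q * h⁻¹) = (h * q * h⁻¹) * y} =
        Nat.card {y : G ⧸ N // y * q = q * y} := by
      apply Nat.card_congr
      refine Equiv.subtypeEquiv (MulAut.conj h⁻¹).toEquiv (fun y => ?_)
      show y * (h * q * h⁻¹) = (h * q * h⁻¹) * y ↔
        (h⁻¹ * y * h⁻¹⁻¹) * q = q * (h⁻¹ * y * h⁻¹⁻¹)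
      constructor
      · intro e
        calc h⁻¹ * y * h⁻¹⁻¹ * q = h⁻¹ * (y * (h * q * h⁻¹)) * h := by group
          _ = h⁻¹ * ((h * q * h⁻¹) * y) * h := by rw [e]
          _ = q * (h⁻¹ * y * h⁻¹⁻¹) := by group
      · intro e
        calc y * (h * q * h⁻¹) = h * ((h⁻¹ * y * h⁻¹⁻¹) * q) * h⁻¹ := by group
          _ = h * (q * (h⁻¹ * y * h⁻¹⁻¹)) * h⁻¹ := by rw [e]
          _ = (h * q * h⁻¹) * y := by group
    rw [hF (h * q * h⁻¹), hF q, hmk, hcard]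
  have hsumQ : ∑ q : G ⧸ N, F q = Nat.card (G ⧸ N) *
      Nat.card {C : ConjClasses (G ⧸ N) // ∃ g : G, ConjClasses.mk (g : G ⧸ N) = C ∧
        ∀ x : G, x⁻¹ * g⁻¹ * x * g ∈ N → x * g = g * x} := by
    rw [Helper24.sum_eq_finsum_classes F hFinv, finsum_eq_sum_of_fintype]
    have hterm : ∀ K : ConjClasses (G ⧸ N),
        (Subgroup.centralizer ({Helper24.classRep K} : Set (G ⧸ N))).index •
          F (Helper24.classRep K) =
        if (∃ g : G, ConjClasses.mk (g : G ⧸ N) = K ∧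
          ∀ x : G, x⁻¹ * g⁻¹ * x * g ∈ N → x * g = g * x) then Nat.card (G ⧸ N) else 0 := by
      intro K
      rw [hF, Helper24.mk_classRep]
      by_cases hK : (∃ g : G, ConjClasses.mk (g : G ⧸ N) = K ∧
          ∀ x : G, x⁻¹ * g⁻¹ * x * g ∈ N → x * g = g * x)
      · rw [if_pos hK, if_pos hK, smul_eq_mul]
        have hc : Nat.card {y : G ⧸ N // y * Helper24.classRep K = Helper24.classRep K * y} =
            Nat.card (Subgroup.centralizer ({Helper24.classRep K} : Set (G ⧸ N))) := by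
          apply Nat.card_congr
          exact Equiv.subtypeEquivRight (fun y => by
            rw [Subgroup.mem_centralizer_iff]
            constructor
            · intro h z hz
              rw [Set.mem_singleton_iff] at hz
              rw [hz]; exact h.symm
            · intro h
              exact (h _ (Set.mem_singleton _)).symm)
        rw [hc, mul_comm]
        exact Subgroup.card_mul_index _
      · rw [if_neg hK, if_neg hK, smul_zero]
    simp only [hterm]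
    rw [← Finset.sum_filter, Finset.sum_const, smul_eq_mul, mul_comm]
    congr 1
    rw [Nat.card_eq_fintype_card, Fintype.card_subtype]
  have hlift : ∀ (f : G ⧸ N → ℕ), ∑ g : G, f (g : G ⧸ N) = Nat.card N * ∑ q : G ⧸ N, f q := by
    intro f
    rw [Helper24.sum_eq_card_smul_sum_out N (fun g : G => f (g : G ⧸ N))
      (fun g z hz => congrArg f (QuotientGroup.mk_mul_of_mem g hz)), smul_eq_mul]
    congr 1
    apply Finset.sum_congr rfl
    intro q _
    show f ((q.out : G) : G ⧸ N) = f q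
    rw [QuotientGroup.out_eq']
  have hcentQ : ∀ g : G, Nat.card N *
      Nat.card {y : G ⧸ N // y * (g : G ⧸ N) = (g : G ⧸ N) * y} =
      Nat.card {x : G // x⁻¹ * g⁻¹ * x * g ∈ N} := by
    intro g
    have h1 := hlift (fun y => if y * (g : G ⧸ N) = (g : G ⧸ N) * y then 1 else 0)
    have e1 : Nat.card {y : G ⧸ N // y * (g : G ⧸ N) = (g : G ⧸ N) * y} =
        ∑ q : G ⧸ N, if q * (g : G ⧸ N) = (g : G ⧸ N) * q then 1 else 0 := by
      rw [Nat.card_eq_fintype_card, Fintype.card_subtype, Finset.card_filter]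
    have e2 : Nat.card {x : G // x⁻¹ * g⁻¹ * x * g ∈ N} =
        ∑ x : G, if ((x : G ⧸ N) * (g : G ⧸ N) = (g : G ⧸ N) * (x : G ⧸ N)) then 1 else 0 := by
      rw [Nat.card_eq_fintype_card, Fintype.card_subtype, Finset.card_filter]
      apply Finset.sum_congr rfl
      intro x _
      have hiff : x⁻¹ * g⁻¹ * x * g ∈ N ↔
          ((x : G ⧸ N) * (g : G ⧸ N) = (g : G ⧸ N) * (x : G ⧸ N)) := by
        rw [← QuotientGroup.mk_mul, ← QuotientGroup.mk_mul, eq_comm, QuotientGroup.eq]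
        have e : (g * x)⁻¹ * (x * g) = x⁻¹ * g⁻¹ * x * g := by group
        rw [e]
      by_cases hc : x⁻¹ * g⁻¹ * x * g ∈ N
      · simp only [if_pos hc, if_pos (hiff.mp hc)]
      · simp only [if_neg hc, if_neg (fun h => hc (hiff.mpr h))]
    rw [e1, e2]
    exact h1.symm
  have hG : Nat.card G = Nat.card N * Nat.card (G ⧸ N) := by
    rw [← Subgroup.card_mul_index N, Subgroup.index_eq_card]
  have h5 := hlift F
  have h6 : ∀ g : G, Nat.card N * F (g : G ⧸ N) = M g := by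
    intro g
    rw [hF]
    by_cases hg : (∀ x : G, x⁻¹ * g⁻¹ * x * g ∈ N → x * g = g * x)
    · rw [if_pos ((hR g).mpr hg), hcentQ g, hM1 g hg]
    · rw [if_neg (fun h => hg ((hR g).mp h)), mul_zero, hM0 g hg]
  calc Nat.card {C : ConjClasses (G ⧸ N) // ∃ g : G, ConjClasses.mk (g : G ⧸ N) = C ∧
        ∀ x : G, x⁻¹ * g⁻¹ * x * g ∈ N → x * g = g * x} * (Nat.card G * Nat.card N)
      = Nat.card N * (Nat.card N * (Nat.card (G ⧸ N) *
          Nat.card {C : ConjClasses (G ⧸ N) // ∃ g : G, ConjClasses.mk (g : G ⧸ N) = C ∧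
            ∀ x : G, x⁻¹ * g⁻¹ * x * g ∈ N → x * g = g * x})) := by rw [hG]; ring
    _ = Nat.card N * (Nat.card N * ∑ q : G ⧸ N, F q) := by rw [hsumQ]
    _ = Nat.card N * ∑ g : G, F (g : G ⧸ N) := by rw [h5]
    _ = ∑ g : G, Nat.card N * F (g : G ⧸ N) := by rw [Finset.mul_sum]
    _ = ∑ g : G, M g := Finset.sum_congr rfl (fun g _ => h6 g)

/-- Let N be a central subgroup of the finite group G and ψ a faithful irreducible (hence degree-one) character of N. Call a coset g N special when every x ∈ G whose commutator x⁻¹ g⁻¹ x g lies in N actually commutes with g (this depends only on the coset). Then the number of irreducible characters of G whose restriction to N contains ψ equals the number of conjugacy classes of G/N consisting of special cosets. -/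
theorem result {G : Type*} [Group G] [Fintype G] (N : Subgroup G) [N.Normal] [Fintype N] (hN : N ≤ Subgroup.center G) (ψ : Cfsg.IrrCharacter ↥N) (hfaith : ∀ n : ↥N, (ψ : ↥N → ℂ) n = (ψ : ↥N → ℂ) 1 → n = 1) : Nat.card {χ : Cfsg.IrrCharacter G // Cfsg.classInner (fun n : ↥N => (χ : G → ℂ) n) (ψ : ↥N → ℂ) ≠ 0} = Nat.card {C : ConjClasses (G ⧸ N) // ∃ g : G, ConjClasses.mk (g : G ⧸ N) = C ∧ ∀ x : G, x⁻¹ * g⁻¹ * x * g ∈ N → x * g = g * x} := by
  classical
  obtain ⟨c, hc1, hc0⟩ : ∃ c : G → IrrCharacter G → ℂ,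
      (∀ (g : G) (χ : IrrCharacter G), (∀ n : N, (χ : G → ℂ) n = (χ : G → ℂ) 1 * (ψ : N → ℂ) n) →
        c g χ = (χ : G → ℂ) g * starRingEnd ℂ ((χ : G → ℂ) g)) ∧
      (∀ (g : G) (χ : IrrCharacter G), (¬ ∀ n : N, (χ : G → ℂ) n = (χ : G → ℂ) 1 * (ψ : N → ℂ) n) → c g χ = 0) :=
    ⟨fun g χ => if (∀ n : N, (χ : G → ℂ) n = (χ : G → ℂ) 1 * (ψ : N → ℂ) n) then
        (χ : G → ℂ) g * starRingEnd ℂ ((χ : G → ℂ) g) else 0,
      fun g χ hP => if_pos hP, fun g χ hP => if_neg hP⟩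
  obtain ⟨M, hM1, hM0⟩ : ∃ M : G → ℕ,
      (∀ g : G, (∀ x : G, x⁻¹ * g⁻¹ * x * g ∈ N → x * g = g * x) →
        M g = Nat.card {x : G // x⁻¹ * g⁻¹ * x * g ∈ N}) ∧
      (∀ g : G, (¬ ∀ x : G, x⁻¹ * g⁻¹ * x * g ∈ N → x * g = g * x) → M g = 0) :=
    ⟨fun g => if (∀ x : G, x⁻¹ * g⁻¹ * x * g ∈ N → x * g = g * x) then
        Nat.card {x : G // x⁻¹ * g⁻¹ * x * g ∈ N} else 0,
      fun g hg => if_pos hg, fun g hg => if_neg hg⟩
  have hL := lhs_count N hN ψ c hc1 hc0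
  have hR := rhs_count N hN M hM1 hM0
  have hN0 : (Nat.card N : ℂ) ≠ 0 := Nat.cast_ne_zero.mpr Nat.card_pos.ne'
  have hkey : ∀ g : G, (∑ χ : IrrCharacter G, c g χ) * (Nat.card N : ℂ) = (M g : ℂ) := by
    intro g
    rw [key_sum N hN ψ g (c g) (hc1 g) (hc0 g), inv_mul_eq_div, div_mul_cancel₀ _ hN0]
    have hcs := comm_sum N hN ψ hfaith g
    by_cases hg : (∀ x : G, x⁻¹ * g⁻¹ * x * g ∈ N → x * g = g * x)
    · rw [hcs.1 hg, hM1 g hg]
    · rw [hcs.2 hg, hM0 g hg, Nat.cast_zero]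
  apply Nat.eq_of_mul_eq_mul_right
    (show 0 < Nat.card G * Nat.card N from Nat.mul_pos Nat.card_pos Nat.card_pos)
  rw [hR]
  apply Nat.cast_injective (R := ℂ)
  push_cast
  rw [← mul_assoc, hL, Finset.sum_mul]
  exact Finset.sum_congr rfl (fun g _ => hkey g)

end Cfsg.Agent.S4567
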