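import Cfsg.Statements.S0969
import Cfsg.Agent.Helper22.BlkContrib
import Cfsg.Agent.Helper22.FT2
import Cfsg.Agent.Helper5.BlkDefect
import Cfsg.Agent.Helper5.BlkTwist
import Cfsg.Agent.Helper5.BlkMinMax
import Cfsg.Agent.Helper5.BlkOsima

set_option autoImplicit false
open Cfsg
open Cfsg.Agent.Helper5 Cfsg.Agent.Helper24 Cfsg.Agent.Helper22

namespace Cfsg.Agent.S0969

theorem normSq_central_mul {G : Type*} [Group G] [Fintype G] (χ : IrrCharacter G) {z : G}
    (hz : z ∈ Subgroup.center G) (y : G) :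
    Complex.normSq ((χ : G → ℂ) (z * y)) = Complex.normSq ((χ : G → ℂ) y) := by
  have h := Cfsg.Agent.S4567.central_shift χ z hz y
  have hzy : z * y = y * z := (Subgroup.mem_center_iff.mp hz y).symm
  rw [hzy]
  have h1 := Cfsg.Agent.Helper22.norm_central χ hz
  have h10 : ‖(χ : G → ℂ) 1‖ ≠ 0 := norm_ne_zero_iff.mpr (Cfsg.Agent.Helper5.irr_one_ne_zero χ)
  have h2 : ‖(χ : G → ℂ) (y * z)‖ * ‖(χ : G → ℂ) 1‖ = ‖(χ : G → ℂ) 1‖ * ‖(χ : G → ℂ) y‖ := by
    rw [← norm_mul, h, norm_mul, h1]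
  have h3 : ‖(χ : G → ℂ) (y * z)‖ = ‖(χ : G → ℂ) y‖ :=
    mul_right_cancel₀ h10 (h2.trans (mul_comm _ _))
  rw [Complex.normSq_eq_norm_sq, Complex.normSq_eq_norm_sq, h3]

theorem isPPart_central_mul {G : Type*} [Group G] {p : ℕ} (hp : p.Prime) {D : Subgroup G}
    (hD : IsPGroup p D) (hDZ : D ≤ Subgroup.center G) {z y : G} (hz : z ∈ D)
    (hy : ¬ p ∣ orderOf y) : IsPPart p (z * y) z := by
  refine ⟨y, rfl, ?_, ?_, hy⟩
  · show z * y = y * z
    exact (Subgroup.mem_center_iff.mp (hDZ hz) y).symm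
  · obtain ⟨k, hk⟩ := hD ⟨z, hz⟩
    have h1 : z ^ p ^ k = 1 := by
      have := congrArg Subtype.val hk
      simpa using this
    obtain ⟨j, -, hj⟩ := (Nat.dvd_prime_pow hp).mp (orderOf_dvd_of_pow_eq_one h1)
    exact ⟨j, hj⟩

theorem central_sum_le {G : Type*} [Group G] [Fintype G] {p : ℕ} (hp : p.Prime) (D : Subgroup G)
    (hD : IsPGroup p D) (hDZ : D ≤ Subgroup.center G) (χ : IrrCharacter G) :
    (Nat.card D : ℝ) * (∑ g : G, if p ∣ orderOf g then 0 else Complex.normSq ((χ : G → ℂ) g))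
      ≤ ∑ g : G, Complex.normSq ((χ : G → ℂ) g) ∧
    ((Nat.card D : ℝ) * (∑ g : G, if p ∣ orderOf g then 0 else Complex.normSq ((χ : G → ℂ) g))
      = ∑ g : G, Complex.normSq ((χ : G → ℂ) g) →
      ∀ g : G, (∀ z ∈ D, ∀ y : G, ¬ p ∣ orderOf y → g ≠ z * y) → (χ : G → ℂ) g = 0) := by
  classical
  haveI : Fintype D := Fintype.ofFinite D
  obtain ⟨T, hT⟩ : ∃ T : Finset G, T = Finset.univ.filter (fun g : G => ¬ p ∣ orderOf g) :=
    ⟨_, rfl⟩
  obtain ⟨I, hI⟩ : ∃ I : Finset G, I = ((Finset.univ : Finset D) ×ˢ T).image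
      (fun q : D × G => (q.1 : G) * q.2) := ⟨_, rfl⟩
  have hinj : Set.InjOn (fun q : D × G => (q.1 : G) * q.2)
      (((Finset.univ : Finset D) ×ˢ T : Finset (D × G)) : Set (D × G)) := by
    rintro ⟨z, y⟩ hq ⟨z', y'⟩ hq' heq
    have hy : ¬ p ∣ orderOf y := by
      have := (Finset.mem_product.mp (Finset.mem_coe.mp hq)).2
      rw [hT] at this
      exact (Finset.mem_filter.mp this).2
    have hy' : ¬ p ∣ orderOf y' := by
      have := (Finset.mem_product.mp (Finset.mem_coe.mp hq')).2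
      rw [hT] at this
      exact (Finset.mem_filter.mp this).2
    have heq' : (z : G) * y = (z' : G) * y' := heq
    have h1 : IsPPart p ((z : G) * y) (z : G) := isPPart_central_mul hp hD hDZ z.2 hy
    have h2 : IsPPart p ((z : G) * y) (z' : G) := by
      rw [heq']
      exact isPPart_central_mul hp hD hDZ z'.2 hy'
    have hzz : (z : G) = (z' : G) := isPPart_unique hp h1 h2
    have hyy : y = y' := by
      rw [hzz] at heq'
      exact mul_left_cancel heq'
    have hz2 : z = z' := Subtype.ext hzz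
    rw [hz2, hyy]
  have hsumI : ∑ g ∈ I, Complex.normSq ((χ : G → ℂ) g) = (Nat.card D : ℝ) *
      ∑ g : G, (if p ∣ orderOf g then 0 else Complex.normSq ((χ : G → ℂ) g)) := by
    have h1 : ∀ z ∈ (Finset.univ : Finset D),
        ∑ y ∈ T, Complex.normSq ((χ : G → ℂ) ((z : G) * y)) =
          ∑ g : G, (if p ∣ orderOf g then 0 else Complex.normSq ((χ : G → ℂ) g)) := by
      intro z _
      rw [hT, Finset.sum_filter]
      refine Finset.sum_congr rfl fun (y : G) _ => ?_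
      by_cases h : p ∣ orderOf y
      · rw [if_neg (not_not.mpr h), if_pos h]
      · rw [if_pos h, if_neg h]
        exact normSq_central_mul χ (hDZ z.2) y
    rw [hI, Finset.sum_image hinj, Finset.sum_product]
    refine (Finset.sum_congr rfl h1).trans ?_
    rw [Finset.sum_const, Finset.card_univ, nsmul_eq_mul, Nat.card_eq_fintype_card]
  have hnn : ∀ g ∈ (Finset.univ : Finset G) \ I, (0 : ℝ) ≤ Complex.normSq ((χ : G → ℂ) g) :=
    fun g _ => Complex.normSq_nonneg _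
  have hsplit : ∑ g ∈ (Finset.univ : Finset G) \ I, Complex.normSq ((χ : G → ℂ) g) +
      ∑ g ∈ I, Complex.normSq ((χ : G → ℂ) g) = ∑ g : G, Complex.normSq ((χ : G → ℂ) g) :=
    Finset.sum_sdiff (Finset.subset_univ I)
  constructor
  · rw [← hsumI, ← hsplit]
    have := Finset.sum_nonneg hnn
    linarith
  · intro heq g hg
    have h0 : ∑ g ∈ (Finset.univ : Finset G) \ I, Complex.normSq ((χ : G → ℂ) g) = 0 := by
      rw [← hsumI] at heq
      linarith
    have hgI : g ∈ (Finset.univ : Finset G) \ I := by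
      rw [Finset.mem_sdiff]
      refine ⟨Finset.mem_univ g, ?_⟩
      intro hmem
      rw [hI, Finset.mem_image] at hmem
      obtain ⟨⟨z, y⟩, hq, hzy⟩ := hmem
      have hy : ¬ p ∣ orderOf y := by
        have := (Finset.mem_product.mp hq).2
        rw [hT] at this
        exact (Finset.mem_filter.mp this).2
      exact hg z z.2 y hy hzy.symm
    have h3 := (Finset.sum_eq_zero_iff_of_nonneg hnn).mp h0 g hgI
    exact Complex.normSq_eq_zero.mp h3


/-- Let D be a central p-subgroup of the finite group G and χ an irreducible character with the exponent of p in χ(1) equal to the exponent of p in the index of D; fix a maximal ideal M of the algebraic integers containing p. Then D is a defect group of the block of χ, and χ g = 0 whenever the p-part of g does not lie in D. -/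
theorem result {G : Type*} [Group G] [Finite G] (p : ℕ) [Fact p.Prime] (M : Ideal Cfsg.AlgInt) (hM : Cfsg.IsPModular p M) (D : Subgroup G) (hD : IsPGroup p D) (hDZ : D ≤ Subgroup.center G) (χ : Cfsg.IrrCharacter G) (hdeg : (Cfsg.charDegree (χ : G → ℂ)).factorization p = D.index.factorization p) : Cfsg.IsDefectGroup p M (Cfsg.blockOf M (χ : G → ℂ)) D ∧ ∀ g x : G, Cfsg.IsPPart p g x → x ∉ D → (χ : G → ℂ) g = 0 := by
  classical
  haveI := Fintype.ofFinite G
  haveI hMp : M.IsPrime := hM.2.1.isPrime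
  have hp : p.Prime := Fact.out
  obtain ⟨k, hk⟩ := IsPGroup.iff_card.mp hD
  obtain ⟨a, ha⟩ : ∃ a : ℕ, a = (Nat.card G).factorization p := ⟨_, rfl⟩
  have hcard : Nat.card D * D.index = Nat.card G := Subgroup.card_mul_index D
  have hidx0 : D.index ≠ 0 := Subgroup.index_ne_zero_of_finite
  have hak : a = k + D.index.factorization p := by
    rw [ha, ← hcard, Nat.factorization_mul Nat.card_pos.ne' hidx0, Finsupp.add_apply, hk,
      hp.factorization_pow, Finsupp.single_eq_same]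
  obtain ⟨n, hn⟩ : ∃ n : ℤ, n = tildeN p χ χ := ⟨_, rfl⟩
  obtain ⟨hnpos, -, -⟩ := tildeN_self_bounds p χ
  rw [← hn] at hnpos
  obtain ⟨N, hN⟩ : ∃ N : ℝ, N = (Nat.card G : ℝ) := ⟨_, rfl⟩
  have hNpos : 0 < N := by rw [hN]; exact Nat.cast_pos.mpr Nat.card_pos
  obtain ⟨R₁, hR₁⟩ : ∃ R₁ : ℝ, R₁ = ∑ g : G,
      if p ∣ orderOf g then 0 else Complex.normSq ((χ : G → ℂ) g) := ⟨_, rfl⟩
  have hG0 : (Nat.card G : ℂ) ≠ 0 := Nat.cast_ne_zero.mpr Nat.card_pos.ne'
  have hall : ∑ g : G, Complex.normSq ((χ : G → ℂ) g) = N := by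
    have h1 := irr_orthonormal χ χ
    rw [if_pos rfl, classInner_def'] at h1
    have h2 : ∑ g : G, (χ : G → ℂ) g * starRingEnd ℂ ((χ : G → ℂ) g) = (Nat.card G : ℂ) := by
      have h3 := congrArg (fun t => (Nat.card G : ℂ) * t) h1
      beta_reduce at h3
      rwa [← mul_assoc, mul_inv_cancel₀ hG0, one_mul, mul_one] at h3
    have h3 : ((∑ g : G, Complex.normSq ((χ : G → ℂ) g) : ℝ) : ℂ) = ((Nat.card G : ℝ) : ℂ) := by
      rw [Complex.ofReal_sum, Complex.ofReal_natCast, ← h2]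
      exact Finset.sum_congr rfl fun g _ => (Complex.mul_conj _).symm
    rw [hN]
    exact Complex.ofReal_injective h3
  have hR₁c : ((R₁ : ℝ) : ℂ) = ∑ g : G, if p ∣ orderOf g then (0 : ℂ) else
      (χ : G → ℂ) g * starRingEnd ℂ ((χ : G → ℂ) g) := by
    rw [hR₁, Complex.ofReal_sum]
    refine Finset.sum_congr rfl fun g _ => ?_
    by_cases h : p ∣ orderOf g
    · rw [if_pos h, if_pos h, Complex.ofReal_zero]
    · rw [if_neg h, if_neg h, Complex.mul_conj]
  have hnR : (n : ℝ) * N = (p : ℝ) ^ a * R₁ := by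
    have h1 := tildeN_spec p χ χ
    rw [classInner_def'] at h1
    have h2 : ∑ g : G, tildeFun p (χ : G → ℂ) g * starRingEnd ℂ ((χ : G → ℂ) g) =
        ((p ^ (Nat.card G).factorization p : ℕ) : ℂ) * ((R₁ : ℝ) : ℂ) := by
      rw [hR₁c, Finset.mul_sum]
      refine Finset.sum_congr rfl fun g _ => ?_
      unfold tildeFun
      by_cases h : p ∣ orderOf g
      · rw [if_pos h, if_pos h, zero_mul, mul_zero]
      · rw [if_neg h, if_neg h, mul_assoc]
    rw [h2] at h1
    have h3 : (((n : ℝ) * N : ℝ) : ℂ) = (((p : ℝ) ^ a * R₁ : ℝ) : ℂ) := by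
      rw [hN, ha, hn, Complex.ofReal_mul, Complex.ofReal_mul, Complex.ofReal_intCast,
        Complex.ofReal_natCast, Complex.ofReal_pow, Complex.ofReal_natCast, ← h1, Nat.cast_pow,
        mul_comm ((Nat.card G : ℂ))⁻¹, mul_assoc, inv_mul_cancel₀ hG0, mul_one]
    exact Complex.ofReal_injective h3
  obtain ⟨hle, heqv⟩ := central_sum_le hp D hD hDZ χ
  rw [← hR₁, hall] at hle heqv
  have hpR : (0 : ℝ) < (p : ℝ) := Nat.cast_pos.mpr hp.pos
  have hDk : (Nat.card D : ℝ) = (p : ℝ) ^ k := by rw [hk, Nat.cast_pow]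
  rw [hDk] at hle heqv
  obtain ⟨m, hm⟩ : ∃ m : ℕ, m = D.index.factorization p := ⟨_, rfl⟩
  rw [← hm] at hak hdeg
  have hpa : (p : ℝ) ^ a = (p : ℝ) ^ k * (p : ℝ) ^ m := by rw [hak, pow_add]
  have hle1 : (n : ℝ) ≤ (p : ℝ) ^ m := by
    have h1 : (n : ℝ) * N ≤ (p : ℝ) ^ m * N := by
      rw [hnR, hpa]
      calc (p : ℝ) ^ k * (p : ℝ) ^ m * R₁ = (p : ℝ) ^ m * ((p : ℝ) ^ k * R₁) := by ring
        _ ≤ (p : ℝ) ^ m * N := mul_le_mul_of_nonneg_left hle (pow_pos hpR m).le
    exact le_of_mul_le_mul_right h1 hNpos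
  have hle2 : n ≤ (p : ℤ) ^ m := by exact_mod_cast hle1
  have hχB : SameBlock M (χ : G → ℂ) (χ : G → ℂ) := sameBlock_refl _
  have hn0 : tildeN p χ χ ≠ 0 := by rw [← hn]; exact hnpos.ne'
  have h0 : blockHeight p (blockOf M (χ : G → ℂ)) (χ : G → ℂ) = 0 := by
    by_contra hpos
    have h1 := tildeN_of_pos_height hM χ χ χ hχB hpos hχB hn0
    rw [hdeg, ← hn] at h1
    have h2 : (p : ℤ) ^ (m + 1) ∣ n := (padicValInt_dvd_iff (m + 1) n).mpr (Or.inr h1)
    have h3 : (p : ℤ) ^ (m + 1) ≤ n := Int.le_of_dvd hnpos h2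
    have h4 : (p : ℤ) ^ m < (p : ℤ) ^ (m + 1) := by
      have hp1 : (1 : ℤ) < (p : ℤ) := by exact_mod_cast hp.one_lt
      exact pow_lt_pow_right₀ hp1 (Nat.lt_succ_self m)
    linarith
  obtain ⟨-, hval⟩ := tildeN_of_height_zero hM χ χ χ hχB h0 hχB
  rw [hdeg, ← hn] at hval
  have hdvd : (p : ℤ) ^ m ∣ n := (padicValInt_dvd_iff m n).mpr (Or.inr hval.ge)
  have hge : (p : ℤ) ^ m ≤ n := Int.le_of_dvd hnpos hdvd
  have hneq : n = (p : ℤ) ^ m := le_antisymm hle2 hge
  have hneqR : (n : ℝ) = (p : ℝ) ^ m := by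
    exact_mod_cast congrArg (Int.cast : ℤ → ℝ) hneq
  have heqR : (p : ℝ) ^ k * R₁ = N := by
    have h1 : (p : ℝ) ^ m * N = (p : ℝ) ^ m * ((p : ℝ) ^ k * R₁) := by
      have e1 : (p : ℝ) ^ m * N = (p : ℝ) ^ a * R₁ := by rw [← hneqR]; exact hnR
      rw [e1, hpa]; ring
    exact (mul_left_cancel₀ (pow_pos hpR m).ne' h1).symm
  have hvan : ∀ g x : G, IsPPart p g x → x ∉ D → (χ : G → ℂ) g = 0 := by
    intro g x hx hxD
    refine heqv heqR g ?_
    intro z hz y hy hgzy
    have h1 : IsPPart p g z := by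
      rw [hgzy]
      exact isPPart_central_mul hp hD hDZ hz hy
    have h2 : x = z := isPPart_unique hp hx h1
    exact hxD (by rw [h2]; exact hz)
  refine ⟨?_, hvan⟩
  obtain ⟨g, hg⟩ := exists_defect_class (M := M) χ
  obtain ⟨Q⟩ := (inferInstance : Nonempty (Sylow p (Subgroup.centralizer ({g} : Set G))))
  obtain ⟨Δ, hΔdef⟩ : ∃ Δ : Subgroup G, Δ = (Q : Subgroup (Subgroup.centralizer ({g} : Set G))).map
      (Subgroup.centralizer ({g} : Set G)).subtype := ⟨_, rfl⟩
  have hΔ : IsDefectGroup p M (blockOf M (χ : G → ℂ)) Δ := ⟨g, hg, Q, hΔdef⟩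
  have hcΔ := card_defect_group hM χ Δ hΔ
  have hv := block_val_eq (p := p) (M := M) χ χ hχB
  have hd := block_defect_eq (M := M) p χ
  rw [h0, add_zero] at hv
  rw [← hv, ← ha, hdeg] at hd
  have hdk : blockDefect p (blockOf M (χ : G → ℂ)) = k := by omega
  have hDΔ : D ≤ Δ := by
    have hDc : D ≤ Subgroup.centralizer ({g} : Set G) := by
      intro z hz
      rw [Subgroup.mem_centralizer_singleton_iff]
      exact (Subgroup.mem_center_iff.mp (hDZ hz) g).symm
    have hdl := defLe_sylow g Q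
    rw [← hΔdef] at hdl
    obtain ⟨x, hx⟩ := hdl D hD hDc
    intro z hz
    obtain ⟨δ, hδ, hδz⟩ := Subgroup.mem_map.mp (hx hz)
    have hδz' : x * δ * x⁻¹ = z := hδz
    have hzc : x * z = z * x := Subgroup.mem_center_iff.mp (hDZ hz) x
    have h1 : x * δ = x * z := by
      rw [hzc, ← hδz']
      group
    have h2 : δ = z := mul_left_cancel h1
    rw [← h2]
    exact hδ
  have hDeq : D = Δ := Subgroup.eq_of_le_of_card_ge hDΔ (by rw [hcΔ, hdk, hk])
  exact ⟨g, hg, Q, hDeq.trans hΔdef⟩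

end Cfsg.Agent.S0969
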