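import Cfsg.Statements.S0936
import Cfsg.Agent.Helper22.BlkThird

set_option autoImplicit false
open Cfsg
open Cfsg.Agent.Helper5

namespace Cfsg.Agent.S0936

/-- Brauer's Third Main Theorem. Let H be a subgroup of the finite group G and b a block of H (relative to a maximal ideal M of the algebraic integers containing the prime p) whose induced block in G is defined. Then b induces the principal block of G if and only if b is the principal block of H. -/
theorem result {G : Type*} [Group G] [Finite G] (p : ℕ) [Fact p.Prime] (M : Ideal Cfsg.AlgInt) (hM : Cfsg.IsPModular p M) (H : Subgroup G) (b : Set (Cfsg.IrrCharacter H)) (hdef : Cfsg.InducedBlockDefined M H b) : Cfsg.IsInducedBlock M H b (Cfsg.principalBlock M G) ↔ b = Cfsg.principalBlock M H := by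
  classical
  haveI := Fintype.ofFinite G
  haveI : Fintype H := Fintype.ofFinite H
  haveI hMp : M.IsPrime := hM.2.1.isPrime
  obtain ⟨Φ, hΦdef⟩ : ∃ Φ : G → ℂ, Φ = fun g => if ¬ p ∣ orderOf g then (1 : ℂ) else 0 :=
    ⟨_, rfl⟩
  have hΦa : ∀ g, Φ g = if ¬ p ∣ orderOf g then (1 : ℂ) else 0 := fun g => by rw [hΦdef]
  have hΦ : IsClassFunction G Φ := by
    intro g h
    rw [hΦa, hΦa]
    have e : orderOf (h * g * h⁻¹) = orderOf g := (MulAut.conj h).orderOf_eq g
    rw [e]
  have hΦR : ∀ g, MemLocalRing M (Φ g) := by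
    intro g
    rw [hΦa]
    split_ifs
    · exact (locRing M).zero_mem
    · exact (locRing M).one_mem
  have hΦH : ∀ h : H, Φ (h : G) = if ¬ p ∣ orderOf h then (1 : ℂ) else 0 := by
    intro h
    rw [hΦa, Subgroup.orderOf_coe]
  constructor
  · rintro ⟨hb, -, hcong⟩
    obtain ⟨ξ₀, rfl⟩ := hb
    have hξ₀ : ξ₀ ∈ blockOf M (ξ₀ : H → ℂ) := sameBlock_refl _
    have hχ : Cfsg.Agent.Helper22.trivIrr G ∈ principalBlock M G :=
      (sameBlock_refl _ : SameBlock M (fun _ : G => (1 : ℂ)) (fun _ => 1))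
    have key := Cfsg.Agent.Helper22.induced_classFun_congr H ξ₀ (Cfsg.Agent.Helper22.trivIrr G)
      (hcong ξ₀ hξ₀ _ hχ) Φ hΦ hΦR
    have hprin : SameBlock M (fun _ : H => (1 : ℂ)) (ξ₀ : H → ℂ) := by
      by_contra hne
      have h0 := Cfsg.Agent.Helper22.sum_pReg_eq_zero hM ξ₀ hne
      rw [Finset.sum_congr rfl fun (h : H) _ => by rw [hΦH h], h0, mul_zero, zero_sub] at key
      have key2 := memLocalIdeal_neg key
      rw [neg_neg] at key2
      rw [Finset.sum_congr rfl fun (g : G) _ => by rw [hΦa g]] at key2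
      exact Cfsg.Agent.Helper22.pReg_sum_not_mem hM key2
    ext ψ
    exact ⟨fun h => sameBlock_trans hprin h, fun h => sameBlock_trans (sameBlock_symm hprin) h⟩
  · intro hb
    obtain ⟨B, hbB, hB, hcong⟩ := hdef
    obtain ⟨χ₀, rfl⟩ := hB
    have hξ : Cfsg.Agent.Helper22.trivIrr H ∈ b := by
      rw [hb]
      exact (sameBlock_refl _ : SameBlock M (fun _ : H => (1 : ℂ)) (fun _ => 1))
    have hχ₀ : χ₀ ∈ blockOf M (χ₀ : G → ℂ) := sameBlock_refl _
    have key := Cfsg.Agent.Helper22.induced_classFun_congr H (Cfsg.Agent.Helper22.trivIrr H) χ₀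
      (hcong _ hξ χ₀ hχ₀) Φ hΦ hΦR
    have hprin : SameBlock M (fun _ : G => (1 : ℂ)) (χ₀ : G → ℂ) := by
      by_contra hne
      have h0 := Cfsg.Agent.Helper22.sum_pReg_eq_zero hM χ₀ hne
      rw [Finset.sum_congr rfl fun (g : G) _ => by rw [hΦa g], h0, mul_zero, sub_zero] at key
      rw [Finset.sum_congr rfl fun (h : H) _ => by rw [hΦH h]] at key
      exact Cfsg.Agent.Helper22.pReg_sum_not_mem hM key
    have hBeq : blockOf M (χ₀ : G → ℂ) = principalBlock M G := by
      ext ψ
      exact ⟨fun h => sameBlock_trans hprin h, fun h => sameBlock_trans (sameBlock_symm hprin) h⟩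
    rw [← hBeq]
    exact ⟨hbB, ⟨χ₀, rfl⟩, hcong⟩

end Cfsg.Agent.S0936
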