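import Cfsg.Statements.S4487
import Cfsg.Agent.Helper22.BlkNil
import Cfsg.Agent.Helper10.PCore


set_option autoImplicit false
open Cfsg

namespace Cfsg.Agent.S4487

/-- Let G be a finite group and p a prime such that G has no non-trivial normal subgroup of order prime to p and C_G(O_p(G)) ≤ O_p(G). Then G has a single p-block: any two irreducible characters lie in the same block relative to every maximal ideal M of the algebraic integers containing p. -/
theorem result {G : Type*} [Group G] [Finite G] (p : ℕ) [Fact p.Prime] (M : Ideal Cfsg.AlgInt) (hM : Cfsg.IsPModular p M) (hcore : Cfsg.pPrimeCore p G = ⊥) (hconstr : Subgroup.centralizer ((Cfsg.pCore p G) : Set G) ≤ Cfsg.pCore p G) (χ ψ : Cfsg.IrrCharacter G) : Cfsg.SameBlock M (χ : G → ℂ) (ψ : G → ℂ) := by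
  classical
  haveI := Fintype.ofFinite G
  haveI hMp : M.IsPrime := hM.2.1.isPrime
  have hp : p.Prime := hM.1
  haveI hn : (Cfsg.pCore p G).Normal := Cfsg.Agent.Helper10.pCore_normal p G
  have hpg : IsPGroup p (Cfsg.pCore p G) := Cfsg.Agent.Helper10.pCore_isPGroup p G
  refine Cfsg.Agent.Helper22.sameBlock_of_regular hM χ ψ ?_
  intro g hreg
  by_cases hg : g ∈ Subgroup.centralizer ((Cfsg.pCore p G) : Set G)
  · have hgQ := hconstr hg
    obtain ⟨k, hk⟩ := hpg ⟨g, hgQ⟩
    have hk' : g ^ (p ^ k) = 1 := by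
      have := congrArg Subtype.val hk
      simpa using this
    have hdvd : orderOf g ∣ p ^ k := orderOf_dvd_of_pow_eq_one hk'
    obtain ⟨j, -, hj⟩ := (Nat.dvd_prime_pow hp).mp hdvd
    have hj0 : j = 0 := by
      by_contra h0
      apply hreg
      rw [hj]
      exact dvd_pow_self p h0
    rw [hj0, pow_zero, orderOf_eq_one_iff] at hj
    rw [hj]
    have h1 : ∀ φ : Cfsg.IrrCharacter G, Cfsg.centralChar (φ : G → ℂ) 1 = 1 := by
      intro φ
      unfold Cfsg.centralChar
      have hc : Subgroup.centralizer ({1} : Set G) = ⊤ := by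
        ext x
        simp [Subgroup.mem_centralizer_iff]
      rw [hc, Subgroup.index_top, Nat.cast_one, one_mul,
        div_self (Cfsg.Agent.Helper5.irr_one_ne_zero φ)]
    rw [h1 χ, h1 ψ, sub_self]
    exact Cfsg.Agent.Helper22.memLocalIdeal_zero hMp.ne_top
  · exact Cfsg.Agent.Helper5.memLocalIdeal_sub
      (Cfsg.Agent.Helper22.centralChar_memLocalIdeal_of_normal hM _ hpg χ g hg)
      (Cfsg.Agent.Helper22.centralChar_memLocalIdeal_of_normal hM _ hpg ψ g hg)

end Cfsg.Agent.S4487
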