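import Cfsg.Statements.S0029
import Cfsg.Agent.Lead.Coprime
import Mathlib

set_option autoImplicit false
open Cfsg
open Cfsg.Agent.S0001 Cfsg.Agent.Lead

namespace Cfsg.Agent.S0029

/-- If `A` acts trivially on `K` modulo a solvable `N ≤ K` of order coprime to `A`, then
`K = N * C_K(A)`. -/
theorem core {G : Type*} [Group G] [Finite G] (A K N : Subgroup G)
    (hNK : N ≤ K) (hcopN : (Nat.card A).Coprime (Nat.card N)) (hsolvN : Group.IsSolvable N)
    (htriv : ∀ a ∈ A, ∀ k ∈ K, a * k * a⁻¹ * k⁻¹ ∈ N) :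
    ∀ k ∈ K, ∃ n ∈ N, ∃ c ∈ K ⊓ Subgroup.centralizer (A : Set G), k = n * c := by
  have hconj : ∀ a ∈ A, ∀ x ∈ N, a * x * a⁻¹ ∈ N := by
    intro a ha x hx
    have h1 := htriv a ha x (hNK hx)
    have h2 := N.mul_mem h1 hx
    have e : a * x * a⁻¹ * x⁻¹ * x = a * x * a⁻¹ := by group
    rwa [e] at h2
  have hAN : A ≤ Subgroup.normalizer (N : Set G) := by
    intro a ha
    rw [Subgroup.mem_normalizer_iff]
    intro x
    constructor
    · exact hconj a ha x
    · intro hx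
      have h1 := hconj a⁻¹ (A.inv_mem ha) _ hx
      have e : a⁻¹ * (a * x * a⁻¹) * a⁻¹⁻¹ = x := by group
      rwa [e] at h1
  have hdisj : A ⊓ N = ⊥ := inf_eq_bot_of_coprime' hcopN
  intro k hk
  obtain ⟨B, hkB, hBcard⟩ : ∃ B : Subgroup G, ConjTo k A B ∧ Nat.card B = Nat.card A :=
    ⟨_, conjTo_map k A, Subgroup.card_map_of_injective (MulAut.conj k).injective⟩
  have hmemB : ∀ a ∈ A, k * a * k⁻¹ ∈ B := by
    intro a ha
    rw [hkB (k * a * k⁻¹)]
    have e : k⁻¹ * (k * a * k⁻¹) * k = a := by group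
    rw [e]; exact ha
  have hBsup : B ⊔ N = A ⊔ N := by
    apply le_antisymm
    · refine sup_le ?_ le_sup_right
      intro x hx
      have hxA : k⁻¹ * x * k ∈ A := (hkB x).1 hx
      have h1 : (k⁻¹ * x * k) * k * (k⁻¹ * x * k)⁻¹ * k⁻¹ ∈ N := htriv _ hxA k hk
      have h3 := (A ⊔ N).mul_mem ((le_sup_right : N ≤ A ⊔ N) (N.inv_mem h1))
        ((le_sup_left : A ≤ A ⊔ N) hxA)
      have e : ((k⁻¹ * x * k) * k * (k⁻¹ * x * k)⁻¹ * k⁻¹)⁻¹ * (k⁻¹ * x * k) = x := by group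
      rwa [e] at h3
    · refine sup_le ?_ le_sup_right
      intro a ha
      have h1 : a * k * a⁻¹ * k⁻¹ ∈ N := htriv a ha k hk
      have h3 := (B ⊔ N).mul_mem ((le_sup_right : N ≤ B ⊔ N) h1)
        ((le_sup_left : B ≤ B ⊔ N) (hmemB a ha))
      have e : a * k * a⁻¹ * k⁻¹ * (k * a * k⁻¹) = a := by group
      rwa [e] at h3
  have hBcop : (Nat.card B).Coprime (Nat.card N) := by rw [hBcard]; exact hcopN
  obtain ⟨n, hn, hnB⟩ := conj_complement A N B hAN hcopN (Or.inr hsolvN) hBsup hBcop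
  have hcK : n⁻¹ * k ∈ K := K.mul_mem (K.inv_mem (hNK hn)) hk
  refine ⟨n, hn, n⁻¹ * k, Subgroup.mem_inf.2 ⟨hcK, ?_⟩, by group⟩
  rw [Subgroup.mem_centralizer_iff]
  intro a ha
  have h1 : n⁻¹ * (k * a * k⁻¹) * n ∈ A := (hnB _).1 (hmemB a ha)
  have h2 : n⁻¹ * (k * a * k⁻¹) * n * a⁻¹ ∈ A := A.mul_mem h1 (A.inv_mem ha)
  have h3 : a * (n⁻¹ * k) * a⁻¹ * (n⁻¹ * k)⁻¹ ∈ N := htriv a ha _ hcK
  have h4 : n⁻¹ * (k * a * k⁻¹) * n * a⁻¹ ∈ N := by
    have h := N.inv_mem h3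
    have e : (a * (n⁻¹ * k) * a⁻¹ * (n⁻¹ * k)⁻¹)⁻¹ = n⁻¹ * (k * a * k⁻¹) * n * a⁻¹ := by group
    rwa [e] at h
  have h5 : n⁻¹ * (k * a * k⁻¹) * n * a⁻¹ ∈ A ⊓ N := Subgroup.mem_inf.2 ⟨h2, h4⟩
  rw [hdisj, Subgroup.mem_bot] at h5
  have e : n⁻¹ * k * a = (n⁻¹ * (k * a * k⁻¹) * n * a⁻¹) * (a * (n⁻¹ * k)) := by group
  rw [e, h5, one_mul]

/-- An action that is trivial on the Frattini quotient and coprime on the Frattini subgroup is trivial: if A normalises K, the orders of A and of the Frattini subgroup of K are coprime, and every commutator of an element of A with an element of K lies in the Frattini subgroup of K, then A centralises K. -/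
theorem result {G : Type*} [Group G] [Finite G] (A K : Subgroup G)
    (hAK : A ≤ Subgroup.normalizer (K : Set G))
    (hcop : (Nat.card A).Coprime (Nat.card (frattini K)))
    (htriv : ∀ a ∈ A, ∀ k ∈ K, a * k * a⁻¹ * k⁻¹ ∈ (frattini K).map K.subtype) :
    A ≤ Subgroup.centralizer (K : Set G) := by
  have hsolvN : Group.IsSolvable ((frattini K).map K.subtype) := by
    haveI : Group.IsNilpotent (frattini K) := frattini_nilpotent
    exact Group.isSolvable_of_surjective (f := (K.subtype).subgroupMap (frattini K))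
      (MonoidHom.subgroupMap_surjective _ _)
  have hNK : (frattini K).map K.subtype ≤ K := by
    intro x hx
    obtain ⟨y, -, rfl⟩ := Subgroup.mem_map.1 hx
    exact y.2
  have hcopN : (Nat.card A).Coprime (Nat.card ((frattini K).map K.subtype)) := by
    rw [Subgroup.card_subtype]; exact hcop
  have key := core A K _ hNK hcopN hsolvN htriv
  have hC : (K ⊓ Subgroup.centralizer (A : Set G)).subgroupOf K = ⊤ := by
    apply frattini_nongenerating
    rw [eq_top_iff]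
    intro k _
    obtain ⟨n, hn, c, hc, hkc⟩ := key k k.2
    obtain ⟨y, hy, hyn⟩ := Subgroup.mem_map.1 hn
    have hcK : c ∈ K := (Subgroup.mem_inf.1 hc).1
    have hk' : (k : G) = ((y * ⟨c, hcK⟩ : K) : G) := hkc.trans (congrArg (· * c) hyn.symm)
    have hk : k = y * ⟨c, hcK⟩ := Subtype.ext hk'
    rw [hk]
    exact Subgroup.mul_mem _ ((le_sup_right : frattini K ≤ _ ⊔ frattini K) hy)
      ((le_sup_left : _ ≤ _ ⊔ frattini K) (Subgroup.mem_subgroupOf.2 hc))
  intro a ha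
  rw [Subgroup.mem_centralizer_iff]
  intro k hk
  have h1 : (⟨k, hk⟩ : K) ∈ (K ⊓ Subgroup.centralizer (A : Set G)).subgroupOf K := by
    rw [hC]; exact Subgroup.mem_top _
  have h2 : k ∈ Subgroup.centralizer (A : Set G) :=
    (Subgroup.mem_inf.1 (Subgroup.mem_subgroupOf.1 h1)).2
  exact (Subgroup.mem_centralizer_iff.1 h2 a ha).symm

end Cfsg.Agent.S0029
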