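import Mathlib
import Cfsg.Statements.S0660

set_option autoImplicit false
open Cfsg

namespace Cfsg.Agent.S0660

theorem maschke {V : Type*} [CommGroup V] [Finite V] {A : Type*} [Group A] [Finite A]
    [MulDistribMulAction A V]
    (hcop : (Nat.card A).Coprime (Nat.card V)) (U W : Subgroup V)
    (hUinv : ∀ (a : A) (u : V), u ∈ U → a • u ∈ U) (hUW : U ⊓ W = ⊥) (hUWV : U ⊔ W = ⊤) :
    ∃ W' : Subgroup V, (∀ (a : A) (w : V), w ∈ W' → a • w ∈ W') ∧ U ⊓ W' = ⊥ ∧ U ⊔ W' = ⊤ := by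
  classical
  haveI : Fintype A := Fintype.ofFinite A
  obtain ⟨π, hπU, hπid⟩ : ∃ π : V →* V, (∀ v, π v ∈ U) ∧ ∀ u ∈ U, π u = u := by
    have he : ∀ x : U × W, (MonoidHom.coprod U.subtype W.subtype) x = (x.1 : V) * (x.2 : V) :=
      fun x => rfl
    have hinj : Function.Injective (MonoidHom.coprod U.subtype W.subtype) := by
      rw [injective_iff_map_eq_one]
      rintro ⟨u, w⟩ h
      rw [he] at h
      have h1 : (u : V) = (w : V)⁻¹ := eq_inv_of_mul_eq_one_left h
      have h2 : (u : V) ∈ U ⊓ W := ⟨u.2, h1 ▸ W.inv_mem w.2⟩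
      rw [hUW, Subgroup.mem_bot] at h2
      have h3 : (w : V) = 1 := by
        have h' : (u : V) * (w : V) = 1 := h
        rw [h2, one_mul] at h'; exact h'
      exact Prod.ext (Subtype.ext h2) (Subtype.ext h3)
    have hsurj : Function.Surjective (MonoidHom.coprod U.subtype W.subtype) := by
      intro v
      have hv : v ∈ U ⊔ W := hUWV ▸ Subgroup.mem_top v
      obtain ⟨u, hu, w, hw, rfl⟩ := Subgroup.mem_sup.mp hv
      exact ⟨(⟨u, hu⟩, ⟨w, hw⟩), rfl⟩
    let E : U × W ≃* V := MulEquiv.ofBijective (MonoidHom.coprod U.subtype W.subtype) ⟨hinj, hsurj⟩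
    refine ⟨U.subtype.comp ((MonoidHom.fst U W).comp E.symm.toMonoidHom), fun v => ?_,
      fun u hu => ?_⟩
    · exact (E.symm v).1.2
    · have : E.symm u = (⟨u, hu⟩, 1) := by
        rw [MulEquiv.symm_apply_eq]
        show u = (MonoidHom.coprod U.subtype W.subtype) (⟨u, hu⟩, 1)
        rw [he]; simp
      show ((E.symm u).1 : V) = u
      rw [this]
  have hsm : ∀ (b : A) (s : Finset A) (f : A → V), b • ∏ a ∈ s, f a = ∏ a ∈ s, b • f a :=
    fun b s f => map_prod (MulDistribMulAction.toMonoidHom V b) f s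
  let T : A → (V →* V) := fun a =>
    (MulDistribMulAction.toMonoidHom V a⁻¹).comp (π.comp (MulDistribMulAction.toMonoidHom V a))
  have hθ : ∀ v, (∏ a : A, T a) v = ∏ a : A, a⁻¹ • π (a • v) := by
    intro v
    rw [MonoidHom.finsetProd_apply]
    rfl
  have hθU : ∀ v, (∏ a : A, T a) v ∈ U := by
    intro v
    rw [hθ]
    exact Subgroup.prod_mem U (fun a _ => hUinv a⁻¹ _ (hπU _))
  have hθu : ∀ u ∈ U, (∏ a : A, T a) u = u ^ Nat.card A := by
    intro u hu
    rw [hθ, Finset.prod_congr rfl (fun a _ => by rw [hπid _ (hUinv a u hu), inv_smul_smul]),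
      Finset.prod_const, Finset.card_univ, Nat.card_eq_fintype_card]
  have hθeq : ∀ (b : A) (v : V), (∏ a : A, T a) (b • v) = b • (∏ a : A, T a) v := by
    intro b v
    rw [hθ, hθ, hsm]
    apply Fintype.prod_equiv (Equiv.mulRight b)
    intro a
    simp only [Equiv.coe_mulRight, mul_inv_rev, mul_smul, smul_inv_smul]
  refine ⟨(∏ a : A, T a).ker, ?_, ?_, ?_⟩
  · intro a w hw
    rw [MonoidHom.mem_ker] at hw ⊢
    rw [hθeq, hw, smul_one]
  · rw [eq_bot_iff]
    rintro u ⟨hu, hk⟩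
    rw [Subgroup.mem_bot]
    have hk' : (∏ a : A, T a) u = 1 := hk
    rw [hθu u hu] at hk'
    have h1 : orderOf u ∣ Nat.card A := orderOf_dvd_of_pow_eq_one hk'
    have h2 : orderOf u ∣ Nat.card V := orderOf_dvd_natCard u
    have h3 : orderOf u = 1 := Nat.eq_one_of_dvd_coprimes hcop h1 h2
    exact orderOf_eq_one_iff.mp h3
  · rw [eq_top_iff]
    intro v _
    have hcopU : (Nat.card U).Coprime (Nat.card A) :=
      Nat.Coprime.coprime_dvd_left (Subgroup.card_subgroup_dvd_card U) hcop.symm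
    obtain ⟨u₀, hu₀⟩ := (powCoprime hcopU).surjective ⟨(∏ a : A, T a) v, hθU v⟩
    have hu₀' : (u₀ : V) ^ Nat.card A = (∏ a : A, T a) v := by
      have h : ((u₀ ^ Nat.card A : U) : V) = (∏ a : A, T a) v := congrArg Subtype.val hu₀
      rwa [Subgroup.coe_pow] at h
    rw [Subgroup.mem_sup]
    refine ⟨u₀, u₀.2, (u₀ : V)⁻¹ * v, ?_, by simp⟩
    rw [MonoidHom.mem_ker, map_mul, map_inv, hθu _ u₀.2, hu₀', inv_mul_cancel]

/-- Under a coprime action on an abelian group, an invariant subgroup that is complemented admits an invariant complement. -/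
theorem result {G : Type*} [Group G] [Finite G] (V A U : Subgroup G) (hVab : IsMulCommutative V) (hAV : A ≤ Subgroup.normalizer (V : Set G)) (hcop : (Nat.card A).Coprime (Nat.card V)) (hUV : U ≤ V) (hAU : A ≤ Subgroup.normalizer (U : Set G)) (W : Subgroup G) (hWV : W ≤ V) (hUW : U ⊓ W = ⊥) (hUWV : U ⊔ W = V) : ∃ W' : Subgroup G, W' ≤ V ∧ A ≤ Subgroup.normalizer (W' : Set G) ∧ U ⊓ W' = ⊥ ∧ U ⊔ W' = V := by
  letI : CommGroup V := { (inferInstance : Group V) with mul_comm := fun a b => mul_comm' a b }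
  letI : MulDistribMulAction A V := MulDistribMulAction.compHom V (Subgroup.inclusion hAV)
  have hsmul : ∀ (a : A) (v : V), ((a • v : V) : G) = (a : G) * (v : G) * (a : G)⁻¹ :=
    fun a v => rfl
  have hU' : ∀ (a : A) (u : V), u ∈ U.subgroupOf V → a • u ∈ U.subgroupOf V := by
    intro a u hu
    rw [Subgroup.mem_subgroupOf] at hu ⊢
    rw [hsmul]
    exact (Subgroup.le_normalizer_iff.mp hAU) a a.2 u hu
  have hinf : U.subgroupOf V ⊓ W.subgroupOf V = ⊥ := by
    rw [eq_bot_iff]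
    rintro x ⟨hx1, hx2⟩
    rw [Subgroup.mem_bot]
    have : (x : G) ∈ U ⊓ W := ⟨hx1, hx2⟩
    rw [hUW, Subgroup.mem_bot] at this
    exact Subtype.ext this
  have hsup : U.subgroupOf V ⊔ W.subgroupOf V = ⊤ := by
    apply Subgroup.map_injective V.subtype_injective
    rw [Subgroup.map_sup, Subgroup.map_subgroupOf_eq_of_le hUV,
      Subgroup.map_subgroupOf_eq_of_le hWV, hUWV, ← MonoidHom.range_eq_map,
      Subgroup.range_subtype]
  obtain ⟨W'', hW''inv, hW''inf, hW''sup⟩ :=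
    maschke hcop (U.subgroupOf V) (W.subgroupOf V) hU' hinf hsup
  refine ⟨W''.map V.subtype, Subgroup.map_subtype_le W'', ?_, ?_, ?_⟩
  · rw [Subgroup.le_normalizer_iff]
    intro a ha k hk
    obtain ⟨y, hy, rfl⟩ := hk
    exact ⟨(⟨a, ha⟩ : A) • y, hW''inv ⟨a, ha⟩ y hy, hsmul ⟨a, ha⟩ y⟩
  · rw [eq_bot_iff]
    rintro x ⟨hx1, ⟨y, hy, rfl⟩⟩
    rw [Subgroup.mem_bot]
    have : y ∈ U.subgroupOf V ⊓ W'' := ⟨hx1, hy⟩
    rw [hW''inf, Subgroup.mem_bot] at this
    rw [this]; rfl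
  · have := congrArg (Subgroup.map V.subtype) hW''sup
    rw [Subgroup.map_sup, Subgroup.map_subgroupOf_eq_of_le hUV, ← MonoidHom.range_eq_map,
      Subgroup.range_subtype] at this
    exact this

end Cfsg.Agent.S0660
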