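import Cfsg.Statements.S0074
import Mathlib

set_option autoImplicit false
open Cfsg
open scoped commutatorElement

namespace Cfsg.Agent.S0074

theorem le_centralizer_of_comm {G : Type*} [Group G] {p : ℕ} (P : Sylow p G)
    (hP : IsMulCommutative P) : (P : Subgroup G) ≤ Subgroup.centralizer (P : Set G) := by
  intro y hy
  rw [Subgroup.mem_centralizer_iff]
  intro h hh
  exact congrArg Subtype.val (hP.is_comm.comm ⟨h, hh⟩ ⟨y, hy⟩)

theorem focal_le {G : Type*} [Group G] [Finite G] {p : ℕ} [Fact p.Prime] (P : Sylow p G)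
    (hP : IsMulCommutative P) :
    (P : Subgroup G).focalSubgroup ≤
      ⁅Subgroup.normalizer (P : Set G), Subgroup.normalizer (P : Set G)⁆ := by
  have hPC := le_centralizer_of_comm P hP
  rw [Subgroup.focalSubgroup_def, Subgroup.closure_le]
  rintro g ⟨hg, x, hx, u, rfl⟩
  have hx' : x⁻¹ ∈ (P : Subgroup G) := Subgroup.inv_mem _ hx
  have h1 : u⁻¹⁻¹ * x⁻¹ * u⁻¹ ∈ (P : Subgroup G) := by
    have : u⁻¹⁻¹ * x⁻¹ * u⁻¹ = x⁻¹ * ⁅x, u⁆ := by rw [commutatorElement_def]; group
    rw [this]; exact Subgroup.mul_mem _ hx' hg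
  obtain ⟨n, hn, hnx⟩ :=
    Sylow.conj_eq_normalizer_conj_of_mem_centralizer P x⁻¹ u⁻¹ (hPC hx') (hPC h1)
  have e : ⁅x, u⁆ = ⁅x, n⁻¹⁆ := by
    have e1 : ⁅x, u⁆ = x * (u⁻¹⁻¹ * x⁻¹ * u⁻¹) := by rw [commutatorElement_def]; group
    rw [e1, hnx, commutatorElement_def]; group
  rw [SetLike.mem_coe, e]
  exact Subgroup.commutator_mem_commutator (Subgroup.le_normalizer hx) (Subgroup.inv_mem _ hn)

/-- For an abelian Sylow p-subgroup P, the intersection of P with the derived subgroup of G equals its intersection with the derived subgroup of the normalizer of P. -/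
theorem result {G : Type*} [Group G] [Finite G] {p : ℕ} [Fact p.Prime] (P : Sylow p G) (hP : IsMulCommutative P) : commutator G ⊓ (P : Subgroup G) = ⁅Subgroup.normalizer (P : Set G), Subgroup.normalizer (P : Set G)⁆ ⊓ (P : Subgroup G) := by
  apply le_antisymm
  · rw [Subgroup.commutator_inf_eq_focalSubgroup P]
    exact le_inf (focal_le P hP) (Subgroup.focalSubgroup_le _)
  · exact inf_le_inf_right _ (Subgroup.commutator_mono le_top le_top)

end Cfsg.Agent.S0074
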