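import Mathlib
import Cfsg.Statements.S1241

set_option autoImplicit false
open Cfsg

namespace Cfsg.Agent.S1241

/-- transfer of an element of `H` whose conjugate-powers landing in `H` are controlled mod `ker ϕ`. -/
theorem transfer_eq_pow_of_key {G A : Type*} [Group G] [CommGroup A] (H : Subgroup G) [H.FiniteIndex]
    (ϕ : H →* A) (g : G) (hg : g ∈ H)
    (key : ∀ (k : ℕ) (g₀ : G) (hk : g₀⁻¹ * g ^ k * g₀ ∈ H), ϕ ⟨g₀⁻¹ * g ^ k * g₀, hk⟩ = ϕ ⟨g, hg⟩ ^ k) :
    MonoidHom.transfer ϕ g = ϕ ⟨g, hg⟩ ^ H.index := by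
  classical
  have : Fintype (Quotient (MulAction.orbitRel (Subgroup.zpowers g) (G ⧸ H))) := Fintype.ofFinite _
  rw [Subgroup.index_eq_sum_minimalPeriod H g, ← Finset.prod_pow_eq_pow_sum,
    MonoidHom.transfer_eq_prod_quotient_orbitRel_zpowers_quot]
  apply Finset.prod_congr rfl
  intro q _
  exact key _ _ _

open scoped IsMulCommutative in
/-- Let G be a finite group, p a prime, H a subgroup of index prime to p, K a subgroup of H normal in H with H/K commutative, and g ∈ H ∖ K an element of p-power order such that for all integers m and all a ∈ G with a g^m a⁻¹ ∈ H one has a g^m a⁻¹ ∈ g^m K. Then g ∉ G'. -/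
theorem result {G : Type*} [Group G] [Finite G] {p : ℕ} [Fact p.Prime] (H K : Subgroup G) (hHK : K ≤ H) (hKn : (K.subgroupOf H).Normal) (hab : ∀ x ∈ H, ∀ y ∈ H, x * y * x⁻¹ * y⁻¹ ∈ K) (hidx : Nat.Coprime p H.index) (g : G) (hgH : g ∈ H) (hgK : g ∉ K) (hgp : ∃ k : ℕ, orderOf g = p ^ k) (hctrl : ∀ (m : ℤ) (a : G), a * g ^ m * a⁻¹ ∈ H → (a * g ^ m * a⁻¹) * (g ^ m)⁻¹ ∈ K) : g ∉ commutator G := by
  classical
  have := hKn
  have hcomm : IsMulCommutative (H ⧸ K.subgroupOf H) := by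
    rw [Subgroup.Normal.quotient_commutative_iff_commutator_le, commutator_def, Subgroup.commutator_le]
    intro x _ y _
    rw [Subgroup.mem_subgroupOf]
    simpa [commutatorElement_def] using hab x x.2 y y.2
  let ϕ : H →* H ⧸ K.subgroupOf H := QuotientGroup.mk' (K.subgroupOf H)
  have key : ∀ (k : ℕ) (g₀ : G) (hk : g₀⁻¹ * g ^ k * g₀ ∈ H),
      ϕ ⟨g₀⁻¹ * g ^ k * g₀, hk⟩ = ϕ ⟨g, hgH⟩ ^ k := by
    intro k g₀ hk
    rw [← map_pow]
    apply QuotientGroup.eq_iff_div_mem.mpr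
    rw [Subgroup.mem_subgroupOf]
    have h1 := hctrl (k : ℤ) g₀⁻¹ (by simpa using hk)
    simp only [zpow_natCast, inv_inv] at h1
    simpa [div_eq_mul_inv] using h1
  intro hg
  have hV : MonoidHom.transfer ϕ g = 1 :=
    Abelianization.commutator_subset_ker (MonoidHom.transfer ϕ) hg
  rw [transfer_eq_pow_of_key H ϕ g hgH key] at hV
  obtain ⟨k, hk⟩ := hgp
  have hk' : ϕ ⟨g, hgH⟩ ^ (p ^ k) = 1 := by
    rw [← map_pow]
    have : (⟨g, hgH⟩ : H) ^ (p ^ k) = 1 := by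
      apply Subtype.ext
      simp [← hk, pow_orderOf_eq_one]
    rw [this, map_one]
  have hcop : Nat.Coprime (p ^ k) H.index := Nat.Coprime.pow_left k hidx
  have h1 : ϕ ⟨g, hgH⟩ = 1 := by
    have := pow_gcd_eq_one.mpr ⟨hk', hV⟩
    rwa [hcop.gcd_eq_one, pow_one] at this
  have h2 : (⟨g, hgH⟩ : H) ∈ K.subgroupOf H := by
    have := (QuotientGroup.eq_one_iff (N := K.subgroupOf H) (⟨g, hgH⟩ : H)).mp h1
    exact this
  exact hgK (Subgroup.mem_subgroupOf.mp h2)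

end Cfsg.Agent.S1241
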