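import Mathlib
import Cfsg.Statements.S1242
import Cfsg.Agent.S1241

set_option autoImplicit false
open Cfsg

namespace Cfsg.Agent.S1242

/-- splitting an element of a finite group into a `p`-part and a `p'`-part, both powers of it -/
theorem exists_parts {G : Type*} [Group G] [Finite G] (p : ℕ) [hp : Fact p.Prime] (z : G) :
    ∃ (a b : ℤ) (e m : ℕ), p.Coprime m ∧ z = (z ^ m) ^ a * (z ^ (p ^ e)) ^ b ∧ z ^ (p ^ e * m) = 1 := by
  obtain ⟨e, m, hm, hn⟩ := Nat.exists_eq_pow_mul_and_not_dvd (orderOf_pos z).ne' p hp.out.ne_one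
  have hcop : Nat.Coprime p m := (Nat.Prime.coprime_iff_not_dvd hp.out).mpr hm
  have hcop' : Nat.Coprime m (p ^ e) := (Nat.Coprime.pow_left e hcop).symm
  have hb := Int.gcd_eq_gcd_ab (m : ℤ) ((p ^ e : ℕ) : ℤ)
  rw [Int.gcd_natCast_natCast, hcop'.gcd_eq_one] at hb
  refine ⟨Int.gcdA m (p ^ e : ℕ), Int.gcdB m (p ^ e : ℕ), e, m, hcop, ?_, ?_⟩
  · rw [← zpow_natCast z m, ← zpow_natCast z (p ^ e), ← zpow_mul, ← zpow_mul, ← zpow_add, ← hb]
    simp
  · rw [← hn, pow_orderOf_eq_one]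

theorem zpow_pow_eq_one {G : Type*} [Group G] (z : G) (a b : ℕ) (j : ℤ) (h : z ^ (a * b) = 1) :
    ((z ^ a) ^ j) ^ b = 1 := by
  rw [← zpow_natCast, ← zpow_mul, mul_comm, zpow_mul, zpow_natCast, ← pow_mul, h, one_zpow]

open scoped IsMulCommutative in
/-- Let G be a finite group, p a prime and H a subgroup of index prime to p such that any two elements of H of p-power order that are conjugate in G are conjugate in H. Then (O^p(G)·G') ∩ H = O^p(H)·H', where O^p denotes the subgroup generated by the elements of order prime to p. -/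
theorem result {G : Type*} [Group G] [Finite G] {p : ℕ} [Fact p.Prime] (H : Subgroup G) (hidx : Nat.Coprime p H.index) (hfus : ∀ g ∈ H, (∃ k : ℕ, orderOf g = p ^ k) → ∀ a : G, a * g * a⁻¹ ∈ H → ∃ h ∈ H, h * g * h⁻¹ = a * g * a⁻¹) : (Cfsg.pResidual p G ⊔ commutator G) ⊓ H = (Cfsg.pResidual p ↥H ⊔ commutator ↥H).map H.subtype := by
  classical
  have hp : p.Prime := Fact.out
  set M : Subgroup H := Cfsg.pResidual p ↥H ⊔ commutator ↥H with hM
  have hMn : M.Normal := Subgroup.Normal.of_commutator_le _ le_sup_right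
  have hcomm : IsMulCommutative (H ⧸ M) :=
    Subgroup.Normal.quotient_commutative_iff_commutator_le.mpr le_sup_right
  let ϕ : H →* H ⧸ M := QuotientGroup.mk' M
  -- elements of `H` of order prime to `p` die
  have hpr : ∀ w : H, ∀ m : ℕ, p.Coprime m → w ^ m = 1 → ϕ w = 1 := by
    intro w m hm hw
    apply (QuotientGroup.eq_one_iff w).mpr
    apply Subgroup.mem_sup_left
    apply Subgroup.subset_closure
    show Nat.Coprime (orderOf w) p
    exact (Nat.Coprime.coprime_dvd_left (orderOf_dvd_of_pow_eq_one hw) hm.symm)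
  -- the quotient is a p-group
  have hpg : ∀ q : H ⧸ M, ∃ e : ℕ, q ^ (p ^ e) = 1 := by
    intro q
    obtain ⟨w, rfl⟩ := QuotientGroup.mk'_surjective M q
    obtain ⟨e, m, hm, hn⟩ := Nat.exists_eq_pow_mul_and_not_dvd (orderOf_pos w).ne' p hp.ne_one
    refine ⟨e, ?_⟩
    have : ϕ (w ^ (p ^ e)) = 1 := by
      apply hpr _ m ((Nat.Prime.coprime_iff_not_dvd hp).mpr hm)
      rw [← pow_mul, ← hn, pow_orderOf_eq_one]
    rw [map_pow] at this
    exact this
  -- conjugation in `G` is invisible in the quotient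
  have hconj : ∀ (z : G) (hz : z ∈ H) (a : G) (hy : a * z * a⁻¹ ∈ H),
      ϕ ⟨a * z * a⁻¹, hy⟩ = ϕ ⟨z, hz⟩ := by
    intro z hz a hy
    obtain ⟨i, j, e, m, hm, hsplit, hone⟩ := exists_parts p z
    have hu : (z ^ m) ^ i ∈ H := H.zpow_mem (H.pow_mem hz m) i
    have hw : (z ^ (p ^ e)) ^ j ∈ H := H.zpow_mem (H.pow_mem hz _) j
    have hu' : a * (z ^ m) ^ i * a⁻¹ ∈ H := by
      have : a * (z ^ m) ^ i * a⁻¹ = ((a * z * a⁻¹) ^ m) ^ i := by
        rw [conj_pow, conj_zpow]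
      rw [this]; exact H.zpow_mem (H.pow_mem hy m) i
    have hw' : a * (z ^ (p ^ e)) ^ j * a⁻¹ ∈ H := by
      have : a * (z ^ (p ^ e)) ^ j * a⁻¹ = ((a * z * a⁻¹) ^ (p ^ e)) ^ j := by
        rw [conj_pow, conj_zpow]
      rw [this]; exact H.zpow_mem (H.pow_mem hy _) j
    have e1 : (⟨z, hz⟩ : H) = ⟨(z ^ m) ^ i, hu⟩ * ⟨(z ^ (p ^ e)) ^ j, hw⟩ := Subtype.ext hsplit
    have e2 : (⟨a * z * a⁻¹, hy⟩ : H) = ⟨a * (z ^ m) ^ i * a⁻¹, hu'⟩ * ⟨a * (z ^ (p ^ e)) ^ j * a⁻¹, hw'⟩ := by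
      apply Subtype.ext
      simp only [Subgroup.coe_mul]
      conv_lhs => rw [hsplit]
      group
    rw [e1, e2, map_mul, map_mul]
    have h1 : ϕ ⟨(z ^ (p ^ e)) ^ j, hw⟩ = 1 := by
      apply hpr _ m hm
      apply Subtype.ext
      simp only [Subgroup.coe_pow, Subgroup.coe_one]
      exact zpow_pow_eq_one z _ _ j hone
    have h2 : ϕ ⟨a * (z ^ (p ^ e)) ^ j * a⁻¹, hw'⟩ = 1 := by
      apply hpr _ m hm
      apply Subtype.ext
      simp only [Subgroup.coe_pow, Subgroup.coe_one]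
      rw [conj_pow, zpow_pow_eq_one z _ _ j hone]
      simp
    rw [h1, h2, mul_one, mul_one]
    -- the p-parts are conjugate in H
    have hup : ∃ k : ℕ, orderOf ((z ^ m) ^ i) = p ^ k := by
      have : ((z ^ m) ^ i) ^ (p ^ e) = 1 := zpow_pow_eq_one z _ _ i (by rw [mul_comm]; exact hone)
      exact (Nat.dvd_prime_pow hp).mp (orderOf_dvd_of_pow_eq_one this) |>.imp fun k hk => hk.2
    obtain ⟨h, hh, hh'⟩ := hfus _ hu hup a hu'
    have e3 : (⟨a * (z ^ m) ^ i * a⁻¹, hu'⟩ : H) = ⟨h, hh⟩ * ⟨(z ^ m) ^ i, hu⟩ * ⟨h, hh⟩⁻¹ :=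
      Subtype.ext hh'.symm
    rw [e3, map_mul, map_mul, map_inv, mul_comm (ϕ ⟨h, hh⟩), mul_assoc, mul_inv_cancel, mul_one]
  have key : ∀ (x : G) (hx : x ∈ H) (k : ℕ) (g₀ : G) (hk : g₀⁻¹ * x ^ k * g₀ ∈ H),
      ϕ ⟨g₀⁻¹ * x ^ k * g₀, hk⟩ = ϕ ⟨x, hx⟩ ^ k := by
    intro x hx k g₀ hk
    have := hconj (x ^ k) (H.pow_mem hx k) g₀⁻¹ (by simpa using hk)
    rw [← map_pow]
    convert this using 2
    · simp
    · rfl
  have hVH : ∀ (x : G) (hx : x ∈ H), MonoidHom.transfer ϕ x = ϕ ⟨x, hx⟩ ^ H.index := fun x hx =>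
    Cfsg.Agent.S1241.transfer_eq_pow_of_key H ϕ x hx (key x hx)
  have hker : Cfsg.pResidual p G ⊔ commutator G ≤ (MonoidHom.transfer ϕ).ker := by
    apply sup_le
    · unfold Cfsg.pResidual
      rw [Subgroup.closure_le]
      intro g hg
      have hg' : Nat.Coprime (orderOf g) p := hg
      show MonoidHom.transfer ϕ g = 1
      obtain ⟨e, he⟩ := hpg (MonoidHom.transfer ϕ g)
      have h1 : MonoidHom.transfer ϕ g ^ orderOf g = 1 := by
        rw [← map_pow, pow_orderOf_eq_one, map_one]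
      have := pow_gcd_eq_one.mpr ⟨h1, he⟩
      rwa [(Nat.Coprime.pow_right e hg').gcd_eq_one, pow_one] at this
    · exact Abelianization.commutator_subset_ker _
  apply le_antisymm
  · rintro x ⟨hx1, hx2⟩
    have hx2' : x ∈ H := hx2
    have hV : MonoidHom.transfer ϕ x = 1 := hker hx1
    rw [hVH x hx2'] at hV
    obtain ⟨e, he⟩ := hpg (ϕ ⟨x, hx2'⟩)
    have h1 : ϕ ⟨x, hx2'⟩ = 1 := by
      have := pow_gcd_eq_one.mpr ⟨he, hV⟩
      rwa [(Nat.Coprime.pow_left e hidx).gcd_eq_one, pow_one] at this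
    have h2 : (⟨x, hx2'⟩ : H) ∈ M := (QuotientGroup.eq_one_iff (N := M) (⟨x, hx2'⟩ : H)).mp h1
    exact ⟨⟨x, hx2'⟩, h2, rfl⟩
  · rw [Subgroup.map_le_iff_le_comap]
    apply sup_le
    · unfold Cfsg.pResidual
      rw [Subgroup.closure_le]
      intro w hw
      have hw' : Nat.Coprime (orderOf w) p := hw
      refine ⟨?_, w.2⟩
      apply Subgroup.mem_sup_left
      apply Subgroup.subset_closure
      show Nat.Coprime (orderOf (w : G)) p
      rwa [Subgroup.orderOf_coe]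
    · intro w hw
      refine ⟨?_, w.2⟩
      apply Subgroup.mem_sup_right
      have : (commutator H).map H.subtype ≤ commutator G := by
        rw [Subgroup.map_subtype_commutator, commutator_def]
        exact Subgroup.commutator_mono le_top le_top
      exact this ⟨w, hw, rfl⟩

end Cfsg.Agent.S1242
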