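import Cfsg.Statements.S0075
import Cfsg.Agent.S0074
import Cfsg.Agent.S1242
import Cfsg.Agent.Helper6.PResidual
import Mathlib

set_option autoImplicit false
open Cfsg
open scoped commutatorElement

namespace Cfsg.Agent.S0075

/-- a `p`-element normalizing a Sylow `p`-subgroup lies in it -/
theorem mem_sylow_of_normalizer_of_pow {G : Type*} [Group G] {p : ℕ} [Fact p.Prime]
    (T : Sylow p G) (u : G) (hu : u ∈ Subgroup.normalizer (T : Set G)) (e : ℕ)
    (hue : u ^ (p ^ e) = 1) : u ∈ (T : Subgroup G) := by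
  have h1 : IsPGroup p (Subgroup.zpowers u) := by
    rintro ⟨g, hg⟩
    obtain ⟨i, rfl⟩ := Subgroup.mem_zpowers_iff.mp hg
    refine ⟨e, Subtype.ext ?_⟩
    show (u ^ i) ^ (p ^ e) = 1
    rw [← zpow_natCast, ← zpow_mul, mul_comm, zpow_mul, zpow_natCast, hue, one_zpow]
  have h2 : IsPGroup p (Subgroup.zpowers u ⊔ (T : Subgroup G) : Subgroup G) :=
    IsPGroup.to_sup_of_normal_right' h1 T.isPGroup' (Subgroup.zpowers_le.mpr hu)
  have h3 := T.is_maximal' h2 le_sup_right
  rw [← h3]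
  exact (le_sup_left : Subgroup.zpowers u ≤ _) (Subgroup.mem_zpowers u)

theorem focal_le' {G : Type*} [Group G] [Finite G] {p : ℕ} [Fact p.Prime] (T : Sylow p G)
    (hT : IsMulCommutative T) :
    (T : Subgroup G).focalSubgroup ≤ ⁅(T : Subgroup G), Subgroup.normalizer (T : Set G)⁆ := by
  have hPC := Cfsg.Agent.S0074.le_centralizer_of_comm T hT
  rw [Subgroup.focalSubgroup_def, Subgroup.closure_le]
  rintro g ⟨hg, x, hx, u, rfl⟩
  have hx' : x⁻¹ ∈ (T : Subgroup G) := Subgroup.inv_mem _ hx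
  have h1 : u⁻¹⁻¹ * x⁻¹ * u⁻¹ ∈ (T : Subgroup G) := by
    have : u⁻¹⁻¹ * x⁻¹ * u⁻¹ = x⁻¹ * ⁅x, u⁆ := by rw [commutatorElement_def]; group
    rw [this]; exact Subgroup.mul_mem _ hx' hg
  obtain ⟨n, hn, hnx⟩ :=
    Sylow.conj_eq_normalizer_conj_of_mem_centralizer T x⁻¹ u⁻¹ (hPC hx') (hPC h1)
  have e : ⁅x, u⁆ = ⁅x, n⁻¹⁆ := by
    have e1 : ⁅x, u⁆ = x * (u⁻¹⁻¹ * x⁻¹ * u⁻¹) := by rw [commutatorElement_def]; group
    rw [e1, hnx, commutatorElement_def]; group
  rw [SetLike.mem_coe, e]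
  exact Subgroup.commutator_mem_commutator hx (Subgroup.inv_mem _ hn)

theorem pResidual_le_ker {G : Type*} [Group G] {p : ℕ} [Fact p.Prime] {Q : Type*} [Group Q]
    (hQ : IsPGroup p Q) (φ : G →* Q) : Cfsg.pResidual p G ≤ φ.ker := by
  unfold Cfsg.pResidual
  rw [Subgroup.closure_le]
  intro g hg
  have hg' : Nat.Coprime (orderOf g) p := hg
  rw [SetLike.mem_coe, MonoidHom.mem_ker]
  obtain ⟨k, hk⟩ := IsPGroup.iff_orderOf.mp hQ (φ g)
  have h1 : orderOf (φ g) ∣ orderOf g := orderOf_map_dvd φ g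
  have h2 : Nat.Coprime (orderOf (φ g)) (orderOf g) := by
    rw [hk]; exact Nat.Coprime.pow_left k hg'.symm
  have h3 : orderOf (φ g) = 1 := Nat.Coprime.eq_one_of_dvd h2 h1
  exact orderOf_eq_one_iff.mp h3

/-- For an abelian Sylow p-subgroup T, its intersection with the subgroup generated by the elements of order prime to p is the commutator of T with its normalizer. -/
theorem result {G : Type*} [Group G] [Finite G] {p : ℕ} [Fact p.Prime] (T : Sylow p G) (hT : IsMulCommutative T) : (T : Subgroup G) ⊓ Cfsg.pResidual p G = ⁅(T : Subgroup G), Subgroup.normalizer (T : Set G)⁆ := by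
  have hTC := Cfsg.Agent.S0074.le_centralizer_of_comm T hT
  have hN := Cfsg.Agent.Helper6.pResidual_normal p G
  apply le_antisymm
  · have hQ : IsPGroup p ((T : Subgroup G) ⧸ (T : Subgroup G).focalSubgroupOf) :=
      T.isPGroup'.to_quotient _
    have h1 : Cfsg.pResidual p G ≤ (T : Subgroup G).transferFocal.ker := pResidual_le_ker hQ _
    calc (T : Subgroup G) ⊓ Cfsg.pResidual p G
        ≤ (T : Subgroup G).transferFocal.ker ⊓ (T : Subgroup G) := by
          rw [inf_comm]; exact inf_le_inf_right _ h1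
      _ = (T : Subgroup G).focalSubgroup := Subgroup.ker_transferFocal_inf_eq_focalSubgroup T
      _ ≤ _ := focal_le' T hT
  · rw [Subgroup.commutator_le]
    intro t ht n hn
    apply Subgroup.mem_inf.mpr
    constructor
    · have h1 : n * t⁻¹ * n⁻¹ ∈ (T : Subgroup G) :=
        (Subgroup.mem_normalizer_iff.mp hn t⁻¹).mp (Subgroup.inv_mem _ ht)
      have e : ⁅t, n⁆ = t * (n * t⁻¹ * n⁻¹) := by rw [commutatorElement_def]; group
      rw [e]; exact Subgroup.mul_mem _ ht h1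
    · obtain ⟨a, b, e, m, hm, hsplit, hpow⟩ := Cfsg.Agent.S1242.exists_parts p n
      obtain ⟨u, hu⟩ : ∃ u : G, u = (n ^ m) ^ a := ⟨_, rfl⟩
      obtain ⟨v, hv⟩ : ∃ v : G, v = (n ^ (p ^ e)) ^ b := ⟨_, rfl⟩
      have hnuv : n = u * v := by rw [hu, hv]; exact hsplit
      have huN : u ∈ Subgroup.normalizer (T : Set G) := by
        rw [hu]; exact Subgroup.zpow_mem _ (Subgroup.pow_mem _ hn m) a
      have hue : u ^ (p ^ e) = 1 := by
        rw [hu]
        exact Cfsg.Agent.S1242.zpow_pow_eq_one n m (p ^ e) a (by rw [mul_comm]; exact hpow)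
      have huT : u ∈ (T : Subgroup G) := mem_sylow_of_normalizer_of_pow T u huN e hue
      have hvm : v ^ m = 1 := by
        rw [hv]; exact Cfsg.Agent.S1242.zpow_pow_eq_one n (p ^ e) m b hpow
      have hvR : v ∈ Cfsg.pResidual p G :=
        Cfsg.Agent.Helper6.mem_pResidual_of_pow_eq_one p hm hvm
      have htu : t * u = u * t := (Subgroup.mem_centralizer_iff.mp (hTC huT)) t ht
      have e2 : ⁅t, n⁆ = u * (t * v * t⁻¹ * v⁻¹) * u⁻¹ := by
        rw [hnuv, commutatorElement_def]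
        calc t * (u * v) * t⁻¹ * (u * v)⁻¹ = (t * u) * v * t⁻¹ * v⁻¹ * u⁻¹ := by group
          _ = (u * t) * v * t⁻¹ * v⁻¹ * u⁻¹ := by rw [htu]
          _ = u * (t * v * t⁻¹ * v⁻¹) * u⁻¹ := by group
      rw [e2]
      exact hN.conj_mem _
        (Subgroup.mul_mem _ (hN.conj_mem v hvR t) (Subgroup.inv_mem _ hvR)) u

end Cfsg.Agent.S0075
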