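import Cfsg.Statements.S0081
import Cfsg.Agent.Helper15.Gaschutz
import Cfsg.Agent.Helper14.WeaklyClosed
import Cfsg.Agent.Helper10.NormalPComp
import Cfsg.Agent.Helper1.Frobenius
import Cfsg.Agent.Helper5.Grp

set_option autoImplicit false
open Cfsg

namespace Cfsg.Agent.S0081

open scoped commutatorElement

theorem tate_core {G : Type*} [Group G] [Finite G] {p : ℕ} [Fact p.Prime] (P : Sylow p G)
    (N : Subgroup G) [N.Normal]
    (h : N ⊓ (P : Subgroup G) ≤ (frattini P).map (P : Subgroup G).subtype) :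
    (Nat.card (Cfsg.pResidual p ↥N)).Coprime p := by
  classical
  have hp : p.Prime := Fact.out
  obtain ⟨M, hMdef⟩ : ∃ M : Subgroup G, M = (Cfsg.pResidual p ↥N).map N.subtype := ⟨_, rfl⟩
  haveI hMn : M.Normal := by rw [hMdef]; exact Cfsg.Agent.Helper14.map_pResidual_normal p N
  have hMN : M ≤ N := by rw [hMdef]; exact Subgroup.map_subtype_le _
  have hgen : ∀ g ∈ N, (orderOf g).Coprime p → g ∈ M := by
    intro g hg ho
    rw [hMdef]
    refine ⟨⟨g, hg⟩, ?_, rfl⟩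
    show (⟨g, hg⟩ : N) ∈ Subgroup.closure {g : N | Nat.Coprime (orderOf g) p}
    apply Subgroup.subset_closure
    show (orderOf (⟨g, hg⟩ : N)).Coprime p
    rw [Subgroup.orderOf_mk]; exact ho
  obtain ⟨Q, hQdef⟩ : ∃ Q : Subgroup ↥(P : Subgroup G), Q = M.subgroupOf (P : Subgroup G) :=
    ⟨_, rfl⟩
  haveI hQn : Q.Normal := by rw [hQdef]; infer_instance
  have hQmem : ∀ u : ↥(P : Subgroup G), u ∈ Q ↔ (u : G) ∈ M := by
    intro u; rw [hQdef]; exact Subgroup.mem_subgroupOf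
  have hQfr : Q ≤ frattini ↥(P : Subgroup G) := by
    intro u hu
    have h1 : (u : G) ∈ N ⊓ (P : Subgroup G) := ⟨hMN ((hQmem u).mp hu), u.2⟩
    obtain ⟨y, hy, hyu⟩ := h h1
    have e : y = u := Subtype.ext hyu
    rw [← e]; exact hy
  obtain ⟨L, hLdef⟩ : ∃ L : Subgroup ↥(P : Subgroup G), L = ⁅Q, Q⁆ := ⟨_, rfl⟩
  haveI hLn : L.Normal := by rw [hLdef]; infer_instance
  have hLQ : L ≤ Q := by rw [hLdef]; exact Subgroup.commutator_le_left Q Q
  have hLker : L ≤ ((QuotientGroup.mk' M).comp (P : Subgroup G).subtype).ker := by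
    intro u hu
    rw [MonoidHom.mem_ker]
    show QuotientGroup.mk' M (u : G) = 1
    exact (QuotientGroup.eq_one_iff _).mpr ((hQmem u).mp (hLQ hu))
  obtain ⟨ψ, hψ⟩ : ∃ ψ : ↥(P : Subgroup G) ⧸ L →* G ⧸ M,
      ∀ u : ↥(P : Subgroup G), ψ (QuotientGroup.mk' L u) = QuotientGroup.mk' M (u : G) :=
    ⟨QuotientGroup.lift L ((QuotientGroup.mk' M).comp (P : Subgroup G).subtype) hLker,
      fun u => rfl⟩
  have hsurj : ∀ e : ↥(P : Subgroup G) ⧸ L, ∃ u, QuotientGroup.mk' L u = e :=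
    QuotientGroup.mk'_surjective L
  have hkerψ : ∀ u : ↥(P : Subgroup G), QuotientGroup.mk' L u ∈ ψ.ker ↔ u ∈ Q := by
    intro u
    rw [MonoidHom.mem_ker, hψ, hQmem]
    exact QuotientGroup.eq_one_iff _
  have hab : ∀ a ∈ ψ.ker, ∀ b ∈ ψ.ker, a * b = b * a := by
    intro a ha b hb
    obtain ⟨u, rfl⟩ := hsurj a
    obtain ⟨v, rfl⟩ := hsurj b
    have hu := (hkerψ u).mp ha
    have hv := (hkerψ v).mp hb
    rw [← map_mul, ← map_mul, QuotientGroup.mk'_apply, QuotientGroup.mk'_apply, QuotientGroup.eq]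
    have e : (u * v)⁻¹ * (v * u) = ⁅v⁻¹, u⁻¹⁆ := by rw [commutatorElement_def]; group
    rw [e, hLdef]
    exact Subgroup.commutator_mem_commutator (Q.inv_mem hv) (Q.inv_mem hu)
  have hEp : IsPGroup p (↥(P : Subgroup G) ⧸ L) := IsPGroup.to_quotient P.isPGroup' L
  have hkerp : IsPGroup p ψ.ker := hEp.to_subgroup ψ.ker
  obtain ⟨K, hK1, hK2, hK3⟩ := Cfsg.Agent.Helper15.lift_core (QuotientGroup.mk' M) ψ hab hkerp
    (P : Subgroup G) P.not_dvd_index (QuotientGroup.mk' L) hψ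
  -- elements of `N` of order prime to `p`
  have hKa : ∀ g ∈ N, (orderOf g).Coprime p → ((g, 1) : G × (↥(P : Subgroup G) ⧸ L)) ∈ K := by
    intro g hg ho
    have hgM := hgen g hg ho
    have h1 : QuotientGroup.mk' M g = ψ 1 := by
      rw [map_one]; exact (QuotientGroup.eq_one_iff g).mpr hgM
    obtain ⟨z, hz, hzK⟩ := hK3 g 1 h1
    rw [mul_one] at hzK
    have h2 : ((g, z) : G × (↥(P : Subgroup G) ⧸ L)) ^ orderOf g ∈ K := K.pow_mem hzK _
    have h3 : ((g, z) : G × (↥(P : Subgroup G) ⧸ L)) ^ orderOf g = (1, z ^ orderOf g) := by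
      apply Prod.ext
      · simp [pow_orderOf_eq_one]
      · simp
    rw [h3] at h2
    have h4 : z ^ orderOf g = 1 := hK2 _ h2
    obtain ⟨k, hk⟩ := hEp z
    have h5 : orderOf z ∣ orderOf g := orderOf_dvd_of_pow_eq_one h4
    have h6 : orderOf z ∣ p ^ k := orderOf_dvd_of_pow_eq_one hk
    have h7 : (orderOf z).Coprime (p ^ k) :=
      Nat.Coprime.coprime_dvd_left h5 (Nat.Coprime.pow_right k ho)
    have h8 : orderOf z = 1 := Nat.Coprime.eq_one_of_dvd h7 h6
    rw [orderOf_eq_one_iff] at h8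
    rw [h8] at hzK; exact hzK
  have hKb : ∀ m ∈ M, ((m, 1) : G × (↥(P : Subgroup G) ⧸ L)) ∈ K := by
    have hle : M ≤ K.comap (MonoidHom.inl G (↥(P : Subgroup G) ⧸ L)) := by
      rw [hMdef, Cfsg.Agent.Helper14.map_pResidual_eq_closure, Subgroup.closure_le]
      intro g hg
      show ((g, 1) : G × (↥(P : Subgroup G) ⧸ L)) ∈ K
      exact hKa g hg.1 hg.2
    intro m hm
    exact hle hm
  have hKc : ∀ (g : G) (e : ↥(P : Subgroup G) ⧸ L), (g, e) ∈ K → e ∈ ψ.ker → e = 1 := by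
    intro g e hge he
    have h1 : QuotientGroup.mk' M g = ψ e := hK1 _ hge
    rw [MonoidHom.mem_ker] at he
    rw [he] at h1
    have hgM : g ∈ M := (QuotientGroup.eq_one_iff g).mp h1
    have h2 := K.mul_mem (K.inv_mem (hKb g hgM)) hge
    have h3 : ((g, 1) : G × (↥(P : Subgroup G) ⧸ L))⁻¹ * (g, e) = (1, e) := by
      apply Prod.ext <;> simp
    rw [h3] at h2
    exact hK2 e h2
  obtain ⟨D, hDdef⟩ : ∃ D : Subgroup ↥(P : Subgroup G),
      D = (K.map (MonoidHom.snd G (↥(P : Subgroup G) ⧸ L))).comap (QuotientGroup.mk' L) :=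
    ⟨_, rfl⟩
  have hDmem : ∀ u : ↥(P : Subgroup G), u ∈ D ↔ ∃ g : G, (g, QuotientGroup.mk' L u) ∈ K := by
    intro u
    rw [hDdef, Subgroup.mem_comap, Subgroup.mem_map]
    constructor
    · rintro ⟨x, hx, hxu⟩
      refine ⟨x.1, ?_⟩
      have e : x = (x.1, QuotientGroup.mk' L u) := Prod.ext rfl hxu
      rw [← e]; exact hx
    · rintro ⟨g, hg⟩
      exact ⟨_, hg, rfl⟩
  have hDtop : D = ⊤ := by
    apply frattini_nongenerating
    rw [eq_top_iff]
    intro u _
    obtain ⟨z, hz, hzK⟩ := hK3 (u : G) (QuotientGroup.mk' L u) (hψ u).symm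
    obtain ⟨v, rfl⟩ := hsurj z
    have hvQ : v ∈ Q := (hkerψ v).mp hz
    rw [← map_mul] at hzK
    have hvu : v * u ∈ D := (hDmem _).mpr ⟨_, hzK⟩
    have h1 : v⁻¹ * (v * u) ∈ frattini ↥(P : Subgroup G) ⊔ D :=
      Subgroup.mul_mem_sup (hQfr (Q.inv_mem hvQ)) hvu
    rw [inv_mul_cancel_left] at h1
    rw [sup_comm]; exact h1
  have hQL : Q ≤ L := by
    intro v hv
    have hvD : v ∈ D := by rw [hDtop]; trivial
    obtain ⟨g, hg⟩ := (hDmem v).mp hvD
    have h1 := hKc g _ hg ((hkerψ v).mpr hv)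
    exact (QuotientGroup.eq_one_iff v).mp h1
  have hQbot : Q = ⊥ := by
    by_contra hne
    haveI : Group.IsNilpotent ↥(P : Subgroup G) := P.isPGroup'.isNilpotent
    have hlt := Group.IsSolvable.commutator_lt_of_ne_bot hne
    rw [← hLdef] at hlt
    exact absurd hQL (not_le_of_gt hlt)
  have hMP : ∀ x ∈ M, x ∈ (P : Subgroup G) → x = 1 := by
    intro x hxM hxP
    have h1 : (⟨x, hxP⟩ : ↥(P : Subgroup G)) ∈ Q := (hQmem _).mpr hxM
    rw [hQbot, Subgroup.mem_bot] at h1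
    exact congrArg Subtype.val h1
  have hnd : ¬ p ∣ Nat.card M := by
    intro hdvd
    obtain ⟨x, hx⟩ := exists_prime_orderOf_dvd_card' p hdvd
    have hxo : orderOf (x : G) = p := by rw [Subgroup.orderOf_coe]; exact hx
    have hpg : IsPGroup p (Subgroup.zpowers (x : G)) :=
      Cfsg.Agent.Helper1.isPGroup_zpowers (x : G) 1
        (by rw [pow_one, ← hxo]; exact pow_orderOf_eq_one _)
    obtain ⟨R, hR⟩ := hpg.exists_le_sylow
    obtain ⟨g, hg⟩ := MulAction.exists_smul_eq G P R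
    have hxR : (x : G) ∈ (R : Subgroup G) := hR (Subgroup.mem_zpowers _)
    rw [← hg, Cfsg.Agent.Helper5.mem_sylow_smul] at hxR
    have hxM' : g⁻¹ * (x : G) * g ∈ M := by
      have h1 := hMn.conj_mem (x : G) x.2 g⁻¹
      rwa [inv_inv] at h1
    have h1 := hMP _ hxM' hxR
    have h2 : (x : G) = 1 := by
      have e : (x : G) = g * (g⁻¹ * (x : G) * g) * g⁻¹ := by group
      rw [e, h1]; group
    rw [h2, orderOf_one] at hxo
    exact hp.one_lt.ne hxo
  have hcard : Nat.card (Cfsg.pResidual p ↥N) = Nat.card M := by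
    rw [hMdef]
    exact Nat.card_congr
      ((Cfsg.pResidual p ↥N).equivMapOfInjective N.subtype N.subtype_injective).toEquiv
  rw [hcard]
  exact Nat.Coprime.symm ((Nat.Prime.coprime_iff_not_dvd hp).mpr hnd)


/-- If a normal subgroup meets a Sylow p-subgroup P inside the Frattini subgroup of P, then it has a normal p-complement. -/
theorem result {G : Type*} [Group G] [Finite G] {p : ℕ} [Fact p.Prime] (P : Sylow p G) (N : Subgroup G) [N.Normal] (h : N ⊓ (P : Subgroup G) ≤ (frattini P).map (P : Subgroup G).subtype) : Cfsg.HasNormalPComplement p N := by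
  apply Cfsg.Agent.Helper10.hasNormalPComplement_of_coprime_pResidual
  exact tate_core P N h

end Cfsg.Agent.S0081
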