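-- Statement S2801: the largest p-reduced normal subgroup.
import Cfsg.Statements.S2801
import Cfsg.Agent.Helper14.Basic

set_option autoImplicit false
open Cfsg

namespace Cfsg.Agent.S2801

open Cfsg.Agent.Helper14

theorem centralizer_normal {L : Type*} [Group L] (V : Subgroup L) (hV : V.Normal) :
    (Subgroup.centralizer (V : Set L)).Normal := by
  constructor
  intro c hc h
  rw [Subgroup.mem_centralizer_iff] at hc ⊢
  intro d hd
  have hd' : h⁻¹ * d * h ∈ V := by
    have := hV.conj_mem d hd h⁻¹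
    rwa [inv_inv] at this
  have := hc _ hd'
  calc d * (h * c * h⁻¹) = h * (h⁻¹ * d * h * c) * h⁻¹ := by group
    _ = h * (c * (h⁻¹ * d * h)) * h⁻¹ := by rw [this]
    _ = h * c * h⁻¹ * d := by group

theorem pgroup_normal_le_centralizer {L : Type*} [Group L] {p : ℕ} (V : Subgroup L)
    (hCn : (Subgroup.centralizer (V : Set L)).Normal)
    (hcore : pCore p (L ⧸ Subgroup.centralizer (V : Set L)) = ⊥) (D : Subgroup L)
    (hDn : D.Normal)
    (hDp : ∀ d ∈ D, ∃ k : ℕ, d ^ p ^ k ∈ Subgroup.centralizer (V : Set L)) :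
    D ≤ Subgroup.centralizer (V : Set L) := by
  have hmapn : (D.map (QuotientGroup.mk' (Subgroup.centralizer (V : Set L)))).Normal :=
    hDn.map _ (QuotientGroup.mk'_surjective _)
  have hmapp : IsPGroup p (D.map (QuotientGroup.mk' (Subgroup.centralizer (V : Set L)))) := by
    rintro ⟨x, hx⟩
    obtain ⟨d, hd, rfl⟩ := Subgroup.mem_map.mp hx
    obtain ⟨k, hk⟩ := hDp d hd
    refine ⟨k, Subtype.ext ?_⟩
    show (QuotientGroup.mk' _ d) ^ p ^ k = 1
    rw [← map_pow]
    exact (QuotientGroup.eq_one_iff _).mpr hk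
  have hle := le_pCore hmapn hmapp
  rw [hcore] at hle
  intro d hd
  have := hle (Subgroup.mem_map_of_mem _ hd)
  rw [Subgroup.mem_bot] at this
  exact (QuotientGroup.eq_one_iff _).mp this

/-- Elements of order dividing `p` in the centre of `O_p(L)`. -/
def eSub (L : Type*) [Group L] (p : ℕ) : Subgroup L where
  carrier := {v | v ∈ pCore p L ∧ (∀ q ∈ pCore p L, q * v = v * q) ∧ v ^ p = 1}
  mul_mem' := by
    rintro a b ⟨ha1, ha2, ha3⟩ ⟨hb1, hb2, hb3⟩
    refine ⟨mul_mem ha1 hb1, ?_, ?_⟩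
    · intro q hq
      rw [← mul_assoc, ha2 q hq, mul_assoc, hb2 q hq, mul_assoc]
    · have hab : Commute a b := hb2 a ha1
      rw [hab.mul_pow, ha3, hb3, one_mul]
  one_mem' := ⟨one_mem _, fun q _ => by rw [mul_one, one_mul], one_pow _⟩
  inv_mem' := by
    rintro a ⟨ha1, ha2, ha3⟩
    refine ⟨inv_mem ha1, ?_, ?_⟩
    · intro q hq
      have := ha2 q hq
      calc q * a⁻¹ = a⁻¹ * (a * q) * a⁻¹ := by group
        _ = a⁻¹ * (q * a) * a⁻¹ := by rw [this]
        _ = a⁻¹ * q := by group
    · rw [inv_pow, ha3, inv_one]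

theorem mem_eSub {L : Type*} [Group L] {p : ℕ} {v : L} :
    v ∈ eSub L p ↔ v ∈ pCore p L ∧ (∀ q ∈ pCore p L, q * v = v * q) ∧ v ^ p = 1 := Iff.rfl

/-- Let L be a finite group and p a prime with C_L(O_p(L)) ≤ O_p(L). Then L has a unique largest p-reduced normal subgroup: some normal elementary abelian p-subgroup Y with O_p(L/C_L(Y)) = 1 contains every other such subgroup. -/
theorem result {L : Type*} [Group L] [Finite L] {p : ℕ} [Fact p.Prime] (hchar : Subgroup.centralizer (Cfsg.pCore p L : Set L) ≤ Cfsg.pCore p L) : ∃ Y : Subgroup L, (Cfsg.IsPReducedNormal p Y ∧ ∀ V : Subgroup L, Cfsg.IsPReducedNormal p V → V ≤ Y) := by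
  have hQn : (pCore p L).Normal := pCore_normal p L
  have hQp : IsPGroup p (pCore p L) := pCore_isPGroup p L
  have hB : ∀ V : Subgroup L, IsPReducedNormal p V → ∀ v ∈ V,
      v ∈ pCore p L ∧ (∀ q ∈ pCore p L, q * v = v * q) ∧ v ^ p = 1 := by
    intro V hV v hv
    obtain ⟨hVn, ⟨-, hVe⟩, hCn, hcore⟩ := hV
    have hQC : pCore p L ≤ Subgroup.centralizer (V : Set L) := by
      apply pgroup_normal_le_centralizer V hCn hcore _ hQn
      intro d hd
      obtain ⟨k, hk⟩ := hQp ⟨d, hd⟩
      refine ⟨k, ?_⟩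
      have : d ^ p ^ k = 1 := congrArg Subtype.val hk
      rw [this]; exact one_mem _
    have hcomm : ∀ q ∈ pCore p L, q * v = v * q := by
      intro q hq
      have := (Subgroup.mem_centralizer_iff.mp (hQC hq)) v hv
      exact this.symm
    refine ⟨hchar ?_, hcomm, hVe v hv⟩
    rw [Subgroup.mem_centralizer_iff]
    exact hcomm
  obtain ⟨Y, hY⟩ : ∃ Y, Y = sSup {V : Subgroup L | IsPReducedNormal p V} := ⟨_, rfl⟩
  have hYE : Y ≤ eSub L p := by
    rw [hY]; exact sSup_le (fun V hV v hv => mem_eSub.mpr (hB V hV v hv))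
  have hYn : Y.Normal := by rw [hY]; exact Subgroup.sSup_normal _ (fun V hV => hV.1)
  have hCYn : (Subgroup.centralizer (Y : Set L)).Normal := centralizer_normal Y hYn
  refine ⟨Y, ⟨hYn, ⟨?_, fun a ha => (mem_eSub.mp (hYE ha)).2.2⟩, hCYn, ?_⟩,
    fun V hV => by rw [hY]; exact le_sSup hV⟩
  · refine ⟨⟨fun a b => Subtype.ext ?_⟩⟩
    have ha := mem_eSub.mp (hYE a.2)
    have hb := mem_eSub.mp (hYE b.2)
    exact hb.2.1 a ha.1
  · rw [eq_bot_iff]
    intro x hx
    obtain ⟨d, rfl⟩ := QuotientGroup.mk'_surjective _ x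
    rw [Subgroup.mem_bot]
    refine (QuotientGroup.eq_one_iff d).mpr ?_
    have hDn : ((pCore p (L ⧸ Subgroup.centralizer (Y : Set L))).comap
        (QuotientGroup.mk' (Subgroup.centralizer (Y : Set L)))).Normal :=
      (pCore_normal p _).comap _
    have hDp : IsPGroup p (pCore p (L ⧸ Subgroup.centralizer (Y : Set L))) := pCore_isPGroup p _
    have hDV : ∀ V : Subgroup L, IsPReducedNormal p V →
        (pCore p (L ⧸ Subgroup.centralizer (Y : Set L))).comap
          (QuotientGroup.mk' (Subgroup.centralizer (Y : Set L))) ≤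
          Subgroup.centralizer (V : Set L) := by
      intro V hV
      have hVY : V ≤ Y := by rw [hY]; exact le_sSup hV
      obtain ⟨hVn, hVe, hCn, hcore⟩ := hV
      apply pgroup_normal_le_centralizer V hCn hcore _ hDn
      intro d hd
      obtain ⟨k, hk⟩ := hDp ⟨_, Subgroup.mem_comap.mp hd⟩
      refine ⟨k, ?_⟩
      have h1 : (QuotientGroup.mk' (Subgroup.centralizer (Y : Set L)) d) ^ p ^ k = 1 :=
        congrArg Subtype.val hk
      rw [← map_pow] at h1
      have h2 : d ^ p ^ k ∈ Subgroup.centralizer (Y : Set L) :=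
        (QuotientGroup.eq_one_iff _).mp h1
      exact Subgroup.centralizer_le (SetLike.coe_subset_coe.mpr hVY) h2
    have hd : d ∈ (pCore p (L ⧸ Subgroup.centralizer (Y : Set L))).comap
        (QuotientGroup.mk' (Subgroup.centralizer (Y : Set L))) := Subgroup.mem_comap.mpr hx
    rw [Subgroup.mem_centralizer_iff]
    intro y hy
    have hle : Y ≤ Subgroup.centralizer ({d} : Set L) := by
      rw [hY]
      apply sSup_le
      intro V hV v hv
      rw [Subgroup.mem_centralizer_iff]
      intro h hh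
      rw [Set.mem_singleton_iff] at hh
      rw [hh]
      exact ((Subgroup.mem_centralizer_iff.mp (hDV V hV hd)) v hv).symm
    have := (Subgroup.mem_centralizer_iff.mp (hle hy)) d (Set.mem_singleton d)
    exact this.symm

end Cfsg.Agent.S2801
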