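-- S2802: the normal closure of a p-reduced normal subgroup of an overgroup of a Sylow p-subgroup is p-reduced.
import Mathlib
import Cfsg.Statements.S2802
import Cfsg.Agent.Helper9.PReduced

set_option autoImplicit false
open Cfsg

namespace Cfsg.Agent.S2802

/-- Let L be a finite group and p a prime with C_L(O_p(L)) ≤ O_p(L), T a Sylow p-subgroup of L and R a subgroup with T ≤ R. If X is a p-reduced normal subgroup of R (normal in R, elementary abelian, O_p(R/C_R(X)) = 1), then the normal closure of X in L is a p-reduced normal subgroup of L. -/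
theorem result {L : Type*} [Group L] [Finite L] {p : ℕ} [Fact p.Prime] (hchar : Subgroup.centralizer (Cfsg.pCore p L : Set L) ≤ Cfsg.pCore p L) (T : Sylow p L) (R : Subgroup L) (hTR : (T : Subgroup L) ≤ R) (X : Subgroup ↥R) (hX : Cfsg.IsPReducedNormal p X) : Cfsg.IsPReducedNormal p (Subgroup.normalClosure ((X.map R.subtype : Subgroup L) : Set L)) := by
  obtain ⟨hXn, hXe, hXC, hXcore⟩ := hX
  obtain ⟨Q, hQdef⟩ : ∃ Q : Subgroup L, Q = Cfsg.pCore p L := ⟨_, rfl⟩
  rw [← hQdef] at hchar
  haveI hQn : Q.Normal := by rw [hQdef]; exact Cfsg.Agent.Helper1.pCore_normal p L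
  have hQp : IsPGroup p Q := by rw [hQdef]; exact Cfsg.Agent.Helper1.pCore_isPGroup p L
  have hQT : Q ≤ T := Cfsg.Agent.Helper9.normal_pgroup_le_sylow Q hQp T
  have hQR : Q ≤ R := hQT.trans hTR
  haveI := hXC
  haveI := hXn
  have hred := (Cfsg.Agent.Helper9.pCore_quotient_eq_bot_iff (p := p)
    (Subgroup.centralizer (X : Set ↥R))).mp hXcore
  -- Step 1: O_p(L) centralizes X
  have h1 : ∀ q ∈ Q, ∀ x ∈ X, (x : L) * q = q * (x : L) := by
    intro q hq x hx
    have hD : Q.subgroupOf R ≤ Subgroup.centralizer (X : Set ↥R) := by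
      apply hred _ (hQn.subgroupOf R)
      intro d hd
      obtain ⟨k, hk⟩ := hQp ⟨d.1, hd⟩
      refine ⟨k, ?_⟩
      have hk' : (d.1) ^ (p ^ k) = 1 := congrArg Subtype.val hk
      have hk'' : d ^ (p ^ k) = 1 := Subtype.ext hk'
      rw [hk'']; exact one_mem _
    have h2 := Subgroup.mem_centralizer_iff.mp
      (hD (show (⟨q, hQR hq⟩ : ↥R) ∈ Q.subgroupOf R from hq)) x hx
    exact congrArg Subtype.val h2
  have hX0 : ∀ y ∈ (X.map R.subtype : Subgroup L),
      y ∈ Q ∧ y ∈ Subgroup.centralizer (Q : Set L) ∧ y ^ p = 1 := by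
    rintro y ⟨x, hx, rfl⟩
    have hc : (x : L) ∈ Subgroup.centralizer (Q : Set L) := by
      rw [Subgroup.mem_centralizer_iff]
      intro q hq
      exact (h1 q hq x hx).symm
    refine ⟨hchar hc, hc, ?_⟩
    have h3 := hXe.2 x hx
    exact congrArg Subtype.val h3
  -- the subgroup W = Ω₁(Z(O_p(L)))
  obtain ⟨W, hW⟩ : ∃ W : Subgroup L, ∀ z, z ∈ W ↔
      (z ∈ Q ∧ z ∈ Subgroup.centralizer (Q : Set L) ∧ z ^ p = 1) := by
    refine ⟨{ carrier := {z | z ∈ Q ∧ z ∈ Subgroup.centralizer (Q : Set L) ∧ z ^ p = 1}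
              mul_mem' := ?_
              one_mem' := ?_
              inv_mem' := ?_ }, fun _ => Iff.rfl⟩
    · rintro a b ⟨ha1, ha2, ha3⟩ ⟨hb1, hb2, hb3⟩
      refine ⟨mul_mem ha1 hb1, mul_mem ha2 hb2, ?_⟩
      have hcomm : Commute a b := Subgroup.mem_centralizer_iff.mp hb2 a ha1
      rw [hcomm.mul_pow, ha3, hb3, one_mul]
    · exact ⟨one_mem _, one_mem _, one_pow _⟩
    · rintro a ⟨ha1, ha2, ha3⟩
      exact ⟨inv_mem ha1, inv_mem ha2, by rw [inv_pow, ha3, inv_one]⟩
  have hWn : W.Normal := by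
    constructor
    intro n hn g
    rw [hW] at hn ⊢
    obtain ⟨h1', h2', h3'⟩ := hn
    refine ⟨hQn.conj_mem n h1' g, ?_, ?_⟩
    · have hCn : (Subgroup.centralizer (Q : Set L)).Normal := inferInstance
      exact hCn.conj_mem n h2' g
    · rw [conj_pow, h3']; group
  obtain ⟨V, hVdef⟩ : ∃ V : Subgroup L,
      V = Subgroup.normalClosure ((X.map R.subtype : Subgroup L) : Set L) := ⟨_, rfl⟩
  rw [← hVdef]
  have hVn : V.Normal := by rw [hVdef]; exact Subgroup.normalClosure_normal
  have hX0V : ∀ y ∈ (X.map R.subtype : Subgroup L), y ∈ V := by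
    rw [hVdef]; exact fun y hy => Subgroup.subset_normalClosure hy
  have hVmin : ∀ N : Subgroup L, N.Normal → (∀ y ∈ (X.map R.subtype : Subgroup L), y ∈ N) →
      V ≤ N := by
    intro N hN h
    rw [hVdef]
    haveI := hN
    exact Subgroup.normalClosure_le_normal (fun y hy => h y hy)
  have hVW : V ≤ W := hVmin W hWn (fun y hy => (hW y).mpr (hX0 y hy))
  haveI := hVn
  have hCVn : (Subgroup.centralizer (V : Set L)).Normal := inferInstance
  refine ⟨hVn, ⟨⟨⟨fun a b => Subtype.ext ?_⟩⟩, fun a ha => ((hW a).mp (hVW ha)).2.2⟩, hCVn, ?_⟩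
  · have ha := (hW a.1).mp (hVW a.2)
    have hb := (hW b.1).mp (hVW b.2)
    exact Subgroup.mem_centralizer_iff.mp hb.2.1 a.1 ha.1
  · haveI := hCVn
    rw [Cfsg.Agent.Helper9.pCore_quotient_eq_bot_iff]
    intro D hDn hDp
    haveI := hDn
    have hA : ∀ d ∈ D, d ∈ R → ∀ x ∈ X, (x : L) * d = d * (x : L) := by
      intro d hd hdR x hx
      have hD' : D.subgroupOf R ≤ Subgroup.centralizer (X : Set ↥R) := by
        apply hred _ (hDn.subgroupOf R)
        intro e he
        obtain ⟨k, hk⟩ := hDp e.1 he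
        refine ⟨k, ?_⟩
        rw [Subgroup.mem_centralizer_iff]
        intro x' hx'
        have hx'V : (x' : L) ∈ V := hX0V _ ⟨x', hx', rfl⟩
        have h5 := Subgroup.mem_centralizer_iff.mp hk _ hx'V
        exact Subtype.ext h5
      have h2 := Subgroup.mem_centralizer_iff.mp
        (hD' (show (⟨d, hdR⟩ : ↥R) ∈ D.subgroupOf R from hd)) x hx
      exact congrArg Subtype.val h2
    have hB : ∀ d ∈ D, ∀ y ∈ (X.map R.subtype : Subgroup L), y * d = d * y := by
      intro d hd y hy
      obtain ⟨x, hx, rfl⟩ := hy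
      obtain ⟨c, hc, t, ht, hcD, htD, rfl⟩ := Cfsg.Agent.Helper9.exists_mul_of_pgroup_mod T D
        (Subgroup.centralizer (V : Set L)) hDp d hd
      have h3 : (x : L) * t = t * (x : L) := hA t htD (hTR ht) x hx
      have h4 : (x : L) * c = c * (x : L) :=
        Subgroup.mem_centralizer_iff.mp hc _ (hX0V _ ⟨x, hx, rfl⟩)
      show (x : L) * (c * t) = c * t * (x : L)
      calc (x : L) * (c * t) = ((x : L) * c) * t := by group
        _ = (c * (x : L)) * t := by rw [h4]
        _ = c * ((x : L) * t) := by group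
        _ = c * (t * (x : L)) := by rw [h3]
        _ = c * t * (x : L) := by group
    have hCDn : (Subgroup.centralizer (D : Set L)).Normal := inferInstance
    have hVD : V ≤ Subgroup.centralizer (D : Set L) := by
      apply hVmin _ hCDn
      intro y hy
      rw [Subgroup.mem_centralizer_iff]
      intro d hd
      exact (hB d hd y hy).symm
    intro d hd
    rw [Subgroup.mem_centralizer_iff]
    intro v hv
    exact (Subgroup.mem_centralizer_iff.mp (hVD hv) d hd).symm

end Cfsg.Agent.S2802
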