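-- S2803: structure of the largest p-reduced normal subgroup Y: L = N_L(T_L) C_L(Y), T_L = O_p(N_L(T_L)), Y = Ω₁Z(T_L).
import Mathlib
import Cfsg.Statements.S2803
import Cfsg.Agent.Helper9.PReduced
import Cfsg.Agent.S2802

set_option autoImplicit false
open Cfsg

namespace Cfsg.Agent.S2803

/-- If `L = N C`, `O_p(L/C) = 1` and `D0` is normalized by `N` and a `p`-group modulo `C`, then `D0 ≤ C`. -/
theorem le_of_normalized {L : Type*} [Group L] {p : ℕ} (C : Subgroup L) [hC : C.Normal]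
    (hred : ∀ D : Subgroup L, D.Normal → (∀ d ∈ D, ∃ k : ℕ, d ^ (p ^ k) ∈ C) → D ≤ C)
    (N : Subgroup L)
    (hNC : ∀ g : L, ∃ a ∈ N, ∃ c ∈ C, g = a * c) (D0 : Subgroup L)
    (hD0N : ∀ n ∈ N, ∀ d ∈ D0, n * d * n⁻¹ ∈ D0) (hD0p : ∀ d ∈ D0, ∃ k : ℕ, d ^ (p ^ k) ∈ C) :
    D0 ≤ C := by
  have hmem : ∀ n ∈ D0 ⊔ C, ∃ d ∈ D0, ∃ c ∈ C, d * c = n := by
    intro n hn
    have h : n ∈ ((D0 ⊔ C : Subgroup L) : Set L) := hn
    rw [Subgroup.mul_normal] at h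
    obtain ⟨d, hd, c, hc, rfl⟩ := Set.mem_mul.mp h
    exact ⟨d, hd, c, hc, rfl⟩
  have hD1n : (D0 ⊔ C).Normal := by
    constructor
    intro n hn g
    obtain ⟨d, hd, c', hc', rfl⟩ := hmem n hn
    obtain ⟨a, ha, c, hc, rfl⟩ := hNC g
    have h1 : a * c * (d * c') * (a * c)⁻¹
        = (a * d * a⁻¹) * (a * (d⁻¹ * c * d * c' * c⁻¹) * a⁻¹) := by group
    rw [h1]
    apply Subgroup.mul_mem_sup (hD0N a ha d hd)
    apply hC.conj_mem
    have h2 : d⁻¹ * c * d ∈ C := by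
      have h3 := hC.conj_mem c hc d⁻¹
      rwa [inv_inv] at h3
    exact mul_mem (mul_mem h2 hc') (inv_mem hc)
  have h3 : D0 ⊔ C ≤ C := by
    apply hred _ hD1n
    intro n hn
    obtain ⟨d, hd, c, hc, rfl⟩ := hmem n hn
    obtain ⟨k, hk⟩ := hD0p d hd
    refine ⟨k, ?_⟩
    apply (QuotientGroup.eq_one_iff _).mp
    have h4 : ((c : L) : L ⧸ C) = 1 := (QuotientGroup.eq_one_iff c).mpr hc
    have h5 : (((d ^ (p ^ k) : L)) : L ⧸ C) = 1 := (QuotientGroup.eq_one_iff _).mpr hk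
    rw [QuotientGroup.mk_pow, QuotientGroup.mk_mul, h4, mul_one, ← QuotientGroup.mk_pow, h5]
  exact le_sup_left.trans h3

/-- Let L be a finite group and p a prime with C_L(O_p(L)) ≤ O_p(L), T a Sylow p-subgroup, and Y the largest p-reduced normal subgroup of L. Put T_L = C_T(Y) and L_T = N_L(T_L). Then L = L_T · C_L(Y) (elementwise), T_L = O_p(L_T), and Y = Ω₁(Z(T_L)). -/
theorem result {L : Type*} [Group L] [Finite L] {p : ℕ} [Fact p.Prime] (hchar : Subgroup.centralizer (Cfsg.pCore p L : Set L) ≤ Cfsg.pCore p L) (T : Sylow p L) (Y : Subgroup L) (hY : (Cfsg.IsPReducedNormal p Y ∧ ∀ V : Subgroup L, Cfsg.IsPReducedNormal p V → V ≤ Y)) (TL : Subgroup L) (hTL : TL = (T : Subgroup L) ⊓ Subgroup.centralizer (Y : Set L)) : (∀ g : L, ∃ a ∈ Subgroup.normalizer (TL : Set L), ∃ c ∈ Subgroup.centralizer (Y : Set L), g = a * c) ∧ (Cfsg.pCore p ↥(Subgroup.normalizer (TL : Set L))).map (Subgroup.normalizer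 (TL : Set L)).subtype = TL ∧ Y = Cfsg.omegaOne p (TL ⊓ Subgroup.centralizer (TL : Set L)) := by
  obtain ⟨⟨hYn, hYe, hCn, hYcore⟩, hYmax⟩ := hY
  haveI := hCn
  have hred := (Cfsg.Agent.Helper9.pCore_quotient_eq_bot_iff (p := p)
    (Subgroup.centralizer (Y : Set L))).mp hYcore
  obtain ⟨C, hCdef⟩ : ∃ C : Subgroup L, C = Subgroup.centralizer (Y : Set L) := ⟨_, rfl⟩
  rw [← hCdef] at hTL hred ⊢
  haveI hCn' : C.Normal := by rw [hCdef]; exact hCn
  have hYp : IsPGroup p Y := by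
    intro v
    refine ⟨1, Subtype.ext ?_⟩
    rw [pow_one]
    exact hYe.2 v.1 v.2
  haveI := hYn
  have hYT : Y ≤ T := Cfsg.Agent.Helper9.normal_pgroup_le_sylow Y hYp T
  have hCmem : ∀ c : L, c ∈ C ↔ ∀ y ∈ Y, y * c = c * y := by
    intro c; rw [hCdef]; exact Subgroup.mem_centralizer_iff
  have hYC : Y ≤ C := by
    intro y hy
    rw [hCmem]
    intro y' hy'
    have h := congrArg Subtype.val (hYe.1.is_comm.comm (⟨y', hy'⟩ : ↥Y) ⟨y, hy⟩)
    exact h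
  have hTLmem : ∀ x : L, x ∈ TL ↔ x ∈ (T : Subgroup L) ∧ x ∈ C := by
    intro x; rw [hTL]; exact Subgroup.mem_inf
  have hTp : ∀ t ∈ (T : Subgroup L), ∃ k : ℕ, t ^ (p ^ k) = 1 := by
    intro t ht
    obtain ⟨k, hk⟩ := T.isPGroup' ⟨t, ht⟩
    exact ⟨k, congrArg Subtype.val hk⟩
  -- T_L is a Sylow p-subgroup of C
  obtain ⟨Q, hQ⟩ := Cfsg.Agent.S0542.result p C hCn'.isSubnormal T
  have hQmap : (Q : Subgroup ↥C).map C.subtype = TL := by
    rw [hQ, hTL, Subgroup.subgroupOf_map_subtype]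
  have hFr : Subgroup.normalizer (TL : Set L) ⊔ C = ⊤ := by
    have h := Sylow.normalizer_sup_eq_top Q
    rw [hQmap] at h
    exact h
  have hA : ∀ g : L, ∃ a ∈ Subgroup.normalizer (TL : Set L), ∃ c ∈ C, g = a * c := by
    intro g
    have h : g ∈ ((Subgroup.normalizer (TL : Set L) ⊔ C : Subgroup L) : Set L) := by
      rw [hFr]; exact Subgroup.mem_top g
    rw [Subgroup.mul_normal] at h
    obtain ⟨a, ha, c, hc, rfl⟩ := Set.mem_mul.mp h
    exact ⟨a, ha, c, hc, rfl⟩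
  refine ⟨hA, ?_⟩
  generalize hNdef : Subgroup.normalizer (TL : Set L) = N at hA ⊢
  have hNmem : ∀ n : L, n ∈ N ↔ ∀ x, x ∈ TL ↔ n * x * n⁻¹ ∈ TL := by
    intro n; rw [← hNdef]; exact Subgroup.mem_normalizer_iff
  have hTN : (T : Subgroup L) ≤ N := by
    intro t ht
    rw [hNmem]
    intro x
    rw [hTLmem, hTLmem]
    constructor
    · rintro ⟨h1, h2⟩
      exact ⟨mul_mem (mul_mem ht h1) (inv_mem ht), hCn'.conj_mem x h2 t⟩
    · rintro ⟨h1, h2⟩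
      have e : t⁻¹ * (t * x * t⁻¹) * t⁻¹⁻¹ = x := by group
      have h3 := hCn'.conj_mem _ h2 t⁻¹
      rw [e] at h3
      have h4 : t⁻¹ * (t * x * t⁻¹) * t ∈ (T : Subgroup L) := mul_mem (mul_mem (inv_mem ht) h1) ht
      have e' : t⁻¹ * (t * x * t⁻¹) * t = x := by group
      rw [e'] at h4
      exact ⟨h4, h3⟩
  have hTLT : TL ≤ T := fun x hx => ((hTLmem x).mp hx).1
  have hTLC : TL ≤ C := fun x hx => ((hTLmem x).mp hx).2
  have hTLN : TL ≤ N := hTLT.trans hTN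
  have hNconj : ∀ n ∈ N, ∀ x ∈ TL, n * x * n⁻¹ ∈ TL := fun n hn x hx => ((hNmem n).mp hn x).mp hx
  have hNconj' : ∀ n ∈ N, ∀ x ∈ TL, n⁻¹ * x * n ∈ TL := by
    intro n hn x hx
    have h := hNconj n⁻¹ (inv_mem hn) x hx
    rwa [inv_inv] at h
  -- the subgroup W = Ω₁(Z(T_L))
  obtain ⟨W, hW⟩ : ∃ W : Subgroup L, ∀ z, z ∈ W ↔
      (z ∈ TL ∧ z ∈ Subgroup.centralizer (TL : Set L) ∧ z ^ p = 1) := by
    refine ⟨{ carrier := {z | z ∈ TL ∧ z ∈ Subgroup.centralizer (TL : Set L) ∧ z ^ p = 1}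
              mul_mem' := ?_
              one_mem' := ?_
              inv_mem' := ?_ }, fun _ => Iff.rfl⟩
    · rintro a b ⟨ha1, ha2, ha3⟩ ⟨hb1, hb2, hb3⟩
      refine ⟨mul_mem ha1 hb1, mul_mem ha2 hb2, ?_⟩
      have hcomm : Commute a b := Subgroup.mem_centralizer_iff.mp hb2 a ha1
      rw [hcomm.mul_pow, ha3, hb3, one_mul]
    · exact ⟨one_mem _, one_mem _, one_pow _⟩
    · rintro a ⟨ha1, ha2, ha3⟩
      exact ⟨inv_mem ha1, inv_mem ha2, by rw [inv_pow, ha3, inv_one]⟩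
  have hΩ : Cfsg.omegaOne p (TL ⊓ Subgroup.centralizer (TL : Set L)) = W := by
    unfold Cfsg.omegaOne
    apply le_antisymm
    · rw [Subgroup.closure_le]
      intro z hz
      have hz' : z ∈ TL ⊓ Subgroup.centralizer (TL : Set L) ∧ z ^ p = 1 := hz
      exact (hW z).mpr ⟨(Subgroup.mem_inf.mp hz'.1).1, (Subgroup.mem_inf.mp hz'.1).2, hz'.2⟩
    · intro z hz
      have h := (hW z).mp hz
      exact Subgroup.subset_closure ⟨Subgroup.mem_inf.mpr ⟨h.1, h.2.1⟩, h.2.2⟩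
  rw [hΩ]
  have hWTL : W ≤ TL := fun z hz => ((hW z).mp hz).1
  have hWN : W ≤ N := hWTL.trans hTLN
  have hWcomm : ∀ z ∈ W, ∀ x ∈ TL, x * z = z * x := fun z hz x hx =>
    Subgroup.mem_centralizer_iff.mp ((hW z).mp hz).2.1 x hx
  have hYW : Y ≤ W := by
    intro y hy
    rw [hW]
    refine ⟨(hTLmem y).mpr ⟨hYT hy, hYC hy⟩, ?_, hYe.2 y hy⟩
    rw [Subgroup.mem_centralizer_iff]
    intro x hx
    exact ((hCmem x).mp (hTLC hx) y hy).symm
  -- (b)
  have hPp : ∀ d ∈ (Cfsg.pCore p ↥N).map N.subtype, ∃ k : ℕ, d ^ (p ^ k) = 1 := by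
    rintro d ⟨d', hd', rfl⟩
    obtain ⟨k, hk⟩ := Cfsg.Agent.Helper1.pCore_isPGroup p ↥N ⟨d', hd'⟩
    have hk' : d' ^ (p ^ k) = 1 := congrArg Subtype.val hk
    have hk'' : (d' : L) ^ (p ^ k) = 1 := congrArg Subtype.val hk'
    exact ⟨k, hk''⟩
  have hB1 : TL ≤ (Cfsg.pCore p ↥N).map N.subtype := by
    have hn : (TL.subgroupOf N).Normal := by
      constructor
      intro n hn g
      exact hNconj g.1 g.2 n.1 hn
    have hp : IsPGroup p (TL.subgroupOf N) := by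
      intro x
      obtain ⟨k, hk⟩ := hTp x.1.1 (hTLT x.2)
      exact ⟨k, Subtype.ext (Subtype.ext hk)⟩
    have hle := Cfsg.Agent.Helper1.le_pCore hn hp
    intro x hx
    exact ⟨⟨x, hTLN hx⟩, hle hx, rfl⟩
  have hB2 : (Cfsg.pCore p ↥N).map N.subtype ≤ C := by
    apply le_of_normalized C hred N hA
    · rintro n hn d ⟨d', hd', rfl⟩
      have hnorm := Cfsg.Agent.Helper1.pCore_normal p ↥N
      exact ⟨(⟨n, hn⟩ : ↥N) * d' * (⟨n, hn⟩ : ↥N)⁻¹, hnorm.conj_mem d' hd' ⟨n, hn⟩, rfl⟩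
    · intro d hd
      obtain ⟨k, hk⟩ := hPp d hd
      exact ⟨k, by rw [hk]; exact one_mem _⟩
  have hB3 : (Cfsg.pCore p ↥N).map N.subtype ≤ TL := by
    have hp : IsPGroup p (((Cfsg.pCore p ↥N).map N.subtype).subgroupOf C) := by
      intro x
      obtain ⟨k, hk⟩ := hPp x.1.1 x.2
      exact ⟨k, Subtype.ext (Subtype.ext hk)⟩
    have hle : (Q : Subgroup ↥C) ≤ ((Cfsg.pCore p ↥N).map N.subtype).subgroupOf C := by
      rw [hQ]
      intro x hx
      exact hB1 ((hTLmem x.1).mpr ⟨hx, x.2⟩)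
    have heq := Q.is_maximal' hp hle
    intro d hd
    have h1 : (⟨d, hB2 hd⟩ : ↥C) ∈ ((Cfsg.pCore p ↥N).map N.subtype).subgroupOf C := hd
    rw [heq, hQ] at h1
    exact (hTLmem d).mpr ⟨h1, hB2 hd⟩
  refine ⟨le_antisymm hB3 hB1, ?_⟩
  -- (c)
  apply le_antisymm hYW
  -- X = W as a subgroup of N is p-reduced normal
  have hXn : (W.subgroupOf N).Normal := by
    constructor
    intro z hz g
    have hz' : (z : L) ∈ W := hz
    show (g : L) * (z : L) * (g : L)⁻¹ ∈ W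
    obtain ⟨h1, h2, h3⟩ := (hW _).mp hz'
    rw [hW]
    refine ⟨hNconj g.1 g.2 _ h1, ?_, ?_⟩
    · rw [Subgroup.mem_centralizer_iff]
      intro x hx
      have h4 := hWcomm _ hz' _ (hNconj' g.1 g.2 x hx)
      calc x * ((g : L) * (z : L) * (g : L)⁻¹)
          = (g : L) * (((g : L)⁻¹ * x * (g : L)) * (z : L)) * (g : L)⁻¹ := by group
        _ = (g : L) * ((z : L) * ((g : L)⁻¹ * x * (g : L))) * (g : L)⁻¹ := by rw [h4]
        _ = (g : L) * (z : L) * (g : L)⁻¹ * x := by group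
    · rw [conj_pow, h3]; group
  have hXe : Cfsg.IsElementaryAbelian p (W.subgroupOf N) := by
    refine ⟨⟨⟨fun a b => Subtype.ext (Subtype.ext ?_)⟩⟩, fun a ha => Subtype.ext ?_⟩
    · exact hWcomm b.1.1 b.2 a.1.1 (hWTL a.2)
    · exact ((hW a.1).mp ha).2.2
  haveI := hXn
  have hXCn : (Subgroup.centralizer ((W.subgroupOf N : Subgroup ↥N) : Set ↥N)).Normal := inferInstance
  have hXred : Cfsg.IsPReducedNormal p (W.subgroupOf N) := by
    refine ⟨hXn, hXe, hXCn, ?_⟩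
    rw [Cfsg.Agent.Helper9.pCore_quotient_eq_bot_iff]
    intro D hDn hDp
    haveI := hDn
    have hD0C : D.map N.subtype ≤ C := by
      apply le_of_normalized C hred N hA
      · rintro n hn d ⟨d', hd', rfl⟩
        exact ⟨(⟨n, hn⟩ : ↥N) * d' * (⟨n, hn⟩ : ↥N)⁻¹, hDn.conj_mem d' hd' ⟨n, hn⟩, rfl⟩
      · rintro d ⟨d', hd', rfl⟩
        obtain ⟨k, hk⟩ := hDp d' hd'
        refine ⟨k, ?_⟩
        rw [hCmem]
        intro y hy
        have hyX : (⟨y, hWN (hYW hy)⟩ : ↥N) ∈ W.subgroupOf N := hYW hy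
        have h5 := congrArg Subtype.val (Subgroup.mem_centralizer_iff.mp hk _ hyX)
        exact h5
    intro d hd
    obtain ⟨c, hc, t, ht, hcD, htD, rfl⟩ := Cfsg.Agent.Helper9.exists_mul_of_pgroup_mod
      (T.subtype hTN) D (Subgroup.centralizer ((W.subgroupOf N : Subgroup ↥N) : Set ↥N)) hDp d hd
    refine mul_mem hc ?_
    have htT : (t : L) ∈ (T : Subgroup L) := ht
    have htC : (t : L) ∈ C := hD0C ⟨t, htD, rfl⟩
    have htTL : (t : L) ∈ TL := (hTLmem _).mpr ⟨htT, htC⟩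
    rw [Subgroup.mem_centralizer_iff]
    intro x hx
    have h6 := hWcomm x.1 hx t.1 htTL
    exact Subtype.ext h6.symm
  have hS := Cfsg.Agent.S2802.result hchar T N hTN (W.subgroupOf N) hXred
  have hle := hYmax _ hS
  intro z hz
  apply hle
  apply Subgroup.subset_normalClosure
  exact ⟨⟨z, hWN hz⟩, hz, rfl⟩

end Cfsg.Agent.S2803
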