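import Cfsg.Statements.S3003
import Cfsg.Agent.Helper15.CD
import Cfsg.Agent.Helper9.CoprimeGen
import Cfsg.Agent.S3514

set_option autoImplicit false
open Cfsg

namespace Cfsg.Agent.S3003

variable {G : Type*} [Group G]

theorem centralizer_singleton_le (a : G) :
    Subgroup.centralizer ({a} : Set G) ≤
      Subgroup.centralizer ((Subgroup.zpowers a : Subgroup G) : Set G) := by
  intro c hc
  rw [Subgroup.mem_centralizer_iff] at hc ⊢
  have hca : Commute a c := hc a (Set.mem_singleton a)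
  rintro y ⟨n, rfl⟩
  exact (hca.zpow_left n).eq

theorem inf_eq_bot_of_pgroup [Finite G] {p : ℕ} [Fact p.Prime] (Q R : Subgroup G)
    (hQp : IsPGroup p ↥Q) (hR : (Nat.card ↥R).Coprime p) : Q ⊓ R = ⊥ := by
  obtain ⟨n, hn⟩ := IsPGroup.iff_card.mp hQp
  apply disjoint_iff.mp
  apply Subgroup.disjoint_of_coprime_natCard
  rw [hn]
  exact Nat.Coprime.pow_left n hR.symm

/-- Part (a). -/
theorem partA [Finite G] {p : ℕ} [Fact p.Prime] (Q : Subgroup G) (hQp : IsPGroup p ↥Q)
    (hlarge : Cfsg.IsLarge Q) (G₁ : Subgroup G) (hQG : Q ≤ G₁) (R : Subgroup G)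
    (hR : (Nat.card ↥R).Coprime p) (hGR : G₁ ≤ Subgroup.normalizer (R : Set G)) (U : Subgroup G)
    (h : ∃ x ∈ U, x ≠ 1 ∧ ∃ g ∈ G₁, g * x * g⁻¹ ∈ Q ⊓ Subgroup.centralizer (Q : Set G)) :
    R ⊓ Subgroup.centralizer (U : Set G) = ⊥ := by
  obtain ⟨x, hxU, hx1, g, hg, hz⟩ := h
  have hQR : Q ⊓ R = ⊥ := inf_eq_bot_of_pgroup Q R hQp hR
  rw [eq_bot_iff]
  intro c hc
  obtain ⟨hcR, hcU⟩ := Subgroup.mem_inf.mp hc
  rw [Subgroup.mem_bot]
  -- conjugate
  have hgN := hGR hg
  have hc'R : g * c * g⁻¹ ∈ R := (Subgroup.mem_normalizer_iff.mp hgN c).mp hcR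
  have hcx : x * c = c * x := (Subgroup.mem_centralizer_iff.mp hcU) x hxU
  have hzC := (Subgroup.mem_inf.mp hz).2
  have hz1 : g * x * g⁻¹ ≠ 1 := by
    intro h1
    apply hx1
    have : x = g⁻¹ * (g * x * g⁻¹) * g := by group
    rw [this, h1]; group
  -- c' commutes with z
  have hcz : (g * c * g⁻¹) * (g * x * g⁻¹) = (g * x * g⁻¹) * (g * c * g⁻¹) := by
    have e1 : (g * c * g⁻¹) * (g * x * g⁻¹) = g * (c * x) * g⁻¹ := by group
    have e2 : (g * x * g⁻¹) * (g * c * g⁻¹) = g * (x * c) * g⁻¹ := by group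
    rw [e1, e2, hcx]
  -- c' normalizes zpowers z
  have hZle : Subgroup.zpowers (g * x * g⁻¹) ≤ Subgroup.centralizer (Q : Set G) := by
    rw [Subgroup.zpowers_le]; exact hzC
  have hZne : Subgroup.zpowers (g * x * g⁻¹) ≠ ⊥ := by
    intro hb
    apply hz1
    have : g * x * g⁻¹ ∈ (⊥ : Subgroup G) := hb ▸ Subgroup.mem_zpowers _
    simpa using this
  have hN := hlarge.2 _ hZle hZne
  have hc'cent : g * c * g⁻¹ ∈
      Subgroup.centralizer ((Subgroup.zpowers (g * x * g⁻¹) : Subgroup G) : Set G) := by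
    apply centralizer_singleton_le
    rw [Subgroup.mem_centralizer_iff]
    intro y hy
    rw [Set.mem_singleton_iff] at hy
    rw [hy]
    exact hcz.symm
  have hc'N : g * c * g⁻¹ ∈ Subgroup.normalizer (Q : Set G) :=
    hN (Subgroup.centralizer_le_normalizer _ hc'cent)
  -- c' centralizes Q
  have hc'CQ : g * c * g⁻¹ ∈ Subgroup.centralizer (Q : Set G) := by
    rw [Subgroup.mem_centralizer_iff]
    intro q hq
    have h1 : (g * c * g⁻¹) * q * (g * c * g⁻¹)⁻¹ ∈ Q :=
      (Subgroup.mem_normalizer_iff.mp hc'N q).mp hq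
    have h2 : q * (g * c * g⁻¹)⁻¹ * q⁻¹ ∈ R :=
      (Subgroup.mem_normalizer_iff.mp (hGR (hQG hq)) _).mp (R.inv_mem hc'R)
    have h3 : (g * c * g⁻¹) * q * (g * c * g⁻¹)⁻¹ * q⁻¹ ∈ Q ⊓ R := by
      apply Subgroup.mem_inf.mpr
      constructor
      · exact Q.mul_mem h1 (Q.inv_mem hq)
      · have : (g * c * g⁻¹) * q * (g * c * g⁻¹)⁻¹ * q⁻¹ =
            (g * c * g⁻¹) * (q * (g * c * g⁻¹)⁻¹ * q⁻¹) := by group
        rw [this]
        exact R.mul_mem hc'R h2
    rw [hQR, Subgroup.mem_bot] at h3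
    have : (g * c * g⁻¹) * q = q * (g * c * g⁻¹) := by
      have e : (g * c * g⁻¹) * q =
          ((g * c * g⁻¹) * q * (g * c * g⁻¹)⁻¹ * q⁻¹) * (q * (g * c * g⁻¹)) := by group
      rw [e, h3, one_mul]
    exact this.symm
  have hc'Q : g * c * g⁻¹ ∈ Q := hlarge.1 hc'CQ
  have hc'1 : g * c * g⁻¹ ∈ Q ⊓ R := Subgroup.mem_inf.mpr ⟨hc'Q, hc'R⟩
  rw [hQR, Subgroup.mem_bot] at hc'1
  have : c = g⁻¹ * (g * c * g⁻¹) * g := by group
  rw [this, hc'1]; group

theorem le_centralizer_of_comm (U : Subgroup G) [hU : IsMulCommutative ↥U] :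
    U ≤ Subgroup.centralizer (U : Set G) :=
  Subgroup.le_centralizer_iff_isMulCommutative.mpr hU

theorem isMulCommutative_of_le {W U : Subgroup G} (hWU : W ≤ U) [hU : IsMulCommutative ↥U] :
    IsMulCommutative ↥W := by
  apply Subgroup.le_centralizer_iff_isMulCommutative.mp
  intro w hw
  exact Subgroup.centralizer_le (SetLike.coe_subset_coe.mpr hWU) (le_centralizer_of_comm U (hWU hw))

theorem card_sup_zpowers [Finite G] {p : ℕ} [Fact p.Prime]
    (U : Subgroup G) [IsMulCommutative ↥U] (hexp : ∀ u ∈ U, u ^ p = 1) (W : Subgroup G)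
    (hW : W ≤ U) (u : G) (hu : u ∈ U) (huW : u ∉ W) :
    Nat.card (W ⊔ Subgroup.zpowers u : Subgroup G) = Nat.card W * p := by
  have hp : p.Prime := Fact.out
  have hZn : Subgroup.zpowers u ≤ Subgroup.normalizer (W : Set G) := by
    rw [Subgroup.zpowers_le]
    exact Subgroup.centralizer_le_normalizer _
      (Subgroup.centralizer_le (SetLike.coe_subset_coe.mpr hW) (le_centralizer_of_comm U hu))
  have hu1 : u ≠ 1 := fun h => huW (h ▸ W.one_mem)
  have hcZ : Nat.card (Subgroup.zpowers u) = p := by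
    rw [Nat.card_zpowers]
    exact orderOf_eq_prime (hexp u hu) hu1
  have hinf : Nat.card (W ⊓ Subgroup.zpowers u : Subgroup G) = 1 := by
    have hdvd : Nat.card (W ⊓ Subgroup.zpowers u : Subgroup G) ∣ p := by
      rw [← hcZ]
      exact Subgroup.card_dvd_of_le inf_le_right
    rcases (Nat.dvd_prime hp).mp hdvd with h1 | h1
    · exact h1
    · exfalso
      have heq : W ⊓ Subgroup.zpowers u = Subgroup.zpowers u :=
        Subgroup.eq_of_le_of_card_ge inf_le_right (by rw [h1, hcZ])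
      apply huW
      have : u ∈ W ⊓ Subgroup.zpowers u := by rw [heq]; exact Subgroup.mem_zpowers u
      exact (Subgroup.mem_inf.mp this).1
  have := Cfsg.Agent.S3514.card_sup_mul_card_inf W (Subgroup.zpowers u) hZn
  rw [hinf, hcZ, mul_one] at this
  exact this

theorem exists_hyperplane_not_mem [Finite G] {p : ℕ} [Fact p.Prime]
    (U : Subgroup G) [IsMulCommutative ↥U] (hexp : ∀ u ∈ U, u ^ p = 1) (a : G) (ha : a ∈ U)
    (ha1 : a ≠ 1) :
    ∃ W : Subgroup G, W ≤ U ∧ a ∉ W ∧ Nat.card W * p = Nat.card U := by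
  classical
  have hp : p.Prime := Fact.out
  let 𝒯 : Set (Subgroup G) := {X | X ≤ U ∧ a ∉ X}
  have hne' : 𝒯.Nonempty := ⟨⊥, bot_le, by simpa using ha1⟩
  obtain ⟨W, hW, hmax⟩ := Set.exists_max_image 𝒯 (fun X => Nat.card ↥X) (Set.toFinite 𝒯) hne'
  obtain ⟨hWU, haW⟩ := hW
  refine ⟨W, hWU, haW, ?_⟩
  have hcard := card_sup_zpowers U hexp W hWU a ha haW
  have hle : U ≤ W ⊔ Subgroup.zpowers a := by
    intro u hu
    by_cases huW : u ∈ W
    · exact (le_sup_left : W ≤ W ⊔ Subgroup.zpowers a) huW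
    · have hc2 := card_sup_zpowers U hexp W hWU u hu huW
      have hW'U : W ⊔ Subgroup.zpowers u ≤ U := sup_le hWU (by rw [Subgroup.zpowers_le]; exact hu)
      have haW' : a ∈ W ⊔ Subgroup.zpowers u := by
        by_contra hcon
        have := hmax (W ⊔ Subgroup.zpowers u) ⟨hW'U, hcon⟩
        rw [hc2] at this
        have hpos : 0 < Nat.card W := Nat.card_pos
        have := hp.two_le
        nlinarith
      have hle2 : W ⊔ Subgroup.zpowers a ≤ W ⊔ Subgroup.zpowers u :=
        sup_le le_sup_left (by rw [Subgroup.zpowers_le]; exact haW')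
      have heq : W ⊔ Subgroup.zpowers a = W ⊔ Subgroup.zpowers u :=
        Subgroup.eq_of_le_of_card_ge hle2 (by rw [hc2, hcard])
      rw [heq]
      exact (le_sup_right : Subgroup.zpowers u ≤ W ⊔ Subgroup.zpowers u) (Subgroup.mem_zpowers u)
  have hUeq : U = W ⊔ Subgroup.zpowers a :=
    le_antisymm hle (sup_le hWU (by rw [Subgroup.zpowers_le]; exact ha))
  rw [← hcard, ← hUeq]

theorem not_isCyclic_of_exp [Finite G] {p : ℕ} [Fact p.Prime]
    (U : Subgroup G) (hexp : ∀ u ∈ U, u ^ p = 1) (hcard : p ^ 2 ≤ Nat.card U) : ¬ IsCyclic ↥U := by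
  intro hcyc
  have hp : p.Prime := Fact.out
  obtain ⟨g, hg⟩ := hcyc.exists_generator
  have h1 : orderOf g = Nat.card ↥U := orderOf_eq_card_of_forall_mem_zpowers hg
  have h2 : g ^ p = 1 := Subtype.ext (by simpa using hexp g g.2)
  have h3 : orderOf g ∣ p := orderOf_dvd_of_pow_eq_one h2
  have h4 := Nat.le_of_dvd hp.pos h3
  have := hp.two_le
  nlinarith

theorem key [Finite G] (p : ℕ) [Fact p.Prime] : ∀ n : ℕ, ∀ (U R : Subgroup G),
    IsMulCommutative ↥U → (∀ u ∈ U, u ^ p = 1) → Nat.card U = n → p ^ 2 ≤ n →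
    U ≤ Subgroup.normalizer (R : Set G) → (Nat.card ↥R).Coprime p →
    (∀ U₀ : Subgroup G, U₀ ≤ U → Nat.card U₀ * p = Nat.card U →
      R ⊓ Subgroup.centralizer (U₀ : Set G) = ⊥) → R = ⊥ := by
  intro n
  induction n using Nat.strong_induction_on with
  | _ n ih =>
    intro U R hUc hexp hn hn2 hUR hR hhyp
    have hp : p.Prime := Fact.out
    have := hUc
    have hncyc : ¬ IsCyclic ↥U := not_isCyclic_of_exp U hexp (hn ▸ hn2)
    have hUp : IsPGroup p ↥U := by
      intro u
      refine ⟨1, ?_⟩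
      rw [pow_one]
      exact Subtype.ext (by simpa using hexp u u.2)
    obtain ⟨k, hk⟩ := IsPGroup.iff_card.mp hUp
    have hcop : (Nat.card ↥U).Coprime (Nat.card ↥R) := by
      rw [hk]
      exact Nat.Coprime.pow_left k hR.symm
    have hgen := Cfsg.Agent.Helper9.coprime_generation U R hncyc hUR hcop
    rw [← hgen]
    show (⨆ a ∈ {a : G | a ∈ U ∧ a ≠ 1}, R ⊓ Subgroup.centralizer {a}) = ⊥
    rw [eq_bot_iff]
    apply iSup₂_le
    rintro a ⟨haU, ha1⟩
    rw [← eq_bot_iff]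
    by_cases hcase : Nat.card ↥U = p ^ 2
    · have hcZ : Nat.card (Subgroup.zpowers a) = p := by
        rw [Nat.card_zpowers]
        exact orderOf_eq_prime (hexp a haU) ha1
      have h0 := hhyp (Subgroup.zpowers a) (by rw [Subgroup.zpowers_le]; exact haU)
        (by rw [hcZ, hcase]; ring)
      rw [eq_bot_iff] at h0 ⊢
      exact le_trans (inf_le_inf_left R (centralizer_singleton_le a)) h0
    · obtain ⟨W, hWU, haW, hWcard⟩ := exists_hyperplane_not_mem U hexp a haU ha1
      have hk3 : 3 ≤ k := by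
        by_contra hk3
        have hk2 : k ≤ 2 := by omega
        have h2k : 2 ≤ k := by
          by_contra h2k
          have hk1 : k ≤ 1 := by omega
          have h5 : p ^ k ≤ p ^ 1 := Nat.pow_le_pow_right hp.pos hk1
          have h6 : p ^ 2 ≤ p ^ k := by rw [← hk, hn]; exact hn2
          have h7 : p ^ 1 < p ^ 2 := Nat.pow_lt_pow_right hp.one_lt (by norm_num)
          omega
        have : k = 2 := le_antisymm hk2 h2k
        rw [this] at hk
        exact hcase hk
      have hWc : Nat.card ↥W = p ^ (k - 1) := by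
        have h8 : Nat.card ↥W * p = p ^ (k - 1) * p := by
          rw [hWcard, hk, ← pow_succ]
          congr 1
          omega
        exact Nat.eq_of_mul_eq_mul_right hp.pos h8
      have hW2 : p ^ 2 ≤ Nat.card ↥W := by
        rw [hWc]
        exact Nat.pow_le_pow_right hp.pos (by omega)
      have hWlt : Nat.card ↥W < n := by
        rw [← hn, ← hWcard]
        have hpos : 0 < Nat.card ↥W := Nat.card_pos
        have := hp.two_le
        nlinarith
      have hWc' : IsMulCommutative ↥W := isMulCommutative_of_le hWU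
      have hacent : ∀ w ∈ U, w ∈ Subgroup.centralizer ({a} : Set G) := by
        intro w hw
        exact Subgroup.centralizer_le (by simpa using haU) (le_centralizer_of_comm U hw)
      apply ih (Nat.card ↥W) hWlt W (R ⊓ Subgroup.centralizer {a}) hWc'
        (fun u hu => hexp u (hWU hu)) rfl hW2
      · intro w hw
        have hwR := hUR (hWU hw)
        have hwC : w ∈ Subgroup.normalizer ((Subgroup.centralizer ({a} : Set G) : Subgroup G) : Set G) :=
          Subgroup.le_normalizer (hacent w (hWU hw))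
        rw [Subgroup.mem_normalizer_iff] at hwR hwC ⊢
        intro h
        constructor
        · intro hh
          obtain ⟨h1, h2⟩ := Subgroup.mem_inf.mp hh
          exact Subgroup.mem_inf.mpr ⟨(hwR h).mp h1, (hwC h).mp h2⟩
        · intro hh
          obtain ⟨h1, h2⟩ := Subgroup.mem_inf.mp hh
          exact Subgroup.mem_inf.mpr ⟨(hwR h).mpr h1, (hwC h).mpr h2⟩
      · exact Nat.Coprime.coprime_dvd_left (Subgroup.card_dvd_of_le inf_le_left) hR
      · intro W₀ hW₀ hW₀c
        have haW₀ : a ∉ W₀ := fun h => haW (hW₀ h)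
        have hX := card_sup_zpowers U hexp W₀ (le_trans hW₀ hWU) a haU haW₀
        have hXU : W₀ ⊔ Subgroup.zpowers a ≤ U :=
          sup_le (le_trans hW₀ hWU) (by rw [Subgroup.zpowers_le]; exact haU)
        have h0 := hhyp (W₀ ⊔ Subgroup.zpowers a) hXU (by rw [hX, hW₀c, hWcard])
        rw [eq_bot_iff] at h0 ⊢
        refine le_trans ?_ h0
        rw [Cfsg.Agent.Helper15.centralizer_sup_eq]
        intro c hc
        obtain ⟨hc1, hc2⟩ := Subgroup.mem_inf.mp hc
        obtain ⟨hc3, hc4⟩ := Subgroup.mem_inf.mp hc1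
        exact Subgroup.mem_inf.mpr ⟨hc3, Subgroup.mem_inf.mpr ⟨hc2, centralizer_singleton_le a hc4⟩⟩

theorem isCoatom_of_card [Finite G] {p : ℕ} [Fact p.Prime] (U U₀ : Subgroup G) (h : U₀ ≤ U)
    (hc : Nat.card U₀ * p = Nat.card U) : IsCoatom (U₀.subgroupOf U) := by
  have hp : p.Prime := Fact.out
  have hcs : Nat.card (U₀.subgroupOf U) = Nat.card U₀ :=
    Nat.card_congr (Subgroup.subgroupOfEquivOfLe h).toEquiv
  have hpos : 0 < Nat.card U₀ := Nat.card_pos
  constructor
  · intro htop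
    have : Nat.card (U₀.subgroupOf U) = Nat.card ↥U := by
      rw [htop]; exact Subgroup.card_top
    rw [hcs] at this
    have := hp.two_le
    nlinarith
  · intro b hb
    obtain ⟨m, hm⟩ := Subgroup.card_dvd_of_le hb.le
    have hdvd : Nat.card b ∣ Nat.card ↥U := Subgroup.card_subgroup_dvd_card b
    rw [hm, hcs, ← hc] at hdvd
    have hmp : m ∣ p := Nat.dvd_of_mul_dvd_mul_left hpos hdvd
    rcases (Nat.dvd_prime hp).mp hmp with h1 | h1
    · exfalso
      rw [h1, mul_one] at hm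
      exact hb.ne (Subgroup.eq_of_le_of_card_ge hb.le hm.le)
    · rw [h1, hcs, hc] at hm
      exact (Subgroup.card_eq_iff_eq_top b).mp hm

/-- Let G be a finite group, p a prime and Q a large p-subgroup of G: C_G(Q) ≤ Q and N_G(U) ≤ N_G(Q) for every nontrivial subgroup U of C_G(Q). Let Q ≤ G₁ ≤ G, let R be a subgroup of order prime to p normalized by G₁, and let U ≤ G₁ be a p-subgroup. If U contains a nontrivial element which is G₁-conjugate to an element of Z(Q), then C_R(U) = 1. In particular, if U is elementary abelian of order at least p² and every maximal subgroup of U contains a nontrivial element G₁-conjugate into Z(Q), then R = 1. -/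
theorem result {G : Type*} [Group G] [Finite G] {p : ℕ} [Fact p.Prime] (Q : Subgroup G) (hQp : IsPGroup p ↥Q) (hlarge : Cfsg.IsLarge Q) (G₁ : Subgroup G) (hQG : Q ≤ G₁) (R : Subgroup G) (hR : (Nat.card ↥R).Coprime p) (hGR : G₁ ≤ Subgroup.normalizer (R : Set G)) (U : Subgroup G) (hUG : U ≤ G₁) (hUp : IsPGroup p ↥U) : ((∃ x ∈ U, x ≠ 1 ∧ ∃ g ∈ G₁, g * x * g⁻¹ ∈ Q ⊓ Subgroup.centralizer (Q : Set G)) → R ⊓ Subgroup.centralizer (U : Set G) = ⊥) ∧ (Cfsg.IsElementaryAbelian p U → p ^ 2 ≤ Nat.card ↥U → (∀ U₀ : Subgroup G, U₀ ≤ U → IsCoatom (U₀.subgroupOf U) → ∃ x ∈ U₀, x ≠ 1 ∧ ∃ g ∈ G₁, g * x * g⁻¹ ∈ Q ⊓ Subgroup.centralizer (Q : Set G)) → R = ⊥) := by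
  refine ⟨partA Q hQp hlarge G₁ hQG R hR hGR U, ?_⟩
  intro hEA hcard hhyp
  obtain ⟨hcomm, hexp⟩ := hEA
  apply key p (Nat.card ↥U) U R hcomm hexp rfl hcard (le_trans hUG hGR) hR
  intro U₀ hU₀ hU₀c
  exact partA Q hQp hlarge G₁ hQG R hR hGR U₀ (hhyp U₀ hU₀ (isCoatom_of_card U U₀ hU₀ hU₀c))

end Cfsg.Agent.S3003
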