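import Cfsg.Statements.S3058
import Cfsg.Agent.Helper15.SE
import Cfsg.Agent.Helper15.Iso
import Cfsg.Agent.S3056
import Cfsg.Agent.S3003
import Cfsg.Agent.Helper9.CoprimeGen

set_option autoImplicit false
open Cfsg

namespace Cfsg.Agent.S3058

open Cfsg.Agent.Helper15

/-- The elements of order dividing `p` in `P ∩ C_G(P)`. -/
def omegaCenter {G : Type*} [Group G] (p : ℕ) (P : Subgroup G) : Subgroup G where
  carrier := {u | u ∈ P ∧ u ∈ Subgroup.centralizer (P : Set G) ∧ u ^ p = 1}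
  one_mem' := ⟨P.one_mem, Subgroup.one_mem _, one_pow p⟩
  mul_mem' := by
    rintro u v ⟨hu1, hu2, hu3⟩ ⟨hv1, hv2, hv3⟩
    refine ⟨P.mul_mem hu1 hv1, Subgroup.mul_mem _ hu2 hv2, ?_⟩
    have hc : Commute u v := by
      rw [Subgroup.mem_centralizer_iff] at hv2
      exact hv2 u hu1
    rw [hc.mul_pow, hu3, hv3, one_mul]
  inv_mem' := by
    rintro u ⟨hu1, hu2, hu3⟩
    exact ⟨P.inv_mem hu1, Subgroup.inv_mem _ hu2, by rw [inv_pow, hu3, inv_one]⟩

theorem core {G : Type*} [Group G] [Finite G] (p : ℕ) [Fact p.Prime]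
    (H : Subgroup G) (hH : H ≠ ⊤) (hpH : p ∣ Nat.card H)
    (hse : ∀ g : G, g ∉ H → ¬ p ∣ Nat.card ↥(H ⊓ H.map (MulAut.conj g).toMonoidHom))
    (N M : Subgroup G) [hNn : N.Normal] [hMn : M.Normal] (hN : p ∣ Nat.card N)
    (hM : p ∣ Nat.card M) : p ∣ Nat.card ↥(N ⊓ M) := by
  have hp : p.Prime := Fact.out
  by_contra hK
  have hKcop : (Nat.card ↥(N ⊓ M)).Coprime p := ((Nat.Prime.coprime_iff_not_dvd hp).mpr hK).symm
  obtain ⟨P, hPH⟩ := cse_exists_sylow_le hpH hse
  have hA1 : (P : Subgroup G) ⊓ N ≠ ⊥ := inf_normal_ne_bot P N hN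
  have hPK : (P : Subgroup G) ⊓ (N ⊓ M) = ⊥ :=
    Cfsg.Agent.S3003.inf_eq_bot_of_pgroup _ _ P.isPGroup' hKcop
  obtain ⟨a, haP, haN, ha1, hap, haZ⟩ := exists_central_order_p P N hN
  obtain ⟨b, hbP, hbM, hb1, hbp, hbZ⟩ := exists_central_order_p P M hM
  have hEO : Subgroup.zpowers a ⊔ Subgroup.zpowers b ≤ omegaCenter p (P : Subgroup G) := by
    apply sup_le
    · rw [Subgroup.zpowers_le]; exact ⟨haP, haZ, hap⟩
    · rw [Subgroup.zpowers_le]; exact ⟨hbP, hbZ, hbp⟩
  have hEP : Subgroup.zpowers a ⊔ Subgroup.zpowers b ≤ (P : Subgroup G) :=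
    fun u hu => (hEO hu).1
  have hexp : ∀ u ∈ Subgroup.zpowers a ⊔ Subgroup.zpowers b, u ^ p = 1 :=
    fun u hu => (hEO hu).2.2
  have hEcomm : IsMulCommutative ↥(Subgroup.zpowers a ⊔ Subgroup.zpowers b) := by
    apply Subgroup.le_centralizer_iff_isMulCommutative.mp
    intro u hu
    exact Subgroup.centralizer_le (SetLike.coe_subset_coe.mpr hEP) (hEO hu).2.1
  have hEp : IsPGroup p ↥(Subgroup.zpowers a ⊔ Subgroup.zpowers b) := P.isPGroup'.to_le hEP
  obtain ⟨k, hk⟩ := IsPGroup.iff_card.mp hEp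
  have hcZ : Nat.card (Subgroup.zpowers a) = p := by
    rw [Nat.card_zpowers]
    exact orderOf_eq_prime hap ha1
  have hk2 : 2 ≤ k := by
    by_contra hk2
    have hk1 : k ≤ 1 := by omega
    have hle : Nat.card ↥(Subgroup.zpowers a ⊔ Subgroup.zpowers b) ≤ Nat.card (Subgroup.zpowers a) := by
      rw [hk, hcZ]
      calc p ^ k ≤ p ^ 1 := Nat.pow_le_pow_right hp.pos hk1
        _ = p := pow_one p
    have heq : Subgroup.zpowers a = Subgroup.zpowers a ⊔ Subgroup.zpowers b :=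
      Subgroup.eq_of_le_of_card_ge le_sup_left hle
    have hb' : b ∈ Subgroup.zpowers a := by
      rw [heq]
      exact (le_sup_right : Subgroup.zpowers b ≤ _) (Subgroup.mem_zpowers b)
    have hbN : b ∈ N := by
      have : Subgroup.zpowers a ≤ N := by rw [Subgroup.zpowers_le]; exact haN
      exact this hb'
    have : b ∈ (P : Subgroup G) ⊓ (N ⊓ M) :=
      Subgroup.mem_inf.mpr ⟨hbP, Subgroup.mem_inf.mpr ⟨hbN, hbM⟩⟩
    rw [hPK, Subgroup.mem_bot] at this
    exact hb1 this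
  have hcard2 : p ^ 2 ≤ Nat.card ↥(Subgroup.zpowers a ⊔ Subgroup.zpowers b) := by
    rw [hk]; exact Nat.pow_le_pow_right hp.pos hk2
  have hncyc : ¬ IsCyclic ↥(Subgroup.zpowers a ⊔ Subgroup.zpowers b) :=
    Cfsg.Agent.S3003.not_isCyclic_of_exp _ hexp hcard2
  have hKnorm : (N ⊓ M).Normal := inferInstance
  have hEK : Subgroup.zpowers a ⊔ Subgroup.zpowers b ≤
      Subgroup.normalizer ((N ⊓ M : Subgroup G) : Set G) := by
    rw [Subgroup.normalizer_eq_top]; exact le_top
  have hcop : (Nat.card ↥(Subgroup.zpowers a ⊔ Subgroup.zpowers b)).Coprime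
      (Nat.card ↥(N ⊓ M)) := by
    rw [hk]; exact Nat.Coprime.pow_left k hKcop.symm
  have hgen := Cfsg.Agent.Helper9.coprime_generation
    (Subgroup.zpowers a ⊔ Subgroup.zpowers b) (N ⊓ M) hncyc hEK hcop
  have hKH : N ⊓ M ≤ H := by
    rw [← hgen]
    show (⨆ e ∈ {e : G | e ∈ Subgroup.zpowers a ⊔ Subgroup.zpowers b ∧ e ≠ 1},
      (N ⊓ M) ⊓ Subgroup.centralizer {e}) ≤ H
    apply iSup₂_le
    rintro e ⟨heE, he1⟩
    intro c hc
    obtain ⟨-, hcC⟩ := Subgroup.mem_inf.mp hc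
    have hce : c * e * c⁻¹ = e := conj_eq_of_mem_centralizer_singleton hcC
    have hep : e ^ p ^ 1 = 1 := by rw [pow_one]; exact hexp e heE
    apply cse_mem_of_conj_mem hse he1 hep (hPH (hEP heE)) c
    rw [hce]; exact hPH (hEP heE)
  have hMH : M ≤ H := by
    intro m hm
    have hap' : a ^ p ^ 1 = 1 := by rw [pow_one]; exact hap
    apply cse_mem_of_conj_mem hse ha1 hap' (hPH haP) m
    have h1 : m * a * m⁻¹ * a⁻¹ ∈ N ⊓ M := by
      apply Subgroup.mem_inf.mpr
      constructor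
      · exact N.mul_mem (hNn.conj_mem a haN m) (N.inv_mem haN)
      · have : m * a * m⁻¹ * a⁻¹ = m * (a * m⁻¹ * a⁻¹) := by group
        rw [this]
        exact M.mul_mem hm (hMn.conj_mem m⁻¹ (M.inv_mem hm) a)
    have : m * a * m⁻¹ = (m * a * m⁻¹ * a⁻¹) * a := by group
    rw [this]
    exact H.mul_mem (hKH h1) (hPH haP)
  obtain ⟨g, hg⟩ : ∃ g : G, g ∉ H := by
    by_contra hcon
    push Not at hcon
    exact hH (eq_top_iff.mpr (fun x _ => hcon x))
  apply hse g hg
  have hMle : M ≤ H ⊓ H.map (MulAut.conj g).toMonoidHom := by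
    intro m hm
    apply Subgroup.mem_inf.mpr
    refine ⟨hMH hm, g⁻¹ * m * g, hMH ?_, ?_⟩
    · have := hMn.conj_mem m hm g⁻¹
      simpa using this
    · simp [MulAut.conj_apply, mul_assoc]
  exact dvd_trans hM (Subgroup.card_dvd_of_le hMle)

/-- Let p be a prime and G a finite group whose Sylow p-subgroups are not chain-connected through nontrivial intersections (so G has a strongly p-embedded subgroup). If N and M are normal subgroups of G whose orders are both divisible by p, then the order of N ∩ M is divisible by p. Consequently, among the normal subgroups of G whose order is divisible by p there is a smallest one (the intersection of all of them). -/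
theorem result {G : Type*} [Group G] [Finite G]
    (p : ℕ) [Fact p.Prime] (hG : ¬ Cfsg.IsSylowChainConnected p G)
    (N M : Subgroup G) [N.Normal] [M.Normal] (hN : p ∣ Nat.card N) (hM : p ∣ Nat.card M) :
    p ∣ Nat.card ↥(N ⊓ M) := by
  obtain ⟨H, hH, hpH, hse⟩ := (Cfsg.Agent.S3056.result p).mp hG
  exact core p H hH hpH hse N M hN hM

end Cfsg.Agent.S3058
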