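import Cfsg.Statements.S0121
import Mathlib

set_option autoImplicit false
open Cfsg

namespace Cfsg.Agent.S0121

/-- A p'-automorphism of a p-group acting trivially on a critical subgroup is trivial. -/
theorem result {G : Type*} [Group G] [Finite G] {p : ℕ} [Fact p.Prime] (hG : IsPGroup p G) (H : Subgroup G) (hH : H.Characteristic) (h1 : (frattini H).map H.subtype ≤ Subgroup.centralizer (H : Set G)) (h2 : ⁅H, (⊤ : Subgroup G)⁆ ≤ H ⊓ Subgroup.centralizer (H : Set G)) (h3 : Subgroup.centralizer (H : Set G) ≤ H) (a : MulAut G) (ha : Nat.Coprime (orderOf a) p) (h : ∀ x ∈ H, a x = x) : a = 1 := by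
  haveI hHn : H.Normal := Subgroup.normal_of_characteristic H
  apply MulEquiv.ext
  intro g
  show a g = g
  have hc : g⁻¹ * a g ∈ Subgroup.centralizer (H : Set G) := by
    rw [Subgroup.mem_centralizer_iff]
    intro x hx
    have hx' : g * x * g⁻¹ ∈ H := hHn.conj_mem x hx g
    have e1 : a (g * x * g⁻¹) = g * x * g⁻¹ := h _ hx'
    rw [map_mul, map_mul, map_inv, h x hx] at e1
    have e2 : a g * x = g * x * g⁻¹ * a g := by
      rw [← e1]; group
    calc x * (g⁻¹ * a g) = g⁻¹ * (g * x * g⁻¹ * a g) := by group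
      _ = g⁻¹ * (a g * x) := by rw [e2]
      _ = g⁻¹ * a g * x := by group
  have hcH : g⁻¹ * a g ∈ H := h3 hc
  have hfix : a (g⁻¹ * a g) = g⁻¹ * a g := h _ hcH
  have hpow : ∀ k : ℕ, (a ^ k) g = g * (g⁻¹ * a g) ^ k := by
    intro k
    induction k with
    | zero => simp
    | succ k ih =>
      rw [pow_succ', MulAut.mul_apply, ih, map_mul, map_pow, hfix,
        pow_succ' (g⁻¹ * a g) k, ← mul_assoc, mul_inv_cancel_left]
  have hm : (g⁻¹ * a g) ^ orderOf a = 1 := by
    have h4 := hpow (orderOf a)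
    rw [pow_orderOf_eq_one, MulAut.one_apply] at h4
    exact mul_eq_left.mp h4.symm
  obtain ⟨j, hj⟩ := hG (g⁻¹ * a g)
  have d1 : orderOf (g⁻¹ * a g) ∣ orderOf a := orderOf_dvd_of_pow_eq_one hm
  have d2 : orderOf (g⁻¹ * a g) ∣ p ^ j := orderOf_dvd_of_pow_eq_one hj
  have d3 : orderOf (g⁻¹ * a g) ∣ 1 := by
    have h5 := Nat.dvd_gcd d1 d2
    rwa [Nat.Coprime.gcd_eq_one (ha.pow_right j)] at h5
  have hc1 : g⁻¹ * a g = 1 := orderOf_eq_one_iff.mp (Nat.dvd_one.mp d3)
  exact (inv_mul_eq_one.mp hc1).symm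

end Cfsg.Agent.S0121
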