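import Cfsg.Statements.S5160
import Cfsg.Agent.Helper25.SimpleCrit
import Cfsg.Agent.Helper25.GroupFusion2

set_option autoImplicit false
open Cfsg

namespace Cfsg.Agent.S5160

open Cfsg.FusionSystem Cfsg.Agent.Helper26 Cfsg.Agent.Helper25

/-- Let G be a finite group with nontrivial Sylow p-subgroup S and F its fusion system on S. Suppose (a) no nontrivial proper subgroup of S is strongly closed in F, and (b) the automorphisms of S induced by G are generated by those induced, for R running over the fully normalized radical centric subgroups of F, by the subgroup of N_G(R) generated by its elements of p-power order. Then F is simple. -/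
theorem result {G : Type*} [Group G] [Finite G] (p : ℕ) [Fact p.Prime] (S : Sylow p G) (hS1 : (S : Subgroup G) ≠ ⊥) (ha : ∀ T : Subgroup G, (Cfsg.groupFusionSystem (S : Subgroup G)).StronglyClosed T → T = ⊥ ∨ T = (S : Subgroup G)) (hb : Cfsg.autInducedBy ⊤ (S : Subgroup G) = ⨆ (R : Subgroup G) (_ : (Cfsg.groupFusionSystem (S : Subgroup G)).IsFullyNormalized R ∧ (Cfsg.groupFusionSystem (S : Subgroup G)).IsRadical p R ∧ (Cfsg.groupFusionSystem (S : Subgroup G)).IsCentric R), Cfsg.autInducedBy (Subgroup.closure {g : G | g ∈ Subgroup.normalizer (R : Set G) ∧ ∃ k : ℕ, orderOf g = p ^ k}) (S : Subgroup G)) : (Cfsg.groupFusionSystem (S : Subgroup G)).IsSimple p := by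
  have hSp : IsPGroup p (S : Subgroup G) := S.isPGroup'
  have hF := Cfsg.Agent.Helper25.groupFusionSystem_isSaturated p S
  refine ⟨hF, hS1, ?_⟩
  intro T E hE
  obtain ⟨⟨hEsat, -, hEsub, hTsc, -, hFr⟩, -⟩ := hE
  rcases ha T hTsc with hT | hT
  · exact Or.inl hT
  · right
    subst hT
    refine ⟨rfl, fun P => Set.Subset.antisymm (hEsub P) ?_⟩
    have hp : ∀ (P : Subgroup G), P ≤ (S : Subgroup G) → ∀ τ : MulAut P,
        τ ∈ (groupFusionSystem (S : Subgroup G)).autGroup P → ∀ k : ℕ, τ ^ p ^ k = 1 →
        τ ∈ E.autGroup P :=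
      fun P hP τ hτ k hk =>
        pElt_mem_of_frattini (groupFusionSystem (S : Subgroup G)) E hF hFr hP τ hτ k hk
    have hsup : (⨆ (R : Subgroup G) (_ : (Cfsg.groupFusionSystem (S : Subgroup G)).IsFullyNormalized R ∧ (Cfsg.groupFusionSystem (S : Subgroup G)).IsRadical p R ∧ (Cfsg.groupFusionSystem (S : Subgroup G)).IsCentric R), Cfsg.autInducedBy (Subgroup.closure {g : G | g ∈ Subgroup.normalizer (R : Set G) ∧ ∃ k : ℕ, orderOf g = p ^ k}) (S : Subgroup G)) ≤ E.autGroup (S : Subgroup G) := by
      refine iSup_le fun R => iSup_le fun hR => ?_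
      obtain ⟨-, -, hRc⟩ := hR
      intro α hα
      obtain ⟨g, hg, hgx⟩ := (mem_autInducedBy_iff _ _ α).1 hα
      have hαF : α ∈ (groupFusionSystem (S : Subgroup G)).autGroup (S : Subgroup G) :=
        Subgroup.subset_closure ⟨le_rfl, fun x => (α x).2, g, hgx⟩
      have hgR : ∃ hgN : g ∈ Subgroup.normalizer (R : Set G), conjAut R g hgN ∈ E.autGroup R := by
        refine Subgroup.closure_induction (p := fun g _ => ∃ hgN : g ∈ Subgroup.normalizer (R : Set G), conjAut R g hgN ∈ E.autGroup R) ?_ ?_ ?_ ?_ hg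
        · rintro x ⟨hxN, k, hk⟩
          refine ⟨hxN, hp R hRc.1 _ ?_ k ?_⟩
          · exact Subgroup.subset_closure
              ⟨hRc.1, fun y => hRc.1 (conjAut R x hxN y).2, x, fun y => rfl⟩
          · apply MulEquiv.ext
            intro y
            apply Subtype.ext
            rw [autInducedBy_pow (conjAut_apply R x hxN)]
            have h1 : x ^ p ^ k = 1 := by rw [← hk]; exact pow_orderOf_eq_one x
            rw [h1]; simp
        · refine ⟨Subgroup.one_mem _, ?_⟩
          have h1 : conjAut R 1 (Subgroup.one_mem _) = 1 := by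
            apply MulEquiv.ext; intro y; apply Subtype.ext
            show (1 : G) * y * 1⁻¹ = y
            simp
          rw [h1]; exact Subgroup.one_mem _
        · rintro x y _ _ ⟨hxN, hx⟩ ⟨hyN, hy⟩
          refine ⟨Subgroup.mul_mem _ hxN hyN, ?_⟩
          have h1 : conjAut R (x * y) (Subgroup.mul_mem _ hxN hyN) =
              conjAut R x hxN * conjAut R y hyN := by
            apply MulEquiv.ext; intro z; apply Subtype.ext
            show x * y * z * (x * y)⁻¹ = x * (y * z * y⁻¹) * x⁻¹
            group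
          rw [h1]; exact Subgroup.mul_mem _ hx hy
        · rintro x _ ⟨hxN, hx⟩
          refine ⟨Subgroup.inv_mem _ hxN, ?_⟩
          have h1 : conjAut R x⁻¹ (Subgroup.inv_mem _ hxN) = (conjAut R x hxN)⁻¹ := by
            apply eq_inv_of_mul_eq_one_left
            apply MulEquiv.ext; intro z; apply Subtype.ext
            show x⁻¹ * (x * z * x⁻¹) * x⁻¹⁻¹ = z
            group
          rw [h1]; exact Subgroup.inv_mem _ hx
      obtain ⟨hgN, hgE⟩ := hgR
      refine centric_extend hSp (groupFusionSystem (S : Subgroup G)) E hEsub hEsat hp α hαF _ R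
        rfl hRc ?_ ?_
      · intro x hx
        rw [hgx]
        exact ((Subgroup.mem_normalizer_iff.1 hgN) _).1 hx
      · refine ⟨_, (mem_autGroup_iff E hRc.1 _).1 hgE, fun x hx => ?_⟩
        rw [hgx]; rfl
    intro φ hφ
    have hPS := ((groupFusionSystem (S : Subgroup G)).le_of_mem hφ).1
    obtain ⟨α, hα, φ₀, hφ₀, hαφ⟩ := hFr P hPS φ hφ
    have hαE : α ∈ E.autGroup (S : Subgroup G) := by
      apply hsup
      rw [← hb]
      obtain ⟨-, -, g, hg⟩ := (mem_autGroup_iff _ le_rfl α).1 hα
      exact (mem_autInducedBy_iff ⊤ _ α).2 ⟨g, Subgroup.mem_top g, fun x => hg x⟩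
    have hαiso := (mem_autGroup_iff E le_rfl α).1 hαE
    exact fs_comp E hφ₀ hαiso (E.le_of_mem hφ₀).2 (fun x => hαφ x _)

end Cfsg.Agent.S5160
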