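-- S2911: Sylow 2-subgroup C2 x D8 gives an index-two subgroup (extremal form of Thompson transfer).
import Mathlib
import Cfsg.Statements.S2911
import Cfsg.Agent.Helper9.ElemTwo

set_option autoImplicit false
open Cfsg

namespace Cfsg.Agent.S2911

/-- Sign of an involutive permutation moving `2 * k` points. -/
theorem sign_of_invol {α : Type*} [Fintype α] [DecidableEq α] (σ : Equiv.Perm α)
    (h1 : σ ^ 2 = 1) (k : ℕ) (hk : σ.support.card = 2 * k) :
    Equiv.Perm.sign σ = (-1) ^ k := by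
  have hall : ∀ n ∈ σ.cycleType, n = 2 := by
    intro n hn
    have hdvd : n ∣ 2 :=
      (Equiv.Perm.dvd_of_mem_cycleType hn).trans (orderOf_dvd_of_pow_eq_one h1)
    have h2 : 2 ≤ n := Equiv.Perm.two_le_of_mem_cycleType hn
    exact le_antisymm (Nat.le_of_dvd (by norm_num) hdvd) h2
  have hrep : σ.cycleType = Multiset.replicate (Multiset.card σ.cycleType) 2 :=
    Multiset.eq_replicate_card.2 hall
  have hsum : σ.cycleType.sum = 2 * k := by rw [Equiv.Perm.sum_cycleType, hk]
  have hc : Multiset.card σ.cycleType = k := by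
    have hsum' := hsum
    rw [hrep, Multiset.sum_replicate, smul_eq_mul] at hsum'
    omega
  rw [Equiv.Perm.sign_of_cycleType, hsum, hc, pow_add, (even_two_mul k).neg_one_pow, one_mul]

/-- A `p`-group acting without fixed points on an invariant subset: `p` divides its size. -/
theorem dvd_card_of_no_fixed {Γ α : Type*} [Group Γ] [MulAction Γ α] [Finite α] (p : ℕ)
    [Fact p.Prime] (hΓ : IsPGroup p Γ) (F : Set α) (hinv : ∀ (c : Γ), ∀ q ∈ F, c • q ∈ F)
    (hnofix : ∀ q ∈ F, ∃ c : Γ, c • q ≠ q) : p ∣ Nat.card F := by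
  let P : SubMulAction Γ α := ⟨F, fun c _ hq => hinv c _ hq⟩
  by_contra hnd
  have hnd' : ¬ p ∣ Nat.card ↥P := hnd
  obtain ⟨⟨q, hq⟩, hfix⟩ := hΓ.nonempty_fixed_point_of_prime_not_dvd_card (↥P) hnd'
  obtain ⟨c, hc⟩ := hnofix q hq
  apply hc
  have h := MulAction.mem_fixedPoints.1 hfix c
  exact congrArg Subtype.val h

theorem card_fixT {G : Type*} [Group G] (T : Subgroup G) (u : G) :
    Nat.card {x : G | x⁻¹ * u * x ∈ T} = Nat.card T * Nat.card {q : G ⧸ T | u • q = q} := by
  have hset : (QuotientGroup.mk ⁻¹' {q : G ⧸ T | u • q = q} : Set G) =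
      {x : G | x⁻¹ * u * x ∈ T} := by
    ext x
    simp only [Set.mem_preimage, Set.mem_setOf_eq]
    have e1 : u • (QuotientGroup.mk x : G ⧸ T) = QuotientGroup.mk (u * x) := rfl
    rw [e1, QuotientGroup.eq]
    have e2 : (u * x)⁻¹ * x = (x⁻¹ * u * x)⁻¹ := by group
    rw [e2, inv_mem_iff]
  rw [← hset, QuotientGroup.card_preimage_mk]

theorem card_FS {G : Type*} [Group G] (S T : Subgroup G) (u : G)
    (hnorm : ∀ s ∈ S, ∀ t ∈ T, s⁻¹ * t * s ∈ T) :
    Nat.card {x : G | x⁻¹ * u * x ∈ T} =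
      Nat.card S * Nat.card {q : G ⧸ S | ∃ x : G, (QuotientGroup.mk x : G ⧸ S) = q ∧
        x⁻¹ * u * x ∈ T} := by
  have hset : (QuotientGroup.mk ⁻¹' {q : G ⧸ S | ∃ x : G, (QuotientGroup.mk x : G ⧸ S) = q ∧
      x⁻¹ * u * x ∈ T} : Set G) = {x : G | x⁻¹ * u * x ∈ T} := by
    ext x
    simp only [Set.mem_preimage, Set.mem_setOf_eq]
    constructor
    · rintro ⟨y, hy, hyT⟩
      rw [QuotientGroup.eq] at hy
      have h := hnorm _ hy _ hyT
      have e : (y⁻¹ * x)⁻¹ * (y⁻¹ * u * y) * (y⁻¹ * x) = x⁻¹ * u * x := by group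
      rwa [e] at h
    · intro hx
      exact ⟨x, rfl, hx⟩
  rw [← hset, QuotientGroup.card_preimage_mk]

theorem even_FS {G : Type*} [Group G] [Finite G] (S T : Subgroup G) (hS : IsPGroup 2 S) (u : G)
    (hext : ∀ x : G, (∀ c ∈ S, c * u = u * c → x⁻¹ * c * x ∈ S) → x⁻¹ * u * x ∉ T) :
    2 ∣ Nat.card {q : G ⧸ S | ∃ x : G, (QuotientGroup.mk x : G ⧸ S) = q ∧
      x⁻¹ * u * x ∈ T} := by
  have hC : IsPGroup 2 ↥(S ⊓ Subgroup.centralizer {u}) := hS.to_le inf_le_left
  refine dvd_card_of_no_fixed (α := G ⧸ S) 2 hC _ ?_ ?_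
  · rintro c q ⟨x, rfl, hx⟩
    have hcu : u * (c : G) = (c : G) * u :=
      Subgroup.mem_centralizer_iff.1 (Subgroup.mem_inf.1 c.2).2 u (Set.mem_singleton u)
    refine ⟨(c : G) * x, rfl, ?_⟩
    have e : ((c : G) * x)⁻¹ * u * ((c : G) * x) = x⁻¹ * u * x := by
      calc ((c : G) * x)⁻¹ * u * ((c : G) * x)
          = x⁻¹ * ((c : G)⁻¹ * (u * (c : G))) * x := by group
        _ = x⁻¹ * ((c : G)⁻¹ * ((c : G) * u)) * x := by rw [hcu]
        _ = x⁻¹ * u * x := by group
    rw [e]; exact hx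
  · rintro q ⟨x, rfl, hx⟩
    by_contra hall
    push_neg at hall
    apply hext x ?_ hx
    intro c hcS hcu
    have hc : c ∈ S ⊓ Subgroup.centralizer {u} := by
      refine Subgroup.mem_inf.2 ⟨hcS, Subgroup.mem_centralizer_iff.2 ?_⟩
      intro h hh
      rw [Set.mem_singleton_iff] at hh
      rw [hh]; exact hcu.symm
    have h2 : (QuotientGroup.mk (c * x) : G ⧸ S) = QuotientGroup.mk x := hall ⟨c, hc⟩
    rw [QuotientGroup.eq] at h2
    have e : x⁻¹ * c * x = ((c * x)⁻¹ * x)⁻¹ := by group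
    rw [e]; exact inv_mem h2

/-- Thompson's transfer lemma, extremal form: `T` of index two in a Sylow 2-subgroup `S`, `u` an
involution such that no conjugate `x⁻¹ u x` with `x⁻¹ C_S(u) x ≤ S` lies in `T`. Then `G` has a
subgroup of index two avoiding `u`. -/
theorem thompson_ext {G : Type*} [Group G] [Finite G] (S : Sylow 2 G) (T : Subgroup G)
    (hTS : T ≤ (S : Subgroup G)) (hidx : T.relIndex (S : Subgroup G) = 2) (u : G)
    (hu : u * u = 1)
    (hext : ∀ x : G, (∀ c ∈ (S : Subgroup G), c * u = u * c → x⁻¹ * c * x ∈ (S : Subgroup G)) →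
      x⁻¹ * u * x ∉ T) :
    ∃ N : Subgroup G, N.index = 2 ∧ u ∉ N := by
  classical
  haveI : Fintype (G ⧸ T) := Fintype.ofFinite _
  have hnorm : ∀ s ∈ (S : Subgroup G), ∀ t ∈ T, s⁻¹ * t * s ∈ T := by
    intro s hs t ht
    haveI hN : (T.subgroupOf (S : Subgroup G)).Normal := Subgroup.normal_of_index_eq_two hidx
    have h := hN.conj_mem (⟨t, hTS ht⟩ : ↥(S : Subgroup G)) (Subgroup.mem_subgroupOf.2 ht)
      (⟨s⁻¹, inv_mem hs⟩ : ↥(S : Subgroup G))
    rw [Subgroup.mem_subgroupOf] at h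
    simpa using h
  have h1 := card_fixT T u
  have h2 := card_FS (S : Subgroup G) T u hnorm
  obtain ⟨f', hf'⟩ := even_FS (S : Subgroup G) T S.isPGroup' u hext
  have hcardS : Nat.card (S : Subgroup G) = Nat.card T * 2 := by
    rw [← Helper9.relIndex_mul_card_of_le hTS, hidx, mul_comm]
  have hTpos : 0 < Nat.card T := Nat.card_pos
  have hw : Nat.card {q : G ⧸ T | u • q = q} = 4 * f' := by
    rw [h1, hcardS, hf'] at h2
    exact Nat.eq_of_mul_eq_mul_left hTpos (h2.trans (by ring))
  have hcardX : Fintype.card (G ⧸ T) = 2 * (S : Subgroup G).index := by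
    rw [← Nat.card_eq_fintype_card, ← Subgroup.index_eq_card, ← Subgroup.relIndex_mul_index hTS,
      hidx]
  have hodd : Odd (S : Subgroup G).index := by
    rw [← Nat.not_even_iff_odd, even_iff_two_dvd]
    exact S.not_dvd_index
  have hwfin : Nat.card {q : G ⧸ T | u • q = q} =
      (Finset.univ.filter (fun q : G ⧸ T => u • q = q)).card := by
    rw [← Nat.card_eq_finsetCard]
    exact Nat.card_congr (Equiv.subtypeEquivRight (fun q => by simp))
  obtain ⟨σ, hσ⟩ : ∃ σ : Equiv.Perm (G ⧸ T), σ = MulAction.toPermHom G (G ⧸ T) u := ⟨_, rfl⟩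
  have hσ1 : σ ^ 2 = 1 := by
    rw [hσ, ← map_pow, pow_two, hu, map_one]
  have hsupp : σ.support = (Finset.univ.filter (fun q : G ⧸ T => u • q = q))ᶜ := by
    ext q
    rw [Equiv.Perm.mem_support, Finset.mem_compl, Finset.mem_filter, hσ]
    exact ⟨fun h h' => h h'.2, fun h h' => h ⟨Finset.mem_univ _, h'⟩⟩
  have hsc : σ.support.card = Fintype.card (G ⧸ T) -
      (Finset.univ.filter (fun q : G ⧸ T => u • q = q)).card := by
    rw [hsupp, Finset.card_compl]
  have hle : (Finset.univ.filter (fun q : G ⧸ T => u • q = q)).card ≤ Fintype.card (G ⧸ T) :=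
    Finset.card_le_univ _
  rw [← hwfin, hw, hcardX] at hsc hle
  obtain ⟨j, hj⟩ := hodd
  have hk : σ.support.card = 2 * (2 * j + 1 - 2 * f') := by omega
  have hsign : Equiv.Perm.sign σ = -1 := by
    rw [sign_of_invol σ hσ1 _ hk]
    apply Odd.neg_one_pow
    exact ⟨j - f', by omega⟩
  obtain ⟨φ, hφdef⟩ : ∃ φ : G →* ℤˣ,
      φ = Equiv.Perm.sign.comp (MulAction.toPermHom G (G ⧸ T)) := ⟨_, rfl⟩
  have hφu : φ u = -1 := by
    rw [hφdef]; rw [hσ] at hsign; exact hsign
  refine ⟨φ.ker, ?_, ?_⟩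
  · have hsurj : Function.Surjective φ := by
      intro v
      rcases Int.units_eq_one_or v with rfl | rfl
      · exact ⟨1, map_one φ⟩
      · exact ⟨u, hφu⟩
    rw [Subgroup.index_ker, MonoidHom.range_eq_top.2 hsurj, Subgroup.card_top,
      Nat.card_eq_fintype_card, Fintype.card_units_int]
  · intro hmem
    rw [MonoidHom.mem_ker, hφu] at hmem
    exact absurd hmem (by decide)

theorem mul_self_M (m : Multiplicative (ZMod 2)) : m * m = 1 := by
  revert m; decide

theorem center_D4 (d : DihedralGroup 4) (hd : ∀ d' : DihedralGroup 4, d * d' = d' * d) :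
    d = 1 ∨ d = DihedralGroup.r 2 := by
  revert d; decide

theorem result {G : Type*} [Group G] [Finite G] (S : Sylow 2 G) (hS : Nonempty (↥(S : Subgroup G) ≃* Multiplicative (ZMod 2) × DihedralGroup 4)) : ∃ H : Subgroup G, H.index = 2 := by
  obtain ⟨e⟩ := hS
  obtain ⟨φ, hφ⟩ : ∃ φ : ↥(S : Subgroup G) →* Multiplicative (ZMod 2),
      ∀ s, φ s = (e s).1 := ⟨(MonoidHom.fst _ _).comp e.toMonoidHom, fun s => rfl⟩
  obtain ⟨z, hz⟩ : ∃ z : ↥(S : Subgroup G), e z = (Multiplicative.ofAdd 1, 1) :=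
    ⟨e.symm _, e.apply_symm_apply _⟩
  have hzz : z * z = 1 := by
    apply e.injective
    rw [map_mul, hz, map_one e]
    exact Prod.ext (mul_self_M _) (mul_one _)
  have hzc : ∀ c : ↥(S : Subgroup G), c * z = z * c := by
    intro c
    apply e.injective
    rw [map_mul, map_mul, hz]
    exact Prod.ext (mul_comm _ _) (by simp)
  have hz1 : φ z ≠ 1 := by
    rw [hφ, hz]; decide
  have hsurj : Function.Surjective φ := by
    intro m
    refine ⟨e.symm (m, 1), ?_⟩
    rw [hφ, e.apply_symm_apply]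
  have hidx : (φ.ker.map (S : Subgroup G).subtype).relIndex (S : Subgroup G) = 2 := by
    have h1 : (φ.ker.map (S : Subgroup G).subtype).subgroupOf (S : Subgroup G) = φ.ker :=
      Subgroup.comap_map_eq_self_of_injective (Subgroup.subtype_injective _) _
    rw [Subgroup.relIndex, h1, Subgroup.index_ker, MonoidHom.range_eq_top.2 hsurj,
      Subgroup.card_top]
    simp [Nat.card_eq_fintype_card]
  have hext : ∀ x : G, (∀ c ∈ (S : Subgroup G), c * (z : G) = (z : G) * c →
      x⁻¹ * c * x ∈ (S : Subgroup G)) →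
      x⁻¹ * (z : G) * x ∉ φ.ker.map (S : Subgroup G).subtype := by
      intro x hx hxT
      have hxS : ∀ c ∈ (S : Subgroup G), x⁻¹ * c * x ∈ (S : Subgroup G) := by
        intro c hc
        apply hx c hc
        exact congrArg Subtype.val (hzc ⟨c, hc⟩)
      have hxS' : ∀ c ∈ (S : Subgroup G), x * c * x⁻¹ ∈ (S : Subgroup G) := by
        intro c hc
        have hinj : Function.Injective
            (fun s : ↥(S : Subgroup G) => (⟨x⁻¹ * s * x, hxS s s.2⟩ : ↥(S : Subgroup G))) := by
          intro a b hab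
          have h : x⁻¹ * (a : G) * x = x⁻¹ * (b : G) * x := congrArg Subtype.val hab
          exact Subtype.ext (mul_left_cancel (mul_right_cancel h))
        obtain ⟨c', hc'⟩ := Finite.surjective_of_injective hinj ⟨c, hc⟩
        have h : x⁻¹ * (c' : G) * x = c := congrArg Subtype.val hc'
        rw [← h]
        have e2 : x * (x⁻¹ * (c' : G) * x) * x⁻¹ = c' := by group
        rw [e2]; exact c'.2
      obtain ⟨w, hwker, hw⟩ := Subgroup.mem_map.1 hxT
      have hw' : (w : G) = x⁻¹ * (z : G) * x := hw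
      have hwφ : (e w).1 = 1 := by rw [← hφ]; exact MonoidHom.mem_ker.1 hwker
      have hwc : ∀ s : ↥(S : Subgroup G), w * s = s * w := by
        intro s
        apply Subtype.ext
        rw [Subgroup.coe_mul, Subgroup.coe_mul, hw']
        have h1 := hzc ⟨x * (s : G) * x⁻¹, hxS' s s.2⟩
        have h2 : x * (s : G) * x⁻¹ * (z : G) = (z : G) * (x * (s : G) * x⁻¹) :=
          congrArg Subtype.val h1
        calc x⁻¹ * (z : G) * x * (s : G) = x⁻¹ * ((z : G) * (x * (s : G) * x⁻¹)) * x := by group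
          _ = x⁻¹ * (x * (s : G) * x⁻¹ * (z : G)) * x := by rw [h2]
          _ = (s : G) * (x⁻¹ * (z : G) * x) := by group
      have hdc : ∀ d' : DihedralGroup 4, (e w).2 * d' = d' * (e w).2 := by
        intro d'
        have h := congrArg e (hwc (e.symm (1, d')))
        rw [map_mul, map_mul, e.apply_symm_apply] at h
        exact congrArg Prod.snd h
      have hw1 : w ≠ 1 := by
        intro h1
        rw [h1, Subgroup.coe_one] at hw'
        have hz1' : (z : G) = 1 := by
          have e2 : (z : G) = x * (x⁻¹ * (z : G) * x) * x⁻¹ := by group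
          rw [e2, ← hw']; group
        apply hz1
        rw [show z = 1 from Subtype.ext hz1', map_one]
      rcases center_D4 _ hdc with hd | hd
      · apply hw1
        apply e.injective
        rw [map_one]
        exact Prod.ext hwφ hd
      · obtain ⟨a, ha⟩ : ∃ a : ↥(S : Subgroup G), e a = (1, DihedralGroup.r 1) :=
          ⟨e.symm _, e.apply_symm_apply _⟩
        have hwa : w = a * a := by
          apply e.injective
          rw [map_mul, ha]
          refine Prod.ext ?_ ?_
          · simp [hwφ]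
          · exact hd.trans (by decide)
        have hb : z = (⟨x * (a : G) * x⁻¹, hxS' a a.2⟩ : ↥(S : Subgroup G)) *
            ⟨x * (a : G) * x⁻¹, hxS' a a.2⟩ := by
          apply Subtype.ext
          show (z : G) = (x * (a : G) * x⁻¹) * (x * (a : G) * x⁻¹)
          have h3 : (w : G) = (a : G) * (a : G) := by rw [hwa, Subgroup.coe_mul]
          have h4 : (z : G) = x * (w : G) * x⁻¹ := by rw [hw']; group
          rw [h4, h3]; group
        apply hz1
        rw [hb, map_mul]
        exact mul_self_M _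
  obtain ⟨N, hN, -⟩ := thompson_ext S (φ.ker.map (S : Subgroup G).subtype)
    (Subgroup.map_subtype_le _) hidx (z : G)
    (by rw [← Subgroup.coe_mul, hzz, Subgroup.coe_one]) hext
  exact ⟨N, hN⟩

end Cfsg.Agent.S2911
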