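import Cfsg.Statements.S5144
import Cfsg.Agent.Helper25.FusExt

set_option autoImplicit false
open Cfsg

namespace Cfsg.Agent.S5144

open Cfsg.Agent.Helper25

theorem isCentral_bot {Ω : Type*} [Group Ω] {S : Subgroup Ω} (F : Cfsg.FusionSystem S) :
    F.IsCentral ⊥ := by
  refine ⟨bot_le, fun P φ hφ => ?_⟩
  have h : P ⊔ ⊥ = P := sup_bot_eq P
  refine ⟨φ.comp (Subgroup.inclusion h.le), fus_hom_cast F h hφ, fun x => ?_, fun x => ?_⟩
  · show φ (Subgroup.inclusion h.le (Subgroup.inclusion le_sup_left x)) = φ x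
    exact congrArg φ (Subtype.ext rfl)
  · have hx1 : (x : Ω) = 1 := Subgroup.mem_bot.mp x.2
    have hx : Subgroup.inclusion (le_sup_right : (⊥ : Subgroup Ω) ≤ P ⊔ ⊥) x = 1 := Subtype.ext hx1
    rw [hx, map_one, hx1]

theorem isCentral_sup {Ω : Type*} [Group Ω] {S : Subgroup Ω} (F : Cfsg.FusionSystem S)
    {Q₁ Q₂ : Subgroup Ω} (h₁ : F.IsCentral Q₁) (h₂ : F.IsCentral Q₂) : F.IsCentral (Q₁ ⊔ Q₂) := by
  refine ⟨sup_le h₁.1 h₂.1, fun P φ hφ => ?_⟩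
  obtain ⟨ψ₁, hψ₁, hψ₁P, hψ₁Q⟩ := h₁.2 P φ hφ
  obtain ⟨ψ₂, hψ₂, hψ₂P, hψ₂Q⟩ := h₂.2 (P ⊔ Q₁) ψ₁ hψ₁
  have heq : P ⊔ (Q₁ ⊔ Q₂) = P ⊔ Q₁ ⊔ Q₂ := (sup_assoc P Q₁ Q₂).symm
  refine ⟨ψ₂.comp (Subgroup.inclusion heq.le), fus_hom_cast F heq hψ₂, fun x => ?_, fun x => ?_⟩
  · calc ψ₂ (Subgroup.inclusion heq.le (Subgroup.inclusion le_sup_left x))
        = ψ₂ (Subgroup.inclusion le_sup_left
            (Subgroup.inclusion le_sup_left x : ↥(P ⊔ Q₁))) := congrArg ψ₂ (Subtype.ext rfl)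
      _ = ψ₁ (Subgroup.inclusion le_sup_left x) := hψ₂P _
      _ = φ x := hψ₁P x
  · have hQ₁K : Q₁ ≤ P ⊔ Q₁ ⊔ Q₂ := le_sup_right.trans le_sup_left
    have hQ₂K : Q₂ ≤ P ⊔ Q₁ ⊔ Q₂ := le_sup_right
    have key := fix_sup ψ₂ hQ₁K hQ₂K
      (fun y hy => by
        calc ψ₂ ⟨y, hQ₁K hy⟩ = ψ₂ (Subgroup.inclusion le_sup_left
              (Subgroup.inclusion le_sup_right (⟨y, hy⟩ : Q₁) : ↥(P ⊔ Q₁))) := rfl
          _ = ψ₁ (Subgroup.inclusion le_sup_right (⟨y, hy⟩ : Q₁)) := hψ₂P _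
          _ = y := hψ₁Q ⟨y, hy⟩)
      (fun y hy => hψ₂Q ⟨y, hy⟩)
    exact key x x.2

/-- For a fusion system over a finite subgroup S, the centre of the system (the join of all subgroups central in it) is itself central in the system, hence its largest central subgroup. -/
theorem result {Ω : Type*} [Group Ω] {S : Subgroup Ω} [Finite S] (F : Cfsg.FusionSystem S) : F.IsCentral F.center :=
  sSup_mem_of_sup_closed (S := S) {Q | F.IsCentral Q} (isCentral_bot F) (fun _ hQ => hQ.1)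
    (fun _ h₁ _ h₂ => isCentral_sup F h₁ h₂)

end Cfsg.Agent.S5144
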