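import Cfsg.Statements.S0055
import Cfsg.Agent.S0026
import Mathlib

set_option autoImplicit false
open Cfsg
open scoped IsMulCommutative

namespace Cfsg.Agent.S0055

/-- conjugation by `a ∈ N(V)` restricted to `V`. -/
def conjHom {G : Type*} [Group G] (V : Subgroup G) (a : G)
    (ha : a ∈ Subgroup.normalizer (V : Set G)) : V →* V where
  toFun v := ⟨a * v * a⁻¹, ((Subgroup.mem_normalizer_iff.1 ha) v).1 v.2⟩
  map_one' := Subtype.ext (by simp)
  map_mul' x y := by
    apply Subtype.ext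
    show a * ((x : G) * (y : G)) * a⁻¹ = (a * x * a⁻¹) * (a * y * a⁻¹)
    group

theorem inf_bot {G : Type*} [Group G] [Finite G] (A V : Subgroup G) [IsMulCommutative V]
    (hAV : A ≤ Subgroup.normalizer (V : Set G)) (hcop : (Nat.card A).Coprime (Nat.card V)) :
    (V ⊓ Subgroup.centralizer (A : Set G)) ⊓ ⁅V, A⁆ = ⊥ := by
  classical
  haveI : Fintype A := Fintype.ofFinite A
  obtain ⟨τ, hτ⟩ : ∃ τ : V →* V, ∀ v, τ v = ∏ a : A, conjHom V (a : G) (hAV a.2) v :=
    ⟨∏ a : A, conjHom V (a : G) (hAV a.2), fun v => MonoidHom.finsetProd_apply _ _ _⟩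
  have hinv : ∀ (b : A) (v : V), τ (conjHom V (b : G) (hAV b.2) v) = τ v := by
    intro b v
    rw [hτ, hτ]
    refine Fintype.prod_equiv (Equiv.mulRight b) _ _ (fun a => ?_)
    apply Subtype.ext
    show (a : G) * ((b : G) * (v : G) * (b : G)⁻¹) * (a : G)⁻¹
      = ((a * b : A) : G) * (v : G) * ((a * b : A) : G)⁻¹
    rw [Subgroup.coe_mul]
    group
  have hfix : ∀ v : V, (v : G) ∈ Subgroup.centralizer (A : Set G) → τ v = v ^ Nat.card A := by
    intro v hv
    rw [hτ, Nat.card_eq_fintype_card, ← Finset.card_univ, ← Finset.prod_const]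
    refine Finset.prod_congr rfl (fun a _ => ?_)
    apply Subtype.ext
    have h := Subgroup.mem_centralizer_iff.1 hv (a : G) a.2
    show (a : G) * (v : G) * (a : G)⁻¹ = (v : G)
    rw [h, mul_inv_cancel_right]
  have hcomm : ⁅V, A⁆ ≤ (τ.ker).map V.subtype := by
    rw [Subgroup.commutator_le]
    intro v hv a ha
    refine Subgroup.mem_map.2 ⟨⟨v, hv⟩ * (conjHom V a (hAV ha) ⟨v, hv⟩)⁻¹, ?_, ?_⟩
    · rw [MonoidHom.mem_ker, map_mul, map_inv]
      have h1 : τ (conjHom V a (hAV ha) ⟨v, hv⟩) = τ ⟨v, hv⟩ := hinv ⟨a, ha⟩ ⟨v, hv⟩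
      rw [h1, mul_inv_cancel]
    · rw [commutatorElement_def]
      show v * (a * v * a⁻¹)⁻¹ = v * a * v⁻¹ * a⁻¹
      group
  rw [eq_bot_iff]
  intro x hx
  obtain ⟨hx1, hxK⟩ := Subgroup.mem_inf.1 hx
  obtain ⟨hxV, hxC⟩ := Subgroup.mem_inf.1 hx1
  obtain ⟨y, hy, rfl⟩ := Subgroup.mem_map.1 (hcomm hxK)
  have h1 : y ^ Nat.card A = 1 := by
    rw [← hfix y hxC]; exact MonoidHom.mem_ker.1 hy
  have h2 : y ^ Nat.card V = 1 := pow_card_eq_one'
  have h3 : orderOf y ∣ Nat.gcd (Nat.card A) (Nat.card V) :=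
    Nat.dvd_gcd (orderOf_dvd_of_pow_eq_one h1) (orderOf_dvd_of_pow_eq_one h2)
  rw [Nat.Coprime.gcd_eq_one hcop, Nat.dvd_one, orderOf_eq_one_iff] at h3
  rw [h3, map_one]
  exact Subgroup.one_mem _

/-- If A normalises an abelian subgroup V of coprime order, then V is the internal direct product of its A-fixed points and its commutator with A: the two meet trivially and generate V. -/
theorem result {G : Type*} [Group G] [Finite G] (A V : Subgroup G) [IsMulCommutative V]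
    (hAV : A ≤ Subgroup.normalizer (V : Set G)) (hcop : (Nat.card A).Coprime (Nat.card V)) :
    (V ⊓ Subgroup.centralizer (A : Set G)) ⊓ ⁅V, A⁆ = ⊥ ∧ (V ⊓ Subgroup.centralizer (A : Set G)) ⊔ ⁅V, A⁆ = V := by
  refine ⟨inf_bot A V hAV hcop, ?_⟩
  rw [sup_comm]
  exact Cfsg.Agent.S0026.result A V hAV hcop (Or.inr inferInstance)

end Cfsg.Agent.S0055
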