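import Cfsg.Statements.S0127
import Mathlib
import Cfsg.Agent.Helper1.RankTwo
import Cfsg.Agent.Helper1.Class2

set_option autoImplicit false
open Cfsg
open scoped commutatorElement

namespace Cfsg.Agent.S0127

/-- For odd p, in a non-cyclic p-group with a cyclic subgroup of index p, the elements of order dividing p generate an elementary abelian subgroup of order p^2. -/
theorem result {R : Type*} [Group R] [Finite R] {p : ℕ} [Fact p.Prime] (hp : p ≠ 2) (hR : IsPGroup p R) (hnc : ¬ IsCyclic R) (C : Subgroup R) (hC : IsCyclic C) (hCi : C.index = p) : Cfsg.IsElementaryAbelian p (Subgroup.closure {x : R | x ^ p = 1}) ∧ Nat.card (Subgroup.closure {x : R | x ^ p = 1}) = p ^ 2 := by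
  have hpp : p.Prime := Fact.out
  obtain ⟨z, x, hzc, hzp, hxp, hgx, hcardA, hexpA, hnormalA⟩ := Helper1.rank_two_data hp hR hnc
  obtain ⟨A, hA⟩ : ∃ A : Subgroup R, A = Subgroup.zpowers x ⊔ Subgroup.zpowers z := ⟨_, rfl⟩
  rw [← hA] at hcardA hexpA hnormalA
  haveI := hnormalA
  haveI := hC
  haveI hZn : (Subgroup.zpowers z).Normal := Helper1.zpowers_normal_of_mem_center hzc
  have hZA : Subgroup.zpowers z ≤ A := by rw [hA]; exact le_sup_right
  have hZcen : Subgroup.zpowers z ≤ Subgroup.center R := Subgroup.zpowers_le.mpr hzc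
  -- A is not contained in C
  have hAC : ¬ A ≤ C := by
    intro hle
    obtain ⟨d, hd⟩ := IsCyclic.exists_generator (α := A.subgroupOf C)
    have h1 : orderOf d = Nat.card (A.subgroupOf C) := orderOf_eq_card_of_forall_mem_zpowers hd
    have h2 : Nat.card (A.subgroupOf C) = p ^ 2 := by
      rw [← hcardA]; exact Nat.card_congr (Subgroup.subgroupOfEquivOfLe hle).toEquiv
    have h3 : d ^ p = 1 := by
      apply Subtype.ext; apply Subtype.ext
      show ((d : C) : R) ^ p = 1
      exact hexpA _ (Subgroup.mem_subgroupOf.mp d.2)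
    have h4 : orderOf d ∣ p := orderOf_dvd_of_pow_eq_one h3
    rw [h1, h2] at h4
    have h5 : p ^ 2 ≤ p := Nat.le_of_dvd hpp.pos h4
    have h6 : p < p ^ 2 := by nlinarith [hpp.one_lt]
    omega
  have hsup : A ⊔ C = ⊤ := by
    apply Subgroup.index_eq_one.mp
    have h1 : (A ⊔ C).index ∣ p := by rw [← hCi]; exact Subgroup.index_dvd_of_le le_sup_right
    rcases (Nat.dvd_prime hpp).mp h1 with h2 | h2
    · exact h2
    · exfalso
      have h3 : C = A ⊔ C := by
        apply Subgroup.eq_of_le_of_card_ge le_sup_right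
        have e1 := Subgroup.card_mul_index C
        have e2 := Subgroup.card_mul_index (A ⊔ C)
        rw [hCi] at e1; rw [h2] at e2
        have e3 : Nat.card (A ⊔ C : Subgroup R) * p = Nat.card C * p := by rw [e1, e2]
        exact (Nat.eq_of_mul_eq_mul_right hpp.pos e3).le
      apply hAC
      rw [h3]; exact le_sup_left
  haveI hcycQ : IsCyclic (R ⧸ A) := by
    apply isCyclic_of_surjective ((QuotientGroup.mk' A).comp C.subtype)
    intro q
    obtain ⟨g, rfl⟩ := QuotientGroup.mk'_surjective A q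
    have hg : g ∈ ((A ⊔ C : Subgroup R) : Set R) := by rw [hsup]; exact Set.mem_univ g
    rw [Subgroup.normal_mul] at hg
    obtain ⟨a, ha, c, hc, rfl⟩ := Set.mem_mul.mp hg
    refine ⟨⟨c, hc⟩, ?_⟩
    show QuotientGroup.mk' A c = QuotientGroup.mk' A (a * c)
    rw [map_mul]
    have h0 : QuotientGroup.mk' A a = 1 := (QuotientGroup.eq_one_iff a).mpr ha
    rw [h0, one_mul]
  let f : R ⧸ Subgroup.zpowers z →* R ⧸ A :=
    QuotientGroup.map (Subgroup.zpowers z) A (MonoidHom.id R) (fun a ha => hZA ha)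
  have hker : f.ker ≤ Subgroup.center (R ⧸ Subgroup.zpowers z) := by
    intro q hq
    obtain ⟨a, rfl⟩ := QuotientGroup.mk'_surjective (Subgroup.zpowers z) q
    have ha : a ∈ A := by
      have h2 : (QuotientGroup.mk' A a) = 1 := hq
      exact (QuotientGroup.eq_one_iff a).mp h2
    have ha' : a ∈ ((Subgroup.zpowers x ⊔ Subgroup.zpowers z : Subgroup R) : Set R) := by
      rw [← hA]; exact ha
    rw [Subgroup.mul_normal] at ha'
    obtain ⟨x', hx', z', hz', rfl⟩ := Set.mem_mul.mp ha'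
    obtain ⟨i, rfl⟩ := Subgroup.mem_zpowers_iff.mp hx'
    have h3 : QuotientGroup.mk' (Subgroup.zpowers z) (x ^ i * z')
        = (QuotientGroup.mk' (Subgroup.zpowers z) x) ^ i := by
      rw [map_mul, map_zpow]
      have h0 : QuotientGroup.mk' (Subgroup.zpowers z) z' = 1 :=
        (QuotientGroup.eq_one_iff z').mpr hz'
      rw [h0, mul_one]
    rw [h3]
    apply Subgroup.zpow_mem
    apply Subgroup.mem_center_iff.mpr
    intro q'
    obtain ⟨g, rfl⟩ := QuotientGroup.mk'_surjective (Subgroup.zpowers z) q'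
    rw [← map_mul, ← map_mul]
    show ((g * x : R) : R ⧸ Subgroup.zpowers z) = ((x * g : R) : R ⧸ Subgroup.zpowers z)
    apply QuotientGroup.eq.mpr
    have hw := hgx g⁻¹
    have hwc := Subgroup.mem_center_iff.mp (hZcen hw) x⁻¹
    have e : (g * x)⁻¹ * (x * g) = g⁻¹ * x * g⁻¹⁻¹ * x⁻¹ := by
      calc (g * x)⁻¹ * (x * g) = x⁻¹ * (g⁻¹ * x * g⁻¹⁻¹ * x⁻¹) * x := by group
        _ = (g⁻¹ * x * g⁻¹⁻¹ * x⁻¹) * x⁻¹ * x := by rw [hwc]
        _ = g⁻¹ * x * g⁻¹⁻¹ * x⁻¹ := by group
    rw [e]; exact hw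
  have hcommQ := commutative_of_cyclic_center_quotient f hker
  have hcomR : ∀ a b : R, ⁅a, b⁆ ∈ Subgroup.zpowers z := by
    intro a b
    apply (QuotientGroup.eq_one_iff _).mp
    show QuotientGroup.mk' (Subgroup.zpowers z) ⁅a, b⁆ = 1
    rw [map_commutatorElement]
    exact commutatorElement_eq_one_iff_mul_comm.mpr (hcommQ _ _)
  have hc : ∀ a b : R, ⁅a, b⁆ ∈ Subgroup.center R := fun a b => hZcen (hcomR a b)
  have hpow : ∀ a b : R, (a * b) ^ p = a ^ p * b ^ p := by
    intro a b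
    apply Helper1.mul_pow_odd p hpp hp hc a b
    obtain ⟨k, hk⟩ := Subgroup.mem_zpowers_iff.mp (hcomR b a)
    rw [← hk]
    exact Helper1.pow_zpow_eq_one hzp k
  let φ : R →* R := { toFun := fun g => g ^ p, map_one' := one_pow p, map_mul' := hpow }
  have hmemΩ : ∀ g : R, g ∈ φ.ker ↔ g ^ p = 1 := fun g => MonoidHom.mem_ker
  have hcl : Subgroup.closure {x : R | x ^ p = 1} = φ.ker := by
    apply le_antisymm
    · rw [Subgroup.closure_le]
      intro g hg
      exact (hmemΩ g).mpr hg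
    · intro g hg
      exact Subgroup.subset_closure ((hmemΩ g).mp hg)
  rw [hcl]
  have hAΩ : A ≤ φ.ker := fun a ha => (hmemΩ a).mpr (hexpA a ha)
  have hCn : C.Normal := by
    apply Subgroup.normal_of_index_eq_minFac_card
    obtain ⟨k, hk⟩ := IsPGroup.iff_card.mp hR
    have hk0 : k ≠ 0 := by
      rintro rfl
      have h1 : C.index ∣ Nat.card R := Subgroup.index_dvd_card C
      rw [hCi, hk, pow_zero] at h1
      exact hpp.one_lt.ne' (Nat.dvd_one.mp h1)
    rw [hCi, hk, hpp.pow_minFac hk0]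
  have h1 : C.relIndex φ.ker ∣ p := by
    rw [← hCi]; exact Subgroup.relIndex_dvd_index_of_normal C φ.ker
  have h2 : Nat.card (φ.ker ⊓ C : Subgroup R) ∣ p := by
    obtain ⟨d, hd⟩ := IsCyclic.exists_generator (α := φ.ker.subgroupOf C)
    have e1 : orderOf d = Nat.card (φ.ker.subgroupOf C) := orderOf_eq_card_of_forall_mem_zpowers hd
    have e2 : d ^ p = 1 := by
      apply Subtype.ext; apply Subtype.ext
      show ((d : C) : R) ^ p = 1
      exact (hmemΩ _).mp (Subgroup.mem_subgroupOf.mp d.2)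
    have e3 : orderOf d ∣ p := orderOf_dvd_of_pow_eq_one e2
    have e4 : Nat.card (φ.ker ⊓ C : Subgroup R) = Nat.card (φ.ker.subgroupOf C) := by
      rw [← Subgroup.subgroupOf_map_subtype, Subgroup.card_map_of_injective C.subtype_injective]
    rw [e4, ← e1]; exact e3
  have h3 : Nat.card φ.ker = Nat.card (φ.ker ⊓ C : Subgroup R) * C.relIndex φ.ker := by
    have e1 := Subgroup.relIndex_mul_relIndex (⊥ : Subgroup R) (φ.ker ⊓ C) φ.ker bot_le inf_le_left
    rw [Subgroup.relIndex_bot_left, Subgroup.relIndex_bot_left, inf_comm,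
      Subgroup.inf_relIndex_right] at e1
    rw [← e1, inf_comm]
  have h4 : Nat.card φ.ker ∣ p ^ 2 := by
    rw [h3, sq]; exact Nat.mul_dvd_mul h2 h1
  have h5 : p ^ 2 ≤ Nat.card φ.ker := by
    rw [← hcardA]; exact Subgroup.card_le_of_le hAΩ
  have hcardΩ : Nat.card φ.ker = p ^ 2 :=
    le_antisymm (Nat.le_of_dvd (pow_pos hpp.pos 2) h4) h5
  exact ⟨⟨IsPGroup.isMulCommutative_of_card_eq_prime_sq hcardΩ, fun a ha => (hmemΩ a).mp ha⟩,
    hcardΩ⟩

end Cfsg.Agent.S0127
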