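import Mathlib
import Cfsg.Statements.S0638
import Cfsg.Agent.S0126
import Cfsg.Agent.S0127

set_option autoImplicit false
open Cfsg

namespace Cfsg.Agent.S0638

/-- For odd p, in a non-cyclic metacyclic p-group the elements of order dividing p generate an elementary abelian subgroup of order p². -/
theorem result {R : Type*} [Group R] [Finite R] {p : ℕ} [Fact p.Prime] (hp : p ≠ 2) (hR : IsPGroup p R) (hm : Cfsg.IsMetacyclic R) (hnc : ¬ IsCyclic R) : Cfsg.IsElementaryAbelian p (Cfsg.omegaOne p (⊤ : Subgroup R)) ∧ Nat.card ↥(Cfsg.omegaOne p (⊤ : Subgroup R)) = p ^ 2 := by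
  have hpp : p.Prime := Fact.out
  obtain ⟨N, hNn, hNc, hQc⟩ := hm
  haveI := hNn
  haveI := hNc
  haveI := hQc
  have hcomm : ∀ a b : R ⧸ N, a * b = b * a := fun a b => by
    letI := IsCyclic.commGroup (α := R ⧸ N)
    exact mul_comm a b
  -- Q1 : elements of order dividing p in R/N
  let Q1 : Subgroup (R ⧸ N) :=
    { carrier := {q | q ^ p = 1}
      mul_mem' := by
        intro a b ha hb
        have ha' : a ^ p = 1 := ha
        have hb' : b ^ p = 1 := hb
        show (a * b) ^ p = 1
        rw [(show Commute a b from hcomm a b).mul_pow, ha', hb', one_mul]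
      one_mem' := by show (1 : R ⧸ N) ^ p = 1; exact one_pow p
      inv_mem' := by
        intro a ha
        have ha' : a ^ p = 1 := ha
        show a⁻¹ ^ p = 1
        rw [inv_pow, ha', inv_one] }
  have hQ1mem : ∀ q : R ⧸ N, q ∈ Q1 ↔ q ^ p = 1 := fun q => Iff.rfl
  let f : R →* R ⧸ N := QuotientGroup.mk' N
  have hf : Function.Surjective f := QuotientGroup.mk'_surjective N
  let M : Subgroup R := Q1.comap f
  have hMmem : ∀ x : R, x ∈ M ↔ (f x) ^ p = 1 := fun x => Iff.rfl
  have hTM : ∀ x : R, x ^ p = 1 → x ∈ M := by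
    intro x hx
    rw [hMmem, ← map_pow, hx, map_one]
  have hNM : N ≤ M := by
    intro x hx
    rw [hMmem]
    have : f x = 1 := (QuotientGroup.eq_one_iff x).mpr hx
    rw [this, one_pow]
  -- M is not cyclic
  have hMnc : ¬ IsCyclic M := by
    intro hMc
    haveI := hMc
    obtain ⟨A, -, ⟨-, hAexp⟩, hAcard⟩ := S0126.result hp hR hnc
    have hAM : A ≤ M := fun a ha => hTM a (hAexp a ha)
    haveI : IsCyclic A := Subgroup.isCyclic_of_le hAM
    have h1 : Monoid.exponent A ∣ p := Monoid.exponent_dvd_of_forall_pow_eq_one (fun g => by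
      apply Subtype.ext
      simpa using hAexp g g.2)
    rw [IsCyclic.exponent_eq_card, hAcard] at h1
    have h2 := Nat.le_of_dvd hpp.pos h1
    have h3 : p < p ^ 2 := by
      calc p = p ^ 1 := (pow_one p).symm
        _ < p ^ 2 := Nat.pow_lt_pow_right hpp.one_lt (by norm_num)
    omega
  -- card Q1 divides p
  have hQ1 : Nat.card Q1 ∣ p := by
    have h0 := IsCyclic.exponent_eq_card (α := Q1)
    rw [← h0]
    apply Monoid.exponent_dvd_of_forall_pow_eq_one
    intro g
    apply Subtype.ext
    have := (hQ1mem g).mp g.2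
    simpa using this
  have hrel : N.relIndex M = Nat.card Q1 := by
    have h1 : N = (⊥ : Subgroup (R ⧸ N)).comap f := by
      rw [MonoidHom.comap_bot, QuotientGroup.ker_mk']
    have h2 : M.map f = Q1 := Subgroup.map_comap_eq_self_of_surjective hf Q1
    conv_lhs => rw [h1]
    rw [Subgroup.relIndex_comap, h2, Subgroup.relIndex_bot_left]
  have hrelp : N.relIndex M = p := by
    rcases (Nat.dvd_prime hpp).mp hQ1 with h | h
    · exfalso
      rw [← hrel] at h
      have hMN : M ≤ N := Subgroup.relIndex_eq_one.mp h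
      exact hMnc (Subgroup.isCyclic_of_le hMN)
    · rw [hrel, h]
  -- apply S0127 in M
  have hCc : IsCyclic (N.subgroupOf M) :=
    isCyclic_of_surjective (Subgroup.subgroupOfEquivOfLe hNM).symm
      (Subgroup.subgroupOfEquivOfLe hNM).symm.surjective
  obtain ⟨⟨hKc, hKexp⟩, hKcard⟩ :=
    S0127.result hp (hR.to_subgroup M) hMnc (N.subgroupOf M) hCc hrelp
  have hmap : Cfsg.omegaOne p (⊤ : Subgroup R)
      = (Subgroup.closure {x : M | x ^ p = 1}).map M.subtype := by
    rw [MonoidHom.map_closure]
    unfold Cfsg.omegaOne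
    congr 1
    ext x
    constructor
    · rintro ⟨-, hx⟩
      exact ⟨⟨x, hTM x hx⟩, Subtype.ext (by simpa using hx), rfl⟩
    · rintro ⟨y, hy, rfl⟩
      refine ⟨Subgroup.mem_top _, ?_⟩
      have hy' : y ^ p = 1 := hy
      have := congrArg Subtype.val hy'
      simpa using this
  rw [hmap]
  refine ⟨⟨?_, ?_⟩, ?_⟩
  · haveI := hKc
    infer_instance
  · rintro a ⟨b, hb, rfl⟩
    have := hKexp b hb
    have h2 := congrArg Subtype.val this
    simpa using h2
  · rw [Subgroup.card_map_of_injective (Subgroup.subtype_injective M)]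
    exact hKcard

end Cfsg.Agent.S0638
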