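-- S1447: proof by helper7
import Cfsg.Statements.S1447
import Mathlib
import Cfsg.Agent.Helper7.MetaCop

set_option autoImplicit false
open Cfsg

namespace Cfsg.Agent.S1447

/-- Let G be a finite group, p an odd prime, R a metacyclic p-subgroup and A a subgroup of order coprime to p normalizing R. Then [R, A] is abelian; R is generated by [R, A] and R ∩ C_G(A), which meet trivially; and if R is non-abelian and A does not centralize R, then [R, A] and R ∩ C_G(A) are nontrivial cyclic groups and [R, R] ≤ [R, A]. -/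
theorem result {G : Type*} [Group G] [Finite G] (p : ℕ) [Fact p.Prime] (hp : p ≠ 2) (R A : Subgroup G) (hR : IsPGroup p R) (hRm : Cfsg.IsMetacyclic R)
    (hA : (A ≤ Subgroup.normalizer (R : Set G))) (hcop : (Nat.card A).Coprime p) :
    IsMulCommutative ↥⁅R, A⁆ ∧ ⁅R, A⁆ ⊔ (R ⊓ Subgroup.centralizer (A : Set G)) = R ∧ ⁅R, A⁆ ⊓ (R ⊓ Subgroup.centralizer (A : Set G)) = ⊥ ∧
      (¬ IsMulCommutative R → ¬ A ≤ Subgroup.centralizer (R : Set G) →
        ⁅R, A⁆ ≠ ⊥ ∧ IsCyclic ↥⁅R, A⁆ ∧ (R ⊓ Subgroup.centralizer (A : Set G)) ≠ ⊥ ∧ IsCyclic ↥(R ⊓ Subgroup.centralizer (A : Set G)) ∧ ⁅R, R⁆ ≤ ⁅R, A⁆) := by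
  classical
  have hpp : p.Prime := Fact.out
  obtain ⟨m, hm⟩ := IsPGroup.iff_card.mp hR
  have hcopR : (Nat.card A).Coprime (Nat.card R) := by
    rw [hm]; exact Nat.Coprime.pow_right m hcop
  haveI : Group.IsNilpotent ↥R := hR.isNilpotent
  have hsolv : Group.IsSolvable ↥A ∨ Group.IsSolvable ↥R := Or.inr inferInstance
  have h2 : ⁅R, A⁆ ⊔ (R ⊓ Subgroup.centralizer (A : Set G)) = R :=
    Cfsg.Agent.S0026.result A R hA hcopR hsolv
  have hKR : ⁅R, A⁆ ≤ R := Cfsg.Agent.S0026.comm_le A R hA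
  have hKK : ⁅⁅R, A⁆, A⁆ = ⁅R, A⁆ := Cfsg.Agent.S0027.result A R hA hcopR hsolv
  have hAK : A ≤ Subgroup.normalizer ((⁅R, A⁆ : Subgroup G) : Set G) :=
    Cfsg.Agent.Helper7.MetaCop.comm_normalized_right R A hA
  have hKp : IsPGroup p ↥⁅R, A⁆ := hR.to_le hKR
  have hKm : Cfsg.IsMetacyclic ↥⁅R, A⁆ :=
    Cfsg.Agent.Helper7.MetaCop.meta_of_injective (Subgroup.inclusion hKR)
      (Subgroup.inclusion_injective hKR) hRm
  have hab := Cfsg.Agent.Helper7.MetaCop.comm_abelian p hp ⁅R, A⁆ A hKp hKm hAK hcop hKK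
  haveI hKcomm : IsMulCommutative ↥⁅R, A⁆ := ⟨⟨hab⟩⟩
  have hcopK : (Nat.card A).Coprime (Nat.card ↥⁅R, A⁆) :=
    Nat.Coprime.coprime_dvd_right (Subgroup.card_dvd_of_le hKR) hcopR
  have h3 : ⁅R, A⁆ ⊓ (R ⊓ Subgroup.centralizer (A : Set G)) = ⊥ := by
    have h := (Cfsg.Agent.S0055.result A ⁅R, A⁆ hAK hcopK).1
    rw [hKK] at h
    rw [eq_bot_iff]
    intro x hx
    rw [← h]
    exact Subgroup.mem_inf.mpr ⟨Subgroup.mem_inf.mpr ⟨(Subgroup.mem_inf.mp hx).1,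
      (Subgroup.mem_inf.mp (Subgroup.mem_inf.mp hx).2).2⟩, (Subgroup.mem_inf.mp hx).1⟩
  refine ⟨hKcomm, h2, h3, ?_⟩
  intro hRnc hAnc
  have hKbot : ⁅R, A⁆ ≠ ⊥ := by
    intro h
    exact hAnc (Subgroup.le_centralizer_iff.mp
      (Subgroup.commutator_eq_bot_iff_le_centralizer.mp h))
  have hCbot : R ⊓ Subgroup.centralizer (A : Set G) ≠ ⊥ := by
    intro h
    have h2' := h2
    rw [h, sup_bot_eq] at h2'
    apply hRnc
    rw [← h2']
    exact hKcomm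
  have hRncyc : ¬ IsCyclic ↥R := fun h => hRnc ⟨⟨fun a b => by
    haveI := h
    letI := IsCyclic.commGroup (α := ↥R)
    exact mul_comm a b⟩⟩
  obtain ⟨-, hW2⟩ := Cfsg.Agent.S0638.result hp hR hRm hRncyc
  have hW : ∀ x : ↥R, x ^ p = 1 → x ∈ Cfsg.omegaOne p (⊤ : Subgroup ↥R) := fun x hx =>
    show x ∈ Subgroup.closure {x : ↥R | x ∈ (⊤ : Subgroup ↥R) ∧ x ^ p = 1} from
      Subgroup.subset_closure ⟨Subgroup.mem_top x, hx⟩
  have hWle : ∀ H : Subgroup ↥R, ¬ IsCyclic ↥H → Cfsg.omegaOne p (⊤ : Subgroup ↥R) ≤ H :=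
    fun H hH => Cfsg.Agent.Helper7.MetaCop.omega_le_of_noncyclic hp hR _ hW2 hW H hH
  have hKcyc : IsCyclic ↥⁅R, A⁆ :=
    Cfsg.Agent.Helper7.MetaCop.cyclic_of_inf_bot R hR _ hW hWle _ _ hKR inf_le_left h3 hCbot
  have hCcyc : IsCyclic ↥(R ⊓ Subgroup.centralizer (A : Set G)) :=
    Cfsg.Agent.Helper7.MetaCop.cyclic_of_inf_bot R hR _ hW hWle _ _ inf_le_left hKR
      (by rw [inf_comm]; exact h3) hKbot
  have hCc : ∀ x ∈ R ⊓ Subgroup.centralizer (A : Set G),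
      ∀ y ∈ R ⊓ Subgroup.centralizer (A : Set G), x * y = y * x := by
    intro x hx y hy
    have h : (⟨x, hx⟩ : ↥(R ⊓ Subgroup.centralizer (A : Set G))) * ⟨y, hy⟩ =
        ⟨y, hy⟩ * ⟨x, hx⟩ := by
      letI := IsCyclic.commGroup (α := ↥(R ⊓ Subgroup.centralizer (A : Set G)))
      exact mul_comm (⟨x, hx⟩ : ↥(R ⊓ Subgroup.centralizer (A : Set G))) ⟨y, hy⟩
    have h' := congrArg Subtype.val h
    exact h'
  exact ⟨hKbot, hKcyc, hCbot, hCcyc,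
    Cfsg.Agent.Helper7.MetaCop.comm_le_of_sup R _ _ hKR inf_le_left h2
      (Cfsg.Agent.Helper7.MetaCop.comm_normalized_left R A) hCc⟩

end Cfsg.Agent.S1447
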