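import Cfsg.Statements.S0129
import Mathlib
import Cfsg.Agent.Helper19.PCenter
import Cfsg.Agent.Helper1.RankTwo

set_option autoImplicit false
open Cfsg

namespace Cfsg.Agent.S0129

/-- index bound from a map whose fibres lie inside cosets -/
theorem index_le_of_fiber {G : Type*} [Group G] [Finite G] (H : Subgroup G) {T : Type*}
    [Finite T] (f : G → T) (hf : ∀ g h, f g = f h → g⁻¹ * h ∈ H) : H.index ≤ Nat.card T := by
  show Nat.card (G ⧸ H) ≤ Nat.card T
  apply Nat.card_le_card_of_injective (fun q : G ⧸ H => f (Quotient.out q))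
  intro q q' hqq
  have h1 := hf _ _ hqq
  have h2 : (QuotientGroup.mk (Quotient.out q) : G ⧸ H) = QuotientGroup.mk (Quotient.out q') :=
    QuotientGroup.eq.mpr h1
  rw [QuotientGroup.out_eq', QuotientGroup.out_eq'] at h2
  exact h2

theorem exists_sub {G : Type*} [Group G] [Finite G] {p : ℕ} [Fact p.Prime] (hG : IsPGroup p G)
    (A : Subgroup G) [A.Normal] (a : ℕ) (ha : Nat.card A = p ^ (a + 1)) :
    ∃ A' : Subgroup G, A'.Normal ∧ A' ≤ A ∧ Nat.card A' = p ^ a ∧
      ∀ g : G, ∀ x ∈ A, g * x * g⁻¹ * x⁻¹ ∈ A' := by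
  have hp : p.Prime := Fact.out
  haveI hnil : Group.IsNilpotent G := hG.isNilpotent
  obtain ⟨K, hKdef⟩ : ∃ K, K = ⁅A, (⊤ : Subgroup G)⁆ := ⟨_, rfl⟩
  have hKA : K ≤ A := by rw [hKdef]; exact Subgroup.commutator_le_left A ⊤
  have hKne : K ≠ A := by
    intro heq
    have hall : ∀ n, A ≤ Subgroup.lowerCentralSeries (⊤ : Subgroup G) n := by
      intro n
      induction n with
      | zero => rw [Subgroup.lowerCentralSeries_zero]; exact le_top
      | succ n ih =>
        rw [Subgroup.lowerCentralSeries_succ]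
        calc A = ⁅A, (⊤ : Subgroup G)⁆ := by rw [← hKdef, heq]
          _ ≤ _ := Subgroup.commutator_mono ih le_rfl
    obtain ⟨n, hn⟩ := Subgroup.nilpotent_iff_lowerCentralSeries.mp hnil
    have hA1 : A = ⊥ := by
      rw [eq_bot_iff, ← hn]; exact hall n
    rw [hA1, Subgroup.card_bot] at ha
    have : 1 < p ^ (a + 1) := Nat.one_lt_pow (by omega) hp.one_lt
    omega
  have hKlt : Nat.card K < Nat.card A :=
    lt_of_le_of_ne (Subgroup.card_le_of_le hKA)
      (fun e => hKne (Subgroup.eq_of_le_of_card_ge hKA e.ge))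
  obtain ⟨n, hn⟩ := (hG.to_subgroup K).exists_card_eq
  have hna : n ≤ a := by
    rw [hn, ha] at hKlt
    have := (Nat.pow_lt_pow_iff_right hp.one_lt).mp hKlt
    omega
  have hH : Nat.card (K.subgroupOf A) = p ^ n := by
    rw [← hn]
    exact Nat.card_congr (Subgroup.subgroupOfEquivOfLe hKA).toEquiv
  obtain ⟨K', hK'card, hK'⟩ := Sylow.exists_subgroup_card_pow_prime_le p
    (by rw [ha]; exact pow_dvd_pow p (Nat.le_succ a) : p ^ a ∣ Nat.card A) (K.subgroupOf A) hH hna
  have hKle : K ≤ K'.map A.subtype := by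
    intro x hx
    exact ⟨⟨x, hKA hx⟩, hK' (Subgroup.mem_subgroupOf.mpr hx), rfl⟩
  have hcomm : ∀ g : G, ∀ x ∈ A, g * x * g⁻¹ * x⁻¹ ∈ K'.map A.subtype := by
    intro g x hx
    apply hKle
    rw [hKdef, Subgroup.commutator_comm]
    exact Subgroup.commutator_mem_commutator (Subgroup.mem_top g) hx
  have hle : K'.map A.subtype ≤ A := Subgroup.map_subtype_le K'
  refine ⟨K'.map A.subtype, ?_, hle, ?_, hcomm⟩
  · constructor
    intro y hy g
    have h1 := hcomm g y (hle hy)
    have h2 : g * y * g⁻¹ = (g * y * g⁻¹ * y⁻¹) * y := by group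
    rw [h2]
    exact Subgroup.mul_mem _ h1 hy
  · rw [Subgroup.card_map_of_injective A.subtype_injective]
    exact hK'card

theorem index_centralizer_le {G : Type*} [Group G] [Finite G] {p : ℕ} [Fact p.Prime]
    (hG : IsPGroup p G) :
    ∀ (a : ℕ) (A : Subgroup G), A.Normal → Nat.card A = p ^ a →
      (Subgroup.centralizer (A : Set G)).index ≤ p ^ (∑ i ∈ Finset.range a, i) := by
  have hp : p.Prime := Fact.out
  intro a
  induction a with
  | zero =>
    intro A hAn ha
    rw [pow_zero] at ha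
    have hA : A = ⊥ := Subgroup.eq_bot_of_card_eq A ha
    have hcent : Subgroup.centralizer ((⊥ : Subgroup G) : Set G) = ⊤ := by
      rw [eq_top_iff]
      intro g _
      apply Subgroup.mem_centralizer_iff.mpr
      intro h hh
      have hh' : h = 1 := Subgroup.mem_bot.mp (SetLike.mem_coe.mp hh)
      rw [hh', one_mul, mul_one]
    rw [hA, hcent, Subgroup.index_top, Finset.sum_range_zero, pow_zero]
  | succ a ih =>
    intro A hAn ha
    haveI := hAn
    obtain ⟨A', hA'n, hA'A, hA'card, hA'comm⟩ := exists_sub hG A a ha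
    have ih' := ih A' hA'n hA'card
    obtain ⟨C', hC'⟩ : ∃ C', C' = Subgroup.centralizer (A' : Set G) := ⟨_, rfl⟩
    obtain ⟨C, hC⟩ : ∃ C, C = Subgroup.centralizer (A : Set G) := ⟨_, rfl⟩
    rw [← hC'] at ih'
    rw [← hC]
    have hCC' : C ≤ C' := by
      rw [hC, hC']
      exact Subgroup.centralizer_le hA'A
    have hex : ∃ x ∈ A, x ∉ A' := by
      by_contra hall
      push Not at hall
      have h1 : A ≤ A' := hall
      have h2 := Subgroup.card_le_of_le h1
      rw [ha, hA'card] at h2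
      have := (Nat.pow_le_pow_iff_right hp.one_lt).mp h2
      omega
    obtain ⟨x, hxA, hxA'⟩ := hex
    have hAsup : A = A' ⊔ Subgroup.zpowers x := by
      symm
      apply Subgroup.eq_of_le_of_card_ge (sup_le hA'A (Subgroup.zpowers_le.mpr hxA))
      obtain ⟨m, hm⟩ := (hG.to_subgroup (A' ⊔ Subgroup.zpowers x)).exists_card_eq
      have hlt : Nat.card A' < Nat.card ↥(A' ⊔ Subgroup.zpowers x) := by
        apply lt_of_le_of_ne (Subgroup.card_le_of_le le_sup_left)
        intro e
        have h3 := Subgroup.eq_of_le_of_card_ge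
          (le_sup_left : A' ≤ A' ⊔ Subgroup.zpowers x) e.ge
        apply hxA'
        rw [h3]
        exact le_sup_right (a := A') (b := Subgroup.zpowers x) (Subgroup.mem_zpowers x)
      rw [hm, hA'card] at hlt
      have := (Nat.pow_lt_pow_iff_right hp.one_lt).mp hlt
      rw [ha, hm]
      exact Nat.pow_le_pow_right hp.pos this
    have hrel : C.relIndex C' ≤ p ^ a := by
      rw [← hA'card]
      show (C.subgroupOf C').index ≤ Nat.card A'
      apply index_le_of_fiber (C.subgroupOf C')
        (fun g : C' => (⟨(g : G) * x * (g : G)⁻¹ * x⁻¹, hA'comm g x hxA⟩ : A'))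
      intro g h hgh
      have h1 : (g : G) * x * (g : G)⁻¹ * x⁻¹ = (h : G) * x * (h : G)⁻¹ * x⁻¹ :=
        congrArg Subtype.val hgh
      rw [Subgroup.mem_subgroupOf]
      have h2 : ((g⁻¹ * h : C') : G) = (g : G)⁻¹ * (h : G) := rfl
      rw [h2, hC]
      apply Subgroup.mem_centralizer_iff.mpr
      intro y hy
      have hu1 : (g : G)⁻¹ * (h : G) ∈ Subgroup.centralizer (A' : Set G) := by
        rw [← hC']; exact C'.mul_mem (C'.inv_mem g.2) h.2
      have hu2 : x * ((g : G)⁻¹ * (h : G)) = ((g : G)⁻¹ * (h : G)) * x := by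
        have h3 : (g : G) * x * (g : G)⁻¹ = (h : G) * x * (h : G)⁻¹ := by
          have h4 := congrArg (· * x) h1
          simpa using h4
        calc x * ((g : G)⁻¹ * (h : G))
            = (g : G)⁻¹ * ((g : G) * x * (g : G)⁻¹) * (h : G) := by group
          _ = (g : G)⁻¹ * ((h : G) * x * (h : G)⁻¹) * (h : G) := by rw [h3]
          _ = ((g : G)⁻¹ * (h : G)) * x := by group
      have hy' : y ∈ Subgroup.centralizer ({(g : G)⁻¹ * (h : G)} : Set G) := by
        have hle : A' ⊔ Subgroup.zpowers x ≤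
            Subgroup.centralizer ({(g : G)⁻¹ * (h : G)} : Set G) := by
          apply sup_le
          · intro m hm
            apply Subgroup.mem_centralizer_iff.mpr
            intro w hw
            rw [Set.mem_singleton_iff] at hw
            rw [hw]
            exact (Subgroup.mem_centralizer_iff.mp hu1 m hm).symm
          · rw [Subgroup.zpowers_le]
            apply Subgroup.mem_centralizer_iff.mpr
            intro w hw
            rw [Set.mem_singleton_iff] at hw
            rw [hw]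
            exact hu2.symm
        apply hle
        rw [← hAsup]; exact hy
      exact (Subgroup.mem_centralizer_iff.mp hy' _ (Set.mem_singleton _)).symm
    calc C.index = C.relIndex C' * C'.index := (Subgroup.relIndex_mul_index hCC').symm
      _ ≤ p ^ a * p ^ (∑ i ∈ Finset.range a, i) := Nat.mul_le_mul hrel ih'
      _ = p ^ (∑ i ∈ Finset.range (a + 1), i) := by
          rw [Finset.sum_range_succ, ← pow_add, add_comm]

theorem centralizer_eq {G : Type*} [Group G] [Finite G] {p : ℕ} [Fact p.Prime]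
    (hG : IsPGroup p G) (A : Subgroup G) [A.Normal] (hA : ∀ x ∈ A, ∀ y ∈ A, x * y = y * x)
    (hmax : ∀ B : Subgroup G, B.Normal → (∀ x ∈ B, ∀ y ∈ B, x * y = y * x) → A ≤ B → B = A) :
    Subgroup.centralizer (A : Set G) = A := by
  have hp : p.Prime := Fact.out
  obtain ⟨C, hC⟩ : ∃ C, C = Subgroup.centralizer (A : Set G) := ⟨_, rfl⟩
  have hCn : C.Normal := by rw [hC]; infer_instance
  rw [← hC]
  have hAC : A ≤ C := by
    intro x hx
    rw [hC]
    apply Subgroup.mem_centralizer_iff.mpr
    intro y hy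
    exact hA y hy x hx
  apply le_antisymm _ hAC
  by_contra hcon
  obtain ⟨π, hπdef⟩ : ∃ π : G →* G ⧸ A, π = QuotientGroup.mk' A := ⟨_, rfl⟩
  have hπ1 : ∀ x, π x = 1 ↔ x ∈ A := by
    intro x; rw [hπdef]; exact QuotientGroup.eq_one_iff x
  have hπs : Function.Surjective π := by
    rw [hπdef]; exact QuotientGroup.mk'_surjective A
  have hbar : C.map π ≠ ⊥ := by
    intro hbot
    apply hcon
    intro x hx
    have h1 : π x ∈ C.map π := Subgroup.mem_map_of_mem π hx
    rw [hbot, Subgroup.mem_bot] at h1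
    exact (hπ1 x).mp h1
  haveI : (C.map π).Normal := Subgroup.Normal.map hCn π hπs
  have hGA : IsPGroup p (G ⧸ A) := hG.to_quotient A
  have hdvd : p ∣ Nat.card (C.map π) := by
    obtain ⟨k, hk⟩ := (hGA.to_subgroup (C.map π)).exists_card_eq
    rw [hk]
    apply dvd_pow_self
    intro h0
    rw [h0, pow_zero] at hk
    exact hbar (Subgroup.eq_bot_of_card_eq _ hk)
  obtain ⟨b, hbC, hb1, hbc⟩ :=
    Cfsg.Agent.Helper19.exists_mem_center_of_normal hGA (C.map π) hdvd
  obtain ⟨x, hxC, rfl⟩ := Subgroup.mem_map.mp hbC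
  haveI hzn : (Subgroup.zpowers (π x)).Normal :=
    Cfsg.Agent.Helper1.zpowers_normal_of_mem_center hbc
  obtain ⟨B, hB⟩ : ∃ B, B = (Subgroup.zpowers (π x)).comap π := ⟨_, rfl⟩
  have hBn : B.Normal := by rw [hB]; exact Subgroup.Normal.comap hzn π
  have hAB : A ≤ B := by
    intro y hy
    rw [hB, Subgroup.mem_comap, (hπ1 y).mpr hy]
    exact Subgroup.one_mem _
  have hxB : x ∈ B := by
    rw [hB, Subgroup.mem_comap]; exact Subgroup.mem_zpowers _
  have hxA : x ∉ A := fun h => hb1 ((hπ1 x).mpr h)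
  have hBdecomp : ∀ y ∈ B, ∃ k : ℤ, ∃ a ∈ A, y = x ^ k * a := by
    intro y hy
    rw [hB, Subgroup.mem_comap] at hy
    obtain ⟨k, hk⟩ := Subgroup.mem_zpowers_iff.mp hy
    refine ⟨k, (x ^ k)⁻¹ * y, ?_, by group⟩
    rw [← hπ1, map_mul, map_inv, map_zpow, hk, inv_mul_cancel]
  have hxcomm : ∀ a ∈ A, Commute x a := by
    intro a ha
    rw [hC] at hxC
    exact (Subgroup.mem_centralizer_iff.mp hxC a ha).symm
  have hBcomm : ∀ y ∈ B, ∀ z ∈ B, y * z = z * y := by
    intro y hy z hz
    obtain ⟨k, a, ha, rfl⟩ := hBdecomp y hy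
    obtain ⟨l, a', ha', rfl⟩ := hBdecomp z hz
    have huv : Commute (x ^ k) (x ^ l) := (Commute.refl x).zpow_zpow k l
    have hua' : Commute (x ^ k) a' := (hxcomm a' ha').zpow_left k
    have hav : Commute a (x ^ l) := ((hxcomm a ha).zpow_left l).symm
    have haa' : Commute a a' := hA a ha a' ha'
    exact (Commute.mul_right huv hua').mul_left (Commute.mul_right hav haa')
  have hBA := hmax B hBn hBcomm hAB
  exact hxA (hBA ▸ hxB)

/-- The order of a p-group is bounded by p^(a(a+1)/2) when it has a maximal normal abelian subgroup of order p^a. -/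
theorem result {G : Type*} [Group G] [Finite G] {p : ℕ} [Fact p.Prime] (hG : IsPGroup p G) (A : Subgroup G) [A.Normal] (hA : IsMulCommutative A) (hmax : ∀ B : Subgroup G, B.Normal → IsMulCommutative B → A ≤ B → B = A) (a : ℕ) (ha : Nat.card A = p ^ a) : Nat.card G ≤ p ^ (a * (a + 1) / 2) := by
  have hp : p.Prime := Fact.out
  haveI := hA
  have hA' : ∀ x ∈ A, ∀ y ∈ A, x * y = y * x := by
    intro x hx y hy
    have h := mul_comm' (⟨x, hx⟩ : A) ⟨y, hy⟩
    exact congrArg Subtype.val h
  have hcent := centralizer_eq hG A hA'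
    (fun B hBn hBc hAB => hmax B hBn ⟨⟨fun a b => Subtype.ext (hBc a a.2 b b.2)⟩⟩ hAB)
  have hidx := index_centralizer_le hG a A inferInstance ha
  rw [hcent] at hidx
  have hcard : Nat.card G = Nat.card A * A.index := (Subgroup.card_mul_index A).symm
  rw [hcard, ha]
  calc p ^ a * A.index ≤ p ^ a * p ^ (∑ i ∈ Finset.range a, i) := Nat.mul_le_mul_left _ hidx
    _ = p ^ (∑ i ∈ Finset.range (a + 1), i) := by
        rw [Finset.sum_range_succ, ← pow_add, add_comm]
    _ = p ^ (a * (a + 1) / 2) := by rw [Finset.sum_range_id, Nat.add_sub_cancel, mul_comm]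

end Cfsg.Agent.S0129
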