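import Cfsg.Statements.S0636
import Mathlib
import Cfsg.Agent.Helper23.OddPGroup
import Cfsg.Agent.Helper1.RankTwo
import Cfsg.Agent.Helper19.Nilpotent
import Cfsg.Agent.S0129
import Cfsg.Agent.S0016

set_option autoImplicit false
open Cfsg

universe u

namespace Cfsg.Agent.S0636

theorem chain {R : Type*} [Group R] [Finite R] {p : ℕ} [Fact p.Prime] (hR : IsPGroup p R)
    (j : ℕ) : ∀ (d : ℕ) (N : Subgroup R), N.Normal → Nat.card N = p ^ (j + d) →
      ∃ A : Subgroup R, A ≤ N ∧ A.Normal ∧ Nat.card A = p ^ j := by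
  intro d
  induction d with
  | zero =>
    intro N hN hc
    exact ⟨N, le_rfl, hN, hc⟩
  | succ d ih =>
    intro N hN hc
    haveI := hN
    obtain ⟨N', hN'n, hN'le, hN'c, -⟩ :=
      Cfsg.Agent.S0129.exists_sub hR N (j + d) (by rw [hc, add_assoc])
    obtain ⟨A, hA, hAn, hAc⟩ := ih N' hN'n hN'c
    exact ⟨A, hA.trans hN'le, hAn, hAc⟩

/-- The elements of `T` of order dividing `p`, when they are closed under multiplication. -/
def omegaSub {R : Type*} [Group R] (p : ℕ) (T : Subgroup R)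
    (hmul : ∀ a ∈ T, ∀ b ∈ T, a ^ p = 1 → b ^ p = 1 → (a * b) ^ p = 1) : Subgroup R where
  carrier := {x | x ∈ T ∧ x ^ p = 1}
  mul_mem' := fun {a b} ha hb => ⟨T.mul_mem ha.1 hb.1, hmul a ha.1 b hb.1 ha.2 hb.2⟩
  one_mem' := ⟨T.one_mem, one_pow p⟩
  inv_mem' := fun {a} ha => ⟨T.inv_mem ha.1, by rw [inv_pow, ha.2, inv_one]⟩

theorem of_mul_closed {R : Type*} [Group R] [Finite R] {p : ℕ} [Fact p.Prime] (hp2 : p ≠ 2)
    (hR : IsPGroup p R) (T : Subgroup R) (hTn : T.Normal) (hTnc : ¬ IsCyclic T)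
    (hmul : ∀ a ∈ T, ∀ b ∈ T, a ^ p = 1 → b ^ p = 1 → (a * b) ^ p = 1) :
    ∃ A : Subgroup R, A ≤ T ∧ A.Normal ∧ (∀ a ∈ A, a ^ p = 1) ∧ Nat.card A = p ^ 2 := by
  have hpp : p.Prime := Fact.out
  obtain ⟨Ω, hΩ⟩ : ∃ Ω, Ω = omegaSub p T hmul := ⟨_, rfl⟩
  have hmem : ∀ x, x ∈ Ω ↔ x ∈ T ∧ x ^ p = 1 := by
    intro x; rw [hΩ]; exact Iff.rfl
  have hΩT : Ω ≤ T := fun x hx => ((hmem x).mp hx).1
  have hΩn : Ω.Normal := by
    constructor
    intro n hn g
    rw [hmem] at hn ⊢
    exact ⟨hTn.conj_mem n hn.1 g, by rw [conj_pow, hn.2, mul_one, mul_inv_cancel]⟩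
  have h2 : ∃ H K : Subgroup ↥T, Nat.card H = p ∧ Nat.card K = p ∧ H ≠ K := by
    by_contra hcon
    push Not at hcon
    rcases Cfsg.Agent.S0016.result p (hR.to_subgroup T)
      (fun H K hH hK => hcon H K hH hK) with h | ⟨h, -⟩
    · exact hTnc h
    · exact hp2 h
  obtain ⟨H, K, hH, hK, hHK⟩ := h2
  have hsub : ∀ (L : Subgroup ↥T), Nat.card L = p → L.map T.subtype ≤ Ω := by
    intro L hL
    rintro _ ⟨l, hl, rfl⟩
    rw [hmem]
    refine ⟨l.2, ?_⟩
    have h1 : (⟨l, hl⟩ : ↥L) ^ Nat.card ↥L = 1 := pow_card_eq_one'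
    rw [hL] at h1
    have h2 : (l : ↥T) ^ p = 1 := by
      have := congrArg Subtype.val h1
      simpa using this
    show ((l : ↥T) : R) ^ p = 1
    rw [← Subgroup.coe_pow, h2, Subgroup.coe_one]
  have hHKsup : (H ⊔ K).map T.subtype ≤ Ω := by
    rw [Subgroup.map_sup]
    exact sup_le (hsub H hH) (hsub K hK)
  have hlt : p < Nat.card (H ⊔ K : Subgroup ↥T) := by
    by_contra hcon
    push Not at hcon
    have e1 : H = H ⊔ K := Subgroup.eq_of_le_of_card_ge le_sup_left (by rw [hH]; exact hcon)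
    have e2 : K = H ⊔ K := Subgroup.eq_of_le_of_card_ge le_sup_right (by rw [hK]; exact hcon)
    exact hHK (e1.trans e2.symm)
  have hΩcard : p < Nat.card Ω := by
    have := Subgroup.card_le_of_le hHKsup
    rw [Subgroup.card_map_of_injective T.subtype_injective] at this
    omega
  obtain ⟨m, hm⟩ := IsPGroup.iff_card.mp (hR.to_subgroup Ω)
  have hm2 : 2 ≤ m := by
    by_contra hcon
    have : m = 0 ∨ m = 1 := by omega
    rcases this with rfl | rfl
    · rw [hm, pow_zero] at hΩcard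
      have := hpp.one_lt
      omega
    · rw [hm, pow_one] at hΩcard
      omega
  obtain ⟨d, rfl⟩ : ∃ d, m = 2 + d := ⟨m - 2, by omega⟩
  obtain ⟨A, hAΩ, hAn, hAc⟩ := chain hR 2 d Ω hΩn hm
  exact ⟨A, hAΩ.trans hΩT, hAn, fun a ha => ((hmem a).mp (hAΩ ha)).2, hAc⟩

theorem aux (p : ℕ) [hpf : Fact p.Prime] (hp2 : p ≠ 2) :
    ∀ n : ℕ, ∀ (R : Type u) [Group R] [Finite R], Nat.card R = n → IsPGroup p R →
      ∀ S : Subgroup R, S.Normal → ¬ IsCyclic S →
      ∃ A : Subgroup R, A ≤ S ∧ A.Normal ∧ (∀ a ∈ A, a ^ p = 1) ∧ Nat.card A = p ^ 2 := by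
  intro n
  induction n using Nat.strong_induction_on with
  | _ n ih =>
    intro R _ _ hn hR S hSn hSnc
    have hpp : p.Prime := hpf.out
    have h4 : p < p ^ 2 := by
      calc p = p ^ 1 := (pow_one p).symm
        _ < p ^ 2 := Nat.pow_lt_pow_right hpp.one_lt (by norm_num)
    haveI := hSn
    haveI hnil : Group.IsNilpotent R := hR.isNilpotent
    have hSne : S ≠ ⊥ := by
      intro hbot
      apply hSnc
      rw [hbot]
      infer_instance
    have hK := Cfsg.Agent.Helper19.inf_center_ne_bot_of_normal S hSne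
    obtain ⟨K, hKdef⟩ : ∃ K, K = S ⊓ Subgroup.center R := ⟨_, rfl⟩
    rw [← hKdef] at hK
    obtain ⟨k, hk⟩ := IsPGroup.iff_card.mp (hR.to_subgroup K)
    have hk0 : k ≠ 0 := by
      rintro rfl
      rw [pow_zero] at hk
      exact hK (Subgroup.eq_bot_of_card_eq K hk)
    have hpK : p ∣ Nat.card K := by rw [hk]; exact dvd_pow_self p hk0
    obtain ⟨z0, hz0⟩ := exists_prime_orderOf_dvd_card' (G := ↥K) p hpK
    obtain ⟨z, hzdef⟩ : ∃ z : R, z = (z0 : R) := ⟨_, rfl⟩
    have hzo : orderOf z = p := by rw [hzdef, Subgroup.orderOf_coe]; exact hz0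
    have hzK : z ∈ K := by rw [hzdef]; exact z0.2
    have hzS : z ∈ S := by rw [hKdef] at hzK; exact hzK.1
    have hzc : z ∈ Subgroup.center R := by rw [hKdef] at hzK; exact hzK.2
    have hzp : z ^ p = 1 := by rw [← hzo]; exact pow_orderOf_eq_one z
    obtain ⟨Z1, hZ1⟩ : ∃ Z1, Z1 = Subgroup.zpowers z := ⟨_, rfl⟩
    have hZ1S : Z1 ≤ S := by rw [hZ1]; exact Subgroup.zpowers_le.mpr hzS
    have hZ1c : Z1 ≤ Subgroup.center R := by rw [hZ1]; exact Subgroup.zpowers_le.mpr hzc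
    haveI hZ1n : Z1.Normal := by
      rw [hZ1]; exact Cfsg.Agent.Helper1.zpowers_normal_of_mem_center hzc
    have hZ1card : Nat.card Z1 = p := by rw [hZ1, Nat.card_zpowers, hzo]
    have hZ1p : ∀ e ∈ Z1, e ^ p = 1 := by
      intro e he
      rw [hZ1] at he
      obtain ⟨i, rfl⟩ := Subgroup.mem_zpowers_iff.mp he
      exact Cfsg.Agent.Helper1.pow_zpow_eq_one hzp i
    by_cases hcyc : IsCyclic (S.map (QuotientGroup.mk' Z1))
    · have hSc : IsMulCommutative ↥S := by
        haveI := hcyc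
        apply MonoidHom.isMulCommutative_of_isCyclic_of_ker_le_center
          ((QuotientGroup.mk' Z1).subgroupMap S)
        intro s hs
        rw [MonoidHom.mem_ker] at hs
        have h1 : (QuotientGroup.mk (s : R) : R ⧸ Z1) = 1 := congrArg Subtype.val hs
        have h2 : (s : R) ∈ Z1 := (QuotientGroup.eq_one_iff _).mp h1
        rw [Subgroup.mem_center_iff]
        intro t
        apply Subtype.ext
        exact Subgroup.mem_center_iff.mp (hZ1c h2) (t : R)
      apply of_mul_closed hp2 hR S hSn hSnc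
      intro a ha b hb hap hbp
      have hab : a * b = b * a :=
        congrArg Subtype.val (hSc.is_comm.comm (⟨a, ha⟩ : ↥S) ⟨b, hb⟩)
      rw [(show Commute a b from hab).mul_pow, hap, hbp, one_mul]
    · have hcardlt : Nat.card (R ⧸ Z1) < n := by
        have h1 := Subgroup.card_eq_card_quotient_mul_card_subgroup Z1
        rw [hn, hZ1card] at h1
        have h2 : 0 < Nat.card (R ⧸ Z1) := Nat.card_pos
        rw [h1]
        exact lt_mul_of_one_lt_right h2 hpp.one_lt
      obtain ⟨Abar, hAS, hAn, hAp, hAc⟩ := ih _ hcardlt (R ⧸ Z1) rfl (hR.to_quotient Z1)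
        (S.map (QuotientGroup.mk' Z1))
        (Subgroup.Normal.map hSn _ (QuotientGroup.mk'_surjective Z1)) hcyc
      obtain ⟨B, hBdef⟩ : ∃ B, B = Abar.comap (QuotientGroup.mk' Z1) := ⟨_, rfl⟩
      have hBmem : ∀ b, b ∈ B ↔ (QuotientGroup.mk b : R ⧸ Z1) ∈ Abar := by
        intro b; rw [hBdef]; exact Iff.rfl
      have hBn : B.Normal := by rw [hBdef]; exact hAn.comap _
      have hBS : B ≤ S := by
        intro b hb
        obtain ⟨s, hs, hsb⟩ := hAS ((hBmem b).mp hb)
        have hsb' : (QuotientGroup.mk s : R ⧸ Z1) = QuotientGroup.mk b := hsb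
        have h1 : s⁻¹ * b ∈ Z1 := QuotientGroup.eq.mp hsb'
        have h2 : b = s * (s⁻¹ * b) := by group
        rw [h2]
        exact S.mul_mem hs (hZ1S h1)
      have hAcomm : IsMulCommutative ↥Abar := IsPGroup.isMulCommutative_of_card_eq_prime_sq hAc
      have hBnc : ¬ IsCyclic ↥B := by
        intro hc
        obtain ⟨g, hg⟩ := IsCyclic.exists_generator (α := ↥B)
        have hgA : (QuotientGroup.mk (g : R) : R ⧸ Z1) ∈ Abar := (hBmem _).mp g.2
        have hle : Abar ≤ Subgroup.zpowers (QuotientGroup.mk (g : R) : R ⧸ Z1) := by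
          intro a ha
          obtain ⟨b, rfl⟩ := QuotientGroup.mk_surjective a
          have hb : b ∈ B := (hBmem b).mpr ha
          obtain ⟨i, hi⟩ := Subgroup.mem_zpowers_iff.mp (hg ⟨b, hb⟩)
          rw [Subgroup.mem_zpowers_iff]
          refine ⟨i, ?_⟩
          have h1 : ((g ^ i : ↥B) : R) = b := congrArg Subtype.val hi
          rw [Subgroup.coe_zpow] at h1
          rw [← h1, QuotientGroup.mk_zpow]
        have h1 := Subgroup.card_le_of_le hle
        rw [hAc, Nat.card_zpowers] at h1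
        have h2 : orderOf (QuotientGroup.mk (g : R) : R ⧸ Z1) ∣ p :=
          orderOf_dvd_of_pow_eq_one (hAp _ hgA)
        have h3 := Nat.le_of_dvd hpp.pos h2
        omega
      have hmul : ∀ a ∈ B, ∀ b ∈ B, a ^ p = 1 → b ^ p = 1 → (a * b) ^ p = 1 := by
        intro a ha b hb hap hbp
        obtain ⟨e, he⟩ : ∃ e, e = (a * b)⁻¹ * (b * a) := ⟨_, rfl⟩
        have hba : b * a = a * b * e := by rw [he, mul_inv_cancel_left]
        have heZ : e ∈ Z1 := by
          rw [← QuotientGroup.eq_one_iff, he]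
          have hcomm : (QuotientGroup.mk a : R ⧸ Z1) * QuotientGroup.mk b
              = QuotientGroup.mk b * QuotientGroup.mk a :=
            congrArg Subtype.val (hAcomm.is_comm.comm
              (⟨_, (hBmem a).mp ha⟩ : ↥Abar) ⟨_, (hBmem b).mp hb⟩)
          have h1 : ((((a * b)⁻¹ * (b * a) : R)) : R ⧸ Z1)
              = ((a : R ⧸ Z1) * (b : R ⧸ Z1))⁻¹ * ((b : R ⧸ Z1) * (a : R ⧸ Z1)) := rfl
          rw [h1, hcomm, inv_mul_cancel]
        have hec : ∀ y : R, Commute e y := fun y =>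
          (Subgroup.mem_center_iff.mp (hZ1c heZ) y).symm
        rw [Cfsg.Agent.Helper23.mul_pow_prime_of_central hpp hp2 hba (hec a) (hec b)
          (hZ1p e heZ), hap, hbp, one_mul]
      obtain ⟨A, hAB, hAn', hAp', hAc'⟩ := of_mul_closed hp2 hR B hBn hBnc hmul
      exact ⟨A, hAB.trans hBS, hAn', hAp', hAc'⟩

/-- For odd p, every non-cyclic normal subgroup of a p-group contains a normal elementary abelian subgroup of the whole group of order p². -/
theorem result {R : Type*} [Group R] [Finite R] {p : ℕ} [Fact p.Prime] (hp : p ≠ 2) (hR : IsPGroup p R) (S : Subgroup R) [S.Normal] (hS : ¬ IsCyclic S) : ∃ A : Subgroup R, A ≤ S ∧ A.Normal ∧ Cfsg.IsElementaryAbelian p A ∧ Nat.card A = p ^ 2 := by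
  obtain ⟨A, hAS, hAn, hAp, hAc⟩ := aux p hp _ R rfl hR S inferInstance hS
  exact ⟨A, hAS, hAn, ⟨IsPGroup.isMulCommutative_of_card_eq_prime_sq hAc, hAp⟩, hAc⟩

end Cfsg.Agent.S0636
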