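import Cfsg.Statements.S1386
import Mathlib
import Cfsg.Agent.Helper8.Schmidt3

set_option autoImplicit false
open Cfsg

namespace Cfsg.Agent.S1386

open Cfsg.Agent.Helper8

theorem mem_zpowers_of_pow_eq_one {α : Type*} [Group α] [Finite α] [IsCyclic α] (y z : α)
    (h : z ^ orderOf y = 1) : z ∈ Subgroup.zpowers y := by
  classical
  haveI := Fintype.ofFinite α
  have hn : 0 < orderOf y := orderOf_pos y
  have hle := IsCyclic.card_pow_eq_one_le (α := α) hn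
  obtain ⟨S, hS, hScard⟩ : ∃ S : Finset α, (∀ a, a ∈ S ↔ a ^ orderOf y = 1) ∧
      S.card ≤ orderOf y := ⟨_, fun a => by simp, hle⟩
  have hsub : ((Subgroup.zpowers y : Subgroup α) : Set α) ⊆ (S : Set α) := by
    intro a ha
    rw [Finset.mem_coe, hS]
    obtain ⟨k, rfl⟩ := Subgroup.mem_zpowers_iff.mp ha
    rw [← zpow_natCast, ← zpow_mul, mul_comm, zpow_mul, zpow_natCast, pow_orderOf_eq_one,
      one_zpow]
  have hc1 : ((Subgroup.zpowers y : Subgroup α) : Set α).ncard = orderOf y := by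
    rw [← Nat.card_coe_set_eq]; exact Nat.card_zpowers y
  have heq : ((Subgroup.zpowers y : Subgroup α) : Set α) = (S : Set α) := by
    apply Set.eq_of_subset_of_ncard_le hsub
    rw [Set.ncard_coe_finset, hc1]; exact hScard
  have hz : z ∈ (S : Set α) := by rw [Finset.mem_coe, hS]; exact h
  rw [← heq] at hz
  exact hz

theorem mem_zpowers_of_cyclic {G : Type*} [Group G] [Finite G] (C : Subgroup G)
    (hC : IsCyclic ↥C) {y z : G} (hy : y ∈ C) (hz : z ∈ C) (h : z ^ orderOf y = 1) :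
    z ∈ Subgroup.zpowers y := by
  have h1 : (⟨z, hz⟩ : ↥C) ^ orderOf (⟨y, hy⟩ : ↥C) = 1 := by
    rw [Subgroup.orderOf_mk]
    exact Subtype.ext (by simpa using h)
  obtain ⟨k, hk⟩ := Subgroup.mem_zpowers_iff.mp (mem_zpowers_of_pow_eq_one _ _ h1)
  have hk' := congrArg Subtype.val hk
  exact Subgroup.mem_zpowers_iff.mpr ⟨k, by simpa using hk'⟩

theorem mem_sup_of_comm {G : Type*} [Group G] (X Y : Subgroup G)
    (hc : ∀ a ∈ X, ∀ b ∈ Y, a * b = b * a) {g : G} (hg : g ∈ X ⊔ Y) :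
    ∃ a ∈ X, ∃ b ∈ Y, a * b = g := by
  let T : Subgroup G :=
    { carrier := {g | ∃ a ∈ X, ∃ b ∈ Y, a * b = g}
      mul_mem' := by
        rintro _ _ ⟨a, ha, b, hb, rfl⟩ ⟨a', ha', b', hb', rfl⟩
        refine ⟨a * a', X.mul_mem ha ha', b * b', Y.mul_mem hb hb', ?_⟩
        have h := hc a' ha' b hb
        calc a * a' * (b * b') = a * (a' * b) * b' := by group
          _ = a * (b * a') * b' := by rw [h]
          _ = a * b * (a' * b') := by group
      one_mem' := ⟨1, X.one_mem, 1, Y.one_mem, mul_one 1⟩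
      inv_mem' := by
        rintro _ ⟨a, ha, b, hb, rfl⟩
        refine ⟨a⁻¹, X.inv_mem ha, b⁻¹, Y.inv_mem hb, ?_⟩
        have h := hc a ha b hb
        rw [h, mul_inv_rev] }
  have hle : X ⊔ Y ≤ T :=
    sup_le (fun a ha => ⟨a, ha, 1, Y.one_mem, mul_one a⟩)
      (fun b hb => ⟨1, X.one_mem, b, hb, one_mul b⟩)
  exact hle hg

/-- Let G be a finite group, W₁, W₂ subgroups forming a self-normalizing cyclic pair, S a subgroup with W₂ ≤ S and W₁ a complement to S' in S, and (W₁, U, W₂') type-P data for S. Then W₂' = W₂ (that is, C_{S'}(W₁) = W₂). -/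
theorem result {G : Type*} [Group G] [Finite G] (W₁ W₂ S U W₂' : Subgroup G) (hW : Cfsg.IsSelfNormalizingCyclic W₁ W₂)
    (hSW : Cfsg.IsComplIn ⁅S, S⁆ W₁ S) (hW₂S : W₂ ≤ S) (hP : Cfsg.IsTypePWith S W₁ U W₂') :
    W₂' = W₂ := by
  classical
  obtain ⟨hW₁ne, hW₂ne, hW12, hWcomm, hWcyc, hWnorm⟩ := hW
  obtain ⟨hS'S, hW₁S, hS'W₁, hSdec⟩ := hSW
  obtain ⟨x, hx, hx1⟩ : ∃ x ∈ W₁, x ≠ 1 := by
    by_contra hcon
    push Not at hcon
    exact hW₁ne ((Subgroup.eq_bot_iff_forall W₁).mpr hcon)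
  obtain ⟨w, hw, hw1⟩ : ∃ w ∈ W₂, w ≠ 1 := by
    by_contra hcon
    push Not at hcon
    exact hW₂ne ((Subgroup.eq_bot_iff_forall W₂).mpr hcon)
  have hcent := hP.W₂_centralizer x hx hx1
  have hdisj : ∀ g ∈ W₁, g ∈ W₂ → g = 1 := by
    intro g h1 h2
    have h3 : g ∈ W₁ ⊓ W₂ := Subgroup.mem_inf.mpr ⟨h1, h2⟩
    rw [hW12, Subgroup.mem_bot] at h3; exact h3
  have hdisj' : ∀ g ∈ ⁅S, S⁆, g ∈ W₁ → g = 1 := by
    intro g h1 h2
    have h3 : g ∈ ⁅S, S⁆ ⊓ W₁ := Subgroup.mem_inf.mpr ⟨h1, h2⟩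
    rw [hS'W₁, Subgroup.mem_bot] at h3; exact h3
  have hW₂S' : W₂ ≤ ⁅S, S⁆ := by
    intro y hy
    obtain ⟨s', hs', w₁, hw₁, hyw⟩ := hSdec y (hW₂S hy)
    have hc : w₁ * y = y * w₁ := hWcomm w₁ hw₁ y hy
    have hs'eq : s' = y * w₁⁻¹ := by rw [hyw]; group
    have h1 : w₁ ^ orderOf y = 1 := by
      have h2 : s' ^ orderOf y = (w₁ ^ orderOf y)⁻¹ := by
        rw [hs'eq, (show Commute y w₁⁻¹ from (show Commute w₁ y from hc).symm.inv_right).mul_pow,
          pow_orderOf_eq_one, one_mul, inv_pow]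
      have h3 : (w₁ ^ orderOf y)⁻¹ ∈ ⁅S, S⁆ := by rw [← h2]; exact Subgroup.pow_mem _ hs' _
      have h4 : (w₁ ^ orderOf y)⁻¹ ∈ W₁ := W₁.inv_mem (W₁.pow_mem hw₁ _)
      have h5 := hdisj' _ h3 h4
      exact inv_eq_one.mp h5
    have hmem : w₁ ∈ Subgroup.zpowers y :=
      mem_zpowers_of_cyclic (W₁ ⊔ W₂) hWcyc (le_sup_right (a := W₁) hy)
        (le_sup_left (b := W₂) hw₁) h1
    have hw₁W₂ : w₁ ∈ W₂ := (Subgroup.zpowers_le.mpr hy) hmem
    have hw₁1 : w₁ = 1 := hdisj w₁ hw₁ hw₁W₂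
    rw [hyw, hw₁1, mul_one]; exact hs'
  obtain ⟨hW₁ne', hW₂'ne, hW12', hWcomm', hWcyc', hWnorm'⟩ := hP.selfNormalizing
  have hW₂W₂' : W₂ ≤ W₂' := by
    intro y hy
    rw [← hcent]
    refine Subgroup.mem_inf.mpr ⟨hW₂S' hy, ?_⟩
    rw [Subgroup.mem_centralizer_iff]
    intro h hh
    rw [Set.mem_singleton_iff] at hh
    rw [hh]
    exact hWcomm x hx y hy
  have hxw : ∀ y ∈ W₂', y * (x * w) = (x * w) * y := by
    intro y hy
    have hyx : x * y = y * x := by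
      have h1 : y ∈ ⁅S, S⁆ ⊓ Subgroup.centralizer ({x} : Set G) := by rw [hcent]; exact hy
      exact Subgroup.mem_centralizer_iff.mp (Subgroup.mem_inf.mp h1).2 x (Set.mem_singleton x)
    have hyw : y * w = w * y :=
      comm_of_isCyclic_sub (W₁ ⊔ W₂') hWcyc' (le_sup_right (a := W₁) hy)
        (le_sup_right (a := W₁) (hW₂W₂' hw))
    calc y * (x * w) = (y * x) * w := by rw [mul_assoc]
      _ = (x * y) * w := by rw [hyx]
      _ = x * (y * w) := by rw [mul_assoc]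
      _ = x * (w * y) := by rw [hyw]
      _ = (x * w) * y := by rw [mul_assoc]
  have hXsub : ({x * w} : Set G) ⊆ (↑(W₁ ⊔ W₂) : Set G) \ (↑W₁ ∪ ↑W₂) := by
    intro g hg
    rw [Set.mem_singleton_iff] at hg
    rw [hg]
    refine ⟨Subgroup.mul_mem _ (le_sup_left (b := W₂) hx) (le_sup_right (a := W₁) hw), ?_⟩
    rintro (h | h)
    · apply hw1
      refine hdisj w ?_ hw
      have e : w = x⁻¹ * (x * w) := by group
      rw [e]; exact W₁.mul_mem (W₁.inv_mem hx) h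
    · apply hx1
      refine hdisj x hx ?_
      have e : x = (x * w) * w⁻¹ := by group
      rw [e]; exact W₂.mul_mem h (W₂.inv_mem hw)
  have hN := hWnorm {x * w} hXsub (Set.singleton_nonempty _)
  have hW₂'le : W₂' ≤ W₁ ⊔ W₂ := by
    intro y hy
    rw [← hN, Subgroup.mem_set_normalizer_iff]
    intro h
    have hc := hxw y hy
    constructor
    · intro hh
      rw [Set.mem_singleton_iff] at hh ⊢
      rw [hh, hc, mul_inv_cancel_right]
    · intro hh
      rw [Set.mem_singleton_iff] at hh ⊢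
      calc h = y⁻¹ * (y * h * y⁻¹) * y := by group
        _ = y⁻¹ * (x * w) * y := by rw [hh]
        _ = y⁻¹ * (x * w * y) := by group
        _ = y⁻¹ * (y * (x * w)) := by rw [hc]
        _ = x * w := by group
  apply le_antisymm _ hW₂W₂'
  intro y hy
  have hyS' : y ∈ ⁅S, S⁆ := by
    have h1 : y ∈ ⁅S, S⁆ ⊓ Subgroup.centralizer ({x} : Set G) := by rw [hcent]; exact hy
    exact (Subgroup.mem_inf.mp h1).1
  have hy' := hW₂'le hy
  obtain ⟨a, ha, b, hb, hab⟩ := mem_sup_of_comm W₁ W₂ hWcomm hy'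
  have ha1 : a = 1 := by
    refine hdisj' a ?_ ha
    have e : a = y * b⁻¹ := by rw [← hab]; group
    rw [e]; exact Subgroup.mul_mem _ hyS' (Subgroup.inv_mem _ (hW₂S' hb))
  rw [← hab, ha1, one_mul]; exact hb

end Cfsg.Agent.S1386
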