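import Cfsg.Statements.S1337
import Mathlib
import Cfsg.Agent.S0636
import Cfsg.Agent.S0519
import Cfsg.Agent.S0129
import Cfsg.Agent.S1386
import Cfsg.Agent.Helper23.OddPGroup
import Cfsg.Agent.Helper8.TwoLocal

set_option autoImplicit false
open Cfsg

namespace Cfsg.Agent.S1337

theorem comm_iff {P : Type*} [Group P] (A : Subgroup P) :
    IsMulCommutative ↥A ↔ ∀ a ∈ A, ∀ b ∈ A, a * b = b * a :=
  ⟨fun h a ha b hb => congrArg Subtype.val (h.is_comm.comm (⟨a, ha⟩ : ↥A) ⟨b, hb⟩),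
   fun h => ⟨⟨fun a b => Subtype.ext (h a a.2 b b.2)⟩⟩⟩

/-- In a group with a cyclic subgroup of index two, a subgroup of exponent two has order at
most four. -/
theorem card_le_four {P : Type*} [Group P] [Finite P] (x : P)
    (hx : 2 * orderOf x = Nat.card P) (E : Subgroup P) (hE : ∀ a ∈ E, a ^ 2 = 1) :
    Nat.card E ≤ 4 := by
  obtain ⟨C, hC⟩ : ∃ C, C = Subgroup.zpowers x := ⟨_, rfl⟩
  have hCcard : Nat.card C = orderOf x := by rw [hC, Nat.card_zpowers]
  have hCi : C.index = 2 := by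
    have h1 := Subgroup.card_mul_index C
    rw [hCcard, ← hx] at h1
    have hpos : 0 < orderOf x := orderOf_pos x
    nlinarith
  haveI hCn : C.Normal := Subgroup.normal_of_index_eq_two hCi
  have h2 : Nat.card (E ⊓ C : Subgroup P) ≤ 2 := by
    haveI : IsCyclic ↥C := by rw [hC]; infer_instance
    obtain ⟨g, hg⟩ := IsCyclic.exists_ofOrder_eq_natCard (α := ↥((E ⊓ C).subgroupOf C))
    rw [Nat.card_congr (Subgroup.subgroupOfEquivOfLe (inf_le_right : E ⊓ C ≤ C)).toEquiv] at hg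
    have hgE : ((g : ↥C) : P) ∈ E := (Subgroup.mem_subgroupOf.mp g.2).1
    have h1 : g ^ 2 = 1 := by
      apply Subtype.ext
      apply Subtype.ext
      rw [Subgroup.coe_pow, Subgroup.coe_pow, Subgroup.coe_one, Subgroup.coe_one]
      exact hE _ hgE
    have := Nat.le_of_dvd (by norm_num) (orderOf_dvd_of_pow_eq_one h1)
    omega
  have hcard : Nat.card E = Nat.card (E ⊓ C : Subgroup P) * (E ⊓ C).relIndex E :=
    Cfsg.Agent.Helper8.card_eq_card_mul_relIndex inf_le_left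
  rw [Subgroup.inf_relIndex_left] at hcard
  have hrel : C.relIndex E ≤ 2 := by
    have := Subgroup.relIndex_dvd_index_of_normal C E
    rw [hCi] at this
    exact Nat.le_of_dvd (by norm_num) this
  rw [hcard]
  calc Nat.card (E ⊓ C : Subgroup P) * C.relIndex E ≤ 2 * 2 := Nat.mul_le_mul h2 hrel
    _ = 4 := by norm_num

theorem exists_normal_abelian_noncyclic {P : Type*} [Group P] [Finite P] (p : ℕ)
    [Fact p.Prime] (hP : IsPGroup p P) (hrk : ¬ Cfsg.PRankLE p 2 P) :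
    ∃ N : Subgroup P, N.Normal ∧ IsMulCommutative N ∧ ¬ IsCyclic N := by
  have hpp : p.Prime := Fact.out
  have h4 : p < p ^ 2 := by
    calc p = p ^ 1 := (pow_one p).symm
      _ < p ^ 2 := Nat.pow_lt_pow_right hpp.one_lt (by norm_num)
  by_contra hcon
  push Not at hcon
  unfold Cfsg.PRankLE at hrk
  push Not at hrk
  obtain ⟨E, hEc, hEp, hEcard⟩ := hrk
  have hEnc : ¬ IsCyclic ↥E := by
    intro hc
    obtain ⟨g, hg⟩ := IsCyclic.exists_ofOrder_eq_natCard (α := ↥E)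
    have h1 : g ^ p = 1 :=
      Subtype.ext (by rw [Subgroup.coe_pow, Subgroup.coe_one]; exact hEp g g.2)
    have h2 := Nat.le_of_dvd hpp.pos (orderOf_dvd_of_pow_eq_one h1)
    rw [hg] at h2
    omega
  obtain ⟨rfl, hcases⟩ := Cfsg.Agent.S0519.result p hP hcon ⟨E, hEc, hEnc⟩
  have key : ∃ x : P, 2 * orderOf x = Nat.card P := by
    rcases hcases with ⟨n, ⟨e⟩⟩ | ⟨n, hn, ⟨e⟩⟩ | ⟨n, hn, hcard, x, y, hx, -, -⟩
    · have ho : orderOf (e.symm (QuaternionGroup.a 1)) = 2 * n := by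
        rw [MulEquiv.orderOf_eq, QuaternionGroup.orderOf_a_one]
      have hpos : 0 < orderOf (e.symm (QuaternionGroup.a 1)) := orderOf_pos _
      have hn0 : n ≠ 0 := by
        rintro rfl
        omega
      haveI : NeZero n := ⟨hn0⟩
      refine ⟨e.symm (QuaternionGroup.a 1), ?_⟩
      rw [ho, Nat.card_congr e.toEquiv, Nat.card_eq_fintype_card, QuaternionGroup.card]
      ring
    · refine ⟨e.symm (DihedralGroup.r 1), ?_⟩
      rw [MulEquiv.orderOf_eq, DihedralGroup.orderOf_r_one, Nat.card_congr e.toEquiv,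
        DihedralGroup.nat_card]
    · exact ⟨x, by rw [hx, hcard, pow_succ]; ring⟩
  obtain ⟨x, hx⟩ := key
  have := card_le_four x hx E hEp
  norm_num at hEcard
  omega

theorem exists_normal_rank_two {P : Type*} [Group P] [Finite P] (p : ℕ) [Fact p.Prime]
    (hP : IsPGroup p P) (hrk : ¬ Cfsg.PRankLE p 2 P) :
    ∃ U : Subgroup P, U.Normal ∧ (∀ a ∈ U, a ^ p = 1) ∧ Nat.card U = p ^ 2 := by
  have hpp : p.Prime := Fact.out
  obtain ⟨N, hNn, hNc, hNnc⟩ := exists_normal_abelian_noncyclic p hP hrk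
  have hNc' := (comm_iff N).mp hNc
  have hmul : ∀ a ∈ N, ∀ b ∈ N, a ^ p = 1 → b ^ p = 1 → (a * b) ^ p = 1 := by
    intro a ha b hb hap hbp
    rw [(show Commute a b from hNc' a ha b hb).mul_pow, hap, hbp, one_mul]
  obtain ⟨Ω, hΩ⟩ : ∃ Ω, Ω = Cfsg.Agent.S0636.omegaSub p N hmul := ⟨_, rfl⟩
  have hmem : ∀ x, x ∈ Ω ↔ x ∈ N ∧ x ^ p = 1 := by
    intro x; rw [hΩ]; exact Iff.rfl
  have hΩn : Ω.Normal := by
    constructor
    intro n hn g
    rw [hmem] at hn ⊢
    exact ⟨hNn.conj_mem n hn.1 g, by rw [conj_pow, hn.2, mul_one, mul_inv_cancel]⟩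
  have key : ∃ z x : ↥N, z ≠ 1 ∧ z ^ p = 1 ∧ x ^ p = 1 ∧ x ∉ Subgroup.zpowers z := by
    letI : CommGroup ↥N := { (inferInstance : Group ↥N) with mul_comm := hNc.is_comm.comm }
    exact Cfsg.Agent.Helper23.exists_rank_two_pgroup_comm (hP.to_subgroup N) hNnc
  obtain ⟨z, x, hz1, hzp, hxp, hxz⟩ := key
  have hzΩ : (z : P) ∈ Ω :=
    (hmem _).mpr ⟨z.2, by rw [← Subgroup.coe_pow, hzp, Subgroup.coe_one]⟩
  have hxΩ : (x : P) ∈ Ω :=
    (hmem _).mpr ⟨x.2, by rw [← Subgroup.coe_pow, hxp, Subgroup.coe_one]⟩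
  have hzo : orderOf (z : P) = p := by
    rw [Subgroup.orderOf_coe]; exact orderOf_eq_prime hzp hz1
  have hxz' : (x : P) ∉ Subgroup.zpowers (z : P) := by
    intro h
    obtain ⟨i, hi⟩ := Subgroup.mem_zpowers_iff.mp h
    apply hxz
    rw [Subgroup.mem_zpowers_iff]
    exact ⟨i, Subtype.ext (by rw [Subgroup.coe_zpow]; exact hi)⟩
  have hΩcard : p < Nat.card Ω := by
    by_contra hcon
    push Not at hcon
    have heq : Subgroup.zpowers (z : P) = Ω :=
      Subgroup.eq_of_le_of_card_ge (Subgroup.zpowers_le.mpr hzΩ)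
        (by rw [Nat.card_zpowers, hzo]; exact hcon)
    exact hxz' (heq ▸ hxΩ)
  obtain ⟨m, hm⟩ := IsPGroup.iff_card.mp (hP.to_subgroup Ω)
  have hm2 : 2 ≤ m := by
    by_contra hcon
    have : m = 0 ∨ m = 1 := by omega
    rcases this with rfl | rfl
    · rw [hm, pow_zero] at hΩcard
      have := hpp.one_lt
      omega
    · rw [hm, pow_one] at hΩcard
      omega
  obtain ⟨d, rfl⟩ : ∃ d, m = 2 + d := ⟨m - 2, by omega⟩
  obtain ⟨A, hAΩ, hAn, hAc⟩ := Cfsg.Agent.S0636.chain hP 2 d Ω hΩn hm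
  exact ⟨A, hAn, fun a ha => ((hmem a).mp (hAΩ ha)).2, hAc⟩

theorem inf_centralizer_card {P : Type*} [Group P] [Finite P] (p : ℕ) [Fact p.Prime]
    (hP : IsPGroup p P) (U : Subgroup P) (hUn : U.Normal) (hU2 : Nat.card U = p ^ 2)
    (E : Subgroup P) (hE : p ^ 2 < Nat.card E) :
    p ^ 2 ≤ Nat.card (E ⊓ Subgroup.centralizer (U : Set P) : Subgroup P) := by
  have hpp : p.Prime := Fact.out
  haveI := hUn
  have hidx := Cfsg.Agent.S0129.index_centralizer_le hP 2 U hUn hU2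
  have hsum : (∑ i ∈ Finset.range 2, i) = 1 := by decide
  rw [hsum, pow_one] at hidx
  obtain ⟨C, hC⟩ : ∃ C, C = Subgroup.centralizer (U : Set P) := ⟨_, rfl⟩
  rw [← hC] at hidx ⊢
  haveI hCn : C.Normal := by rw [hC]; infer_instance
  have hrel : C.relIndex E ≤ p :=
    le_trans (Nat.le_of_dvd (Nat.pos_of_ne_zero Subgroup.index_ne_zero_of_finite)
      (Subgroup.relIndex_dvd_index_of_normal C E)) hidx
  have hcard : Nat.card E = Nat.card (E ⊓ C : Subgroup P) * (E ⊓ C).relIndex E :=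
    Cfsg.Agent.Helper8.card_eq_card_mul_relIndex inf_le_left
  rw [Subgroup.inf_relIndex_left] at hcard
  obtain ⟨m, hm⟩ := IsPGroup.iff_card.mp (hP.to_subgroup (E ⊓ C))
  rw [hm] at hcard ⊢
  apply Nat.pow_le_pow_right hpp.pos
  by_contra hcon
  have hm1 : m ≤ 1 := by omega
  have h1 : p ^ m ≤ p := by
    calc p ^ m ≤ p ^ 1 := Nat.pow_le_pow_right hpp.pos hm1
      _ = p := pow_one p
  have h2 : Nat.card E ≤ p * p := by rw [hcard]; exact Nat.mul_le_mul h1 hrel
  rw [pow_two] at hE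
  omega

theorem sup_elab {P : Type*} [Group P] (p : ℕ) (X Y : Subgroup P)
    (hXc : ∀ a ∈ X, ∀ b ∈ X, a * b = b * a) (hXp : ∀ a ∈ X, a ^ p = 1)
    (hYc : ∀ a ∈ Y, ∀ b ∈ Y, a * b = b * a) (hYp : ∀ a ∈ Y, a ^ p = 1)
    (hXY : ∀ a ∈ X, ∀ b ∈ Y, a * b = b * a) :
    (∀ a ∈ X ⊔ Y, ∀ b ∈ X ⊔ Y, a * b = b * a) ∧ (∀ a ∈ X ⊔ Y, a ^ p = 1) := by
  constructor
  · intro a ha b hb
    obtain ⟨x, hx, y, hy, rfl⟩ := Cfsg.Agent.S1386.mem_sup_of_comm X Y hXY ha
    obtain ⟨x', hx', y', hy', rfl⟩ := Cfsg.Agent.S1386.mem_sup_of_comm X Y hXY hb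
    have h1 : Commute x x' := hXc x hx x' hx'
    have h2 : Commute x y' := hXY x hx y' hy'
    have h3 : Commute y x' := (hXY x' hx' y hy).symm
    have h4 : Commute y y' := hYc y hy y' hy'
    exact ((h1.mul_right h2).mul_left (h3.mul_right h4)).eq
  · intro a ha
    obtain ⟨x, hx, y, hy, rfl⟩ := Cfsg.Agent.S1386.mem_sup_of_comm X Y hXY ha
    rw [(show Commute x y from hXY x hx y hy).mul_pow, hXp x hx, hYp y hy, one_mul]

theorem not_rank_of_sub {P : Type*} [Group P] (p : ℕ) (H B : Subgroup P) (hBH : B ≤ H)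
    (hBc : ∀ a ∈ B, ∀ b ∈ B, a * b = b * a) (hBp : ∀ a ∈ B, a ^ p = 1)
    (hB : p ^ 2 < Nat.card B) : ¬ Cfsg.PRankLE p 2 ↥H := by
  intro h
  have h1 := h (B.subgroupOf H)
    ⟨⟨fun a b => Subtype.ext (Subtype.ext
      (hBc _ (Subgroup.mem_subgroupOf.mp a.2) _ (Subgroup.mem_subgroupOf.mp b.2)))⟩⟩
    (by
      intro a ha
      apply Subtype.ext
      rw [Subgroup.coe_pow, Subgroup.coe_one]
      exact hBp _ (Subgroup.mem_subgroupOf.mp ha))
  rw [Nat.card_congr (Subgroup.subgroupOfEquivOfLe hBH).toEquiv] at h1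
  omega

theorem rank_centralizer_normal {P : Type*} [Group P] [Finite P] (p : ℕ) [Fact p.Prime]
    (hP : IsPGroup p P) (hrk : ¬ Cfsg.PRankLE p 2 P) (U : Subgroup P) (hUn : U.Normal)
    (hUc : ∀ a ∈ U, ∀ b ∈ U, a * b = b * a) (hUp : ∀ a ∈ U, a ^ p = 1)
    (hU2 : Nat.card U = p ^ 2) :
    ¬ Cfsg.PRankLE p 2 ↥(Subgroup.centralizer (U : Set P)) := by
  unfold Cfsg.PRankLE at hrk
  push Not at hrk
  obtain ⟨E, hEc, hEp, hEcard⟩ := hrk
  have hEc' := (comm_iff E).mp hEc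
  by_cases hUE : U ≤ E
  · apply not_rank_of_sub p _ E ?_ hEc' hEp hEcard
    intro e he
    rw [Subgroup.mem_centralizer_iff]
    intro u hu
    exact hEc' u (hUE hu) e he
  · obtain ⟨E₁, hE₁⟩ : ∃ E₁, E₁ = E ⊓ Subgroup.centralizer (U : Set P) := ⟨_, rfl⟩
    have hE₁card : p ^ 2 ≤ Nat.card E₁ := by
      rw [hE₁]; exact inf_centralizer_card p hP U hUn hU2 E hEcard
    have hE₁E : E₁ ≤ E := by rw [hE₁]; exact inf_le_left
    have hE₁U : ∀ a ∈ E₁, ∀ b ∈ U, a * b = b * a := by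
      intro a ha b hb
      rw [hE₁] at ha
      exact ((Subgroup.mem_centralizer_iff.mp ha.2) b hb).symm
    obtain ⟨hBc, hBp⟩ := sup_elab p E₁ U (fun a ha b hb => hEc' a (hE₁E ha) b (hE₁E hb))
      (fun a ha => hEp a (hE₁E ha)) hUc hUp hE₁U
    apply not_rank_of_sub p _ (E₁ ⊔ U) ?_ hBc hBp ?_
    · apply sup_le
      · rw [hE₁]; exact inf_le_right
      · intro u hu
        rw [Subgroup.mem_centralizer_iff]
        intro u' hu'
        exact hUc u' hu' u hu
    · by_contra hcon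
      push Not at hcon
      have h1 : U = E₁ ⊔ U :=
        Subgroup.eq_of_le_of_card_ge le_sup_right (by rw [hU2]; exact hcon)
      have h2 : E₁ ≤ U := by rw [h1]; exact le_sup_left
      have h3 : E₁ = U := Subgroup.eq_of_le_of_card_ge h2 (by rw [hU2]; exact hE₁card)
      exact hUE (h3 ▸ hE₁E)

theorem rank_of_chain {P : Type*} [Group P] [Finite P] (p : ℕ) [Fact p.Prime]
    (hP : IsPGroup p P) (hrk : ¬ Cfsg.PRankLE p 2 P) (U : Subgroup P) (hUn : U.Normal)
    (hUc : ∀ a ∈ U, ∀ b ∈ U, a * b = b * a) (hUp : ∀ a ∈ U, a ^ p = 1)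
    (hU2 : Nat.card U = p ^ 2) {X : Subgroup P}
    (h : Relation.ReflTransGen (fun A B : Subgroup P => Cfsg.IsElementaryAbelian p A ∧
      p ^ 2 ≤ Nat.card ↥A ∧ Cfsg.IsElementaryAbelian p B ∧ p ^ 2 ≤ Nat.card ↥B ∧
      ∀ a ∈ A, ∀ b ∈ B, a * b = b * a) X U) :
    ¬ Cfsg.PRankLE p 2 ↥(Subgroup.centralizer (X : Set P)) := by
  induction h using Relation.ReflTransGen.head_induction_on with
  | refl => exact rank_centralizer_normal p hP hrk U hUn hUc hUp hU2
  | head h' hcb ih =>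
    rename_i A B
    obtain ⟨hA, hAcard, hB, hBcard, hAB⟩ := h'
    by_cases hAB' : A = B
    · rw [hAB']; exact ih
    · have hAc := (comm_iff A).mp hA.1
      have hBc := (comm_iff B).mp hB.1
      obtain ⟨hSc, hSp⟩ := sup_elab p A B hAc hA.2 hBc hB.2 hAB
      apply not_rank_of_sub p _ (A ⊔ B) ?_ hSc hSp ?_
      · apply sup_le
        · intro a ha
          rw [Subgroup.mem_centralizer_iff]
          intro a' ha'
          exact hAc a' ha' a ha
        · intro b hb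
          rw [Subgroup.mem_centralizer_iff]
          intro a' ha'
          exact hAB a' ha' b hb
      · by_contra hcon
        push Not at hcon
        have h1 : A = A ⊔ B := Subgroup.eq_of_le_of_card_ge le_sup_left (le_trans hcon hAcard)
        have h2 : B = A ⊔ B := Subgroup.eq_of_le_of_card_ge le_sup_right (le_trans hcon hBcard)
        exact hAB' (h1.trans h2.symm)

/-- Let P be a finite p-group of p-rank greater than 2. Then P has a normal elementary abelian subgroup U of order p², and for every elementary abelian X ≤ P with |X| ≥ p²: X is joined to U by a chain of pairwise commuting elementary abelian subgroups of order ≥ p² if and only if C_P(X) has p-rank greater than 2. -/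
theorem result {P : Type*} [Group P] [Finite P] (p : ℕ) [Fact p.Prime] (hP : IsPGroup p P) (hrk : ¬ Cfsg.PRankLE p 2 P) : ∃ U : Subgroup P, U.Normal ∧ Cfsg.IsElementaryAbelian p U ∧ Nat.card ↥U = p ^ 2 ∧ ∀ X : Subgroup P, Cfsg.IsElementaryAbelian p X → p ^ 2 ≤ Nat.card ↥X → (Relation.ReflTransGen (fun A B : Subgroup P => Cfsg.IsElementaryAbelian p A ∧ p ^ 2 ≤ Nat.card ↥A ∧ Cfsg.IsElementaryAbelian p B ∧ p ^ 2 ≤ Nat.card ↥B ∧ ∀ a ∈ A, ∀ b ∈ B, a * b = b * a) X U ↔ ¬ Cfsg.PRankLE p 2 ↥(Subgroup.centralizer (X : Set P))) := by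
  obtain ⟨U, hUn, hUp, hU2⟩ := exists_normal_rank_two p hP hrk
  have hUcomm : IsMulCommutative ↥U := IsPGroup.isMulCommutative_of_card_eq_prime_sq hU2
  have hUc := (comm_iff U).mp hUcomm
  refine ⟨U, hUn, ⟨hUcomm, hUp⟩, hU2, ?_⟩
  intro X hX hXcard
  constructor
  · intro hchain
    exact rank_of_chain p hP hrk U hUn hUc hUp hU2 hchain
  · intro hrank
    unfold Cfsg.PRankLE at hrank
    push Not at hrank
    obtain ⟨B', hB'c, hB'p, hB'card⟩ := hrank
    obtain ⟨E, hE⟩ : ∃ E, E = B'.map (Subgroup.centralizer (X : Set P)).subtype := ⟨_, rfl⟩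
    have hEle : E ≤ Subgroup.centralizer (X : Set P) := by
      rw [hE]; exact Subgroup.map_subtype_le B'
    have hEcard : p ^ 2 < Nat.card E := by
      rw [hE, Subgroup.card_map_of_injective (Subgroup.subtype_injective _)]; exact hB'card
    have hEc : ∀ a ∈ E, ∀ b ∈ E, a * b = b * a := by
      rw [hE]
      rintro _ ⟨a, ha, rfl⟩ _ ⟨b, hb, rfl⟩
      have := hB'c.is_comm.comm (⟨a, ha⟩ : ↥B') ⟨b, hb⟩
      exact congrArg (fun t : ↥B' => ((t : ↥(Subgroup.centralizer (X : Set P))) : P)) this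
    have hEp : ∀ a ∈ E, a ^ p = 1 := by
      rw [hE]
      rintro _ ⟨a, ha, rfl⟩
      have := hB'p a ha
      show ((a : ↥(Subgroup.centralizer (X : Set P))) : P) ^ p = 1
      rw [← Subgroup.coe_pow, this, Subgroup.coe_one]
    obtain ⟨E₁, hE₁⟩ : ∃ E₁, E₁ = E ⊓ Subgroup.centralizer (U : Set P) := ⟨_, rfl⟩
    have hE₁card : p ^ 2 ≤ Nat.card E₁ := by
      rw [hE₁]; exact inf_centralizer_card p hP U hUn hU2 E hEcard
    have hE₁E : E₁ ≤ E := by rw [hE₁]; exact inf_le_left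
    have hEel : Cfsg.IsElementaryAbelian p E := ⟨(comm_iff E).mpr hEc, hEp⟩
    have hE₁el : Cfsg.IsElementaryAbelian p E₁ :=
      ⟨(comm_iff E₁).mpr (fun a ha b hb => hEc a (hE₁E ha) b (hE₁E hb)),
        fun a ha => hEp a (hE₁E ha)⟩
    have hUel : Cfsg.IsElementaryAbelian p U := ⟨hUcomm, hUp⟩
    refine Relation.ReflTransGen.tail (b := E₁) (Relation.ReflTransGen.tail (b := E)
      (Relation.ReflTransGen.single ?_) ?_) ?_
    · exact ⟨hX, hXcard, hEel, hEcard.le,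
        fun a ha b hb => (Subgroup.mem_centralizer_iff.mp (hEle hb)) a ha⟩
    · exact ⟨hEel, hEcard.le, hE₁el, hE₁card, fun a ha b hb => hEc a ha b (hE₁E hb)⟩
    · exact ⟨hE₁el, hE₁card, hUel, hU2.ge, fun a ha b hb => by
        rw [hE₁] at ha
        exact ((Subgroup.mem_centralizer_iff.mp ha.2) b hb).symm⟩

end Cfsg.Agent.S1337
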