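import Cfsg.Statements.S1452
import Mathlib
import Cfsg.Agent.S1337

set_option autoImplicit false
open Cfsg

namespace Cfsg.Agent.S1452

/-- power of a product when the "commutator" `c` commutes with both factors -/
theorem mul_pow_of_comm {G : Type*} [Group G] (x y c : G) (hyx : y * x = x * y * c)
    (hcx : c * x = x * c) (hcy : c * y = y * c) (n : ℕ) :
    (x * y) ^ n = x ^ n * y ^ n * c ^ (∑ i ∈ Finset.range n, i) := by
  have hCx : Commute c x := hcx
  have hCy : Commute c y := hcy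
  have h : ∀ k : ℕ, y ^ k * x = x * y ^ k * c ^ k := by
    intro k
    induction k with
    | zero => simp
    | succ k ih =>
      calc y ^ (k + 1) * x = y * (y ^ k * x) := by rw [pow_succ']; group
        _ = y * (x * y ^ k * c ^ k) := by rw [ih]
        _ = (y * x) * y ^ k * c ^ k := by group
        _ = x * y * c * y ^ k * c ^ k := by rw [hyx]
        _ = x * y * (c * y ^ k) * c ^ k := by group
        _ = x * y * (y ^ k * c) * c ^ k := by rw [(hCy.pow_right k).eq]
        _ = x * y ^ (k + 1) * c ^ (k + 1) := by rw [pow_succ' y, pow_succ' c]; group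
  induction n with
  | zero => simp
  | succ n ih =>
    rw [pow_succ (x * y), ih, Finset.sum_range_succ, pow_add c]
    have h1 : c ^ (∑ i ∈ Finset.range n, i) * (x * y) = (x * y) * c ^ (∑ i ∈ Finset.range n, i) :=
      ((hCx.mul_right hCy).pow_left _).eq
    have h2 : c ^ n * y = y * c ^ n := (hCy.pow_left n).eq
    have h3 : c ^ n * c ^ (∑ i ∈ Finset.range n, i) = c ^ (∑ i ∈ Finset.range n, i) * c ^ n :=
      ((Commute.refl c).pow_pow _ _).eq
    calc x ^ n * y ^ n * c ^ (∑ i ∈ Finset.range n, i) * (x * y)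
        = x ^ n * y ^ n * (c ^ (∑ i ∈ Finset.range n, i) * (x * y)) := by
          rw [mul_assoc (x ^ n * y ^ n)]
      _ = x ^ n * y ^ n * ((x * y) * c ^ (∑ i ∈ Finset.range n, i)) := by rw [h1]
      _ = x ^ n * (y ^ n * x) * y * c ^ (∑ i ∈ Finset.range n, i) := by
          simp only [mul_assoc]
      _ = x ^ n * (x * y ^ n * c ^ n) * y * c ^ (∑ i ∈ Finset.range n, i) := by rw [h n]
      _ = x ^ n * x * y ^ n * (c ^ n * y) * c ^ (∑ i ∈ Finset.range n, i) := by
          simp only [mul_assoc]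
      _ = x ^ n * x * y ^ n * (y * c ^ n) * c ^ (∑ i ∈ Finset.range n, i) := by rw [h2]
      _ = x ^ (n + 1) * y ^ (n + 1) * (c ^ n * c ^ (∑ i ∈ Finset.range n, i)) := by
          rw [pow_succ x, pow_succ y]; simp only [mul_assoc]
      _ = x ^ (n + 1) * y ^ (n + 1) * (c ^ (∑ i ∈ Finset.range n, i) * c ^ n) := by rw [h3]

/-- a fixed-point-free self-map of order `p` on an invariant finite set: `p` divides its size -/
theorem dvd_card_of_iterate {Q : Type*} (p : ℕ) [Fact p.Prime] (F : Q → Q) (S : Set Q) [Finite S]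
    (hS : Set.MapsTo F S S) (hF : ∀ q, F^[p] q = q) (hfix : ∀ q, F q ≠ q) : p ∣ Nat.card S := by
  letI : DecidableEq S := Classical.decEq _
  letI := Fintype.ofFinite S
  obtain ⟨f, hfdef⟩ : ∃ f : Function.End S, f = hS.restrict F S S := ⟨_, rfl⟩
  have hf : f ^ p ^ 1 = 1 := by
    rw [pow_one]
    have h1 : ((f ^ p : Function.End S) : S → S) = (f : S → S)^[p] :=
      hom_coe_pow (fun g : Function.End S ↦ g) rfl (fun g h ↦ rfl) f p
    funext q
    have h2 : (f ^ p : Function.End S) q = (f : S → S)^[p] q := congrFun h1 q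
    rw [h2, hfdef, Set.MapsTo.iterate_restrict]
    apply Subtype.ext
    rw [Set.MapsTo.val_restrict_apply]
    exact hF q.1
  have key := Equiv.Perm.card_fixedPoints_modEq (f := f) hf
  rw [← Nat.card_eq_fintype_card] at key
  haveI hempty : IsEmpty (Function.fixedPoints f) :=
    ⟨fun ⟨q, hq⟩ => hfix q.1 (by
      have h3 : f q = q := hq
      rw [hfdef] at h3
      have h4 := congrArg Subtype.val h3
      rw [Set.MapsTo.val_restrict_apply] at h4
      exact h4)⟩
  have h0 : ∀ (inst : Fintype (Function.fixedPoints f)), @Fintype.card _ inst = 0 :=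
    fun inst => @Fintype.card_eq_zero _ inst hempty
  rw [h0] at key
  exact (Nat.modEq_zero_iff_dvd).mp key

/-- a conjugation-invariant subset of a `p`-group of size prime to `p` contains a central
element -/
theorem exists_central_of_conj_invariant {Q : Type*} [Group Q] [Finite Q] (p : ℕ) [Fact p.Prime]
    (hQ : IsPGroup p Q) (T : Set Q) (hT : ∀ q ∈ T, ∀ g : Q, g * q * g⁻¹ ∈ T)
    (hnd : ¬ p ∣ Nat.card T) : ∃ q ∈ T, ∀ g : Q, g * q = q * g := by
  letI : MulAction Q T :=
    { smul := fun g q => ⟨g * q.1 * g⁻¹, hT q.1 q.2 g⟩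
      one_smul := fun q => Subtype.ext (by
        show (1 : Q) * q.1 * (1 : Q)⁻¹ = q.1
        simp)
      mul_smul := fun g h q => Subtype.ext (by
        show (g * h) * q.1 * (g * h)⁻¹ = g * (h * q.1 * h⁻¹) * g⁻¹
        group) }
  obtain ⟨q, hq⟩ := hQ.nonempty_fixed_point_of_prime_not_dvd_card T hnd
  refine ⟨q.1, q.2, fun g => ?_⟩
  have h1 : g * q.1 * g⁻¹ = q.1 := congrArg Subtype.val (hq g)
  calc g * q.1 = (g * q.1 * g⁻¹) * g := by group
    _ = q.1 * g := by rw [h1]

/-- `p` odd, `E` a normal subgroup of exponent `p` of the `p`-group `R`, and an element of order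
`p` of `C_R(E)` outside `E`: then some such element is central modulo `E`. -/
theorem exists_normal_elem {R : Type*} [Group R] [Finite R] (p : ℕ) [Fact p.Prime] (hp : p ≠ 2)
    (hR : IsPGroup p R) (E : Subgroup R) [E.Normal] (hEp : ∀ a ∈ E, a ^ p = 1)
    (x : R) (hxC : x ∈ Subgroup.centralizer (E : Set R)) (hxE : x ∉ E) (hxp : x ^ p = 1) :
    ∃ g ∈ Subgroup.centralizer (E : Set R), g ∉ E ∧ g ^ p = 1 ∧
      ∀ r : R, r * g * r⁻¹ * g⁻¹ ∈ E := by
  classical
  have hpp : p.Prime := Fact.out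
  obtain ⟨C, hC⟩ : ∃ C, C = Subgroup.centralizer (E : Set R) := ⟨_, rfl⟩
  haveI hCn : C.Normal := by rw [hC]; infer_instance
  rw [← hC] at hxC ⊢
  have hCE : ∀ g ∈ C, ∀ e ∈ E, e * g = g * e := by
    intro g hg e he
    rw [hC, Subgroup.mem_centralizer_iff] at hg
    exact hg e he
  obtain ⟨S, hS⟩ : ∃ S : Set (R ⧸ E), S = {q | ∃ g ∈ C, g ^ p = 1 ∧ (g : R ⧸ E) = q} := ⟨_, rfl⟩
  obtain ⟨T, hTdef⟩ : ∃ T : Set (R ⧸ E), T = {q | q ≠ 1 ∧ q ∈ S} := ⟨_, rfl⟩
  obtain ⟨xb, hxb⟩ : ∃ xb : R ⧸ E, xb = (x : R ⧸ E) := ⟨_, rfl⟩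
  have hxb1 : xb ≠ 1 := by
    rw [hxb]; intro h; exact hxE ((QuotientGroup.eq_one_iff x).mp h)
  have hxbp : xb ^ p = 1 := by
    rw [hxb, ← QuotientGroup.mk_pow, hxp]; rfl
  obtain ⟨F, hFdef⟩ : ∃ F : R ⧸ E → R ⧸ E,
      F = fun q => if xb * q = q * xb then q * xb else xb * q * xb⁻¹ := ⟨_, rfl⟩
  have hF1 : ∀ q, xb * q = q * xb → F q = q * xb := by
    intro q h; rw [hFdef]; simp [h]
  have hF2 : ∀ q, xb * q ≠ q * xb → F q = xb * q * xb⁻¹ := by
    intro q h; rw [hFdef]; simp [h]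
  have hFS : Set.MapsTo F S S := by
    intro q hq
    rw [hS] at hq ⊢
    obtain ⟨g, hgC, hgp, rfl⟩ := hq
    by_cases hc : xb * (g : R ⧸ E) = (g : R ⧸ E) * xb
    · rw [hF1 _ hc]
      refine ⟨g * x, mul_mem hgC hxC, ?_, by rw [hxb]; rfl⟩
      obtain ⟨c, hcdef⟩ : ∃ c, c = (g * x)⁻¹ * (x * g) := ⟨_, rfl⟩
      have hcE : c ∈ E := by
        rw [← QuotientGroup.eq_one_iff, hcdef]
        rw [QuotientGroup.mk_mul, QuotientGroup.mk_inv, QuotientGroup.mk_mul, QuotientGroup.mk_mul,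
          ← hxb, hc]
        group
      have hxg : x * g = g * x * c := by rw [hcdef]; group
      have h1 := mul_pow_of_comm g x c hxg (hCE g hgC c hcE) (hCE x hxC c hcE) p
      rw [h1, hgp, hxp, one_mul, one_mul]
      have hdvd : p ∣ ∑ i ∈ Finset.range p, i := by
        have h2' := Finset.sum_range_id_mul_two p
        have hcop : Nat.Coprime p 2 := (Nat.coprime_primes hpp Nat.prime_two).mpr hp
        exact hcop.dvd_of_dvd_mul_right (by rw [h2']; exact dvd_mul_right p (p - 1))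
      obtain ⟨k, hk⟩ := hdvd
      rw [hk, pow_mul, hEp c hcE, one_pow]
    · rw [hF2 _ hc]
      refine ⟨x * g * x⁻¹, mul_mem (mul_mem hxC hgC) (inv_mem hxC), ?_, by rw [hxb]; rfl⟩
      rw [conj_pow, hgp]; group
  have hcomm_pow : ∀ q, xb * q = q * xb → ∀ k : ℕ, F^[k] q = q * xb ^ k := by
    intro q hq k
    induction k with
    | zero => simp
    | succ k ih =>
      rw [Function.iterate_succ_apply', ih]
      have h1 : xb * (q * xb ^ k) = (q * xb ^ k) * xb := by
        rw [← mul_assoc, hq, mul_assoc, mul_assoc, ← pow_succ', ← pow_succ]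
      rw [hF1 _ h1, mul_assoc, ← pow_succ]
  have hncomm_pow : ∀ q, xb * q ≠ q * xb → ∀ k : ℕ, F^[k] q = xb ^ k * q * (xb ^ k)⁻¹ := by
    intro q hq k
    induction k with
    | zero => simp
    | succ k ih =>
      rw [Function.iterate_succ_apply', ih]
      have hcx' : xb ^ k * xb = xb * xb ^ k := (pow_succ xb k).symm.trans (pow_succ' xb k)
      have h1 : xb * (xb ^ k * q * (xb ^ k)⁻¹) ≠ (xb ^ k * q * (xb ^ k)⁻¹) * xb := by
        intro h
        apply hq
        calc xb * q = (xb ^ k)⁻¹ * (xb ^ k * xb) * q := by group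
          _ = (xb ^ k)⁻¹ * (xb * xb ^ k) * q := by rw [hcx']
          _ = (xb ^ k)⁻¹ * (xb * (xb ^ k * q * (xb ^ k)⁻¹)) * xb ^ k := by group
          _ = (xb ^ k)⁻¹ * ((xb ^ k * q * (xb ^ k)⁻¹) * xb) * xb ^ k := by rw [h]
          _ = q * ((xb ^ k)⁻¹ * (xb * xb ^ k)) := by group
          _ = q * ((xb ^ k)⁻¹ * (xb ^ k * xb)) := by rw [hcx']
          _ = q * xb := by group
      rw [hF2 _ h1, pow_succ']; group
  have hF : ∀ q, F^[p] q = q := by
    intro q
    by_cases hc : xb * q = q * xb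
    · rw [hcomm_pow q hc, hxbp, mul_one]
    · rw [hncomm_pow q hc, hxbp]; simp
  have hfix : ∀ q, F q ≠ q := by
    intro q hq
    by_cases hc : xb * q = q * xb
    · rw [hF1 q hc] at hq
      exact hxb1 (by simpa using hq)
    · rw [hF2 q hc] at hq
      apply hc
      calc xb * q = (xb * q * xb⁻¹) * xb := by group
        _ = q * xb := by rw [hq]
  have hpS : p ∣ Nat.card S := dvd_card_of_iterate p F S hFS hF hfix
  have h1S : (1 : R ⧸ E) ∈ S := by rw [hS]; exact ⟨1, one_mem _, one_pow p, rfl⟩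
  have hST : S = insert 1 T := by
    ext q; rw [hTdef]; constructor
    · intro hq; by_cases h1 : q = 1
      · left; exact h1
      · right; exact ⟨h1, hq⟩
    · rintro (h | h)
      · rw [h]; exact h1S
      · exact h.2
  have h1T : (1 : R ⧸ E) ∉ T := by rw [hTdef]; exact fun h => h.1 rfl
  have hcard : Nat.card S = Nat.card T + 1 := by
    rw [Nat.card_coe_set_eq, Nat.card_coe_set_eq, hST, Set.ncard_insert_of_notMem h1T]
  have hnd : ¬ p ∣ Nat.card T := by
    intro h
    rw [hcard] at hpS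
    have : p ∣ 1 := (Nat.dvd_add_right h).mp hpS
    exact hpp.one_lt.ne' (Nat.dvd_one.mp this)
  have hTconj : ∀ q ∈ T, ∀ h : R ⧸ E, h * q * h⁻¹ ∈ T := by
    intro q hq h
    rw [hTdef] at hq ⊢
    obtain ⟨hq1, hqS⟩ := hq
    refine ⟨fun h1 => hq1 ?_, ?_⟩
    · have : q = h⁻¹ * (h * q * h⁻¹) * h := by group
      rw [this, h1]; group
    · rw [hS] at hqS ⊢
      obtain ⟨g, hgC, hgp, rfl⟩ := hqS
      obtain ⟨r, rfl⟩ := QuotientGroup.mk_surjective h
      exact ⟨r * g * r⁻¹, hCn.conj_mem g hgC r, by rw [conj_pow, hgp]; group, rfl⟩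
  obtain ⟨q, hqT, hqc⟩ := exists_central_of_conj_invariant p (hR.to_quotient E) T hTconj hnd
  rw [hTdef] at hqT
  obtain ⟨hq1, hqS⟩ := hqT
  rw [hS] at hqS
  obtain ⟨g, hgC, hgp, rfl⟩ := hqS
  refine ⟨g, hgC, fun hgE => hq1 ((QuotientGroup.eq_one_iff g).mpr hgE), hgp, fun r => ?_⟩
  rw [← QuotientGroup.eq_one_iff]
  have h5 := hqc (r : R ⧸ E)
  rw [QuotientGroup.mk_mul, QuotientGroup.mk_mul, QuotientGroup.mk_mul, QuotientGroup.mk_inv,
    QuotientGroup.mk_inv, h5]
  group

/-- Let p be an odd prime and R a finite p-group containing an elementary abelian subgroup of order p ^ 3. If E is a normal elementary abelian subgroup of R of order p ^ 2, then E ≤ A for some normal subgroup A of R with C_R(A) = A that contains an elementary abelian subgroup of order p ^ 3. -/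
theorem result {R : Type*} [Group R] [Finite R] (p : ℕ) [Fact p.Prime] (hp : p ≠ 2) (hR : IsPGroup p R) (hr : ¬ Cfsg.PRankLE p 2 R)
    (E : Subgroup R) [E.Normal] (hE : Cfsg.IsElementaryAbelian p E) (hE2 : Nat.card E = p ^ 2) :
    ∃ A : Subgroup R, E ≤ A ∧ A.Normal ∧ Subgroup.centralizer (A : Set R) = A ∧ ¬ Cfsg.PRankLE p 2 A := by
  have hEc := (S1337.comm_iff E).mp hE.1
  have hEp := hE.2
  have hrC := S1337.rank_centralizer_normal p hR hr E inferInstance hEc hEp hE2
  unfold Cfsg.PRankLE at hrC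
  push Not at hrC
  obtain ⟨B, hBc, hBp, hBcard⟩ := hrC
  obtain ⟨b, hbB, hbE⟩ : ∃ b ∈ B, (b : R) ∉ E := by
    by_contra hcon
    push Not at hcon
    have hle : B.map (Subgroup.centralizer (E : Set R)).subtype ≤ E := by
      rintro _ ⟨b, hb, rfl⟩; exact hcon b hb
    have h1 := Subgroup.card_le_of_le hle
    rw [Subgroup.card_map_of_injective (Subgroup.subtype_injective _), hE2] at h1
    omega
  have hxp : (b : R) ^ p = 1 := by
    have h1 := hBp b hbB
    have h2 := congrArg Subtype.val h1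
    simpa using h2
  obtain ⟨g, hgC, hgE, hgp, hgn⟩ := exists_normal_elem p hp hR E hEp (b : R) b.2 hbE hxp
  obtain ⟨Fs, hFs⟩ : ∃ Fs, Fs = E ⊔ Subgroup.zpowers g := ⟨_, rfl⟩
  have hzc : ∀ a ∈ Subgroup.zpowers g, ∀ b ∈ Subgroup.zpowers g, a * b = b * a := by
    intro a ha b hb
    obtain ⟨i, rfl⟩ := Subgroup.mem_zpowers_iff.mp ha
    obtain ⟨j, rfl⟩ := Subgroup.mem_zpowers_iff.mp hb
    rw [← zpow_add, ← zpow_add, add_comm]
  have hzp : ∀ a ∈ Subgroup.zpowers g, a ^ p = 1 := by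
    intro a ha
    obtain ⟨i, rfl⟩ := Subgroup.mem_zpowers_iff.mp ha
    rw [← zpow_natCast, ← zpow_mul, mul_comm, zpow_mul, zpow_natCast, hgp, one_zpow]
  have hEz : ∀ a ∈ E, ∀ b ∈ Subgroup.zpowers g, a * b = b * a := by
    intro a ha b hb
    have hb' : b ∈ Subgroup.centralizer (E : Set R) := (Subgroup.zpowers_le.mpr hgC) hb
    exact Subgroup.mem_centralizer_iff.mp hb' a ha
  obtain ⟨hFc, hFp⟩ := S1337.sup_elab p E (Subgroup.zpowers g) hEc hEp hzc hzp hEz
  rw [← hFs] at hFc hFp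
  have hEF : E ≤ Fs := by rw [hFs]; exact le_sup_left
  have hgF : g ∈ Fs := by rw [hFs]; exact Subgroup.mem_sup_right (Subgroup.mem_zpowers g)
  have hFcard : p ^ 2 < Nat.card Fs := by
    by_contra hcon
    push Not at hcon
    have : E = Fs := Subgroup.eq_of_le_of_card_ge hEF (by rw [hE2]; exact hcon)
    exact hgE (this ▸ hgF)
  have hFn : Fs.Normal := by
    constructor
    intro f hf r
    have hle : Fs ≤ Fs.comap (MulAut.conj r).toMonoidHom := by
      rw [hFs]
      apply sup_le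
      · intro e he
        rw [Subgroup.mem_comap]
        exact Subgroup.mem_sup_left (Subgroup.Normal.conj_mem inferInstance e he r)
      · rw [Subgroup.zpowers_le, Subgroup.mem_comap]
        have : r * g * r⁻¹ = (r * g * r⁻¹ * g⁻¹) * g := by group
        show r * g * r⁻¹ ∈ E ⊔ Subgroup.zpowers g
        rw [this]
        exact mul_mem (Subgroup.mem_sup_left (hgn r))
          (Subgroup.mem_sup_right (Subgroup.mem_zpowers g))
    exact hle hf
  obtain ⟨A, hFA, hAmax⟩ := Finite.exists_le_maximal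
    (p := fun A : Subgroup R => A.Normal ∧ (∀ x ∈ A, ∀ y ∈ A, x * y = y * x) ∧ Fs ≤ A)
    ⟨hFn, hFc, le_refl _⟩
  obtain ⟨⟨hAn, hAc, hFsA⟩, hAm⟩ := hAmax
  haveI := hAn
  refine ⟨A, hEF.trans hFsA, hAn, ?_, ?_⟩
  · apply S0129.centralizer_eq hR A hAc
    intro B hBn hBc hAB
    exact le_antisymm (hAm ⟨hBn, hBc, hFsA.trans hAB⟩ hAB) hAB
  · exact S1337.not_rank_of_sub p A Fs hFsA hFc hFp hFcard

end Cfsg.Agent.S1452
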