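import Cfsg.Statements.S1443
import Cfsg.Agent.Helper14.CoprimeAut
import Cfsg.Agent.Helper26.Thompson
import Cfsg.Agent.S0028

set_option autoImplicit false
open Cfsg

namespace Cfsg.Agent.S1443

open Cfsg.Agent.Helper14

/-- Let G be a finite group, p an odd prime, H a p-subgroup, E an elementary abelian subgroup of H, and A a subgroup of order coprime to p normalizing H. If A centralizes every element of order p in H ∩ C_G(E), then A centralizes H. -/
theorem result {G : Type*} [Group G] [Finite G] (p : ℕ) [Fact p.Prime] (hp : p ≠ 2) (H E A : Subgroup G) (hH : IsPGroup p H) (hE : E ≤ H) (hEe : Cfsg.IsElementaryAbelian p E)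
    (hA : (A ≤ Subgroup.normalizer (H : Set G))) (hcop : (Nat.card A).Coprime p)
    (hfix : ∀ x ∈ (H ⊓ Subgroup.centralizer (E : Set G)), orderOf x = p → A ≤ Subgroup.centralizer ({x} : Set G)) :
    A ≤ Subgroup.centralizer (H : Set G) := by
  obtain ⟨hEc, hEp⟩ := (Cfsg.Agent.Helper26.ea_iff E).mp hEe
  -- elements with `x ^ p = 1` in `H ⊓ C(E)` are centralized by `A`
  have hfix' : ∀ x ∈ (H ⊓ Subgroup.centralizer (E : Set G)), x ^ p = 1 →
      ∀ a ∈ A, a * x = x * a := by
    intro x hx hxp a ha
    by_cases hx1 : x = 1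
    · rw [hx1, mul_one, one_mul]
    · have ho : orderOf x = p := orderOf_eq_prime hxp hx1
      have h1 := hfix x hx ho ha
      rw [Subgroup.mem_centralizer_iff] at h1
      exact (h1 x rfl).symm
  -- `A` centralizes `E`
  have hEU : E ≤ H ⊓ Subgroup.centralizer (E : Set G) := by
    intro e he
    refine Subgroup.mem_inf.mpr ⟨hE he, ?_⟩
    rw [Subgroup.mem_centralizer_iff]
    intro e' he'
    exact hEc e' he' e he
  have hAE : ∀ a ∈ A, ∀ e ∈ E, a * e = e * a := fun a ha e he =>
    hfix' e (hEU he) (hEp e he) a ha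
  -- `A` stabilizes `U = H ⊓ C(E)` and fixes it pointwise
  have hAU : ∀ a ∈ A, ∀ x ∈ (H ⊓ Subgroup.centralizer (E : Set G)), a * x = x * a := by
    intro a ha
    have hk : (MulAut.conj a) ^ orderOf a = 1 := by
      rw [← map_pow, pow_orderOf_eq_one, map_one]
    have hcopa : (orderOf a).Coprime p :=
      Nat.Coprime.coprime_dvd_left (Subgroup.orderOf_dvd_natCard A ha) hcop
    have hinv : ∀ x ∈ (H ⊓ Subgroup.centralizer (E : Set G)),
        (MulAut.conj a) x ∈ (H ⊓ Subgroup.centralizer (E : Set G)) := by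
      intro x hx
      rw [MulAut.conj_apply]
      have hx' := Subgroup.mem_inf.mp hx
      refine Subgroup.mem_inf.mpr ⟨(Subgroup.mem_normalizer_iff.mp (hA ha) x).mp hx'.1, ?_⟩
      rw [Subgroup.mem_centralizer_iff]
      intro e he
      have h1 := hAE a ha e he
      have h2 : e * x = x * e := (Subgroup.mem_centralizer_iff.mp hx'.2) e he
      have h3 : a⁻¹ * e = e * a⁻¹ := by
        calc a⁻¹ * e = a⁻¹ * (e * a) * a⁻¹ := by group
          _ = a⁻¹ * (a * e) * a⁻¹ := by rw [h1]
          _ = e * a⁻¹ := by group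
      calc e * (a * x * a⁻¹) = (e * a) * x * a⁻¹ := by group
        _ = (a * e) * x * a⁻¹ := by rw [h1]
        _ = a * (e * x) * a⁻¹ := by group
        _ = a * (x * e) * a⁻¹ := by rw [h2]
        _ = a * x * (e * a⁻¹) := by group
        _ = a * x * (a⁻¹ * e) := by rw [h3]
        _ = a * x * a⁻¹ * e := by group
    have hfx : ∀ x ∈ (H ⊓ Subgroup.centralizer (E : Set G)), x ^ p = 1 →
        (MulAut.conj a) x = x := by
      intro x hx hxp
      rw [MulAut.conj_apply, hfix' x hx hxp a ha, mul_inv_cancel_right]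
    intro x hx
    have key := aut_fix_of_fix_order_p hp (MulAut.conj a) (orderOf a) hk hcopa _
      (H ⊓ Subgroup.centralizer (E : Set G)) rfl (hH.to_le inf_le_left) hinv hfx x hx
    rw [MulAut.conj_apply] at key
    calc a * x = a * x * a⁻¹ * a := by group
      _ = x * a := by rw [key]
  -- Thompson's `P × Q` lemma with `P = E`, `Q = A`, `U = H`
  refine Cfsg.Agent.S0028.result p E A H (hH.to_le hE) hcop hH ?_ ?_ hA ?_
  · intro e he
    rw [Subgroup.mem_centralizer_iff]
    intro a ha
    exact hAE a ha e he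
  · exact hE.trans Subgroup.le_normalizer
  · intro x hx
    rw [Subgroup.mem_centralizer_iff]
    intro a ha
    exact hAU a ha x hx

end Cfsg.Agent.S1443
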