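-- S2821: basic properties of Y_L, T₀ = C_T(Y_L), Z_L for a characteristic-p subgroup L containing a Sylow p-subgroup.
import Mathlib
import Cfsg.Statements.S2821
import Cfsg.Agent.Helper9.RelRed2

set_option autoImplicit false
open Cfsg

namespace Cfsg.Agent.S2821

/-- Let H be a finite group, p a prime, T a Sylow p-subgroup and L a subgroup of characteristic p containing T; let Y_L be the largest p-reduced normal subgroup of L (the join of the normal elementary abelian p-subgroups V of L with O_p(L/C_L(V)) = 1). Then T₀ := C_T(Y_L) is a Sylow p-subgroup of C_H(Y_L); moreover O_p(L) ≤ T₀ ≤ C_L(Y_L) and Ω₁(Z(T)) ≤ Z_L ≤ Y_L ≤ Ω₁(Z(O_p(L))), where Z_L is generated by the Ω₁(Z(S)) over the Sylow p-subgroups S of L. -/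
theorem result {H : Type*} [Group H] [Finite H] {p : ℕ} [Fact p.Prime] (T : Sylow p H) (L : Subgroup H) (hTL : (T : Subgroup H) ≤ L) (hL : Subgroup.centralizer (Cfsg.pCore p ↥L : Set ↥L) ≤ Cfsg.pCore p ↥L) (T₀ : Subgroup H) (hT₀ : T₀ = (T : Subgroup H) ⊓ Subgroup.centralizer (((Cfsg.largestPReducedOf p L) : Subgroup H) : Set H)) : (∃ P : Sylow p ↥(Subgroup.centralizer (((Cfsg.largestPReducedOf p L) : Subgroup H) : Set H)), (P : Subgroup ↥(Subgroup.centralizer (((Cfsg.largestPReducedOf p L) : Subgroup H) : Set H))) = T₀.subgroupOf (Subgroup.centralizer (((Cfsg.largestPReducedOf p L) : Subgroup H) : Set H))) ∧ (Cfsg.pCoreOf p L) ≤ T₀ ∧ T₀ ≤ L ⊓ Subgroup.centralizer (((Cfsg.largestPReducedOf p L) : Subgroup H) : Set H) ∧ (Cfsg.omegaOne p ((T : Subgroup H) ⊓ Subgroup.centralizer (((T : Subgroup H) : Subgroup H) : Set H))) ≤ Cfsg.sylowCenterClosure p L ∧ Cfsg.sylowCenterClosure p L ≤ (Cfsg.largestPReducedOf p L) ∧ (Cfsg.largestPReducedOf p L) ≤ (Cfsg.omegaOne p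 ((Cfsg.pCoreOf p L) ⊓ Subgroup.centralizer (((Cfsg.pCoreOf p L) : Subgroup H) : Set H))) := by
  have hY := Cfsg.Agent.Helper9.relRed_largestPReducedOf (p := p) L
  generalize hYdef : Cfsg.largestPReducedOf p L = Y at hT₀ hY ⊢
  subst hT₀
  have hTC : ∀ t ∈ (T : Subgroup H), ∀ c ∈ Subgroup.centralizer (Y : Set H),
      t * c * t⁻¹ ∈ Subgroup.centralizer (Y : Set H) := by
    intro t ht c hc
    apply Cfsg.Agent.Helper9.conj_mem_centralizer_of_normalizes Y t c _ hc
    intro y hy
    have h := hY.2.1 t⁻¹ (inv_mem (hTL ht)) y hy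
    rwa [inv_inv] at h
  refine ⟨Cfsg.Agent.Helper9.exists_sylow_inf_of_normalizes T _ hTC, ?_, ?_, ?_, ?_, ?_⟩
  · apply le_inf (Cfsg.Agent.Helper9.pCoreOf_le_sylow T L hTL)
    rw [← hYdef]
    exact Cfsg.Agent.Helper14.pCoreOf_le_centralizer_largestPReducedOf p L
  · exact le_inf (inf_le_left.trans hTL) inf_le_right
  · have e : ((T.subtype hTL : Sylow p ↥L) : Subgroup ↥L).map L.subtype = (T : Subgroup H) := by
      rw [Sylow.coe_subtype, Subgroup.map_subgroupOf_eq_of_le hTL]
    have h : Cfsg.omegaOne p ((((T.subtype hTL : Sylow p ↥L) : Subgroup ↥L).map L.subtype) ⊓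
        Subgroup.centralizer (((((T.subtype hTL : Sylow p ↥L) : Subgroup ↥L).map L.subtype) :
          Subgroup H) : Set H))
        ≤ Cfsg.sylowCenterClosure p L :=
      le_iSup (fun S : Sylow p ↥L => Cfsg.omegaOne p (((S : Subgroup ↥L).map L.subtype) ⊓
        Subgroup.centralizer ((((S : Subgroup ↥L).map L.subtype) : Subgroup H) : Set H)))
        (T.subtype hTL)
    rw [e] at h
    exact h
  · rw [← hYdef]; exact Cfsg.Agent.Helper9.sylowCenterClosure_le_largestPReducedOf L hL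
  · intro y hy
    unfold Cfsg.omegaOne
    apply Subgroup.subset_closure
    refine ⟨Subgroup.mem_inf.mpr ⟨?_, ?_⟩, hY.2.2.2.1 y hy⟩
    · rw [← hYdef] at hy
      exact Cfsg.Agent.Helper9.largestPReducedOf_le_pCoreOf L hy
    · rw [Subgroup.mem_centralizer_iff]
      intro q hq
      have h1 := Cfsg.Agent.Helper14.pCoreOf_le_centralizer_largestPReducedOf p L hq
      rw [hYdef] at h1
      exact (Subgroup.mem_centralizer_iff.mp h1 y hy).symm

end Cfsg.Agent.S2821
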