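-- S2824: L* = N_M(C_T(Y_L)) has Y_{L*} = Y_L and L C_H(Y_L) = L* C_H(Y_L).
import Mathlib
import Cfsg.Statements.S2824
import Cfsg.Agent.Helper9.RelRed3

set_option autoImplicit false
open Cfsg

namespace Cfsg.Agent.S2824

/-- Let H be a finite group, p a prime, T a Sylow p-subgroup, L and M subgroups of characteristic p containing T, Y_L the largest p-reduced normal subgroup of L and T₀ = C_T(Y_L). If M·C_H(Y_L) = L·C_H(Y_L), then L* := N_M(T₀) has Y_{L*} = Y_L and L·C_H(Y_L) = L*·C_H(Y_L). -/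
theorem result {H : Type*} [Group H] [Finite H] {p : ℕ} [Fact p.Prime] (T : Sylow p H) (L M : Subgroup H) (hTL : (T : Subgroup H) ≤ L) (hTM : (T : Subgroup H) ≤ M) (hL : Subgroup.centralizer (Cfsg.pCore p ↥L : Set ↥L) ≤ Cfsg.pCore p ↥L) (hM : Subgroup.centralizer (Cfsg.pCore p ↥M : Set ↥M) ≤ Cfsg.pCore p ↥M) (T₀ : Subgroup H) (hT₀ : T₀ = (T : Subgroup H) ⊓ Subgroup.centralizer (((Cfsg.largestPReducedOf p L) : Subgroup H) : Set H)) (hfac : M ⊔ Subgroup.centralizer (((Cfsg.largestPReducedOf p L) : Subgroup H) : Set H) = L ⊔ Subgroup.centralizer (((Cfsg.largestPReducedOf p L) : Subgroup H) : Set H)) (Ls : Subgroup H) (hLs : Ls = M ⊓ Subgroup.normalizer ((T₀ : Subgroup H) : Set H)) : (Cfsg.largestPReducedOf p Ls) = (Cfsg.largestPReducedOf p L) ∧ L ⊔ Subgroup.centralizer (((Cfsg.largestPReducedOf p L) : Subgroup H) : Set H) = Ls ⊔ Subgroup.centralizer (((Cfsg.largestPReducedOf p L) : Subgroup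 H) : Set H) := by
  have hY := Cfsg.Agent.Helper9.relRed_largestPReducedOf (p := p) L
  have hcentral := Cfsg.Agent.Helper9.mem_largestPReducedOf_of_central T L hTL hL
  generalize hYdef : Cfsg.largestPReducedOf p L = Y at hT₀ hfac hY hcentral ⊢
  obtain ⟨hNconj, hNconj', hNC⟩ := Cfsg.Agent.Helper9.sup_centralizer_normalizes L Y hY.2.1
  have hCmem : ∀ c : H, c ∈ Subgroup.centralizer (Y : Set H) ↔ ∀ y ∈ Y, y * c = c * y :=
    fun c => Subgroup.mem_centralizer_iff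
  obtain ⟨C, hCdef⟩ : ∃ C : Subgroup H, C = Subgroup.centralizer (Y : Set H) := ⟨_, rfl⟩
  rw [← hCdef] at hT₀ hfac hcentral hNconj hNconj' hNC hCmem ⊢
  have hT₀mem : ∀ x, x ∈ T₀ ↔ x ∈ (T : Subgroup H) ∧ x ∈ C := by
    intro x; rw [hT₀]; exact Subgroup.mem_inf
  have hLsmem : ∀ x, x ∈ Ls ↔ x ∈ M ∧ x ∈ Subgroup.normalizer (T₀ : Set H) := by
    intro x; rw [hLs]; exact Subgroup.mem_inf
  have hLsup : L ≤ L ⊔ C := le_sup_left
  have hMsup : M ≤ L ⊔ C := by rw [← hfac]; exact le_sup_left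
  have hTC : ∀ t ∈ (T : Subgroup H), ∀ c ∈ C, t * c * t⁻¹ ∈ C :=
    fun t ht => hNC t (hLsup (hTL ht))
  have hT₀T : T₀ ≤ T := fun x hx => ((hT₀mem x).mp hx).1
  have hT₀C : T₀ ≤ C := fun x hx => ((hT₀mem x).mp hx).2
  have hTLs : (T : Subgroup H) ≤ Ls := by
    intro t ht
    rw [hLsmem]
    refine ⟨hTM ht, ?_⟩
    apply Cfsg.Agent.Helper9.mem_normalizer_of_conj_le
    intro x hx
    rw [hT₀mem] at hx ⊢
    exact ⟨mul_mem (mul_mem ht hx.1) (inv_mem ht), hTC t ht x hx.2⟩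
  have hLsM : Ls ≤ M := fun x hx => ((hLsmem x).mp hx).1
  have hLsN : ∀ k ∈ Ls, ∀ d ∈ T₀, k * d * k⁻¹ ∈ T₀ := by
    intro k hk d hd
    exact (Subgroup.mem_normalizer_iff.mp ((hLsmem k).mp hk).2 d).mp hd
  -- Frattini argument
  have hFr : M ≤ Ls ⊔ C := by
    intro m hm
    have hT₀X : T₀ ≤ M ⊓ C := le_inf (hT₀T.trans hTM) hT₀C
    have hidx : ¬ p ∣ (T₀.subgroupOf (M ⊓ C)).index := by
      intro hdvd
      have h1 := Subgroup.relIndex_mul_relIndex T₀ (M ⊓ C) C hT₀X inf_le_right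
      have h2 : ¬ p ∣ T₀.relIndex C := by
        rw [hT₀, Subgroup.inf_relIndex_right]
        exact Cfsg.Agent.Helper9.not_dvd_relIndex_of_normalizes T C hTC
      apply h2
      rw [← h1]
      exact Dvd.dvd.mul_right hdvd _
    have hpg : IsPGroup p (T₀.subgroupOf (M ⊓ C)) := by
      intro x
      obtain ⟨j, hj⟩ := T.isPGroup' ⟨x.1.1, hT₀T x.2⟩
      have hj' := congrArg Subtype.val hj
      exact ⟨j, Subtype.ext (Subtype.ext hj')⟩
    have hmC : ∀ x ∈ T₀, m * x * m⁻¹ ∈ M ⊓ C := by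
      intro x hx
      exact Subgroup.mem_inf.mpr ⟨mul_mem (mul_mem hm (hTM (hT₀T hx))) (inv_mem hm),
        hNC m (hMsup hm) x (hT₀C hx)⟩
    obtain ⟨A, hA⟩ : ∃ A : Subgroup H, A = T₀.map (MulAut.conj m).toMonoidHom := ⟨_, rfl⟩
    have hAmem : ∀ a : H, a ∈ A → ∃ y ∈ T₀, (MulAut.conj m).toMonoidHom y = a := by
      intro a ha
      rw [hA] at ha
      exact ha
    have hAp : IsPGroup p (A.subgroupOf (M ⊓ C)) := by
      intro x
      have hx : (x.1.1 : H) ∈ A := x.2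
      obtain ⟨y, hy, hyx⟩ := hAmem _ hx
      obtain ⟨j, hj⟩ := T.isPGroup' ⟨y, hT₀T hy⟩
      have hj' := congrArg Subtype.val hj
      have hj'' : y ^ (p ^ j) = 1 := hj'
      refine ⟨j, Subtype.ext (Subtype.ext ?_)⟩
      show (x.1.1 : H) ^ (p ^ j) = 1
      rw [← hyx, ← map_pow, hj'', map_one]
    obtain ⟨g, hg⟩ := Cfsg.Agent.Helper14.exists_le_sylow_conj (hpg.toSylow hidx)
      (A.subgroupOf (M ⊓ C)) hAp
    have hn : ∀ x ∈ T₀, ((g : H)⁻¹ * m) * x * ((g : H)⁻¹ * m)⁻¹ ∈ T₀ := by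
      intro x hx
      have hxA : m * x * m⁻¹ ∈ A := by rw [hA]; exact ⟨x, hx, rfl⟩
      have h1 := hg (show (⟨m * x * m⁻¹, hmC x hx⟩ : ↥(M ⊓ C)) ∈ A.subgroupOf (M ⊓ C) from hxA)
      rw [Cfsg.Agent.Helper14.mem_map_conj] at h1
      have h2 : (g : H)⁻¹ * (m * x * m⁻¹) * (g : H) ∈ T₀ := h1
      have h3 : ((g : H)⁻¹ * m) * x * ((g : H)⁻¹ * m)⁻¹
          = (g : H)⁻¹ * (m * x * m⁻¹) * (g : H) := by group
      rw [h3]; exact h2
    have hgM : (g : H) ∈ M := (Subgroup.mem_inf.mp g.2).1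
    have hgC : (g : H) ∈ C := (Subgroup.mem_inf.mp g.2).2
    have hnLs : (g : H)⁻¹ * m ∈ Ls := by
      rw [hLsmem]
      exact ⟨mul_mem (inv_mem hgM) hm, Cfsg.Agent.Helper9.mem_normalizer_of_conj_le T₀ _ hn⟩
    have hm' : m = ((g : H)⁻¹ * m) * (m⁻¹ * (g : H) * m) := by group
    rw [hm']
    apply Subgroup.mul_mem_sup hnLs
    have h4 := hNC m⁻¹ (inv_mem (hMsup hm)) (g : H) hgC
    rwa [inv_inv] at h4
  have hfac2 : Ls ⊔ C = L ⊔ C := by
    apply le_antisymm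
    · exact sup_le (hLsM.trans hMsup) le_sup_right
    · rw [← hfac]
      exact sup_le hFr le_sup_right
  have hYT : Y ≤ T := by
    apply Cfsg.Agent.Helper9.normalized_pgroup_le_sylow T L Y hTL hY.1 hY.2.1
    intro v hv
    exact ⟨1, by rw [pow_one]; exact hY.2.2.2.1 v hv⟩
  have hYLs : Y ≤ Ls := hYT.trans hTLs
  have hYred : Cfsg.Agent.Helper9.RelRed p Ls Y := by
    apply Cfsg.Agent.Helper9.relRed_transfer Ls L Y hY _ hYLs
    rw [← hCdef]; exact hfac2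
  have hY' := Cfsg.Agent.Helper9.relRed_largestPReducedOf (p := p) Ls
  have hYY' : Y ≤ Cfsg.largestPReducedOf p Ls :=
    Cfsg.Agent.Helper9.le_largestPReducedOf Ls Y hYred
  refine ⟨le_antisymm ?_ hYY', hfac2.symm⟩
  have hY'T : Cfsg.largestPReducedOf p Ls ≤ T := by
    apply Cfsg.Agent.Helper9.normalized_pgroup_le_sylow T Ls _ hTLs hY'.1 hY'.2.1
    intro v hv
    exact ⟨1, by rw [pow_one]; exact hY'.2.2.2.1 v hv⟩
  have hT₀Y' : ∀ d ∈ T₀, ∀ v ∈ Cfsg.largestPReducedOf p Ls, v * d = d * v := by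
    apply hY'.2.2.2.2 T₀ (hT₀T.trans hTLs) hLsN
    intro d hd
    obtain ⟨j, hj⟩ := T.isPGroup' ⟨d, hT₀T hd⟩
    have hj' := congrArg Subtype.val hj
    have hj'' : d ^ (p ^ j) = 1 := hj'
    refine ⟨j, fun v _ => ?_⟩
    rw [hj'', mul_one, one_mul]
  intro y hy
  apply hcentral y (hY'T hy)
  · rw [hCmem]
    intro v hv
    exact hY'.2.2.1 v (hYY' hv) y hy
  · intro t ht
    have htT₀ : t ∈ T₀ := by rw [hT₀]; exact ht
    exact (hT₀Y' t htT₀ y hy).symm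
  · exact hY'.2.2.2.1 y hy

end Cfsg.Agent.S2824
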