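import Cfsg.Statements.S0012
import Mathlib

set_option autoImplicit false
open Cfsg

namespace Cfsg.Agent.S0012

/-- In a finite `p`-group, a maximal subgroup contains all commutators and all `p`-th powers. -/
theorem coatom_facts {G : Type*} [Group G] [Finite G] (p : ℕ) [Fact p.Prime]
    (hG : IsPGroup p G) (M : Subgroup G) (hM : IsCoatom M) :
    M.Normal ∧ commutator G ≤ M ∧ ∀ x : G, x ^ p ∈ M := by
  have hp : p.Prime := Fact.out
  have : Group.IsNilpotent G := hG.isNilpotent
  have hnc : NormalizerCondition G := Group.normalizerCondition_of_isNilpotent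
  have hMn : M.Normal := Subgroup.NormalizerCondition.normal_of_coatom M hnc hM
  have hQ : IsPGroup p (G ⧸ M) := hG.to_quotient M
  have hidx : M.index ≠ 1 := fun h => hM.1 (Subgroup.index_eq_one.mp h)
  have hdvd : p ∣ Nat.card (G ⧸ M) := by
    rcases hQ.card_eq_or_dvd with h | h
    · exact absurd h hidx
    · exact h
  obtain ⟨c, hc⟩ := exists_prime_orderOf_dvd_card' p hdvd
  have hc1 : c ≠ 1 := by
    rintro rfl
    rw [orderOf_one] at hc
    exact hp.one_lt.ne hc
  obtain ⟨g, rfl⟩ := QuotientGroup.mk'_surjective M c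
  have hK : (Subgroup.zpowers (QuotientGroup.mk' M g)).comap (QuotientGroup.mk' M) = ⊤ := by
    apply hM.2
    refine lt_of_le_of_ne ?_ ?_
    · intro m hm
      rw [Subgroup.mem_comap]
      have : QuotientGroup.mk' M m = 1 := (QuotientGroup.eq_one_iff m).mpr hm
      rw [this]; exact Subgroup.one_mem _
    · intro h
      have hg : g ∈ (Subgroup.zpowers (QuotientGroup.mk' M g)).comap (QuotientGroup.mk' M) := by
        rw [Subgroup.mem_comap]; exact Subgroup.mem_zpowers _
      rw [← h] at hg
      exact hc1 ((QuotientGroup.eq_one_iff g).mpr hg)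
  have hmem : ∀ x : G, ∃ i : ℤ, (QuotientGroup.mk' M g) ^ i = QuotientGroup.mk' M x := by
    intro x
    have : x ∈ (Subgroup.zpowers (QuotientGroup.mk' M g)).comap (QuotientGroup.mk' M) := by
      rw [hK]; exact Subgroup.mem_top x
    rw [Subgroup.mem_comap] at this
    exact Subgroup.mem_zpowers_iff.mp this
  refine ⟨hMn, ?_, ?_⟩
  · rw [commutator_def, Subgroup.commutator_le]
    intro x _ y _
    obtain ⟨i, hi⟩ := hmem x
    obtain ⟨j, hj⟩ := hmem y
    rw [← QuotientGroup.eq_one_iff, commutatorElement_def]
    have : (QuotientGroup.mk' M) (x * y * x⁻¹ * y⁻¹) = 1 := by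
      simp only [map_mul, map_inv]
      rw [← hi, ← hj]
      have hcomm : (QuotientGroup.mk' M g) ^ i * (QuotientGroup.mk' M g) ^ j
          = (QuotientGroup.mk' M g) ^ j * (QuotientGroup.mk' M g) ^ i := by
        rw [← zpow_add, ← zpow_add, add_comm]
      rw [hcomm]; group
    exact this
  · intro x
    obtain ⟨i, hi⟩ := hmem x
    rw [← QuotientGroup.eq_one_iff]
    have : (QuotientGroup.mk' M) (x ^ p) = 1 := by
      rw [map_pow, ← hi, ← zpow_natCast, ← zpow_mul, mul_comm, zpow_mul, zpow_natCast, ← hc,
        pow_orderOf_eq_one, one_zpow]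
    exact this

/-- In a finite p-group every commutator and every p-th power lies in the Frattini subgroup, so the Frattini quotient is elementary abelian. -/
theorem result {G : Type*} [Group G] [Finite G] (p : ℕ) [Fact p.Prime]
    (hG : IsPGroup p G) : commutator G ≤ frattini G ∧ ∀ x : G, x ^ p ∈ frattini G := by
  constructor
  · unfold frattini Order.radical
    exact le_iInf₂ fun M hM => (coatom_facts p hG M hM).2.1
  · intro x
    unfold frattini Order.radical
    exact Subgroup.mem_iInf.mpr fun M => Subgroup.mem_iInf.mpr fun hM => (coatom_facts p hG M hM).2.2 x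

end Cfsg.Agent.S0012
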