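-- S1318: for S subnormal in F*(X): F(S) = F(X) ∩ S and S = F(S)E(S).
import Mathlib
import Cfsg.Statements.S1318
import Cfsg.Agent.Helper7.Bender
import Cfsg.Agent.Helper9.Layer

set_option autoImplicit false
open Cfsg

namespace Cfsg.Agent.S1318

theorem isNilpotent_of_inj {H K : Type*} [Group H] [Group K] (f : H →* K)
    (hf : Function.Injective f) (hK : Group.IsNilpotent K) : Group.IsNilpotent H := by
  haveI := hK
  exact Group.nilpotent_of_mulEquiv (MonoidHom.ofInjective hf).symm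

/-- `F(S) = F(X) ∩ S` for `S` subnormal in `X`. -/
theorem fitting_subnormal {X : Type*} [Group X] [Finite X] (S : Subgroup X) (hS : S.IsSubnormal) :
    (Cfsg.fittingSubgroup ↥S).map S.subtype = Cfsg.fittingSubgroup X ⊓ S := by
  apply le_antisymm
  · apply le_inf
    · apply Cfsg.Agent.Helper7.subnormal_nilpotent_le_fitting
      · have h1 : (Cfsg.fittingSubgroup ↥S).IsSubnormal :=
          (Cfsg.Agent.Helper1.fitting_normal ↥S).isSubnormal
        exact h1.trans' hS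
      · haveI : Group.IsNilpotent ↥(Cfsg.fittingSubgroup ↥S) :=
          Cfsg.Agent.Helper1.fitting_isNilpotent
        exact Group.nilpotent_of_mulEquiv
          ((Cfsg.fittingSubgroup ↥S).equivMapOfInjective S.subtype S.subtype_injective)
    · rintro _ ⟨x, -, rfl⟩; exact x.2
  · intro x hx
    obtain ⟨hxF, hxS⟩ := Subgroup.mem_inf.mp hx
    refine ⟨⟨x, hxS⟩, ?_, rfl⟩
    have hle : (Cfsg.fittingSubgroup X).subgroupOf S ≤ Cfsg.fittingSubgroup ↥S := by
      apply Cfsg.Agent.Helper1.le_fitting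
      · exact Subgroup.Normal.subgroupOf (Cfsg.Agent.Helper1.fitting_normal X) S
      · have hnil : Group.IsNilpotent ↥(Cfsg.fittingSubgroup X) :=
          Cfsg.Agent.Helper1.fitting_isNilpotent
        let f : ↥((Cfsg.fittingSubgroup X).subgroupOf S) →* ↥(Cfsg.fittingSubgroup X) :=
          { toFun := fun x => ⟨(x.1 : X), Subgroup.mem_subgroupOf.mp x.2⟩
            map_one' := rfl
            map_mul' := fun _ _ => rfl }
        refine isNilpotent_of_inj f ?_ hnil
        intro a b hab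
        have h0 := congrArg Subtype.val hab
        have h1 : ((a : ↥S) : X) = ((b : ↥S) : X) := h0
        exact Subtype.ext (Subtype.ext h1)
    exact hle (Subgroup.mem_subgroupOf.mpr hxF)

/-- Let X be finite and S ≤ F*(X) a subgroup subnormal in F*(X). Then F(S) = F(X) ∩ S (inside X) and S = F(S)E(S). -/
theorem result {X : Type*} [Group X] [Finite X] (S : Subgroup X) (hS : S ≤ Cfsg.generalizedFittingSubgroup X) (hsn : (S.subgroupOf (Cfsg.generalizedFittingSubgroup X)).IsSubnormal) : (Cfsg.fittingSubgroup ↥S).map S.subtype = Cfsg.fittingSubgroup X ⊓ S ∧ Cfsg.fittingSubgroup ↥S ⊔ Cfsg.layer ↥S = ⊤ := by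
  classical
  have hSsn : S.IsSubnormal :=
    Subgroup.IsSubnormal.trans hS hsn
      (Cfsg.Agent.Helper9.generalizedFittingSubgroup_normal X).isSubnormal
  have hpart1 := fitting_subnormal S hSsn
  refine ⟨hpart1, ?_⟩
  rw [eq_top_iff]
  obtain ⟨E, hE⟩ : ∃ E : Subgroup X, E = Cfsg.layer X := ⟨_, rfl⟩
  obtain ⟨F, hF⟩ : ∃ F : Subgroup X, F = Cfsg.fittingSubgroup X := ⟨_, rfl⟩
  obtain ⟨E₁, hE₁⟩ : ∃ E₁ : Subgroup X,
      E₁ = sSup {K : Subgroup X | Cfsg.IsComponent K ∧ K ≤ S} := ⟨_, rfl⟩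
  obtain ⟨E₂, hE₂⟩ : ∃ E₂ : Subgroup X,
      E₂ = sSup {K : Subgroup X | Cfsg.IsComponent K ∧ ⁅K, S⁆ = ⊥} := ⟨_, rfl⟩
  have hEle : E ≤ E₁ ⊔ E₂ := by
    rw [hE]; unfold Cfsg.layer
    apply sSup_le
    intro K hK
    rcases Cfsg.Agent.Helper7.comp_subnormal hK hSsn with h | h
    · exact le_sup_of_le_left (by rw [hE₁]; exact le_sSup ⟨hK, h⟩)
    · exact le_sup_of_le_right (by rw [hE₂]; exact le_sSup ⟨hK, h⟩)
  have hE₁S : E₁ ≤ S := by rw [hE₁]; exact sSup_le (fun K hK => hK.2)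
  have hE₁E : E₁ ≤ E := by
    rw [hE₁, hE]; exact sSup_le (fun K hK => Cfsg.Agent.Helper7.le_layer hK.1)
  have hE₂E : E₂ ≤ E := by
    rw [hE₂, hE]; exact sSup_le (fun K hK => Cfsg.Agent.Helper7.le_layer hK.1)
  have hE₂C : E₂ ≤ Subgroup.centralizer (S : Set X) := by
    rw [hE₂]; apply sSup_le; intro K hK
    exact Subgroup.commutator_eq_bot_iff_le_centralizer.mp hK.2
  have hFC : F ≤ Subgroup.centralizer (E : Set X) := by
    have h := Cfsg.Agent.Helper7.layer_commute_fitting (G := X)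
    rw [Subgroup.commutator_eq_bot_iff_le_centralizer] at h
    rw [hF, hE]
    exact Subgroup.le_centralizer_iff.mp h
  intro s _
  have hs1 : (s : X) ∈ E₁ ⊔ (E₂ ⊔ F) := by
    have h1 : (s : X) ∈ Cfsg.generalizedFittingSubgroup X := hS s.2
    have h2 : Cfsg.generalizedFittingSubgroup X ≤ E₁ ⊔ (E₂ ⊔ F) := by
      unfold Cfsg.generalizedFittingSubgroup
      rw [← hE, ← hF, ← sup_assoc]
      exact sup_le_sup_right hEle F
    exact h2 h1
  have hc1 : ⁅E₁, E₂ ⊔ F⁆ = ⊥ := by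
    rw [Subgroup.commutator_eq_bot_iff_le_centralizer, Subgroup.le_centralizer_iff]
    apply sup_le
    · exact hE₂C.trans (Subgroup.centralizer_le hE₁S)
    · exact hFC.trans (Subgroup.centralizer_le hE₁E)
  have hc2 : ⁅E₂, F⁆ = ⊥ := by
    rw [Subgroup.commutator_eq_bot_iff_le_centralizer, Subgroup.le_centralizer_iff]
    exact hFC.trans (Subgroup.centralizer_le hE₂E)
  obtain ⟨e₁, he₁, t, ht, hst⟩ := Cfsg.Agent.Helper7.mem_sup_of_commutator_eq_bot hc1 hs1
  obtain ⟨e₂, he₂, f, hf, htf⟩ := Cfsg.Agent.Helper7.mem_sup_of_commutator_eq_bot hc2 ht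
  have htS : t ∈ S := by
    have h1 : t = e₁⁻¹ * (s : X) := by rw [← hst]; group
    rw [h1]; exact mul_mem (inv_mem (hE₁S he₁)) s.2
  have he₂cE₂ : e₂ ∈ Subgroup.centralizer (E₂ : Set X) := by
    have h1 : e₂ = t * f⁻¹ := by rw [← htf]; group
    rw [h1]
    apply mul_mem
    · exact (Subgroup.le_centralizer_iff.mp hE₂C) htS
    · exact inv_mem ((hFC.trans (Subgroup.centralizer_le hE₂E)) hf)
  have he₂cE₁ : e₂ ∈ Subgroup.centralizer (E₁ : Set X) :=
    (hE₂C.trans (Subgroup.centralizer_le hE₁S)) he₂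
  have he₂cE : e₂ ∈ Subgroup.centralizer (E : Set X) := by
    have h1 : E₁ ⊔ E₂ ≤ Subgroup.centralizer ((Subgroup.zpowers e₂ : Subgroup X) : Set X) := by
      apply sup_le
      · rw [Subgroup.le_centralizer_iff, Subgroup.zpowers_le]; exact he₂cE₁
      · rw [Subgroup.le_centralizer_iff, Subgroup.zpowers_le]; exact he₂cE₂
    have h2 := Subgroup.le_centralizer_iff.mp (hEle.trans h1)
    exact h2 (Subgroup.mem_zpowers e₂)
  have hZ : E ⊓ Subgroup.centralizer (E : Set X) ≤ F := by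
    rw [hF]
    haveI hEn : E.Normal := by rw [hE]; exact Cfsg.Agent.Helper9.layer_normal X
    apply Cfsg.Agent.Helper9.le_fittingSubgroup_of_normal_of_comm
    · exact inferInstance
    · refine ⟨⟨fun a b => ?_⟩⟩
      have ha := (Subgroup.mem_inf.mp a.2)
      have hb := (Subgroup.mem_inf.mp b.2)
      have h := Subgroup.mem_centralizer_iff.mp hb.2 a.1 ha.1
      exact Subtype.ext h
  have htF : t ∈ F := by
    rw [← htf]
    exact mul_mem (hZ (Subgroup.mem_inf.mpr ⟨hE₂E he₂, he₂cE⟩)) hf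
  have ht2 : t ∈ (Cfsg.fittingSubgroup ↥S).map S.subtype := by
    rw [hpart1, ← hF]; exact Subgroup.mem_inf.mpr ⟨htF, htS⟩
  obtain ⟨t', ht', ht'eq⟩ := ht2
  have hE₁le : E₁ ≤ (Cfsg.layer ↥S).map S.subtype := by
    rw [hE₁]
    apply sSup_le
    rintro K ⟨hK, hKS⟩
    have h1 : Cfsg.IsComponent (K.subgroupOf S) :=
      Cfsg.Agent.Helper7.isComponent_subgroupOf hK hKS
    have h2 : K.subgroupOf S ≤ Cfsg.layer ↥S := Cfsg.Agent.Helper7.le_layer h1
    intro x hx
    exact ⟨⟨x, hKS hx⟩, h2 (Subgroup.mem_subgroupOf.mpr hx), rfl⟩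
  obtain ⟨e', he', he'eq⟩ := hE₁le he₁
  have hs : s = e' * t' := by
    apply Subtype.ext
    show (s : X) = S.subtype e' * S.subtype t'
    rw [he'eq, ht'eq, hst]
  rw [hs]
  exact mul_mem (Subgroup.mem_sup_right he') (Subgroup.mem_sup_left ht')

end Cfsg.Agent.S1318
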