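-- Statement S2827: generation properties of p-irreducible groups.
import Cfsg.Statements.S2827
import Cfsg.Agent.Helper14.PIrred

set_option autoImplicit false
open Cfsg

namespace Cfsg.Agent.S2827

open Cfsg.Agent.Helper14

/-- Let H be a finite p-irreducible group (not p-closed, and O^p(H) lies in every normal subgroup that is not p-closed) and T a Sylow p-subgroup. Then H is generated by the conjugates of T and H = H'·T; O^p(H) ≤ H'; and for every normal subgroup Y of T not contained in O_p(H), O^p(H) = [O^p(H), Y] and O^p(H) is contained in the normal closure of Y in H. -/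
theorem result {H : Type*} [Group H] [Finite H] {p : ℕ} [Fact p.Prime] (hH : Cfsg.IsPIrreducible p H) (T : Sylow p H) : Subgroup.normalClosure ((T : Subgroup H) : Set H) = ⊤ ∧ commutator H ⊔ (T : Subgroup H) = ⊤ ∧ Cfsg.pResidual p H ≤ commutator H ∧ ∀ Y : Subgroup H, Y ≤ (T : Subgroup H) → (T : Subgroup H) ≤ Subgroup.normalizer (Y : Set H) → ¬ Y ≤ Cfsg.pCore p H → ⁅Cfsg.pResidual p H, Y⁆ = Cfsg.pResidual p H ∧ Cfsg.pResidual p H ≤ Subgroup.normalClosure (Y : Set H) := by
  obtain ⟨hnpc, hirr⟩ := hH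
  have hRn : (pResidual p H).Normal := Cfsg.Agent.Helper6.pResidual_normal p H
  have hRT := pResidual_sup_sylow T
  have key : ∀ (N : Subgroup H), N.Normal → ∀ Y : Subgroup H, IsPGroup p Y → Y ≤ N →
      ¬ Y ≤ pCore p H → pResidual p H ≤ N := by
    intro N hN Y hY hYN hYO
    apply hirr N hN
    intro hpc
    haveI := hN
    rw [isPClosed_subgroup_iff] at hpc
    apply hYO
    intro y hy
    obtain ⟨a, ha⟩ := hY ⟨y, hy⟩
    exact hpc y (hYN hy) ⟨a, congrArg Subtype.val ha⟩
  have hTO : ¬ (T : Subgroup H) ≤ pCore p H := by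
    intro h
    apply hnpc
    have hT : (T : Subgroup H) = pCore p H := le_antisymm h (pCore_le_sylow T)
    rw [isPClosed_iff]
    rintro x ⟨a, ha⟩
    obtain ⟨g, hx1⟩ := exists_conj_mem_sylow T x a ha
    rw [hT] at hx1
    have := (pCore_normal p H).conj_mem _ hx1 g
    have e : g * (g⁻¹ * x * g) * g⁻¹ = x := by group
    rwa [e] at this
  have h1 : Subgroup.normalClosure ((T : Subgroup H) : Set H) = ⊤ := by
    have hR := key _ Subgroup.normalClosure_normal (T : Subgroup H) T.isPGroup'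
      Subgroup.le_normalClosure hTO
    rw [eq_top_iff, ← hRT]
    exact sup_le hR Subgroup.le_normalClosure
  have h2 : commutator H ⊔ (T : Subgroup H) = ⊤ := by
    have hn : (commutator H ⊔ (T : Subgroup H)).Normal := by
      constructor
      intro n hn g
      have hc : g * n * g⁻¹ * n⁻¹ ∈ commutator H := by
        show g * n * g⁻¹ * n⁻¹ ∈ ⁅(⊤ : Subgroup H), ⊤⁆
        exact Subgroup.commutator_mem_commutator (Subgroup.mem_top g) (Subgroup.mem_top n)
      have : g * n * g⁻¹ = (g * n * g⁻¹ * n⁻¹) * n := by group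
      rw [this]
      exact mul_mem (Subgroup.mem_sup_left hc) hn
    rw [eq_top_iff, ← h1]
    exact Subgroup.normalClosure_le_normal (N := commutator H ⊔ (T : Subgroup H))
      (fun x hx => Subgroup.mem_sup_right hx)
  have h3 : pResidual p H ≤ commutator H :=
    pResidual_le_of_sup_eq_top (commutator H) (T : Subgroup H) T.isPGroup' h2
  refine ⟨h1, h2, h3, ?_⟩
  intro Y hYT hTY hYO
  have hYp : IsPGroup p Y := T.isPGroup'.to_le hYT
  have hRY : pResidual p H ≤ Subgroup.normalClosure (Y : Set H) :=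
    key _ Subgroup.normalClosure_normal Y hYp Subgroup.le_normalClosure hYO
  refine ⟨?_, hRY⟩
  apply le_antisymm (Subgroup.commutator_le_left _ _)
  -- `R` normalizes `K = [R, Y]`
  have hRK : ∀ r ∈ pResidual p H, ∀ k ∈ ⁅pResidual p H, Y⁆,
      r * k * r⁻¹ ∈ ⁅pResidual p H, Y⁆ := by
    intro r hr k hk
    have hle : ⁅pResidual p H, Y⁆ ≤ (⁅pResidual p H, Y⁆).comap (MulAut.conj r).toMonoidHom := by
      rw [Subgroup.commutator_le]
      intro x hx y hy
      rw [Subgroup.mem_comap]
      show r * (x * y * x⁻¹ * y⁻¹) * r⁻¹ ∈ ⁅pResidual p H, Y⁆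
      have e : r * (x * y * x⁻¹ * y⁻¹) * r⁻¹ =
          ((r * x) * y * (r * x)⁻¹ * y⁻¹) * (r * y * r⁻¹ * y⁻¹)⁻¹ := by group
      rw [e]
      exact mul_mem (Subgroup.commutator_mem_commutator (mul_mem hr hx) hy)
        (inv_mem (Subgroup.commutator_mem_commutator hr hy))
    exact hle hk
  have hKT : ∀ t ∈ (T : Subgroup H),
      (⁅pResidual p H, Y⁆).map (MulAut.conj t).toMonoidHom = ⁅pResidual p H, Y⁆ := by
    intro t ht
    have eY : Y.map (MulAut.conj t).toMonoidHom = Y :=
      Subgroup.mem_normalizer_iff_map_conj_eq.mp (hTY ht)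
    rw [Subgroup.map_commutator, map_conj_eq_self_of_normal _ hRn t, eY]
  have hKtop : Subgroup.normalizer ((⁅pResidual p H, Y⁆ : Subgroup H) : Set H) = ⊤ := by
    rw [eq_top_iff, ← hRT]
    apply sup_le
    · intro r hr
      apply mem_normalizer_of_forall
      · exact hRK r hr
      · intro k hk
        have := hRK r⁻¹ (inv_mem hr) k hk
        rwa [inv_inv] at this
    · intro t ht
      exact Subgroup.mem_normalizer_iff_map_conj_eq.mpr (hKT t ht)
  have hKn : (⁅pResidual p H, Y⁆).Normal := Subgroup.normalizer_eq_top_iff.mp hKtop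
  -- `K ⊔ Y` is normal
  have hmapR : ∀ r ∈ pResidual p H,
      (⁅pResidual p H, Y⁆ ⊔ Y).map (MulAut.conj r).toMonoidHom ≤ ⁅pResidual p H, Y⁆ ⊔ Y := by
    intro r hr
    rw [Subgroup.map_sup, map_conj_eq_self_of_normal _ hKn r]
    apply sup_le le_sup_left
    rintro _ ⟨y, hy, rfl⟩
    show r * y * r⁻¹ ∈ ⁅pResidual p H, Y⁆ ⊔ Y
    have e : r * y * r⁻¹ = (r * y * r⁻¹ * y⁻¹) * y := by group
    rw [e]
    exact mul_mem (Subgroup.mem_sup_left (Subgroup.commutator_mem_commutator hr hy))
      (Subgroup.mem_sup_right hy)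
  have hKYtop : Subgroup.normalizer ((⁅pResidual p H, Y⁆ ⊔ Y : Subgroup H) : Set H) = ⊤ := by
    rw [eq_top_iff, ← hRT]
    apply sup_le
    · intro r hr
      apply mem_normalizer_of_forall
      · intro x hx
        exact hmapR r hr (conj_mem_map_conj _ r hx)
      · intro x hx
        have := hmapR r⁻¹ (inv_mem hr) (conj_mem_map_conj _ r⁻¹ hx)
        rwa [inv_inv] at this
    · intro t ht
      have eY : Y.map (MulAut.conj t).toMonoidHom = Y :=
        Subgroup.mem_normalizer_iff_map_conj_eq.mp (hTY ht)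
      have e : (⁅pResidual p H, Y⁆ ⊔ Y).map (MulAut.conj t).toMonoidHom =
          ⁅pResidual p H, Y⁆ ⊔ Y := by
        rw [Subgroup.map_sup, hKT t ht, eY]
      exact Subgroup.mem_normalizer_iff_map_conj_eq.mpr e
  have hKYn : (⁅pResidual p H, Y⁆ ⊔ Y).Normal := Subgroup.normalizer_eq_top_iff.mp hKYtop
  have hRle : pResidual p H ≤ ⁅pResidual p H, Y⁆ ⊔ Y :=
    hRY.trans (Subgroup.normalClosure_le_normal (N := ⁅pResidual p H, Y⁆ ⊔ Y)
      (fun x hx => Subgroup.mem_sup_right hx))
  show Subgroup.closure {g : H | Nat.Coprime (orderOf g) p} ≤ _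
  rw [Subgroup.closure_le]
  intro y hy
  have hy' : Nat.Coprime (orderOf y) p := hy
  exact mem_of_coprime_of_mem_sup _ Y hYp y (hRle (Subgroup.subset_closure hy)) _ hy'
    (pow_orderOf_eq_one y)

end Cfsg.Agent.S2827
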