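import Cfsg.Statements.S0040
import Cfsg.Agent.Helper15.Quat
import Cfsg.Agent.Helper15.SE
import Cfsg.Agent.Helper9.CoprimeGen
import Cfsg.Agent.Helper16.Conj

set_option autoImplicit false
open Cfsg

namespace Cfsg.Agent.S0040

open Cfsg.Agent.Helper15

/-- In a `p`-subgroup `Q` acting fixed-point-freely on a nontrivial normal subgroup `K`, there is
only one subgroup of order `p`. -/
theorem core {G : Type*} [Group G] [Finite G] (K : Subgroup G) [K.Normal] (hK : K ≠ ⊥) {p : ℕ}
    [Fact p.Prime] (Q : Subgroup G) (hQ : IsPGroup p ↥Q)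
    (hfpf : ∀ h ∈ Q, h ≠ 1 → K ⊓ Subgroup.centralizer {h} = ⊥)
    (X Y : Subgroup G) (hXQ : X ≤ Q) (hYQ : Y ≤ Q) (hX : Nat.card X = p) (hY : Nat.card Y = p) :
    X = Y := by
  classical
  have hp : p.Prime := Fact.out
  have hXne : X ≠ ⊥ := by
    intro h
    rw [h, Subgroup.card_bot] at hX
    exact hp.one_lt.ne hX
  obtain ⟨x, hx, hx1⟩ := exists_ne_one_of_ne_bot hXne
  have hpK : ¬ p ∣ Nat.card K := by
    intro hdiv
    obtain ⟨R, hR⟩ := (hQ.to_le (Subgroup.zpowers_le.mpr (hXQ hx))).exists_le_sylow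
    obtain ⟨a, haR, haK, ha1, -, hac⟩ := exists_central_order_p R K hdiv
    have hxR : x ∈ (R : Subgroup G) := hR (Subgroup.mem_zpowers x)
    have hmem : a ∈ K ⊓ Subgroup.centralizer {x} := by
      refine Subgroup.mem_inf.mpr ⟨haK, ?_⟩
      rw [Subgroup.mem_centralizer_iff]
      intro h hh
      rw [Set.mem_singleton_iff] at hh
      rw [hh]
      exact (Subgroup.mem_centralizer_iff.mp hac) x hxR
    rw [hfpf x (hXQ hx) hx1] at hmem
    exact ha1 (Subgroup.mem_bot.mp hmem)
  -- a central element of order p in Q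
  obtain ⟨z, hzQ, hz1, hzp, hzc⟩ : ∃ z : G, z ∈ Q ∧ z ≠ 1 ∧ z ^ p = 1 ∧ ∀ q ∈ Q, q * z = z * q := by
    haveI : Nontrivial ↥Q := ⟨⟨⟨x, hXQ hx⟩, 1, fun h => hx1 (congrArg Subtype.val h)⟩⟩
    haveI := hQ.center_nontrivial
    obtain ⟨z', hz'⟩ := exists_ne (1 : Subgroup.center ↥Q)
    have hz'1 : (z' : ↥Q) ≠ 1 := fun h => hz' (Subtype.ext h)
    obtain ⟨k, hk⟩ := hQ (z' : ↥Q)
    obtain ⟨m, hm1, hmp⟩ := exists_pow_order_p hz'1 hk
    have hcen : (z' : ↥Q) ^ m ∈ Subgroup.center ↥Q := Subgroup.pow_mem _ z'.2 m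
    refine ⟨(((z' : ↥Q) ^ m : ↥Q) : G), Subtype.property _, ?_, ?_, ?_⟩
    · intro h; exact hm1 (Subtype.ext h)
    · have := congrArg Subtype.val hmp
      simpa using this
    · intro q hq
      have := Subgroup.mem_center_iff.mp hcen ⟨q, hq⟩
      exact congrArg Subtype.val this
  have key : ∀ W : Subgroup G, W ≤ Q → Nat.card W = p → W = Subgroup.zpowers z := by
    intro W hWQ hW
    have hWne : W ≠ ⊥ := by
      intro h
      rw [h, Subgroup.card_bot] at hW
      exact hp.one_lt.ne hW
    obtain ⟨w, hw, hw1⟩ := exists_ne_one_of_ne_bot hWne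
    have hwp : w ^ p = 1 := by
      have h1 := pow_card_eq_one' (G := ↥W) (x := ⟨w, hw⟩)
      rw [hW] at h1
      have := congrArg Subtype.val h1
      simpa using this
    have hwo : orderOf w = p := orderOf_eq_prime hwp hw1
    have hzo : orderOf z = p := orderOf_eq_prime hzp hz1
    have hWw : Subgroup.zpowers w = W :=
      Subgroup.eq_of_le_of_card_ge (Subgroup.zpowers_le.mpr hw) (by rw [Nat.card_zpowers, hwo, hW])
    have hcomm : ∀ a ∈ Subgroup.closure ({z, w} : Set G), ∀ b ∈ Subgroup.closure ({z, w} : Set G),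
        a * b = b * a := by
      apply Cfsg.Agent.Helper16.closure_comm
      intro a ha b hb
      rcases ha with rfl | rfl <;> rcases hb with rfl | rfl
      · rfl
      · exact (hzc b (hWQ hw)).symm
      · exact hzc a (hWQ hw)
      · rfl
    have hEQ : Subgroup.closure ({z, w} : Set G) ≤ Q := by
      rw [Subgroup.closure_le]
      rintro a (rfl | rfl)
      · exact hzQ
      · exact hWQ hw
    have hzE : z ∈ Subgroup.closure ({z, w} : Set G) := Subgroup.subset_closure (by simp)
    have hwE : w ∈ Subgroup.closure ({z, w} : Set G) := Subgroup.subset_closure (by simp)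
    haveI hEc : IsMulCommutative ↥(Subgroup.closure ({z, w} : Set G)) :=
      ⟨⟨fun a b => Subtype.ext (hcomm a a.2 b b.2)⟩⟩
    have hcyc : IsCyclic ↥(Subgroup.closure ({z, w} : Set G)) := by
      by_contra hnc
      obtain ⟨j, hj⟩ := IsPGroup.iff_card.mp (hQ.to_le hEQ)
      have hcop : (Nat.card ↥(Subgroup.closure ({z, w} : Set G))).Coprime (Nat.card K) := by
        rw [hj]
        exact Nat.Coprime.pow_left j ((Nat.Prime.coprime_iff_not_dvd hp).mpr hpK)
      have hgen := Cfsg.Agent.Helper9.coprime_generation (Subgroup.closure ({z, w} : Set G)) K hnc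
        (by rw [Subgroup.normalizer_eq_top]; exact le_top) hcop
      apply hK
      rw [← hgen, eq_bot_iff]
      unfold Cfsg.Agent.Helper9.cgen
      exact iSup₂_le fun a ha => by rw [hfpf a (hEQ ha.1) ha.2]
    have h1 : Nat.card ((Subgroup.zpowers z).subgroupOf (Subgroup.closure ({z, w} : Set G))) = p := by
      rw [Nat.card_congr (Subgroup.subgroupOfEquivOfLe (Subgroup.zpowers_le.mpr hzE)).toEquiv,
        Nat.card_zpowers, hzo]
    have h2 : Nat.card ((Subgroup.zpowers w).subgroupOf (Subgroup.closure ({z, w} : Set G))) = p := by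
      rw [Nat.card_congr (Subgroup.subgroupOfEquivOfLe (Subgroup.zpowers_le.mpr hwE)).toEquiv,
        Nat.card_zpowers, hwo]
    have h3 := Cfsg.Agent.Helper23.eq_of_card_eq_of_isCyclic _ _ (h1.trans h2.symm)
    rw [Subgroup.subgroupOf_inj, inf_eq_left.mpr (Subgroup.zpowers_le.mpr hzE),
      inf_eq_left.mpr (Subgroup.zpowers_le.mpr hwE)] at h3
    rw [← hWw, h3]
  rw [key X hXQ hX, key Y hYQ hY]


/-- Sylow subgroups of Frobenius complements: if H complements a nontrivial normal subgroup K and every nonidentity element of H has trivial centraliser in K, then each Sylow subgroup of H is cyclic or isomorphic to a generalized quaternion group. -/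
theorem result {G : Type*} [Group G] [Finite G] (K H : Subgroup G) [K.Normal]
    (hc : Subgroup.IsComplement' K H) (hK : K ≠ ⊥) (hfpf : ∀ h ∈ H, h ≠ 1 → K ⊓ Subgroup.centralizer {h} = ⊥)
    (p : ℕ) [Fact p.Prime] (P : Sylow p H) :
    IsCyclic P ∨ ∃ n : ℕ, Nonempty (P ≃* QuaternionGroup (2 ^ n)) := by

  classical
  have hPp : IsPGroup p ↥(P : Subgroup ↥H) := P.isPGroup'
  have hinj : Function.Injective (H.subtype.comp (P : Subgroup ↥H).subtype) :=
    H.subtype_injective.comp (P : Subgroup ↥H).subtype_injective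
  have huniq : ∀ X Y : Subgroup ↥(P : Subgroup ↥H), Nat.card X = p → Nat.card Y = p → X = Y := by
    intro X Y hX hY
    have hQ : IsPGroup p ↥((P : Subgroup ↥H).map H.subtype) := hPp.map H.subtype
    have hle : ∀ Z : Subgroup ↥(P : Subgroup ↥H),
        Z.map (H.subtype.comp (P : Subgroup ↥H).subtype) ≤ (P : Subgroup ↥H).map H.subtype := by
      rintro Z _ ⟨y, -, rfl⟩
      exact ⟨(y : ↥H), y.2, rfl⟩
    have h := core K hK ((P : Subgroup ↥H).map H.subtype) hQ
      (by
        rintro _ ⟨y, -, rfl⟩ hy1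
        exact hfpf (y : G) y.2 hy1)
      (X.map (H.subtype.comp (P : Subgroup ↥H).subtype))
      (Y.map (H.subtype.comp (P : Subgroup ↥H).subtype)) (hle X) (hle Y)
      (by rw [Subgroup.card_map_of_injective hinj]; exact hX)
      (by rw [Subgroup.card_map_of_injective hinj]; exact hY)
    exact Subgroup.map_injective hinj h
  rcases Cfsg.Agent.Helper15.cyclic_or_quaternion_of_unique p hPp huniq with h | ⟨-, h⟩
  · exact Or.inl h
  · exact Or.inr h

end Cfsg.Agent.S0040
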