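import Cfsg.Statements.S0042
import Mathlib
import Cfsg.Agent.Helper21.Thompson
import Cfsg.Agent.Lead.FrobConj
-- import your own Cfsg.Agent.* helpers here

set_option autoImplicit false
open Cfsg

namespace Cfsg.Agent.S0042

/-- In a finite Frobenius group, the Frobenius kernel is (the carrier of) a normal subgroup which is nilpotent. -/
theorem result {G : Type*} [Group G] [Finite G] (H : Subgroup G) (hH : Cfsg.IsFrobeniusComplement H) :
    ∃ N : Subgroup G, (N : Set G) = Cfsg.frobeniusKernel H ∧ N.Normal ∧ Group.IsNilpotent N := by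
  obtain ⟨N, d⟩ := Cfsg.Agent.Lead.exists_frobData H hH
  obtain ⟨hN1, hNn, hNc⟩ := d.2
  haveI := hNn
  refine ⟨N, hN1, hNn, ?_⟩
  -- an element of prime order in `H`
  have hHcard : 1 < Nat.card ↥H := (Subgroup.one_lt_card_iff_ne_bot H).2 hH.1
  obtain ⟨r, hr, hrH⟩ := Nat.exists_prime_and_dvd hHcard.ne'
  haveI : Fact r.Prime := ⟨hr⟩
  obtain ⟨h', hh'⟩ := exists_prime_orderOf_dvd_card' (G := ↥H) r hrH
  have hh1 : (h' : G) ≠ 1 := by
    intro h
    have : h' = 1 := Subtype.ext h
    rw [this, orderOf_one] at hh'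
    exact hr.one_lt.ne hh'
  have hhr : (h' : G) ^ r = 1 := by
    have := pow_orderOf_eq_one h'
    rw [hh'] at this
    exact congrArg Subtype.val this
  have hiter : ∀ (k : ℕ) (x : ↥N),
      (((⇑(MulAut.conjNormal (H := N) (h' : G)))^[k] x : ↥N) : G) =
        (h' : G) ^ k * x * ((h' : G) ^ k)⁻¹ := by
    intro k x
    induction k with
    | zero => simp
    | succ k ih =>
      rw [Function.iterate_succ_apply', MulAut.conjNormal_apply, ih, pow_succ']
      group
  refine Cfsg.Agent.Helper21.thompson_nilpotent (MulAut.conjNormal (H := N) (h' : G)) ?_ r hr ?_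
  · intro x hx
    have h1 : (h' : G) * x * (h' : G)⁻¹ = x := by
      have := congrArg Subtype.val hx
      rwa [MulAut.conjNormal_apply] at this
    have h2 : (x : G) * (h' : G) = (h' : G) * x := by
      calc (x : G) * (h' : G) = ((h' : G) * x * (h' : G)⁻¹) * (h' : G) := by rw [h1]
        _ = (h' : G) * x := by group
    exact Subtype.ext (d.comm h'.2 hh1 x.2 h2)
  · intro x
    apply Subtype.ext
    rw [hiter, hhr]
    group

end Cfsg.Agent.S0042
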