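import Cfsg.Statements.S0095
import Mathlib

set_option autoImplicit false
open Cfsg
open scoped commutatorElement

namespace Cfsg.Agent.S0095

universe u

theorem comm_mem_center {P : Type*} [Group P] (hcomm : commutator P = Subgroup.center P)
    (a g : P) : ⁅a, g⁆ ∈ Subgroup.center P := by
  rw [← hcomm, commutator_def]
  exact Subgroup.commutator_mem_commutator (Subgroup.mem_top a) (Subgroup.mem_top g)

/-- the hom `g ↦ ⁅a, g⁆` into the centre -/
def cm {P : Type*} [Group P] (hcomm : commutator P = Subgroup.center P) (a : P) :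
    P →* Subgroup.center P where
  toFun g := ⟨⁅a, g⁆, comm_mem_center hcomm a g⟩
  map_one' := Subtype.ext (by simp)
  map_mul' g h := Subtype.ext (by
    have hc := Subgroup.mem_center_iff.mp (comm_mem_center hcomm a h) g
    rw [commutatorElement_def] at hc
    show ⁅a, g * h⁆ = ⁅a, g⁆ * ⁅a, h⁆
    calc ⁅a, g * h⁆ = a * g * a⁻¹ * g⁻¹ * (g * (a * h * a⁻¹ * h⁻¹) * g⁻¹) := by
          rw [commutatorElement_def]; group
      _ = a * g * a⁻¹ * g⁻¹ * ((a * h * a⁻¹ * h⁻¹) * g * g⁻¹) := by rw [hc]
      _ = ⁅a, g⁆ * ⁅a, h⁆ := by rw [commutatorElement_def, commutatorElement_def]; group)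

theorem aux (p : ℕ) [Fact p.Prime] : ∀ n : ℕ, ∀ (P : Type u) [Group P] [Finite P],
    Nat.card P = n → Nat.card (Subgroup.center P) = p → commutator P = Subgroup.center P →
    ∃ k : ℕ, 1 ≤ k ∧ Nat.card P = p ^ (2 * k + 1) := by
  intro n
  induction n using Nat.strongRecOn with | ind n ih => ?_
  intro P _ _ hn hZ hcomm
  have hp : p.Prime := Fact.out
  have hne : Subgroup.center P ≠ ⊤ := by
    intro htop
    have h1 : commutator P = ⊥ := (commutator_eq_bot_iff_center_eq_top P).mpr htop
    rw [← hcomm, h1, Subgroup.card_bot] at hZ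
    exact hp.one_lt.ne hZ
  obtain ⟨x, hx⟩ : ∃ x : P, x ∉ Subgroup.center P := by
    by_contra hcon
    push Not at hcon
    exact hne (eq_top_iff.mpr (fun g _ => hcon g))
  obtain ⟨y, hxy⟩ : ∃ y : P, y * x ≠ x * y := by
    by_contra hcon
    push Not at hcon
    exact hx (Subgroup.mem_center_iff.mpr hcon)
  let cx := cm hcomm x
  let cy := cm hcomm y
  have hu : cx y ≠ 1 := by
    intro h
    have h1 : ⁅x, y⁆ = 1 := congrArg Subtype.val h
    rw [commutatorElement_eq_one_iff_mul_comm] at h1
    exact hxy h1.symm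
  have hv : cy x ≠ 1 := by
    intro h
    have h1 : ⁅y, x⁆ = 1 := congrArg Subtype.val h
    rw [commutatorElement_eq_one_iff_mul_comm] at h1
    exact hxy h1
  have hcxx : cx x = 1 := Subtype.ext (by show ⁅x, x⁆ = 1; simp)
  have hcyy : cy y = 1 := Subtype.ext (by show ⁅y, y⁆ = 1; simp)
  let φ : P →* Subgroup.center P × Subgroup.center P := cx.prod cy
  have hdecomp : ∀ g : P, ∃ i j : ℤ, g * (y ^ i * x ^ j)⁻¹ ∈ φ.ker := by
    intro g
    obtain ⟨i, hi⟩ := Subgroup.mem_zpowers_iff.mp (mem_zpowers_of_prime_card hZ hu (g' := cx g))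
    obtain ⟨j, hj⟩ := Subgroup.mem_zpowers_iff.mp (mem_zpowers_of_prime_card hZ hv (g' := cy g))
    refine ⟨i, j, ?_⟩
    rw [MonoidHom.mem_ker, MonoidHom.prod_apply, Prod.mk_eq_one]
    constructor
    · rw [map_mul, map_inv, map_mul, map_zpow, map_zpow, hcxx, one_zpow, mul_one, hi,
        mul_inv_cancel]
    · rw [map_mul, map_inv, map_mul, map_zpow, map_zpow, hcyy, one_zpow, one_mul, hj,
        mul_inv_cancel]
  have hsurj : Function.Surjective φ := by
    rintro ⟨z₁, z₂⟩
    obtain ⟨i, hi⟩ := Subgroup.mem_zpowers_iff.mp (mem_zpowers_of_prime_card hZ hu (g' := z₁))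
    obtain ⟨j, hj⟩ := Subgroup.mem_zpowers_iff.mp (mem_zpowers_of_prime_card hZ hv (g' := z₂))
    refine ⟨y ^ i * x ^ j, ?_⟩
    rw [MonoidHom.prod_apply, Prod.mk.injEq]
    constructor
    · rw [map_mul, map_zpow, map_zpow, hcxx, one_zpow, mul_one, hi]
    · rw [map_mul, map_zpow, map_zpow, hcyy, one_zpow, one_mul, hj]
  let Q : Subgroup P := φ.ker
  have hcardP : Nat.card P = Nat.card Q * p ^ 2 := by
    have h1 : Q.index = Nat.card (Subgroup.center P × Subgroup.center P) := by
      show φ.ker.index = _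
      rw [Subgroup.index_ker, MonoidHom.range_eq_top.mpr hsurj, Subgroup.card_top]
    rw [Nat.card_prod, hZ] at h1
    rw [← Subgroup.card_mul_index Q, h1, sq]
  have hmemQ : ∀ g : P, g ∈ Q ↔ x * g = g * x ∧ y * g = g * y := by
    intro g
    show g ∈ φ.ker ↔ _
    rw [MonoidHom.mem_ker, MonoidHom.prod_apply, Prod.mk_eq_one]
    constructor
    · rintro ⟨h1, h2⟩
      have h1' : ⁅x, g⁆ = 1 := congrArg Subtype.val h1
      have h2' : ⁅y, g⁆ = 1 := congrArg Subtype.val h2
      exact ⟨commutatorElement_eq_one_iff_mul_comm.mp h1',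
        commutatorElement_eq_one_iff_mul_comm.mp h2'⟩
    · rintro ⟨h1, h2⟩
      exact ⟨Subtype.ext (commutatorElement_eq_one_iff_mul_comm.mpr h1),
        Subtype.ext (commutatorElement_eq_one_iff_mul_comm.mpr h2)⟩
  have hZQ : Subgroup.center P ≤ Q := by
    intro z hz
    rw [hmemQ]
    exact ⟨Subgroup.mem_center_iff.mp hz x, Subgroup.mem_center_iff.mp hz y⟩
  have hcenQ : Subgroup.center Q = (Subgroup.center P).subgroupOf Q := by
    ext w
    constructor
    · intro hw'
      have hw := Subgroup.mem_center_iff.mp hw'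
      apply Subgroup.mem_subgroupOf.mpr
      apply Subgroup.mem_center_iff.mpr
      intro g
      obtain ⟨i, j, hq⟩ := hdecomp g
      have hwQ := (hmemQ w).mp w.2
      have h1 : g * (y ^ i * x ^ j)⁻¹ ∈ Subgroup.centralizer {(w : P)} := by
        rw [Subgroup.mem_centralizer_iff]
        intro t ht
        rw [Set.mem_singleton_iff] at ht
        rw [ht]
        have h0 := hw ⟨_, hq⟩
        exact (congrArg Subtype.val h0).symm
      have h2 : x ∈ Subgroup.centralizer {(w : P)} := by
        rw [Subgroup.mem_centralizer_iff]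
        intro t ht
        rw [Set.mem_singleton_iff] at ht
        rw [ht]; exact hwQ.1.symm
      have h3 : y ∈ Subgroup.centralizer {(w : P)} := by
        rw [Subgroup.mem_centralizer_iff]
        intro t ht
        rw [Set.mem_singleton_iff] at ht
        rw [ht]; exact hwQ.2.symm
      have h4 : g ∈ Subgroup.centralizer {(w : P)} := by
        have h5 := Subgroup.mul_mem _ h1
          (Subgroup.mul_mem _ (Subgroup.zpow_mem _ h3 i) (Subgroup.zpow_mem _ h2 j))
        rw [inv_mul_cancel_right] at h5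
        exact h5
      exact (Subgroup.mem_centralizer_iff.mp h4 (w : P) rfl).symm
    · intro hw'
      have hw := Subgroup.mem_center_iff.mp (Subgroup.mem_subgroupOf.mp hw')
      apply Subgroup.mem_center_iff.mpr
      intro q
      exact Subtype.ext (hw (q : P))
  have hcardZQ : Nat.card (Subgroup.center Q) = p := by
    rw [hcenQ, ← hZ]
    exact Nat.card_congr (Subgroup.subgroupOfEquivOfLe hZQ).toEquiv
  have hcommQ : commutator Q ≤ Subgroup.center Q := by
    rw [hcenQ]
    intro w hw
    rw [Subgroup.mem_subgroupOf, ← hcomm]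
    have h1 : (commutator Q).map Q.subtype ≤ commutator P := by
      rw [commutator_def, commutator_def, Subgroup.map_commutator]
      exact Subgroup.commutator_mono le_top le_top
    exact h1 (Subgroup.mem_map_of_mem Q.subtype hw)
  have hQlt : Nat.card Q < n := by
    rw [← hn, hcardP]
    have h0 : 0 < Nat.card Q := Nat.card_pos
    have h2 : 1 < p ^ 2 := Nat.one_lt_pow (by norm_num) hp.one_lt
    exact lt_mul_of_one_lt_right h0 h2
  have hdvd : Nat.card (commutator Q) ∣ p := by
    rw [← hcardZQ]; exact Subgroup.card_dvd_of_le hcommQ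
  rcases (Nat.dvd_prime hp).mp hdvd with h1 | h1
  · have h2 : commutator Q = ⊥ := Subgroup.eq_bot_of_card_eq _ h1
    have h3 : Subgroup.center Q = ⊤ := (commutator_eq_bot_iff_center_eq_top Q).mp h2
    have h4 : Nat.card Q = p := by
      rw [← hcardZQ, h3, Subgroup.card_top]
    refine ⟨1, le_refl 1, ?_⟩
    rw [hcardP, h4]; ring
  · have h2 : commutator Q = Subgroup.center Q :=
      Subgroup.eq_of_le_of_card_ge hcommQ (by rw [h1, hcardZQ])
    obtain ⟨k, hk1, hk⟩ := ih (Nat.card Q) hQlt Q rfl hcardZQ h2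
    refine ⟨k + 1, by omega, ?_⟩
    rw [hcardP, hk]; ring

/-- The order of an extraspecial p-group is an odd power p^(2n+1) of p with n ≥ 1. -/
theorem result {P : Type*} [Group P] [Finite P] {p : ℕ} [Fact p.Prime] (h : Cfsg.IsExtraspecial p P) : ∃ n : ℕ, 1 ≤ n ∧ Nat.card P = p ^ (2 * n + 1) := by
  exact aux p _ P rfl h.2 h.1.2.2

end Cfsg.Agent.S0095
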