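import Cfsg.Statements.S0100
import Mathlib
import Cfsg.Agent.S0129
import Cfsg.Agent.S0130

set_option autoImplicit false
open Cfsg

namespace Cfsg.Agent.S0100

theorem exists_normal_cube {P : Type*} [Group P] [Finite P] {p : ℕ} [Fact p.Prime]
    (hP : IsPGroup p P) :
    ∀ (j : ℕ) (A : Subgroup P), A.Normal → Nat.card A = p ^ (3 + j) →
      ∃ B : Subgroup P, B.Normal ∧ B ≤ A ∧ Nat.card B = p ^ 3 := by
  intro j
  induction j with
  | zero => intro A hA hc; exact ⟨A, hA, le_rfl, hc⟩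
  | succ j ih =>
    intro A hA hc
    haveI := hA
    obtain ⟨A', hA'n, hA'A, hA'c, -⟩ := Cfsg.Agent.S0129.exists_sub hP A (3 + j) hc
    obtain ⟨B, hBn, hBA, hBc⟩ := ih A' hA'n hA'c
    exact ⟨B, hBn, hBA.trans hA'A, hBc⟩

theorem aux {P : Type*} [Group P] [Finite P] {p : ℕ} [Fact p.Prime] (hP : IsPGroup p P)
    (alp : ∀ (A : Subgroup P) [A.Normal], IsMulCommutative A → (∀ a ∈ A, a ^ p = 1) →
      (∀ B : Subgroup P, B.Normal → IsMulCommutative B → (∀ b ∈ B, b ^ p = 1) → A ≤ B → B = A) →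
      ∀ x ∈ Subgroup.centralizer (A : Set P), x ^ p = 1 → x ∈ A)
    (h : ∀ A : Subgroup P, A.Normal → IsMulCommutative A → (∀ a ∈ A, a ^ p = 1) →
      Nat.card A ≠ p ^ 3)
    (E : Subgroup P) (hE : IsMulCommutative E) (hEe : ∀ e ∈ E, e ^ p = 1) :
    Nat.card E ≤ p ^ 2 := by
  have hpp : p.Prime := Fact.out
  have hbot : IsMulCommutative (⊥ : Subgroup P) := ⟨⟨fun a b => by
    have ha : a = 1 := Subtype.ext (by simpa using Subgroup.mem_bot.mp a.2)
    rw [ha, one_mul, mul_one]⟩⟩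
  obtain ⟨A, ⟨hAn, hAc, hAe⟩, hmaxc⟩ := Set.Finite.exists_maximalFor
    (fun M : Subgroup P => Nat.card M)
    {M : Subgroup P | M.Normal ∧ IsMulCommutative M ∧ ∀ b ∈ M, b ^ p = 1}
    (Set.toFinite _)
    ⟨⊥, inferInstance, hbot, fun b hb => by rw [Subgroup.mem_bot.mp hb, one_pow]⟩
  haveI := hAn
  have hmax : ∀ B : Subgroup P, B.Normal → IsMulCommutative B → (∀ b ∈ B, b ^ p = 1) →
      A ≤ B → B = A := by
    intro B hBn hBc hBe hAB
    have h1 := hmaxc ⟨hBn, hBc, hBe⟩ (Subgroup.card_le_of_le hAB)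
    exact (Subgroup.eq_of_le_of_card_ge hAB h1).symm
  have hCA : ∀ x ∈ Subgroup.centralizer (A : Set P), x ^ p = 1 → x ∈ A := alp A hAc hAe hmax
  obtain ⟨k, hk⟩ := IsPGroup.iff_card.mp (hP.to_subgroup A)
  have hk2 : k ≤ 2 := by
    by_contra hk3
    obtain ⟨j, hj⟩ : ∃ j, k = 3 + j := ⟨k - 3, by omega⟩
    rw [hj] at hk
    obtain ⟨B, hBn, hBA, hBc⟩ := exists_normal_cube hP j A hAn hk
    have hBcomm : IsMulCommutative B := ⟨⟨fun a b => Subtype.ext (by
      have h2 := hAc.is_comm.comm ⟨a, hBA a.2⟩ ⟨b, hBA b.2⟩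
      show (a : P) * (b : P) = (b : P) * (a : P)
      exact congrArg Subtype.val h2)⟩⟩
    exact h B hBn hBcomm (fun b hb => hAe b (hBA hb)) hBc
  obtain ⟨C, hCdef⟩ : ∃ C, C = Subgroup.centralizer (A : Set P) := ⟨_, rfl⟩
  have hidx : C.index ≤ p ^ (∑ i ∈ Finset.range k, i) := by
    rw [hCdef]; exact Cfsg.Agent.S0129.index_centralizer_le hP k A hAn hk
  have hECA : E ⊓ C ≤ A := by
    intro x hx
    rw [hCdef] at hx
    exact hCA x hx.2 (hEe x hx.1)
  have hcardE : Nat.card E ≤ Nat.card (E ⊓ C : Subgroup P) * C.index := by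
    have h1 : (E ⊓ C).index ≤ E.index * C.index := Subgroup.index_inf_le
    have h2 : Nat.card (E ⊓ C : Subgroup P) * (E ⊓ C).index = Nat.card P :=
      Subgroup.card_mul_index _
    have h3 : Nat.card E * E.index = Nat.card P := Subgroup.card_mul_index _
    have h4 : 0 < E.index := Nat.pos_of_ne_zero Subgroup.index_ne_zero_of_finite
    have h5 : Nat.card E * E.index ≤ Nat.card (E ⊓ C : Subgroup P) * C.index * E.index := by
      calc Nat.card E * E.index = Nat.card (E ⊓ C : Subgroup P) * (E ⊓ C).index := by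
            rw [h3, h2]
        _ ≤ Nat.card (E ⊓ C : Subgroup P) * (E.index * C.index) := Nat.mul_le_mul_left _ h1
        _ = Nat.card (E ⊓ C : Subgroup P) * C.index * E.index := by ring
    exact Nat.le_of_mul_le_mul_right h5 h4
  have hdvd : Nat.card (E ⊓ C : Subgroup P) ∣ p ^ k := by
    rw [← hk]; exact Subgroup.card_dvd_of_le hECA
  obtain ⟨m, hmk, hm⟩ := (Nat.dvd_prime_pow hpp).mp hdvd
  by_cases hm2 : m = 2
  · have hk2' : k = 2 := by omega
    have hEq : E ⊓ C = A := by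
      apply Subgroup.eq_of_le_of_card_ge hECA
      rw [hk, hm, hm2, hk2']
    have hAE : A ≤ E := by rw [← hEq]; exact inf_le_left
    have hEC : E ≤ C := by
      rw [hCdef]
      intro e he
      rw [Subgroup.mem_centralizer_iff]
      intro a ha
      have h2 := hE.is_comm.comm ⟨a, hAE ha⟩ ⟨e, he⟩
      exact congrArg Subtype.val h2
    have h6 : E ⊓ C = E := inf_eq_left.mpr hEC
    rw [← h6, hm, hm2]
  · have hm1 : m ≤ 1 := by omega
    have hsum : ∑ i ∈ Finset.range k, i ≤ 1 := by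
      interval_cases k <;> simp [Finset.sum_range_succ]
    calc Nat.card E ≤ Nat.card (E ⊓ C : Subgroup P) * C.index := hcardE
      _ ≤ p ^ m * p ^ (∑ i ∈ Finset.range k, i) := by
          rw [hm]; exact Nat.mul_le_mul_left _ hidx
      _ ≤ p ^ 1 * p ^ 1 := Nat.mul_le_mul (Nat.pow_le_pow_right hpp.pos hm1)
          (Nat.pow_le_pow_right hpp.pos hsum)
      _ = p ^ 2 := by ring

/-- For odd p, a p-group without normal elementary abelian subgroups of order p^3 has p-rank at most 2. -/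
theorem result {P : Type*} [Group P] [Finite P] {p : ℕ} [Fact p.Prime] (hp : p ≠ 2) (hP : IsPGroup p P) (h : ∀ A : Subgroup P, A.Normal → IsMulCommutative A → (∀ a ∈ A, a ^ p = 1) → Nat.card A ≠ p ^ 3) (E : Subgroup P) (hE : IsMulCommutative E) (hEe : ∀ e ∈ E, e ^ p = 1) : Nat.card E ≤ p ^ 2 := by
  refine aux hP (fun A _ hA hAe hmax x hx hxp => ?_) h E hE hEe
  exact Cfsg.Agent.S0130.result hP 1 (by simpa using hp) A hA (by simpa using hAe)
    (fun B hBn hBc hBe hAB => hmax B hBn hBc (by simpa using hBe) hAB) x hx (by simpa using hxp)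

end Cfsg.Agent.S0100
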