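import Mathlib
import Cfsg.Statements.S0106
import Cfsg.Agent.Helper1.Frobenius
import Cfsg.Agent.Helper15.Quat
import Cfsg.Agent.Helper16.QuatExt
import Cfsg.Agent.Helper16.SL23
import Cfsg.Agent.Helper16.Conj
import Cfsg.Agent.Helper16.Odd
import Cfsg.Agent.S0218
-- import your own Cfsg.Agent.* helpers here

set_option autoImplicit false
open Cfsg

namespace Cfsg.Agent.S0106


theorem quat_invol_unique (M : ℕ) [NeZero M] (u v : QuaternionGroup M) (hu : orderOf u = 2)
    (hv : orderOf v = 2) : u = v := by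
  have h := Cfsg.Agent.S0218.aux M
  rw [Nat.card_eq_one_iff_unique] at h
  obtain ⟨hs, -⟩ := h
  have := hs.elim ⟨u, hu⟩ ⟨v, hv⟩
  exact congrArg Subtype.val this

theorem huniq_sub {G : Type*} [Group G] [Finite G] (Q : Subgroup G)
    (hz : ∀ s t : G, s ∈ Q → t ∈ Q → orderOf s = 2 → orderOf t = 2 → s = t) :
    ∀ H K : Subgroup Q, Nat.card H = 2 → Nat.card K = 2 → H = K := by
  have key : ∀ H : Subgroup Q, Nat.card H = 2 →
      ∃ h : Q, orderOf h = 2 ∧ H = Subgroup.zpowers h := by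
    intro H hH
    have hne : H ≠ ⊥ := by
      intro hb; rw [hb, Subgroup.card_bot] at hH; omega
    obtain ⟨h, hh, hh1⟩ : ∃ h ∈ H, h ≠ 1 := by
      by_contra hcon; push_neg at hcon
      exact hne ((Subgroup.eq_bot_iff_forall _).2 hcon)
    have hord : orderOf h = 2 := by
      have hd : orderOf h ∣ 2 := by
        have h1 := orderOf_dvd_natCard (⟨h, hh⟩ : H)
        rw [hH, ← Subgroup.orderOf_coe] at h1
        exact h1
      rcases (Nat.dvd_prime Nat.prime_two).1 hd with h1 | h2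
      · exact absurd (orderOf_eq_one_iff.1 h1) hh1
      · exact h2
    refine ⟨h, hord, ?_⟩
    symm
    apply Subgroup.eq_of_le_of_card_ge (Subgroup.zpowers_le.2 hh)
    rw [hH, Nat.card_zpowers, hord]
  intro H K hH hK
  obtain ⟨h, hh, rfl⟩ := key H hH
  obtain ⟨k, hk, rfl⟩ := key K hK
  have : h = k := Subtype.ext (hz h k h.2 k.2 (by rw [Subgroup.orderOf_coe]; exact hh)
    (by rw [Subgroup.orderOf_coe]; exact hk))
  rw [this]

theorem core {G : Type*} [Group G] [Finite G] (Q : Subgroup G) (hQ : IsPGroup 2 Q)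
    (hz : ∀ s t : G, s ∈ Q → t ∈ Q → orderOf s = 2 → orderOf t = 2 → s = t)
    (g : G) (hgN : g ∈ Subgroup.normalizer (Q : Set G)) (hgo : Odd (orderOf g))
    (hsec : ¬ ∃ (H K : Subgroup G) (hK : (K.subgroupOf H).Normal),
      Nonempty ((H ⧸ K.subgroupOf H) ≃* Matrix.SpecialLinearGroup (Fin 2) (ZMod 3))) :
    g ∈ Subgroup.centralizer (Q : Set G) := by
  have hconjQ : ∀ q ∈ Q, g * q * g⁻¹ ∈ Q :=
    fun q hq => (Subgroup.mem_normalizer_iff.1 hgN q).1 hq
  have hgm : g ^ orderOf g = 1 := pow_orderOf_eq_one g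
  have h2pow : ∀ q ∈ Q, ∃ j : ℕ, q ^ 2 ^ j = 1 := by
    intro q hq
    obtain ⟨j, hj⟩ := hQ ⟨q, hq⟩
    exact ⟨j, by simpa using congrArg Subtype.val hj⟩
  have hcm : ∀ s t : G, g * (s * t) * g⁻¹ = (g * s * g⁻¹) * (g * t * g⁻¹) := by
    intro s t
    simp only [mul_assoc, inv_mul_cancel_left]
  rcases Cfsg.Agent.Helper15.quaternion_of_unique_involution hQ (huniq_sub Q hz) with
    hcyc | ⟨k, ⟨e⟩⟩
  · -- cyclic
    obtain ⟨c, hc⟩ := IsCyclic.exists_generator (α := Q)
    obtain ⟨j, hj⟩ := h2pow c c.2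
    obtain ⟨k, -, hk⟩ := (Nat.dvd_prime_pow Nat.prime_two).1 (orderOf_dvd_of_pow_eq_one hj)
    have hcc : g * (c : G) * g⁻¹ = c := by
      apply Cfsg.Agent.Helper16.conj_eq_of_odd_of_mem_zpowers hk hgo hgm
      have h1 := hconjQ c c.2
      have h2 := hc ⟨_, h1⟩
      obtain ⟨i, hi⟩ := Subgroup.mem_zpowers_iff.1 h2
      have := congrArg Subtype.val hi
      rw [Subgroup.mem_zpowers_iff]
      exact ⟨i, by simpa using this⟩
    rw [Subgroup.mem_centralizer_iff]
    intro q hq
    obtain ⟨i, hi⟩ := Subgroup.mem_zpowers_iff.1 (hc ⟨q, hq⟩)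
    have hqi : q = (c : G) ^ i := by
      have := congrArg Subtype.val hi
      simpa using this.symm
    have hcomm : Commute g (c : G) := by
      show g * c = c * g
      calc g * (c : G) = (g * c * g⁻¹) * g := by rw [inv_mul_cancel_right]
        _ = c * g := by rw [hcc]
    rw [hqi]
    exact (hcomm.zpow_right i).eq.symm
  · -- quaternion
    haveI : NeZero (2 ^ k) := ⟨by positivity⟩
    obtain ⟨A, B, d1, d2, d3, d4, d5⟩ := Cfsg.Agent.Helper16.QuatExt.quat_data e
    obtain ⟨a, haA⟩ : ∃ a : G, a = (A : G) := ⟨_, rfl⟩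
    obtain ⟨b, hbB⟩ : ∃ b : G, b = (B : G) := ⟨_, rfl⟩
    obtain ⟨m, hm⟩ : ∃ m : ℕ, m = 2 ^ k := ⟨_, rfl⟩
    rw [← hm] at d2 d3 d5
    have haQ : a ∈ Q := haA ▸ A.2
    have hbQ : b ∈ Q := hbB ▸ B.2
    have e1 : a * (b * a) = b := by
      rw [haA, hbB, ← Subgroup.coe_mul, ← Subgroup.coe_mul, d1]
    have e2 : b * b = a ^ m := by
      rw [haA, hbB, ← Subgroup.coe_mul, ← Subgroup.coe_pow, d2]
    have e3 : a ^ m ≠ 1 := by
      intro h
      apply d3
      apply Subtype.ext
      rw [Subgroup.coe_pow, Subgroup.coe_one, ← haA]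
      exact h
    have e4 : ∀ q ∈ Q, ∃ i : ℕ, q = a ^ i ∨ q = b * a ^ i := by
      intro q hq
      obtain ⟨i, h | h⟩ := d4 ⟨q, hq⟩
      · exact ⟨i, Or.inl (by rw [haA, ← Subgroup.coe_pow, ← h])⟩
      · exact ⟨i, Or.inr (by rw [haA, hbB, ← Subgroup.coe_pow, ← Subgroup.coe_mul, ← h])⟩
    have e5 : orderOf a = 2 * m := by rw [haA, Subgroup.orderOf_coe, d5]
    have hab : a * b = b * a⁻¹ := eq_mul_inv_of_mul_eq (by rw [mul_assoc]; exact e1)
    have hba : b * a = a⁻¹ * b := eq_inv_mul_of_mul_eq e1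
    have hok : orderOf a = 2 ^ (k + 1) := by rw [e5, hm, pow_succ, mul_comm]
    by_cases hmem : g * a * g⁻¹ ∈ Subgroup.zpowers a
    · -- g centralizes a
      have hca : g * a * g⁻¹ = a :=
        Cfsg.Agent.Helper16.conj_eq_of_odd_of_mem_zpowers hok hgo hgm hmem
      have hcai : ∀ i : ℕ, g * a ^ i * g⁻¹ = a ^ i := by
        intro i; rw [← conj_pow, hca]
      have hcb : g * b * g⁻¹ = b := by
        obtain ⟨i, h | h⟩ := e4 _ (hconjQ b hbQ)
        · have : b = a ^ i := by
            have h' : g * b * g⁻¹ = g * a ^ i * g⁻¹ := by rw [hcai]; exact h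
            exact mul_left_cancel (mul_right_cancel h')
          rw [this]; exact hcai i
        · have hpow := Cfsg.Agent.Helper16.pow_eq_one_of_conj_eq_mul hgm h (hcai i)
          obtain ⟨j, hj⟩ := h2pow (a ^ i) (pow_mem haQ i)
          have h1 := Cfsg.Agent.Helper16.eq_one_of_odd_of_two_pow hgo hpow hj
          rw [h, h1, mul_one]
      rw [Subgroup.mem_centralizer_iff]
      intro q hq
      have hqc : g * q * g⁻¹ = q := by
        obtain ⟨i, rfl | rfl⟩ := e4 q hq
        · exact hcai i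
        · rw [hcm, hcb, hcai]
      calc q * g = (g * q * g⁻¹) * g := by rw [hqc]
        _ = g * q := by rw [inv_mul_cancel_right]
    · exfalso
      apply hsec
      obtain ⟨y, hydef⟩ : ∃ y : G, y = g * a * g⁻¹ := ⟨_, rfl⟩
      have hyQ : y ∈ Q := by rw [hydef]; exact hconjQ a haQ
      have hyna : y ∉ Subgroup.zpowers a := by rw [hydef]; exact hmem
      obtain ⟨i₀, hi₀⟩ : ∃ i : ℕ, y = b * a ^ i := by
        obtain ⟨i, h | h⟩ := e4 y hyQ
        · exact absurd (by rw [h]; exact pow_mem (Subgroup.mem_zpowers a) i) hyna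
        · exact ⟨i, h⟩
      have hs : SemiconjBy b a⁻¹ a := hab.symm
      have hsc : ∀ i : ℕ, a ^ i * b = b * (a⁻¹) ^ i := fun i => (hs.pow_right i).eq.symm
      have hyy : y * y = a ^ m := by
        rw [hi₀]
        calc b * a ^ i₀ * (b * a ^ i₀) = b * (a ^ i₀ * b) * a ^ i₀ := by simp only [mul_assoc]
          _ = b * b * ((a⁻¹) ^ i₀ * a ^ i₀) := by rw [hsc]; simp only [mul_assoc]
          _ = a ^ m := by rw [inv_pow, inv_mul_cancel, mul_one, e2]
      have hconj_sq : g * (a * a) * g⁻¹ = a ^ m := by rw [hcm, ← hydef, hyy]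
      have ha4 : a ^ 4 = 1 := by
        have h1 : g * (a * a) ^ 2 * g⁻¹ = 1 := by
          rw [← conj_pow, hconj_sq, ← pow_mul, mul_comm, ← e5, pow_orderOf_eq_one]
        have h2 : (a * a) ^ 2 = 1 := conj_eq_one_iff.1 h1
        rw [← h2]; simp only [pow_succ, pow_zero, one_mul, mul_assoc]
      have hm2 : m = 2 := by
        have hd : 2 * m ∣ 4 := by rw [← e5]; exact orderOf_dvd_of_pow_eq_one ha4
        have hmpos : 0 < m := by rw [hm]; positivity
        have hmle : 2 * m ≤ 4 := Nat.le_of_dvd (by norm_num) hd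
        by_contra hne
        have hm1 : m = 1 := by omega
        rw [hm1] at e5 e3 hconj_sq
        have haa : a * a = 1 := by
          have := pow_orderOf_eq_one a
          rw [e5] at this
          simpa [pow_two] using this
        rw [haa, mul_one, mul_inv_cancel] at hconj_sq
        exact e3 hconj_sq.symm
      rw [hm2] at e3 hyy
      have ha2 : a ^ 2 ≠ 1 := e3
      have hyy' : y * y = a * a := by rw [hyy, pow_two]
      have hainv : a⁻¹ = a ^ 3 := inv_eq_of_mul_eq_one_right (by rw [← pow_succ']; exact ha4)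
      have hya : y * a = a ^ 3 * y := by
        rw [← hainv, hi₀]
        calc b * a ^ i₀ * a = b * a * a ^ i₀ := by rw [mul_assoc, pow_mul_comm', ← mul_assoc]
          _ = a⁻¹ * (b * a ^ i₀) := by rw [hba, mul_assoc]
      have hay : a * y = y * a⁻¹ :=
        eq_mul_inv_of_mul_eq (by rw [mul_assoc, hya, ← hainv, mul_inv_cancel_left])
      have hy'Q : g * y * g⁻¹ ∈ Q := hconjQ y hyQ
      have hy'na : g * y * g⁻¹ ∉ Subgroup.zpowers a := by
        intro hmem2
        have h1 : g ^ 2 * a * (g ^ 2)⁻¹ ∈ Subgroup.zpowers a := by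
          have : g ^ 2 * a * (g ^ 2)⁻¹ = g * y * g⁻¹ := by
            rw [hydef]; simp only [pow_succ, pow_zero, one_mul, mul_inv_rev, mul_assoc]
          rw [this]; exact hmem2
        have h2 : g ^ 2 * a * (g ^ 2)⁻¹ = a :=
          Cfsg.Agent.Helper16.conj_eq_of_odd_of_mem_zpowers hok hgo
            (by rw [← pow_mul, mul_comm, pow_mul, hgm, one_pow]) h1
        have h3 : Commute (g ^ 2) a := by
          show g ^ 2 * a = a * g ^ 2
          calc g ^ 2 * a = (g ^ 2 * a * (g ^ 2)⁻¹) * g ^ 2 := by rw [inv_mul_cancel_right]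
            _ = a * g ^ 2 := by rw [h2]
        have h4 : Commute g a := Cfsg.Agent.Helper16.commute_of_sq_commute hgo hgm h3
        apply hyna
        rw [hydef, h4.eq, mul_inv_cancel_right]
        exact Subgroup.mem_zpowers a
      obtain ⟨t, ht⟩ : ∃ t : ℕ, g * y * g⁻¹ = y * a ^ t := by
        obtain ⟨j, h | h⟩ := e4 _ hy'Q
        · exact absurd (by rw [h]; exact pow_mem (Subgroup.mem_zpowers a) j) hy'na
        · refine ⟨3 * i₀ + j, ?_⟩
          rw [h, hi₀, mul_assoc, ← pow_add, show i₀ + (3 * i₀ + j) = 4 * i₀ + j by ring,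
            pow_add, pow_mul, ha4, one_pow, one_mul]
      have ht' : g * y * g⁻¹ = y * a ^ (t % 4) := by rw [ht, pow_eq_pow_mod t ha4]
      have hlt : t % 4 < 4 := Nat.mod_lt _ (by norm_num)
      have hyzp : g * y * g⁻¹ ∉ Subgroup.zpowers y := by
        intro hmem3
        obtain ⟨s, hs⟩ := Subgroup.mem_zpowers_iff.1 hmem3
        apply hyna
        have h1 : g * a ^ s * g⁻¹ = g * y * g⁻¹ := by rw [← hs, hydef, conj_zpow]
        have h2 : a ^ s = y := mul_left_cancel (mul_right_cancel h1)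
        rw [← h2]; exact Subgroup.zpow_mem _ (Subgroup.mem_zpowers a) s
      have hy2 : y ^ 2 = a ^ 2 := by rw [pow_two, pow_two]; exact hyy'
      have hg4 : g * a = y * g := by rw [hydef, inv_mul_cancel_right]
      obtain ⟨r, hr⟩ : ∃ r : ℕ, r = t % 4 := ⟨_, rfl⟩
      rw [← hr] at ht' hlt
      interval_cases r
      · exfalso; apply hyzp; rw [ht', pow_zero, mul_one]; exact Subgroup.mem_zpowers y
      · rw [pow_one, hya] at ht'
        have hyinv : y⁻¹ = g * a⁻¹ * g⁻¹ := by
          rw [hydef]; simp only [mul_inv_rev, inv_inv, mul_assoc]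
        have e7 : g * y⁻¹ * g⁻¹ = a⁻¹ * y⁻¹ := by
          have h1 : g * y⁻¹ * g⁻¹ = (g * y * g⁻¹)⁻¹ := by
            simp only [mul_inv_rev, inv_inv, mul_assoc]
          rw [h1, ht', ← hainv, mul_inv_rev, inv_inv]
          have h2 := congrArg Inv.inv hya
          rw [← hainv, mul_inv_rev, mul_inv_rev, inv_inv] at h2
          exact h2.symm
        refine Cfsg.Agent.Helper16.SL23.section_of_triple Q hQ a⁻¹ y⁻¹ g (inv_mem haQ)
          (inv_mem hyQ) ?_ ?_ ?_ ?_ ?_ ?_ ?_ hgo
        · rw [inv_pow, ha4, inv_one]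
        · rw [inv_pow]; exact fun h => ha2 (inv_eq_one.1 h)
        · rw [← mul_inv_rev, ← mul_inv_rev, hyy']
        · rw [inv_pow, ← hainv, inv_inv]
          have := congrArg Inv.inv hay
          rw [mul_inv_rev, mul_inv_rev, inv_inv] at this
          exact this
        · rw [hyinv, inv_mul_cancel_right]
        · have : g * y⁻¹ = (g * y⁻¹ * g⁻¹) * g := by rw [inv_mul_cancel_right]
          rw [this, e7]
        · rw [Subgroup.zpowers_inv, inv_mem_iff]; exact hyna
      · exfalso; apply hyzp; rw [ht', ← hy2, ← pow_succ']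
        exact pow_mem (Subgroup.mem_zpowers y) _
      · have h5 : g * y = a * y * g := by
          have : g * y = (g * y * g⁻¹) * g := by rw [inv_mul_cancel_right]
          rw [this, ht', ← hainv, ← hay]
        exact Cfsg.Agent.Helper16.SL23.section_of_triple Q hQ a y g haQ hyQ ha4 ha2 hyy' hya
          hg4 h5 hyna hgo


/-- A finite group with generalized quaternion Sylow 2-subgroups either has a normal 2-complement or has a section isomorphic to SL(2,3). -/
theorem result {G : Type*} [Group G] [Finite G] (T : Sylow 2 G) (n : ℕ) (hn : 1 ≤ n) (hT : Nonempty ((T : Subgroup G) ≃* QuaternionGroup (2 ^ n))) : Cfsg.HasNormalPComplement 2 G ∨ ∃ (H K : Subgroup G) (hK : (K.subgroupOf H).Normal), Nonempty ((H ⧸ K.subgroupOf H) ≃* Matrix.SpecialLinearGroup (Fin 2) (ZMod 3)) := by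
  classical
  haveI : Fact (Nat.Prime 2) := ⟨Nat.prime_two⟩
  by_contra hcon
  rw [not_or] at hcon
  obtain ⟨hnpc, hsec⟩ := hcon
  apply hnpc
  apply Cfsg.Agent.Helper1.npc_of_local
  intro Q hQ g hgN hcop
  obtain ⟨e⟩ := hT
  haveI : NeZero (2 ^ n) := ⟨by positivity⟩
  obtain ⟨T', hQT'⟩ := hQ.exists_le_sylow
  have hz : ∀ s t : G, s ∈ Q → t ∈ Q → orderOf s = 2 → orderOf t = 2 → s = t := by
    intro s t hs ht hso hto
    let e' : (T' : Subgroup G) ≃* QuaternionGroup (2 ^ n) := (Sylow.equiv T' T).trans e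
    have h1 : orderOf (e' ⟨s, hQT' hs⟩) = 2 := by
      rw [MulEquiv.orderOf_eq, ← Subgroup.orderOf_coe]; exact hso
    have h2 : orderOf (e' ⟨t, hQT' ht⟩) = 2 := by
      rw [MulEquiv.orderOf_eq, ← Subgroup.orderOf_coe]; exact hto
    have h3 := quat_invol_unique (2 ^ n) _ _ h1 h2
    have h4 := e'.injective h3
    exact congrArg Subtype.val h4
  exact core Q hQ hz g hgN (Nat.coprime_two_right.1 hcop) hsec

end Cfsg.Agent.S0106
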