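import Cfsg.Statements.S0118
import Cfsg.Agent.Helper21.ZJFull
import Cfsg.Agent.Helper10.SolvFus
import Cfsg.Agent.Helper23.Dk9
import Cfsg.Agent.Helper10.RelCtl2
import Mathlib
-- import your own Cfsg.Agent.* helpers here

set_option autoImplicit false
open Cfsg

namespace Cfsg.Agent.S0118

/-- Glauberman's ZJ-Theorem, in the case of groups with no section isomorphic to SL(2,p), p odd: conjugation of subsets of a Sylow p-subgroup P inside P is always induced from the normalizer of Z(J(P)). -/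
theorem result {G : Type*} [Group G] [Finite G] {p : ℕ} [Fact p.Prime] (hp : p ≠ 2) (hfree : ¬ ∃ (H K : Subgroup G) (hK : (K.subgroupOf H).Normal), Nonempty ((H ⧸ K.subgroupOf H) ≃* Matrix.SpecialLinearGroup (Fin 2) (ZMod p))) (P : Sylow p G) (A : Set G) (hA : A ⊆ (P : Set G)) (g : G) (hAg : (fun a => g⁻¹ * a * g) '' A ⊆ (P : Set G)) : ∃ n ∈ Subgroup.normalizer (Cfsg.centerThompsonOf p (P : Subgroup G) : Set G), ∀ a ∈ A, n⁻¹ * a * n = g⁻¹ * a * g := by
  have hst : ∀ (K R : Subgroup G) [(R.subgroupOf K).Normal],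
      Cfsg.IsNormalizerPStable p (↥K ⧸ R.subgroupOf K) := by
    intro K R hR
    apply Cfsg.Agent.Helper23.Dk.all_sections_stable hp
    intro Q _ _ hinv
    have hinv2 : Cfsg.Involves (Matrix.SpecialLinearGroup (Fin 2) (ZMod p)) G :=
      Cfsg.Agent.Helper10.involves_of_subgroup _ hinv
    obtain ⟨H, K', hK', hiso⟩ := hinv2
    exact hfree ⟨H, K', hK', hiso⟩
  have hq := Cfsg.Agent.Helper10.qstab_of_sections hst
  have hgA : Cfsg.Agent.Helper10.lc g⁻¹ A ⊆ ((P : Subgroup G) : Set G) := by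
    rintro _ ⟨a, ha, rfl⟩
    have h1 := hAg ⟨a, ha, rfl⟩
    simp only [inv_inv]
    exact h1
  obtain ⟨c, hc, hca⟩ := Cfsg.Agent.Helper10.csf_of_qstab' (Cfsg.Agent.Helper21.ZJFull.czW p)
    (Cfsg.Agent.Helper21.ZJFull.czW_char p)
    (fun X _ _ S hcons hX => by
      rw [Cfsg.Agent.Helper21.ZJFull.ind_czW]
      exact Cfsg.Agent.Helper21.ZJFull.ct_normal hp hcons S
        (Cfsg.Agent.Helper21.ZJFull.zjStable_of_qstab (hX X (Cfsg.Agent.Helper10.IsSec.refl X)) _))
    hq P A g⁻¹ hA hgA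
  rw [Cfsg.Agent.Helper21.ZJFull.ind_czW] at hc
  refine ⟨c⁻¹, inv_mem hc, fun a ha => ?_⟩
  have h2 := hca a ha
  rw [inv_inv] at h2 ⊢
  exact h2

end Cfsg.Agent.S0118
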