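import Cfsg.Statements.S0119
import Cfsg.Agent.Helper14.Frattini
import Cfsg.Agent.Helper14.Coprime
import Cfsg.Agent.Helper23.OddPGroup
import Cfsg.Agent.S0093
import Cfsg.Agent.S0012

set_option autoImplicit false
open Cfsg

namespace Cfsg.Agent.S0119

open Cfsg.Agent.Helper14


/-- If a p'-group A of automorphisms of a p-group G satisfies G = [G, A] and acts trivially on every characteristic abelian subgroup, then G is special with centre equal to the fixed points of A. -/
theorem result {G : Type*} [Group G] [Finite G] {p : ℕ} [Fact p.Prime] (hG : IsPGroup p G) (A : Subgroup (MulAut G)) (hA : Nat.Coprime (Nat.card A) p) (hGA : Subgroup.closure {x : G | ∃ g : G, ∃ a ∈ A, x = g⁻¹ * a g} = ⊤) (hchar : ∀ H : Subgroup G, H.Characteristic → IsMulCommutative H → ∀ a ∈ A, ∀ h ∈ H, a h = h) : Cfsg.IsSpecial p G ∧ (∀ g : G, (g ∈ Subgroup.center G ↔ ∀ a ∈ A, a g = g)) := by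
  classical
  have hp1 : p ≠ 1 := (Fact.out : p.Prime).one_lt.ne'
  -- characteristic abelian subgroups are central
  have hcen : ∀ H : Subgroup G, H.Characteristic → (∀ x ∈ H, ∀ y ∈ H, x * y = y * x) →
      H ≤ Subgroup.center G := by
    intro H hHc hHab n hn
    have hcomm : IsMulCommutative ↥H := ⟨⟨fun a b => Subtype.ext (hHab a a.2 b b.2)⟩⟩
    have hfix := hchar H hHc hcomm
    have hHn : H.Normal := Subgroup.normal_of_characteristic H
    have hle : (⊤ : Subgroup G) ≤ Subgroup.centralizer {n} := by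
      rw [← hGA, Subgroup.closure_le]
      rintro c ⟨g, a, ha, rfl⟩
      rw [SetLike.mem_coe, Subgroup.mem_centralizer_iff]
      intro n' hn'
      rw [Set.mem_singleton_iff] at hn'
      rw [hn']
      have h1 : a (g * n * g⁻¹) = g * n * g⁻¹ := hfix a ha _ (hHn.conj_mem n hn g)
      rw [map_mul, map_mul, map_inv, hfix a ha n hn] at h1
      calc n * (g⁻¹ * a g) = g⁻¹ * (g * n * g⁻¹) * a g := by group
        _ = g⁻¹ * (a g * n * (a g)⁻¹) * a g := by rw [h1]
        _ = g⁻¹ * a g * n := by group
    rw [Subgroup.mem_center_iff]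
    intro x
    have hx := hle (Subgroup.mem_top x)
    rw [Subgroup.mem_centralizer_iff] at hx
    exact (hx n rfl).symm
  -- class at most two, via a critical subgroup
  have hclass2 : commutator G ≤ Subgroup.center G := by
    obtain ⟨C, hCchar, -, hC2, hC3⟩ := Cfsg.Agent.S0093.result hG
    have hZC : C ⊓ Subgroup.centralizer (C : Set G) ≤ Subgroup.center G := by
      apply hcen _ inferInstance
      intro x hx y hy
      exact (Subgroup.mem_centralizer_iff.mp (Subgroup.mem_inf.mp hy).2) x
        (Subgroup.mem_inf.mp hx).1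
    have h1 : ⁅⁅C, (⊤ : Subgroup G)⁆, (⊤ : Subgroup G)⁆ = ⊥ := by
      rw [Subgroup.commutator_eq_bot_iff_le_centralizer, Subgroup.coe_top,
        Subgroup.centralizer_univ]
      exact hC2.trans hZC
    have h2 : ⁅⁅(⊤ : Subgroup G), C⁆, (⊤ : Subgroup G)⁆ = ⊥ := by
      rw [Subgroup.commutator_comm ⊤ C]
      exact h1
    have h3 : ⁅⁅(⊤ : Subgroup G), (⊤ : Subgroup G)⁆, C⁆ = ⊥ :=
      Subgroup.commutator_commutator_eq_bot_of_rotate h2 h1
    rw [Subgroup.commutator_eq_bot_iff_le_centralizer] at h3
    rw [commutator_def]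
    intro x hx
    have hxc := h3 hx
    exact hZC (Subgroup.mem_inf.mpr ⟨hC3 hxc, hxc⟩)
  -- fixed points of `A` lie in the commutator subgroup (norm map)
  have hAfin : Finite ↥A := by
    apply Nat.finite_of_card_ne_zero
    intro h0
    rw [h0, Nat.coprime_zero_left] at hA
    exact hp1 hA
  have hfixcomm : ∀ g : G, (∀ a ∈ A, a g = g) → g ∈ commutator G := by
    intro g hg
    have hfin := Fintype.ofFinite ↥A
    obtain ⟨N, hN⟩ : ∃ N : G →* Abelianization G,
        N = ∏ a : ↥A, (Abelianization.of).comp ((a : MulAut G) : G ≃* G).toMonoidHom := ⟨_, rfl⟩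
    have hNapp : ∀ x : G, N x = ∏ a : ↥A, Abelianization.of ((a : MulAut G) x) := by
      intro x
      rw [hN, MonoidHom.finsetProd_apply]
      rfl
    have hNinv : ∀ (b : MulAut G), b ∈ A → ∀ x : G, N (b x) = N x := by
      intro b hb x
      rw [hNapp, hNapp]
      have h1 := Equiv.prod_comp (Equiv.mulRight (⟨b, hb⟩ : ↥A))
        (fun a : ↥A => Abelianization.of ((a : MulAut G) x))
      rw [← h1]
      rfl
    have hNker : (⊤ : Subgroup G) ≤ N.ker := by
      rw [← hGA, Subgroup.closure_le]
      rintro c ⟨x, a, ha, rfl⟩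
      rw [SetLike.mem_coe, MonoidHom.mem_ker, map_mul, map_inv, hNinv a ha, inv_mul_cancel]
    have h1 : N g = 1 := MonoidHom.mem_ker.mp (hNker (Subgroup.mem_top g))
    have h2 : N g = Abelianization.of g ^ Fintype.card ↥A := by
      rw [hNapp]
      have h3 : ∀ a : ↥A, Abelianization.of ((a : MulAut G) g) = Abelianization.of g :=
        fun a => by rw [hg a a.2]
      rw [Finset.prod_congr rfl (fun a _ => h3 a), Finset.prod_const, Finset.card_univ]
    rw [h2] at h1
    obtain ⟨k, hk⟩ := hG g
    have h4 : Abelianization.of g ^ p ^ k = 1 := by rw [← map_pow, hk, map_one]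
    have hcop : Nat.Coprime (Fintype.card ↥A) p := by
      rw [← Nat.card_eq_fintype_card]
      exact hA
    have h5 := eq_one_of_pow_coprime (p := p) _ _ k hcop h1 h4
    rw [← Abelianization.ker_of G]
    exact MonoidHom.mem_ker.mpr h5
  have hcenfix : ∀ g ∈ Subgroup.center G, ∀ a ∈ A, a g = g := by
    intro g hg a ha
    exact hchar (Subgroup.center G) inferInstance inferInstance a ha g hg
  have hcomm_eq : commutator G = Subgroup.center G :=
    le_antisymm hclass2 (fun g hg => hfixcomm g (hcenfix g hg))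
  -- class two power identity
  have hE : ∀ x y : G, x⁻¹ * y⁻¹ * x * y ∈ Subgroup.center G := by
    intro x y
    apply hclass2
    rw [commutator_def]
    have h1 := Subgroup.commutator_mem_commutator (Subgroup.mem_top x⁻¹) (Subgroup.mem_top y⁻¹)
      (H₁ := (⊤ : Subgroup G)) (H₂ := (⊤ : Subgroup G))
    rwa [commutatorElement_def, inv_inv, inv_inv] at h1
  have hL1 : ∀ (x y : G) (j : ℕ), x ^ j * y = y * x ^ j * (x⁻¹ * y⁻¹ * x * y) ^ j := by
    intro x y j
    have hc : Commute (x⁻¹ * y⁻¹ * x * y) x :=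
      (Subgroup.mem_center_iff.mp (hE x y) x).symm
    exact Cfsg.Agent.Helper23.pow_mul_comm_central (a := y) (b := x) (e := x⁻¹ * y⁻¹ * x * y)
      (by group) hc j
  have hL2 : ∀ (x y : G) (j : ℕ), x ^ j ∈ Subgroup.center G → (x⁻¹ * y⁻¹ * x * y) ^ j = 1 := by
    intro x y j hx
    have h1 := hL1 x y j
    have h2 : x ^ j * y = y * x ^ j := (Subgroup.mem_center_iff.mp hx y).symm
    rw [h2] at h1
    have h3 : y * x ^ j * 1 = y * x ^ j * (x⁻¹ * y⁻¹ * x * y) ^ j := by rw [mul_one]; exact h1
    exact (mul_left_cancel h3).symm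
  have hL3 : ∀ (x y : G) (j : ℕ), (x⁻¹ * y⁻¹ * x * y) ^ j = 1 → x ^ j * y = y * x ^ j := by
    intro x y j h
    rw [hL1 x y j, h, mul_one]
  -- `p`-th powers are central
  have hpc : ∀ x : G, x ^ p ∈ Subgroup.center G := by
    have hex : ∃ e : ℕ, ∀ x : G, x ^ p ^ e ∈ Subgroup.center G := by
      obtain ⟨n, hn⟩ := IsPGroup.iff_card.mp hG
      refine ⟨n, fun x => ?_⟩
      rw [← hn, pow_card_eq_one']
      exact Subgroup.one_mem _
    have hle : Nat.find hex ≤ 1 := by
      by_contra hgt
      obtain ⟨k, hk⟩ : ∃ k, Nat.find hex = k + 1 := ⟨Nat.find hex - 1, by omega⟩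
      have hk1 : 1 ≤ k := by omega
      have hspec := Nat.find_spec hex
      rw [hk] at hspec
      obtain ⟨Y, hY⟩ : ∃ Y : Subgroup G, Y = Subgroup.closure {y : G | ∃ x : G, y = x ^ p ^ k} :=
        ⟨_, rfl⟩
      have hgen : ∀ s ∈ {y : G | ∃ x : G, y = x ^ p ^ k}, ∀ t ∈ {y : G | ∃ x : G, y = x ^ p ^ k},
          s * t = t * s := by
        rintro s ⟨x, rfl⟩ t ⟨x', rfl⟩
        apply hL3
        have h1 := hL1 x' x (p ^ k)
        have h3 := hL2 x' x (p ^ (k + 1)) (hspec x')
        obtain ⟨u, hu⟩ : ∃ u, u = x' ^ p ^ k := ⟨_, rfl⟩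
        obtain ⟨E, hEd⟩ : ∃ E, E = x'⁻¹ * x⁻¹ * x' * x := ⟨_, rfl⟩
        rw [← hu, ← hEd] at h1
        rw [← hEd] at h3
        rw [← hu]
        obtain ⟨w, hw⟩ : ∃ w, w = E ^ p ^ k := ⟨_, rfl⟩
        rw [← hw] at h1
        have h2 : x⁻¹ * u⁻¹ * x * u = w⁻¹ := by
          have h5 : w = (x * u)⁻¹ * (u * x) := by rw [h1]; group
          rw [h5]; group
        rw [h2, hw, inv_pow, ← pow_mul, ← pow_add]
        have h4 : k + k = (k + 1) + (k - 1) := by omega
        rw [h4, pow_add, pow_mul, h3, one_pow, inv_one]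
      have hYchar : Y.Characteristic := by
        rw [Subgroup.characteristic_iff_le_comap]
        intro φ
        rw [hY, Subgroup.closure_le]
        rintro y ⟨x, rfl⟩
        rw [SetLike.mem_coe, Subgroup.mem_comap]
        apply Subgroup.subset_closure
        exact ⟨φ x, by rw [MulEquiv.coe_toMonoidHom, map_pow]⟩
      have hYab : ∀ a ∈ Y, ∀ b ∈ Y, a * b = b * a := by
        have hS : ∀ s ∈ {y : G | ∃ x : G, y = x ^ p ^ k}, Y ≤ Subgroup.centralizer {s} := by
          intro s hs
          rw [hY, Subgroup.closure_le]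
          intro t ht
          rw [SetLike.mem_coe, Subgroup.mem_centralizer_iff]
          intro s' hs'
          rw [Set.mem_singleton_iff] at hs'
          rw [hs']
          exact hgen s hs t ht
        have hYY : Y ≤ Subgroup.centralizer (Y : Set G) := by
          conv_lhs => rw [hY]
          rw [Subgroup.closure_le]
          intro s hs
          rw [SetLike.mem_coe, Subgroup.mem_centralizer_iff]
          intro y hy
          have h1 := hS s hs hy
          rw [Subgroup.mem_centralizer_iff] at h1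
          exact (h1 s rfl).symm
        intro a ha b hb
        exact (Subgroup.mem_centralizer_iff.mp (hYY hb)) a ha
      have hYc := hcen Y hYchar hYab
      have hmin := Nat.find_min hex (m := k) (by omega)
      apply hmin
      intro x
      apply hYc
      rw [hY]
      exact Subgroup.subset_closure ⟨x, rfl⟩
    intro x
    have hspec := Nat.find_spec hex x
    rcases Nat.le_one_iff_eq_zero_or_eq_one.mp hle with h0 | h1
    · rw [h0, pow_zero, pow_one] at hspec
      exact Subgroup.pow_mem _ hspec p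
    · rw [h1, pow_one] at hspec
      exact hspec
  -- Frattini subgroup
  have hfr1 : frattini G ≤ Subgroup.center G := by
    have h1 := frattini_le_ker_of_elementary (p := p) (QuotientGroup.mk' (Subgroup.center G))
      (by
        intro a b
        rw [← map_mul, ← map_mul]
        apply (QuotientGroup.eq).mpr
        have h2 := hE b a
        have h3 : (a * b)⁻¹ * (b * a) = b⁻¹ * a⁻¹ * b * a := by group
        rw [h3]
        exact h2)
      (by
        intro a
        rw [← map_pow]
        exact (QuotientGroup.eq_one_iff _).mpr (hpc a))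
    rw [QuotientGroup.ker_mk'] at h1
    exact h1
  have hfr2 : Subgroup.center G ≤ frattini G := by
    rw [← hcomm_eq]
    exact (Cfsg.Agent.S0012.result p hG).1
  refine ⟨⟨hG, le_antisymm hfr1 hfr2, hcomm_eq⟩, fun g => ⟨fun hg a ha => hcenfix g hg a ha, fun hg => ?_⟩⟩
  exact hclass2 (hfixcomm g hg)

end Cfsg.Agent.S0119
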