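import Cfsg.Statements.S0182
import Cfsg.Agent.Helper21.CAChar
import Cfsg.Agent.Helper21.CNMax2
import Mathlib
-- import your own Cfsg.Agent.* helpers here

set_option autoImplicit false
open Cfsg

namespace Cfsg.Agent.S0182

open Cfsg.Agent.Helper21 Cfsg.Agent.Helper21.CNMax Cfsg.Agent.Helper21.CAChar
open scoped commutatorElement

universe u

/-- An abelian subgroup is nilpotent. -/
theorem nil_of_comm {G : Type*} [Group G] (C : Subgroup G)
    (h : ∀ a ∈ C, ∀ b ∈ C, a * b = b * a) : Group.IsNilpotent C := by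
  letI : CommGroup ↥C := { (inferInstance : Group ↥C) with
    mul_comm := fun a b => Subtype.ext (h a.1 a.2 b.1 b.2) }
  exact CommGroup.isNilpotent

/-- A non-solvable CA-group all of whose proper subgroups are solvable is simple. -/
theorem simple_of_min {G : Type*} [Group G] [Finite G]
    (hCA : ∀ x : G, x ≠ 1 → ∀ a ∈ Subgroup.centralizer ({x} : Set G),
      ∀ b ∈ Subgroup.centralizer ({x} : Set G), a * b = b * a)
    (hprop : ∀ K : Subgroup G, K ≠ ⊤ → Group.IsSolvable K) (hns : ¬ Group.IsSolvable G) :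
    IsSimpleGroup G := by
  classical
  have hnt : Nontrivial G := by
    by_contra h
    rw [not_nontrivial_iff_subsingleton] at h
    exact hns (isSolvable_of_comm (fun a b => Subsingleton.elim _ _))
  refine { toNontrivial := hnt, eq_bot_or_eq_top_of_normal := fun N hN => ?_ }
  by_contra hcon
  push Not at hcon
  obtain ⟨hN1, hN2⟩ := hcon
  haveI := hN
  have hNs : Group.IsSolvable N := hprop N hN2
  have hex : ∃ m, derivedSeries N m = ⊥ := (isSolvable_def N).mp hNs
  have hm₀ : derivedSeries N (Nat.find hex) = ⊥ := Nat.find_spec hex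
  have hm₀pos : Nat.find hex ≠ 0 := by
    intro h0
    rw [h0, derivedSeries_zero] at hm₀
    apply hN1
    rw [Subgroup.eq_bot_iff_forall]
    intro x hx
    have h1 : (⟨x, hx⟩ : N) ∈ (⊤ : Subgroup N) := Subgroup.mem_top _
    rw [hm₀, Subgroup.mem_bot] at h1
    exact congrArg Subtype.val h1
  obtain ⟨k, hk⟩ := Nat.exists_eq_succ_of_ne_zero hm₀pos
  have hB : derivedSeries N k ≠ ⊥ := Nat.find_min hex (by omega : k < Nat.find hex)
  haveI hA₀n : ((derivedSeries N k).map N.subtype).Normal :=
    ConjAct.normal_of_characteristic_of_normal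
  have hA₀ab : ∀ a ∈ (derivedSeries N k).map N.subtype,
      ∀ b ∈ (derivedSeries N k).map N.subtype, a * b = b * a := by
    rintro _ ⟨a, ha, rfl⟩ _ ⟨b, hb, rfl⟩
    have h1 : ⁅a, b⁆ ∈ derivedSeries N (k + 1) := by
      rw [derivedSeries_succ]
      exact Subgroup.commutator_mem_commutator ha hb
    rw [← Nat.succ_eq_add_one, ← hk, hm₀, Subgroup.mem_bot] at h1
    have h2 := commutatorElement_eq_one_iff_mul_comm.mp h1
    exact congrArg Subtype.val h2
  obtain ⟨x₀, hx₀B, hx₀1⟩ : ∃ x ∈ derivedSeries N k, x ≠ 1 := by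
    by_contra hno
    push Not at hno
    exact hB ((Subgroup.eq_bot_iff_forall _).mpr hno)
  have hxA₀ : (x₀ : G) ∈ (derivedSeries N k).map N.subtype := ⟨x₀, hx₀B, rfl⟩
  have hx1 : (x₀ : G) ≠ 1 := fun h => hx₀1 (Subtype.ext h)
  -- the centralizer of `A₀`
  set A₀ : Subgroup G := (derivedSeries N k).map N.subtype with hA₀
  set A : Subgroup G := Subgroup.centralizer (A₀ : Set G) with hA
  haveI hAn : A.Normal := Subgroup.normal_centralizer
  have hA₀A : A₀ ≤ A := by
    intro z hz
    rw [hA, Subgroup.mem_centralizer_iff]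
    intro w hw
    exact hA₀ab w hw z hz
  have hAx : A ≤ Subgroup.centralizer ({(x₀ : G)} : Set G) := by
    intro y hy
    rw [Subgroup.mem_centralizer_iff]
    intro w hw
    rw [Set.mem_singleton_iff] at hw
    rw [hw]
    exact (Subgroup.mem_centralizer_iff.mp hy) _ hxA₀
  have hAab : ∀ a ∈ A, ∀ b ∈ A, a * b = b * a := fun a ha b hb =>
    hCA _ hx1 a (hAx ha) b (hAx hb)
  have hcent : ∀ a ∈ A, a ≠ 1 → Subgroup.centralizer ({a} : Set G) ≤ A := by
    intro a ha ha1 y hy
    rw [hA, Subgroup.mem_centralizer_iff]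
    intro z hz
    have hzC : z ∈ Subgroup.centralizer ({a} : Set G) := by
      rw [Subgroup.mem_centralizer_iff]
      intro w hw
      rw [Set.mem_singleton_iff] at hw
      rw [hw]
      exact hAab a ha z (hA₀A hz)
    exact hCA a ha1 z hzC y hy
  have hAtop : A ≠ ⊤ := by
    intro htop
    apply hns
    apply isSolvable_of_comm
    intro a b
    exact hAab a (by rw [htop]; exact Subgroup.mem_top _) b (by rw [htop]; exact Subgroup.mem_top _)
  have hAbot : A ≠ ⊥ := by
    intro hbot
    have : (x₀ : G) ∈ A := hA₀A hxA₀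
    rw [hbot, Subgroup.mem_bot] at this
    exact hx1 this
  -- coprimality
  have hcop : Nat.Coprime (Nat.card A) A.index := by
    apply Nat.coprime_of_dvd
    intro p hp hpA hpI
    haveI : Fact p.Prime := ⟨hp⟩
    obtain ⟨a', ha'⟩ := exists_prime_orderOf_dvd_card' (G := A) p hpA
    have haord : orderOf (a' : G) = p := by rw [Subgroup.orderOf_coe]; exact ha'
    have ha1 : (a' : G) ≠ 1 := by
      intro h
      rw [h, orderOf_one] at haord
      exact hp.one_lt.ne haord
    have hpg : IsPGroup p (Subgroup.zpowers (a' : G)) := by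
      apply IsPGroup.of_card (n := 1)
      rw [Nat.card_zpowers, haord, pow_one]
    obtain ⟨P, hP⟩ := hpg.exists_le_sylow
    have haP : (a' : G) ∈ (P : Subgroup G) := hP (Subgroup.mem_zpowers _)
    haveI : Nontrivial (P : Subgroup G) :=
      ⟨⟨⟨(a' : G), haP⟩, 1, fun h => ha1 (congrArg Subtype.val h)⟩⟩
    haveI := P.isPGroup'.center_nontrivial
    obtain ⟨z, hz1⟩ := exists_ne (1 : Subgroup.center (P : Subgroup G))
    have hzc := z.2
    rw [Subgroup.mem_center_iff] at hzc
    have hzG1 : ((z : (P : Subgroup G)) : G) ≠ 1 := fun h => hz1 (Subtype.ext (Subtype.ext h))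
    -- `z` commutes with `a'`, hence lies in `A`
    have hzA : ((z : (P : Subgroup G)) : G) ∈ A := by
      apply hcent (a' : G) a'.2 ha1
      rw [Subgroup.mem_centralizer_iff]
      intro w hw
      rw [Set.mem_singleton_iff] at hw
      rw [hw]
      have h1 := hzc ⟨(a' : G), haP⟩
      exact congrArg Subtype.val h1
    have hPA : (P : Subgroup G) ≤ A := by
      intro y hy
      apply hcent _ hzA hzG1
      rw [Subgroup.mem_centralizer_iff]
      intro w hw
      rw [Set.mem_singleton_iff] at hw
      rw [hw]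
      have h1 := hzc ⟨y, hy⟩
      exact (congrArg Subtype.val h1).symm
    exact P.not_dvd_index (hpI.trans (Subgroup.index_dvd_of_le hPA))
  obtain ⟨E, hE⟩ := Subgroup.exists_right_complement'_of_coprime hcop
  have hEtop : E ≠ ⊤ := by
    intro h
    rw [h] at hE
    exact hAbot (Subgroup.isComplement'_top_right.mp hE)
  haveI hEs : Group.IsSolvable E := hprop E hEtop
  have hsurj : Function.Surjective ((QuotientGroup.mk' A).comp E.subtype) := by
    intro q
    obtain ⟨g, rfl⟩ := QuotientGroup.mk'_surjective A q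
    obtain ⟨⟨a, e⟩, hae⟩ := hE.2 g
    refine ⟨e, ?_⟩
    simp only [MonoidHom.coe_comp, Function.comp_apply, Subgroup.coe_subtype, QuotientGroup.mk'_apply]
    rw [← hae]
    symm
    rw [QuotientGroup.eq]
    simp only [mul_inv_rev]
    have h2 := hAn.conj_mem (a : G)⁻¹ (A.inv_mem a.2) (e : G)⁻¹
    simpa using h2
  haveI hQ : Group.IsSolvable (G ⧸ A) := solvable_of_surjective hsurj
  haveI hAs : Group.IsSolvable A :=
    isSolvable_of_comm (fun a b => Subtype.ext (hAab a.1 a.2 b.1 b.2))
  apply hns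
  refine solvable_of_ker_le_range A.subtype (QuotientGroup.mk' A) ?_
  rw [QuotientGroup.ker_mk', Subgroup.range_subtype]

theorem aux : ∀ n : ℕ, ∀ (G : Type u) [Group G] [Finite G], Nat.card G = n →
    Odd (Nat.card G) →
    (∀ x : G, x ≠ 1 → ∀ a ∈ Subgroup.centralizer ({x} : Set G),
      ∀ b ∈ Subgroup.centralizer ({x} : Set G), a * b = b * a) → Group.IsSolvable G := by
  intro n
  induction n using Nat.strong_induction_on with
  | _ n ih =>
  intro G _ _ hn hodd hCA
  classical
  by_contra hns
  have hprop : ∀ K : Subgroup G, K ≠ ⊤ → Group.IsSolvable K := by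
    intro K hK
    have hlt : Nat.card K < n := by
      rw [← hn]
      exact lt_of_le_of_ne (Subgroup.card_le_card_group K)
        (fun h => hK ((Subgroup.card_eq_iff_eq_top K).mp h))
    refine ih _ hlt K rfl (hodd.of_dvd_nat (Subgroup.card_subgroup_dvd_card K)) ?_
    intro x hx a ha b hb
    apply Subtype.ext
    have hx' : (x : G) ≠ 1 := fun h => hx (Subtype.ext h)
    refine hCA x hx' a ?_ b ?_
    · rw [Subgroup.mem_centralizer_iff] at ha ⊢
      intro y hy
      rw [Set.mem_singleton_iff] at hy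
      rw [hy]
      exact congrArg Subtype.val (ha x (Set.mem_singleton x))
    · rw [Subgroup.mem_centralizer_iff] at hb ⊢
      intro y hy
      rw [Set.mem_singleton_iff] at hy
      rw [hy]
      exact congrArg Subtype.val (hb x (Set.mem_singleton x))
  have hsimple : IsSimpleGroup G := simple_of_min hCA hprop hns
  have hnc : ¬ IsMulCommutative G := by
    intro hc
    exact hns (isSolvable_of_comm (fun a b => hc.is_comm.comm a b))
  have hG : Cfsg.IsMinSimpleOddOrder G := ⟨hodd, hsimple, hnc, hprop⟩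
  have hCN : Cfsg.IsCNGroup G := fun g hg => nil_of_comm _ (hCA g hg)
  -- maximal nilpotent subgroups
  let MN : Subgroup G → Prop := fun M =>
    Group.IsNilpotent M ∧ ∀ L : Subgroup G, Group.IsNilpotent L → M ≤ L → L = M
  have hMne : ∀ M, MN M → M ≠ ⊥ := fun M hM => max_nil_ne_bot hG M hM.2
  have hMab : ∀ M, MN M → ∀ a ∈ M, ∀ b ∈ M, a * b = b * a := by
    intro M hM
    obtain ⟨k, hk1, hk2⟩ := exists_last_lcs M hM.1 (hMne M hM)
    have hcent : ∀ γ ∈ M.lowerCentralSeries k, ∀ a ∈ M, γ * a = a * γ := by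
      intro γ hγ a ha
      have h1 : ⁅γ, a⁆ ∈ M.lowerCentralSeries (k + 1) := by
        rw [Subgroup.lowerCentralSeries_succ]
        exact Subgroup.commutator_mem_commutator hγ ha
      rw [hk2, Subgroup.mem_bot] at h1
      exact commutatorElement_eq_one_iff_mul_comm.mp h1
    obtain ⟨z, hz, hz1⟩ : ∃ z ∈ M.lowerCentralSeries k, z ≠ 1 := by
      by_contra hno
      push Not at hno
      exact hk1 ((Subgroup.eq_bot_iff_forall _).mpr hno)
    intro a ha b hb
    refine hCA z hz1 a ?_ b ?_
    · rw [Subgroup.mem_centralizer_iff]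
      intro w hw
      rw [Set.mem_singleton_iff] at hw
      rw [hw]
      exact hcent z hz a ha
    · rw [Subgroup.mem_centralizer_iff]
      intro w hw
      rw [Set.mem_singleton_iff] at hw
      rw [hw]
      exact hcent z hz b hb
  have hMcc : ∀ M, MN M → ∀ k ∈ M, k ≠ 1 → Subgroup.centralizer ({k} : Set G) ≤ M := by
    intro M hM k hk hk1
    have h1 : M ≤ Subgroup.centralizer ({k} : Set G) := by
      intro y hy
      rw [Subgroup.mem_centralizer_iff]
      intro w hw
      rw [Set.mem_singleton_iff] at hw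
      rw [hw]
      exact hMab M hM k hk y hy
    have h2 := hM.2 _ (nil_of_comm _ (hCA k hk1)) h1
    exact le_of_eq h2
  have hMd : ∀ M, MN M → TIData M := by
    intro M hM
    refine ⟨?_, hMcc M hM, hMab M hM, hMne M hM⟩
    intro g hg k hk hgk
    by_contra hk1
    apply hg
    have hgk1 : g * k * g⁻¹ ≠ 1 := by
      intro h
      apply hk1
      have : k = g⁻¹ * (g * k * g⁻¹) * g := by group
      rw [this, h]; group
    rw [Subgroup.mem_normalizer_iff]
    intro n
    constructor
    · intro hn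
      apply hMcc M hM _ hgk hgk1
      rw [Subgroup.mem_centralizer_iff]
      intro w hw
      rw [Set.mem_singleton_iff] at hw
      rw [hw]
      have h1 := hMab M hM k hk n hn
      calc g * k * g⁻¹ * (g * n * g⁻¹) = g * (k * n) * g⁻¹ := by group
        _ = g * (n * k) * g⁻¹ := by rw [h1]
        _ = g * n * g⁻¹ * (g * k * g⁻¹) := by group
    · intro hn
      apply hMcc M hM k hk hk1
      rw [Subgroup.mem_centralizer_iff]
      intro w hw
      rw [Set.mem_singleton_iff] at hw
      rw [hw]
      have h1 := hMab M hM _ hgk _ hn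
      have h2 : k * n = g⁻¹ * (g * k * g⁻¹ * (g * n * g⁻¹)) * g := by group
      have h3 : n * k = g⁻¹ * (g * n * g⁻¹ * (g * k * g⁻¹)) * g := by group
      rw [h2, h3, h1]
  have hMlt : ∀ M, MN M → M < Nz M := by
    intro M hM
    obtain ⟨E, hFD⟩ := max_nil_fd hG hCN M hM.1 hM.2
    obtain ⟨-, hEL, -, -, -, hE1, hFE, -⟩ := hFD
    refine lt_of_le_of_ne (le_nz M) ?_
    intro heq
    apply hE1
    have h1 : E ≤ M := by rw [heq]; exact hEL
    rw [← hFE]
    exact (inf_eq_right.mpr h1).symm
  -- the index type: orders of maximal nilpotent subgroups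
  let ι : Type := {m : Fin (Nat.card G + 1) // ∃ M : Subgroup G, MN M ∧ Nat.card M = m.val}
  let H : ι → Subgroup G := fun i => Classical.choose i.2
  have hH : ∀ i : ι, MN (H i) ∧ Nat.card (H i) = i.1.val := fun i => Classical.choose_spec i.2
  have hmk : ∀ M, MN M → ∃ i : ι, Nat.card (H i) = Nat.card M := by
    intro M hM
    have hlt : Nat.card M < Nat.card G + 1 :=
      Nat.lt_succ_of_le (Subgroup.card_le_card_group M)
    exact ⟨⟨⟨Nat.card M, hlt⟩, M, hM, rfl⟩, (hH _).2⟩
  haveI : Fintype G := Fintype.ofFinite G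
  haveI : Fintype ι := Fintype.ofFinite ι
  haveI : ∀ i, Fintype (Nz (H i)) := fun i => Fintype.ofFinite _
  haveI : Nonempty ι := by
    obtain ⟨M, -, hM1, hM2⟩ := exists_max_nil (⊥ : Subgroup G)
      (nil_of_comm _ (fun a ha b hb => by
        rw [Subgroup.mem_bot] at ha hb
        rw [ha, hb]))
    obtain ⟨i, -⟩ := hmk M ⟨hM1, hM2⟩
    exact ⟨i⟩
  have hcard2 : ∀ M, MN M → 1 < Nat.card M := fun M hM =>
    (Subgroup.one_lt_card_iff_ne_bot M).mpr (hMne M hM)
  refine no_partition H hodd (fun i => hMd _ (hH i).1) (fun i => hMlt _ (hH i).1) ?_ ?_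
  · intro i k hik
    rcases conj_or_coprime hG hCN (H i) (H k) (hH i).1.1 (hH i).1.2 (hH k).1.1 (hH k).1.2 with
      ⟨g, hg⟩ | hc
    · exfalso
      apply hik
      have h1 : Nat.card (H k) = Nat.card (H i) := by
        rw [hg]
        exact Nat.card_congr
          ((H i).equivMapOfInjective _ (MulAut.conj g).injective).symm.toEquiv
      apply Subtype.ext
      apply Fin.ext
      rw [← (hH i).2, ← (hH k).2, h1]
    · exact hc
  · intro y hy
    have hzn : Group.IsNilpotent (Subgroup.zpowers y) := by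
      apply nil_of_comm
      intro a ha b hb
      obtain ⟨m, rfl⟩ := Subgroup.mem_zpowers_iff.mp ha
      obtain ⟨m', rfl⟩ := Subgroup.mem_zpowers_iff.mp hb
      exact (Commute.zpow_zpow_self y m m').eq
    obtain ⟨M, hyM, hM1, hM2⟩ := exists_max_nil (Subgroup.zpowers y) hzn
    obtain ⟨i, hi⟩ := hmk M ⟨hM1, hM2⟩
    refine ⟨i, ?_⟩
    rcases conj_or_coprime hG hCN (H i) M (hH i).1.1 (hH i).1.2 hM1 hM2 with ⟨g, hg⟩ | hc
    · have hyM' : y ∈ M := hyM (Subgroup.mem_zpowers y)
      rw [hg] at hyM'
      obtain ⟨h, hh, hhy⟩ := hyM'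
      refine ⟨g⁻¹, ?_⟩
      have e : g⁻¹ * y * g⁻¹⁻¹ = h := by
        rw [← hhy]
        simp only [MulEquiv.coe_toMonoidHom, MulAut.conj_apply]
        group
      rw [e]
      exact hh
    · exfalso
      rw [hi] at hc
      have h1 := (Nat.coprime_self _).mp hc
      have h2 := hcard2 M ⟨hM1, hM2⟩
      omega


/-- The CA-Theorem for odd order: a finite group of odd order in which every non-identity element has an abelian centralizer is solvable. -/
theorem result {G : Type*} [Group G] [Finite G] (hodd : Odd (Nat.card G)) (hCA : ∀ x : G, x ≠ 1 → ∀ a ∈ Subgroup.centralizer ({x} : Set G), ∀ b ∈ Subgroup.centralizer ({x} : Set G), a * b = b * a) : Group.IsSolvable G := by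
  exact aux _ G rfl hodd hCA

end Cfsg.Agent.S0182
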