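import Cfsg.Statements.S0214
import Cfsg.Agent.Helper9.StrEmb2

set_option autoImplicit false
open Cfsg

namespace Cfsg.Agent.S0214

open Cfsg.Agent.Helper9

/-- Let H be a proper subgroup of the finite group G and P a nontrivial Sylow 2-subgroup of H. Then H is strongly embedded in G if and only if N_G(X) ≤ H for every nontrivial subgroup X of P. -/
theorem result {G : Type*} [Group G] [Finite G] (H : Subgroup G) (hH : H ≠ ⊤) (P : Sylow 2 ↥H) (hP : (P : Subgroup ↥H) ≠ ⊥) : Cfsg.IsStronglyEmbedded H ↔ (∀ X : Subgroup ↥H, X ≤ (P : Subgroup ↥H) → X ≠ ⊥ → Subgroup.normalizer ((X.map H.subtype : Subgroup G) : Set G) ≤ H) := by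
  have : Fact (Nat.Prime 2) := ⟨Nat.prime_two⟩
  constructor
  · rintro ⟨_, _, hodd⟩ X hXP hX g hg
    by_contra hgH
    have ho := hodd g hgH
    have hX2 : IsPGroup 2 X := P.isPGroup'.to_le hXP
    have hdvd : 2 ∣ Nat.card X := by
      rcases hX2.card_eq_or_dvd with h | h
      · exact absurd (Subgroup.card_eq_one.mp h) hX
      · exact h
    obtain ⟨x, hx⟩ := exists_prime_orderOf_dvd_card' 2 hdvd
    have hx2 : orderOf ((x : H) : G) = 2 := by
      rw [Subgroup.orderOf_coe, Subgroup.orderOf_coe]; exact hx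
    have hxX' : ((x : H) : G) ∈ X.map H.subtype := ⟨x, x.2, rfl⟩
    have hgx : g⁻¹ * ((x : H) : G) * g⁻¹⁻¹ ∈ X.map H.subtype :=
      (Subgroup.mem_normalizer_iff.mp (Subgroup.inv_mem _ hg) _).mp hxX'
    have hgxH : g⁻¹ * ((x : H) : G) * g⁻¹⁻¹ ∈ H := by
      obtain ⟨y, _, hy⟩ := hgx
      rw [← hy]; exact y.2
    have hmem : ((x : H) : G) ∈ H ⊓ H.map (MulAut.conj g).toMonoidHom := by
      refine ⟨(x : H).2, ⟨g⁻¹ * ((x : H) : G) * g⁻¹⁻¹, hgxH, ?_⟩⟩
      simp [MulAut.conj_apply]
      group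
    have hd : orderOf ((x : H) : G) ∣ Nat.card ↥(H ⊓ H.map (MulAut.conj g).toMonoidHom) := by
      have := orderOf_dvd_natCard (⟨_, hmem⟩ : ↥(H ⊓ H.map (MulAut.conj g).toMonoidHom))
      rwa [Subgroup.orderOf_mk] at this
    rw [hx2] at hd
    exact (Nat.not_even_iff_odd.mpr ho) (even_iff_two_dvd.mpr hd)
  · intro hX
    have hP2 : IsPGroup 2 (P : Subgroup ↥H) := P.isPGroup'
    -- centralizers of involutions of P
    have hC : ∀ x : G, x ∈ (P : Subgroup ↥H).map H.subtype → orderOf x = 2 →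
        Subgroup.centralizer ({x} : Set G) ≤ H := by
      rintro _ ⟨x, hxP, rfl⟩ hx2 c hc
      have hx1 : x ≠ 1 := by
        rintro rfl
        simp at hx2
      have hZ : Subgroup.zpowers x ≤ (P : Subgroup ↥H) := by
        rw [Subgroup.zpowers_le]; exact hxP
      have hZne : Subgroup.zpowers x ≠ ⊥ := by
        intro h
        exact hx1 (Subgroup.zpowers_eq_bot.mp h)
      apply hX _ hZ hZne
      apply mem_normalizer_of_conj_le
      rintro _ ⟨y, hy, rfl⟩
      obtain ⟨k, rfl⟩ := Subgroup.mem_zpowers_iff.mp hy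
      refine ⟨x ^ k, Subgroup.zpow_mem_zpowers x k, ?_⟩
      have hcx : ((x : H) : G) * c = c * ((x : H) : G) :=
        Subgroup.mem_centralizer_iff.mp hc _ rfl
      have hcomm : Commute c ((x : H) : G) := hcx.symm
      have : c * ((x : H) : G) ^ k * c⁻¹ = ((x : H) : G) ^ k := by
        have := (hcomm.zpow_right k).eq
        rw [this]; group
      simp [this]
    have hN : Subgroup.normalizer ((((P : Subgroup ↥H).map H.subtype : Subgroup G)) : Set G) ≤ H :=
      hX _ le_rfl hP
    have hfus := se_fusion_of_cent H P hC hN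
    refine ⟨hH, ?_, ?_⟩
    · have hdvd : 2 ∣ Nat.card (P : Subgroup ↥H) := by
        rcases hP2.card_eq_or_dvd with h | h
        · exact absurd (Subgroup.card_eq_one.mp h) hP
        · exact h
      exact even_iff_two_dvd.mpr (dvd_trans hdvd (Subgroup.card_subgroup_dvd_card _))
    · intro g hg
      by_contra hno
      rw [Nat.not_odd_iff_even, even_iff_two_dvd] at hno
      obtain ⟨t, ht⟩ := exists_prime_orderOf_dvd_card' 2 hno
      obtain ⟨t, htmem⟩ := t
      rw [Subgroup.orderOf_mk] at ht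
      obtain ⟨h, hh, hht⟩ := htmem.2
      have hht' : g * h * g⁻¹ = t := by simpa [MulAut.conj_apply] using hht
      have hh2 : orderOf h = 2 := by
        rw [← ht, ← hht']; exact ((MulAut.conj g).orderOf_eq h).symm
      exact hg (hfus h hh hh2 g (by rw [hht']; exact htmem.1))

end Cfsg.Agent.S0214
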