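import Cfsg.Statements.S0223
import Cfsg.Agent.Helper2.Inv

set_option autoImplicit false
open Cfsg

namespace Cfsg.Agent.S0223

/-- Let H be a proper subgroup of even order of the finite group G. Then H is strongly embedded if and only if (i) C_G(t) ≤ H for every involution t of H and (ii) H controls fusion of its involutions: involutions of H conjugate in G are conjugate in H. -/
theorem result {G : Type*} [Group G] [Finite G] (H : Subgroup G) (hH : H ≠ ⊤) (heven : Even (Nat.card H)) : Cfsg.IsStronglyEmbedded H ↔ ((∀ t ∈ H, orderOf t = 2 → Subgroup.centralizer ({t} : Set G) ≤ H) ∧ (∀ t ∈ H, ∀ s ∈ H, orderOf t = 2 → orderOf s = 2 → IsConj t s → ∃ h ∈ H, h * t * h⁻¹ = s)) := by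
  rw [Helper2.stronglyEmbedded_iff]
  constructor
  · rintro ⟨_, _, hse⟩
    constructor
    · intro t ht h2 c hc
      by_contra hcH
      apply hse c hcH t ht h2
      have e : c⁻¹ * t * c = t := by
        rw [Helper2.mem_centralizer_singleton] at hc
        rw [mul_assoc, hc, inv_mul_cancel_left]
      rw [e]; exact ht
    · intro t ht s hs h2t h2s hconj
      obtain ⟨c, hc⟩ := isConj_iff.1 hconj
      by_cases hcH : c ∈ H
      · exact ⟨c, hcH, hc⟩
      · exfalso
        have hc' : c⁻¹ ∉ H := fun h => hcH (by simpa using H.inv_mem h)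
        apply hse c⁻¹ hc' t ht h2t
        rw [inv_inv, hc]; exact hs
  · rintro ⟨hcen, hfus⟩
    refine ⟨hH, heven, ?_⟩
    intro g hg t ht h2 hcon
    have h2s : orderOf (g⁻¹ * t * g) = 2 := by rw [Helper2.orderOf_conj_eq', h2]
    have hconj : IsConj t (g⁻¹ * t * g) := isConj_iff.2 ⟨g⁻¹, by rw [inv_inv]⟩
    obtain ⟨h, hh, hht⟩ := hfus t ht _ hcon h2 h2s hconj
    have hgh : g * h ∈ Subgroup.centralizer ({t} : Set G) := by
      rw [Helper2.mem_centralizer_singleton]
      have : t = g * (h * t * h⁻¹) * g⁻¹ := by rw [hht]; group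
      calc t * (g * h) = g * (h * t * h⁻¹) * g⁻¹ * (g * h) := by rw [← this]
        _ = g * h * t := by group
    have h3 := hcen t ht h2 hgh
    apply hg
    have : g = (g * h) * h⁻¹ := by group
    rw [this]
    exact H.mul_mem h3 (H.inv_mem hh)

end Cfsg.Agent.S0223
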