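import Cfsg.Statements.S0224
import Cfsg.Agent.Helper2.Inv

set_option autoImplicit false
open Cfsg

namespace Cfsg.Agent.S0224

/-- Let H be a proper subgroup of even order of the finite group G. Then H is strongly embedded if and only if each involution of H fixes exactly one point (namely the coset H) in the action of G on the cosets of H. -/
theorem result {G : Type*} [Group G] [Finite G] (H : Subgroup G) (hH : H ≠ ⊤) (heven : Even (Nat.card H)) : Cfsg.IsStronglyEmbedded H ↔ ∀ t ∈ H, orderOf t = 2 → Nat.card {c : G ⧸ H // t • c = c} = 1 := by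
  rw [Helper2.stronglyEmbedded_iff]
  have hfix : ∀ (t g : G), t • (QuotientGroup.mk g : G ⧸ H) = QuotientGroup.mk g ↔ g⁻¹ * t * g ∈ H := by
    intro t g
    rw [MulAction.Quotient.smul_mk, smul_eq_mul, QuotientGroup.eq]
    have e : (t * g)⁻¹ * g = (g⁻¹ * t * g)⁻¹ := by group
    rw [e, inv_mem_iff]
  constructor
  · rintro ⟨_, _, hse⟩ t ht h2
    rw [Nat.card_eq_one_iff_unique]
    constructor
    · constructor
      rintro ⟨c, hc⟩ ⟨d, hd⟩
      apply Subtype.ext
      show c = d
      induction c using QuotientGroup.induction_on with | H x => ?_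
      induction d using QuotientGroup.induction_on with | H y => ?_
      have hx : x ∈ H := by
        by_contra hx
        exact hse x hx t ht h2 ((hfix t x).1 hc)
      have hy : y ∈ H := by
        by_contra hy
        exact hse y hy t ht h2 ((hfix t y).1 hd)
      rw [QuotientGroup.eq]
      exact H.mul_mem (H.inv_mem hx) hy
    · refine ⟨⟨QuotientGroup.mk 1, ?_⟩⟩
      rw [hfix]
      simpa using ht
  · intro h
    refine ⟨hH, heven, ?_⟩
    intro g hg t ht h2 hcon
    have h1 := h t ht h2
    rw [Nat.card_eq_one_iff_unique] at h1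
    obtain ⟨hsub, _⟩ := h1
    have hf1 : t • (QuotientGroup.mk 1 : G ⧸ H) = QuotientGroup.mk 1 := by
      rw [hfix]; simpa using ht
    have hfg : t • (QuotientGroup.mk g : G ⧸ H) = QuotientGroup.mk g := (hfix t g).2 hcon
    have heq := hsub.elim ⟨QuotientGroup.mk 1, hf1⟩ ⟨QuotientGroup.mk g, hfg⟩
    have heq' : (QuotientGroup.mk 1 : G ⧸ H) = QuotientGroup.mk g := congrArg Subtype.val heq
    rw [QuotientGroup.eq] at heq'
    apply hg
    simpa using heq'

end Cfsg.Agent.S0224
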