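import Cfsg.Statements.S0285
import Mathlib
import Cfsg.Agent.S0284
-- import your own Cfsg.Agent.* helpers here

set_option autoImplicit false
open Cfsg

namespace Cfsg.Agent.S0285


theorem final0 {q n N : ℕ} (hq : 2 ≤ q)
    (h : (q : ℤ) * N = (q : ℤ) ^ (2 * n) + (-(q : ℤ)) ^ n * (q - 1)) :
    N = (if Even n then (q ^ n - 1) * (q ^ (n - 1) + 1) else (q ^ n + 1) * (q ^ (n - 1) - 1))
      + 1 := by
  have hq0 : (q : ℤ) ≠ 0 := by exact_mod_cast (show q ≠ 0 by omega)
  have h1 : 1 ≤ q ^ n := Nat.one_le_pow _ _ (by omega)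
  rcases Nat.eq_zero_or_pos n with rfl | hn0
  · have h' : (q : ℤ) * N = (q : ℤ) * 1 := by
      rw [h]
      ring
    have hN : N = 1 := by exact_mod_cast mul_left_cancel₀ hq0 h'
    subst hN
    simp
  · obtain ⟨m, rfl⟩ : ∃ m, n = m + 1 := ⟨n - 1, by omega⟩
    have h1' : 1 ≤ q ^ m := Nat.one_le_pow _ _ (by omega)
    simp only [Nat.add_sub_cancel]
    split_ifs with he
    · rw [he.neg_pow] at h
      apply Nat.cast_injective (R := ℤ)
      apply mul_left_cancel₀ hq0
      rw [h]
      push_cast [Nat.cast_sub h1]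
      ring
    · rw [(Nat.not_even_iff_odd.1 he).neg_pow] at h
      apply Nat.cast_injective (R := ℤ)
      apply mul_left_cancel₀ hq0
      rw [h]
      push_cast [Nat.cast_sub h1']
      ring


/-- The standard Hermitian form on F^n, |F| = q^2, has exactly (q^n - (-1)^n)(q^(n-1) + (-1)^n) non-zero isotropic vectors; counting the zero vector too: -/
theorem result {F : Type*} [Field F] [Fintype F] {q : ℕ} (hF : Fintype.card F = q ^ 2) (n : ℕ) : Nat.card {v : Fin n → F // Cfsg.hermForm n F q v v = 0} = (if Even n then (q ^ n - 1) * (q ^ (n - 1) + 1) else (q ^ n + 1) * (q ^ (n - 1) - 1)) + 1 := by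
  exact final0 (S0284.q_two_le hF) (S0284.closed0 hF n)


end Cfsg.Agent.S0285
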