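import Cfsg.Statements.S0341
import Cfsg.Agent.Lead.Artin2
import Cfsg.Agent.Lead.Frobenius
import Cfsg.Agent.Helper1.Frob
import Cfsg.Agent.Helper21.Thompson
import Cfsg.Agent.S0040
import Cfsg.Agent.S0016
import Mathlib

set_option autoImplicit false
set_option linter.style.haveILetI false
open Cfsg
open scoped IsMulCommutative

namespace Cfsg.Agent.S0341

/-- conjugation on a normal subgroup, as an additive endomorphism -/
noncomputable def cj {G : Type*} [Group G] (N : Subgroup G) [N.Normal] (g : G) :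
    AddMonoid.End (Additive N) :=
  MonoidHom.toAdditive ((MulAut.conjNormal g : MulAut N).toMonoidHom)

theorem cj_val {G : Type*} [Group G] (N : Subgroup G) [N.Normal] (g : G) (v : Additive N) :
    ((Additive.toMul (cj N g v) : N) : G) = g * ((Additive.toMul v : N) : G) * g⁻¹ :=
  MulAut.conjNormal_apply g (Additive.toMul v)

theorem val_inj {G : Type*} [Group G] (N : Subgroup G) (v w : Additive N)
    (h : ((Additive.toMul v : N) : G) = ((Additive.toMul w : N) : G)) : v = w :=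
  Additive.toMul.injective (Subtype.ext h)

theorem cj_mul {G : Type*} [Group G] (N : Subgroup G) [N.Normal] (g₁ g₂ : G) :
    cj N (g₁ * g₂) = cj N g₁ * cj N g₂ := by
  refine DFunLike.ext _ _ (fun v => val_inj N _ _ ?_)
  show _ = ((Additive.toMul (cj N g₁ (cj N g₂ v)) : N) : G)
  rw [cj_val, cj_val, cj_val]
  group

theorem cj_one {G : Type*} [Group G] (N : Subgroup G) [N.Normal] : cj N (1 : G) = 1 := by
  refine DFunLike.ext _ _ (fun v => val_inj N _ _ ?_)
  rw [cj_val]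
  show (1 : G) * _ * (1 : G)⁻¹ = ((Additive.toMul v : N) : G)
  group

theorem cj_pow {G : Type*} [Group G] (N : Subgroup G) [N.Normal] (g : G) (i : ℕ) :
    cj N (g ^ i) = cj N g ^ i := by
  induction i with
  | zero => rw [pow_zero, pow_zero, cj_one]
  | succ i ih => rw [pow_succ, pow_succ, cj_mul, ih]

theorem result {G Ω : Type*} [Group G]
    [MulAction G Ω] [Fintype Ω] [FaithfulSMul G Ω] (h2 : MulAction.IsMultiplyPretransitive G Ω 2)
    (h3 : ∀ g : G, ∀ a b c : Ω, a ≠ b → b ≠ c → a ≠ c → g • a = a → g • b = b → g • c = c → g = 1)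
    (hfix : ∃ g : G, g ≠ 1 ∧ ∃ a b : Ω, a ≠ b ∧ g • a = a ∧ g • b = b)
    (N : Subgroup G) [N.Normal] (hNt : MulAction.IsPretransitive N Ω)
    (hNr : ∀ a : Ω, MulAction.stabilizer N a = ⊥) :
    ∃ p : ℕ, p.Prime ∧ Fintype.card Ω = 2 ^ p := by
  classical
  have hNn : N.Normal := inferInstance
  have hfa : ∀ g : G, (∀ y : Ω, g • y = y) → g = 1 := fun g hg =>
    FaithfulSMul.eq_of_smul_eq_smul (α := Ω) (fun y => by rw [hg y, one_smul])
  haveI : Finite G := by
    apply Finite.of_injective (fun g : G => fun y : Ω => g • y)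
    intro g g' h
    exact FaithfulSMul.eq_of_smul_eq_smul (α := Ω) (fun y => congrFun h y)
  have h2' : ∀ a b c d : Ω, a ≠ b → c ≠ d → ∃ g : G, g • a = c ∧ g • b = d :=
    fun a b c d hab hcd => MulAction.is_two_pretransitive_iff.1 h2 hab hcd
  obtain ⟨g₀, hg₀1, a, b, hab, hg₀a, hg₀b⟩ := hfix
  obtain ⟨c₀, hc₀⟩ : ∃ c₀ : Ω, g₀ • c₀ ≠ c₀ := by
    by_contra hcon
    push_neg at hcon
    exact hg₀1 (hfa g₀ hcon)
  have hc₀a : c₀ ≠ a := fun h => hc₀ (by rw [h]; exact hg₀a)
  have hc₀b : c₀ ≠ b := fun h => hc₀ (by rw [h]; exact hg₀b)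
  -- regularity of N
  have hNtr : ∀ y z : Ω, ∃ n ∈ N, n • y = z := by
    intro y z
    obtain ⟨n, hn⟩ := hNt.exists_smul_eq y z
    exact ⟨(n : G), n.2, hn⟩
  have hNfree : ∀ n ∈ N, ∀ y : Ω, n • y = y → n = 1 := by
    intro n hn y hy
    have h0 : (⟨n, hn⟩ : N) ∈ MulAction.stabilizer N y := MulAction.mem_stabilizer_iff.2 hy
    rw [hNr y, Subgroup.mem_bot] at h0
    exact (Subgroup.mk_eq_one _).1 h0
  have hNeq : ∀ n ∈ N, ∀ n' ∈ N, ∀ y : Ω, n • y = n' • y → n = n' := by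
    intro n hn n' hn' y hy
    have h0 : (n'⁻¹ * n) • y = y := by rw [mul_smul, hy, inv_smul_smul]
    have h1 := hNfree _ (N.mul_mem (N.inv_mem hn') hn) y h0
    exact (inv_mul_eq_one.1 h1).symm
  have hH : ∀ c d : Ω, c ≠ d → ∃ x : G, x ≠ 1 ∧ x • c = c ∧ x • d = d := by
    intro c d hcd
    obtain ⟨g, hg1, hg2⟩ := h2' a b c d hab hcd
    refine ⟨g * g₀ * g⁻¹, ?_, ?_, ?_⟩
    · intro h
      apply hg₀1
      calc g₀ = g⁻¹ * (g * g₀ * g⁻¹) * g := by group
        _ = 1 := by rw [h]; group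
    · rw [mul_smul, mul_smul, ← hg1, inv_smul_smul, hg₀a]
    · rw [mul_smul, mul_smul, ← hg2, inv_smul_smul, hg₀b]
  -- N has exponent 2
  have hexp : ∀ n ∈ N, n * n = 1 := by
    intro n hn
    by_contra hn2
    have hn1 : n ≠ 1 := by rintro rfl; exact hn2 (mul_one 1)
    have hna : n • a ≠ a := fun h => hn1 (hNfree n hn a h)
    obtain ⟨x, hx1, hxa, hxn⟩ := hH a (n • a) (Ne.symm hna)
    have hconj : x * n * x⁻¹ = n := by
      apply hNeq _ (hNn.conj_mem n hn x) _ hn a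
      rw [mul_smul, mul_smul]
      have : x⁻¹ • a = a := by rw [inv_smul_eq_iff, hxa]
      rw [this, hxn]
    have hxn2 : x • ((n * n) • a) = (n * n) • a := by
      have : x * (n * n) = (n * n) * x := by
        calc x * (n * n) = (x * n * x⁻¹) * (x * n * x⁻¹) * x := by group
          _ = (n * n) * x := by rw [hconj]
      rw [← mul_smul, this, mul_smul, hxa]
    have hnn : (n * n) • a ≠ a := fun h => hn2 (hNfree _ (N.mul_mem hn hn) a h)
    have hnn' : (n * n) • a ≠ n • a := by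
      intro h
      apply hn1
      have := hNeq _ (N.mul_mem hn hn) _ hn a h
      calc n = n⁻¹ * (n * n) := by group
        _ = n⁻¹ * n := by rw [this]
        _ = 1 := by group
    exact hx1 (h3 x a (n • a) ((n * n) • a) (Ne.symm hna) (Ne.symm hnn') (Ne.symm hnn) hxa hxn hxn2)
  have hNcomm : ∀ x ∈ N, ∀ y ∈ N, x * y = y * x := by
    intro x hx y hy
    have e1 := hexp x hx
    have e2 := hexp y hy
    have e3 := hexp (x * y) (N.mul_mem hx hy)
    calc x * y = x * (x * y * (x * y)) * y := by rw [e3, mul_one]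
      _ = (x * x) * (y * x) * (y * y) := by group
      _ = y * x := by rw [e1, e2, one_mul, mul_one]
  haveI : IsMulCommutative N := ⟨⟨fun x y => Subtype.ext (hNcomm x x.2 y y.2)⟩⟩
  -- the point stabilizer and its Frobenius kernel
  obtain ⟨T, hTdef⟩ : ∃ T : Subgroup G, T = MulAction.stabilizer G a := ⟨_, rfl⟩
  have hTmem : ∀ x : G, x ∈ T ↔ x • a = a := fun x => by
    rw [hTdef]; exact MulAction.mem_stabilizer_iff
  obtain ⟨C, hCmem⟩ : ∃ C : Subgroup T, ∀ x : T, x ∈ C ↔ (x : G) • b = b :=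
    ⟨(MulAction.stabilizer G b).subgroupOf T, fun x => by
      rw [Subgroup.mem_subgroupOf]; exact MulAction.mem_stabilizer_iff⟩
  have hC : Cfsg.IsFrobeniusComplement C := by
    refine ⟨?_, ?_, ?_⟩
    · intro h
      have h0 : (⟨g₀, (hTmem g₀).2 hg₀a⟩ : T) ∈ C := (hCmem _).2 hg₀b
      rw [h, Subgroup.mem_bot] at h0
      exact hg₀1 ((Subgroup.mk_eq_one _).1 h0)
    · intro h
      obtain ⟨g, hga, hgb⟩ := h2' a b a c₀ hab (Ne.symm hc₀a)
      have h0 : (⟨g, (hTmem g).2 hga⟩ : T) ∈ C := by rw [h]; exact Subgroup.mem_top _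
      have h1 : g • b = b := (hCmem _).1 h0
      exact hc₀b (hgb.symm.trans h1)
    · intro g hg
      rw [Subgroup.eq_bot_iff_forall]
      intro x hx
      obtain ⟨hx1, hx2⟩ := Subgroup.mem_inf.1 hx
      have hxa : (x : G) • a = a := (hTmem _).1 x.2
      have hxb : (x : G) • b = b := (hCmem x).1 hx1
      have hx2' : g⁻¹ * x * g ∈ C := (Cfsg.Agent.Helper1.mem_conj_smul_iff g x C).1 hx2
      have h0 : ((g : G)⁻¹ * (x : G) * (g : G)) • b = b := (hCmem _).1 hx2'
      rw [mul_smul, mul_smul, inv_smul_eq_iff] at h0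
      have hga : (g : G) • a = a := (hTmem _).1 g.2
      have hgb : (g : G) • b ≠ b := fun h => hg ((hCmem g).2 h)
      have hgba : (g : G) • b ≠ a := by
        intro h
        apply hab
        have : (g : G) • b = (g : G) • a := by rw [h, hga]
        exact (smul_left_cancel _ this).symm
      exact Subtype.ext (h3 (x : G) a b ((g : G) • b) hab (Ne.symm hgb) (Ne.symm hgba) hxa hxb h0)
  obtain ⟨M, hMset, hMn, hMc⟩ := Cfsg.Agent.Lead.frobenius_kernel C hC
  have hMfree : ∀ x : T, x ∈ M → x ≠ 1 → ∀ y : Ω, y ≠ a → (x : G) • y ≠ y := by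
    intro x hx hx1 y hya hy
    have hx' : x ∈ Cfsg.frobeniusKernel C := by rw [← hMset]; exact hx
    rcases hx' with h | h
    · exact hx1 h
    · obtain ⟨g, hga, hgb⟩ := h2' a b a y hab (Ne.symm hya)
      apply h ⟨g, (hTmem g).2 hga⟩
      rw [Cfsg.Agent.Helper1.mem_conj_smul_iff, hCmem]
      show (g⁻¹ * (x : G) * g) • b = b
      rw [mul_smul, mul_smul, hgb, hy, ← hgb, inv_smul_smul]
  have hMtr : ∀ y : Ω, y ≠ a → ∃ x : T, x ∈ M ∧ (x : G) • b = y := by
    intro y hya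
    obtain ⟨g, hga, hgb⟩ := h2' a b a y hab (Ne.symm hya)
    obtain ⟨⟨k, s⟩, hks, -⟩ := Subgroup.IsComplement.existsUnique hMc (⟨g, (hTmem g).2 hga⟩ : T)
    have hks' : (k : T) * (s : T) = ⟨g, (hTmem g).2 hga⟩ := hks
    refine ⟨(k : T), k.2, ?_⟩
    have hs : ((s : T) : G) • b = b := (hCmem _).1 s.2
    have h0 : (((k : T) : G) * ((s : T) : G)) = g := congrArg Subtype.val hks'
    rw [← hgb, ← h0, mul_smul, hs]
  obtain ⟨K, hKmem⟩ : ∃ K : Subgroup G, ∀ x : G, x ∈ K ↔ ∃ hx : x ∈ T, (⟨x, hx⟩ : T) ∈ M :=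
    ⟨M.map T.subtype, fun x => ⟨by
      rintro ⟨m, hm, rfl⟩
      exact ⟨m.2, hm⟩, by
      rintro ⟨hx, hm⟩
      exact ⟨⟨x, hx⟩, hm, rfl⟩⟩⟩
  have hKa : ∀ x ∈ K, x • a = a := fun x hx => by
    obtain ⟨hxT, -⟩ := (hKmem x).1 hx
    exact (hTmem x).1 hxT
  have hKfree : ∀ x ∈ K, x ≠ 1 → ∀ y : Ω, y ≠ a → x • y ≠ y := by
    intro x hx hx1 y hya
    obtain ⟨hxT, hxM⟩ := (hKmem x).1 hx
    exact hMfree ⟨x, hxT⟩ hxM (fun h => hx1 ((Subgroup.mk_eq_one _).1 h)) y hya
  have hKtr : ∀ y : Ω, y ≠ a → ∃ x ∈ K, x • b = y := by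
    intro y hya
    obtain ⟨x, hxM, hxy⟩ := hMtr y hya
    exact ⟨(x : G), (hKmem _).2 ⟨x.2, hxM⟩, hxy⟩
  have hKnorm : ∀ t : G, t • a = a → ∀ x ∈ K, t * x * t⁻¹ ∈ K := by
    intro t hta x hx
    obtain ⟨hxT, hxM⟩ := (hKmem x).1 hx
    have htT : t ∈ T := (hTmem t).2 hta
    have hconj := hMn.conj_mem ⟨x, hxT⟩ hxM ⟨t, htT⟩
    exact (hKmem _).2 ⟨T.mul_mem (T.mul_mem htT hxT) (T.inv_mem htT), hconj⟩
  obtain ⟨n₀, hn₀N, hn₀⟩ := hNtr a b
  have hn₀1 : n₀ ≠ 1 := by
    rintro rfl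
    rw [one_smul] at hn₀
    exact hab hn₀
  have hNbot : N ≠ ⊥ := by
    intro h
    have : n₀ ∈ (⊥ : Subgroup G) := h ▸ hn₀N
    exact hn₀1 (Subgroup.mem_bot.1 this)
  have hfpfK : ∀ h ∈ K, h ≠ 1 → N ⊓ Subgroup.centralizer {h} = ⊥ := by
    intro h hh hh1
    rw [Subgroup.eq_bot_iff_forall]
    intro y hy
    obtain ⟨hyN, hyc⟩ := Subgroup.mem_inf.1 hy
    have hc : h * y = y * h := (Subgroup.mem_centralizer_iff.1 hyc) h (Set.mem_singleton h)
    apply hNfree y hyN a
    by_contra hne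
    apply hKfree h hh hh1 _ hne
    rw [← mul_smul, hc, mul_smul, hKa h hh]
  -- K has no involutions
  have hKodd : ∀ x ∈ K, x * x = 1 → x = 1 := by
    intro x hx hx2
    by_contra hx1
    have hxinv : x⁻¹ = x := inv_eq_of_mul_eq_one_left hx2
    have hcN : x * n₀ * x⁻¹ ∈ N := hNn.conj_mem n₀ hn₀N x
    have hz : x * (n₀ * (x * n₀ * x⁻¹)) = (n₀ * (x * n₀ * x⁻¹)) * x := by
      have hc := hNcomm _ hcN _ hn₀N
      calc x * (n₀ * (x * n₀ * x⁻¹)) = (x * n₀ * x⁻¹) * (x * x) * n₀ * x⁻¹ := by group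
        _ = (x * n₀ * x⁻¹) * n₀ * x⁻¹ := by rw [hx2, mul_one]
        _ = n₀ * (x * n₀ * x⁻¹) * x⁻¹ := by rw [hc]
        _ = (n₀ * (x * n₀ * x⁻¹)) * x := by rw [hxinv]
    have hzN : n₀ * (x * n₀ * x⁻¹) ∈ N := N.mul_mem hn₀N hcN
    have hxa := hKa x hx
    have hza : (n₀ * (x * n₀ * x⁻¹)) • a = a := by
      by_contra hne
      apply hKfree x hx hx1 _ hne
      rw [← mul_smul, hz, mul_smul, hxa]
    have hz1 : n₀ * (x * n₀ * x⁻¹) = 1 := hNfree _ hzN a hza
    have hcomm : x * n₀ = n₀ * x := by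
      have e : x * n₀ * x⁻¹ = n₀ := by
        calc x * n₀ * x⁻¹ = n₀ * n₀ * (x * n₀ * x⁻¹) := by rw [hexp n₀ hn₀N, one_mul]
          _ = n₀ * (n₀ * (x * n₀ * x⁻¹)) := by group
          _ = n₀ := by rw [hz1, mul_one]
      calc x * n₀ = (x * n₀ * x⁻¹) * x := by group
        _ = n₀ * x := by rw [e]
    apply hKfree x hx hx1 b (Ne.symm hab)
    rw [← hn₀, ← mul_smul, hcomm, mul_smul, hxa]
  -- an element of prime order in the two-point stabilizer
  have hm1 : orderOf g₀ ≠ 1 := fun h => hg₀1 (orderOf_eq_one_iff.mp h)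
  have hm0 : 0 < orderOf g₀ := orderOf_pos g₀
  obtain ⟨r, hrdef⟩ : ∃ r : ℕ, r = (orderOf g₀).minFac := ⟨_, rfl⟩
  have hrp : r.Prime := by rw [hrdef]; exact Nat.minFac_prime hm1
  have hrd : r ∣ orderOf g₀ := by rw [hrdef]; exact Nat.minFac_dvd _
  obtain ⟨h₀, hh₀⟩ : ∃ h₀ : G, h₀ = g₀ ^ (orderOf g₀ / r) := ⟨_, rfl⟩
  have hh₀a : h₀ • a = a := by
    rw [hh₀]
    exact MulAction.mem_stabilizer_iff.1
      (Subgroup.pow_mem _ (MulAction.mem_stabilizer_iff.2 hg₀a) _)
  have hh₀b : h₀ • b = b := by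
    rw [hh₀]
    exact MulAction.mem_stabilizer_iff.1
      (Subgroup.pow_mem _ (MulAction.mem_stabilizer_iff.2 hg₀b) _)
  have hh₀r : h₀ ^ r = 1 := by
    rw [hh₀, ← pow_mul, Nat.div_mul_cancel hrd, pow_orderOf_eq_one]
  have hh₀1 : h₀ ≠ 1 := by
    rw [hh₀]
    apply pow_ne_one_of_lt_orderOf
    · exact (Nat.div_pos (Nat.le_of_dvd hm0 hrd) hrp.pos).ne'
    · exact Nat.div_lt_self hm0 hrp.one_lt
  haveI : Fact r.Prime := ⟨hrp⟩
  have hh₀fix : ∀ y : Ω, h₀ • y = y → y = a ∨ y = b := by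
    intro y hy
    by_contra hcon
    push_neg at hcon
    exact hh₀1 (h3 h₀ a b y hab (Ne.symm hcon.2) (Ne.symm hcon.1) hh₀a hh₀b hy)
  -- K is nilpotent (Thompson)
  have hKnil : Group.IsNilpotent K := by
    have hconjK : ∀ x ∈ K, MulAut.conj h₀ x ∈ K := fun x hx => by
      rw [MulAut.conj_apply]; exact hKnorm h₀ hh₀a x hx
    obtain ⟨φ, hφdef⟩ : ∃ φ : ↥K ≃* ↥K,
        φ = Cfsg.Agent.Helper21.restrictEquiv (MulAut.conj h₀) K hconjK := ⟨_, rfl⟩
    have hφ : ∀ x : ↥K, ((φ x : ↥K) : G) = h₀ * x * h₀⁻¹ := fun x => by rw [hφdef]; rfl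
    have key : ∀ (n : ℕ) (x : ↥K), (((⇑φ)^[n] x : ↥K) : G) = h₀ ^ n * x * (h₀ ^ n)⁻¹ := by
      intro n
      induction n with
      | zero => intro x; simp
      | succ n ih =>
        intro x
        rw [Function.iterate_succ_apply', hφ, ih, pow_succ']
        group
    refine Cfsg.Agent.Helper21.thompson_nilpotent φ ?_ r hrp ?_
    · intro x hx
      have h1 : h₀ * (x : G) * h₀⁻¹ = x := by rw [← hφ, hx]
      by_contra hx1
      have hx1' : (x : G) ≠ 1 := fun h => hx1 (Subtype.ext h)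
      have hcomm : h₀ * (x : G) = x * h₀ := by
        calc h₀ * (x : G) = (h₀ * x * h₀⁻¹) * h₀ := by group
          _ = x * h₀ := by rw [h1]
      have hfixxb : h₀ • ((x : G) • b) = (x : G) • b := by
        rw [← mul_smul, hcomm, mul_smul, hh₀b]
      have hxb : (x : G) • b ≠ b := hKfree x x.2 hx1' b (Ne.symm hab)
      have hxba : (x : G) • b ≠ a := by
        intro h
        apply hab
        have : (x : G) • b = (x : G) • a := by rw [h, hKa x x.2]
        exact (smul_left_cancel _ this).symm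
      rcases hh₀fix _ hfixxb with h | h
      · exact hxba h
      · exact hxb h
    · intro x
      apply Subtype.ext
      rw [key, hh₀r]; group
  -- K is abelian
  have hKcomm : ∀ x ∈ K, ∀ y ∈ K, x * y = y * x := by
    have hcyc : ∀ (p : (Nat.card K).primeFactors) (P : Sylow p K),
        ∀ u v : (P : Subgroup K), u * v = v * u := by
      intro p P
      have hpp : (p : ℕ).Prime := Nat.prime_of_mem_primeFactors p.2
      haveI : Fact (p : ℕ).Prime := ⟨hpp⟩
      have hpK : (p : ℕ) ∣ Nat.card K := Nat.dvd_of_mem_primeFactors p.2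
      have hp2 : (p : ℕ) ≠ 2 := by
        intro h2p
        rw [h2p] at hpK
        obtain ⟨x, hx⟩ := exists_prime_orderOf_dvd_card' 2 hpK
        have hx2 : (x : G) * (x : G) = 1 := by
          have := pow_orderOf_eq_one x
          rw [hx, pow_two] at this
          exact congrArg Subtype.val this
        have hx1 := hKodd x x.2 hx2
        have hx1' : x = 1 := Subtype.ext hx1
        rw [hx1', orderOf_one] at hx
        exact absurd hx (by norm_num)
      have hPg : IsPGroup (p : ℕ) (P : Subgroup K) := P.isPGroup'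
      obtain ⟨j, hjdef⟩ : ∃ j : (P : Subgroup K) →* G,
          j = K.subtype.comp (P : Subgroup K).subtype := ⟨_, rfl⟩
      have hjinj : Function.Injective j := by
        rw [hjdef]
        exact (Subgroup.subtype_injective K).comp (Subgroup.subtype_injective _)
      have hjK : ∀ u : (P : Subgroup K), j u ∈ K := fun u => by
        rw [hjdef]; exact (u : ↥K).2
      have hQ : IsPGroup (p : ℕ) j.range :=
        hPg.of_surjective j.rangeRestrict j.rangeRestrict_surjective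
      have hfpfQ : ∀ h ∈ j.range, h ≠ 1 → N ⊓ Subgroup.centralizer {h} = ⊥ := by
        rintro h ⟨u, rfl⟩ hh1
        exact hfpfK _ (hjK u) hh1
      have huniq : ∀ H₁ H₂ : Subgroup (P : Subgroup K),
          Nat.card H₁ = (p : ℕ) → Nat.card H₂ = (p : ℕ) → H₁ = H₂ := by
        intro H₁ H₂ h1 h2
        apply Subgroup.map_injective hjinj
        apply Cfsg.Agent.S0040.core N hNbot j.range hQ hfpfQ (H₁.map j) (H₂.map j)
        · rintro x ⟨u, -, rfl⟩; exact ⟨u, rfl⟩
        · rintro x ⟨u, -, rfl⟩; exact ⟨u, rfl⟩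
        · rw [Subgroup.card_map_of_injective hjinj]; exact h1
        · rw [Subgroup.card_map_of_injective hjinj]; exact h2
      rcases Cfsg.Agent.S0016.result (p : ℕ) hPg huniq with hc | ⟨h2p, -⟩
      · intro u v
        haveI := hc
        obtain ⟨g, hg⟩ := IsCyclic.exists_generator (α := (P : Subgroup K))
        obtain ⟨i, rfl⟩ := Subgroup.mem_zpowers_iff.1 (hg u)
        obtain ⟨k, rfl⟩ := Subgroup.mem_zpowers_iff.1 (hg v)
        rw [← zpow_add, ← zpow_add, add_comm]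
      · exact absurd h2p hp2
    obtain ⟨e⟩ := ((Group.isNilpotent_of_finite_tfae (G := ↥K)).out 0 4).1 hKnil
    have hpi : ∀ u v : (∀ p : (Nat.card K).primeFactors, ∀ P : Sylow p K, (P : Subgroup K)),
        u * v = v * u :=
      fun u v => funext fun p => funext fun P => hcyc p P (u p P) (v p P)
    intro x hx y hy
    have h0 : (⟨x, hx⟩ : K) * ⟨y, hy⟩ = ⟨y, hy⟩ * ⟨x, hx⟩ := by
      calc (⟨x, hx⟩ : K) * ⟨y, hy⟩ = e (e.symm ⟨x, hx⟩ * e.symm ⟨y, hy⟩) := by
            rw [map_mul, e.apply_symm_apply, e.apply_symm_apply]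
        _ = e (e.symm ⟨y, hy⟩ * e.symm ⟨x, hx⟩) := by
            rw [hpi (e.symm ⟨x, hx⟩) (e.symm ⟨y, hy⟩)]
        _ = ⟨y, hy⟩ * ⟨x, hx⟩ := by
            rw [map_mul, e.apply_symm_apply, e.apply_symm_apply]
    exact congrArg Subtype.val h0
  -- the field argument
  have hfin := Cfsg.Agent.Lead.Artin2.field_regular (V := Additive N)
    {φ | ∃ x ∈ K, φ = cj N x}
    (by
      rintro f ⟨x, hx, rfl⟩ g ⟨y, hy, rfl⟩
      have e1 := cj_mul N x y
      have e2 := cj_mul N y x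
      rw [hKcomm x hx y hy] at e1
      exact e1.symm.trans e2)
    (by
      rintro f ⟨x, hx, rfl⟩ v hv
      apply val_inj N
      have h1 := cj_val N x v
      rw [hv] at h1
      have e : x * ((Additive.toMul v : N) : G) * x⁻¹ = 1 := h1.symm
      show ((Additive.toMul v : N) : G) = 1
      calc ((Additive.toMul v : N) : G)
          = x⁻¹ * (x * ((Additive.toMul v : N) : G) * x⁻¹) * x := by group
        _ = 1 := by rw [e]; group)
    (Additive.ofMul (⟨n₀, hn₀N⟩ : N))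
    (by
      intro v hv
      have hy1 : ((Additive.toMul v : N) : G) ≠ 1 := by
        intro h
        apply hv
        apply val_inj N
        exact h
      have hya : ((Additive.toMul v : N) : G) • a ≠ a :=
        fun h => hy1 (hNfree _ (Additive.toMul v).2 a h)
      obtain ⟨x, hx, hxb⟩ := hKtr _ hya
      refine ⟨cj N x, ⟨x, hx, rfl⟩, ?_⟩
      apply val_inj N
      rw [cj_val]
      show x * n₀ * x⁻¹ = ((Additive.toMul v : N) : G)
      apply hNeq _ (hNn.conj_mem n₀ hn₀N x) _ (Additive.toMul v).2 a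
      rw [mul_smul, mul_smul, inv_smul_eq_iff.2 (hKa x hx).symm, hn₀, hxb])
    (cj N h₀) (cj N h₀⁻¹)
    (by
      have h1 := cj_mul N h₀ h₀⁻¹
      rw [mul_inv_cancel, cj_one] at h1
      exact h1.symm)
    (by
      have h1 := cj_mul N h₀⁻¹ h₀
      rw [inv_mul_cancel, cj_one] at h1
      exact h1.symm)
    (by
      rintro f ⟨x, hx, rfl⟩
      refine ⟨h₀⁻¹ * x * h₀, ?_, ?_⟩
      · have := hKnorm h₀⁻¹ (by rw [inv_smul_eq_iff, hh₀a]) x hx
        rwa [inv_inv] at this
      · have e := cj_mul N (h₀⁻¹ * x) h₀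
        rw [cj_mul N h₀⁻¹ x] at e
        exact e.symm)
    (by
      rintro f ⟨x, hx, rfl⟩
      refine ⟨h₀ * x * h₀⁻¹, hKnorm h₀ hh₀a x hx, ?_⟩
      have e := cj_mul N (h₀ * x) h₀⁻¹
      rw [cj_mul N h₀ x] at e
      exact e.symm)
    (by
      intro v hv
      have e : h₀ * ((Additive.toMul v : N) : G) * h₀⁻¹ = ((Additive.toMul v : N) : G) := by
        have h1 := cj_val N h₀ v
        rw [hv] at h1
        exact h1.symm
      have hcomm : h₀ * ((Additive.toMul v : N) : G) = ((Additive.toMul v : N) : G) * h₀ := by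
        calc h₀ * ((Additive.toMul v : N) : G)
            = (h₀ * ((Additive.toMul v : N) : G) * h₀⁻¹) * h₀ := by group
          _ = ((Additive.toMul v : N) : G) * h₀ := by rw [e]
      have hfx : h₀ • (((Additive.toMul v : N) : G) • a) = ((Additive.toMul v : N) : G) • a := by
        rw [← mul_smul, hcomm, mul_smul, hh₀a]
      rcases hh₀fix _ hfx with h | h
      · left
        apply val_inj N
        exact hNfree _ (Additive.toMul v).2 a h
      · right
        apply val_inj N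
        exact hNeq _ (Additive.toMul v).2 _ hn₀N a (h.trans hn₀.symm))
    (by
      apply val_inj N
      rw [cj_val]
      show h₀ * n₀ * h₀⁻¹ = n₀
      apply hNeq _ (hNn.conj_mem n₀ hn₀N h₀) _ hn₀N a
      rw [mul_smul, mul_smul, inv_smul_eq_iff.2 hh₀a.symm, hn₀, hh₀b])
    r
    (by
      have e := cj_pow N h₀ r
      rw [hh₀r, cj_one] at e
      exact e.symm)
    (by
      obtain ⟨n₁, hn₁N, hn₁⟩ := hNtr a c₀
      refine ⟨Additive.ofMul (⟨n₁, hn₁N⟩ : N), ?_, ?_⟩
      · intro h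
        have h' : n₁ = 1 := congrArg (fun w : Additive N => ((Additive.toMul w : N) : G)) h
        rw [h', one_smul] at hn₁
        exact hc₀a hn₁.symm
      · intro h
        have h' : n₁ = n₀ := congrArg (fun w : Additive N => ((Additive.toMul w : N) : G)) h
        rw [h', hn₀] at hn₁
        exact hc₀b hn₁.symm)
  have hcardN : Nat.card N = Nat.card Ω := by
    apply Nat.card_eq_of_bijective (fun n : N => (n : G) • a)
    constructor
    · intro n n' h
      exact Subtype.ext (hNeq _ n.2 _ n'.2 a h)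
    · intro y
      obtain ⟨n, hn, hny⟩ := hNtr a y
      exact ⟨⟨n, hn⟩, hny⟩
  refine ⟨r, hrp, ?_⟩
  rw [← Nat.card_eq_fintype_card, ← hcardN, ← hfin]
  exact Nat.card_congr Additive.ofMul

end Cfsg.Agent.S0341
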