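import Cfsg.Statements.S0374
import Cfsg.Agent.Helper28.M24Gen

set_option autoImplicit false
open Cfsg

namespace Cfsg.Agent.S0374

open Cfsg.Agent.Helper28.Golay

def g0 : List Nat := [1, 2, 3, 4, 5, 6, 7, 8, 9, 10, 11, 12, 13, 14, 15, 16, 17, 18, 19, 20, 21, 22, 0, 23]

def g1 : List Nat := [23, 22, 11, 15, 17, 9, 19, 13, 20, 5, 16, 2, 21, 7, 18, 3, 10, 4, 14, 6, 8, 12, 1, 0]

def g2 : List Nat := [0, 18, 6, 3, 2, 21, 1, 5, 16, 12, 7, 19, 8, 9, 17, 15, 13, 11, 4, 22, 10, 20, 14, 23]

def prog : List (Nat × Nat) :=
  [(1, 1), (0, 1), (0, 4), (1, 4), (2, 4), (0, 5), (1, 5), (2, 5), (2, 6), (0, 7), (2, 7), (1, 8), (0, 9), (0, 10), (2, 11), (0, 12), (0, 13), (0, 14), (0, 15), (1, 15), (2, 15), (2, 18), (1, 19), (1, 0), (0, 0), (0, 27), (0, 28), (0, 29), (0, 30), (0, 31), (0, 32), (0, 33), (0, 34), (0, 35), (0, 36), (0, 37), (0, 38), (0, 39), (0, 40), (0, 41), (0, 42), (0, 43), (0, 44), (0, 45), (0, 46), (26, 0), (48, 0), (49, 0), (50, 0), (51, 2), (2, 2), (2, 53), (2, 54), (52, 2), (56, 0), (1, 57), (39, 58), (59, 2), (59, 53), (59, 54), (59, 55), (2, 59), (59,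 59), (2, 60), (59, 60), (2, 62), (2, 63), (59, 63), (59, 65), (59, 66), (2, 68), (59, 68), (2, 72), (57, 2), (72, 72), (72, 77), (76, 1), (19, 19), (80, 80), (80, 81), (81, 81), (83, 83), (82, 84), (85, 79), (32, 86), (54, 87), (88, 88), (88, 89), (88, 90), (79, 0), (85, 92), (42, 93), (55, 94), (95, 88), (95, 90), (95, 91), (88, 95), (95, 95), (88, 96), (95, 97), (88, 98), (95, 99), (88, 101), (95, 101), (95, 102), (95, 105), (88, 106), (95, 106), (92, 1), (23, 23), (23, 112), (112, 112), (114, 114), (113, 115), (116, 111), (44, 117), (54, 118), (105, 105), (120, 120), (121, 119), (122, 122), (122, 123), (122, 124), (111, 88), (116, 126), (44, 127), (54, 128), (109, 129), (130, 130), (126, 88), (116, 132), (44, 133), (54, 134), (102, 102), (136, 136), (136, 137), (138, 135), (139, 123), (139, 124), (139, 125), (122, 139), (130, 139), (122, 140), (130, 140), (139, 140), (139, 141), (122, 142), (139, 143), (130, 144), (130, 145), (130, 148), (132, 1), (85, 154), (42, 155), (63, 63), (157, 157), (157, 158), (159, 156), (89, 160), (146, 146), (162, 162), (163, 161),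 (164, 130), (164, 131), (130, 164), (164, 164), (164, 165), (130, 167), (130, 168), (130, 169), (154, 0), (85, 173), (47, 174), (78, 175), (91, 176), (149, 149), (149, 178), (179, 177), (180, 130), (180, 166), (180, 168), (180, 170), (180, 180), (173, 1), (4, 4), (65, 65), (71, 188), (186, 122), (181, 181), (190, 88), (187, 192), (31, 193), (189, 194), (138, 195), (124, 196), (192, 0), (198, 130), (199, 1), (10, 10), (10, 201), (201, 201), (203, 203), (202, 204), (200, 0), (141, 141), (207, 207), (182, 182), (206, 139), (210, 139), (211, 130), (212, 0), (69, 69), (69, 214), (214, 214), (215, 216), (213, 130), (218, 130), (219, 88), (220, 0), (144, 144), (221, 0), (205, 223), (159, 224), (98, 98), (226, 226), (227, 225), (208, 228), (223, 0), (230, 122), (231, 2), (232, 2), (233, 88), (234, 2), (235, 122), (236, 1), (237, 130), (238, 2), (239, 122), (240, 139), (241, 2), (242, 1), (243, 130), (244, 130), (245, 139), (246, 0), (205, 247), (32, 248), (77, 60), (250, 249), (124, 251), (247, 59), (151, 151), (253, 1), (255, 122), (256, 164), (257, 1), (258, 130), (259,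 0), (260, 130), (261, 0), (205, 262), (45, 263), (217, 264), (96, 265), (163, 266), (262, 95), (268, 139), (269, 122), (205, 270), (45, 271), (217, 272), (227, 273), (254, 274), (270, 88), (276, 180), (277, 59), (278, 95), (279, 130), (280, 95), (281, 59), (282, 2), (283, 0), (284, 180), (285, 2), (99, 99), (150, 150), (288, 288), (286, 164), (290, 180), (205, 291), (0, 292), (78, 293), (287, 294), (289, 295), (13, 54), (297, 90), (298, 148), (299, 172), (300, 185), (19, 54), (302, 90), (303, 148), (304, 172), (305, 185), (10, 67), (307, 106), (308, 149), (309, 164), (310, 185), (16, 39), (312, 65), (313, 91), (314, 165), (315, 180), (23, 39), (317, 60), (318, 107), (319, 145), (320, 167), (321, 180), (25, 54), (323, 90), (324, 148), (325, 172), (326, 185), (24, 32), (328, 60), (329, 107), (330, 144), (331, 130), (332, 185), (11, 43), (334, 54), (335, 153), (336, 167), (337, 180), (17, 54), (339, 90), (340, 148), (341, 172), (342, 185), (7, 34), (344, 54), (345, 88), (346, 149), (347, 183), (348, 180), (12, 39), (350, 61), (351, 110), (352, 152), (353, 171), (354,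 185), (18, 39), (356, 61), (357, 110), (358, 152), (359, 171), (360, 185), (71, 106), (362, 146), (363, 180), (73, 95), (365, 153), (366, 181), (367, 180), (68, 110), (369, 122), (370, 182), (371, 180), (75, 98), (373, 142), (374, 130), (74, 100), (376, 147), (377, 172), (378, 185), (62, 103), (380, 146), (381, 180), (66, 89), (383, 124), (384, 169), (72, 107), (386, 141), (387, 169), (69, 106), (389, 146), (64, 90), (391, 124), (392, 182), (393, 180), (70, 91), (395, 153), (396, 182), (63, 110), (398, 147), (399, 165), (60, 104), (401, 123), (402, 181), (65, 90), (404, 142), (405, 164), (406, 185), (61, 102), (408, 142), (409, 182), (410, 185), (67, 91), (412, 139), (413, 165), (414, 185), (59, 90), (416, 124), (417, 182), (418, 180), (102, 169), (420, 185), (104, 144), (422, 184), (423, 180), (101, 124), (425, 164), (426, 180), (105, 142), (428, 131), (95, 148), (430, 165), (97, 125), (432, 180), (108, 125), (434, 182), (435, 185), (98, 141), (437, 171), (438, 185), (100, 148), (440, 184), (441, 185), (89, 144), (443, 166), (444, 185), (109, 124), (90, 145),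 (447, 171), (448, 180), (91, 147), (450, 170), (96, 146), (452, 130), (453, 180), (107, 184), (455, 185), (99, 148), (457, 169), (458, 180), (88, 143), (460, 180), (110, 141), (462, 183), (463, 185), (103, 145), (465, 164), (466, 185), (106, 144), (468, 165), (469, 185), (123, 183), (153, 183), (144, 165), (473, 180), (146, 169), (475, 185), (141, 172), (477, 185), (149, 185), (151, 169), (124, 181), (147, 184), (482, 185), (152, 130), (484, 185), (148, 131), (486, 180), (145, 167), (488, 180), (140, 166), (490, 180), (143, 181), (492, 180), (142, 183), (494, 185), (122, 170), (496, 185), (125, 171), (150, 131), (167, 180), (182, 185), (168, 185)]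

theorem h0 : ∀ p : GolayPt,
    idx (Equiv.optionCongr (Equiv.addRight (1 : ZMod 23)) p) = tf g0 (idx p) := by decide +kernel

theorem h1 : ∀ p : GolayPt, idx (projInv p) = tf g1 (idx p) := by decide +kernel

theorem h2' : ∀ p : GolayPt, idx (cubeTwistFun p) = tf g2 (idx p) := by decide +kernel

theorem h2 (p : GolayPt) : idx (cubeTwist p) = tf g2 (idx p) := h2' p

theorem hin0 : inM24 g0 = true := by decide +kernel

theorem hin1 : inM24 g1 = true := by decide +kernel

theorem hin2 : inM24 g2 = true := by decide +kernel

set_option maxRecDepth 100000 in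
theorem hslp : (allU.all fun T => (slpRun prog [g0, g1, g2]).contains T) = true := by
  decide +kernel

/-- The group of the length-24 code is generated by x ↦ x+1, x ↦ -1/x and the cube-twist permutation. -/
theorem result : Subgroup.closure {Equiv.optionCongr (Equiv.addRight (1 : ZMod 23)), Cfsg.projInv, Cfsg.cubeTwist} = Cfsg.M24 := by
  have e0 : Equiv.optionCongr (Equiv.addRight (1 : ZMod 23)) = permOf g0 :=
    eq_permOf_of_table _ g0 (isPerm_of_inM24 hin0) h0
  have e1 : projInv = permOf g1 := eq_permOf_of_table _ g1 (isPerm_of_inM24 hin1) h1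
  have e2 : cubeTwist = permOf g2 := eq_permOf_of_table _ g2 (isPerm_of_inM24 hin2) h2
  apply le_antisymm
  · rw [Subgroup.closure_le]
    rintro x (rfl | rfl | rfl)
    · rw [e0]
      exact permOf_mem_M24 hin0
    · rw [e1]
      exact permOf_mem_M24 hin1
    · rw [e2]
      exact permOf_mem_M24 hin2
  · apply M24_le_of_allU
    intro T hT
    have hinit : ∀ T ∈ [g0, g1, g2], isPerm T = true ∧ permOf T ∈
        Subgroup.closure {Equiv.optionCongr (Equiv.addRight (1 : ZMod 23)), projInv, cubeTwist} := by
      intro T hT
      simp only [List.mem_cons, List.not_mem_nil, or_false] at hT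
      rcases hT with rfl | rfl | rfl
      · exact ⟨isPerm_of_inM24 hin0, by rw [← e0]; exact Subgroup.subset_closure (by simp)⟩
      · exact ⟨isPerm_of_inM24 hin1, by rw [← e1]; exact Subgroup.subset_closure (by simp)⟩
      · exact ⟨isPerm_of_inM24 hin2, by rw [← e2]; exact Subgroup.subset_closure (by simp)⟩
    have hmem := List.all_eq_true.1 hslp T hT
    rw [List.contains_eq_mem, decide_eq_true_iff] at hmem
    exact (slp_sound _ prog [g0, g1, g2] hinit T hmem).2

end Cfsg.Agent.S0374
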