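import Cfsg.Statements.S0502
import Mathlib
import Cfsg.Agent.S0129
import Cfsg.Agent.Helper9.KleinSub
import Cfsg.Agent.Helper8.TwoLocal

set_option autoImplicit false
open Cfsg

namespace Cfsg.Agent.S0502

theorem rtg_symm {α : Type*} {r : α → α → Prop} (hs : ∀ a b, r a b → r b a) {a b : α}
    (h : Relation.ReflTransGen r a b) : Relation.ReflTransGen r b a := by
  induction h with
  | refl => exact Relation.ReflTransGen.refl
  | tail _ hbc ih => exact Relation.ReflTransGen.head (hs _ _ hbc) ih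

theorem comm_of_sq {P : Type*} [Group P] {a b : P} (ha : a * a = 1) (hb : b * b = 1)
    (hab : (a * b) * (a * b) = 1) : a * b = b * a := by
  have h1 : a⁻¹ = a := inv_eq_of_mul_eq_one_right ha
  have h2 : b⁻¹ = b := inv_eq_of_mul_eq_one_right hb
  have h3 : (a * b)⁻¹ = a * b := inv_eq_of_mul_eq_one_right hab
  calc a * b = (a * b)⁻¹ := h3.symm
    _ = b⁻¹ * a⁻¹ := mul_inv_rev a b
    _ = b * a := by rw [h1, h2]

theorem four_elt {P : Type*} [Group P] (F : Subgroup P)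
    (hFc : ∀ a ∈ F, ∀ b ∈ F, a * b = b * a) (hF2 : ∀ a ∈ F, a * a = 1)
    {g h g' h' : P} (hg : g ∈ F) (hh : h ∈ F) (hh' : h' ∈ F)
    (heq : g * g' = h * h') : g'⁻¹ * h' = g⁻¹ * h := by
  have e : g' = g⁻¹ * (h * h') := by rw [← heq, inv_mul_cancel_left]
  have hx : g⁻¹ * h ∈ F := F.mul_mem (F.inv_mem hg) hh
  rw [e]
  calc (g⁻¹ * (h * h'))⁻¹ * h' = h'⁻¹ * ((g⁻¹ * h)⁻¹ * h') := by group
    _ = h'⁻¹ * ((g⁻¹ * h) * h') := by rw [inv_eq_of_mul_eq_one_right (hF2 _ hx)]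
    _ = h'⁻¹ * (h' * (g⁻¹ * h)) := by rw [hFc _ hx _ hh']
    _ = g⁻¹ * h := inv_mul_cancel_left _ _

/-- An involution `t` normalizing an elementary abelian 2-subgroup `F` has at least `√|F|` fixed
points on `F`. -/
theorem fix_card {P : Type*} [Group P] [Finite P] (F : Subgroup P)
    (hFc : ∀ a ∈ F, ∀ b ∈ F, a * b = b * a) (hF2 : ∀ a ∈ F, a * a = 1) (t : P) (ht : t * t = 1)
    (htF : ∀ e ∈ F, t * e * t⁻¹ ∈ F) :
    Nat.card F ≤ Nat.card (F ⊓ Subgroup.centralizer ({t} : Set P) : Subgroup P) ^ 2 := by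
  obtain ⟨C, hC⟩ : ∃ C, C = F ⊓ Subgroup.centralizer ({t} : Set P) := ⟨_, rfl⟩
  rw [← hC]
  have hCF : C ≤ F := by rw [hC]; exact inf_le_left
  have hmemC : ∀ e, e ∈ F → t * e * t⁻¹ = e → e ∈ C := by
    intro e he h
    rw [hC, Subgroup.mem_inf, Subgroup.mem_centralizer_iff]
    refine ⟨he, ?_⟩
    intro y hy
    rw [Set.mem_singleton_iff] at hy
    rw [hy]
    calc t * e = t * e * t⁻¹ * t := by group
      _ = e * t := by rw [h]
  have hmap : ∀ g : ↥F, (g : P) * (t * g * t⁻¹) ∈ C := by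
    intro g
    have hg' := htF g g.2
    apply hmemC _ (F.mul_mem g.2 hg')
    calc t * ((g : P) * (t * g * t⁻¹)) * t⁻¹
        = (t * g * t⁻¹) * ((t * t) * g * (t * t)⁻¹) := by group
      _ = (t * g * t⁻¹) * g := by rw [ht, one_mul, inv_one, mul_one]
      _ = (g : P) * (t * g * t⁻¹) := hFc _ hg' _ g.2
  have key := Cfsg.Agent.S0129.index_le_of_fiber (C.subgroupOf F) (T := ↥C)
    (fun g : ↥F => ⟨(g : P) * (t * g * t⁻¹), hmap g⟩) (by
      intro g h hgh
      rw [Subgroup.mem_subgroupOf]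
      have heq : (g : P) * (t * g * t⁻¹) = (h : P) * (t * h * t⁻¹) := congrArg Subtype.val hgh
      have hg' := htF g g.2
      have hh' := htF h h.2
      show ((g⁻¹ * h : ↥F) : P) ∈ C
      rw [Subgroup.coe_mul, Subgroup.coe_inv]
      apply hmemC _ (F.mul_mem (F.inv_mem g.2) h.2)
      calc t * ((g : P)⁻¹ * h) * t⁻¹ = (t * g * t⁻¹)⁻¹ * (t * h * t⁻¹) := by group
        _ = (g : P)⁻¹ * h := four_elt F hFc hF2 g.2 h.2 hh' heq)
  have hcard : Nat.card F = Nat.card C * C.relIndex F :=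
    Cfsg.Agent.Helper8.card_eq_card_mul_relIndex hCF
  rw [hcard, pow_two]
  exact Nat.mul_le_mul_left _ key

theorem exists_klein_le {P : Type*} [Group P] [Finite P] (F : Subgroup P)
    (hF2 : ∀ a ∈ F, a * a = 1) (h4 : 4 ≤ Nat.card F) :
    ∃ W : Subgroup P, W ≤ F ∧ IsKleinFour W := by
  haveI : Fact (Nat.Prime 2) := ⟨Nat.prime_two⟩
  have hne : F ≠ ⊥ := by
    rintro rfl
    rw [Subgroup.card_bot] at h4
    omega
  obtain ⟨a, ha, ha1⟩ : ∃ a ∈ F, a ≠ 1 := by
    by_contra hcon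
    push Not at hcon
    exact hne ((Subgroup.eq_bot_iff_forall F).mpr hcon)
  have hao : orderOf a = 2 := orderOf_eq_prime (by rw [pow_two]; exact hF2 a ha) ha1
  obtain ⟨b, hb, hbn⟩ : ∃ b ∈ F, b ∉ Subgroup.zpowers a := by
    by_contra hcon
    push Not at hcon
    have hle : F ≤ Subgroup.zpowers a := hcon
    have := Subgroup.card_le_of_le hle
    rw [Nat.card_zpowers, hao] at this
    omega
  have hb1 : b ≠ 1 := fun h => hbn (h ▸ Subgroup.one_mem _)
  have hab : a ≠ b := fun h => hbn (h ▸ Subgroup.mem_zpowers a)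
  have hcomm : a * b = b * a := comm_of_sq (hF2 a ha) (hF2 b hb) (hF2 _ (F.mul_mem ha hb))
  refine ⟨Cfsg.Agent.Helper9.kfour a b (hF2 a ha) (hF2 b hb) hcomm, ?_,
    Cfsg.Agent.Helper9.isKleinFour_kfour a b _ _ _ ha1 hb1 hab⟩
  intro x hx
  rcases Cfsg.Agent.Helper9.mem_kfour.mp hx with h | h | h | h
  · rw [h]; exact F.one_mem
  · rw [h]; exact ha
  · rw [h]; exact hb
  · rw [h]; exact F.mul_mem ha hb

theorem cent_card {P : Type*} [Group P] [Finite P] (hP : IsPGroup 2 P)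
    (E : Subgroup P) [hEn : E.Normal] (hEc : ∀ a ∈ E, ∀ b ∈ E, a * b = b * a)
    (hE2 : ∀ e ∈ E, e * e = 1) (hE8 : 8 ≤ Nat.card E) (t : P) (ht : t * t = 1) :
    4 ≤ Nat.card (E ⊓ Subgroup.centralizer ({t} : Set P) : Subgroup P) := by
  haveI : Fact (Nat.Prime 2) := ⟨Nat.prime_two⟩
  have h1 := fix_card E hEc hE2 t ht (fun e he => hEn.conj_mem e he t)
  obtain ⟨k, hk⟩ := IsPGroup.iff_card.mp
    (hP.to_subgroup (E ⊓ Subgroup.centralizer ({t} : Set P)))
  rw [hk] at h1 ⊢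
  have hk2 : 2 ≤ k := by
    by_contra hcon
    have : k = 0 ∨ k = 1 := by omega
    rcases this with rfl | rfl
    · norm_num at h1; omega
    · norm_num at h1; omega
  calc 4 = 2 ^ 2 := by norm_num
    _ ≤ 2 ^ k := Nat.pow_le_pow_right (by norm_num) hk2

theorem connect {P : Type*} [Group P] [Finite P] (hP : IsPGroup 2 P)
    (E : Subgroup P) [hEn : E.Normal] (hEc : ∀ a ∈ E, ∀ b ∈ E, a * b = b * a)
    (hE2 : ∀ e ∈ E, e * e = 1) (hE8 : 8 ≤ Nat.card E) (U : Subgroup P) (hU : IsKleinFour U) :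
    ∃ W : Subgroup P, W ≤ E ∧ IsKleinFour W ∧
      Relation.ReflTransGen (fun A B : Subgroup P => IsKleinFour A ∧ IsKleinFour B ∧
        ∀ a ∈ A, ∀ b ∈ B, a * b = b * a) U W := by
  haveI : Fact (Nat.Prime 2) := ⟨Nat.prime_two⟩
  have hU2 : ∀ a ∈ U, a * a = 1 := by
    intro a ha
    have h1 := Monoid.pow_exponent_eq_one (⟨a, ha⟩ : ↥U)
    rw [hU.exponent_two, pow_two] at h1
    exact congrArg Subtype.val h1
  have hUc : ∀ a ∈ U, ∀ b ∈ U, a * b = b * a := fun a ha b hb =>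
    comm_of_sq (hU2 a ha) (hU2 b hb) (hU2 _ (U.mul_mem ha hb))
  have hU4 : Nat.card U = 4 := hU.card_four
  have hUne : U ≠ ⊥ := by
    rintro rfl
    rw [Subgroup.card_bot] at hU4
    omega
  obtain ⟨u, hu, hu1⟩ : ∃ u ∈ U, u ≠ 1 := by
    by_contra hcon
    push Not at hcon
    exact hUne ((Subgroup.eq_bot_iff_forall U).mpr hcon)
  have huo : orderOf u = 2 := orderOf_eq_prime (by rw [pow_two]; exact hU2 u hu) hu1
  obtain ⟨v, hv, hvn⟩ : ∃ v ∈ U, v ∉ Subgroup.zpowers u := by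
    by_contra hcon
    push Not at hcon
    have hle : U ≤ Subgroup.zpowers u := hcon
    have := Subgroup.card_le_of_le hle
    rw [Nat.card_zpowers, huo] at this
    omega
  have hv1 : v ≠ 1 := fun h => hvn (h ▸ Subgroup.one_mem _)
  have huv : u ≠ v := fun h => hvn (h ▸ Subgroup.mem_zpowers u)
  have hUeq : ∀ x ∈ U, x = 1 ∨ x = u ∨ x = v ∨ x = u * v := by
    have hle : Cfsg.Agent.Helper9.kfour u v (hU2 u hu) (hU2 v hv) (hUc u hu v hv) ≤ U := by
      intro x hx
      rcases Cfsg.Agent.Helper9.mem_kfour.mp hx with h | h | h | h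
      · rw [h]; exact U.one_mem
      · rw [h]; exact hu
      · rw [h]; exact hv
      · rw [h]; exact U.mul_mem hu hv
    have hK := Cfsg.Agent.Helper9.isKleinFour_kfour u v (hU2 u hu) (hU2 v hv)
      (hUc u hu v hv) hu1 hv1 huv
    have heq := Subgroup.eq_of_le_of_card_ge hle (by rw [hU4, hK.card_four])
    intro x hx
    rw [← heq] at hx
    exact Cfsg.Agent.Helper9.mem_kfour.mp hx
  obtain ⟨F, hF⟩ : ∃ F, F = E ⊓ Subgroup.centralizer ({u} : Set P) := ⟨_, rfl⟩
  have hF4 : 4 ≤ Nat.card F := by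
    rw [hF]; exact cent_card hP E hEc hE2 hE8 u (hU2 u hu)
  have hFE : F ≤ E := by rw [hF]; exact inf_le_left
  have hFu : ∀ e ∈ F, u * e = e * u := by
    intro e he
    rw [hF] at he
    exact (Subgroup.mem_centralizer_iff.mp he.2) u (Set.mem_singleton u)
  have hvF : ∀ e ∈ F, v * e * v⁻¹ ∈ F := by
    intro e he
    rw [hF, Subgroup.mem_inf, Subgroup.mem_centralizer_iff]
    refine ⟨hEn.conj_mem e (hFE he) v, ?_⟩
    intro y hy
    rw [Set.mem_singleton_iff] at hy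
    rw [hy]
    have h1 : u * v = v * u := hUc u hu v hv
    have h2 : u * e = e * u := hFu e he
    have h3 : u * v⁻¹ = v⁻¹ * u := (Commute.inv_right (show Commute u v from h1)).eq
    calc u * (v * e * v⁻¹) = (u * v) * e * v⁻¹ := by group
      _ = (v * u) * e * v⁻¹ := by rw [h1]
      _ = v * (u * e) * v⁻¹ := by group
      _ = v * (e * u) * v⁻¹ := by rw [h2]
      _ = v * e * (u * v⁻¹) := by group
      _ = v * e * (v⁻¹ * u) := by rw [h3]
      _ = v * e * v⁻¹ * u := by group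
  have hFc : ∀ a ∈ F, ∀ b ∈ F, a * b = b * a := fun a ha b hb => hEc a (hFE ha) b (hFE hb)
  have hF2 : ∀ a ∈ F, a * a = 1 := fun a ha => hE2 a (hFE ha)
  have hD := fix_card F hFc hF2 v (hU2 v hv) hvF
  obtain ⟨z, hzD, hz1⟩ : ∃ z ∈ F ⊓ Subgroup.centralizer ({v} : Set P), z ≠ 1 := by
    by_contra hcon
    push Not at hcon
    have hbot : F ⊓ Subgroup.centralizer ({v} : Set P) = ⊥ :=
      (Subgroup.eq_bot_iff_forall _).mpr hcon
    rw [hbot, Subgroup.card_bot] at hD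
    norm_num at hD
    omega
  have hzF : z ∈ F := hzD.1
  have hzE : z ∈ E := hFE hzF
  have hzv : v * z = z * v :=
    (Subgroup.mem_centralizer_iff.mp hzD.2) v (Set.mem_singleton v)
  have hzu : u * z = z * u := hFu z hzF
  have hzU : ∀ a ∈ U, a * z = z * a := by
    intro a ha
    rcases hUeq a ha with h | h | h | h
    · rw [h, one_mul, mul_one]
    · rw [h]; exact hzu
    · rw [h]; exact hzv
    · rw [h]
      exact (Commute.mul_left (show Commute u z from hzu) (show Commute v z from hzv)).eq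
  obtain ⟨w, hw, hw1, hwz⟩ : ∃ w ∈ U, w ≠ 1 ∧ w ≠ z := by
    by_cases h : u = z
    · exact ⟨v, hv, hv1, fun h' => huv (h.trans h'.symm)⟩
    · exact ⟨u, hu, hu1, h⟩
  have hww : w * w = 1 := hU2 w hw
  have hzz : z * z = 1 := hE2 z hzE
  have hwzc : w * z = z * w := hzU w hw
  have hK1 := Cfsg.Agent.Helper9.isKleinFour_kfour w z hww hzz hwzc hw1 hz1 hwz
  obtain ⟨U1, hU1⟩ : ∃ U1, U1 = Cfsg.Agent.Helper9.kfour w z hww hzz hwzc := ⟨_, rfl⟩
  have hU1K : IsKleinFour U1 := by rw [hU1]; exact hK1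
  have hU1mem : ∀ x ∈ U1, x = 1 ∨ x = w ∨ x = z ∨ x = w * z := by
    intro x hx
    rw [hU1] at hx
    exact Cfsg.Agent.Helper9.mem_kfour.mp hx
  obtain ⟨W, hWF, hWK⟩ := exists_klein_le (E ⊓ Subgroup.centralizer ({w} : Set P))
    (fun a ha => hE2 a ha.1) (cent_card hP E hEc hE2 hE8 w hww)
  have hWE : W ≤ E := hWF.trans inf_le_left
  have hWw : ∀ b ∈ W, w * b = b * w := fun b hb =>
    (Subgroup.mem_centralizer_iff.mp (hWF hb).2) w (Set.mem_singleton w)
  refine ⟨W, hWE, hWK, ?_⟩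
  apply Relation.ReflTransGen.tail (b := U1)
  · apply Relation.ReflTransGen.single
    refine ⟨hU, hU1K, ?_⟩
    intro a ha b hb
    rcases hU1mem b hb with h | h | h | h
    · rw [h, one_mul, mul_one]
    · rw [h]; exact hUc a ha w hw
    · rw [h]; exact hzU a ha
    · rw [h]
      exact (Commute.mul_right (show Commute a w from hUc a ha w hw)
        (show Commute a z from hzU a ha)).eq
  · refine ⟨hU1K, hWK, ?_⟩
    intro a ha b hb
    have hbz : z * b = b * z := hEc z hzE b (hWE hb)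
    rcases hU1mem a ha with h | h | h | h
    · rw [h, one_mul, mul_one]
    · rw [h]; exact hWw b hb
    · rw [h]; exact hbz
    · rw [h]
      exact (Commute.mul_left (show Commute w b from hWw b hb) (show Commute z b from hbz)).eq

/-- If a finite 2-group has a normal elementary abelian subgroup of order at least 8, then any two of its Klein
four-subgroups are joined by a chain of Klein four-subgroups with consecutive members commuting elementwise. -/
theorem result {P : Type*} [Group P] [Finite P] (hP : IsPGroup 2 P)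
    (E : Subgroup P) [E.Normal] (hE : IsMulCommutative E) (hE2 : ∀ e ∈ E, e ^ 2 = 1) (hE8 : 8 ≤ Nat.card E) :
    Cfsg.IsFourConnected P := by
  have hEc : ∀ a ∈ E, ∀ b ∈ E, a * b = b * a := by
    intro a ha b hb
    have h := hE.is_comm.comm (⟨a, ha⟩ : ↥E) ⟨b, hb⟩
    exact congrArg Subtype.val h
  have hE2' : ∀ e ∈ E, e * e = 1 := fun e he => by rw [← pow_two]; exact hE2 e he
  intro U V hU hV
  obtain ⟨W, hWE, hWK, hUW⟩ := connect hP E hEc hE2' hE8 U hU
  obtain ⟨W', hW'E, hW'K, hVW'⟩ := connect hP E hEc hE2' hE8 V hV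
  have hW'V := rtg_symm (r := fun A B : Subgroup P => IsKleinFour A ∧ IsKleinFour B ∧
      ∀ a ∈ A, ∀ b ∈ B, a * b = b * a)
    (fun A B h => ⟨h.2.1, h.1, fun b hb a ha => (h.2.2 a ha b hb).symm⟩) hVW'
  exact (hUW.tail ⟨hWK, hW'K, fun a ha b hb => hEc a (hWE ha) b (hW'E hb)⟩).trans hW'V

end Cfsg.Agent.S0502
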