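import Cfsg.Statements.S0522
import Cfsg.Agent.Helper21.TransHyp
import Cfsg.Agent.Helper21.TransPC
import Cfsg.Agent.S0629
import Cfsg.Agent.Helper23.SolvPSolv
import Mathlib
-- import your own Cfsg.Agent.* helpers here

set_option autoImplicit false
open Cfsg

namespace Cfsg.Agent.S0522

/-- Transitivity Theorem (odd-order setting). Let X be a finite group of odd order in which the normalizer of every
nontrivial p-subgroup is solvable, P a Sylow p-subgroup, and B an abelian subgroup of P, normalized by P, with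
C_P(B) = B and containing an elementary abelian subgroup of order p^3. Then for every prime q ≠ p, any two q-subgroups
that are maximal among the q-subgroups normalized by B are conjugate by an element of the centralizer of B. -/
theorem result {X : Type*} [Group X] [Finite X] (hX : Odd (Nat.card X)) (p : ℕ)
    [Fact p.Prime] (hloc : ∀ T : Subgroup X, IsPGroup p T → T ≠ ⊥ → Group.IsSolvable (Subgroup.normalizer (T : Set X)))
    (P : Sylow p X) (B : Subgroup X) (hBP : B ≤ (P : Subgroup X))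
    (hBn : ∀ x ∈ (P : Subgroup X), ∀ b ∈ B, x * b * x⁻¹ ∈ B) (hBa : IsMulCommutative B)
    (hBc : (P : Subgroup X) ⊓ Subgroup.centralizer (B : Set X) = B)
    (hB3 : ∃ E : Subgroup X, E ≤ B ∧ (∀ e ∈ E, e ^ p = 1) ∧ p ^ 3 ≤ Nat.card E)
    (q : ℕ) [Fact q.Prime] (hqp : q ≠ p) (Q₁ Q₂ : Subgroup X)
    (h₁ : IsPGroup q Q₁ ∧ B ≤ Subgroup.normalizer (Q₁ : Set X) ∧
      ∀ R : Subgroup X, IsPGroup q R → B ≤ Subgroup.normalizer (R : Set X) → Q₁ ≤ R → R = Q₁)
    (h₂ : IsPGroup q Q₂ ∧ B ≤ Subgroup.normalizer (Q₂ : Set X) ∧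
      ∀ R : Subgroup X, IsPGroup q R → B ≤ Subgroup.normalizer (R : Set X) → Q₂ ≤ R → R = Q₂) :
    ∃ c ∈ Subgroup.centralizer (B : Set X), Q₂ = Q₁.map (MulAut.conj c).toMonoidHom := by
  classical
  have hpp : p.Prime := Fact.out
  have hq : q.Prime := Fact.out
  haveI := hBa
  obtain ⟨E, hEB, hEe, hE3⟩ := hB3
  have hBp : IsPGroup p B := P.isPGroup'.to_le hBP
  have hp2 : p ≠ 2 := by
    intro h2
    have hPc : Nat.card ↥(P : Subgroup X) ∣ Nat.card X := Subgroup.card_subgroup_dvd_card _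
    obtain ⟨k, hk⟩ := IsPGroup.iff_card.1 P.isPGroup'
    have hk0 : k = 0 := by
      by_contra hne
      have h2d : 2 ∣ Nat.card X := by
        have : p ∣ Nat.card ↥(P : Subgroup X) := hk ▸ dvd_pow_self p hne
        exact h2 ▸ (this.trans hPc)
      exact (Nat.not_even_iff_odd.mpr hX) (even_iff_two_dvd.mpr h2d)
    rw [hk0, pow_zero] at hk
    have hEc : Nat.card ↥E ≤ 1 := by
      have h1 : Nat.card ↥E ∣ Nat.card ↥(P : Subgroup X) := Subgroup.card_dvd_of_le (hEB.trans hBP)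
      rw [hk] at h1
      exact Nat.le_of_dvd one_pos h1
    have : 1 < p ^ 3 := Nat.one_lt_pow (by norm_num) hpp.one_lt
    omega
  have hloc' : ∀ T : Subgroup X, IsPGroup p T → T ≠ ⊥ →
      Cfsg.IsPConstrained p ↥(Subgroup.normalizer (T : Set X)) := by
    intro T hT hT1
    haveI : Group.IsSolvable ↥(Subgroup.normalizer (T : Set X)) := hloc T hT hT1
    obtain ⟨P'⟩ := (inferInstance :
      Nonempty (Sylow p ↥(Cfsg.pPrimePCore p ↥(Subgroup.normalizer (T : Set X)))))
    exact Cfsg.Agent.S0629.result P' (Cfsg.Agent.Helper23.isPSolvable_of_isSolvable p _)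
  have hE3' : ¬ Cfsg.PRankLE p 2 ↥B := by
    intro hr
    have h1 := hr (E.subgroupOf B)
      (IsMulCommutative.of_setLike_mul_comm (fun x _ y _ => mul_comm' x y))
      (by
        intro a ha
        apply Subtype.ext
        have := hEe a (Subgroup.mem_subgroupOf.mp ha)
        simpa using this)
    rw [Nat.card_congr (Subgroup.subgroupOfEquivOfLe hEB).toEquiv] at h1
    have : p ^ 2 < p ^ 3 := Nat.pow_lt_pow_right hpp.one_lt (by norm_num)
    omega
  have hEfull : ∀ x ∈ Subgroup.centralizer (B : Set X), IsPGroup p (Subgroup.zpowers x) → x ∈ B := by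
    intro x hx hxp
    obtain ⟨N, hN⟩ : ∃ N : Subgroup X, N = Subgroup.normalizer (B : Set X) := ⟨_, rfl⟩
    have hPN : (P : Subgroup X) ≤ N := by
      intro y hy
      rw [hN]
      apply Cfsg.Agent.Helper14.mem_normalizer_of_forall _ y (hBn y hy)
      intro b hb
      have := hBn y⁻¹ (inv_mem hy) b hb
      rwa [inv_inv] at this
    have hxN : x ∈ N := by rw [hN]; exact Subgroup.centralizer_le_normalizer _ hx
    have hY : IsPGroup p (B ⊔ Subgroup.zpowers x : Subgroup X) := by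
      apply IsPGroup.to_sup_of_normal_left' hBp hxp
      rw [Subgroup.zpowers_le, ← hN]
      exact hxN
    have hY' : IsPGroup p ((B ⊔ Subgroup.zpowers x : Subgroup X).subgroupOf N) :=
      hY.comap_subtype
    obtain ⟨S', hS'⟩ := hY'.exists_le_sylow
    obtain ⟨g, hg⟩ := MulAction.exists_smul_eq (↥N) (P.subtype hPN) S'
    have hx' : (⟨x, hxN⟩ : ↥N) ∈ (S' : Subgroup ↥N) := by
      apply hS'
      rw [Subgroup.mem_subgroupOf]
      exact Subgroup.mem_sup_right (Subgroup.mem_zpowers x)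
    rw [← hg, Sylow.smul_def, Sylow.pointwise_smul_def,
      Subgroup.mem_pointwise_smul_iff_inv_smul_mem,
      MulAut.smul_def, MulAut.conj_inv_apply, Sylow.coe_subtype, Subgroup.mem_subgroupOf] at hx'
    have hgN : (g : X) ∈ Subgroup.normalizer (B : Set X) := hN ▸ g.2
    have hgN' : (g : X)⁻¹ ∈ Subgroup.normalizer (B : Set X) := inv_mem hgN
    have h1 : (g : X)⁻¹ * x * ((g : X)⁻¹)⁻¹ ∈ Subgroup.centralizer (B : Set X) :=
      Cfsg.Agent.Helper14.conj_mem_centralizer_of_mem_normalizer B _ hgN' x hx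
    rw [inv_inv] at h1
    have h2 : (g : X)⁻¹ * x * (g : X) ∈ B := by
      rw [← hBc]
      refine Subgroup.mem_inf.mpr ⟨?_, h1⟩
      simpa using hx'
    have h3 := (Subgroup.mem_normalizer_iff.mp hgN _).mp h2
    have e : (g : X) * ((g : X)⁻¹ * x * (g : X)) * (g : X)⁻¹ = x := by group
    rwa [e] at h3
  have hmax : ∀ Q : Subgroup X, (IsPGroup q Q ∧ B ≤ Subgroup.normalizer (Q : Set X) ∧
      ∀ R : Subgroup X, IsPGroup q R → B ≤ Subgroup.normalizer (R : Set X) → Q ≤ R → R = Q) →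
      Q ∈ Cfsg.maxInvSubgroups ⊤ B {q} := by
    rintro Q ⟨hQq, hBQ, hQmax⟩
    refine ⟨Cfsg.Agent.Helper21.TransHyp.inv_of_isPGroup hq hQq hBQ, ?_⟩
    intro R hR hQR
    exact hQmax R (Cfsg.Agent.Helper21.TransHyp.inv_isPGroup hR) hR.2.2 hQR
  obtain ⟨k, hk, hkQ⟩ := Cfsg.Agent.Helper21.TransPC.main p hloc' (fun h => absurd h hp2) B hBp hBa
    hE3' hEfull q hqp Q₁ (hmax Q₁ h₁) Q₂ (hmax Q₂ h₂)
  exact ⟨k, Cfsg.Agent.Helper21.TransHyp.pco_le _ _ hk, hkQ⟩

end Cfsg.Agent.S0522
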