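import Cfsg.Statements.S0539
import Cfsg.Agent.Helper3.Subnormal

set_option autoImplicit false
open Cfsg
open scoped Pointwise

namespace Cfsg.Agent.S0539

open Cfsg.Agent.Helper3

universe u

/-- a subnormal, non-normal subgroup has a conjugate different from it inside its normalizer -/
theorem exists_conj_le_normalizer {G : Type u} [Group G] (H : Subgroup G) (hH : H.IsSubnormal)
    (hn : ¬ H.Normal) :
    ∃ g : G, MulAut.conj g • H ≠ H ∧ MulAut.conj g • H ≤ Subgroup.normalizer (H : Set G) := by
  obtain ⟨n, f, hmono, hnorm, h0, hn'⟩ := Subgroup.IsSubnormal.isSubnormal_iff.mp hH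
  have hex : ∃ j, ¬ f j ≤ Subgroup.normalizer (H : Set G) := by
    refine ⟨n, ?_⟩
    rw [hn', top_le_iff, Subgroup.normalizer_eq_top_iff]
    exact hn
  classical
  have hj := Nat.find_spec hex
  have hj0 : Nat.find hex ≠ 0 := by
    intro h
    rw [h, h0] at hj
    exact hj Subgroup.le_normalizer
  obtain ⟨k, hk⟩ := Nat.exists_eq_succ_of_ne_zero hj0
  have hfk : f k ≤ Subgroup.normalizer (H : Set G) := by
    by_contra hc
    exact Nat.find_min hex (by rw [hk]; exact Nat.lt_succ_self k) hc
  rw [hk] at hj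
  obtain ⟨g, hg, hgn⟩ := SetLike.not_le_iff_exists.mp hj
  have hgk : g ∈ Subgroup.normalizer ((f k : Subgroup G) : Set G) :=
    ((Subgroup.normal_subgroupOf_iff_le_normalizer (hmono (Nat.le_succ k))).mp (hnorm k)) hg
  refine ⟨g, ?_, ?_⟩
  · intro h
    apply hgn
    rw [Subgroup.mem_normalizer_iff_map_conj_eq]
    exact h
  · have h1 : MulAut.conj g • H ≤ MulAut.conj g • f k :=
      Subgroup.pointwise_smul_le_pointwise_smul_iff.mpr (h0 ▸ hmono (Nat.zero_le k))
    have h2 : MulAut.conj g • f k = f k := Subgroup.mem_normalizer_iff_map_conj_eq.mp hgk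
    rw [h2] at h1
    exact h1.trans hfk

/-- Let S be a family of subnormal subgroups of a finite group that is closed under conjugation, and S₀ a proper subfamily. Then some member of S not in S₀ normalizes the join of S₀. -/
theorem result {G : Type*} [Group G] [Finite G] (S S₀ : Set (Subgroup G)) (hS : ∀ U ∈ S, U.IsSubnormal) (hconj : ∀ U ∈ S, ∀ g : G, MulAut.conj g • U ∈ S) (h₀ : S₀ ⊂ S) : ∃ X ∈ S, X ∉ S₀ ∧ X ≤ Subgroup.normalizer ((sSup S₀ : Subgroup G) : Set G) := by
  have hH₀ : (sSup S₀).IsSubnormal := wielandt_sSup S₀ (fun U hU => hS U (h₀.subset hU))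
  obtain ⟨X₀, hX₀S, hX₀⟩ := Set.exists_of_ssubset h₀
  by_cases hn : (sSup S₀).Normal
  · exact ⟨X₀, hX₀S, hX₀, by rw [Subgroup.normalizer_eq_top_iff.mpr hn]; exact le_top⟩
  · obtain ⟨g, hne, hle⟩ := exists_conj_le_normalizer (sSup S₀) hH₀ hn
    by_cases hex : ∃ U ∈ S₀, MulAut.conj g • U ∉ S₀
    · obtain ⟨U, hU, hUg⟩ := hex
      refine ⟨MulAut.conj g • U, hconj U (h₀.subset hU) g, hUg, ?_⟩
      exact le_trans (Subgroup.pointwise_smul_le_pointwise_smul_iff.mpr (le_sSup hU)) hle
    · push Not at hex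
      exfalso
      apply hne
      have h1 : MulAut.conj g • sSup S₀ ≤ sSup S₀ := by
        show (sSup S₀).map (MulAut.conj g).toMonoidHom ≤ sSup S₀
        rw [Subgroup.map_le_iff_le_comap]
        apply sSup_le
        intro U hU
        rw [← Subgroup.map_le_iff_le_comap]
        exact le_sSup (hex U hU)
      have hcard : Nat.card (sSup S₀ : Subgroup G) ≤ Nat.card (MulAut.conj g • sSup S₀ : Subgroup G) := by
        have : Nat.card ((sSup S₀).map (MulAut.conj g).toMonoidHom) = Nat.card (sSup S₀ : Subgroup G) :=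
          Subgroup.card_map_of_injective (MulAut.conj g).injective
        exact this.ge
      exact Subgroup.eq_of_le_of_card_ge h1 hcard

end Cfsg.Agent.S0539
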