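import Cfsg.Statements.S0543
import Cfsg.Agent.S0004
import Cfsg.Agent.Helper3.Coprime

set_option autoImplicit false
open Cfsg
open scoped Pointwise

namespace Cfsg.Agent.S0543

open Cfsg.Agent.Helper3

universe u

theorem conj_of_same_index {G : Type u} [Group G] [Finite G] [Group.IsSolvable G] (p : ℕ)
    (hp : p.Prime) (A B : Subgroup G)
    (hA : A.index = p ^ (Nat.card G).factorization p)
    (hB : B.index = p ^ (Nat.card G).factorization p) :
    ∃ x : G, MulAut.conj x • A = B := by
  have eA := Subgroup.card_mul_index A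
  have eB := Subgroup.card_mul_index B
  rw [hA] at eA
  rw [hB] at eB
  have hpos : 0 < p ^ (Nat.card G).factorization p := pow_pos hp.pos _
  have hAB : Nat.card A = Nat.card B := Nat.eq_of_mul_eq_mul_right hpos (eA.trans eB.symm)
  have hcop : (Nat.card A).Coprime (p ^ (Nat.card G).factorization p) := by
    have h1 : Nat.card G / p ^ (Nat.card G).factorization p = Nat.card A :=
      Nat.div_eq_of_eq_mul_left hpos eA.symm
    rw [← h1]
    exact (Nat.Coprime.pow_left _ (Nat.coprime_ordCompl hp Nat.card_pos.ne')).symm
  exact Cfsg.Agent.S0004.result (Nat.card A) (p ^ (Nat.card G).factorization p) eA.symm hcop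
    A B rfl hAB.symm

theorem coprime_aux (q : Nat.Primes) (s : Finset Nat.Primes) (hq : q ∉ s) (a : ℕ) (f : ℕ → ℕ) :
    ((q : ℕ) ^ a).Coprime (∏ p ∈ s, (p : ℕ) ^ f p) := by
  apply Nat.Coprime.prod_right
  intro p hp
  apply Nat.Coprime.pow
  rw [Nat.coprime_primes q.2 p.2]
  intro h
  apply hq
  rw [Nat.Primes.coe_nat_injective h]; exact hp

theorem index_iInf {G : Type u} [Group G] [Finite G] (L : Nat.Primes → Subgroup G)
    (hL : Cfsg.IsComplementSystem L) (s : Finset Nat.Primes) :
    (⨅ p ∈ s, L p).index = ∏ p ∈ s, (p : ℕ) ^ (Nat.card G).factorization p := by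
  classical
  induction s using Finset.induction_on with
  | empty => simp
  | insert q s hq ih =>
    have hc : (L q).index.Coprime (⨅ p ∈ s, L p).index := by
      rw [hL q, ih]
      exact coprime_aux q s hq _ _
    rw [Finset.iInf_insert, Finset.prod_insert hq, index_inf_of_coprime _ _ hc, hL q, ih]

theorem exists_conj_finset {G : Type u} [Group G] [Finite G] [Group.IsSolvable G]
    (K L : Nat.Primes → Subgroup G) (hK : Cfsg.IsComplementSystem K)
    (hL : Cfsg.IsComplementSystem L) (s : Finset Nat.Primes) :
    ∃ g : G, ∀ p ∈ s, MulAut.conj g • K p = L p := by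
  classical
  induction s using Finset.induction_on with
  | empty => exact ⟨1, fun p hp => absurd hp (Finset.notMem_empty p)⟩
  | insert q s hq ih =>
    obtain ⟨g, hg⟩ := ih
    have hK' : (MulAut.conj g • K q : Subgroup G).index
        = (q : ℕ) ^ (Nat.card G).factorization q := by
      rw [index_conj_smul, hK q]
    obtain ⟨x, hx⟩ := conj_of_same_index (q : ℕ) q.2 _ _ hK' (hL q)
    have hcop : (L q).index.Coprime (⨅ p ∈ s, L p).index := by
      rw [hL q, index_iInf L hL s]
      exact coprime_aux q s hq _ _
    obtain ⟨l, hl, d, hd, rfl⟩ := prod_of_coprime_index (L q) (⨅ p ∈ s, L p) hcop x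
    have h1 : MulAut.conj l • (MulAut.conj d • (MulAut.conj g • K q)) = L q := by
      rw [smul_smul, ← map_mul]; exact hx
    have h2 : MulAut.conj d • (MulAut.conj g • K q) = L q := by
      have h3 : MulAut.conj d • (MulAut.conj g • K q) = (MulAut.conj l)⁻¹ • L q := by
        rw [← h1, inv_smul_smul]
      rw [h3, ← map_inv]
      exact Subgroup.conj_smul_eq_self_of_mem (inv_mem hl)
    refine ⟨d * g, fun p hp => ?_⟩
    rw [map_mul, mul_smul]
    rcases Finset.mem_insert.mp hp with hpq | hps
    · rw [hpq]; exact h2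
    · rw [hg p hps]
      exact Subgroup.conj_smul_eq_self_of_mem ((iInf₂_le p hps : (⨅ p ∈ s, L p) ≤ L p) hd)

/-- In a finite solvable group any two Hall complement systems are simultaneously conjugate: one element conjugates every member of the first system to the corresponding member of the second. -/
theorem result {G : Type*} [Group G] [Finite G] [Group.IsSolvable G] (K L : Nat.Primes → Subgroup G) (hK : Cfsg.IsComplementSystem K) (hL : Cfsg.IsComplementSystem L) : ∃ g : G, ∀ p : Nat.Primes, MulAut.conj g • K p = L p := by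
  classical
  obtain ⟨g, hg⟩ := exists_conj_finset K L hK hL ((Nat.card G).primeFactors.subtype Nat.Prime)
  refine ⟨g, fun p => ?_⟩
  by_cases hp : (p : ℕ) ∣ Nat.card G
  · apply hg p
    refine Finset.mem_subtype.mpr ?_
    rw [Nat.mem_primeFactors]
    exact ⟨p.2, hp, Nat.card_pos.ne'⟩
  · have h0 : (Nat.card G).factorization (p : ℕ) = 0 := Nat.factorization_eq_zero_of_not_dvd hp
    have hKp : K p = ⊤ := by
      rw [← Subgroup.index_eq_one, hK p, h0, pow_zero]
    have hLp : L p = ⊤ := by
      rw [← Subgroup.index_eq_one, hL p, h0, pow_zero]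
    rw [hLp, ← Subgroup.index_eq_one, index_conj_smul, hKp, Subgroup.index_top]

end Cfsg.Agent.S0543
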