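import Cfsg.Statements.S0597
import Cfsg.Agent.Helper23.Replacement
import Cfsg.Agent.Helper23.StabSub
import Cfsg.Agent.Helper3.Subnormal
import Cfsg.Agent.Helper14.Subnormal
import Cfsg.Agent.Helper7.PLocal

set_option autoImplicit false
open Cfsg

namespace Cfsg.Agent.S0597

open scoped commutatorElement

theorem conj_pow_aux {G : Type*} [Group G] (a u c : G) (hc : a * c = c * a)
    (hu : a * u * a⁻¹ = u * c) (n : ℕ) : a ^ n * u * (a ^ n)⁻¹ = u * c ^ n := by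
  induction n with
  | zero => simp
  | succ n ih =>
    have h1 : a * c ^ n = c ^ n * a := (Commute.pow_right (show Commute a c from hc) n)
    calc a ^ (n+1) * u * (a ^ (n+1))⁻¹ = a * (a ^ n * u * (a ^ n)⁻¹) * a⁻¹ := by
          rw [pow_succ']; simp [mul_assoc]
      _ = a * (u * c ^ n) * a⁻¹ := by rw [ih]
      _ = (a * u * a⁻¹) * (a * c ^ n * a⁻¹) := by simp [mul_assoc]
      _ = (u * c) * (c ^ n) := by rw [hu, h1]; simp [mul_assoc]
      _ = u * c ^ (n+1) := by rw [pow_succ', mul_assoc]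

/-- If two subnormal subgroups of a faithful group on an elementary abelian p-group satisfy [V, E₁, E₂] = 1, then their commutator lies in the largest normal p-subgroup. -/
theorem result {G : Type*} [Group G] [Finite G] {p : ℕ} [Fact p.Prime] (V H : Subgroup G) (hV : Cfsg.IsElementaryAbelian p V) (hHV : H ≤ Subgroup.normalizer (V : Set G)) (hf : H ⊓ Subgroup.centralizer (V : Set G) = ⊥) (E₁ E₂ : Subgroup G) (h₁ : E₁ ≤ H) (h₂ : E₂ ≤ H) (hs₁ : (E₁.subgroupOf H).IsSubnormal) (hs₂ : (E₂.subgroupOf H).IsSubnormal) (hc : ⁅⁅V, E₁⁆, E₂⁆ = ⊥) : ⁅E₁, E₂⁆ ≤ (Cfsg.pCore p H).map H.subtype := by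
  have hVc := (Cfsg.Agent.Helper3.isElementaryAbelian_iff.mp hV).1
  have hVexp := (Cfsg.Agent.Helper3.isElementaryAbelian_iff.mp hV).2
  have hKH : E₁ ⊔ E₂ ≤ H := sup_le h₁ h₂
  have hKV : E₁ ⊔ E₂ ≤ Subgroup.normalizer (V : Set G) := hKH.trans hHV
  have hUV : ⁅V, E₁⁆ ≤ V := Cfsg.Agent.Helper23.commutator_le_of_le_normalizer (h₁.trans hHV)
  have hE₂U : E₂ ≤ Subgroup.centralizer ((⁅V, E₁⁆ : Subgroup G) : Set G) :=
    Subgroup.le_centralizer_iff.1 (Subgroup.commutator_eq_bot_iff_le_centralizer.1 hc)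
  set K := E₁ ⊔ E₂ with hKdef
  set U := ⁅V, E₁⁆ with hUdef
  have hE₁K : E₁ ≤ K := le_sup_left
  have hE₂K : E₂ ≤ K := le_sup_right
  have hVconj : ∀ k ∈ K, ∀ v ∈ V, k * v * k⁻¹ ∈ V := fun k hk v hv =>
    (Subgroup.mem_normalizer_iff.1 (hKV hk) v).1 hv
  have hVconj' : ∀ k ∈ K, ∀ v ∈ V, k⁻¹ * v * k ∈ V := fun k hk v hv => by
    have := hVconj k⁻¹ (inv_mem hk) v hv
    rwa [inv_inv] at this
  have hE₁U : ∀ e ∈ E₁, ∀ w ∈ U, e * w * e⁻¹ ∈ U := fun e he =>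
    Cfsg.Agent.Helper23.conj_mem_commutator (fun v hv => hVconj e (hE₁K he) v hv)
      (fun a ha => E₁.mul_mem (E₁.mul_mem he ha) (E₁.inv_mem he))
  have hKU : K ≤ Subgroup.normalizer (U : Set G) :=
    sup_le (Cfsg.Agent.Helper7.le_normalizer_of_conj_mem hE₁U)
      (hE₂U.trans (Subgroup.centralizer_le_normalizer _))
  have hUconj : ∀ k ∈ K, ∀ w ∈ U, k * w * k⁻¹ ∈ U := fun k hk w hw =>
    (Subgroup.mem_normalizer_iff.1 (hKU hk) w).1 hw
  have hUconj' : ∀ k ∈ K, ∀ w ∈ U, k⁻¹ * w * k ∈ U := fun k hk w hw => by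
    have := hUconj k⁻¹ (inv_mem hk) w hw
    rwa [inv_inv] at this
  have hKCU : K ≤ Subgroup.normalizer
      ((Subgroup.centralizer (U : Set G) : Subgroup G) : Set G) :=
    Cfsg.Agent.Helper23.le_normalizer_centralizer hKU
  have hCconj : ∀ k ∈ K, ∀ g ∈ Subgroup.centralizer (U : Set G),
      k * g * k⁻¹ ∈ Subgroup.centralizer (U : Set G) :=
    fun k hk g hg => (Subgroup.mem_normalizer_iff.1 (hKCU hk) g).1 hg
  have hSconj : ∀ k ∈ K, ∀ g ∈ Cfsg.Agent.Helper23.stabSub V U,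
      k * g * k⁻¹ ∈ Cfsg.Agent.Helper23.stabSub V U :=
    fun k hk g hg => Cfsg.Agent.Helper23.conj_mem_stabSub (hUconj k hk) (hUconj' k hk)
      (hVconj' k hk) hg
  have hE₁S : E₁ ≤ Cfsg.Agent.Helper23.stabSub V U := by
    intro e he
    have heK : e ∈ K := hE₁K he
    refine ⟨hUconj e heK, hUconj' e heK, fun v hv => ?_⟩
    have h1 : ⁅e, v⁆ ∈ ⁅E₁, V⁆ := Subgroup.commutator_mem_commutator he hv
    rw [Subgroup.commutator_comm, commutatorElement_def] at h1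
    exact h1
  set R := K ⊓ Subgroup.centralizer (U : Set G) ⊓ Cfsg.Agent.Helper23.stabSub V U with hRdef
  have hcomR : ⁅E₁, E₂⁆ ≤ R := by
    rw [Subgroup.commutator_le]
    intro e₁ he₁ e₂ he₂
    have he₁K : e₁ ∈ K := hE₁K he₁
    have he₂K : e₂ ∈ K := hE₂K he₂
    refine Subgroup.mem_inf.2 ⟨Subgroup.mem_inf.2 ⟨?_, ?_⟩, ?_⟩
    · rw [commutatorElement_def]
      exact mul_mem (mul_mem (mul_mem he₁K he₂K) (inv_mem he₁K)) (inv_mem he₂K)
    · rw [commutatorElement_def]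
      exact mul_mem (hCconj e₁ he₁K e₂ (hE₂U he₂)) (inv_mem (hE₂U he₂))
    · have e : ⁅e₁, e₂⁆ = e₁ * (e₂ * e₁⁻¹ * e₂⁻¹) := by rw [commutatorElement_def]; group
      rw [e]
      exact mul_mem (hE₁S he₁) (hSconj e₂ he₂K e₁⁻¹ (inv_mem (hE₁S he₁)))
  have hRexp : ∀ g ∈ R, g ^ p = 1 := by
    intro g hg
    have hgK : g ∈ K := hg.1.1
    have hgC : g ∈ Subgroup.centralizer (U : Set G) := hg.1.2
    have hgS : g ∈ Cfsg.Agent.Helper23.stabSub V U := hg.2
    have hmem : g ^ p ∈ H ⊓ Subgroup.centralizer (V : Set G) := by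
      refine Subgroup.mem_inf.2 ⟨pow_mem (hKH hgK) p, ?_⟩
      rw [Subgroup.mem_centralizer_iff]
      intro v hv
      have hcU : g * v * g⁻¹ * v⁻¹ ∈ U := hgS.2.2 v hv
      have hcg : g * (g * v * g⁻¹ * v⁻¹) = (g * v * g⁻¹ * v⁻¹) * g :=
        (Subgroup.mem_centralizer_iff.1 hgC _ hcU).symm
      have hconj : g * v * g⁻¹ = v * (g * v * g⁻¹ * v⁻¹) := by
        have h1 := hVc v hv _ (hUV hcU)
        rw [h1]; group
      have key := conj_pow_aux g v _ hcg hconj p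
      rw [hVexp _ (hUV hcU), mul_one] at key
      calc v * g ^ p = (g ^ p * v * (g ^ p)⁻¹) * g ^ p := by rw [key]
        _ = g ^ p * v := by group
    rw [hf] at hmem
    exact Subgroup.mem_bot.1 hmem
  have hRp : IsPGroup p R := fun g =>
    ⟨1, Subtype.ext (by rw [pow_one]; simpa using hRexp g g.2)⟩
  have hKsub : (K.subgroupOf H).IsSubnormal := by
    rw [hKdef, Subgroup.subgroupOf_sup h₁ h₂]
    exact Cfsg.Agent.Helper3.wielandt_join _ _ hs₁ hs₂
  have hRK : R ≤ K := inf_le_left.trans inf_le_left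
  have hRK' : R.subgroupOf H ≤ K.subgroupOf H := fun x hx =>
    Subgroup.mem_subgroupOf.2 (hRK (Subgroup.mem_subgroupOf.1 hx))
  have hRconj : ∀ k ∈ K, ∀ r ∈ R, k * r * k⁻¹ ∈ R := by
    intro k hk r hr
    exact Subgroup.mem_inf.2 ⟨Subgroup.mem_inf.2
      ⟨mul_mem (mul_mem hk hr.1.1) (inv_mem hk), hCconj k hk r hr.1.2⟩, hSconj k hk r hr.2⟩
  have hnorm : K.subgroupOf H ≤
      Subgroup.normalizer ((R.subgroupOf H : Subgroup ↥H) : Set ↥H) :=
    Cfsg.Agent.Helper7.le_normalizer_of_conj_mem (fun k hk r hr => by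
      rw [Subgroup.mem_subgroupOf] at hk hr ⊢
      exact hRconj _ hk _ hr)
  have hRsub : (R.subgroupOf H).IsSubnormal :=
    Subgroup.IsSubnormal.step _ _ hRK' hKsub
      ((Subgroup.normal_subgroupOf_iff_le_normalizer hRK').2 hnorm)
  have hRp' : IsPGroup p (R.subgroupOf H) :=
    hRp.comap_of_injective H.subtype Subtype.coe_injective
  have hle := Cfsg.Agent.Helper14.subnormal_pgroup_le_pCore (R.subgroupOf H) hRsub hRp'
  intro x hx
  have hxR : x ∈ R := hcomR hx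
  have hxH : x ∈ H := hKH (hRK hxR)
  exact ⟨⟨x, hxH⟩, hle (Subgroup.mem_subgroupOf.2 hxR), rfl⟩

end Cfsg.Agent.S0597
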