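import Cfsg.Statements.S0599
import Cfsg.Agent.Helper23.Replacement

set_option autoImplicit false
open Cfsg

namespace Cfsg.Agent.S0599

/-- The Timmesfeld replacement Theorem: replacing a best offender A by C_A([U, A]) gives a best offender with fixed points [U, A]C_V(A), still nontrivial on V if A was. -/
theorem result {G : Type*} [Group G] [Finite G] {p : ℕ} [Fact p.Prime] (V A : Subgroup G) (hV : Cfsg.IsElementaryAbelian p V) (hAV : A ≤ Subgroup.normalizer (V : Set G)) (hA : Cfsg.IsBestOffenderOn p V A) (U : Subgroup G) (hU : U ≤ V) : Cfsg.IsBestOffenderOn p V (A ⊓ Subgroup.centralizer ((⁅U, A⁆ : Subgroup G) : Set G)) ∧ V ⊓ Subgroup.centralizer ((A ⊓ Subgroup.centralizer ((⁅U, A⁆ : Subgroup G) : Set G) : Subgroup G) : Set G) = ⁅U, A⁆ ⊔ (V ⊓ Subgroup.centralizer (A : Set G)) ∧ (⁅V, A⁆ ≠ ⊥ → ⁅V, A ⊓ Subgroup.centralizer ((⁅U, A⁆ : Subgroup G) : Set G)⁆ ≠ ⊥) := by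
  obtain ⟨hmax, hab, hpow⟩ := hA
  have hVc := (Cfsg.Agent.Helper3.isElementaryAbelian_iff.mp hV).1
  obtain ⟨h1, h2⟩ := Cfsg.Agent.Helper23.replacement hVc hAV hab hmax hU
  set B := A ⊓ Subgroup.centralizer ((⁅U, A⁆ : Subgroup G) : Set G) with hBdef
  have hBA : B ≤ A := inf_le_left
  have hbest : Cfsg.IsBestOffenderOn p V B := by
    refine ⟨?_, ?_, ?_⟩
    · intro B' hB'
      rw [← h2]
      exact hmax B' (hB'.trans hBA)
    · exact (Subgroup.commutator_mono hBA hBA).trans hab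
    · exact fun a ha => hpow a (hBA ha)
  refine ⟨hbest, h1, ?_⟩
  intro hne hbot
  apply hne
  have hVB : V ≤ Subgroup.centralizer (B : Set G) :=
    Subgroup.commutator_eq_bot_iff_le_centralizer.1 hbot
  have hVeq : V ≤ ⁅U, A⁆ ⊔ (V ⊓ Subgroup.centralizer (A : Set G)) := by
    rw [← h1]; exact le_inf le_rfl hVB
  have hW := Cfsg.Agent.Helper23.commutator_le_of_le_sup hVc hAV hU hVeq
  exact Cfsg.Agent.Helper23.eq_bot_of_le_commutator_of_pow_mem
    (Cfsg.Agent.Helper3.elemAb_isPGroup hV) hAV hpow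
    (Cfsg.Agent.Helper23.commutator_le_of_le_normalizer hAV) hW

end Cfsg.Agent.S0599
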