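import Cfsg.Statements.S0607
import Cfsg.Agent.Helper23.Replacement
import Cfsg.Agent.S0606

set_option autoImplicit false
open Cfsg

namespace Cfsg.Agent.S0607

open scoped commutatorElement

/-- The replacement Theorem for the Thompson subgroup: from A of maximal order among elementary abelian p-subgroups one obtains A₀ = [V, A] C_A([V, A]) of the same kind, quadratic on V and nontrivial on V when A is. -/
theorem result {G : Type*} [Group G] [Finite G] {p : ℕ} [Fact p.Prime] (V : Subgroup G) [V.Normal] (hV : Cfsg.IsElementaryAbelian p V) (A : Subgroup G) (hA : A ∈ Cfsg.maxElementaryAbelianSubgroups p G) : (⁅V, A⁆ ⊔ (A ⊓ Subgroup.centralizer ((⁅V, A⁆ : Subgroup G) : Set G))) ∈ Cfsg.maxElementaryAbelianSubgroups p G ∧ ⁅⁅V, ⁅V, A⁆ ⊔ (A ⊓ Subgroup.centralizer ((⁅V, A⁆ : Subgroup G) : Set G))⁆, ⁅V, A⁆ ⊔ (A ⊓ Subgroup.centralizer ((⁅V, A⁆ : Subgroup G) : Set G))⁆ = ⊥ ∧ (⁅V, A⁆ ≠ ⊥ → ⁅V, ⁅V, A⁆ ⊔ (A ⊓ Subgroup.centralizer ((⁅V, A⁆ : Subgroup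 G) : Set G))⁆ ≠ ⊥) := by
  obtain ⟨hmax, hab, hpow⟩ := Cfsg.Agent.S0606.result V hV A hA
  have hVc := (Cfsg.Agent.Helper3.isElementaryAbelian_iff.mp hV).1
  have hAc := (Cfsg.Agent.Helper3.isElementaryAbelian_iff.mp hA.1).1
  have hAV : A ≤ Subgroup.normalizer (V : Set G) := by
    rw [Subgroup.normalizer_eq_top_iff.2 inferInstance]; exact le_top
  obtain ⟨h1, h2⟩ := Cfsg.Agent.Helper23.replacement hVc hAV hab hmax (le_refl V)
  have hWV : ⁅V, A⁆ ≤ V := Cfsg.Agent.Helper23.commutator_le_of_le_normalizer hAV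
  set W := ⁅V, A⁆ with hWdef
  set B := A ⊓ Subgroup.centralizer (W : Set G) with hBdef
  set C := V ⊓ Subgroup.centralizer (A : Set G) with hCdef
  have hBA : B ≤ A := inf_le_left
  have hCA : C ≤ A := by
    have hel : Cfsg.IsElementaryAbelian p (A ⊔ C) :=
      Cfsg.Agent.Helper3.elemAb_sup hA.1 (Cfsg.Agent.Helper3.elemAb_mono hV inf_le_left)
        (fun a ha c hc => Subgroup.mem_centralizer_iff.1 hc.2 a ha)
    have hle := hA.2 _ hel
    have heq : A = A ⊔ C := Subgroup.eq_of_le_of_card_ge le_sup_left hle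
    exact le_sup_right.trans heq.ge
  have hCB : C ≤ B := le_inf hCA (fun x hx =>
    Subgroup.mem_centralizer_iff.2 (fun h hh => hVc h (hWV hh) x hx.1))
  have hcomm : ∀ w ∈ W, ∀ b ∈ B, w * b = b * w := fun w hw b hb =>
    Subgroup.mem_centralizer_iff.1 hb.2 w hw
  have hel : Cfsg.IsElementaryAbelian p (W ⊔ B) :=
    Cfsg.Agent.Helper3.elemAb_sup (Cfsg.Agent.Helper3.elemAb_mono hV hWV)
      (Cfsg.Agent.Helper3.elemAb_mono hA.1 hBA) hcomm
  have hBn : B ≤ Subgroup.normalizer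
      ((V ⊓ Subgroup.centralizer (B : Set G) : Subgroup G) : Set G) := by
    refine le_trans ?_ (Subgroup.centralizer_le_normalizer _)
    rw [Subgroup.le_centralizer_iff]
    exact inf_le_right
  have hprod := Cfsg.Agent.Helper3.card_mul_card_eq_of_le_normalizer B
    (V ⊓ Subgroup.centralizer (B : Set G)) hBn
  have hsup : B ⊔ (V ⊓ Subgroup.centralizer (B : Set G)) = W ⊔ B := by
    rw [h1]
    apply le_antisymm
    · exact sup_le le_sup_right (sup_le le_sup_left (hCB.trans le_sup_right))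
    · exact sup_le (le_sup_left.trans le_sup_right) le_sup_left
  have hinf : B ⊓ (V ⊓ Subgroup.centralizer (B : Set G)) ≤ C := by
    intro x hx
    exact ⟨hx.2.1, Subgroup.mem_centralizer_iff.2 (fun a ha => hAc a ha x (hBA hx.1))⟩
  have hcard : Nat.card A ≤ Nat.card ↥(W ⊔ B) := by
    have hle := Subgroup.card_le_of_le hinf
    rw [hsup] at hprod
    have hCpos : 0 < Nat.card C := Nat.card_pos
    have hmul : Nat.card A * Nat.card C ≤ Nat.card ↥(W ⊔ B) * Nat.card C := by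
      rw [h2, hprod]; exact Nat.mul_le_mul_left _ hle
    exact Nat.le_of_mul_le_mul_right hmul hCpos
  have hn : B ≤ Subgroup.normalizer (W : Set G) :=
    inf_le_right.trans (Subgroup.centralizer_le_normalizer _)
  have hVAstar : ⁅V, W ⊔ B⁆ ≤ W := by
    rw [Subgroup.commutator_le]
    intro v hv x hx
    obtain ⟨w, hw, b, hb, rfl⟩ := Cfsg.Agent.Helper23.exists_mul_of_mem_sup hn hx
    have hvw : v * w = w * v := hVc v hv w (hWV hw)
    have hbv : b * v⁻¹ * b⁻¹ ∈ V :=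
      (Subgroup.mem_normalizer_iff.1 (hAV (hBA hb)) v⁻¹).1 (inv_mem hv)
    have hwt : w * (v * b * v⁻¹ * b⁻¹) = (v * b * v⁻¹ * b⁻¹) * w := by
      have hmem : v * b * v⁻¹ * b⁻¹ ∈ V := by
        have e : v * b * v⁻¹ * b⁻¹ = v * (b * v⁻¹ * b⁻¹) := by group
        rw [e]; exact mul_mem hv hbv
      exact hVc w (hWV hw) _ hmem
    have e : ⁅v, w * b⁆ = ⁅v, b⁆ := by
      rw [commutatorElement_def, commutatorElement_def]
      calc v * (w * b) * v⁻¹ * (w * b)⁻¹ = (v * w) * (b * v⁻¹ * b⁻¹) * w⁻¹ := by group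
        _ = (w * v) * (b * v⁻¹ * b⁻¹) * w⁻¹ := by rw [hvw]
        _ = w * (v * b * v⁻¹ * b⁻¹) * w⁻¹ := by group
        _ = (v * b * v⁻¹ * b⁻¹) * w * w⁻¹ := by rw [hwt]
        _ = v * b * v⁻¹ * b⁻¹ := by group
    rw [e]
    exact Subgroup.commutator_mem_commutator hv (hBA hb)
  have hWc : W ≤ Subgroup.centralizer ((W ⊔ B : Subgroup G) : Set G) := by
    rw [Subgroup.le_centralizer_iff]
    exact sup_le (fun w hw => Subgroup.mem_centralizer_iff.2
      (fun h hh => hVc h (hWV hh) w (hWV hw))) inf_le_right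
  refine ⟨⟨hel, fun B' hB' => (hA.2 B' hB').trans hcard⟩, ?_, ?_⟩
  · exact Subgroup.commutator_eq_bot_iff_le_centralizer.2 (hVAstar.trans hWc)
  · intro hne hbot
    apply hne
    have hVc' : V ≤ Subgroup.centralizer ((W ⊔ B : Subgroup G) : Set G) :=
      Subgroup.commutator_eq_bot_iff_le_centralizer.1 hbot
    have hVB : V ≤ Subgroup.centralizer (B : Set G) :=
      hVc'.trans (Subgroup.centralizer_le (SetLike.coe_subset_coe.2 le_sup_right))
    have hVeq : V ≤ ⁅V, A⁆ ⊔ (V ⊓ Subgroup.centralizer (A : Set G)) := by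
      rw [← h1]; exact le_inf le_rfl hVB
    have hW := Cfsg.Agent.Helper23.commutator_le_of_le_sup hVc hAV (le_refl V) hVeq
    exact Cfsg.Agent.Helper23.eq_bot_of_le_commutator_pgroup
      (Cfsg.Agent.Helper3.elemAb_isPGroup hV) (Cfsg.Agent.Helper3.elemAb_isPGroup hA.1) hAV hWV hW

end Cfsg.Agent.S0607
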