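import Mathlib
import Cfsg.Prelude.Def_PLocal
import Cfsg.Prelude.Def_Local
import Cfsg.Agent.Helper23.PSolv
import Cfsg.Agent.Helper7.PLayer
import Cfsg.Agent.S0622
set_option autoImplicit false
open Cfsg

open scoped Pointwise

namespace Cfsg.Agent.S0609

universe u

theorem map_center_of_injOn {G H : Type*} [Group G] [Group H] (f : G →* H) (S : Subgroup G)
    (hinj : ∀ x ∈ S, f x = 1 → x = 1) :
    (S ⊓ Subgroup.centralizer (S : Set G)).map f =
      S.map f ⊓ Subgroup.centralizer ((S.map f : Subgroup H) : Set H) := by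
  ext y
  constructor
  · rintro ⟨x, hx, rfl⟩
    rw [SetLike.mem_coe, Subgroup.mem_inf] at hx
    refine Subgroup.mem_inf.mpr ⟨Subgroup.mem_map_of_mem _ hx.1, ?_⟩
    rw [Subgroup.mem_centralizer_iff]
    rintro _ ⟨s, hs, rfl⟩
    rw [← map_mul, ← map_mul, Subgroup.mem_centralizer_iff.mp hx.2 s hs]
  · intro hy
    rw [Subgroup.mem_inf] at hy
    obtain ⟨x, hx, rfl⟩ := hy.1
    refine ⟨x, Subgroup.mem_inf.mpr ⟨hx, ?_⟩, rfl⟩
    rw [Subgroup.mem_centralizer_iff]
    intro s hs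
    have h1 := Subgroup.mem_centralizer_iff.mp hy.2 (f s) (Subgroup.mem_map_of_mem _ hs)
    have h2 : f (s * x * (x * s)⁻¹) = 1 := by
      rw [map_mul, map_mul, map_inv, map_mul, h1]; group
    have h3 := hinj _ (mul_mem (mul_mem hs hx) (inv_mem (mul_mem hx hs))) h2
    exact mul_inv_eq_one.mp h3

theorem omegaOne_map_of_injOn {G H : Type*} [Group G] [Group H] (p : ℕ) (f : G →* H)
    (K : Subgroup G) (hinj : ∀ x ∈ K, f x = 1 → x = 1) :
    (Cfsg.omegaOne p K).map f = Cfsg.omegaOne p (K.map f) := by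
  unfold Cfsg.omegaOne
  rw [MonoidHom.map_closure]
  congr 1
  ext y
  constructor
  · rintro ⟨x, ⟨hx, hxp⟩, rfl⟩
    exact ⟨Subgroup.mem_map_of_mem _ hx, by rw [← map_pow, hxp, map_one]⟩
  · rintro ⟨⟨x, hx, rfl⟩, hyp⟩
    refine ⟨x, ⟨hx, ?_⟩, rfl⟩
    apply hinj _ (pow_mem hx p)
    rw [map_pow]; exact hyp

theorem thompsonSubgroupOf_map_of_injOn {G H : Type u} [Group G] [Group H] (p : ℕ) (f : G →* H)
    (S : Subgroup G) (hinj : ∀ x ∈ S, f x = 1 → x = 1) :
    Cfsg.thompsonSubgroupOf p (S.map f) = (Cfsg.thompsonSubgroupOf p S).map f := by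
  have hinj' : Function.Injective (f.subgroupMap S) := by
    rw [injective_iff_map_eq_one]
    intro x hx
    apply Subtype.ext
    apply hinj _ x.2
    exact congrArg Subtype.val hx
  let e : ↥S ≃* ↥(S.map f) :=
    MulEquiv.ofBijective (f.subgroupMap S) ⟨hinj', f.subgroupMap_surjective S⟩
  unfold Cfsg.thompsonSubgroupOf
  rw [← S0622.thompson_map p e, Subgroup.map_map, Subgroup.map_map]
  congr 1

/-- Lifting centralizing elements through the quotient by a normal `p'`-subgroup. -/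
theorem exists_mul_mem_centralizer_of_map {G : Type u} [Group G] [Finite G] (p : ℕ)
    [hp : Fact p.Prime] (N : Subgroup G) [hN : N.Normal] (hNc : (Nat.card N).Coprime p)
    (Z : Subgroup G) (hZ : IsPGroup p Z) (g : G)
    (hg : (QuotientGroup.mk' N) g ∈ Subgroup.centralizer
      ((Z.map (QuotientGroup.mk' N) : Subgroup (G ⧸ N)) : Set (G ⧸ N))) :
    ∃ n ∈ N, g * n ∈ Subgroup.centralizer (Z : Set G) := by
  classical
  have hmem : ∀ (z : Z) (x : (QuotientGroup.mk ⁻¹' {(g : G ⧸ N)} : Set G)),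
      (z : G) * x.1 * (z : G)⁻¹ ∈ (QuotientGroup.mk ⁻¹' {(g : G ⧸ N)} : Set G) := by
    intro z x
    have hx : (QuotientGroup.mk' N) x.1 = (QuotientGroup.mk' N) g := x.2
    change (QuotientGroup.mk' N) ((z : G) * x.1 * (z : G)⁻¹) = (QuotientGroup.mk' N) g
    rw [map_mul, map_mul, map_inv, hx]
    have hz : (QuotientGroup.mk' N) (z : G) ∈ Z.map (QuotientGroup.mk' N) :=
      Subgroup.mem_map_of_mem _ z.2
    have := Subgroup.mem_centralizer_iff.mp hg _ hz
    rw [this]; group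
  letI : MulAction Z (QuotientGroup.mk ⁻¹' {(g : G ⧸ N)} : Set G) :=
    { smul := fun z x => ⟨(z : G) * x.1 * (z : G)⁻¹, hmem z x⟩
      one_smul := fun x => Subtype.ext (by
        change ((1 : Z) : G) * x.1 * ((1 : Z) : G)⁻¹ = x.1
        simp)
      mul_smul := fun a b x => Subtype.ext (by
        change ((a * b : Z) : G) * x.1 * ((a * b : Z) : G)⁻¹
          = (a : G) * ((b : G) * x.1 * (b : G)⁻¹) * (a : G)⁻¹
        simp [mul_assoc]) }
  have hcard : Nat.card (QuotientGroup.mk ⁻¹' {(g : G ⧸ N)} : Set G) = Nat.card N := by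
    have := QuotientGroup.card_preimage_mk N ({(g : G ⧸ N)} : Set (G ⧸ N))
    simpa using this
  have hnd : ¬ p ∣ Nat.card (QuotientGroup.mk ⁻¹' {(g : G ⧸ N)} : Set G) := by
    rw [hcard]; exact (Nat.Prime.coprime_iff_not_dvd hp.out).mp hNc.symm
  obtain ⟨x, hx⟩ := hZ.nonempty_fixed_point_of_prime_not_dvd_card _ hnd
  have hxg : (QuotientGroup.mk' N) x.1 = (QuotientGroup.mk' N) g := x.2
  refine ⟨g⁻¹ * x.1, ?_, ?_⟩
  · have : (QuotientGroup.mk' N) (g⁻¹ * x.1) = 1 := by rw [map_mul, map_inv, hxg]; group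
    rw [QuotientGroup.mk'_apply, QuotientGroup.eq_one_iff] at this
    exact this
  · rw [mul_inv_cancel_left, Subgroup.mem_centralizer_iff]
    intro z hz
    have h1 := hx ⟨z, hz⟩
    have h2 : z * x.1 * z⁻¹ = x.1 := congrArg Subtype.val h1
    calc z * x.1 = (z * x.1 * z⁻¹) * z := by group
      _ = x.1 * z := by rw [h2]

theorem main {G : Type u} [Group G] [Finite G] {p : ℕ} [hp : Fact p.Prime] :
    Cfsg.IsThompsonFactorizable p G ↔
      Cfsg.IsThompsonFactorizable p (G ⧸ Cfsg.pPrimeCore p G) := by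
  have hNc : (Nat.card (Cfsg.pPrimeCore p G)).Coprime p := Helper23.pPrimeCore_coprime p
  have hπs : Function.Surjective (QuotientGroup.mk' (Cfsg.pPrimeCore p G)) :=
    QuotientGroup.mk'_surjective _
  have hObar : Cfsg.pPrimeCore p (G ⧸ Cfsg.pPrimeCore p G) = ⊥ :=
    Helper23.pPrimeCore_quotient_pPrimeCore p
  have hker : ∀ x : G, (QuotientGroup.mk' (Cfsg.pPrimeCore p G)) x = 1 ↔
      x ∈ Cfsg.pPrimeCore p G := fun x => by
    rw [QuotientGroup.mk'_apply, QuotientGroup.eq_one_iff]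
  have hinj : ∀ (Q : Subgroup G), IsPGroup p Q → ∀ x ∈ Q,
      (QuotientGroup.mk' (Cfsg.pPrimeCore p G)) x = 1 → x = 1 := by
    intro Q hQ x hx hx1
    have hxN : x ∈ Cfsg.pPrimeCore p G := (hker x).mp hx1
    have hQN : Q ⊓ Cfsg.pPrimeCore p G = ⊥ := by
      obtain ⟨k, hk⟩ := IsPGroup.iff_card.mp hQ
      apply disjoint_iff.mp
      apply Subgroup.disjoint_of_coprime_natCard
      rw [hk]; exact Nat.Coprime.pow_left k hNc.symm
    have : x ∈ Q ⊓ Cfsg.pPrimeCore p G := Subgroup.mem_inf.mpr ⟨hx, hxN⟩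
    rw [hQN, Subgroup.mem_bot] at this
    exact this
  have hΩle : ∀ K : Subgroup G, Cfsg.omegaOne p K ≤ K := by
    intro K
    unfold Cfsg.omegaOne
    rw [Subgroup.closure_le]
    rintro x ⟨hx, -⟩
    exact hx
  have hZmap : ∀ S : Sylow p G,
      (Cfsg.omegaOne p ((S : Subgroup G) ⊓ Subgroup.centralizer ((S : Subgroup G) : Set G))).map
        (QuotientGroup.mk' (Cfsg.pPrimeCore p G))
      = Cfsg.omegaOne p (((S : Subgroup G).map (QuotientGroup.mk' (Cfsg.pPrimeCore p G))) ⊓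
        Subgroup.centralizer ((((S : Subgroup G).map (QuotientGroup.mk' (Cfsg.pPrimeCore p G)))
          : Subgroup (G ⧸ Cfsg.pPrimeCore p G)) : Set (G ⧸ Cfsg.pPrimeCore p G))) := by
    intro S
    rw [omegaOne_map_of_injOn p _ _ (fun x hx => hinj S S.2 x (Subgroup.mem_inf.mp hx).1),
      map_center_of_injOn _ _ (hinj S S.2)]
  have hJmap : ∀ S : Sylow p G,
      Cfsg.thompsonSubgroupOf p ((S : Subgroup G).map (QuotientGroup.mk' (Cfsg.pPrimeCore p G)))
      = (Cfsg.thompsonSubgroupOf p (S : Subgroup G)).map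
          (QuotientGroup.mk' (Cfsg.pPrimeCore p G)) := fun S =>
    thompsonSubgroupOf_map_of_injOn p _ _ (hinj S S.2)
  constructor
  · intro hfac S' g'
    obtain ⟨S, rfl⟩ := Sylow.mapSurjective_surjective hπs p S'
    obtain ⟨g, rfl⟩ := hπs g'
    obtain ⟨x, hx, c, hc, n, hn, rfl⟩ := hfac S g
    refine ⟨1, one_mem _, (QuotientGroup.mk' (Cfsg.pPrimeCore p G)) c, ?_,
      (QuotientGroup.mk' (Cfsg.pPrimeCore p G)) n, ?_, ?_⟩
    · rw [Sylow.coe_mapSurjective, ← hZmap S, Subgroup.mem_centralizer_iff]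
      rintro _ ⟨z, hz, rfl⟩
      rw [← map_mul, ← map_mul, Subgroup.mem_centralizer_iff.mp hc z hz]
    · rw [Sylow.coe_mapSurjective, hJmap S]
      exact Subgroup.le_normalizer_map _ (Subgroup.mem_map_of_mem _ hn)
    · rw [one_mul, map_mul, map_mul, (hker x).mpr hx, one_mul]
  · intro hfac S g
    obtain ⟨x', hx', c', hc', n', hn', hg⟩ :=
      hfac (S.mapSurjective hπs) ((QuotientGroup.mk' (Cfsg.pPrimeCore p G)) g)
    rw [hObar, Subgroup.mem_bot] at hx'
    rw [Sylow.coe_mapSurjective, ← hZmap S] at hc'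
    rw [Sylow.coe_mapSurjective, hJmap S] at hn'
    obtain ⟨c₀, rfl⟩ := hπs c'
    obtain ⟨n₀, rfl⟩ := hπs n'
    have hZp : IsPGroup p (Cfsg.omegaOne p ((S : Subgroup G) ⊓
        Subgroup.centralizer ((S : Subgroup G) : Set G))) :=
      S.2.to_le ((hΩle _).trans inf_le_left)
    have hJp : IsPGroup p (Cfsg.thompsonSubgroupOf p (S : Subgroup G)) :=
      S.2.to_le (Subgroup.map_subtype_le _)
    obtain ⟨a, ha, hac⟩ := exists_mul_mem_centralizer_of_map p _ hNc _ hZp c₀ hc'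
    obtain ⟨b, hb, hbn⟩ := Helper7.exists_mul_mem_normalizer_of_map p _ hNc _ hJp n₀ hn'
    refine ⟨g * (c₀ * a * (b * n₀))⁻¹, ?_, c₀ * a, hac, b * n₀, hbn, by group⟩
    apply (hker _).mp
    rw [map_mul, map_inv, map_mul, map_mul, map_mul, hg, hx', (hker a).mpr ha, (hker b).mpr hb]
    group

/-- Thompson factorizability passes to and from the quotient by the largest normal subgroup of order prime to p. -/
theorem result {G : Type*} [Group G] [Finite G] {p : ℕ} [Fact p.Prime] : Cfsg.IsThompsonFactorizable p G ↔ Cfsg.IsThompsonFactorizable p (G ⧸ Cfsg.pPrimeCore p G) := by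
  exact main

end Cfsg.Agent.S0609
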