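import Mathlib
import Cfsg.Statements.S0613
import Cfsg.Agent.Helper19.BO3

set_option autoImplicit false
open Cfsg

namespace Cfsg.Agent.S0613

/-- A minimal nontrivially-acting best offender and a conjugate of it under a non-centralizing element of the p'-core generate SL(2, p) acting naturally on a plane, and p is 2 or 3. -/
theorem result {G : Type*} [Group G] [Finite G] {p : ℕ} [Fact p.Prime] (V H : Subgroup G) (hV : Cfsg.IsElementaryAbelian p V) (hHV : H ≤ Subgroup.normalizer (V : Set G)) (hf : H ⊓ Subgroup.centralizer (V : Set G) = ⊥) (hS1 : Subgroup.centralizer (Cfsg.pPrimeCore p ↥H : Set ↥H) ≤ Cfsg.pPrimeCore p ↥H) (hS3 : H = ⨆ A : {A : Subgroup G // A ≤ H ∧ Cfsg.IsBestOffenderOn p V A}, (A : Subgroup G)) (hH1 : H ≠ ⊥) (A : Subgroup G) (hAH : A ≤ H) (hA : Cfsg.IsBestOffenderOn p V A) (hAV : ⁅V, A⁆ ≠ ⊥) (hmin : ∀ B : Subgroup G, B ≤ A → Cfsg.IsBestOffenderOn p V B → ⁅V,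 B⁆ ≠ ⊥ → B = A) (x : G) (hx : x ∈ ((Cfsg.pPrimeCore p ↥H).map H.subtype)) (hxA : x ∉ Subgroup.centralizer (A : Set G)) : (p = 2 ∨ p = 3) ∧ Nat.card ↥(⁅V, A ⊔ A.map (MulAut.conj x).toMonoidHom⁆) = p ^ 2 ∧ (A ⊔ A.map (MulAut.conj x).toMonoidHom) ⊓ Subgroup.centralizer ((⁅V, A ⊔ A.map (MulAut.conj x).toMonoidHom⁆ : Subgroup G) : Set G) = ⊥ ∧ Nonempty (↥(A ⊔ A.map (MulAut.conj x).toMonoidHom) ≃* Matrix.SpecialLinearGroup (Fin 2) (ZMod p)) := by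
  have hp := (Fact.out : p.Prime)
  have S : Cfsg.Agent.Helper19.BO.Setup p V H := ⟨hV, hHV, hf, hS1⟩
  have hcard := Cfsg.Agent.Helper19.BO.min_offender S hAH hA hAV hmin
  obtain ⟨hVAcard, _, _⟩ := Cfsg.Agent.Helper19.BO.order_p_facts S hAH hA hcard
  obtain ⟨a, haA, ha1, hAz⟩ := Cfsg.Agent.Helper19.BO.exists_zpowers_of_card_prime hcard
  obtain ⟨c, hc, hc1, _⟩ := Cfsg.Agent.Helper19.BO.exists_zpowers_of_card_prime hVAcard
  have hxa : x * a ≠ a * x := by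
    intro h
    apply hxA
    rw [Subgroup.mem_centralizer_iff]
    intro y hy
    rw [hAz] at hy
    obtain ⟨n, rfl⟩ := Subgroup.mem_zpowers_iff.1 hy
    exact (Commute.zpow_left (h.symm : Commute a x) n).eq
  obtain ⟨i, j, hi, hj, hF, hUa, hLa', hEcl, hVE, hVEcard, hX, hfaith, hEle⟩ :=
    Cfsg.Agent.Helper19.BO.config S hAH hA hcard haA ha1 hc hc1 hx hxa
  obtain ⟨ρ, hρ⟩ := Cfsg.Agent.Helper19.SL2Rec.recognition hF hi hj hUa hLa' _ hEcl hfaith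
  exact ⟨Cfsg.Agent.Helper19.BO.p_eq_two_or_three S hAH hA hcard haA ha1 hF hUa
    (Subgroup.mem_sup_left haA) hEle ρ hρ, hVEcard, hX, ⟨ρ⟩⟩

end Cfsg.Agent.S0613
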