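import Mathlib
import Cfsg.Statements.S0614
import Cfsg.Agent.Helper19.BO4

set_option autoImplicit false
open Cfsg

namespace Cfsg.Agent.S0614

open scoped commutatorElement

/-- The commutator of the p'-core with a minimal nontrivially-acting best offender is a 3-group (when p = 2) or a non-abelian 2-group (when p = 3). -/
theorem result {G : Type*} [Group G] [Finite G] {p : ℕ} [Fact p.Prime] (V H : Subgroup G) (hV : Cfsg.IsElementaryAbelian p V) (hHV : H ≤ Subgroup.normalizer (V : Set G)) (hf : H ⊓ Subgroup.centralizer (V : Set G) = ⊥) (hS1 : Subgroup.centralizer (Cfsg.pPrimeCore p ↥H : Set ↥H) ≤ Cfsg.pPrimeCore p ↥H) (hS3 : H = ⨆ A : {A : Subgroup G // A ≤ H ∧ Cfsg.IsBestOffenderOn p V A}, (A : Subgroup G)) (hH1 : H ≠ ⊥) (A : Subgroup G) (hAH : A ≤ H) (hA : Cfsg.IsBestOffenderOn p V A) (hAV : ⁅V, A⁆ ≠ ⊥) (hmin : ∀ B : Subgroup G, B ≤ A → Cfsg.IsBestOffenderOn p V B → ⁅V, B⁆ ≠ ⊥ →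 B = A) : (p = 2 ∧ IsPGroup 3 ↥(⁅((Cfsg.pPrimeCore p ↥H).map H.subtype), A⁆)) ∨ (p = 3 ∧ IsPGroup 2 ↥(⁅((Cfsg.pPrimeCore p ↥H).map H.subtype), A⁆) ∧ ¬ IsMulCommutative ↥(⁅((Cfsg.pPrimeCore p ↥H).map H.subtype), A⁆)) := by
  have hp := (Fact.out : p.Prime)
  have S : Cfsg.Agent.Helper19.BO.Setup p V H := ⟨hV, hHV, hf, hS1⟩
  have hcard := Cfsg.Agent.Helper19.BO.min_offender S hAH hA hAV hmin
  obtain ⟨hVAcard, _, _⟩ := Cfsg.Agent.Helper19.BO.order_p_facts S hAH hA hcard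
  obtain ⟨a, haA, ha1, hAz⟩ := Cfsg.Agent.Helper19.BO.exists_zpowers_of_card_prime hcard
  obtain ⟨c, hc, hc1, _⟩ := Cfsg.Agent.Helper19.BO.exists_zpowers_of_card_prime hVAcard
  have hAp : IsPGroup p A := IsPGroup.of_card (n := 1) (by rw [hcard, pow_one])
  have hA1 : A ≠ ⊥ := by
    intro h
    rw [h] at haA
    exact ha1 (Subgroup.mem_bot.1 haA)
  have hnc := Cfsg.Agent.Helper19.BO.not_centralize S hAH hAp hA1
  obtain ⟨x, hx, hxa⟩ : ∃ x ∈ Cfsg.Agent.Helper19.BO.Qc p H, x * a ≠ a * x := by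
    by_contra hcon
    push Not at hcon
    apply hnc
    intro x hx
    rw [Subgroup.mem_centralizer_iff]
    intro y hy
    rw [hAz] at hy
    obtain ⟨n, rfl⟩ := Subgroup.mem_zpowers_iff.1 hy
    exact (Commute.zpow_left ((hcon x hx).symm : Commute a x) n).eq
  obtain ⟨i, j, hi, hj, hF, hUa, hLa', hEcl, hVE, hVEcard, hX, hfaith, hEle⟩ :=
    Cfsg.Agent.Helper19.BO.config S hAH hA hcard haA ha1 hc hc1 hx hxa
  obtain ⟨ρ, hρ⟩ := Cfsg.Agent.Helper19.SL2Rec.recognition hF hi hj hUa hLa' _ hEcl hfaith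
  have hp23 := Cfsg.Agent.Helper19.BO.p_eq_two_or_three S hAH hA hcard haA ha1 hF hUa
    (Subgroup.mem_sup_left haA) hEle ρ hρ
  rcases hp23 with hp2 | hp3
  · left
    refine ⟨hp2, ?_⟩
    haveI : Fact (Nat.Prime 3) := ⟨Nat.prime_three⟩
    exact Cfsg.Agent.Helper19.BO.comm_isPGroup S hAH hA hcard (q := 3) (N := 1)
      (fun y hy b hb => by
        rw [pow_one]
        exact (Cfsg.Agent.Helper19.BO.comm_pow_eq_one S hAH hA hcard hb hy).1 hp2)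
  · right
    refine ⟨hp3, ?_, ?_⟩
    · haveI : Fact (Nat.Prime 2) := ⟨Nat.prime_two⟩
      exact Cfsg.Agent.Helper19.BO.comm_isPGroup S hAH hA hcard (q := 2) (N := 3)
        (fun y hy b hb => (Cfsg.Agent.Helper19.BO.comm_pow_eq_one S hAH hA hcard hb hy).2 hp3)
    · intro hcomm
      obtain ⟨i', j', hi', hj', hF', hact1, hact2, _, _, _⟩ :=
        Cfsg.Agent.Helper19.BO.comm_acts S hAH hA hcard haA ha1 hc hc1 hx hxa
      have hm1 : ⁅x, a⁆ ∈ ⁅Cfsg.Agent.Helper19.BO.Qc p H, A⁆ :=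
        Subgroup.commutator_mem_commutator hx haA
      have hm2 : ⁅x, a⁻¹⁆ ∈ ⁅Cfsg.Agent.Helper19.BO.Qc p H, A⁆ :=
        Subgroup.commutator_mem_commutator hx (inv_mem haA)
      have hc12 : ⁅x, a⁆ * ⁅x, a⁻¹⁆ = ⁅x, a⁻¹⁆ * ⁅x, a⁆ :=
        congrArg Subtype.val (hcomm.is_comm.comm ⟨_, hm1⟩ ⟨_, hm2⟩)
      have h1 := hact1.mul hact2
      have h2 := hact2.mul hact1
      rw [hc12] at h1
      have h3 := Cfsg.Agent.Helper19.SL2Rec.ActsAs.unique hF' h1 h2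
      subst hp3
      exact Cfsg.Agent.Helper19.BO.mat3_ne i' j' hi' hj' h3

end Cfsg.Agent.S0614
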