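import Mathlib
import Cfsg.Statements.S0620
import Cfsg.Agent.Helper19.BO13

set_option autoImplicit false
open Cfsg

namespace Cfsg.Agent.S0620

/-- Under coprime action of an elementary abelian q-group X on a p-separable group K with trivial p'-core, K is generated by the normalizer of J(S), the centralizer of Ω₁(Z(S)) and the fixed points of X. -/
theorem result {G : Type*} [Group G] [Finite G] {p : ℕ} [Fact p.Prime] {q : ℕ} [Fact q.Prime] (K X : Subgroup G) (hXK : X ≤ Subgroup.normalizer (K : Set G)) (hX : Cfsg.IsElementaryAbelian q X) (hq : ¬ q ∣ Nat.card K) (hsep : Cfsg.IsPSolvable p ↥K) (hO : Cfsg.pPrimeCore p ↥K = ⊥) (S : Sylow p ↥K) : (Subgroup.normalizer (Cfsg.thompsonSubgroupOf p (S : Subgroup ↥K) : Set ↥K) ⊔ Subgroup.centralizer (Cfsg.omegaOne p ((S : Subgroup ↥K) ⊓ Subgroup.centralizer ((S : Subgroup ↥K) : Set ↥K)) : Set ↥K) ⊔ (Subgroup.centralizer (X : Set G)).subgroupOf K) = ⊤ := by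
  classical
  have hmem : ∀ x : X, ∀ k : K, (x : G) * k * (x : G)⁻¹ ∈ K := fun x k =>
    (Subgroup.mem_normalizer_iff.1 (hXK x.2) k).1 k.2
  have hmem' : ∀ x : X, ∀ k : K, (x : G)⁻¹ * k * (x : G) ∈ K := fun x k => by
    have h := (Subgroup.mem_normalizer_iff.1 (hXK (X.inv_mem x.2)) k).1 k.2
    simpa using h
  obtain ⟨act, hact⟩ : ∃ act : ↥X →* MulAut ↥K,
      ∀ (x : X) (k : K), ((act x k : K) : G) = x * k * (x : G)⁻¹ :=
    ⟨{ toFun := fun x =>
        { toFun := fun k => ⟨x * k * (x : G)⁻¹, hmem x k⟩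
          invFun := fun k => ⟨(x : G)⁻¹ * k * x, hmem' x k⟩
          left_inv := fun k => Subtype.ext (by simp [mul_assoc])
          right_inv := fun k => Subtype.ext (by simp [mul_assoc])
          map_mul' := fun a b => Subtype.ext (by simp [mul_assoc]) }
       map_one' := by
        ext k
        simp
       map_mul' := fun a b => by
        ext k
        simp [mul_assoc] }, fun x k => rfl⟩
  have hXp : IsPGroup q ↥X := Cfsg.Agent.Helper3.elemAb_isPGroup hX
  have h := Cfsg.Agent.Helper19.HOL.gen_fixed act hXp hq hsep hO S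
  rw [eq_top_iff, ← h]
  refine sup_le le_sup_left ?_
  intro k hk
  apply Subgroup.mem_sup_right
  rw [Subgroup.mem_subgroupOf]
  refine Subgroup.mem_centralizer_iff.2 fun x hx => ?_
  have h2 : (k : G) = x * k * x⁻¹ := by
    have h3 := hact ⟨x, hx⟩ k
    rw [Cfsg.Agent.Helper19.HOL.mem_fixedSub.1 hk] at h3
    exact h3
  calc x * (k : G) = (x * k * x⁻¹) * x := by group
    _ = (k : G) * x := by rw [← h2]

end Cfsg.Agent.S0620
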