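import Mathlib
import Cfsg.Statements.S0621
import Cfsg.Agent.Helper19.BO12

set_option autoImplicit false
open Cfsg

namespace Cfsg.Agent.S0621

/-- Let K be p-separable with O_p'(K) = 1, normalized by an elementary abelian q-group X for a prime q not dividing the order of K. If the Thompson factorization fails in K, then p is 2 or 3 and the fixed points of X contain a plane W of order p² and a subgroup inducing SL(2, p) on it. -/
theorem result {G : Type*} [Group G] [Finite G] {p : ℕ} [Fact p.Prime] {q : ℕ} [Fact q.Prime] (K X : Subgroup G) (hXK : X ≤ Subgroup.normalizer (K : Set G)) (hX : Cfsg.IsElementaryAbelian q X) (hq : ¬ q ∣ Nat.card K) (hsep : Cfsg.IsPSolvable p ↥K) (hO : Cfsg.pPrimeCore p ↥K = ⊥) (hnf : ¬ Cfsg.IsThompsonFactorizable p ↥K) : (p = 2 ∨ p = 3) ∧ ∃ W D : Subgroup G, W ≤ K ⊓ Subgroup.centralizer (X : Set G) ∧ D ≤ K ⊓ Subgroup.centralizer (X : Set G) ∧ Cfsg.IsElementaryAbelian p W ∧ Nat.card W = p ^ 2 ∧ D ≤ Subgroup.normalizer (W : Set G) ∧ ∃ hn : ((Subgroup.centralizer (W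 : Set G)).subgroupOf D).Normal, Nonempty ((↥D ⧸ (Subgroup.centralizer (W : Set G)).subgroupOf D) ≃* Matrix.SpecialLinearGroup (Fin 2) (ZMod p)) := by
  classical
  have hmem : ∀ x : X, ∀ k : K, (x : G) * k * (x : G)⁻¹ ∈ K := fun x k =>
    (Subgroup.mem_normalizer_iff.1 (hXK x.2) k).1 k.2
  have hmem' : ∀ x : X, ∀ k : K, (x : G)⁻¹ * k * (x : G) ∈ K := fun x k => by
    have h := (Subgroup.mem_normalizer_iff.1 (hXK (X.inv_mem x.2)) k).1 k.2
    simpa using h
  obtain ⟨act, hact⟩ : ∃ act : ↥X →* MulAut ↥K,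
      ∀ (x : X) (k : K), ((act x k : K) : G) = x * k * (x : G)⁻¹ :=
    ⟨{ toFun := fun x =>
        { toFun := fun k => ⟨x * k * (x : G)⁻¹, hmem x k⟩
          invFun := fun k => ⟨(x : G)⁻¹ * k * x, hmem' x k⟩
          left_inv := fun k => Subtype.ext (by simp [mul_assoc])
          right_inv := fun k => Subtype.ext (by simp [mul_assoc])
          map_mul' := fun a b => Subtype.ext (by simp [mul_assoc]) }
       map_one' := by
        ext k
        simp
       map_mul' := fun a b => by
        ext k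
        simp [mul_assoc] }, fun x k => rfl⟩
  have hXp : IsPGroup q ↥X := Cfsg.Agent.Helper3.elemAb_isPGroup hX
  obtain ⟨hp, WK, DK, hWfix, hDfix, hWel, hWcard, hDN, f, hfsurj, hfker⟩ :=
    Cfsg.Agent.Helper19.HOL.fixed_plane act hXp hq hsep hO hnf
  have hfixC : ∀ k : K, (∀ y, act y k = k) → (k : G) ∈ Subgroup.centralizer (X : Set G) := by
    intro k hk
    refine Subgroup.mem_centralizer_iff.2 fun x hx => ?_
    have h2 : (k : G) = x * k * x⁻¹ := by
      have h := hact ⟨x, hx⟩ k
      rw [hk] at h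
      exact h
    calc x * (k : G) = (x * k * x⁻¹) * x := by group
      _ = (k : G) * x := by rw [← h2]
  refine ⟨hp, WK.map K.subtype, DK.map K.subtype, ?_, ?_, ?_, ?_, ?_, ?_⟩
  · rintro _ ⟨w, hw, rfl⟩
    exact Subgroup.mem_inf.2 ⟨w.2, hfixC w (hWfix w hw)⟩
  · rintro _ ⟨d, hd, rfl⟩
    exact Subgroup.mem_inf.2 ⟨d.2, hfixC d (hDfix d hd)⟩
  · exact Cfsg.Agent.Helper3.elemAb_map hWel K.subtype
  · rw [Subgroup.card_map_of_injective K.subtype_injective]
    exact hWcard
  · exact (Subgroup.map_mono hDN).trans (Subgroup.le_normalizer_map _)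
  · obtain ⟨e, he⟩ : ∃ e : ↥DK ≃* ↥(DK.map K.subtype), ∀ d : DK, ((e d : G)) = ((d : K) : G) :=
      ⟨Subgroup.equivMapOfInjective DK K.subtype K.subtype_injective, fun d => rfl⟩
    obtain ⟨fG, hfG⟩ : ∃ fG : ↥(DK.map K.subtype) →* Matrix.SpecialLinearGroup (Fin 2) (ZMod p),
        ∀ d, fG d = f (e.symm d) := ⟨f.comp e.symm.toMonoidHom, fun d => rfl⟩
    have hsurjG : Function.Surjective fG := by
      intro m
      obtain ⟨d, hd⟩ := hfsurj m
      refine ⟨e d, ?_⟩
      rw [hfG, e.symm_apply_apply, hd]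
    have hfk : (Subgroup.centralizer ((WK.map K.subtype : Subgroup G) : Set G)).subgroupOf
        (DK.map K.subtype) = fG.ker := by
      ext d
      rw [Subgroup.mem_subgroupOf, MonoidHom.mem_ker, hfG, hfker]
      have hd : (((e.symm d : DK) : K) : G) = d := by
        have h := he (e.symm d)
        rw [e.apply_symm_apply] at h
        exact h.symm
      constructor
      · intro h
        rw [Subgroup.mem_centralizer_iff]
        intro w hw
        apply Subtype.ext
        have h1 := Subgroup.mem_centralizer_iff.1 h (w : G) ⟨w, hw, rfl⟩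
        rw [← hd] at h1
        exact h1
      · intro h
        rw [Subgroup.mem_centralizer_iff]
        rintro _ ⟨w, hw, rfl⟩
        have h1 := Subgroup.mem_centralizer_iff.1 h w hw
        rw [← hd]
        exact congrArg Subtype.val h1
    have hn : ((Subgroup.centralizer ((WK.map K.subtype : Subgroup G) : Set G)).subgroupOf
        (DK.map K.subtype)).Normal := by
      rw [hfk]
      infer_instance
    haveI := hn
    exact ⟨hn, ⟨(QuotientGroup.quotientMulEquivOfEq hfk).trans
      (QuotientGroup.quotientKerEquivOfSurjective fG hsurjG)⟩⟩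

end Cfsg.Agent.S0621
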