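import Mathlib
import Cfsg.Statements.S0630
import Cfsg.Agent.Helper7.PLayer

set_option autoImplicit false
open Cfsg

namespace Cfsg.Agent.S0630

open Cfsg.Agent.Helper7

/-- p-constraint passes to and from the quotient by the largest normal subgroup of order prime to p. -/
theorem result {G : Type*} [Group G] [Finite G] {p : ℕ} [Fact p.Prime] : Cfsg.IsPConstrained p G ↔ Cfsg.IsPConstrained p (G ⧸ Cfsg.pPrimeCore p G) := by
  rw [isPConstrained_iff_pLayer_eq_bot p, isPConstrained_iff_pLayer_eq_bot p,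
    pLayer_eq_bot_iff p, pLayer_eq_bot_iff p]
  have hbot : Cfsg.pPrimeCore p (G ⧸ Cfsg.pPrimeCore p G) = ⊥ :=
    Cfsg.Agent.Helper23.pPrimeCore_quotient_pPrimeCore p
  have hsurj := QuotientGroup.mk'_surjective (Cfsg.pPrimeCore p (G ⧸ Cfsg.pPrimeCore p G))
  have hker : (QuotientGroup.mk' (Cfsg.pPrimeCore p (G ⧸ Cfsg.pPrimeCore p G))).ker =
      (MonoidHom.id (G ⧸ Cfsg.pPrimeCore p G)).ker := by
    rw [QuotientGroup.ker_mk', hbot]
    ext x
    simp [MonoidHom.mem_ker]
  constructor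
  · intro h Kb hKb
    have hK : (Kb.comap (QuotientGroup.mk' (Cfsg.pPrimeCore p (G ⧸ Cfsg.pPrimeCore p G)))).map
        (QuotientGroup.mk' (Cfsg.pPrimeCore p (G ⧸ Cfsg.pPrimeCore p G))) = Kb :=
      Subgroup.map_comap_eq_self_of_surjective hsurj Kb
    rw [← hK] at hKb
    have h2 := isComponent_map_of_ker_eq
      (QuotientGroup.mk' (Cfsg.pPrimeCore p (G ⧸ Cfsg.pPrimeCore p G)))
      (MonoidHom.id (G ⧸ Cfsg.pPrimeCore p G)) hsurj Function.surjective_id hker hKb
    rw [Subgroup.map_id] at h2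
    exact h _ h2
  · intro h K hK
    have h2 := isComponent_map_of_ker_eq
      (MonoidHom.id (G ⧸ Cfsg.pPrimeCore p G))
      (QuotientGroup.mk' (Cfsg.pPrimeCore p (G ⧸ Cfsg.pPrimeCore p G)))
      Function.surjective_id hsurj hker.symm (K := K) (by rw [Subgroup.map_id]; exact hK)
    exact h _ h2

end Cfsg.Agent.S0630
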