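import Mathlib
import Cfsg.Statements.S0631
import Cfsg.Agent.Helper7.PLayer
import Cfsg.Agent.Helper7.CharP
import Cfsg.Agent.Helper7.LBalance4

set_option autoImplicit false
open Cfsg

namespace Cfsg.Agent.S0631

open Cfsg.Agent.Helper7

/-- A subgroup `C` normalized by a subgroup `N ≥ C` with trivial `p`-layer has trivial
`p`-layer. -/
theorem centralizer_case {G : Type*} [Group G] [Finite G] {p : ℕ} [Fact p.Prime]
    (C N : Subgroup G) (hCN : C ≤ N) (hNC : N ≤ Subgroup.normalizer (C : Set G))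
    (hN : Cfsg.pLayer p ↥N = ⊥) : Cfsg.pLayer p ↥C = ⊥ := by
  rw [pLayer_eq_bot_iff p] at hN ⊢
  intro Kb hKb
  let ψ : ↥C →* ↥N ⧸ Cfsg.pPrimeCore p ↥N :=
    (QuotientGroup.mk' (Cfsg.pPrimeCore p ↥N)).comp (Subgroup.inclusion hCN)
  have hrange : ψ.range = (C.subgroupOf N).map (QuotientGroup.mk' (Cfsg.pPrimeCore p ↥N)) := by
    rw [← Subgroup.inclusion_range hCN, MonoidHom.map_range]
  have hCn : (C.subgroupOf N).Normal :=
    (Subgroup.normal_subgroupOf_iff_le_normalizer hCN).mpr hNC
  have hnorm : ψ.range.Normal := by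
    rw [hrange]
    exact hCn.map _ (QuotientGroup.mk'_surjective _)
  have hkerψ : ψ.ker = (Cfsg.pPrimeCore p ↥N).comap (Subgroup.inclusion hCN) := by
    ext c
    rw [MonoidHom.mem_ker, Subgroup.mem_comap]
    show (QuotientGroup.mk' (Cfsg.pPrimeCore p ↥N)) (Subgroup.inclusion hCN c) = 1 ↔ _
    rw [QuotientGroup.mk'_apply, QuotientGroup.eq_one_iff]
  have hker : (QuotientGroup.mk' (Cfsg.pPrimeCore p ↥C)).ker = ψ.rangeRestrict.ker := by
    rw [MonoidHom.ker_rangeRestrict, QuotientGroup.ker_mk', hkerψ]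
    apply le_antisymm
    · intro c hc
      rw [Subgroup.mem_comap]
      have h1 : (c : G) ∈ (Cfsg.pPrimeCore p ↥C).map C.subtype := ⟨c, hc, rfl⟩
      obtain ⟨y, hy, hyc⟩ := pPrimeCore_map_le_of_normal_in p C N hCN hNC h1
      have h2 : Subgroup.inclusion hCN c = y := Subtype.ext hyc.symm
      rw [h2]
      exact hy
    · apply Cfsg.Agent.Helper23.le_pPrimeCore (Subgroup.Normal.comap inferInstance _)
      exact Nat.Coprime.coprime_dvd_left
        (Subgroup.card_comap_dvd_of_injective _ _ (Subgroup.inclusion_injective hCN))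
        (Cfsg.Agent.Helper23.pPrimeCore_coprime p)
  have hmc : (Kb.comap (QuotientGroup.mk' (Cfsg.pPrimeCore p ↥C))).map
      (QuotientGroup.mk' (Cfsg.pPrimeCore p ↥C)) = Kb :=
    Subgroup.map_comap_eq_self_of_surjective (QuotientGroup.mk'_surjective _) Kb
  have hcomp := isComponent_map_of_ker_eq (QuotientGroup.mk' (Cfsg.pPrimeCore p ↥C))
    ψ.rangeRestrict (QuotientGroup.mk'_surjective _) ψ.rangeRestrict_surjective hker
    (K := Kb.comap (QuotientGroup.mk' (Cfsg.pPrimeCore p ↥C))) (by rw [hmc]; exact hKb)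
  have hcomp2 := (isComponent_map_subtype hnorm.isSubnormal _).mp hcomp
  exact hN _ hcomp2

/-- In a p-constrained group the normalizer and the centralizer of any p-subgroup are again p-constrained. -/
theorem result {G : Type*} [Group G] [Finite G] {p : ℕ} [Fact p.Prime] (hG : Cfsg.IsPConstrained p G) (P : Subgroup G) (hP : IsPGroup p P) : Cfsg.IsPConstrained p ↥(Subgroup.normalizer (P : Set G)) ∧ Cfsg.IsPConstrained p ↥(Subgroup.centralizer (P : Set G)) := by
  have hL := (isPConstrained_iff_pLayer_eq_bot p).mp hG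
  have hNL := (pLocal_of_pLayer_eq_bot p hL P hP).1
  refine ⟨(isPConstrained_iff_pLayer_eq_bot p).mpr hNL,
    (isPConstrained_iff_pLayer_eq_bot p).mpr ?_⟩
  exact centralizer_case _ _ (Subgroup.centralizer_le_normalizer _)
    (normalizer_le_normalizer_centralizer' P) hNL

end Cfsg.Agent.S0631
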