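-- S0637: proof by helper7
import Cfsg.Statements.S0637
import Mathlib
import Cfsg.Agent.Helper7.Hup
import Cfsg.Agent.S0638

set_option autoImplicit false
open Cfsg

namespace Cfsg.Agent.S0637

/-- For p greater than 3, the bound p² on the order of the subgroup generated by the elements of order dividing p passes from a p-group to all its quotients. -/
theorem result {R : Type*} [Group R] [Finite R] {p : ℕ} [Fact p.Prime] (hp : 3 < p) (hR : IsPGroup p R) (hO : Nat.card ↥(Cfsg.omegaOne p (⊤ : Subgroup R)) ≤ p ^ 2) (T : Subgroup R) [T.Normal] : Nat.card ↥(Cfsg.omegaOne p (⊤ : Subgroup (R ⧸ T))) ≤ p ^ 2 := by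
  have hpp : p.Prime := Fact.out
  have hW := le_trans (Cfsg.Agent.Helper7.PU.sol_le_omega (R := R) p) hO
  have hmR : Cfsg.IsMetacyclic R := Cfsg.Agent.Helper7.PU.huppert p hp _ R rfl hR hW
  obtain ⟨a, b, hMC⟩ := Cfsg.Agent.Helper8.Meta.exists_MC hmR
  have hmQ : Cfsg.IsMetacyclic (R ⧸ T) := Cfsg.Agent.Helper7.PU.metacyclic_of_MC (hMC.quot T)
  have hp2 : p ≠ 2 := by omega
  by_cases hcyc : IsCyclic (R ⧸ T)
  · haveI := hcyc
    refine le_trans (Cfsg.Agent.Helper7.PU.omega_le_sol p ?_)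
      (le_trans (Cfsg.Agent.Helper7.PU.cyclic_sol_le p hpp.pos) (Nat.le_self_pow (by norm_num) p))
    intro x y hx hy
    obtain ⟨g, hg⟩ := IsCyclic.exists_generator (α := R ⧸ T)
    obtain ⟨i, rfl⟩ := Subgroup.mem_zpowers_iff.mp (hg x)
    obtain ⟨j, rfl⟩ := Subgroup.mem_zpowers_iff.mp (hg y)
    rw [((Commute.refl g).zpow_zpow i j).mul_pow, hx, hy, one_mul]
  · exact le_of_eq (Cfsg.Agent.S0638.result hp2 (hR.to_quotient T) hmQ hcyc).2

end Cfsg.Agent.S0637
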