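import Cfsg.Statements.S0651
import Cfsg.Agent.Helper23.GlaubRepl

set_option autoImplicit false
open Cfsg

namespace Cfsg.Agent.S0651

/-- For odd p and D normal in the p-group S, the abelian subgroups of D of largest order satisfy the replacement property: a class-2 normal subgroup B of S with a member containing [B, B] but not B normalizes some such member. -/
theorem result {S : Type*} [Group S] [Finite S] {p : ℕ} [Fact p.Prime] (hS : IsPGroup p S) (hp : p ≠ 2) (D : Subgroup S) [D.Normal] : ∀ (B : Subgroup S) [B.Normal], ⁅⁅B, B⁆, B⁆ = ⊥ → (∃ U ∈ (Set.image (fun A : Subgroup ↥D => A.map D.subtype) (Cfsg.maxAbelianSubgroups ↥D)), ⁅B, B⁆ ≤ U ∧ ¬ B ≤ U) → ∃ A ∈ (Set.image (fun A : Subgroup ↥D => A.map D.subtype) (Cfsg.maxAbelianSubgroups ↥D)), ⁅B, B⁆ ≤ A ∧ ¬ B ≤ A ∧ B ≤ Subgroup.normalizer (A : Set S) := by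
  intro B _ _ hU
  refine Cfsg.Agent.Helper23.replacement_family hS hp _ ?_ B ?_ hU
  · rintro A ⟨A₀, hA₀, rfl⟩
    have := hA₀.1
    infer_instance
  · rintro A ⟨A₀, hA₀, rfl⟩ hBA b hb hbN hbA
    have hA₀c : IsMulCommutative ↥A₀ := hA₀.1
    have hAc : IsMulCommutative ↥(A₀.map D.subtype) := inferInstance
    have hnot : ¬ B ≤ Subgroup.normalizer ((A₀.map D.subtype : Subgroup S) : Set S) :=
      fun h => hbA (h hb)
    obtain ⟨c1, c2, -⟩ := Cfsg.Agent.S0650.result hS B (fun h => absurd h hp)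
      (A₀.map D.subtype) hAc hBA hnot b hb hbN hbA
    have hAD : A₀.map D.subtype ≤ D := Subgroup.map_subtype_le A₀
    have hAsD : (A₀.map D.subtype ⊓ (A₀.map D.subtype).map (MulAut.conj (b⁻¹)).toMonoidHom) ⊔
        Subgroup.closure {g : S | ∃ a ∈ A₀.map D.subtype, g = a * b⁻¹ * a⁻¹ * b} ≤ D := by
      refine sup_le (inf_le_left.trans hAD) ((Subgroup.closure_le _).2 ?_)
      rintro g ⟨a, ha, rfl⟩
      have hDn : D.Normal := inferInstance
      have e : a * b⁻¹ * a⁻¹ * b = a * (b⁻¹ * a⁻¹ * b) := by group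
      rw [e]
      exact mul_mem (hAD ha) (hDn.conj_mem' _ (inv_mem (hAD ha)) b)
    refine ⟨_, ⟨?_, ?_⟩, Subgroup.map_subgroupOf_eq_of_le hAsD⟩
    · have := c2
      infer_instance
    · intro B₀ hB₀
      calc Nat.card ↥B₀ ≤ Nat.card ↥A₀ := hA₀.2 B₀ hB₀
        _ = Nat.card ↥(A₀.map D.subtype) :=
          (Subgroup.card_map_of_injective D.subtype_injective).symm
        _ = _ := c1.symm
        _ = _ := (Nat.card_congr (Subgroup.subgroupOfEquivOfLe hAsD).toEquiv).symm

end Cfsg.Agent.S0651
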