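import Mathlib
import Cfsg.Statements.S0693
import Cfsg.Agent.Helper17.RegGL2

set_option autoImplicit false
open Cfsg

namespace Cfsg.Agent.S0693

open Cfsg.Agent.Helper17.RegGL2

def gp : List (M4 × M4) := [((0,58,1,0),(0,1,58,0)), ((9,15,49,49),(49,44,10,9)), ((4,0,0,4),(15,0,0,15))]

def row0 : List M4 := [(0,0,0,0),(58,0,0,1),(57,0,2,18),(56,0,2,26),(55,0,2,2),(54,0,2,4),(53,0,2,14),(52,0,2,10),(51,0,2,19),(50,0,2,22),(49,0,2,21),(48,0,2,30),(47,0,2,27),(46,0,2,11),(45,0,2,27),(44,0,2,29),(43,0,2,3),(42,0,2,21),(41,0,2,10),(40,0,2,20),(39,0,2,5),(38,0,2,6),(37,0,2,14),(36,0,2,25),(35,0,2,15),(34,0,2,7),(33,0,2,24),(32,0,2,18),(31,0,2,11),(30,0,2,15),(29,0,2,17),(28,0,2,13),(27,0,2,20),(26,0,2,26),(25,0,2,9),(24,0,2,13),(23,0,2,23),(22,0,2,16),(21,0,2,8),(20,0,2,7),(19,0,2,22),(18,0,2,8),(17,0,2,23),(16,0,2,5),(15,0,2,31),(14,0,2,25),(13,0,2,9),(12,0,2,29),(11,0,2,28),(10,0,2,19),(9,0,2,24),(8,0,2,17),(7,0,2,12),(6,0,2,12),(5,0,2,6),(4,0,2,4),(3,0,2,28),(2,0,2,16),(1,0,0,3)]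
def row1 : List M4 := [(0,1,0,0),(54,31,2,14),(2,8,2,20),(30,58,2,34),(29,58,1,4),(5,45,2,7),(18,16,2,35),(21,48,2,32),(8,58,2,32),(47,58,2,34),(45,23,2,21),(38,26,2,23),(41,12,2,9),(13,21,2,12),(36,39,2,27),(46,58,2,21),(56,18,2,26),(33,39,2,29),(6,16,2,34),(23,40,2,3),(53,25,2,30),(7,48,2,33),(22,58,2,16),(19,40,2,6),(32,58,2,34),(28,12,2,9),(26,9,2,30),(27,38,2,20),(25,12,2,5),(4,58,0,6),(3,58,2,32),(58,5,2,16),(24,58,2,33),(17,39,2,31),(48,58,2,35),(35,14,2,17),(14,39,2,28),(52,5,2,12),(11,26,2,24),(39,49,2,37),(51,56,2,27),(12,12,2,14),(49,56,2,22),(43,46,2,34),(44,37,2,35),(10,23,2,20),(15,58,2,19),(9,58,2,36),(34,58,2,33),(42,56,2,25),(50,42,2,14),(40,56,2,29),(37,5,2,12),(20,25,2,33),(1,31,2,15),(55,52,2,21),(16,18,2,25),(57,53,2,19),(31,5,2,13)]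
def row2 : List M4 := [(0,2,2,17),(6,57,2,20),(49,3,2,31),(57,10,2,29),(4,16,2,8),(48,57,2,17),(1,57,2,21),(34,19,2,19),(58,57,2,21),(37,57,2,19),(10,31,2,24),(11,28,2,30),(36,32,2,19),(28,19,2,12),(42,37,2,16),(45,10,2,25),(16,57,2,18),(22,52,2,12),(35,57,2,18),(19,39,2,25),(31,46,2,34),(43,53,2,11),(17,52,2,11),(24,24,2,27),(23,24,2,26),(39,53,2,10),(26,42,2,29),(27,33,2,22),(13,19,2,15),(29,15,2,19),(33,57,2,34),(20,46,2,37),(53,36,2,14),(30,57,2,36),(7,19,2,17),(18,57,2,20),(12,32,2,22),(9,57,2,21),(46,21,2,20),(25,53,2,9),(47,50,2,18),(41,25,2,27),(14,37,2,20),(21,53,2,13),(44,57,2,30),(15,10,2,25),(38,21,2,19),(40,50,2,17),(5,57,2,19),(2,3,2,28),(56,24,2,22),(51,45,2,34),(52,18,2,14),(32,36,2,13),(54,17,2,36),(55,47,2,35),(50,24,2,22),(3,10,2,30),(8,57,2,23)]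
def row3 : List M4 := [(0,3,2,25),(41,16,2,26),(35,50,2,23),(44,34,2,10),(21,26,2,29),(36,36,2,10),(6,24,2,16),(7,56,1,12),(29,50,2,18),(31,56,2,30),(57,2,2,31),(11,20,2,30),(28,56,2,29),(37,56,2,30),(14,52,2,31),(15,17,2,32),(25,36,2,34),(30,10,2,16),(54,48,2,31),(19,27,2,26),(45,56,2,15),(4,26,2,28),(22,55,2,16),(27,56,2,32),(24,56,2,28),(16,36,2,30),(43,56,2,29),(23,56,2,30),(12,56,2,31),(8,50,2,21),(17,10,2,17),(9,56,2,28),(32,8,2,39),(55,19,2,19),(56,15,2,12),(2,50,2,25),(5,36,2,5),(13,56,2,29),(52,15,2,8),(39,4,2,8),(51,58,2,27),(1,16,2,29),(49,58,2,23),(26,56,2,31),(3,34,2,11),(20,56,2,17),(46,42,2,13),(47,38,2,17),(50,54,2,22),(42,58,2,24),(48,54,2,21),(40,58,2,25),(38,15,2,8),(53,41,2,15),(18,48,2,30),(33,19,2,20),(34,15,2,9),(10,2,2,28),(58,29,2,33)]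
def row4 : List M4 := [(0,4,2,1),(7,55,2,22),(12,55,2,33),(40,33,2,21),(39,6,2,15),(47,13,2,27),(55,20,2,17),(1,55,2,20),(8,32,2,21),(14,38,2,30),(37,55,2,34),(36,55,0,8),(2,55,2,35),(24,5,2,35),(9,38,2,32),(18,55,2,34),(57,55,2,5),(33,42,2,4),(15,55,2,36),(50,47,2,26),(20,3,2,8),(35,41,2,31),(22,56,2,18),(23,50,2,15),(13,5,2,36),(28,15,2,34),(56,38,2,29),(42,47,2,30),(25,15,2,33),(29,55,2,17),(31,20,2,13),(30,20,2,13),(32,55,2,33),(17,42,2,7),(44,45,2,25),(21,41,2,34),(11,55,1,6),(10,55,2,35),(38,19,2,38),(4,6,2,16),(3,33,2,22),(53,48,2,10),(27,47,2,28),(43,31,2,22),(34,45,2,24),(45,36,2,31),(48,48,2,15),(5,13,2,26),(46,48,2,10),(49,34,2,21),(19,47,2,23),(51,35,2,20),(52,25,2,13),(41,48,2,6),(54,7,2,35),(6,20,2,14),(26,38,2,28),(16,55,2,7),(58,30,0,7)]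
def row5 : List M4 := [(0,5,2,3),(28,1,2,12),(42,54,2,37),(11,18,2,31),(52,54,2,36),(34,37,2,17),(6,46,2,15),(22,1,2,12),(24,25,2,15),(33,44,2,28),(10,40,2,23),(3,18,2,30),(12,45,2,33),(55,12,2,27),(14,33,2,17),(32,54,2,37),(53,54,2,24),(17,13,2,23),(18,9,2,11),(23,44,2,32),(27,54,2,7),(44,31,2,29),(7,1,2,8),(19,44,2,30),(8,25,2,15),(25,48,2,10),(47,18,2,32),(20,54,2,9),(1,1,2,17),(41,7,2,36),(31,21,1,9),(30,21,0,8),(15,54,2,35),(9,44,2,25),(5,37,2,18),(46,4,2,35),(56,23,2,6),(54,25,2,19),(38,53,1,8),(39,24,2,24),(40,54,2,35),(29,7,2,33),(2,54,2,36),(43,8,2,9),(21,31,2,28),(58,54,2,8),(35,4,2,36),(26,18,2,34),(50,56,2,23),(49,29,2,22),(48,56,2,24),(51,54,2,19),(4,54,2,38),(16,54,2,22),(37,25,2,16),(13,12,2,26),(36,23,2,9),(57,11,2,20),(45,54,2,10)]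
def row6 : List M4 := [(0,6,2,13),(34,20,2,30),(23,32,2,14),(18,53,2,16),(11,41,2,7),(5,16,2,23),(29,9,2,27),(51,38,2,36),(42,52,2,16),(53,30,2,25),(13,13,2,23),(4,41,2,9),(12,48,2,33),(10,13,2,22),(14,53,2,26),(26,53,2,13),(58,41,2,35),(45,30,2,21),(3,53,2,17),(19,8,2,25),(55,4,2,15),(43,57,2,15),(22,40,2,18),(2,32,2,13),(56,53,2,17),(39,57,2,11),(15,53,2,15),(52,53,2,15),(28,45,2,15),(6,9,2,24),(30,34,2,20),(40,53,2,30),(50,13,2,18),(33,25,2,26),(1,20,2,33),(35,17,2,30),(49,37,2,15),(41,49,2,10),(38,54,1,10),(25,57,2,8),(31,53,2,32),(37,49,2,9),(8,52,2,12),(21,57,2,13),(44,51,2,32),(17,30,2,21),(54,53,2,16),(47,23,2,31),(48,53,2,14),(36,37,2,18),(32,13,2,18),(7,38,2,37),(27,53,2,17),(9,30,2,26),(46,53,2,14),(20,4,2,16),(24,53,2,19),(57,58,2,21),(16,41,2,34)]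
def row7 : List M4 := [(0,7,2,9),(54,37,2,9),(41,52,2,15),(44,38,2,9),(34,52,2,14),(5,4,2,39),(6,27,2,14),(24,40,2,23),(42,53,2,14),(9,39,2,26),(23,35,2,21),(20,43,2,30),(12,30,2,29),(13,23,2,15),(14,56,2,29),(43,44,2,12),(39,37,2,37),(22,57,2,13),(30,5,2,32),(57,25,2,14),(11,43,2,29),(33,52,2,14),(17,57,2,10),(10,35,2,21),(7,40,2,24),(51,25,2,18),(28,52,2,15),(46,52,2,28),(26,52,2,13),(49,41,2,13),(18,5,2,33),(31,10,2,30),(32,29,2,21),(21,52,2,12),(4,52,2,16),(35,20,2,16),(36,52,2,25),(37,48,2,17),(53,8,2,34),(16,37,2,36),(52,35,2,25),(2,52,2,13),(8,53,2,15),(15,44,2,15),(3,38,2,7),(45,17,2,28),(27,52,2,30),(50,52,2,13),(58,38,2,34),(29,41,2,12),(47,52,2,14),(25,25,2,23),(40,35,2,22),(38,8,2,35),(1,37,2,11),(55,58,2,23),(56,52,0,12),(19,25,2,18),(48,38,2,31)]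
def row8 : List M4 := [(0,8,2,18),(3,40,2,26),(14,51,2,35),(1,40,2,26),(24,51,2,21),(5,51,2,19),(21,7,2,38),(34,25,2,20),(19,12,2,32),(29,31,2,13),(35,26,2,15),(42,23,2,18),(51,40,2,30),(22,51,2,19),(2,51,2,37),(20,51,2,20),(16,5,2,9),(17,38,2,26),(28,17,2,18),(8,12,2,29),(15,51,2,18),(6,7,2,35),(13,51,2,21),(47,37,2,23),(4,51,2,22),(54,35,2,12),(48,10,2,23),(27,3,2,35),(18,17,2,20),(9,31,2,12),(36,51,2,22),(31,13,2,15),(55,51,2,22),(37,37,2,28),(7,25,2,21),(10,26,2,14),(30,51,2,20),(33,37,2,27),(41,35,2,10),(39,9,2,37),(40,6,2,25),(38,35,2,11),(11,23,2,19),(43,11,2,36),(44,53,2,31),(45,50,2,30),(46,41,2,28),(23,37,2,23),(26,10,2,20),(49,14,2,23),(56,30,2,21),(12,40,2,31),(53,17,2,13),(52,17,2,16),(25,35,2,14),(32,51,2,24),(50,30,2,17),(57,1,2,20),(58,51,2,31)]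
def row9 : List M4 := [(0,9,2,21),(17,50,2,11),(35,56,2,23),(5,48,2,22),(12,19,2,24),(3,48,2,25),(46,32,2,19),(7,47,2,12),(29,56,2,19),(14,43,2,6),(22,50,2,28),(19,50,2,27),(4,19,2,25),(13,50,2,24),(9,43,2,7),(49,49,0,6),(48,49,2,26),(1,50,2,13),(18,13,2,12),(11,50,2,25),(20,8,2,38),(21,50,2,37),(10,50,2,26),(23,55,2,13),(28,32,2,14),(36,50,2,27),(32,44,2,18),(34,50,2,26),(24,32,2,17),(8,56,2,20),(53,6,2,27),(51,30,2,13),(26,44,2,17),(33,1,2,26),(27,50,2,24),(2,56,2,21),(25,50,2,25),(37,24,2,35),(55,45,2,33),(52,50,2,26),(47,57,2,15),(41,5,2,11),(42,38,2,27),(50,45,2,8),(54,26,2,26),(45,51,2,28),(6,32,2,21),(40,57,2,16),(16,49,2,30),(15,49,1,1),(43,45,2,5),(31,30,2,12),(39,50,2,25),(30,6,2,24),(44,26,2,27),(38,45,2,33),(56,28,2,29),(57,22,2,22),(58,12,2,33)]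
def row10 : List M4 := [(0,10,2,20),(3,42,2,22),(56,2,2,29),(1,42,2,25),(25,49,2,22),(30,49,2,23),(22,36,2,15),(18,29,2,13),(45,49,2,24),(10,15,0,2),(9,15,0,5),(33,8,2,19),(12,33,2,32),(53,46,2,23),(44,2,2,25),(49,50,0,3),(48,50,2,28),(17,47,2,25),(7,29,2,12),(19,48,1,8),(20,21,2,11),(21,49,2,21),(6,36,2,18),(58,14,2,21),(24,31,2,17),(4,49,2,20),(51,24,2,15),(27,16,2,22),(28,7,2,30),(42,3,2,16),(5,49,2,24),(57,49,2,21),(47,49,2,37),(11,8,2,23),(34,26,2,39),(52,36,2,22),(36,18,2,28),(41,53,2,11),(46,29,2,16),(39,58,2,38),(54,49,2,24),(37,53,2,8),(29,3,2,17),(43,49,2,33),(14,2,2,25),(8,49,2,22),(38,29,2,14),(32,49,2,39),(16,50,2,28),(15,50,1,4),(50,37,2,27),(26,24,2,14),(35,36,2,20),(13,46,2,22),(40,49,2,26),(55,22,2,33),(2,2,2,30),(31,49,2,23),(23,14,2,20)]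
def row11 : List M4 := [(0,11,2,29),(1,34,2,34),(2,5,2,19),(5,50,2,23),(11,46,2,11),(3,50,2,24),(6,48,2,13),(21,58,2,31),(49,26,2,21),(10,16,2,31),(9,16,2,29),(4,46,2,14),(12,53,2,31),(39,14,1,5),(38,14,2,9),(15,41,2,17),(16,8,2,37),(32,27,2,31),(54,56,2,28),(19,49,0,10),(56,48,2,31),(7,58,2,34),(22,29,2,20),(51,17,2,20),(44,48,2,35),(25,54,2,12),(58,21,2,25),(30,26,2,23),(57,48,2,31),(29,48,2,30),(27,26,2,25),(31,36,2,13),(17,27,2,32),(35,48,2,33),(47,48,2,19),(33,48,2,32),(42,16,2,27),(37,52,2,18),(14,14,2,10),(13,14,1,5),(45,48,2,30),(53,55,2,8),(36,16,2,24),(52,39,2,30),(24,48,2,33),(40,48,2,32),(48,55,2,12),(34,48,2,17),(46,55,2,13),(8,26,2,22),(50,40,2,26),(23,17,2,17),(43,39,2,29),(41,55,2,8),(18,56,2,32),(55,23,1,7),(20,48,2,33),(28,48,2,29),(26,21,2,26)]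
def row12 : List M4 := [(0,12,2,26),(1,9,2,33),(9,40,2,18),(21,47,2,18),(46,5,2,27),(41,26,2,35),(36,47,2,29),(7,50,2,14),(22,23,2,24),(2,40,2,17),(10,32,2,40),(11,34,2,18),(58,18,2,11),(39,15,2,32),(43,17,2,20),(23,39,2,23),(25,45,2,30),(17,49,2,27),(47,1,2,13),(50,55,2,25),(26,26,2,11),(3,47,2,16),(8,23,2,26),(15,39,2,22),(24,37,2,17),(16,45,2,29),(20,26,2,6),(42,55,2,26),(28,47,2,13),(29,43,2,17),(52,47,2,30),(34,1,2,9),(57,23,2,19),(49,47,2,33),(31,1,2,9),(35,46,2,16),(6,47,2,31),(37,47,2,29),(38,16,2,9),(13,15,2,31),(51,8,2,32),(5,26,2,31),(27,55,2,28),(14,17,2,21),(44,21,2,31),(54,47,2,30),(4,5,2,30),(18,1,2,10),(53,47,2,30),(33,47,2,31),(19,55,2,24),(40,8,2,29),(30,47,2,31),(48,47,2,32),(45,47,2,32),(55,57,2,34),(56,31,2,32),(32,23,2,22),(12,18,2,12)]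
def row13 : List M4 := [(0,13,2,10),(1,15,2,20),(38,38,2,20),(17,46,2,10),(11,48,2,12),(55,35,2,37),(6,54,2,17),(7,27,2,27),(18,46,2,29),(27,6,2,18),(30,38,2,15),(4,48,2,13),(54,4,2,27),(53,49,2,24),(48,20,1,6),(47,20,2,32),(44,35,2,12),(3,46,2,12),(8,46,2,27),(57,31,2,12),(31,57,2,35),(58,46,2,13),(25,43,2,34),(52,46,2,16),(40,30,2,11),(22,43,2,33),(26,45,2,30),(9,6,2,18),(28,8,2,15),(34,46,2,12),(10,38,2,15),(20,57,2,36),(37,34,2,9),(33,40,2,28),(29,46,2,14),(35,47,2,18),(39,46,2,13),(32,34,2,13),(2,38,2,19),(36,46,2,14),(24,30,2,10),(41,9,2,12),(42,5,2,23),(43,58,2,36),(16,35,2,10),(45,46,2,40),(49,6,2,23),(15,20,2,31),(14,20,0,4),(46,6,2,22),(50,46,2,23),(51,37,2,22),(23,46,2,14),(13,49,2,21),(12,4,2,30),(5,35,2,34),(56,22,2,29),(19,31,2,15),(21,46,2,11)]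
def row14 : List M4 := [(0,14,2,26),(36,10,2,21),(49,15,2,26),(3,20,2,14),(23,45,2,28),(5,58,2,9),(29,17,2,22),(42,45,2,29),(9,45,2,27),(8,45,2,29),(10,8,2,23),(11,40,2,33),(12,54,2,31),(13,45,2,39),(48,21,2,11),(15,37,2,34),(25,47,2,31),(47,16,2,22),(18,19,0,10),(32,15,2,24),(46,11,0,5),(45,11,2,9),(40,27,2,14),(4,45,2,30),(24,1,2,16),(16,47,2,28),(26,46,2,28),(30,29,2,28),(28,53,2,17),(6,17,2,20),(27,29,2,29),(31,34,2,15),(19,15,2,21),(54,45,2,14),(44,55,2,26),(41,45,2,26),(1,10,2,20),(57,17,2,18),(55,50,2,31),(58,23,2,25),(22,27,2,17),(35,45,2,28),(7,45,2,30),(50,50,2,7),(34,55,2,27),(21,11,2,10),(20,11,1,5),(17,16,2,23),(14,21,2,8),(2,15,2,28),(43,50,2,6),(51,57,2,36),(56,45,2,32),(53,45,2,27),(33,45,2,16),(38,50,2,31),(52,45,2,30),(37,17,2,19),(39,23,2,29)]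
def row15 : List M4 := [(0,15,2,28),(22,44,2,32),(2,44,2,31),(25,3,2,8),(14,34,2,25),(28,21,2,29),(8,44,2,33),(21,3,2,4),(6,44,2,32),(33,54,2,27),(57,14,2,26),(11,24,2,34),(38,44,2,32),(24,16,2,11),(4,34,2,24),(43,52,2,13),(16,26,2,6),(56,44,2,33),(18,20,2,11),(23,54,2,28),(46,12,2,32),(7,3,2,8),(1,44,2,34),(19,54,2,30),(13,16,2,11),(3,3,2,13),(32,50,2,19),(40,14,2,24),(5,21,2,32),(29,28,2,18),(30,2,2,19),(34,4,2,34),(26,50,2,20),(9,54,2,26),(31,4,2,33),(35,44,2,15),(36,17,2,29),(45,44,2,31),(12,44,2,34),(47,36,2,23),(27,14,2,21),(48,44,2,18),(42,40,2,13),(15,52,2,14),(52,16,2,12),(37,44,2,33),(20,12,2,31),(39,36,2,22),(41,44,2,20),(50,10,1,2),(49,10,1,5),(51,39,2,19),(44,16,2,15),(53,33,2,16),(54,27,2,36),(55,41,2,33),(17,44,2,35),(10,14,2,28),(58,13,2,20)]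
def row16 : List M4 := [(0,16,2,2),(13,43,2,35),(6,21,2,14),(3,26,2,32),(28,43,2,23),(51,43,2,6),(2,21,2,14),(15,15,2,16),(48,43,2,34),(14,50,2,5),(10,43,2,34),(20,52,2,27),(42,14,2,22),(1,43,2,37),(9,50,2,8),(7,15,2,11),(38,24,2,16),(23,11,2,27),(58,3,2,26),(19,18,2,22),(11,52,2,28),(21,12,2,9),(25,46,2,35),(17,11,2,24),(43,21,2,18),(22,46,2,32),(44,43,2,7),(27,22,2,21),(4,43,2,21),(29,47,2,19),(40,43,2,36),(31,41,2,14),(32,10,2,22),(33,23,2,16),(34,17,1,10),(46,15,2,7),(56,34,2,31),(52,20,2,37),(16,24,2,17),(39,28,2,36),(30,43,2,35),(53,1,2,35),(12,14,2,23),(24,21,2,15),(26,43,2,9),(47,34,2,30),(35,15,2,11),(45,34,2,29),(8,43,2,36),(50,11,2,31),(49,11,2,29),(5,43,2,8),(37,20,2,36),(41,1,2,34),(54,6,2,23),(55,2,2,8),(36,34,2,33),(57,43,2,18),(18,3,2,25)]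
def row17 : List M4 := [(0,17,2,20),(3,49,2,23),(22,14,2,18),(1,49,2,24),(12,27,2,25),(5,2,2,37),(7,8,2,13),(6,8,2,16),(36,11,2,16),(21,42,2,24),(56,29,2,14),(43,36,2,25),(4,27,2,29),(54,42,2,24),(14,7,2,28),(19,42,2,10),(45,12,2,24),(33,55,2,5),(18,42,2,23),(15,42,2,12),(20,42,2,36),(9,42,2,26),(2,14,2,19),(23,15,2,25),(24,6,2,34),(25,16,0,10),(26,57,2,27),(48,27,2,29),(37,31,2,23),(29,35,2,21),(53,14,2,22),(41,8,2,18),(35,42,2,27),(17,55,2,6),(34,18,2,11),(32,42,2,25),(8,11,2,17),(28,31,2,26),(51,42,2,23),(58,26,2,32),(40,39,2,26),(31,8,2,20),(55,26,2,4),(11,36,2,26),(44,3,2,32),(16,12,2,21),(46,56,2,11),(49,42,2,26),(27,27,2,34),(47,42,2,24),(50,58,2,12),(38,42,2,25),(57,37,2,12),(30,14,2,20),(13,42,2,25),(42,26,2,7),(10,29,2,15),(52,37,2,11),(39,26,2,32)]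
def row18 : List M4 := [(0,18,2,9),(47,12,2,11),(34,41,2,28),(43,1,2,26),(11,53,2,11),(52,29,2,34),(10,37,2,10),(7,2,2,14),(24,38,2,8),(54,41,2,12),(6,37,2,9),(4,53,2,9),(33,5,2,32),(50,41,2,13),(14,35,2,28),(15,48,2,19),(58,53,2,36),(51,31,2,17),(28,27,2,23),(45,41,0,11),(44,41,2,12),(35,55,2,32),(38,41,2,11),(23,10,2,27),(8,38,2,12),(25,17,2,11),(26,41,2,39),(41,31,2,21),(18,27,2,20),(49,52,2,14),(39,39,2,19),(31,43,2,16),(37,39,2,14),(12,5,2,34),(2,41,2,26),(21,55,2,33),(36,26,2,29),(32,39,2,14),(22,41,2,13),(30,39,2,18),(40,16,2,22),(27,31,2,22),(42,41,2,22),(3,1,2,29),(20,41,2,10),(19,41,1,9),(46,51,2,26),(1,12,2,12),(56,5,2,31),(29,52,2,11),(13,41,2,15),(17,31,2,17),(5,29,2,35),(53,56,2,17),(9,41,2,13),(55,44,2,35),(48,5,2,30),(57,24,2,21),(16,53,2,33)]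
def row19 : List M4 := [(0,19,2,19),(3,51,2,24),(9,47,2,15),(1,51,2,28),(26,3,2,23),(5,40,2,35),(6,31,2,33),(24,52,2,22),(53,40,2,26),(2,47,2,16),(10,54,2,25),(11,45,2,31),(51,51,2,33),(29,24,2,11),(32,22,2,14),(45,27,2,22),(16,30,2,36),(20,40,2,23),(43,40,2,23),(23,58,2,4),(17,40,2,25),(21,4,2,38),(22,53,2,20),(19,58,2,5),(7,52,2,25),(52,2,2,19),(4,3,2,20),(56,40,2,23),(37,33,2,19),(13,24,2,10),(35,33,2,17),(46,2,2,12),(14,22,2,13),(33,46,2,27),(34,40,2,22),(30,33,2,18),(36,29,2,26),(28,33,2,21),(38,34,2,10),(57,40,2,22),(58,36,2,3),(41,14,1,10),(42,44,2,11),(18,40,2,24),(54,36,2,31),(15,27,2,23),(31,2,2,15),(55,9,2,24),(49,40,1,9),(48,40,0,11),(50,48,2,24),(12,51,2,28),(25,2,2,17),(8,40,2,24),(44,36,2,31),(47,9,2,25),(27,40,2,25),(39,40,2,24),(40,36,2,6)]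
def row20 : List M4 := [(0,20,2,4),(10,39,2,38),(6,25,2,10),(55,39,2,9),(53,4,2,13),(35,39,2,25),(2,25,2,9),(22,16,2,37),(50,39,2,38),(9,52,2,24),(1,39,2,36),(45,13,1,6),(44,13,2,32),(13,36,2,12),(36,58,2,26),(23,47,2,24),(31,39,2,37),(33,58,2,33),(20,30,2,19),(19,57,2,23),(18,30,2,18),(49,39,2,8),(7,16,2,36),(15,47,2,25),(24,7,2,16),(58,6,2,30),(47,33,2,7),(27,39,2,20),(29,4,2,13),(28,4,2,9),(39,41,2,20),(16,39,2,39),(37,41,2,16),(17,58,2,31),(34,35,2,9),(5,39,2,23),(14,58,2,29),(32,41,2,16),(38,37,2,25),(30,41,2,17),(40,42,2,24),(41,15,2,11),(42,39,2,36),(52,48,2,27),(12,13,2,31),(11,13,1,4),(57,28,2,34),(26,33,2,10),(48,3,2,34),(21,39,2,10),(8,39,2,37),(51,44,2,21),(43,48,2,28),(4,4,2,18),(54,32,2,10),(3,39,2,11),(56,14,2,18),(46,28,2,37),(25,6,2,29)]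
def row21 : List M4 := [(0,21,2,5),(33,11,2,25),(38,46,2,21),(44,52,2,5),(40,38,2,39),(6,38,1,9),(5,38,1,11),(51,53,2,35),(24,41,2,11),(14,55,2,34),(30,46,2,17),(45,14,2,11),(43,38,2,10),(21,2,2,20),(9,55,2,32),(15,12,2,35),(35,16,2,14),(17,51,2,24),(18,22,2,10),(25,38,2,11),(22,38,2,26),(13,2,2,19),(20,38,2,24),(32,38,2,38),(8,41,2,10),(19,38,2,9),(56,55,2,30),(27,58,2,22),(29,5,0,9),(28,5,1,8),(10,46,2,17),(54,15,2,29),(23,38,2,39),(1,11,2,26),(34,30,2,26),(16,16,2,19),(36,31,2,25),(37,28,2,17),(2,46,2,18),(39,10,2,11),(4,38,2,37),(55,24,2,31),(42,50,2,25),(12,38,2,12),(3,52,2,7),(11,14,2,8),(46,1,2,12),(47,56,2,19),(58,52,2,33),(49,38,2,21),(50,38,2,37),(7,53,2,38),(52,26,2,13),(57,16,2,14),(31,15,2,28),(41,24,2,30),(26,55,2,27),(53,16,2,10),(48,52,2,32)]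
def row22 : List M4 := [(0,22,2,13),(54,52,2,13),(2,9,2,18),(3,13,2,30),(4,10,2,33),(34,54,2,16),(10,41,2,7),(11,37,2,18),(22,33,2,28),(35,37,2,32),(6,41,2,8),(7,37,2,16),(12,37,2,29),(25,32,2,11),(42,57,2,19),(15,45,2,32),(39,52,2,38),(28,28,2,27),(20,32,2,15),(26,28,2,22),(18,32,2,13),(31,37,2,18),(8,33,2,27),(47,51,2,25),(24,47,2,19),(13,32,2,12),(19,28,2,18),(45,19,2,14),(17,28,2,22),(48,37,2,17),(30,23,2,34),(21,37,2,20),(32,16,2,21),(37,51,2,29),(5,54,2,19),(9,37,2,34),(49,53,2,16),(33,51,2,26),(38,39,2,27),(16,52,2,35),(53,37,2,19),(41,21,2,14),(14,57,2,18),(46,34,2,34),(44,58,2,33),(27,19,2,17),(43,34,2,33),(23,51,2,25),(29,37,2,19),(36,53,2,17),(50,49,2,25),(51,46,2,20),(57,42,2,9),(40,37,2,17),(1,52,2,11),(56,37,2,17),(55,37,2,18),(52,42,2,10),(58,37,2,16)]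
def row23 : List M4 := [(0,23,2,24),(20,14,2,29),(27,12,2,19),(23,5,2,6),(4,11,0,7),(36,56,2,7),(22,49,2,16),(7,36,2,25),(8,30,2,21),(9,25,2,26),(41,36,2,28),(43,42,2,27),(12,6,2,32),(13,39,2,13),(49,1,2,21),(42,36,2,26),(25,56,2,32),(48,8,2,18),(33,36,2,30),(30,36,2,27),(1,14,2,26),(28,36,2,26),(6,49,2,17),(3,5,2,9),(57,35,2,27),(16,56,2,32),(26,16,2,12),(2,12,2,22),(21,36,2,24),(29,22,2,34),(19,36,2,25),(31,48,2,14),(53,57,2,15),(18,36,2,28),(34,36,2,37),(52,49,2,18),(5,56,2,8),(51,12,2,24),(38,27,2,37),(47,44,2,24),(58,40,2,4),(10,36,2,27),(15,36,2,28),(11,42,2,23),(54,40,2,29),(45,55,2,29),(46,7,2,15),(39,44,2,25),(17,8,2,19),(14,1,2,20),(55,36,2,12),(37,12,2,26),(35,49,2,20),(32,57,2,12),(44,40,2,29),(50,36,2,14),(56,32,2,31),(24,35,2,26),(40,40,2,5)]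
def row24 : List M4 := [(0,24,2,14),(45,35,2,14),(2,18,2,21),(9,2,2,22),(18,21,2,31),(55,46,2,36),(42,35,2,31),(39,35,2,17),(33,10,2,15),(3,2,2,22),(23,52,2,19),(11,33,2,32),(13,35,2,17),(12,35,2,18),(14,41,2,27),(15,35,2,15),(44,46,2,8),(17,32,2,26),(4,21,2,34),(26,30,2,19),(20,5,2,24),(43,16,2,16),(22,9,2,31),(10,52,2,19),(57,36,2,28),(54,51,2,16),(19,30,2,16),(28,34,1,9),(27,34,1,8),(29,42,2,19),(46,19,2,11),(49,35,2,18),(50,31,2,17),(8,10,2,14),(34,39,2,11),(36,2,2,27),(35,2,2,26),(47,35,2,18),(41,51,2,9),(7,35,2,15),(52,52,2,24),(38,51,2,12),(6,35,2,33),(21,16,2,17),(16,46,2,10),(1,35,2,16),(30,19,2,10),(37,35,2,20),(48,15,2,34),(31,35,2,16),(32,31,2,13),(51,55,2,22),(40,52,2,23),(53,3,2,16),(25,51,2,14),(5,46,2,35),(56,35,2,27),(24,36,2,25),(58,27,2,33)]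
def row25 : List M4 := [(0,25,2,6),(1,48,2,36),(40,7,2,18),(44,56,2,9),(14,44,2,26),(22,5,2,15),(39,1,2,30),(7,4,2,13),(34,7,2,22),(9,27,2,25),(33,34,2,40),(11,47,2,20),(58,31,2,6),(13,29,2,11),(4,44,2,27),(55,31,2,34),(42,34,0,11),(41,34,2,12),(18,2,2,27),(19,34,2,22),(24,34,2,10),(29,34,2,27),(5,5,2,20),(23,34,2,38),(20,34,2,12),(52,8,2,20),(26,6,2,26),(28,35,0,10),(27,35,1,7),(21,34,2,25),(30,53,2,18),(31,45,2,14),(37,46,2,12),(10,34,2,39),(8,7,2,19),(51,5,2,15),(56,43,2,35),(32,46,2,11),(38,40,2,12),(6,1,2,29),(2,7,2,18),(17,34,2,10),(16,34,1,9),(46,37,2,31),(3,56,2,12),(47,43,2,31),(43,37,2,32),(45,43,2,28),(54,34,2,11),(49,55,2,23),(50,23,2,26),(35,5,2,11),(25,8,2,21),(57,20,2,10),(48,34,2,13),(15,31,2,33),(36,43,2,33),(53,20,2,9),(12,31,2,8)]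
def row26 : List M4 := [(0,26,2,23),(20,17,2,32),(2,30,2,37),(40,55,2,20),(17,17,2,8),(15,9,2,26),(34,33,2,27),(7,21,2,13),(22,37,2,29),(58,33,2,27),(51,11,2,21),(11,35,2,31),(12,49,2,30),(19,33,2,26),(14,54,2,15),(5,9,2,27),(36,33,2,13),(4,17,2,3),(54,12,2,35),(13,33,2,28),(1,17,2,28),(48,1,2,27),(8,37,2,26),(23,18,2,29),(49,8,2,15),(25,10,2,40),(47,39,2,8),(27,57,2,24),(37,40,2,23),(32,11,2,23),(35,40,2,16),(31,33,2,26),(29,11,2,25),(39,12,2,7),(6,33,2,28),(30,40,2,19),(16,33,2,15),(28,40,2,21),(55,3,2,29),(33,12,2,10),(3,55,2,19),(41,33,2,39),(57,33,2,30),(43,15,2,6),(50,27,2,18),(46,33,2,27),(45,33,2,29),(26,39,2,9),(21,1,2,24),(24,8,2,14),(44,27,2,17),(10,11,2,22),(52,31,2,14),(53,44,2,14),(18,12,2,35),(38,3,2,28),(56,16,2,28),(42,33,2,28),(9,33,2,29)]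
def row27 : List M4 := [(0,27,2,17),(1,24,2,34),(23,53,2,11),(51,32,2,36),(4,32,2,33),(5,15,2,36),(46,50,2,19),(30,32,2,22),(8,55,2,23),(15,26,2,18),(10,47,2,38),(32,17,2,33),(36,57,2,20),(25,37,2,10),(44,19,2,22),(9,26,2,21),(49,32,2,23),(17,35,2,24),(20,37,2,15),(37,14,2,14),(18,37,2,17),(21,23,2,37),(43,32,2,22),(2,53,2,12),(28,50,2,15),(13,37,2,13),(48,29,2,26),(42,11,2,31),(24,50,2,16),(45,29,2,26),(7,32,2,24),(41,18,2,23),(11,17,2,30),(57,32,2,23),(35,31,1,9),(34,31,1,8),(12,57,2,21),(19,14,2,13),(58,32,2,21),(39,32,2,20),(40,3,2,22),(31,18,2,20),(27,11,2,32),(22,32,2,20),(14,19,2,23),(29,29,2,31),(6,50,2,17),(55,17,2,29),(26,29,2,22),(16,32,2,21),(50,25,2,25),(3,32,2,38),(52,13,2,31),(53,7,2,18),(54,39,2,8),(47,17,2,29),(56,36,2,29),(33,32,2,21),(38,32,2,22)]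
def row28 : List M4 := [(0,28,2,10),(54,58,2,13),(13,20,2,34),(3,9,2,29),(39,30,2,10),(38,30,1,9),(6,40,2,31),(49,31,2,31),(46,31,2,16),(29,51,2,14),(10,57,2,22),(23,31,2,14),(58,34,2,10),(2,20,2,33),(25,31,2,13),(55,34,2,35),(18,31,2,15),(51,41,2,15),(16,31,2,17),(57,46,2,13),(20,16,2,40),(44,54,2,30),(22,21,2,17),(11,31,2,15),(24,49,2,15),(14,31,2,15),(26,31,2,26),(41,41,2,24),(37,42,2,24),(9,51,2,11),(30,15,2,18),(42,22,2,23),(50,35,2,15),(40,22,2,22),(35,32,1,6),(34,32,0,7),(36,38,2,27),(28,42,2,25),(5,30,1,8),(4,30,2,12),(33,22,2,22),(27,41,2,19),(31,22,2,26),(43,55,2,24),(21,54,2,31),(53,31,2,16),(8,31,2,14),(47,31,2,13),(48,2,2,30),(7,31,2,29),(32,35,2,16),(17,41,2,19),(52,33,2,16),(45,31,2,14),(1,58,2,16),(15,34,2,32),(56,47,2,30),(19,46,2,14),(12,34,2,8)]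
def row29 : List M4 := [(0,29,2,14),(1,3,2,33),(2,33,2,35),(49,17,2,18),(39,31,2,14),(38,31,0,10),(25,30,2,21),(54,18,2,34),(8,36,2,19),(53,53,2,28),(10,5,2,22),(33,27,2,26),(12,52,2,31),(21,10,2,16),(30,27,2,30),(57,30,2,20),(16,40,2,34),(45,53,2,23),(20,39,2,20),(26,35,2,18),(18,39,2,17),(13,10,2,14),(36,30,2,35),(23,19,2,26),(40,46,2,8),(6,30,2,19),(19,35,2,17),(27,7,2,21),(44,30,2,19),(32,14,2,28),(14,27,2,27),(51,50,2,10),(29,14,2,29),(11,27,2,26),(34,38,2,28),(42,30,2,18),(22,30,2,33),(37,11,2,20),(5,31,0,7),(4,31,2,12),(24,46,2,9),(52,10,2,13),(35,30,2,20),(47,30,2,18),(28,30,2,17),(17,53,2,19),(46,25,2,15),(43,30,2,19),(48,30,2,30),(3,17,2,15),(56,51,2,19),(31,50,2,11),(41,10,2,12),(9,53,2,23),(7,18,2,35),(55,30,2,17),(50,51,2,20),(15,30,2,18),(58,55,1,5)]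
def row30 : List M4 := [(0,30,2,16),(1,4,1,7),(44,29,2,20),(9,8,2,18),(4,29,2,17),(52,41,2,33),(50,6,2,25),(18,49,2,14),(28,9,2,13),(3,8,2,21),(56,42,2,17),(11,29,2,29),(16,29,2,18),(13,34,2,13),(42,6,2,21),(31,29,2,19),(12,29,2,16),(24,29,2,18),(7,49,2,11),(35,13,2,11),(55,28,2,10),(54,28,0,9),(22,48,2,18),(37,29,2,35),(17,29,2,20),(25,21,2,26),(48,32,2,24),(30,45,2,27),(8,9,2,12),(45,32,2,29),(27,45,2,30),(15,29,2,20),(32,52,2,23),(40,24,2,15),(53,29,2,17),(19,13,2,10),(36,40,2,28),(23,29,2,33),(46,49,2,16),(41,20,2,19),(33,24,2,19),(39,20,2,18),(14,6,2,21),(43,19,2,35),(2,29,2,22),(29,32,2,28),(38,49,2,18),(47,7,2,29),(26,32,2,24),(49,54,2,24),(6,6,2,26),(51,23,2,21),(5,41,2,36),(34,29,2,19),(21,28,0,8),(20,28,2,12),(10,42,2,16),(57,26,2,33),(58,56,2,34)]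
def row31 : List M4 := [(0,31,2,12),(47,25,2,6),(40,13,2,15),(3,12,2,32),(44,25,2,34),(58,1,2,14),(14,28,2,16),(7,26,2,14),(42,18,2,17),(27,24,2,14),(52,28,2,31),(11,57,2,31),(12,28,2,13),(51,28,2,16),(6,28,2,18),(38,5,2,29),(16,4,2,22),(28,37,2,24),(32,18,2,21),(26,37,2,20),(55,29,2,14),(54,29,1,10),(31,17,2,23),(23,21,2,25),(25,27,0,9),(24,27,1,8),(19,37,2,20),(9,24,2,17),(17,37,2,25),(29,44,2,20),(50,8,2,13),(22,17,2,26),(18,18,2,22),(33,28,2,25),(45,28,2,16),(35,10,2,17),(48,28,2,14),(37,38,2,19),(15,5,2,32),(39,43,2,38),(2,13,2,11),(43,28,2,15),(8,18,2,17),(41,28,2,13),(4,25,2,33),(34,28,2,15),(57,39,2,35),(1,25,2,8),(36,28,2,12),(49,2,2,24),(30,8,2,12),(13,28,2,14),(10,28,2,29),(53,19,2,29),(21,29,1,7),(20,29,2,12),(56,50,2,30),(46,39,2,36),(5,1,2,15)]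
def row32 : List M4 := [(0,32,2,19),(21,27,2,21),(26,27,2,23),(3,23,2,31),(12,42,2,27),(5,20,2,10),(6,52,2,16),(7,46,2,29),(56,27,2,36),(9,34,2,27),(43,27,2,23),(33,30,2,24),(4,42,2,27),(53,9,2,19),(30,30,2,29),(45,40,2,21),(37,27,2,22),(32,48,2,30),(28,41,2,22),(19,56,2,24),(20,27,2,20),(1,27,2,19),(40,45,2,15),(47,2,2,22),(25,28,1,10),(24,28,1,7),(2,27,2,21),(48,42,2,32),(18,41,2,21),(52,27,2,22),(14,30,2,28),(35,9,2,14),(17,48,2,33),(11,30,2,24),(46,22,2,11),(31,9,2,17),(57,6,2,14),(16,27,2,23),(38,36,2,38),(41,22,2,15),(22,45,2,16),(39,22,2,13),(42,24,2,26),(10,27,2,25),(50,33,2,19),(15,40,2,24),(34,22,2,12),(23,2,2,18),(27,42,2,31),(49,12,2,36),(44,33,2,20),(51,4,2,21),(29,27,2,20),(13,9,2,21),(54,44,2,37),(55,27,2,32),(8,27,2,38),(36,6,2,13),(58,35,2,32)]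
def row33 : List M4 := [(0,33,2,25),(50,26,2,27),(17,26,2,26),(3,43,2,30),(21,56,2,30),(41,47,2,33),(6,15,2,15),(7,28,2,16),(49,48,2,20),(15,32,2,19),(35,51,2,16),(38,58,2,26),(33,20,2,7),(14,26,2,31),(13,26,2,29),(9,32,2,20),(16,44,2,8),(2,26,2,28),(18,26,2,38),(56,4,2,21),(26,47,2,8),(4,56,2,27),(31,19,2,19),(43,26,2,13),(29,19,2,17),(53,26,2,27),(20,47,2,9),(30,48,2,27),(28,26,2,26),(24,19,2,18),(27,48,2,25),(22,19,2,21),(32,2,2,22),(12,20,2,10),(34,49,2,38),(10,51,2,13),(36,41,2,27),(51,22,2,28),(11,58,2,25),(58,42,2,30),(46,26,2,29),(5,47,2,33),(55,42,2,5),(23,26,2,15),(54,50,2,28),(45,5,2,13),(40,26,2,28),(47,10,2,32),(48,24,2,33),(8,48,2,23),(1,26,2,29),(37,22,2,27),(52,38,2,14),(25,26,2,25),(44,50,2,24),(42,42,2,6),(19,4,2,22),(57,29,2,35),(39,42,2,30)]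
def row34 : List M4 := [(0,34,2,8),(47,28,2,10),(6,39,2,7),(23,16,2,31),(44,28,2,35),(11,25,2,11),(2,39,2,11),(34,51,2,19),(24,54,2,13),(9,36,2,28),(10,4,2,21),(5,25,2,9),(14,16,2,30),(16,22,2,34),(12,16,2,29),(56,3,2,10),(13,22,2,33),(43,25,1,11),(42,25,2,12),(57,52,2,16),(53,58,2,31),(21,19,2,10),(27,13,2,13),(3,16,2,33),(8,54,2,13),(51,52,2,21),(49,25,2,37),(22,13,2,10),(28,14,2,16),(29,6,2,20),(38,25,2,27),(32,24,1,9),(31,24,0,8),(33,53,2,27),(7,51,2,22),(39,25,2,10),(36,25,2,38),(54,54,2,18),(30,25,2,25),(35,25,2,12),(40,25,2,21),(41,57,2,25),(18,25,2,14),(17,25,1,12),(4,28,2,32),(55,15,2,25),(46,30,2,13),(1,28,2,8),(48,12,2,18),(26,25,2,39),(50,32,2,26),(25,52,2,20),(52,55,2,15),(20,58,2,32),(37,54,2,17),(45,15,2,28),(15,3,2,11),(19,52,2,16),(58,11,2,34)]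
def row35 : List M4 := [(0,35,2,12),(1,32,2,32),(35,23,2,27),(3,24,2,28),(54,13,2,37),(34,8,2,12),(6,56,2,18),(19,7,2,21),(8,4,2,20),(27,28,2,15),(28,24,2,18),(11,44,2,32),(22,24,2,18),(29,40,2,8),(58,24,2,17),(43,13,2,12),(38,43,2,15),(53,24,2,31),(21,8,2,10),(7,7,2,26),(52,24,2,17),(18,8,2,11),(12,24,2,16),(24,57,2,28),(23,57,2,25),(25,20,2,13),(51,49,2,16),(9,28,2,16),(10,24,2,16),(13,40,2,9),(30,17,2,17),(32,25,1,6),(31,25,1,7),(40,29,2,18),(5,8,2,14),(2,23,2,26),(49,7,2,17),(37,50,2,33),(16,43,2,18),(39,54,2,26),(33,29,2,17),(55,38,2,32),(42,27,2,24),(15,13,2,10),(44,24,2,15),(45,18,2,29),(47,24,2,17),(46,24,2,15),(48,26,2,31),(36,7,2,21),(56,57,2,24),(26,49,2,13),(20,24,2,19),(17,24,2,33),(4,13,2,34),(41,38,2,33),(50,57,2,24),(57,41,2,19),(14,24,2,16)]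
def row36 : List M4 := [(0,36,2,22),(19,19,2,7),(35,24,2,28),(3,27,2,29),(9,23,2,12),(15,19,2,27),(27,2,2,14),(24,10,2,22),(22,47,2,24),(4,23,2,14),(45,58,2,18),(42,51,2,17),(20,15,2,23),(13,52,2,13),(14,4,2,27),(5,19,2,31),(48,17,2,25),(44,23,2,26),(49,23,2,25),(1,19,2,2),(12,15,2,26),(21,32,2,39),(8,47,2,22),(54,3,2,6),(7,10,2,20),(25,23,2,38),(41,23,2,26),(6,2,2,13),(28,11,2,13),(40,23,2,27),(30,37,2,36),(38,23,2,26),(57,47,2,20),(33,43,2,14),(43,3,2,34),(2,24,2,25),(56,54,2,7),(53,10,2,15),(31,23,2,27),(58,45,2,28),(29,23,2,29),(26,23,2,28),(11,51,2,16),(34,3,2,34),(17,23,2,28),(10,58,2,19),(46,20,2,12),(47,53,2,30),(16,17,2,26),(18,23,2,27),(50,34,2,28),(51,29,2,23),(52,23,2,25),(37,10,2,18),(23,3,2,9),(55,48,0,5),(36,54,2,8),(32,47,2,21),(39,45,2,27)]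
def row37 : List M4 := [(0,37,2,15),(1,22,2,16),(7,17,2,12),(4,22,2,17),(3,22,2,15),(58,7,2,9),(19,22,2,19),(2,17,2,11),(8,13,2,22),(9,10,2,27),(23,6,2,18),(30,22,2,21),(36,8,2,23),(16,25,2,35),(32,40,2,15),(15,1,2,35),(13,25,2,32),(45,2,2,20),(18,38,2,12),(6,22,2,17),(43,7,2,37),(21,20,2,25),(26,8,2,28),(10,6,2,14),(50,22,2,32),(54,5,2,17),(22,8,2,27),(27,43,2,23),(38,22,2,18),(29,36,2,32),(11,22,2,19),(42,31,2,24),(14,40,2,16),(40,31,2,20),(46,27,2,10),(35,12,2,17),(12,8,2,23),(51,26,2,29),(28,22,2,16),(41,27,2,15),(33,31,2,20),(39,27,2,17),(31,31,2,25),(20,7,2,36),(44,14,2,33),(17,2,2,17),(34,27,2,13),(47,22,2,28),(52,22,2,18),(53,18,2,10),(24,22,2,34),(37,26,2,26),(48,22,2,19),(49,18,2,9),(25,5,2,18),(55,49,2,34),(56,46,2,28),(57,50,2,20),(5,7,2,11)]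
def row38 : List M4 := [(0,38,2,7),(11,7,2,34),(6,43,2,12),(33,4,2,29),(18,35,2,32),(28,44,2,30),(2,43,2,12),(7,33,2,15),(52,6,2,36),(9,21,2,37),(10,21,2,20),(1,7,2,31),(12,3,2,17),(13,58,2,14),(48,45,2,10),(56,7,2,9),(47,21,2,10),(17,9,2,27),(4,35,2,33),(55,21,2,39),(20,49,2,9),(57,13,2,20),(22,31,2,19),(23,28,2,26),(43,43,2,17),(25,29,2,24),(58,48,2,24),(36,21,2,38),(5,44,2,31),(49,13,2,15),(31,54,1,6),(30,54,1,10),(32,1,2,20),(3,4,2,28),(40,21,2,11),(51,18,2,12),(27,21,2,36),(39,21,2,26),(46,57,2,21),(37,21,2,24),(34,21,2,13),(41,37,2,12),(42,8,2,25),(24,43,2,16),(44,47,2,33),(50,4,2,30),(38,57,2,18),(16,21,2,8),(14,45,2,9),(29,13,2,15),(45,4,2,32),(35,18,2,9),(8,6,2,37),(54,21,1,9),(53,21,1,11),(19,21,2,40),(15,7,2,7),(21,13,2,19),(26,48,2,27)]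
def row39 : List M4 := [(0,39,2,6),(34,53,2,31),(13,31,2,35),(3,45,2,16),(56,20,2,9),(5,27,2,8),(55,55,2,16),(16,11,2,30),(8,15,2,19),(51,20,2,35),(38,20,2,12),(11,56,2,32),(33,26,2,8),(2,31,2,36),(48,46,1,6),(47,46,2,33),(7,11,2,29),(17,20,2,36),(18,44,2,13),(19,17,2,26),(29,18,2,19),(21,22,2,23),(27,18,2,14),(45,1,2,27),(54,20,2,25),(25,24,2,11),(42,1,2,29),(22,18,2,14),(43,20,2,37),(20,18,2,18),(31,55,2,11),(30,55,2,11),(32,20,2,19),(12,26,2,9),(1,53,2,32),(35,52,2,18),(44,12,2,23),(52,43,2,34),(10,20,2,10),(41,29,2,20),(40,2,2,24),(39,29,2,17),(26,1,2,31),(28,20,2,39),(36,12,2,26),(23,1,2,28),(46,23,2,14),(15,46,2,30),(14,46,1,8),(58,20,2,38),(50,7,2,25),(9,20,2,37),(37,43,2,38),(57,34,2,11),(24,20,2,23),(6,55,2,15),(4,20,2,7),(53,34,2,8),(49,20,2,39)]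
def row40 : List M4 := [(0,40,2,21),(19,23,2,4),(20,19,2,25),(32,19,2,23),(12,50,2,23),(15,23,2,29),(51,19,2,22),(34,57,2,15),(47,8,2,30),(9,11,2,26),(11,19,0,9),(10,19,1,11),(4,50,2,26),(28,57,2,13),(44,32,2,24),(5,23,2,29),(41,19,2,23),(17,15,2,9),(18,45,1,11),(1,23,2,5),(2,19,2,24),(21,25,2,12),(31,26,2,23),(23,30,2,28),(29,26,2,16),(25,19,2,22),(26,13,2,29),(45,37,2,15),(13,57,2,14),(24,26,2,19),(46,35,2,12),(22,26,2,21),(3,19,2,25),(55,56,2,22),(7,57,2,17),(52,7,2,23),(40,1,2,3),(37,6,2,18),(38,55,2,39),(42,19,2,27),(36,1,2,6),(16,19,2,21),(39,19,2,25),(43,29,2,34),(14,32,2,20),(27,37,2,16),(30,35,2,9),(8,8,2,31),(48,14,2,33),(49,5,2,23),(57,12,2,18),(6,19,2,24),(35,7,2,24),(53,28,2,31),(54,19,2,34),(33,56,2,21),(58,8,2,26),(50,12,2,17),(56,8,2,26)]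
def row41 : List M4 := [(0,41,2,7),(43,6,2,35),(2,35,2,19),(11,54,2,32),(4,15,2,37),(50,18,2,12),(6,3,2,15),(54,30,2,33),(42,28,2,19),(46,18,2,13),(30,7,2,13),(3,54,2,29),(58,47,2,10),(13,8,2,28),(40,18,1,11),(39,18,2,12),(56,58,2,27),(17,18,2,23),(32,28,2,20),(19,43,2,24),(29,20,2,16),(37,18,2,11),(27,20,2,16),(23,33,2,27),(38,4,2,31),(57,18,2,28),(47,54,2,36),(22,20,2,12),(28,16,2,14),(20,20,2,21),(10,7,2,12),(41,32,2,22),(18,28,2,23),(33,18,2,39),(34,42,2,13),(51,21,2,11),(36,49,2,26),(21,18,2,13),(24,4,2,30),(15,18,2,14),(14,18,0,12),(31,32,2,21),(8,28,2,19),(1,6,2,34),(44,11,2,21),(45,24,2,27),(9,18,2,11),(26,54,2,34),(55,6,2,7),(53,22,2,11),(5,18,2,10),(35,21,2,10),(52,57,2,12),(49,22,2,8),(7,30,2,32),(48,6,2,9),(16,58,2,28),(25,18,2,26),(12,47,2,13)]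
def row42 : List M4 := [(0,42,2,22),(20,33,2,30),(7,22,2,13),(49,30,2,17),(17,33,2,5),(46,17,2,24),(29,45,2,22),(2,22,2,10),(21,17,2,26),(9,1,2,10),(12,17,2,26),(32,32,2,32),(10,17,2,24),(13,3,2,12),(43,47,2,23),(15,56,2,34),(48,23,2,24),(4,33,2,6),(28,51,2,18),(19,20,2,24),(1,33,2,30),(8,17,2,25),(31,28,2,24),(51,48,2,19),(27,17,2,23),(25,41,2,13),(42,4,2,4),(24,17,2,25),(18,51,2,16),(6,45,2,24),(30,24,2,19),(22,28,2,25),(11,32,2,31),(33,2,2,29),(34,43,1,11),(35,53,2,32),(36,44,2,27),(57,45,2,17),(50,17,2,28),(39,17,2,35),(44,17,2,10),(41,17,2,23),(26,4,2,7),(14,47,2,22),(40,17,2,12),(45,52,2,30),(5,17,2,22),(55,32,2,27),(16,23,2,27),(3,30,2,16),(38,17,2,26),(23,48,2,18),(53,51,2,14),(52,51,2,15),(54,57,2,35),(47,32,2,27),(58,10,2,25),(37,45,2,20),(56,10,2,21)]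
def row43 : List M4 := [(0,43,2,4),(41,56,2,27),(2,16,2,17),(23,25,2,35),(4,57,2,6),(5,53,2,21),(18,58,2,32),(22,39,2,38),(54,16,2,10),(10,48,2,27),(9,48,2,29),(51,16,2,37),(14,25,2,31),(24,44,2,9),(12,25,2,28),(33,16,2,7),(35,38,2,17),(47,45,2,21),(6,58,2,36),(29,16,2,33),(20,31,2,38),(43,35,2,15),(7,39,2,35),(3,25,2,33),(13,44,2,9),(25,42,1,12),(26,36,2,14),(27,49,2,24),(28,18,2,16),(19,16,2,35),(30,12,2,17),(55,16,2,23),(32,37,2,22),(15,16,2,5),(37,13,2,34),(16,38,2,16),(42,48,2,26),(34,13,2,33),(38,47,2,11),(48,7,2,30),(40,41,2,23),(1,56,2,28),(36,48,2,25),(21,35,2,18),(52,44,2,13),(50,9,2,6),(58,16,2,35),(17,45,2,24),(39,7,2,29),(49,16,2,34),(45,9,2,7),(11,16,2,36),(44,44,2,14),(57,38,2,12),(8,16,2,8),(31,16,2,21),(56,33,2,30),(53,38,2,12),(46,16,2,37)]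
def row44 : List M4 := [(0,44,2,30),(1,46,2,18),(49,45,2,26),(42,15,2,33),(4,18,2,35),(5,32,2,38),(6,26,2,14),(15,43,2,13),(8,20,2,20),(10,49,1,3),(9,49,1,4),(18,15,2,18),(20,23,2,24),(39,47,2,29),(22,15,2,34),(7,43,2,14),(44,7,2,12),(17,19,2,11),(11,15,2,20),(32,45,2,23),(12,23,2,25),(47,15,2,32),(14,15,2,33),(23,42,2,27),(24,15,2,14),(28,55,2,35),(50,5,2,28),(33,9,2,18),(25,55,2,32),(29,57,2,21),(30,31,2,19),(54,38,2,30),(19,45,2,22),(27,9,2,21),(56,56,2,11),(46,43,2,9),(40,5,2,32),(58,15,2,36),(52,56,2,6),(13,47,2,33),(36,5,2,30),(41,39,2,13),(3,15,2,31),(43,33,2,8),(16,7,2,15),(55,25,2,26),(35,43,2,9),(21,15,2,34),(48,35,2,32),(2,45,2,24),(26,5,2,25),(53,15,2,30),(38,56,2,6),(51,15,2,32),(31,38,2,31),(45,25,2,27),(34,56,2,10),(57,15,2,31),(37,15,2,34)]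
def row45 : List M4 := [(0,45,2,24),(20,36,2,28),(22,42,2,17),(7,14,2,28),(21,9,2,33),(26,14,2,14),(6,14,2,27),(3,14,2,30),(8,2,2,38),(16,9,2,4),(57,44,2,26),(45,38,2,10),(42,43,2,21),(39,48,1,7),(38,48,2,8),(25,4,2,25),(9,9,2,9),(52,14,2,29),(24,14,2,29),(37,32,2,15),(1,36,2,27),(4,9,2,29),(2,42,2,20),(58,49,2,18),(18,14,2,28),(15,4,2,28),(5,14,2,16),(40,44,2,23),(28,25,2,14),(32,30,2,27),(53,42,2,22),(31,6,2,15),(29,30,2,30),(33,13,2,30),(43,12,2,30),(35,58,2,15),(55,14,2,28),(19,32,2,16),(14,48,2,11),(13,48,0,7),(27,44,2,22),(41,40,0,12),(12,43,2,20),(34,12,2,29),(44,22,2,32),(11,38,2,9),(46,14,2,40),(47,5,2,29),(48,19,2,31),(49,51,2,25),(51,14,2,31),(50,14,2,29),(17,14,2,27),(30,42,2,24),(54,1,2,7),(36,14,2,30),(56,39,2,16),(10,44,2,24),(23,49,2,19)]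
def row46 : List M4 := [(0,46,2,8),(38,13,2,13),(40,28,2,13),(3,37,2,28),(54,24,2,36),(47,55,2,28),(46,10,2,23),(36,13,2,12),(8,22,2,20),(9,13,2,24),(13,53,2,24),(45,39,0,6),(44,39,2,33),(10,53,2,21),(14,13,2,40),(43,24,2,8),(16,1,2,38),(17,54,2,25),(18,50,2,14),(35,29,2,12),(23,13,2,13),(57,21,2,17),(27,25,2,12),(20,13,2,11),(24,12,2,16),(30,13,2,12),(26,19,2,27),(22,25,2,11),(39,2,2,34),(49,21,2,17),(25,13,2,14),(31,51,2,13),(50,53,2,20),(33,14,2,28),(37,16,2,31),(19,29,2,9),(7,13,2,14),(34,16,2,32),(1,13,2,15),(28,2,2,33),(2,28,2,14),(51,13,2,29),(56,13,2,13),(15,24,2,10),(12,39,2,30),(11,39,1,8),(6,10,2,22),(5,55,2,29),(55,11,2,11),(29,21,2,13),(32,53,2,20),(41,13,2,27),(52,32,2,29),(53,5,2,15),(4,24,2,35),(48,11,2,14),(42,13,2,12),(21,21,2,22),(58,44,2,22)]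
def row47 : List M4 := [(0,47,2,28),(47,41,2,10),(27,36,2,20),(3,28,2,30),(4,2,2,36),(14,12,2,30),(11,12,2,34),(29,12,2,30),(19,51,2,31),(40,4,2,26),(26,12,2,29),(6,12,2,32),(41,58,2,12),(55,54,2,28),(5,12,2,32),(15,38,2,33),(45,42,2,23),(32,4,2,30),(54,33,2,33),(8,51,2,30),(46,44,2,33),(21,43,2,11),(22,12,2,29),(53,12,2,32),(24,13,2,17),(28,58,2,7),(10,12,2,31),(2,36,2,21),(25,58,2,7),(7,12,2,28),(30,16,2,18),(31,12,2,12),(17,4,2,28),(39,33,2,8),(43,14,2,27),(35,22,2,19),(44,20,2,24),(51,36,2,24),(56,12,2,18),(33,33,2,9),(9,4,2,23),(12,58,2,11),(42,10,2,25),(34,14,2,31),(36,20,2,25),(16,42,2,22),(20,44,2,30),(1,41,2,13),(48,25,2,16),(49,27,2,38),(57,19,2,19),(37,36,2,22),(52,9,2,12),(23,12,2,31),(18,33,2,33),(13,54,2,29),(38,12,2,16),(50,19,2,16),(58,50,2,35)]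
def row48 : List M4 := [(0,48,2,27),(33,38,2,24),(31,11,2,31),(39,11,2,31),(4,36,1,5),(41,3,2,31),(18,4,2,10),(16,20,2,31),(36,42,2,19),(9,19,2,28),(51,33,2,20),(13,4,2,11),(25,11,2,19),(11,4,2,14),(19,11,2,34),(35,11,2,31),(7,20,2,28),(23,43,2,26),(6,4,2,10),(14,11,2,32),(46,45,1,7),(45,45,2,12),(22,7,2,17),(17,43,2,25),(26,11,2,30),(12,11,2,17),(24,11,2,32),(42,32,2,30),(28,23,2,15),(32,33,2,27),(30,11,2,30),(2,11,2,32),(29,33,2,25),(1,38,2,23),(34,5,2,10),(15,11,2,33),(8,42,2,18),(37,30,2,18),(52,1,2,32),(3,11,2,33),(40,10,0,12),(5,3,2,30),(27,32,2,33),(43,51,2,35),(44,18,2,19),(21,45,2,7),(20,45,1,3),(47,6,2,33),(55,13,2,12),(50,43,2,27),(49,43,2,29),(10,33,2,23),(38,1,2,33),(53,11,2,14),(56,9,2,22),(48,13,2,13),(54,9,2,21),(57,54,2,18),(58,25,2,32)]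
def row49 : List M4 := [(0,49,2,18),(36,45,2,22),(28,10,2,25),(57,57,2,32),(4,37,2,35),(19,10,2,24),(46,13,2,24),(24,23,2,18),(33,35,2,12),(9,22,2,25),(44,9,1,2),(43,9,2,30),(27,10,2,37),(21,30,2,16),(51,10,2,24),(45,57,2,23),(16,10,2,34),(30,56,2,15),(22,6,2,10),(5,10,2,22),(20,1,2,37),(13,30,2,18),(18,6,2,9),(23,41,2,26),(7,23,2,20),(25,33,2,38),(48,51,2,22),(12,10,2,39),(2,10,2,23),(54,10,2,23),(17,56,2,14),(31,52,2,32),(32,43,2,24),(8,35,2,13),(55,10,2,22),(35,28,2,19),(1,45,2,19),(53,23,2,16),(38,10,2,21),(39,38,2,9),(40,11,1,10),(52,30,2,14),(42,12,2,23),(11,9,2,30),(10,9,0,5),(15,57,2,27),(6,13,2,21),(47,26,2,30),(26,51,2,21),(50,44,0,3),(49,44,0,4),(14,10,2,22),(41,30,2,11),(37,23,2,17),(29,10,2,21),(34,10,2,23),(58,17,2,23),(3,57,2,27),(56,17,2,24)]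
def row50 : List M4 := [(0,50,2,23),(1,47,2,35),(2,37,2,20),(3,31,2,31),(21,14,2,31),(15,33,2,25),(29,53,2,26),(20,9,2,23),(28,29,2,14),(16,14,2,7),(44,10,1,3),(43,10,2,28),(19,2,2,18),(53,27,2,19),(14,8,2,30),(5,33,2,28),(9,14,2,6),(17,21,2,25),(18,54,2,12),(12,2,2,17),(7,9,2,25),(4,14,2,31),(22,35,2,33),(34,9,2,27),(57,3,2,23),(32,9,2,26),(26,58,2,28),(33,15,2,19),(8,29,2,11),(6,53,2,25),(51,3,2,18),(35,27,2,15),(25,9,2,27),(27,15,2,20),(23,9,2,29),(31,27,2,16),(36,4,2,11),(49,9,2,24),(38,9,2,36),(39,51,2,36),(48,9,2,27),(41,46,2,14),(58,9,2,11),(11,10,2,28),(10,10,0,4),(50,16,2,5),(46,9,2,24),(55,40,2,26),(40,9,2,25),(37,9,2,26),(45,16,2,8),(30,3,2,21),(52,12,2,13),(13,27,2,17),(56,11,2,23),(47,40,2,22),(54,11,2,24),(24,3,2,25),(42,9,2,13)]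
def row51 : List M4 := [(0,51,2,16),(1,8,2,32),(2,58,2,22),(9,29,2,19),(27,8,2,22),(34,24,2,16),(7,42,2,14),(6,42,2,15),(47,19,2,29),(3,29,2,20),(10,45,2,21),(33,49,2,22),(36,22,2,21),(13,18,2,30),(14,9,2,28),(15,6,2,33),(16,48,2,35),(48,36,2,17),(21,24,2,9),(19,53,2,23),(20,50,2,36),(18,24,2,12),(26,22,2,25),(29,8,2,22),(49,33,2,12),(52,34,2,19),(22,22,2,30),(4,8,2,20),(28,46,2,17),(23,8,2,20),(50,28,2,10),(41,42,2,18),(32,56,2,37),(11,49,2,21),(5,24,2,14),(55,8,2,21),(12,22,2,25),(46,8,2,23),(53,52,2,37),(44,8,2,20),(51,47,2,31),(31,42,2,16),(42,21,2,24),(43,54,2,7),(39,8,2,21),(57,8,2,35),(37,8,2,21),(8,19,2,32),(17,36,2,20),(24,33,2,13),(30,28,2,11),(40,47,2,30),(25,34,2,22),(38,52,2,36),(54,8,2,19),(35,8,2,19),(58,19,2,28),(45,8,2,37),(56,19,2,28)]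
def row52 : List M4 := [(0,52,2,11),(11,21,2,33),(40,34,2,16),(3,7,1,12),(4,1,2,21),(58,22,2,13),(21,51,2,37),(19,24,2,24),(34,34,2,21),(12,7,2,13),(30,18,2,10),(1,21,2,32),(9,7,2,11),(32,7,2,28),(14,42,2,29),(56,21,2,5),(44,15,2,13),(51,6,2,13),(57,7,2,15),(7,24,2,23),(43,22,2,38),(6,51,2,36),(22,11,2,19),(23,7,2,24),(24,39,2,18),(55,7,2,14),(38,7,2,14),(27,30,2,23),(28,49,2,28),(41,54,2,35),(10,18,2,14),(33,7,2,15),(13,7,2,30),(31,7,2,17),(8,34,2,20),(52,19,2,22),(49,24,2,19),(42,2,2,12),(26,7,2,15),(48,16,2,31),(2,34,2,16),(29,54,2,34),(37,2,2,11),(20,22,2,35),(16,15,2,14),(45,3,2,31),(46,36,2,13),(47,29,2,30),(39,16,2,28),(36,24,2,19),(50,20,2,24),(17,6,2,16),(35,19,2,25),(53,32,2,16),(54,55,2,37),(25,7,2,12),(15,21,2,7),(18,7,2,13),(5,22,2,11)]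
def row53 : List M4 := [(0,53,2,11),(43,18,2,36),(2,1,2,19),(35,6,2,17),(39,55,2,14),(13,6,2,16),(50,29,2,24),(32,6,2,15),(52,21,2,35),(27,46,2,16),(23,22,2,16),(11,6,2,14),(12,36,2,30),(5,6,2,18),(42,29,2,23),(15,8,2,31),(38,2,2,11),(51,7,2,14),(22,10,2,7),(28,6,2,30),(34,2,2,10),(21,5,1,12),(18,10,2,8),(10,22,2,17),(24,42,2,32),(58,39,2,31),(26,34,2,28),(9,46,2,20),(19,6,2,32),(29,25,2,18),(53,50,2,26),(31,14,2,17),(7,6,2,17),(44,6,2,16),(20,2,2,9),(3,6,2,15),(57,27,2,15),(37,19,2,16),(16,2,2,13),(4,55,2,17),(40,51,2,23),(56,6,2,16),(14,29,2,23),(1,18,2,33),(33,6,2,15),(45,6,2,27),(49,46,2,20),(47,11,2,31),(55,18,2,11),(46,46,2,25),(6,29,2,27),(17,7,2,15),(8,21,2,34),(30,50,2,25),(54,43,2,25),(48,18,2,9),(41,6,2,14),(36,27,2,12),(25,39,2,32)]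
def row54 : List M4 := [(0,54,2,5),(14,5,2,8),(2,48,2,18),(23,36,2,7),(46,47,2,28),(22,34,2,18),(43,5,2,24),(55,5,2,36),(8,5,2,18),(11,3,2,22),(10,30,2,23),(9,3,2,25),(33,41,2,36),(24,55,2,37),(1,5,2,6),(38,28,2,30),(16,51,2,7),(57,5,2,34),(30,52,2,35),(19,5,2,35),(20,35,2,22),(21,6,1,10),(5,34,2,17),(3,36,2,8),(13,55,2,33),(54,22,2,16),(50,15,2,27),(44,5,2,37),(29,38,0,10),(28,38,1,7),(18,52,2,34),(58,58,2,15),(39,5,2,11),(12,41,2,34),(34,11,2,12),(51,34,2,13),(40,15,2,28),(52,58,2,10),(15,28,2,31),(32,5,2,9),(36,15,2,30),(41,50,2,13),(42,46,2,24),(6,5,2,22),(27,5,2,38),(45,26,2,15),(4,47,2,29),(47,14,2,31),(56,41,2,32),(49,19,2,25),(26,15,2,26),(35,34,2,13),(37,58,2,10),(53,13,2,17),(25,22,2,19),(7,5,2,38),(48,41,2,29),(17,5,2,36),(31,58,2,14)]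
def row55 : List M4 := [(0,55,2,3),(1,29,0,5),(43,4,2,9),(33,21,2,30),(53,39,2,16),(5,52,2,37),(18,11,2,8),(7,34,2,15),(8,24,2,21),(40,12,2,25),(10,25,2,22),(13,11,2,12),(54,46,2,28),(11,11,2,13),(14,23,2,29),(25,14,2,26),(16,28,2,20),(32,12,2,26),(6,11,2,8),(56,26,2,20),(55,53,2,14),(21,40,2,40),(49,4,2,34),(48,4,1,4),(38,18,2,32),(15,14,2,27),(42,17,2,5),(27,4,2,33),(29,39,2,11),(28,39,2,11),(30,4,2,16),(34,44,2,31),(17,12,2,28),(3,21,2,27),(31,44,2,35),(46,54,2,34),(36,9,2,13),(37,3,2,16),(24,18,2,33),(39,56,2,10),(9,12,2,24),(44,4,2,34),(26,17,2,6),(2,4,2,7),(41,4,2,36),(50,21,2,34),(35,54,2,37),(57,4,2,36),(23,4,0,6),(22,4,2,32),(45,21,2,32),(51,27,2,23),(58,4,2,22),(4,39,2,15),(12,46,2,29),(20,53,2,17),(19,26,2,23),(47,4,2,35),(52,4,2,20)]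
def row56 : List M4 := [(0,56,2,27),(1,30,2,35),(49,57,2,30),(25,44,2,11),(26,40,2,22),(41,11,2,32),(6,18,2,16),(21,44,2,6),(19,1,2,27),(11,5,2,23),(17,1,2,22),(9,5,2,24),(12,21,2,15),(13,17,2,11),(39,3,2,15),(56,25,2,9),(33,3,2,29),(10,1,2,25),(58,43,2,27),(8,1,2,29),(20,55,2,10),(7,44,2,6),(46,3,2,27),(54,23,2,7),(57,9,2,23),(3,44,2,10),(4,40,2,21),(27,51,2,37),(50,3,2,30),(42,49,2,15),(51,9,2,19),(47,3,2,33),(36,3,2,28),(16,3,2,31),(43,23,2,32),(35,3,2,28),(32,3,2,30),(37,4,2,17),(55,33,2,26),(14,3,2,17),(40,32,2,24),(5,11,2,29),(29,49,2,18),(34,23,2,32),(44,42,2,34),(45,7,2,29),(22,3,2,29),(31,3,2,31),(48,39,2,32),(2,57,2,29),(28,3,2,31),(30,9,2,20),(52,3,1,11),(53,35,2,18),(23,23,2,8),(38,33,2,30),(15,25,2,12),(24,9,2,21),(18,43,2,28)]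
def row57 : List M4 := [(0,57,2,15),(51,2,2,21),(56,49,2,28),(9,35,2,20),(4,12,2,34),(5,42,2,35),(27,23,2,11),(7,41,2,16),(8,14,2,36),(3,35,2,24),(57,56,2,30),(54,2,2,20),(19,9,2,19),(21,38,2,21),(44,49,2,27),(15,2,2,31),(38,6,2,15),(45,22,2,19),(18,34,2,29),(12,9,2,16),(34,6,2,11),(13,38,2,18),(50,2,2,19),(47,27,2,20),(41,2,2,22),(52,40,2,15),(29,2,2,34),(6,23,2,12),(39,13,2,35),(26,2,2,36),(30,44,2,21),(46,40,2,13),(32,26,2,20),(33,17,2,27),(20,6,2,8),(36,35,2,24),(35,35,2,29),(42,7,2,9),(16,6,2,13),(28,13,2,36),(40,20,2,23),(24,2,2,20),(37,7,2,10),(43,2,2,18),(14,49,2,27),(17,22,2,18),(31,40,2,14),(23,27,2,21),(48,31,2,32),(49,28,2,22),(22,2,2,21),(1,2,2,19),(25,40,2,17),(58,2,2,20),(11,2,2,19),(55,43,2,6),(2,49,2,31),(10,56,2,29),(53,2,2,18)]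
def row58 : List M4 := [(0,58,0,2),(28,54,2,15),(2,6,2,20),(43,41,2,27),(4,7,2,19),(58,28,2,13),(39,34,2,31),(22,54,2,10),(19,3,2,27),(9,17,2,12),(17,3,2,23),(25,1,2,35),(50,1,2,34),(44,1,2,21),(49,36,2,22),(15,22,2,33),(16,13,2,36),(10,3,2,24),(47,47,2,12),(8,3,2,25),(20,10,2,39),(48,33,2,26),(7,54,2,10),(45,20,2,26),(24,45,2,15),(11,1,2,33),(42,20,2,33),(35,1,2,31),(1,54,2,14),(56,1,2,34),(55,1,0,8),(34,47,2,7),(32,21,2,21),(33,50,2,28),(31,47,2,7),(27,1,2,33),(40,19,2,4),(37,1,2,15),(52,11,2,34),(6,34,2,32),(36,19,2,5),(53,43,2,36),(26,20,2,31),(3,41,2,28),(13,1,2,19),(23,20,2,29),(46,38,2,14),(18,47,2,11),(21,33,2,25),(14,36,2,19),(12,1,2,32),(51,1,2,32),(38,11,2,30),(41,43,2,33),(54,14,2,9),(30,1,1,6),(29,1,2,35),(57,51,2,22),(5,28,2,16)]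

def tab : List (List M4) := [row0, row1, row2, row3, row4, row5, row6, row7, row8, row9, row10, row11, row12, row13, row14, row15, row16, row17, row18, row19, row20, row21, row22, row23, row24, row25, row26, row27, row28, row29, row30, row31, row32, row33, row34, row35, row36, row37, row38, row39, row40, row41, row42, row43, row44, row45, row46, row47, row48, row49, row50, row51, row52, row53, row54, row55, row56, row57, row58]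

set_option maxHeartbeats 0 in
theorem cA : chkA 59 (gp.map Prod.fst ++ gp.map Prod.snd) tab = true := by decide +kernel

set_option maxHeartbeats 0 in
theorem cB : chkB 59 gp tab = true := by decide +kernel

theorem cC : chkC 59 gp = true := by decide +kernel

theorem c1 : matOf tab 1 0 = (1, 0, 0, 1) := by decide +kernel

theorem eA : toMat 59 (0,58,1,0) = !![0, -1; 1, 0] := by decide +kernel
theorem eB : toMat 59 (9,15,49,49) = !![9, 15; -10, -10] := by decide +kernel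
theorem eC : toMat 59 (4,0,0,4) = !![4, 0; 0, 4] := by decide +kernel

/-- An exceptional sharply doubly transitive group of degree 59^2: the listed matrices generate a subgroup of GL(2,59) of order 3480 acting regularly on the non-zero vectors. -/
theorem result (A : Matrix.GeneralLinearGroup (Fin 2) (ZMod 59)) (B : Matrix.GeneralLinearGroup (Fin 2) (ZMod 59)) (C : Matrix.GeneralLinearGroup (Fin 2) (ZMod 59)) (hA : (A : Matrix (Fin 2) (Fin 2) (ZMod 59)) = !![0, -1; 1, 0]) (hB : (B : Matrix (Fin 2) (Fin 2) (ZMod 59)) = !![9, 15; -10, -10]) (hC : (C : Matrix (Fin 2) (Fin 2) (ZMod 59)) = !![4, 0; 0, 4]) : Nat.card (Subgroup.closure ({A, B, C} : Set (Matrix.GeneralLinearGroup (Fin 2) (ZMod 59)))) = 3480 ∧ ∀ v w : Fin 2 → ZMod 59, v ≠ 0 → w ≠ 0 → ∃! h : Subgroup.closure ({A, B, C} : Set (Matrix.GeneralLinearGroup (Fin 2) (ZMod 59))), Matrix.mulVec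 ((h : Matrix.GeneralLinearGroup (Fin 2) (ZMod 59)) : Matrix (Fin 2) (Fin 2) (ZMod 59)) v = w := by
  have key := main (q := 59) (by norm_num) gp tab cA cB cC c1
    ({A, B, C} : Set (Matrix.GeneralLinearGroup (Fin 2) (ZMod 59))) ?_ ?_
  · simpa using key
  · rintro u (rfl | rfl | rfl)
    · exact ⟨((0,58,1,0),(0,1,58,0)), by simp [gp], by rw [hA, eA]⟩
    · exact ⟨((9,15,49,49),(49,44,10,9)), by simp [gp], by rw [hB, eB]⟩
    · exact ⟨((4,0,0,4),(15,0,0,15)), by simp [gp], by rw [hC, eC]⟩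
  · intro p hp
    simp only [gp, List.mem_cons, List.not_mem_nil, or_false] at hp
    rcases hp with rfl | rfl | rfl
    · exact ⟨A, by simp, by rw [hA, eA]⟩
    · exact ⟨B, by simp, by rw [hB, eB]⟩
    · exact ⟨C, by simp, by rw [hC, eC]⟩

end Cfsg.Agent.S0693
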