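import Cfsg.Statements.S4001
import Mathlib
import Cfsg.Agent.Lead.FrobConj
import Cfsg.Agent.Lead.FrobNorm
import Cfsg.Agent.S0042
-- import your own Cfsg.Agent.* helpers here

set_option autoImplicit false
open Cfsg

namespace Cfsg.Agent.S4001

open Cfsg.Agent.Lead

universe u

theorem cyc_comm {X : Type*} [Group X] [IsCyclic X] (a b : X) : a * b = b * a := by
  obtain ⟨g, hg⟩ := IsCyclic.exists_generator (α := X)
  obtain ⟨i, rfl⟩ := Subgroup.mem_zpowers_iff.1 (hg a)
  obtain ⟨j, rfl⟩ := Subgroup.mem_zpowers_iff.1 (hg b)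
  rw [← zpow_add, ← zpow_add, add_comm]

theorem not_dvd_of_cop {p a b : ℕ} (hp : p.Prime) (h : Nat.Coprime a b) (ha : p ∣ a) : ¬ p ∣ b := by
  intro hb
  have h1 := Nat.dvd_gcd ha hb
  rw [h.gcd_eq_one] at h1
  exact hp.one_lt.ne' (Nat.dvd_one.1 h1)

theorem ord_dvd_card {A : Type*} [Group A] (S : Subgroup A) {x : A} (hx : x ∈ S) :
    orderOf x ∣ Nat.card S := by
  have h1 := orderOf_dvd_natCard (⟨x, hx⟩ : S)
  rwa [Subgroup.orderOf_mk] at h1

theorem frob_setup {X : Type u} [Group X] [Finite X] (C N : Subgroup X)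
    (hC : Cfsg.IsFrobeniusComplement C) (hN : Cfsg.frobeniusKernel C = (N : Set X)) :
    FrobData C N ∧ Group.IsNilpotent ↥N := by
  obtain ⟨N', d⟩ := exists_frobData C hC
  have e : N' = N := SetLike.coe_injective (d.2.1.trans hN)
  obtain ⟨N'', h1, _, h3⟩ := Cfsg.Agent.S0042.result C hC
  have e' : N'' = N := SetLike.coe_injective (h1.trans hN)
  exact ⟨e ▸ d, e' ▸ h3⟩

theorem comm' {X : Type u} [Group X] {C N : Subgroup X} (d : FrobData C N) {x c : X}
    (hx : x ∉ N) (hc : c ∈ N) (hcx : c * x = x * c) : c = 1 := by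
  obtain ⟨hx1, g, hg⟩ := d.not_mem hx
  have hg1 : g⁻¹ * x * g ≠ 1 := by
    intro h
    apply hx1
    calc x = g * (g⁻¹ * x * g) * g⁻¹ := by group
      _ = 1 := by rw [h]; group
  have hc' : g⁻¹ * c * g ∈ N := by
    have := d.2.2.1.conj_mem c hc g⁻¹
    simpa using this
  have hcomm : (g⁻¹ * c * g) * (g⁻¹ * x * g) = (g⁻¹ * x * g) * (g⁻¹ * c * g) := by
    calc (g⁻¹ * c * g) * (g⁻¹ * x * g) = g⁻¹ * (c * x) * g := by group
      _ = g⁻¹ * (x * c) * g := by rw [hcx]
      _ = (g⁻¹ * x * g) * (g⁻¹ * c * g) := by group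
  have h1 := d.comm hg hg1 hc' hcomm
  calc c = g * (g⁻¹ * c * g) * g⁻¹ := by group
    _ = 1 := by rw [h1]; group

/-- a nilpotent group has a central element of each prime order dividing its order -/
theorem cen {X : Type*} [Group X] [Finite X] (hnil : Group.IsNilpotent X) (p : ℕ) (hp : p.Prime)
    (hdvd : p ∣ Nat.card X) : ∃ z : X, orderOf z = p ∧ ∀ y : X, z * y = y * z := by
  classical
  haveI : Fact p.Prime := ⟨hp⟩
  haveI := hnil
  have hnc : NormalizerCondition X := normalizerCondition_of_isNilpotent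
  have hSn : ∀ (q : ℕ) [Fact q.Prime] (Q : Sylow q X), (Q : Subgroup X).Normal :=
    fun q _ Q => Sylow.normal_of_normalizerCondition hnc Q
  let P : Sylow p X := default
  haveI hPn : (P : Subgroup X).Normal := hSn p P
  have hPcard : p ∣ Nat.card (P : Subgroup X) := by
    rw [Sylow.card_eq_multiplicity]
    exact dvd_pow_self p (Nat.Prime.factorization_pos_of_dvd hp Nat.card_pos.ne' hdvd).ne'
  haveI : Nontrivial (P : Subgroup X) := by
    rw [← Finite.one_lt_card_iff_nontrivial]
    exact lt_of_lt_of_le hp.one_lt (Nat.le_of_dvd Nat.card_pos hPcard)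
  have hPp : IsPGroup p (P : Subgroup X) := P.isPGroup'
  haveI hcn : Nontrivial (Subgroup.center (P : Subgroup X)) := hPp.center_nontrivial
  have hcd : p ∣ Nat.card (Subgroup.center (P : Subgroup X)) := by
    rcases (hPp.to_subgroup (Subgroup.center (P : Subgroup X))).card_eq_or_dvd with h | h
    · have := Finite.one_lt_card_iff_nontrivial.2 hcn
      omega
    · exact h
  obtain ⟨z₁, hz₁⟩ := exists_prime_orderOf_dvd_card' p hcd
  obtain ⟨z, hzdef⟩ : ∃ z : X, z = ((z₁ : (P : Subgroup X)) : X) := ⟨_, rfl⟩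
  have hzo : orderOf z = p := by
    rw [hzdef, Subgroup.orderOf_coe, Subgroup.orderOf_coe]; exact hz₁
  have hzmem : z ∈ (P : Subgroup X) := by rw [hzdef]; exact (z₁ : (P : Subgroup X)).2
  have hzP : ∀ w ∈ (P : Subgroup X), z * w = w * z := by
    intro w hw
    have := Subgroup.mem_center_iff.1 z₁.2 ⟨w, hw⟩
    rw [hzdef]
    exact (congrArg Subtype.val this).symm
  refine ⟨z, hzo, ?_⟩
  have key : ∀ (q : ℕ), q.Prime → ¬ q ∣ (Subgroup.centralizer ({z} : Set X)).index := by
    intro q hq hqd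
    haveI : Fact q.Prime := ⟨hq⟩
    by_cases hqp : q = p
    · have hPC : (P : Subgroup X) ≤ Subgroup.centralizer ({z} : Set X) := by
        intro w hw
        rw [Subgroup.mem_centralizer_iff]
        intro h hh
        rw [Set.mem_singleton_iff.1 hh]
        exact hzP w hw
      rw [hqp] at hqd
      exact P.not_dvd_index (dvd_trans hqd (Subgroup.index_dvd_of_le hPC))
    · let Q : Sylow q X := default
      haveI hQn : (Q : Subgroup X).Normal := hSn q Q
      have hQC : (Q : Subgroup X) ≤ Subgroup.centralizer ({z} : Set X) := by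
        intro w hw
        rw [Subgroup.mem_centralizer_iff]
        intro h hh
        rw [Set.mem_singleton_iff.1 hh]
        have h1 : z * w * z⁻¹ * w⁻¹ ∈ (P : Subgroup X) := by
          have e : z * w * z⁻¹ * w⁻¹ = z * (w * z⁻¹ * w⁻¹) := by group
          rw [e]
          exact (P : Subgroup X).mul_mem hzmem (hPn.conj_mem _ ((P : Subgroup X).inv_mem hzmem) w)
        have h2 : z * w * z⁻¹ * w⁻¹ ∈ (Q : Subgroup X) :=
          (Q : Subgroup X).mul_mem (hQn.conj_mem _ hw z) ((Q : Subgroup X).inv_mem hw)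
        have hdis := IsPGroup.disjoint_of_ne p q (Ne.symm hqp) (P : Subgroup X) (Q : Subgroup X)
          P.isPGroup' Q.isPGroup'
        have h3 := Subgroup.disjoint_def.1 hdis h1 h2
        have h4 : z * w * z⁻¹ = w := mul_inv_eq_one.1 h3
        exact mul_inv_eq_iff_eq_mul.1 h4
      exact Q.not_dvd_index (dvd_trans hqd (Subgroup.index_dvd_of_le hQC))
  have htop : Subgroup.centralizer ({z} : Set X) = ⊤ := by
    rw [← Subgroup.index_eq_one]
    by_contra h1
    obtain ⟨q, hq, hqd⟩ := Nat.exists_prime_and_dvd h1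
    exact key q hq hqd
  intro y
  have hy : y ∈ Subgroup.centralizer ({z} : Set X) := by rw [htop]; exact Subgroup.mem_top y
  exact Subgroup.mem_centralizer_iff.1 hy z rfl

theorem nil_pq {X : Type*} [Group X] [Finite X] (hnil : Group.IsNilpotent X) (p q : ℕ)
    (hp : p.Prime) (hq : q.Prime) (hpq : p ≠ q) (hpd : p ∣ Nat.card X) (hqd : q ∣ Nat.card X) :
    ∃ x : X, orderOf x = p * q := by
  obtain ⟨z, hz, hzc⟩ := cen hnil p hp hpd
  haveI : Fact q.Prime := ⟨hq⟩
  obtain ⟨w, hw⟩ := exists_prime_orderOf_dvd_card' q hqd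
  refine ⟨z * w, ?_⟩
  have hc : Commute z w := hzc w
  rw [hc.orderOf_mul_eq_mul_orderOf_of_coprime
    (by rw [hz, hw]; exact (Nat.coprime_primes hp hq).2 hpq), hz, hw]

theorem lift_order {X Y : Type*} [Group X] [Finite X] [Group Y] (f : X →* Y)
    (hf : Function.Surjective f) (n : ℕ) (y : Y) (hy : orderOf y = n) :
    ∃ x : X, orderOf x = n := by
  obtain ⟨x, rfl⟩ := hf y
  have hd : n ∣ orderOf x := by rw [← hy]; exact orderOf_map_dvd f x
  obtain ⟨k, hk⟩ := hd
  have hpos : 0 < orderOf x := orderOf_pos x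
  have hk0 : k ≠ 0 := by
    rintro rfl
    rw [mul_zero] at hk
    omega
  refine ⟨x ^ k, ?_⟩
  rw [orderOf_pow_of_dvd hk0 (Dvd.intro_left n hk.symm), hk,
    Nat.mul_div_cancel _ (Nat.pos_of_ne_zero hk0)]

/-- two commuting automorphisms of order dividing `p` generating a group acting semiregularly:
every element is killed by `p` -/
theorem elem {V : Type*} [CommGroup V] (α β : MulAut V) (p : ℕ) (hp : 0 < p) (hα : α ^ p = 1)
    (hβ : β ^ p = 1) (hαβ : α * β = β * α)
    (h1 : ∀ j : ℕ, 0 < j → j < p → ∀ v : V, (α ^ j) v = v → v = 1)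
    (h2 : ∀ i : ℕ, ∀ v : V, (α ^ i * β) v = v → v = 1) (v : V) : v ^ p = 1 := by
  have hnorm : ∀ γ : MulAut V, γ ^ p = 1 → (∀ w : V, γ w = w → w = 1) →
      ∀ w : V, ∏ j ∈ Finset.range p, (γ ^ j) w = 1 := by
    intro γ hγ hfp w
    apply hfp
    rw [map_prod]
    have e1 := Finset.prod_range_succ (fun j => (γ ^ j) w) p
    have e2 := Finset.prod_range_succ' (fun j => (γ ^ j) w) p
    have e3 : (∏ j ∈ Finset.range p, (γ ^ (j + 1)) w) * w
        = (∏ j ∈ Finset.range p, (γ ^ j) w) * w := by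
      have e4 := e2.symm.trans e1
      simp only [pow_zero, MulAut.one_apply, hγ] at e4
      exact e4
    have e5 := mul_right_cancel e3
    rw [← e5]
    refine Finset.prod_congr rfl (fun j _ => ?_)
    rw [pow_succ', MulAut.mul_apply]
  have hc : Commute α β := hαβ
  have A : ∀ i : ℕ, ∏ j ∈ Finset.range p, ((α ^ i * β) ^ j) v = 1 := by
    intro i
    refine hnorm (α ^ i * β) ?_ (h2 i) v
    rw [(hc.pow_left i).mul_pow p, ← pow_mul, mul_comm i p, pow_mul, hα, one_pow, hβ, mul_one]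
  have B : ∏ j ∈ Finset.range p, ∏ i ∈ Finset.range p, ((α ^ j) ^ i) ((β ^ j) v) = 1 := by
    rw [Finset.prod_comm]
    apply Finset.prod_eq_one
    intro i _
    rw [← A i]
    refine Finset.prod_congr rfl (fun j _ => ?_)
    rw [(hc.pow_left i).mul_pow j, MulAut.mul_apply, ← pow_mul, ← pow_mul, mul_comm]
  have hs := Finset.prod_eq_single (s := Finset.range p)
    (f := fun j => ∏ i ∈ Finset.range p, ((α ^ j) ^ i) ((β ^ j) v)) 0
    (fun j hj hj0 => hnorm (α ^ j) (by rw [← pow_mul, mul_comm, pow_mul, hα, one_pow])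
      (h1 j (Nat.pos_of_ne_zero hj0) (Finset.mem_range.1 hj)) _)
    (fun h0 => absurd (Finset.mem_range.2 hp) h0)
  have hB := hs.symm.trans B
  simpa using hB

theorem econd {A : Type*} [Group A] {V : Type*} [CommGroup V] [Finite V] [Nontrivial V]
    (φ : A →* MulAut V) (S : Subgroup A) [Finite S]
    (hfpf : ∀ s ∈ S, s ≠ 1 → ∀ v : V, φ s v = v → v = 1)
    (hcop : (Nat.card S).Coprime (Nat.card V)) (p : ℕ) (hp : p.Prime) (a b : A) (ha : a ∈ S)
    (hb : b ∈ S) (hab : a * b = b * a) (hap : a ^ p = 1) (hbp : b ^ p = 1) (ha1 : a ≠ 1) :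
    b ∈ Subgroup.zpowers a := by
  haveI : Fact p.Prime := ⟨hp⟩
  by_contra hbz
  have ho : orderOf a = p := orderOf_eq_prime hap ha1
  have hv : ∀ v : V, v ^ p = 1 := by
    intro v
    refine elem (φ a) (φ b) p hp.pos (by rw [← map_pow, hap, map_one])
      (by rw [← map_pow, hbp, map_one]) (by rw [← map_mul, hab, map_mul]) ?_ ?_ v
    · intro j hj0 hjp w hw
      refine hfpf (a ^ j) (S.pow_mem ha j) (fun h => ?_) w (by rw [map_pow]; exact hw)
      have h3 : p ∣ j := by rw [← ho]; exact orderOf_dvd_of_pow_eq_one h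
      have := Nat.le_of_dvd hj0 h3
      omega
    · intro i w hw
      refine hfpf (a ^ i * b) (S.mul_mem (S.pow_mem ha i) hb) (fun h => hbz ?_) w
        (by rw [map_mul, map_pow]; exact hw)
      have hb' : b = (a ^ i)⁻¹ := eq_inv_of_mul_eq_one_right h
      rw [hb']
      exact (Subgroup.zpowers a).inv_mem (Subgroup.npow_mem_zpowers a i)
  have hpS : p ∣ Nat.card S := by
    rw [← ho]; exact ord_dvd_card S ha
  obtain ⟨v, hv1⟩ := exists_ne (1 : V)
  apply hv1
  have h1 : orderOf v ∣ p := orderOf_dvd_of_pow_eq_one (hv v)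
  have h2 : orderOf v ∣ Nat.card V := orderOf_dvd_natCard v
  have h3 := Nat.dvd_gcd (h1.trans hpS) h2
  rw [hcop.gcd_eq_one] at h3
  exact orderOf_eq_one_iff.1 (Nat.dvd_one.1 h3)

theorem pow_aux {X : Type*} [Group X] (x y c : X) (hyx : y * x = x * y * c) (hcx : Commute c x)
    (hcy : Commute c y) (k : ℕ) : y ^ k * x = x * y ^ k * c ^ k := by
  induction k with
  | zero => simp
  | succ k ih =>
    have h1 : c * y ^ k = y ^ k * c := (hcy.pow_right k).eq
    calc y ^ (k + 1) * x = y * (y ^ k * x) := by rw [pow_succ', mul_assoc]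
      _ = y * (x * y ^ k * c ^ k) := by rw [ih]
      _ = (y * x) * y ^ k * c ^ k := by simp only [mul_assoc]
      _ = (x * y * c) * y ^ k * c ^ k := by rw [hyx]
      _ = x * y * (c * y ^ k) * c ^ k := by simp only [mul_assoc]
      _ = x * y * (y ^ k * c) * c ^ k := by rw [h1]
      _ = x * (y * y ^ k) * (c * c ^ k) := by simp only [mul_assoc]
      _ = x * y ^ (k + 1) * c ^ (k + 1) := by rw [← pow_succ', ← pow_succ']

theorem pow_class2 {X : Type*} [Group X] (x y c : X) (hyx : y * x = x * y * c)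
    (hcx : Commute c x) (hcy : Commute c y) (n : ℕ) :
    (x * y) ^ n = x ^ n * y ^ n * c ^ (∑ i ∈ Finset.range n, i) := by
  induction n with
  | zero => simp
  | succ n ih =>
    have h1 : c ^ (∑ i ∈ Finset.range n, i) * (x * y)
        = (x * y) * c ^ (∑ i ∈ Finset.range n, i) :=
      ((hcx.mul_right hcy).pow_left _).eq
    have h2 : c ^ n * y = y * c ^ n := (hcy.pow_left n).eq
    calc (x * y) ^ (n + 1) = x ^ n * y ^ n * c ^ (∑ i ∈ Finset.range n, i) * (x * y) := by
          rw [pow_succ, ih]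
      _ = x ^ n * y ^ n * (c ^ (∑ i ∈ Finset.range n, i) * (x * y)) := by rw [mul_assoc]
      _ = x ^ n * y ^ n * ((x * y) * c ^ (∑ i ∈ Finset.range n, i)) := by rw [h1]
      _ = x ^ n * (y ^ n * x) * y * c ^ (∑ i ∈ Finset.range n, i) := by simp only [mul_assoc]
      _ = x ^ n * (x * y ^ n * c ^ n) * y * c ^ (∑ i ∈ Finset.range n, i) := by
          rw [pow_aux x y c hyx hcx hcy n]
      _ = x ^ n * x * y ^ n * (c ^ n * y) * c ^ (∑ i ∈ Finset.range n, i) := by
          simp only [mul_assoc]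
      _ = x ^ n * x * y ^ n * (y * c ^ n) * c ^ (∑ i ∈ Finset.range n, i) := by rw [h2]
      _ = x ^ n * x * (y ^ n * y) * (c ^ (∑ i ∈ Finset.range n, i) * c ^ n) := by
          rw [pow_mul_comm c (∑ i ∈ Finset.range n, i) n]; simp only [mul_assoc]
      _ = x ^ (n + 1) * y ^ (n + 1) * c ^ (∑ i ∈ Finset.range (n + 1), i) := by
          rw [Finset.sum_range_succ, pow_add c, pow_succ x, pow_succ y]

/-- a `p`-group (odd `p`, or abelian) without a subgroup `Z_p × Z_p` is cyclic -/
theorem pc (p : ℕ) [hp : Fact p.Prime] : ∀ (n : ℕ) (P : Type u) [Group P] [Finite P],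
    Nat.card P = p ^ n →
    (∀ a b : P, a * b = b * a → a ^ p = 1 → b ^ p = 1 → a ≠ 1 → b ∈ Subgroup.zpowers a) →
    (Odd p ∨ ∀ a b : P, a * b = b * a) → IsCyclic P := by
  intro n
  induction n with
  | zero =>
    intro P _ _ hcard _ _
    rw [pow_zero] at hcard
    haveI : Subsingleton P := (Nat.card_eq_one_iff_unique.1 hcard).1
    infer_instance
  | succ n ih =>
    intro P _ _ hcard hE hoc
    obtain ⟨M, hM⟩ : ∃ M : Subgroup P, Nat.card M = p ^ n :=
      Sylow.exists_subgroup_card_pow_prime p (by rw [hcard]; exact pow_dvd_pow p (Nat.le_succ n))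
    by_cases huniq : ∀ M' : Subgroup P, Nat.card M' = p ^ n → M' = M
    · have hMne : M ≠ ⊤ := by
        intro h
        rw [h, Subgroup.card_top, hcard] at hM
        have := Nat.pow_right_injective hp.out.two_le hM
        omega
      obtain ⟨x, hx⟩ : ∃ x, x ∉ M := by
        by_contra h
        push_neg at h
        exact hMne (eq_top_iff.2 (fun y _ => h y))
      have hZ : Subgroup.zpowers x = ⊤ := by
        by_contra hne
        have hdvd : Nat.card (Subgroup.zpowers x) ∣ p ^ (n + 1) := by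
          rw [← hcard]; exact Subgroup.card_subgroup_dvd_card _
        obtain ⟨j, hj, hcj⟩ := (Nat.dvd_prime_pow hp.out).1 hdvd
        have hjn : j ≤ n := by
          by_contra hjn
          have hj' : j = n + 1 := by omega
          apply hne
          apply Subgroup.eq_top_of_card_eq
          rw [hcj, hj', hcard]
        obtain ⟨M', hM', hle⟩ := Sylow.exists_subgroup_card_pow_prime_le p
          (by rw [hcard]; exact pow_dvd_pow p (Nat.le_succ n)) (Subgroup.zpowers x) hcj hjn
        rw [huniq M' hM'] at hle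
        exact hx (hle (Subgroup.mem_zpowers x))
      exact isCyclic_iff_exists_zpowers_eq_top.2 ⟨x, hZ⟩
    · exfalso
      push_neg at huniq
      obtain ⟨M', hM', hne⟩ := huniq
      have hidx : ∀ L : Subgroup P, Nat.card L = p ^ n → L.index = p := by
        intro L hL
        have h := L.card_mul_index
        rw [hL, hcard, pow_succ] at h
        exact Nat.eq_of_mul_eq_mul_left (pow_pos hp.out.pos n) h
      have hnorm : ∀ L : Subgroup P, Nat.card L = p ^ n → L.Normal := by
        intro L hL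
        apply Subgroup.normal_of_index_eq_minFac_card
        rw [hidx L hL, hcard, Nat.Prime.pow_minFac hp.out (Nat.succ_ne_zero n)]
      have hcomm : ∀ L : Subgroup P, Nat.card L = p ^ n → ∀ a ∈ L, ∀ b ∈ L, a * b = b * a := by
        intro L hL a ha b hb
        haveI : IsCyclic L := ih L hL (fun a b hab hap hbp ha1 => by
            have h := hE (a : P) (b : P) (congrArg Subtype.val hab)
              (by rw [← Subgroup.coe_pow, hap]; rfl) (by rw [← Subgroup.coe_pow, hbp]; rfl)
              (fun h => ha1 (Subtype.ext h))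
            obtain ⟨k, hk⟩ := Subgroup.mem_zpowers_iff.1 h
            exact Subgroup.mem_zpowers_iff.2 ⟨k, Subtype.ext (by rw [Subgroup.coe_zpow]; exact hk)⟩)
          (hoc.imp id (fun h a b => Subtype.ext (h a b)))
        exact congrArg Subtype.val (cyc_comm (⟨a, ha⟩ : L) ⟨b, hb⟩)
      haveI hMn := hnorm M hM
      haveI hM'n := hnorm M' hM'
      have hsup : M ⊔ M' = ⊤ := by
        by_contra hst
        obtain ⟨j, hj, hcj⟩ := (Nat.dvd_prime_pow hp.out).1
          (show Nat.card ↥(M ⊔ M') ∣ p ^ (n + 1) by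
            rw [← hcard]; exact Subgroup.card_subgroup_dvd_card _)
        have hjn : j ≤ n := by
          by_contra h
          have hj' : j = n + 1 := by omega
          exact hst (Subgroup.eq_top_of_card_eq _ (by rw [hcj, hj', hcard]))
        have h2 : Nat.card ↥(M ⊔ M') ≤ Nat.card M := by
          rw [hcj, hM]; exact Nat.pow_le_pow_right hp.out.pos hjn
        have e1 : M = M ⊔ M' := Subgroup.eq_of_le_of_card_ge le_sup_left h2
        have h3 : M' ≤ M := le_of_le_of_eq le_sup_right e1.symm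
        exact hne (Subgroup.eq_of_le_of_card_ge h3 (le_of_eq (by rw [hM, hM'])))
      have hDc : ∀ z ∈ M ⊓ M', ∀ y : P, z * y = y * z := by
        intro z hz y
        have hz' := Subgroup.mem_inf.1 hz
        have h1 : M ≤ Subgroup.centralizer ({z} : Set P) := by
          intro m hm
          rw [Subgroup.mem_centralizer_iff]
          intro w hw
          rw [Set.mem_singleton_iff.1 hw]
          exact hcomm M hM z hz'.1 m hm
        have h2 : M' ≤ Subgroup.centralizer ({z} : Set P) := by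
          intro m hm
          rw [Subgroup.mem_centralizer_iff]
          intro w hw
          rw [Set.mem_singleton_iff.1 hw]
          exact hcomm M' hM' z hz'.2 m hm
        have hy : y ∈ Subgroup.centralizer ({z} : Set P) := by
          have : y ∈ M ⊔ M' := by rw [hsup]; exact Subgroup.mem_top y
          exact (sup_le h1 h2) this
        exact Subgroup.mem_centralizer_iff.1 hy z rfl
      have hpow : ∀ L : Subgroup P, Nat.card L = p ^ n → ∀ x : P, x ^ p ∈ L := by
        intro L hL x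
        haveI := hnorm L hL
        rw [← QuotientGroup.eq_one_iff, QuotientGroup.mk_pow]
        have h : Nat.card (P ⧸ L) = p := hidx L hL
        rw [← h]
        exact pow_card_eq_one'
      have hcL : ∀ L : Subgroup P, Nat.card L = p ^ n → ∀ x y : P, y⁻¹ * x⁻¹ * y * x ∈ L := by
        intro L hL x y
        haveI := hnorm L hL
        haveI : IsCyclic (P ⧸ L) :=
          isCyclic_of_prime_card (p := p) (show Nat.card (P ⧸ L) = p from hidx L hL)
        rw [← QuotientGroup.eq_one_iff]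
        have h := cyc_comm (QuotientGroup.mk y : P ⧸ L) (QuotientGroup.mk x)
        simp only [QuotientGroup.mk_mul, QuotientGroup.mk_inv]
        rw [mul_assoc, h, ← mul_assoc, inv_mul_cancel_right, inv_mul_cancel]
      have hmul : ∀ x y : P, (x * y) ^ p = x ^ p * y ^ p := by
        intro x y
        rcases hoc with hodd | hab
        · have hcD : y⁻¹ * x⁻¹ * y * x ∈ M ⊓ M' :=
            Subgroup.mem_inf.2 ⟨hcL M hM x y, hcL M' hM' x y⟩
          have hyx : y * x = x * y * (y⁻¹ * x⁻¹ * y * x) := by group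
          have hcx : Commute (y⁻¹ * x⁻¹ * y * x) x := hDc _ hcD x
          have hcy : Commute (y⁻¹ * x⁻¹ * y * x) y := hDc _ hcD y
          have hypD : y ^ p ∈ M ⊓ M' := Subgroup.mem_inf.2 ⟨hpow M hM y, hpow M' hM' y⟩
          have hcp : (y⁻¹ * x⁻¹ * y * x) ^ p = 1 := by
            have h1 := pow_aux x y _ hyx hcx hcy p
            have h2 : y ^ p * x = x * y ^ p := hDc _ hypD x
            rw [h2] at h1
            have h3 : (x * y ^ p) * 1 = (x * y ^ p) * (y⁻¹ * x⁻¹ * y * x) ^ p := by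
              rw [mul_one]; exact h1
            exact (mul_left_cancel h3).symm
          obtain ⟨m, hm⟩ := hodd
          have hsum : ∑ i ∈ Finset.range p, i = p * m := by
            have h := Finset.sum_range_id_mul_two p
            have h3 : p - 1 = 2 * m := by omega
            rw [h3] at h
            have h4 : (∑ i ∈ Finset.range p, i) * 2 = (p * m) * 2 := by rw [h]; ring
            exact Nat.eq_of_mul_eq_mul_right (by norm_num) h4
          rw [pow_class2 x y _ hyx hcx hcy p, hsum, pow_mul, hcp, one_pow, mul_one]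
        · exact (show Commute x y from hab x y).mul_pow p
      let f : P →* P := { toFun := fun x => x ^ p, map_one' := one_pow p, map_mul' := hmul }
      obtain ⟨a, ha, hac⟩ := cen (IsPGroup.isNilpotent (IsPGroup.of_card hcard)) p hp.out
        (by rw [hcard]; exact dvd_pow_self p (Nat.succ_ne_zero n))
      have ha1 : a ≠ 1 := by
        intro h; rw [h, orderOf_one] at ha; exact hp.out.one_lt.ne ha
      have hap : a ^ p = 1 := by rw [← ha]; exact pow_orderOf_eq_one a
      have hker : f.ker ≤ Subgroup.zpowers a := by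
        intro x hx
        have hx' : x ^ p = 1 := MonoidHom.mem_ker.1 hx
        exact hE a x (hac x) hap hx' ha1
      have hk1 : Nat.card f.ker ≤ p := by
        have := Subgroup.card_le_of_le hker
        rwa [Nat.card_zpowers, ha] at this
      have hr1 : Nat.card f.range ≤ Nat.card ↥(M ⊓ M') := by
        apply Subgroup.card_le_of_le
        rintro _ ⟨x, rfl⟩
        exact Subgroup.mem_inf.2 ⟨hpow M hM x, hpow M' hM' x⟩
      have hkr : Nat.card f.ker * Nat.card f.range = p ^ (n + 1) := by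
        rw [← Subgroup.index_ker, Subgroup.card_mul_index, hcard]
      have hge : p ^ n ≤ Nat.card ↥(M ⊓ M') := by
        have h1 : p ^ n * p ≤ p * Nat.card ↥(M ⊓ M') := by
          calc p ^ n * p = Nat.card f.ker * Nat.card f.range := by rw [hkr, pow_succ]
            _ ≤ p * Nat.card ↥(M ⊓ M') := Nat.mul_le_mul hk1 hr1
        rw [mul_comm] at h1
        exact Nat.le_of_mul_le_mul_left h1 hp.out.pos
      have e1 : M ⊓ M' = M := Subgroup.eq_of_le_of_card_ge inf_le_left (by rw [hM]; exact hge)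
      have h3 : M ≤ M' := by rw [← e1]; exact inf_le_right
      exact hne (Subgroup.eq_of_le_of_card_ge h3 (le_of_eq (by rw [hM, hM']))).symm

/-- a nilpotent group (of odd order, or abelian) without subgroups `Z_p × Z_p` is cyclic -/
theorem cyc {X : Type u} [Group X] [Finite X] (hnil : Group.IsNilpotent X)
    (hE : ∀ p : ℕ, p.Prime → ∀ a b : X, a * b = b * a → a ^ p = 1 → b ^ p = 1 → a ≠ 1 →
      b ∈ Subgroup.zpowers a)
    (hoc : Odd (Nat.card X) ∨ ∀ a b : X, a * b = b * a) : IsCyclic X := by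
  haveI := hnil
  haveI : IsZGroup X := by
    refine ⟨fun p hp P => ?_⟩
    haveI : Fact p.Prime := ⟨hp⟩
    obtain ⟨n, hn⟩ : ∃ n, Nat.card (P : Subgroup X) = p ^ n := ⟨_, P.card_eq_multiplicity⟩
    refine pc p n ↥(P : Subgroup X) hn (fun a b hab hap hbp ha1 => ?_) ?_
    · have h := hE p hp (a : X) (b : X) (congrArg Subtype.val hab)
        (by rw [← Subgroup.coe_pow, hap]; rfl) (by rw [← Subgroup.coe_pow, hbp]; rfl)
        (fun h => ha1 (Subtype.ext h))
      obtain ⟨k, hk⟩ := Subgroup.mem_zpowers_iff.1 h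
      exact Subgroup.mem_zpowers_iff.2 ⟨k, Subtype.ext (by rw [Subgroup.coe_zpow]; exact hk)⟩
    · rcases hoc with ho | hab
      · by_cases hn0 : n = 0
        · right
          intro a b
          haveI : Subsingleton (P : Subgroup X) := by
            rw [hn0, pow_zero] at hn
            exact (Nat.card_eq_one_iff_unique.1 hn).1
          exact Subsingleton.elim _ _
        · left
          have hpd : p ∣ Nat.card X := by
            have h1 : p ∣ Nat.card (P : Subgroup X) := by rw [hn]; exact dvd_pow_self p hn0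
            exact h1.trans (Subgroup.card_subgroup_dvd_card _)
          rcases hp.eq_two_or_odd' with h2 | h2
          · exfalso
            rw [h2] at hpd
            exact (Nat.not_even_iff_odd.2 ho) (even_iff_two_dvd.2 hpd)
          · exact h2
      · right
        intro a b
        exact Subtype.ext (hab a b)
  infer_instance

section Act

variable {G : Type u} [Group G]

/-- the `m`-torsion of the centre of `H`, as a subgroup of `G` -/
def Vsub (H : Subgroup G) (m : ℕ) : Subgroup G where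
  carrier := {v | v ∈ H ∧ (∀ h ∈ H, h * v = v * h) ∧ v ^ m = 1}
  one_mem' := ⟨H.one_mem, fun h _ => by rw [mul_one, one_mul], one_pow m⟩
  mul_mem' := by
    rintro a b ⟨ha1, ha2, ha3⟩ ⟨hb1, hb2, hb3⟩
    refine ⟨H.mul_mem ha1 hb1, fun h hh => ?_, ?_⟩
    · rw [← mul_assoc, ha2 h hh, mul_assoc, hb2 h hh, mul_assoc]
    · have hc : Commute a b := hb2 a ha1
      rw [hc.mul_pow, ha3, hb3, one_mul]
  inv_mem' := by
    rintro a ⟨ha1, ha2, ha3⟩
    refine ⟨H.inv_mem ha1, fun h hh => ?_, by rw [inv_pow, ha3, inv_one]⟩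
    have e := ha2 h hh
    have h5 : a * (h * a⁻¹) = a * (a⁻¹ * h) := by
      rw [← mul_assoc, ← e, mul_assoc, mul_inv_cancel, mul_one, mul_inv_cancel_left]
    exact mul_left_cancel h5

theorem mem_Vsub {H : Subgroup G} {m : ℕ} {v : G} :
    v ∈ Vsub H m ↔ v ∈ H ∧ (∀ h ∈ H, h * v = v * h) ∧ v ^ m = 1 := Iff.rfl

instance Vsub_normal (H : Subgroup G) [hH : H.Normal] (m : ℕ) : (Vsub H m).Normal := by
  refine ⟨fun v hv g => ?_⟩
  obtain ⟨hv1, hv2, hv3⟩ := mem_Vsub.1 hv
  refine mem_Vsub.2 ⟨hH.conj_mem v hv1 g, fun h hh => ?_,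
    by rw [conj_pow, hv3, mul_one, mul_inv_cancel]⟩
  have hmem : g⁻¹ * h * g ∈ H := by
    have := hH.conj_mem h hh g⁻¹
    simpa using this
  have e := hv2 _ hmem
  calc h * (g * v * g⁻¹) = g * (g⁻¹ * h * g * v) * g⁻¹ := by group
    _ = g * (v * (g⁻¹ * h * g)) * g⁻¹ := by rw [e]
    _ = g * v * g⁻¹ * h := by group

@[reducible] def vcomm (H : Subgroup G) (m : ℕ) : CommGroup ↥(Vsub H m) :=
  { (Vsub H m).toGroup with
    mul_comm := fun a b => Subtype.ext ((mem_Vsub.1 b.2).2.1 a.1 (mem_Vsub.1 a.2).1) }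

/-- the conjugation action of `G ⧸ H` on the `m`-torsion of `Z(H)` -/
noncomputable def act (H : Subgroup G) [H.Normal] (m : ℕ) : G ⧸ H →* MulAut ↥(Vsub H m) :=
  QuotientGroup.lift H (MulAut.conjNormal (H := Vsub H m)) (by
    intro h hh
    rw [MonoidHom.mem_ker]
    apply MulEquiv.ext
    intro v
    apply Subtype.ext
    rw [MulAut.conjNormal_apply, MulAut.one_apply, (mem_Vsub.1 v.2).2.1 h hh,
      mul_inv_cancel_right])

theorem act_mk (H : Subgroup G) [H.Normal] (m : ℕ) (g : G) (v : ↥(Vsub H m)) :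
    ((act H m (QuotientGroup.mk g) v : ↥(Vsub H m)) : G) = g * v * g⁻¹ :=
  MulAut.conjNormal_apply g v

end Act

/-- Let G be a 2-Frobenius group: it has normal subgroups H < K with K a Frobenius group with kernel H and G/H a Frobenius group with kernel K/H. Then G is solvable; K/H has odd order coprime to the order of H and to the order of G/K (it is the image of an odd-order Hall subgroup); G/K is cyclic; and the prime graph of G has exactly two connected components, both complete: for distinct primes p, q dividing the order of G, G has an element of order pq exactly when p and q either both divide the order of K/H or both do not. -/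
theorem result {G : Type*} [Group G] [Finite G] (H K : Subgroup G) [H.Normal] [K.Normal] (hlt : H < K)
    (hK : ∃ C : Subgroup ↥K, Cfsg.IsFrobeniusComplement C ∧ Cfsg.frobeniusKernel C = (H.subgroupOf K : Set ↥K))
    (hGH : ∃ C : Subgroup (G ⧸ H), Cfsg.IsFrobeniusComplement C ∧ Cfsg.frobeniusKernel C = (K.map (QuotientGroup.mk' H) : Set (G ⧸ H))) :
    Group.IsSolvable G ∧ Odd (Nat.card (↥K ⧸ H.subgroupOf K)) ∧
      Nat.Coprime (Nat.card (↥K ⧸ H.subgroupOf K)) (Nat.card ↥H * Nat.card (G ⧸ K)) ∧ IsCyclic (G ⧸ K) ∧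
      ∀ p q : ℕ, p.Prime → q.Prime → p ≠ q → p ∣ Nat.card G → q ∣ Nat.card G →
        ((∃ g : G, orderOf g = p * q) ↔ (p ∣ Nat.card (↥K ⧸ H.subgroupOf K) ↔ q ∣ Nat.card (↥K ⧸ H.subgroupOf K))) := by
  classical
  have hHK : H ≤ K := hlt.le
  obtain ⟨C₁, hC₁, hk₁⟩ := hK
  obtain ⟨C₂, hC₂, hk₂⟩ := hGH
  obtain ⟨d₁, nil₁⟩ := frob_setup C₁ (H.subgroupOf K) hC₁ hk₁
  obtain ⟨d₂, nil₂⟩ := frob_setup C₂ (K.map (QuotientGroup.mk' H)) hC₂ hk₂
  haveI hN₂n : (K.map (QuotientGroup.mk' H)).Normal := d₂.2.2.1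
  have nilH : Group.IsNilpotent ↥H := by
    haveI := nil₁
    exact Group.nilpotent_of_mulEquiv (Subgroup.subgroupOfEquivOfLe hHK)
  obtain ⟨b, hb⟩ : ∃ b : ℕ, b = Nat.card (↥K ⧸ H.subgroupOf K) := ⟨_, rfl⟩
  rw [← hb]
  have hbI : (H.subgroupOf K).index = b := hb.symm
  have hbC : b = Nat.card C₁ := by rw [← hbI]; exact d₁.index_eq
  have cH : Nat.card ↥(H.subgroupOf K) = Nat.card ↥H :=
    Nat.card_congr (Subgroup.subgroupOfEquivOfLe hHK).toEquiv
  have e1 : (K.map (QuotientGroup.mk' H)).index = K.index :=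
    Subgroup.index_map_eq K (QuotientGroup.mk'_surjective H)
      (by rw [QuotientGroup.ker_mk']; exact hHK)
  have hC₂card : Nat.card C₂ = Nat.card (G ⧸ K) := by
    have h := d₂.index_eq
    rw [e1] at h
    exact h.symm
  have cN₂ : Nat.card ↥(K.map (QuotientGroup.mk' H)) = b := by
    have h1 := (K.map (QuotientGroup.mk' H)).card_mul_index
    have h2 : Nat.card ↥H * Nat.card (G ⧸ H) = Nat.card G := H.card_mul_index
    have h3 := K.card_mul_index
    have h4 := (H.subgroupOf K).card_mul_index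
    rw [e1] at h1
    rw [cH, hbI] at h4
    have hpos : 0 < Nat.card ↥H * K.index :=
      Nat.mul_pos Nat.card_pos (Nat.pos_of_ne_zero Subgroup.index_ne_zero_of_finite)
    apply Nat.eq_of_mul_eq_mul_left hpos
    calc Nat.card ↥H * K.index * Nat.card ↥(K.map (QuotientGroup.mk' H))
        = Nat.card ↥H * (Nat.card ↥(K.map (QuotientGroup.mk' H)) * K.index) := by ring
      _ = Nat.card ↥H * Nat.card (G ⧸ H) := by rw [h1]
      _ = Nat.card G := h2
      _ = Nat.card ↥K * K.index := h3.symm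
      _ = Nat.card ↥H * b * K.index := by rw [h4]
      _ = Nat.card ↥H * K.index * b := by ring
  have cop1 : Nat.Coprime b (Nat.card ↥H) := by
    have h := d₁.coprime
    rw [← hbC, cH] at h
    exact h
  have cop2 : Nat.Coprime b (Nat.card (G ⧸ K)) := by
    have h := d₂.coprime
    rw [cN₂, hC₂card] at h
    exact h.symm
  have hcardG : Nat.card G = Nat.card ↥H * b * Nat.card (G ⧸ K) := by
    have h3 : Nat.card ↥K * Nat.card (G ⧸ K) = Nat.card G := K.card_mul_index
    have h4 := (H.subgroupOf K).card_mul_index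
    rw [cH, hbI] at h4
    rw [← h3, ← h4]
  have hcenH : ∀ p : ℕ, p.Prime → p ∣ Nat.card ↥H →
      ∃ z : G, orderOf z = p ∧ z ∈ H ∧ ∀ h ∈ H, h * z = z * h := by
    intro p hp hpd
    obtain ⟨z, hz, hzc⟩ := cen nilH p hp hpd
    refine ⟨(z : G), by rw [Subgroup.orderOf_coe]; exact hz, z.2, fun h hh => ?_⟩
    exact (congrArg Subtype.val (hzc ⟨h, hh⟩)).symm
  have hH1 : Nat.card ↥H ≠ 1 := by
    intro h
    rw [← cH] at h
    exact d₁.ne_bot (Subgroup.eq_bot_of_card_eq _ h)
  obtain ⟨z₀, hz₀, hz₀H, hz₀c⟩ := hcenH _ (Nat.minFac_prime hH1) (Nat.minFac_dvd _)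
  obtain ⟨v₀, hv₀def⟩ : ∃ v₀ : ↥(Vsub H 0), (v₀ : G) = z₀ :=
    ⟨⟨z₀, mem_Vsub.2 ⟨hz₀H, hz₀c, pow_zero _⟩⟩, rfl⟩
  have hv₀ : v₀ ≠ 1 := by
    intro h
    have h1 : z₀ = 1 := by rw [← hv₀def, h]; rfl
    rw [h1, orderOf_one] at hz₀
    exact (Nat.minFac_prime hH1).one_lt.ne hz₀
  -- elements of `K/H` act fixed-point-freely on the centre of `H`
  have FK : ∀ (m : ℕ) (s : G ⧸ H), s ∈ K.map (QuotientGroup.mk' H) → s ≠ 1 →
      ∀ v : ↥(Vsub H m), act H m s v = v → v = 1 := by
    intro m s hs hs1 v hv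
    obtain ⟨k, hk, rfl⟩ := Subgroup.mem_map.1 hs
    have e : k * (v : G) * k⁻¹ = v := (act_mk H m k v).symm.trans (congrArg Subtype.val hv)
    have hkH : k ∉ H := fun h => hs1 ((QuotientGroup.eq_one_iff k).2 h)
    have hvH : (v : G) ∈ H := (mem_Vsub.1 v.2).1
    have h1 := comm' d₁ (x := ⟨k, hk⟩) (c := ⟨(v : G), hHK hvH⟩)
      (fun h => hkH (Subgroup.mem_subgroupOf.1 h)) (Subgroup.mem_subgroupOf.2 hvH)
      (Subtype.ext (mul_inv_eq_iff_eq_mul.1 e).symm)
    have h2 := congrArg Subtype.val h1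
    exact Subtype.ext h2
  -- `K/H` has odd order
  have hodd : Odd b := by
    by_contra hno
    have h2 : 2 ∣ Nat.card ↥(K.map (QuotientGroup.mk' H)) := by
      rw [cN₂]; exact even_iff_two_dvd.1 (Nat.not_odd_iff_even.1 hno)
    haveI : Fact (Nat.Prime 2) := ⟨Nat.prime_two⟩
    obtain ⟨t, ht⟩ := exists_prime_orderOf_dvd_card' 2 h2
    have ht' : orderOf (t : G ⧸ H) = 2 := by rw [Subgroup.orderOf_coe]; exact ht
    have ht1 : (t : G ⧸ H) ≠ 1 := by
      intro h; rw [h, orderOf_one] at ht'; omega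
    have ht2 : (t : G ⧸ H) ^ 2 = 1 := by
      have := pow_orderOf_eq_one (t : G ⧸ H)
      rwa [ht'] at this
    have hinv : ∀ s : G ⧸ H, s ∈ K.map (QuotientGroup.mk' H) → s ≠ 1 → s ^ 2 = 1 →
        ∀ v : ↥(Vsub H 0), act H 0 s v = v⁻¹ := by
      intro s hs hs1 hs2 v
      have hcomm : ∀ a c : ↥(Vsub H 0), a * c = c * a := fun a c =>
        Subtype.ext ((mem_Vsub.1 c.2).2.1 a.1 (mem_Vsub.1 a.2).1)
      have h1 : act H 0 s (act H 0 s v) = v := by
        rw [← MulAut.mul_apply, ← map_mul, ← pow_two, hs2, map_one, MulAut.one_apply]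
      have hfix : act H 0 s (v * act H 0 s v) = v * act H 0 s v := by
        rw [map_mul, h1, hcomm]
      exact eq_inv_of_mul_eq_one_right (FK 0 s hs hs1 _ hfix)
    have huniq : ∀ s : G ⧸ H, s ∈ K.map (QuotientGroup.mk' H) → s ≠ 1 → s ^ 2 = 1 →
        s = (t : G ⧸ H) := by
      intro s hs hs1 hs2
      by_contra hne
      have hst : s * (t : G ⧸ H) ≠ 1 := by
        intro h
        apply hne
        calc s = s * ((t : G ⧸ H) ^ 2) := by rw [ht2, mul_one]
          _ = (s * t) * t := by rw [pow_two, mul_assoc]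
          _ = t := by rw [h, one_mul]
      have h3 := FK 0 (s * t) ((K.map (QuotientGroup.mk' H)).mul_mem hs t.2) hst v₀ (by
        rw [map_mul, MulAut.mul_apply, hinv t t.2 ht1 ht2 v₀, map_inv, hinv s hs hs1 hs2 v₀,
          inv_inv])
      exact hv₀ h3
    obtain ⟨⟨c, hc⟩, hc1⟩ := Subgroup.ne_bot_iff_exists_ne_one.1 d₂.1.1
    have hc1' : c ≠ 1 := fun h => hc1 (Subtype.ext h)
    have hconj : c * (t : G ⧸ H) * c⁻¹ = t :=
      huniq _ (hN₂n.conj_mem _ t.2 c) (fun h => ht1 (conj_eq_one_iff.1 h))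
        (by rw [conj_pow, ht2, mul_one, mul_inv_cancel])
    exact ht1 (d₂.comm hc hc1' t.2 (mul_inv_eq_iff_eq_mul.1 hconj).symm)
  -- `K/H` is cyclic
  have hVle : Vsub H 0 ≤ H := fun v hv => (mem_Vsub.1 hv).1
  have hN₂cyc : IsCyclic ↥(K.map (QuotientGroup.mk' H)) := by
    refine cyc nil₂ (fun p hp a c hac hap hcp ha1 => ?_) (Or.inl (by rw [cN₂]; exact hodd))
    letI := vcomm H 0
    haveI : Nontrivial ↥(Vsub H 0) := ⟨⟨v₀, 1, hv₀⟩⟩
    have hcopV : (Nat.card ↥(K.map (QuotientGroup.mk' H))).Coprime (Nat.card ↥(Vsub H 0)) := by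
      rw [cN₂]
      exact Nat.Coprime.coprime_dvd_right (Subgroup.card_dvd_of_le hVle) cop1
    have h := econd (act H 0) (K.map (QuotientGroup.mk' H))
      (fun s hs hs1 v hv => FK 0 s hs hs1 v hv)
      hcopV p hp (a : G ⧸ H) (c : G ⧸ H) a.2 c.2 (congrArg Subtype.val hac)
      (by rw [← Subgroup.coe_pow, hap]; rfl) (by rw [← Subgroup.coe_pow, hcp]; rfl)
      (fun h => ha1 (Subtype.ext h))
    obtain ⟨k, hk⟩ := Subgroup.mem_zpowers_iff.1 h
    exact Subgroup.mem_zpowers_iff.2 ⟨k, Subtype.ext (by rw [Subgroup.coe_zpow]; exact hk)⟩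
  -- the complement `C₂ ≅ G/K` is abelian
  obtain ⟨g₀, hg₀⟩ := IsCyclic.exists_generator (α := ↥(K.map (QuotientGroup.mk' H)))
  have hg₀1 : (g₀ : G ⧸ H) ≠ 1 := by
    intro h
    apply d₂.ne_bot
    rw [Subgroup.eq_bot_iff_forall]
    intro x hx
    obtain ⟨k, hk⟩ := Subgroup.mem_zpowers_iff.1 (hg₀ ⟨x, hx⟩)
    have h1 := congrArg Subtype.val hk
    rw [Subgroup.coe_zpow, h, one_zpow] at h1
    exact h1.symm
  have hconjpow : ∀ c : G ⧸ H, ∃ k : ℤ, c * (g₀ : G ⧸ H) * c⁻¹ = (g₀ : G ⧸ H) ^ k := by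
    intro c
    obtain ⟨k, hk⟩ := Subgroup.mem_zpowers_iff.1
      (hg₀ ⟨c * g₀ * c⁻¹, hN₂n.conj_mem _ g₀.2 c⟩)
    refine ⟨k, ?_⟩
    have h1 := congrArg Subtype.val hk
    rw [Subgroup.coe_zpow] at h1
    exact h1.symm
  have hC₂comm : ∀ c ∈ C₂, ∀ c' ∈ C₂, c * c' = c' * c := by
    intro c hc c' hc'
    obtain ⟨i, hi⟩ := hconjpow c
    obtain ⟨j, hj⟩ := hconjpow c'
    have h1 : (c * c') * (g₀ : G ⧸ H) * (c * c')⁻¹ = (g₀ : G ⧸ H) ^ (i * j) := by
      calc (c * c') * (g₀ : G ⧸ H) * (c * c')⁻¹ = c * (c' * g₀ * c'⁻¹) * c⁻¹ := by group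
        _ = c * (g₀ : G ⧸ H) ^ j * c⁻¹ := by rw [hj]
        _ = (c * g₀ * c⁻¹) ^ j := by rw [conj_zpow]
        _ = ((g₀ : G ⧸ H) ^ i) ^ j := by rw [hi]
        _ = (g₀ : G ⧸ H) ^ (i * j) := by rw [← zpow_mul]
    have h2 : (c' * c) * (g₀ : G ⧸ H) * (c' * c)⁻¹ = (g₀ : G ⧸ H) ^ (i * j) := by
      calc (c' * c) * (g₀ : G ⧸ H) * (c' * c)⁻¹ = c' * (c * g₀ * c⁻¹) * c'⁻¹ := by group
        _ = c' * (g₀ : G ⧸ H) ^ i * c'⁻¹ := by rw [hi]
        _ = (c' * g₀ * c'⁻¹) ^ i := by rw [conj_zpow]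
        _ = ((g₀ : G ⧸ H) ^ j) ^ i := by rw [hj]
        _ = (g₀ : G ⧸ H) ^ (i * j) := by rw [← zpow_mul, mul_comm]
    have he : (g₀ : G ⧸ H) * ((c' * c)⁻¹ * (c * c')) = ((c' * c)⁻¹ * (c * c')) * (g₀ : G ⧸ H) := by
      calc (g₀ : G ⧸ H) * ((c' * c)⁻¹ * (c * c'))
          = (c' * c)⁻¹ * ((c' * c) * g₀ * (c' * c)⁻¹) * (c * c') := by group
        _ = (c' * c)⁻¹ * ((c * c') * g₀ * (c * c')⁻¹) * (c * c') := by rw [h2, h1]
        _ = ((c' * c)⁻¹ * (c * c')) * (g₀ : G ⧸ H) := by group
    have he1 : (c' * c)⁻¹ * (c * c') = 1 := by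
      by_contra hne
      exact hg₀1 (d₂.comm (C₂.mul_mem (C₂.inv_mem (C₂.mul_mem hc' hc)) (C₂.mul_mem hc hc'))
        hne g₀.2 he)
    exact (inv_mul_eq_one.1 he1).symm
  -- hence cyclic
  have hC₂cyc : IsCyclic ↥C₂ := by
    have nilC : Group.IsNilpotent ↥C₂ := by
      letI hcg : CommGroup ↥C₂ :=
        { C₂.toGroup with mul_comm := fun a c => Subtype.ext (hC₂comm a a.2 c c.2) }
      exact @CommGroup.isNilpotent ↥C₂ hcg
    refine cyc nilC (fun p hp a c hac hap hcp ha1 => ?_)
      (Or.inr (fun a c => Subtype.ext (hC₂comm a a.2 c c.2)))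
    letI : CommGroup ↥(K.map (QuotientGroup.mk' H)) :=
      { (K.map (QuotientGroup.mk' H)).toGroup with mul_comm := fun x y => cyc_comm x y }
    haveI : Nontrivial ↥(K.map (QuotientGroup.mk' H)) :=
      (Subgroup.nontrivial_iff_ne_bot _).2 d₂.ne_bot
    have h := econd (MulAut.conjNormal : G ⧸ H →* MulAut ↥(K.map (QuotientGroup.mk' H))) C₂
      (fun s hs hs1 v hv => by
        have e : s * (v : G ⧸ H) * s⁻¹ = v := by
          have h6 := congrArg Subtype.val hv
          rwa [MulAut.conjNormal_apply] at h6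
        exact Subtype.ext (d₂.comm hs hs1 v.2 (mul_inv_eq_iff_eq_mul.1 e).symm))
      d₂.coprime p hp (a : G ⧸ H) (c : G ⧸ H) a.2 c.2 (congrArg Subtype.val hac)
      (by rw [← Subgroup.coe_pow, hap]; rfl) (by rw [← Subgroup.coe_pow, hcp]; rfl)
      (fun h => ha1 (Subtype.ext h))
    obtain ⟨k, hk⟩ := Subgroup.mem_zpowers_iff.1 h
    exact Subgroup.mem_zpowers_iff.2 ⟨k, Subtype.ext (by rw [Subgroup.coe_zpow]; exact hk)⟩
  -- `G/K` is cyclic
  have hcycQ : IsCyclic (G ⧸ K) := by
    haveI := hC₂cyc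
    let μ : G ⧸ H →* G ⧸ K := QuotientGroup.map H K (MonoidHom.id G) (fun x hx => hHK hx)
    have hsurj : Function.Surjective (μ.comp C₂.subtype) := by
      intro y
      obtain ⟨g, rfl⟩ := QuotientGroup.mk_surjective y
      obtain ⟨⟨n, c⟩, hnc⟩ := d₂.2.2.2.2 (QuotientGroup.mk g : G ⧸ H)
      have hnc' : (n : G ⧸ H) * (c : G ⧸ H) = QuotientGroup.mk g := hnc
      obtain ⟨k, hk, hkn⟩ := Subgroup.mem_map.1 n.2
      refine ⟨⟨c.1, c.2⟩, ?_⟩
      have h1 : μ (n : G ⧸ H) = 1 := by
        rw [← hkn]; exact (QuotientGroup.eq_one_iff k).2 hk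
      have h2 : μ ((n : G ⧸ H) * (c : G ⧸ H)) = QuotientGroup.mk g := by rw [hnc']; rfl
      rw [map_mul, h1, one_mul] at h2
      exact h2
    exact isCyclic_of_surjective (μ.comp C₂.subtype) hsurj
  -- solvability
  have hsolv : Group.IsSolvable G := by
    haveI hs1 : Group.IsSolvable ↥C₂ :=
      Group.isSolvable_of_comm (fun a c => Subtype.ext (hC₂comm a a.2 c c.2))
    haveI hs2 : Group.IsSolvable ((G ⧸ H) ⧸ K.map (QuotientGroup.mk' H)) := by
      refine Group.isSolvable_of_surjective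
        (f := (QuotientGroup.mk' (K.map (QuotientGroup.mk' H))).comp C₂.subtype) ?_
      intro y
      obtain ⟨x, rfl⟩ := QuotientGroup.mk_surjective y
      obtain ⟨⟨n, c⟩, hnc⟩ := d₂.2.2.2.2 x
      have hnc' : (n : G ⧸ H) * (c : G ⧸ H) = x := hnc
      refine ⟨⟨c.1, c.2⟩, ?_⟩
      show (QuotientGroup.mk (c : G ⧸ H) : (G ⧸ H) ⧸ K.map (QuotientGroup.mk' H))
        = QuotientGroup.mk x
      rw [← hnc', QuotientGroup.mk_mul, (QuotientGroup.eq_one_iff (n : G ⧸ H)).2 n.2, one_mul]
    haveI hs3 : Group.IsSolvable ↥(K.map (QuotientGroup.mk' H)) := by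
      haveI := nil₂; infer_instance
    haveI hs4 : Group.IsSolvable (G ⧸ H) :=
      Group.isSolvable_of_ker_le_range (K.map (QuotientGroup.mk' H)).subtype
        (QuotientGroup.mk' (K.map (QuotientGroup.mk' H)))
        (le_of_eq (by rw [QuotientGroup.ker_mk', Subgroup.range_subtype]))
    haveI hs5 : Group.IsSolvable ↥H := by haveI := nilH; infer_instance
    exact Group.isSolvable_of_ker_le_range H.subtype (QuotientGroup.mk' H)
      (le_of_eq (by rw [QuotientGroup.ker_mk', Subgroup.range_subtype]))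
  -- no element of order `p * q` across the two components
  have asym : ∀ p q : ℕ, p.Prime → q.Prime → p ∣ b → ¬ q ∣ b → ∀ g : G, orderOf g ≠ p * q := by
    intro p q hp hq hpb hqb g hg
    have hpH := not_dvd_of_cop hp cop1 hpb
    have hpQ := not_dvd_of_cop hp cop2 hpb
    obtain ⟨u, hu⟩ : ∃ u : G, u = g ^ q := ⟨_, rfl⟩
    obtain ⟨w, hw⟩ : ∃ w : G, w = g ^ p := ⟨_, rfl⟩
    have hou : orderOf u = p := by
      rw [hu, orderOf_pow_of_dvd hq.ne_zero (by rw [hg]; exact dvd_mul_left q p), hg,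
        Nat.mul_div_cancel _ hq.pos]
    have how : orderOf w = q := by
      rw [hw, orderOf_pow_of_dvd hp.ne_zero (by rw [hg]; exact dvd_mul_right p q), hg,
        Nat.mul_div_cancel_left _ hp.pos]
    have huw : u * w = w * u := by rw [hu, hw, ← pow_add, ← pow_add, add_comm]
    have huK : u ∈ K := by
      rw [← QuotientGroup.eq_one_iff (N := K)]
      have h1 : orderOf (QuotientGroup.mk u : G ⧸ K) ∣ p := by
        have h := orderOf_map_dvd (QuotientGroup.mk' K) u
        rwa [hou] at h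
      have h2 : orderOf (QuotientGroup.mk u : G ⧸ K) ∣ Nat.card (G ⧸ K) := orderOf_dvd_natCard _
      rcases (Nat.dvd_prime hp).1 h1 with h | h
      · exact orderOf_eq_one_iff.1 h
      · rw [h] at h2; exact absurd h2 hpQ
    have huH : u ∉ H := fun h => hpH (by rw [← hou]; exact ord_dvd_card H h)
    have hu1 : (QuotientGroup.mk u : G ⧸ H) ≠ 1 := fun h => huH ((QuotientGroup.eq_one_iff u).1 h)
    have huN : (QuotientGroup.mk u : G ⧸ H) ∈ K.map (QuotientGroup.mk' H) :=
      Subgroup.mem_map.2 ⟨u, huK, rfl⟩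
    have hcomm : (QuotientGroup.mk u : G ⧸ H) * QuotientGroup.mk w
        = QuotientGroup.mk w * QuotientGroup.mk u := by
      rw [← QuotientGroup.mk_mul, ← QuotientGroup.mk_mul, huw]
    have hwN : (QuotientGroup.mk w : G ⧸ H) ∈ K.map (QuotientGroup.mk' H) := by
      by_contra hn
      exact hu1 (comm' d₂ hn huN hcomm)
    have hwq1 : (QuotientGroup.mk w : G ⧸ H) = 1 := by
      have h1 : orderOf (QuotientGroup.mk w : G ⧸ H) ∣ q := by
        have h := orderOf_map_dvd (QuotientGroup.mk' H) w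
        rwa [how] at h
      have h2 : orderOf (QuotientGroup.mk w : G ⧸ H) ∣ b := by
        rw [← cN₂]; exact ord_dvd_card _ hwN
      rcases (Nat.dvd_prime hq).1 h1 with h | h
      · exact orderOf_eq_one_iff.1 h
      · rw [h] at h2; exact absurd h2 hqb
    have hwH : w ∈ H := (QuotientGroup.eq_one_iff w).1 hwq1
    have hw1 : w ≠ 1 := by
      intro h; rw [h, orderOf_one] at how; exact hq.one_lt.ne how
    have h5 := comm' d₁ (x := ⟨u, huK⟩) (c := ⟨w, hHK hwH⟩)
      (fun h => huH (Subgroup.mem_subgroupOf.1 h)) (Subgroup.mem_subgroupOf.2 hwH)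
      (Subtype.ext huw.symm)
    exact hw1 (congrArg Subtype.val h5)
  -- elements of order `p * q` between `π(H)` and `π(G/K)`
  have key : ∀ p q : ℕ, p.Prime → q.Prime → p ≠ q → p ∣ Nat.card ↥H → ¬ p ∣ b →
      ¬ q ∣ b → q ∣ Nat.card G → ∃ g : G, orderOf g = p * q := by
    intro p q hp hq hpq hpH hpb hqb hqG
    haveI : Fact q.Prime := ⟨hq⟩
    haveI : Fact p.Prime := ⟨hp⟩
    obtain ⟨x, hx⟩ := exists_prime_orderOf_dvd_card' q hqG
    by_contra hno
    push_neg at hno
    obtain ⟨z, hz, hzH, hzc⟩ := hcenH p hp hpH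
    letI := vcomm H p
    obtain ⟨v₁, hv₁def⟩ : ∃ v₁ : ↥(Vsub H p), (v₁ : G) = z :=
      ⟨⟨z, mem_Vsub.2 ⟨hzH, hzc, by rw [← hz]; exact pow_orderOf_eq_one z⟩⟩, rfl⟩
    letI : Fintype ↥(K.map (QuotientGroup.mk' H)) := Fintype.ofFinite _
    letI : Fintype ↥(Subgroup.zpowers (QuotientGroup.mk x : G ⧸ H)) := Fintype.ofFinite _
    have hxq : (QuotientGroup.mk x : G ⧸ H) ^ q = 1 := by
      rw [← QuotientGroup.mk_pow, ← hx, pow_orderOf_eq_one]; rfl
    have hfix : ∀ h ∈ Subgroup.zpowers (QuotientGroup.mk x : G ⧸ H), h ≠ 1 →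
        ∀ c ∈ K.map (QuotientGroup.mk' H), c * h = h * c → c = 1 := by
      intro h hh h1 c hc hch
      refine comm' d₂ (fun hN => h1 ?_) hc hch
      have hq1 : h ^ q = 1 := by
        obtain ⟨k, hk⟩ := Subgroup.mem_zpowers_iff.1 hh
        rw [← hk, ← zpow_natCast, ← zpow_mul, mul_comm, zpow_mul, zpow_natCast, hxq, one_zpow]
      have h2 : orderOf h ∣ q := orderOf_dvd_of_pow_eq_one hq1
      have h3 : orderOf h ∣ b := by rw [← cN₂]; exact ord_dvd_card _ hN
      rcases (Nat.dvd_prime hq).1 h2 with e | e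
      · exact orderOf_eq_one_iff.1 e
      · rw [e] at h3; exact absurd h3 hqb
    have hCN : ∀ v : ↥(Vsub H p),
        (∀ n ∈ K.map (QuotientGroup.mk' H), act H p n v = v) → v = 1 := by
      intro v hv
      obtain ⟨k, hkK, hkH⟩ := SetLike.exists_of_lt hlt
      have hm : (QuotientGroup.mk k : G ⧸ H) ∈ K.map (QuotientGroup.mk' H) :=
        Subgroup.mem_map.2 ⟨k, hkK, rfl⟩
      exact FK p _ hm (fun h => hkH ((QuotientGroup.eq_one_iff k).1 h)) v (hv _ hm)
    have hCH : ∀ v : ↥(Vsub H p),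
        (∀ h ∈ Subgroup.zpowers (QuotientGroup.mk x : G ⧸ H), act H p h v = v) → v = 1 := by
      intro v hv
      by_contra hv1
      have e0 := congrArg Subtype.val (hv _ (Subgroup.mem_zpowers _))
      have e : x * (v : G) * x⁻¹ = v := (act_mk H p x v).symm.trans e0
      have hc : Commute x (v : G) := mul_inv_eq_iff_eq_mul.1 e
      have hov : orderOf (v : G) = p :=
        orderOf_eq_prime (mem_Vsub.1 v.2).2.2 (fun h => hv1 (Subtype.ext h))
      refine hno (x * (v : G)) ?_
      rw [hc.orderOf_mul_eq_mul_orderOf_of_coprime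
        (by rw [hx, hov]; exact (Nat.coprime_primes hq hp).2 (Ne.symm hpq)), hx, hov, mul_comm]
    have hres := fpf_frobenius_pow (act H p) (K.map (QuotientGroup.mk' H))
      (Subgroup.zpowers (QuotientGroup.mk x : G ⧸ H)) hfix hCN hCH v₁
    have hov₁ : orderOf v₁ = p := by
      have h7 : orderOf (v₁ : G) = p := by rw [hv₁def]; exact hz
      exact (Subgroup.orderOf_coe v₁).symm.trans h7
    have hdv : p ∣ Fintype.card ↥(K.map (QuotientGroup.mk' H)) := by
      rw [← hov₁]; exact orderOf_dvd_of_pow_eq_one hres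
    rw [← Nat.card_eq_fintype_card, cN₂] at hdv
    exact hpb hdv
  refine ⟨hsolv, hodd, Nat.Coprime.mul_right cop1 cop2, hcycQ, ?_⟩
  intro p q hp hq hpq hpG hqG
  constructor
  · rintro ⟨g, hg⟩
    constructor
    · intro hpb
      by_contra hqb
      exact asym p q hp hq hpb hqb g hg
    · intro hqb
      by_contra hpb
      exact asym q p hq hp hqb hpb g (by rw [hg, mul_comm])
  · intro hiff
    by_cases hpb : p ∣ b
    · have hqb := hiff.1 hpb
      obtain ⟨y, hy⟩ := nil_pq nil₂ p q hp hq hpq (by rw [cN₂]; exact hpb) (by rw [cN₂]; exact hqb)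
      exact lift_order (QuotientGroup.mk' H) (QuotientGroup.mk'_surjective H) (p * q)
        (y : G ⧸ H) (by rw [Subgroup.orderOf_coe]; exact hy)
    · have hqb : ¬ q ∣ b := fun h => hpb (hiff.2 h)
      by_cases hpH : p ∣ Nat.card ↥H
      · exact key p q hp hq hpq hpH hpb hqb hqG
      · by_cases hqH : q ∣ Nat.card ↥H
        · obtain ⟨g, hg⟩ := key q p hq hp (Ne.symm hpq) hqH hqb hpb hpG
          exact ⟨g, by rw [hg, mul_comm]⟩
        · have hdiv : ∀ r : ℕ, r.Prime → r ∣ Nat.card G → ¬ r ∣ b → ¬ r ∣ Nat.card ↥H →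
              r ∣ Nat.card (G ⧸ K) := by
            intro r hr hrG hrb hrH
            rw [hcardG] at hrG
            rcases (Nat.Prime.dvd_mul hr).1 hrG with h | h
            · rcases (Nat.Prime.dvd_mul hr).1 h with h' | h'
              · exact absurd h' hrH
              · exact absurd h' hrb
            · exact h
          have nilQ : Group.IsNilpotent (G ⧸ K) := by
            letI hcg : CommGroup (G ⧸ K) :=
              { (inferInstance : Group (G ⧸ K)) with
                mul_comm := fun a c => by haveI := hcycQ; exact cyc_comm a c }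
            exact @CommGroup.isNilpotent (G ⧸ K) hcg
          obtain ⟨y, hy⟩ := nil_pq nilQ p q hp hq hpq (hdiv p hp hpG hpb hpH)
            (hdiv q hq hqG hqb hqH)
          exact lift_order (QuotientGroup.mk' K) (QuotientGroup.mk'_surjective K) (p * q) y hy

end Cfsg.Agent.S4001
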