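import Cfsg.Statements.S3857
import Mathlib
import Cfsg.Agent.S0042
import Cfsg.Agent.S4001
import Cfsg.Agent.Helper1.Hall
import Cfsg.Agent.Helper1.Fitting

set_option autoImplicit false
open Cfsg
open Pointwise

namespace Cfsg.Agent.S3857

universe u

/-- no element of order `p * q` with `p ∈ A`, `q ∉ A` primes -/
def NoMix (A : Set ℕ) (X : Type*) [Group X] : Prop :=
  ∀ p q : ℕ, p.Prime → q.Prime → p ∈ A → q ∉ A → ¬ ∃ g : X, orderOf g = p * q

/-- all prime divisors in `A` -/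
def IsA (A : Set ℕ) (n : ℕ) : Prop := ∀ p : ℕ, p.Prime → p ∣ n → p ∈ A

/-- all prime divisors outside `A` -/
def IsB (A : Set ℕ) (n : ℕ) : Prop := ∀ p : ℕ, p.Prime → p ∣ n → p ∉ A

theorem IsA.of_dvd {A : Set ℕ} {m n : ℕ} (h : IsA A n) (hd : m ∣ n) : IsA A m :=
  fun p hp hpm => h p hp (hpm.trans hd)

theorem IsB.of_dvd {A : Set ℕ} {m n : ℕ} (h : IsB A n) (hd : m ∣ n) : IsB A m :=
  fun p hp hpm => h p hp (hpm.trans hd)

theorem IsA.mul {A : Set ℕ} {m n : ℕ} (hm : IsA A m) (hn : IsA A n) : IsA A (m * n) :=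
  fun p hp hpm => (hp.dvd_mul.1 hpm).elim (hm p hp) (hn p hp)

theorem IsB.mul {A : Set ℕ} {m n : ℕ} (hm : IsB A m) (hn : IsB A n) : IsB A (m * n) :=
  fun p hp hpm => (hp.dvd_mul.1 hpm).elim (hm p hp) (hn p hp)

theorem isA_prime_pow {A : Set ℕ} {p : ℕ} (hp : p.Prime) (hpA : p ∈ A) (k : ℕ) :
    IsA A (p ^ k) := by
  intro r hr hrd
  rw [(Nat.prime_dvd_prime_iff_eq hr hp).1 (hr.dvd_of_dvd_pow hrd)]
  exact hpA

theorem isB_prime_pow {A : Set ℕ} {p : ℕ} (hp : p.Prime) (hpA : p ∉ A) (k : ℕ) :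
    IsB A (p ^ k) := by
  intro r hr hrd
  rw [(Nat.prime_dvd_prime_iff_eq hr hp).1 (hr.dvd_of_dvd_pow hrd)]
  exact hpA

theorem isA_prime {A : Set ℕ} {p : ℕ} (hp : p.Prime) (hpA : p ∈ A) : IsA A p := by
  intro r hr hrd
  rw [(Nat.prime_dvd_prime_iff_eq hr hp).1 hrd]
  exact hpA

theorem isB_prime {A : Set ℕ} {p : ℕ} (hp : p.Prime) (hpA : p ∉ A) : IsB A p := by
  intro r hr hrd
  rw [(Nat.prime_dvd_prime_iff_eq hr hp).1 hrd]
  exact hpA

theorem coprime_of_AB {A : Set ℕ} {m n : ℕ} (hm : IsA A m) (hn : IsB A n) : Nat.Coprime m n :=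
  Nat.coprime_of_dvd (fun k hk hkm hkn => hn k hk hkn (hm k hk hkm))

theorem no_comm' {A : Set ℕ} {X : Type*} [Group X] [Finite X] (h : NoMix A X) {x y : X}
    (hc : Commute x y) {p q : ℕ} (hp : p.Prime) (hq : q.Prime) (hpA : p ∈ A) (hqA : q ∉ A)
    (hpx : p ∣ orderOf x) (hqy : q ∣ orderOf y) : False := by
  have hpq : p ≠ q := fun e => hqA (e ▸ hpA)
  have hx0 : 0 < orderOf x := orderOf_pos x
  have hy0 : 0 < orderOf y := orderOf_pos y
  have ox : orderOf (x ^ (orderOf x / p)) = p := orderOf_pow_orderOf_div hx0.ne' hpx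
  have oy : orderOf (y ^ (orderOf y / q)) = q := orderOf_pow_orderOf_div hy0.ne' hqy
  have hc' : Commute (x ^ (orderOf x / p)) (y ^ (orderOf y / q)) := hc.pow_pow _ _
  apply h p q hp hq hpA hqA
  refine ⟨x ^ (orderOf x / p) * y ^ (orderOf y / q), ?_⟩
  rw [hc'.orderOf_mul_eq_mul_orderOf_of_coprime
    (by rw [ox, oy]; exact (Nat.coprime_primes hp hq).2 hpq), ox, oy]

theorem exists_prime_dvd_orderOf {X : Type*} [Group X] {x : X} (hx : x ≠ 1) :
    ∃ p : ℕ, p.Prime ∧ p ∣ orderOf x :=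
  Nat.exists_prime_and_dvd (fun h => hx (orderOf_eq_one_iff.1 h))

theorem no_comm {A : Set ℕ} {X : Type*} [Group X] [Finite X] (h : NoMix A X) {x y : X}
    (hc : Commute x y) (hx : x ≠ 1) (hy : y ≠ 1) (hxA : IsA A (orderOf x))
    (hyB : IsB A (orderOf y)) : False := by
  obtain ⟨p, hp, hpx⟩ := exists_prime_dvd_orderOf hx
  obtain ⟨q, hq, hqy⟩ := exists_prime_dvd_orderOf hy
  exact no_comm' h hc hp hq (hxA p hp hpx) (hyB q hq hqy) hpx hqy

theorem NoMix.quot {A : Set ℕ} {X Y : Type*} [Group X] [Finite X] [Group Y] (h : NoMix A X)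
    (f : X →* Y) (hf : Function.Surjective f) : NoMix A Y := by
  intro p q hp hq hpA hqA ⟨y, hy⟩
  exact h p q hp hq hpA hqA (Cfsg.Agent.S4001.lift_order f hf (p * q) y hy)

theorem NoMix.sub {A : Set ℕ} {X : Type*} [Group X] (h : NoMix A X) (S : Subgroup X) :
    NoMix A S := by
  intro p q hp hq hpA hqA ⟨y, hy⟩
  exact h p q hp hq hpA hqA ⟨(y : X), by rw [Subgroup.orderOf_coe]; exact hy⟩

theorem exists_ne_one_of_ne_bot {X : Type*} [Group X] {H : Subgroup X} (h : H ≠ ⊥) :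
    ∃ x ∈ H, x ≠ 1 := by
  by_contra hcon
  apply h
  rw [Subgroup.eq_bot_iff_forall]
  intro x hx
  by_contra hx1
  exact hcon ⟨x, hx, hx1⟩

theorem mem_conj_smul {X : Type*} [Group X] (C : Subgroup X) (g x : X) :
    x ∈ MulAut.conj g • C ↔ g⁻¹ * x * g ∈ C := by
  rw [Subgroup.mem_pointwise_smul_iff_inv_smul_mem, MulAut.smul_def, MulAut.conj_inv_apply]

theorem orderOf_of_mem_zpowers {X : Type*} [Group X] {z c : X} {p : ℕ} (hp : p.Prime)
    (hz : orderOf z = p) (hc : c ∈ Subgroup.zpowers z) (hc1 : c ≠ 1) : orderOf c = p := by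
  have h1 : orderOf c ∣ p := by rw [← hz]; exact orderOf_dvd_of_mem_zpowers hc
  rcases (Nat.dvd_prime hp).1 h1 with h2 | h2
  · exact absurd (orderOf_eq_one_iff.1 h2) hc1
  · exact h2

theorem zpowers_ne_bot' {X : Type*} [Group X] {z : X} (hz : z ≠ 1) :
    Subgroup.zpowers z ≠ ⊥ := by
  intro h
  apply hz
  have h1 : z ∈ Subgroup.zpowers z := Subgroup.mem_zpowers z
  rw [h] at h1
  exact Subgroup.mem_bot.1 h1

theorem ne_one_of_orderOf_prime {X : Type*} [Group X] {z : X} {p : ℕ} (hp : p.Prime)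
    (hz : orderOf z = p) : z ≠ 1 := by
  rintro rfl
  rw [orderOf_one] at hz
  exact hp.one_lt.ne hz

/-- Frobenius criterion: a normal subgroup `N` with a complement `C` acting fixed-point-freely -/
theorem frob_crit {X : Type*} [Group X] [Finite X] (N C : Subgroup X) [hN : N.Normal]
    (hdec : ∀ x : X, ∃ n ∈ N, ∃ c ∈ C, x = n * c) (hN1 : N ≠ ⊥) (hC1 : C ≠ ⊥)
    (hfpf : ∀ c ∈ C, c ≠ 1 → ∀ n ∈ N, c * n = n * c → n = 1) :
    Cfsg.IsFrobeniusComplement C ∧ Cfsg.frobeniusKernel C = (N : Set X) := by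
  have hdisj : ∀ x, x ∈ N → x ∈ C → x = 1 := by
    intro x hxN hxC
    by_contra hx1
    exact hx1 (hfpf x hxC hx1 x hxN rfl)
  refine ⟨⟨hC1, ?_, ?_⟩, ?_⟩
  · intro htop
    obtain ⟨n, hn, hn1⟩ := exists_ne_one_of_ne_bot hN1
    exact hn1 (hdisj n hn (by rw [htop]; exact Subgroup.mem_top n))
  · intro g hg
    rw [Subgroup.eq_bot_iff_forall]
    intro x hx
    obtain ⟨hxC, hxg⟩ := Subgroup.mem_inf.1 hx
    rw [mem_conj_smul] at hxg
    obtain ⟨n, hn, c, hc, rfl⟩ := hdec g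
    have hn1 : n ≠ 1 := by
      rintro rfl
      exact hg (by simpa using hc)
    have h1 : n⁻¹ * x * n ∈ C := by
      have h := C.mul_mem (C.mul_mem hc hxg) (C.inv_mem hc)
      have e : c * ((n * c)⁻¹ * x * (n * c)) * c⁻¹ = n⁻¹ * x * n := by group
      rwa [e] at h
    have h2 : x⁻¹ * (n⁻¹ * x * n) ∈ C := C.mul_mem (C.inv_mem hxC) h1
    have h3 : x⁻¹ * (n⁻¹ * x * n) ∈ N := by
      have h4 : x⁻¹ * n⁻¹ * x⁻¹⁻¹ ∈ N := hN.conj_mem n⁻¹ (N.inv_mem hn) x⁻¹
      have h := N.mul_mem h4 hn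
      have e : x⁻¹ * n⁻¹ * x⁻¹⁻¹ * n = x⁻¹ * (n⁻¹ * x * n) := by group
      rwa [e] at h
    have h5 := hdisj _ h3 h2
    by_contra hx1
    apply hn1
    apply hfpf x hxC hx1 n hn
    calc x * n = n * x * (x⁻¹ * (n⁻¹ * x * n)) := by group
      _ = n * x := by rw [h5, mul_one]
  · ext x
    constructor
    · intro hx
      have hx' : x = 1 ∨ ∀ g : X, x ∉ MulAut.conj g • C := hx
      rcases hx' with rfl | hx'
      · exact N.one_mem
      · obtain ⟨n, hn, c, hc, rfl⟩ := hdec x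
        by_cases hc1 : c = 1
        · subst hc1
          simpa using hn
        · exfalso
          let ψ : N → N := fun m =>
            ⟨(m : X) * (c * (m : X)⁻¹ * c⁻¹), N.mul_mem m.2 (hN.conj_mem _ (N.inv_mem m.2) c)⟩
          have hinj : Function.Injective ψ := by
            intro m m' hmm
            have h1 : (m : X) * (c * (m : X)⁻¹ * c⁻¹) = (m' : X) * (c * (m' : X)⁻¹ * c⁻¹) :=
              congrArg Subtype.val hmm
            have h3 : (m' : X)⁻¹ * m = c * ((m' : X)⁻¹ * m) * c⁻¹ := by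
              calc (m' : X)⁻¹ * m
                  = (m' : X)⁻¹ * ((m : X) * (c * (m : X)⁻¹ * c⁻¹)) * (c * m * c⁻¹) := by group
                _ = (m' : X)⁻¹ * ((m' : X) * (c * (m' : X)⁻¹ * c⁻¹)) * (c * m * c⁻¹) := by
                    rw [h1]
                _ = c * ((m' : X)⁻¹ * m) * c⁻¹ := by group
            have h2 : c * ((m' : X)⁻¹ * m) = ((m' : X)⁻¹ * m) * c := by
              calc c * ((m' : X)⁻¹ * m) = c * ((m' : X)⁻¹ * m) * c⁻¹ * c := by group
                _ = ((m' : X)⁻¹ * m) * c := by rw [← h3]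
            have h4 := hfpf c hc hc1 _ (N.mul_mem (N.inv_mem m'.2) m.2) h2
            apply Subtype.ext
            exact (inv_mul_eq_one.1 h4).symm
          have hsurj : Function.Surjective ψ := Finite.injective_iff_surjective.1 hinj
          obtain ⟨m, hm⟩ := hsurj ⟨n, hn⟩
          have hm' : (m : X) * (c * (m : X)⁻¹ * c⁻¹) = n := congrArg Subtype.val hm
          apply hx' (m : X)
          rw [mem_conj_smul, ← hm']
          have e : (m : X)⁻¹ * ((m : X) * (c * (m : X)⁻¹ * c⁻¹) * c) * (m : X) = c := by group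
          rw [e]
          exact hc
    · intro hx
      show x = 1 ∨ ∀ g : X, x ∉ MulAut.conj g • C
      by_cases hx1 : x = 1
      · exact Or.inl hx1
      · right
        intro g hg
        rw [mem_conj_smul] at hg
        have h1 : g⁻¹ * x * g ∈ N := by
          have h := hN.conj_mem x hx g⁻¹
          simpa using h
        have h2 := hdisj _ h1 hg
        apply hx1
        calc x = g * (g⁻¹ * x * g) * g⁻¹ := by group
          _ = 1 := by rw [h2]; group

theorem dec_of_card {X : Type*} [Group X] [Finite X] (N C : Subgroup X)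
    (hcard : Nat.card N * Nat.card C = Nat.card X) (hcop : (Nat.card N).Coprime (Nat.card C)) :
    ∀ x : X, ∃ n ∈ N, ∃ c ∈ C, x = n * c := by
  intro x
  have hcomp := Subgroup.isComplement'_of_coprime hcard hcop
  obtain ⟨⟨n, c⟩, hnc⟩ := hcomp.2 x
  exact ⟨n.1, n.2, c.1, c.2, hnc.symm⟩

theorem frob_nil {X : Type*} [Group X] [Finite X] (N C : Subgroup X) [hN : N.Normal]
    (hdec : ∀ x : X, ∃ n ∈ N, ∃ c ∈ C, x = n * c) (hN1 : N ≠ ⊥) (hC1 : C ≠ ⊥)
    (hfpf : ∀ c ∈ C, c ≠ 1 → ∀ n ∈ N, c * n = n * c → n = 1) : Group.IsNilpotent N := by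
  obtain ⟨hfc, hker⟩ := frob_crit N C hdec hN1 hC1 hfpf
  obtain ⟨N', h1, -, h3⟩ := Cfsg.Agent.S0042.result C hfc
  have e : N' = N := SetLike.coe_injective (h1.trans hker)
  subst e
  exact h3

/-- a normal subgroup on which some nontrivial subgroup acts fixed-point-freely is nilpotent -/
theorem nil_of_fpf {X : Type*} [Group X] [Finite X] (N C : Subgroup X) [hN : N.Normal]
    (hC1 : C ≠ ⊥) (hfpf : ∀ c ∈ C, c ≠ 1 → ∀ n ∈ N, c * n = n * c → n = 1) :
    Group.IsNilpotent N := by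
  by_cases hN1 : N = ⊥
  · subst hN1
    exact Group.isNilpotent_of_subsingleton
  · have hle : N ≤ N ⊔ C := le_sup_left
    have hle' : C ≤ N ⊔ C := le_sup_right
    haveI hN' : (N.subgroupOf (N ⊔ C)).Normal := hN.subgroupOf (N ⊔ C)
    have hnil : Group.IsNilpotent (N.subgroupOf (N ⊔ C)) := by
      apply frob_nil (N.subgroupOf (N ⊔ C)) (C.subgroupOf (N ⊔ C))
      · intro x
        have hx : (x : X) ∈ ((N ⊔ C : Subgroup X) : Set X) := x.2
        rw [Subgroup.normal_mul] at hx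
        obtain ⟨n, hn, c, hc, hnc⟩ := Set.mem_mul.1 hx
        exact ⟨⟨n, hle hn⟩, Subgroup.mem_subgroupOf.2 hn, ⟨c, hle' hc⟩,
          Subgroup.mem_subgroupOf.2 hc, Subtype.ext hnc.symm⟩
      · intro h
        obtain ⟨n, hn, hn1⟩ := exists_ne_one_of_ne_bot hN1
        have h2 : (⟨n, hle hn⟩ : ↥(N ⊔ C)) ∈ N.subgroupOf (N ⊔ C) :=
          Subgroup.mem_subgroupOf.2 hn
        rw [h] at h2
        exact hn1 (congrArg Subtype.val (Subgroup.mem_bot.1 h2))
      · intro h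
        obtain ⟨c, hc, hc1⟩ := exists_ne_one_of_ne_bot hC1
        have h2 : (⟨c, hle' hc⟩ : ↥(N ⊔ C)) ∈ C.subgroupOf (N ⊔ C) :=
          Subgroup.mem_subgroupOf.2 hc
        rw [h] at h2
        exact hc1 (congrArg Subtype.val (Subgroup.mem_bot.1 h2))
      · intro c hc hc1 n hn hcn
        have h := hfpf (c : X) (Subgroup.mem_subgroupOf.1 hc) (fun h => hc1 (Subtype.ext h))
          (n : X) (Subgroup.mem_subgroupOf.1 hn) (congrArg Subtype.val hcn)
        exact Subtype.ext h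
    haveI := hnil
    exact Group.nilpotent_of_mulEquiv (Subgroup.subgroupOfEquivOfLe hle)

theorem nil_of_comm {X : Type*} [Group X] (h : IsMulCommutative X) : Group.IsNilpotent X := by
  letI : CommGroup X := { (inferInstance : Group X) with mul_comm := h.is_comm.comm }
  exact CommGroup.isNilpotent

theorem fitting_ne_bot {X : Type*} [Group X] [Finite X] [Group.IsSolvable X] [Nontrivial X] :
    Cfsg.fittingSubgroup X ≠ ⊥ := by
  obtain ⟨N, p, k, hN, hcomm, hp, hk, hcard⟩ := Cfsg.Agent.Helper1.minimal_normal_data (G := X)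
  intro h
  have hnil : Group.IsNilpotent N := nil_of_comm hcomm
  have hle := Cfsg.Agent.Helper1.le_fitting hN hnil
  rw [h] at hle
  have hNbot : N = ⊥ := le_bot_iff.1 hle
  rw [hNbot, Subgroup.card_bot] at hcard
  have h1 : 1 < p ^ k := Nat.one_lt_pow hk.ne' hp.one_lt
  omega

theorem fitting_props (X : Type*) [Group X] [Finite X] [Group.IsSolvable X] [Nontrivial X] :
    ∃ F : Subgroup X, F.Normal ∧ Group.IsNilpotent F ∧ F ≠ ⊥ ∧
      (∀ L : Subgroup X, L.Normal → Group.IsNilpotent L → L ≤ F) ∧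
      F = Cfsg.fittingSubgroup X :=
  ⟨_, Cfsg.Agent.Helper1.fitting_normal X, Cfsg.Agent.Helper1.fitting_isNilpotent,
    fitting_ne_bot, fun _ hL hnil => Cfsg.Agent.Helper1.le_fitting hL hnil, rfl⟩

theorem quot_nontrivial {X : Type*} [Group X] [Finite X] (N : Subgroup X) [N.Normal]
    (h : N ≠ ⊤) : Nontrivial (X ⧸ N) := by
  apply Finite.one_lt_card_iff_nontrivial.1
  have h1 : N.index ≠ 1 := fun h' => h (Subgroup.index_eq_one.1 h')
  have h2 : N.index ≠ 0 := Subgroup.index_ne_zero_of_finite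
  rw [Subgroup.index_eq_card] at h1 h2
  omega

theorem sylow_image {X : Type*} [Group X] [Finite X] (M : Subgroup X) (p : ℕ) [Fact p.Prime]
    (hp : p ∣ Nat.card M) (P : Sylow p M) :
    1 < Nat.card ((P : Subgroup M).map M.subtype) ∧
    ∃ n, Nat.card ((P : Subgroup M).map M.subtype) = p ^ n := by
  have h1 : Nat.card ((P : Subgroup M).map M.subtype) = Nat.card (P : Subgroup M) :=
    Subgroup.card_map_of_injective M.subtype_injective
  rw [h1]
  exact ⟨(Subgroup.one_lt_card_iff_ne_bot _).2 (P.ne_bot_of_dvd_card hp), _, P.card_eq_multiplicity⟩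

/-- if every conjugate of `a` is a power of `a`, commutators centralize `a` -/
theorem comm_of_conj_pow {X : Type*} [Group X] (a : X)
    (key : ∀ g : X, ∃ i : ℤ, g * a * g⁻¹ = a ^ i) (g₁ g₂ : X) :
    (g₁ * g₂ * g₁⁻¹ * g₂⁻¹) * a = a * (g₁ * g₂ * g₁⁻¹ * g₂⁻¹) := by
  have key' : ∀ g : X, ∃ i : ℤ, MulAut.conj g a = a ^ i := fun g => by
    obtain ⟨i, hi⟩ := key g
    exact ⟨i, by rw [MulAut.conj_apply, hi]⟩
  have hz : ∀ (g : X) (i n : ℤ), MulAut.conj g a = a ^ i →
      MulAut.conj g (a ^ n) = a ^ (i * n) := by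
    intro g i n h
    rw [map_zpow, h, zpow_mul]
  obtain ⟨i, hi⟩ := key' g₁
  obtain ⟨j, hj⟩ := key' g₂
  obtain ⟨i', hi'⟩ := key' g₁⁻¹
  obtain ⟨j', hj'⟩ := key' g₂⁻¹
  have e1 : a ^ (i * i') = a := by
    have h1 : MulAut.conj g₁ (MulAut.conj g₁⁻¹ a) = a := by
      rw [map_inv]; exact MulAut.apply_inv_self _ _ _
    rw [hi', hz g₁ i i' hi] at h1
    exact h1
  have e2 : a ^ (j * j') = a := by
    have h1 : MulAut.conj g₂ (MulAut.conj g₂⁻¹ a) = a := by
      rw [map_inv]; exact MulAut.apply_inv_self _ _ _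
    rw [hj', hz g₂ j j' hj] at h1
    exact h1
  have e3' : MulAut.conj (g₁ * g₂ * g₁⁻¹ * g₂⁻¹) a
      = MulAut.conj g₁ (MulAut.conj g₂ (MulAut.conj g₁⁻¹ (MulAut.conj g₂⁻¹ a))) := by
    simp only [map_mul, MulAut.mul_apply]
  have e3 : MulAut.conj (g₁ * g₂ * g₁⁻¹ * g₂⁻¹) a = a := by
    rw [e3', hj', hz g₁⁻¹ i' j' hi', hz g₂ j _ hj, hz g₁ i _ hi]
    have e4 : i * (j * (i' * j')) = (i * i') * (j * j') := by ring
    rw [e4, zpow_mul, e1, e2]
  rw [MulAut.conj_apply] at e3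
  calc (g₁ * g₂ * g₁⁻¹ * g₂⁻¹) * a
      = (g₁ * g₂ * g₁⁻¹ * g₂⁻¹) * a * (g₁ * g₂ * g₁⁻¹ * g₂⁻¹)⁻¹ * (g₁ * g₂ * g₁⁻¹ * g₂⁻¹) := by
        group
    _ = a * (g₁ * g₂ * g₁⁻¹ * g₂⁻¹) := by rw [e3]

theorem main_aux (G : Type u) [Group G] [Finite G] [hsol : Group.IsSolvable G] (A : Set ℕ)
    (hmix : NoMix A G) (hF : IsA A (Nat.card (Cfsg.fittingSubgroup G)))
    (q₀ : ℕ) (hq₀ : q₀.Prime) (hq₀A : q₀ ∉ A) (hq₀d : q₀ ∣ Nat.card G) :
    (∃ C : Subgroup G, Cfsg.IsFrobeniusComplement C) ∨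
    (∃ (H K : Subgroup G) (_ : H.Normal), K.Normal ∧ H < K ∧
      (∃ C : Subgroup ↥K, Cfsg.IsFrobeniusComplement C ∧
        Cfsg.frobeniusKernel C = (H.subgroupOf K : Set ↥K)) ∧
      (∃ C : Subgroup (G ⧸ H), Cfsg.IsFrobeniusComplement C ∧
        Cfsg.frobeniusKernel C = (K.map (QuotientGroup.mk' H) : Set (G ⧸ H)))) := by
  classical
  haveI : Fact q₀.Prime := ⟨hq₀⟩
  haveI hGnt : Nontrivial G :=
    Finite.one_lt_card_iff_nontrivial.1
      (lt_of_lt_of_le hq₀.one_lt (Nat.le_of_dvd Nat.card_pos hq₀d))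
  obtain ⟨F, hFn, hFnil, hF1, hFmax, hFeq⟩ := fitting_props G
  rw [← hFeq] at hF
  haveI := hFn
  obtain ⟨y₀, hy₀⟩ := exists_prime_orderOf_dvd_card' q₀ hq₀d
  have hy₀1 : y₀ ≠ 1 := ne_one_of_orderOf_prime hq₀ hy₀
  have hFtop : F ≠ ⊤ := by
    intro h
    apply hq₀A
    apply hF q₀ hq₀
    rw [h, Subgroup.card_top]
    exact hq₀d
  haveI hQnt : Nontrivial (G ⧸ F) := quot_nontrivial F hFtop
  haveI hQsol : Group.IsSolvable (G ⧸ F) :=
    solvable_of_surjective (QuotientGroup.mk'_surjective F)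
  have hmixQ : NoMix A (G ⧸ F) :=
    hmix.quot (QuotientGroup.mk' F) (QuotientGroup.mk'_surjective F)
  obtain ⟨FQ, hFQn, hFQnil, hFQ1, hFQmax, -⟩ := fitting_props (G ⧸ F)
  haveI := hFQn
  obtain ⟨K, hKdef⟩ : ∃ K : Subgroup G, K = FQ.comap (QuotientGroup.mk' F) := ⟨_, rfl⟩
  have hKn : K.Normal := by rw [hKdef]; exact hFQn.comap _
  have hmemK : ∀ x : G, x ∈ K ↔ QuotientGroup.mk' F x ∈ FQ := by
    intro x
    rw [hKdef]
    exact Subgroup.mem_comap
  have hFK : F ≤ K := by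
    intro x hx
    rw [hmemK]
    have h1 : QuotientGroup.mk' F x = 1 := (QuotientGroup.eq_one_iff x).2 hx
    rw [h1]
    exact FQ.one_mem
  have hKcard : Nat.card K = Nat.card F * Nat.card FQ := by
    rw [hKdef]
    exact Cfsg.Agent.Helper1.card_comap_mk F FQ
  have hk1 : Nat.card FQ ≠ 1 := fun h => hFQ1 (Subgroup.eq_bot_of_card_eq FQ h)
  have hFpos : 0 < Nat.card F := Nat.card_pos
  have hkpos : 0 < Nat.card FQ := Nat.card_pos
  have hFltK : F < K := by
    refine lt_of_le_of_ne hFK (fun h => ?_)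
    rw [← h] at hKcard
    have h2 : Nat.card F * 1 = Nat.card F * Nat.card FQ := by rw [mul_one]; exact hKcard
    exact hk1 (Nat.eq_of_mul_eq_mul_left hFpos h2).symm
  -- (a) `|K/F|` is a `B`-number
  have hkB : IsB A (Nat.card FQ) := by
    intro p hp hpk hpA
    haveI : Fact p.Prime := ⟨hp⟩
    obtain ⟨P⟩ : Nonempty (Sylow p FQ) := inferInstance
    obtain ⟨hPb1, n, hPcard⟩ := sylow_image FQ p hpk P
    obtain ⟨Pb, hPbdef⟩ : ∃ Pb : Subgroup (G ⧸ F), Pb = (P : Subgroup FQ).map FQ.subtype :=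
      ⟨_, rfl⟩
    rw [← hPbdef] at hPb1 hPcard
    have hPn : Pb.Normal := by
      rw [hPbdef]
      exact Cfsg.Agent.Helper1.sylow_of_normal_nilpotent_normal hFQn hFQnil p P
    obtain ⟨L, hLdef⟩ : ∃ L : Subgroup G, L = Pb.comap (QuotientGroup.mk' F) := ⟨_, rfl⟩
    have hLn : L.Normal := by rw [hLdef]; exact hPn.comap _
    have hLcard : Nat.card L = Nat.card F * Nat.card Pb := by
      rw [hLdef]
      exact Cfsg.Agent.Helper1.card_comap_mk F Pb
    have hLA : IsA A (Nat.card L) := by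
      rw [hLcard, hPcard]
      exact hF.mul (isA_prime_pow hp hpA _)
    have hLnil : Group.IsNilpotent L := by
      haveI := hLn
      apply nil_of_fpf L (Subgroup.zpowers y₀) (zpowers_ne_bot' hy₀1)
      intro c hc hc1 x hx hcx
      by_contra hx1
      have hcq : orderOf c = q₀ := orderOf_of_mem_zpowers hq₀ hy₀ hc hc1
      refine no_comm hmix (x := x) (y := c) hcx.symm hx1 hc1
        (hLA.of_dvd (Cfsg.Agent.S4001.ord_dvd_card L hx)) ?_
      rw [hcq]
      exact isB_prime hq₀ hq₀A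
    have hle := hFmax L hLn hLnil
    have h1 := Subgroup.card_le_of_le hle
    rw [hLcard] at h1
    have h2 : Nat.card F * 2 ≤ Nat.card F * Nat.card Pb := Nat.mul_le_mul_left _ hPb1
    omega
  have hcopFk : (Nat.card F).Coprime (Nat.card FQ) := coprime_of_AB hF hkB
  have hmixK : NoMix A K := hmix.sub K
  -- `K` is a Frobenius group with kernel `F`
  have hKfrob : ∃ C : Subgroup ↥K, Cfsg.IsFrobeniusComplement C ∧
      Cfsg.frobeniusKernel C = (F.subgroupOf K : Set ↥K) := by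
    have hcardK : Nat.card K = Nat.card FQ * Nat.card F := by rw [hKcard, mul_comm]
    obtain ⟨⟨B₀, hB₀⟩, -⟩ := Cfsg.Agent.Helper1.hall_aux (Nat.card K) (↥K) rfl (Nat.card FQ)
      (Nat.card F) hcardK hcopFk.symm
    haveI : (F.subgroupOf K).Normal := hFn.subgroupOf K
    have hNcard : Nat.card (F.subgroupOf K) = Nat.card F :=
      Nat.card_congr (Subgroup.subgroupOfEquivOfLe hFK).toEquiv
    refine ⟨B₀, frob_crit (F.subgroupOf K) B₀ ?_ ?_ ?_ ?_⟩
    · exact dec_of_card (F.subgroupOf K) B₀ (by rw [hNcard, hB₀, hKcard])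
        (by rw [hNcard, hB₀]; exact hcopFk)
    · intro h
      rw [h, Subgroup.card_bot] at hNcard
      exact hF1 (Subgroup.eq_bot_of_card_eq F hNcard.symm)
    · intro h
      rw [h, Subgroup.card_bot] at hB₀
      exact hk1 hB₀.symm
    · intro c hc hc1 x hx hcx
      by_contra hx1
      refine no_comm hmixK (x := x) (y := c) hcx.symm hx1 hc1 ?_ ?_
      · exact hF.of_dvd (by rw [← hNcard]; exact Cfsg.Agent.S4001.ord_dvd_card _ hx)
      · exact hkB.of_dvd (by rw [← hB₀]; exact Cfsg.Agent.S4001.ord_dvd_card _ hc)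
  by_cases hQB : IsB A (Nat.card (G ⧸ F))
  · left
    have hcardG : Nat.card G = Nat.card (G ⧸ F) * Nat.card F :=
      Subgroup.card_eq_card_quotient_mul_card_subgroup F
    have hcop : (Nat.card F).Coprime (Nat.card (G ⧸ F)) := coprime_of_AB hF hQB
    obtain ⟨⟨C, hC⟩, -⟩ := Cfsg.Agent.Helper1.hall_aux (Nat.card G) G rfl (Nat.card (G ⧸ F))
      (Nat.card F) hcardG hcop.symm
    refine ⟨C, (frob_crit F C ?_ hF1 ?_ ?_).1⟩
    · exact dec_of_card F C (by rw [hC, hcardG, mul_comm]) (by rw [hC]; exact hcop)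
    · intro h
      rw [h, Subgroup.card_bot] at hC
      have h1 : 1 < Nat.card (G ⧸ F) := Finite.one_lt_card_iff_nontrivial.2 hQnt
      omega
    · intro c hc hc1 x hx hcx
      by_contra hx1
      refine no_comm hmix (x := x) (y := c) hcx.symm hx1 hc1 ?_ ?_
      · exact hF.of_dvd (Cfsg.Agent.S4001.ord_dvd_card _ hx)
      · exact hQB.of_dvd (by rw [← hC]; exact Cfsg.Agent.S4001.ord_dvd_card _ hc)
  · right
    obtain ⟨p₀, hp₀, hp₀d, hp₀A⟩ :
        ∃ p₀ : ℕ, p₀.Prime ∧ p₀ ∣ Nat.card (G ⧸ F) ∧ p₀ ∈ A := by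
      by_contra hcon
      exact hQB (fun p hp hpd hpA => hcon ⟨p, hp, hpd, hpA⟩)
    haveI : Fact p₀.Prime := ⟨hp₀⟩
    obtain ⟨zb, hzb⟩ := exists_prime_orderOf_dvd_card' p₀ hp₀d
    have hzb1 : zb ≠ 1 := ne_one_of_orderOf_prime hp₀ hzb
    have hQ : ∀ Nb : Subgroup (G ⧸ F), Nb.Normal → IsB A (Nat.card Nb) → Nb ≤ FQ := by
      intro Nb hNb hNbB
      haveI := hNb
      apply hFQmax Nb hNb
      apply nil_of_fpf Nb (Subgroup.zpowers zb) (zpowers_ne_bot' hzb1)
      intro c hc hc1 x hx hcx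
      by_contra hx1
      have hcp : orderOf c = p₀ := orderOf_of_mem_zpowers hp₀ hzb hc hc1
      refine no_comm hmixQ (x := c) (y := x) hcx hc1 hx1 ?_
        (hNbB.of_dvd (Cfsg.Agent.S4001.ord_dvd_card Nb hx))
      rw [hcp]
      exact isA_prime hp₀ hp₀A
    -- (b) `|G/K|` is an `A`-number
    have hidxA : IsA A FQ.index := by
      intro q hq hqd
      by_contra hqA
      haveI : Fact q.Prime := ⟨hq⟩
      have hFQtop : FQ ≠ ⊤ := by
        intro h
        rw [h, Subgroup.index_top] at hqd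
        exact hq.one_lt.ne' (Nat.dvd_one.1 hqd)
      haveI : Nontrivial ((G ⧸ F) ⧸ FQ) := quot_nontrivial FQ hFQtop
      haveI : Group.IsSolvable ((G ⧸ F) ⧸ FQ) :=
        solvable_of_surjective (QuotientGroup.mk'_surjective FQ)
      obtain ⟨N₀, p₁, j, hN₀n, -, hp₁, hj, hN₀card⟩ :=
        Cfsg.Agent.Helper1.minimal_normal_data (G := (G ⧸ F) ⧸ FQ)
      obtain ⟨Mb, hMbdef⟩ : ∃ Mb : Subgroup (G ⧸ F), Mb = N₀.comap (QuotientGroup.mk' FQ) :=
        ⟨_, rfl⟩
      haveI hMbn : Mb.Normal := by rw [hMbdef]; exact hN₀n.comap _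
      have hMbcard : Nat.card Mb = Nat.card FQ * p₁ ^ j := by
        rw [hMbdef, Cfsg.Agent.Helper1.card_comap_mk FQ N₀, hN₀card]
      have hpj : 1 < p₁ ^ j := Nat.one_lt_pow hj.ne' hp₁.one_lt
      have hp₁A : p₁ ∈ A := by
        by_contra hp₁A
        have h1 : IsB A (Nat.card Mb) := by
          rw [hMbcard]
          exact hkB.mul (isB_prime_pow hp₁ hp₁A j)
        have h2 := Subgroup.card_le_of_le (hQ Mb hMbn h1)
        rw [hMbcard] at h2
        have h4 : Nat.card FQ * 2 ≤ Nat.card FQ * p₁ ^ j := Nat.mul_le_mul_left _ hpj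
        omega
      haveI : Fact p₁.Prime := ⟨hp₁⟩
      have hp₁M : p₁ ∣ Nat.card Mb := by
        rw [hMbcard]
        exact Dvd.dvd.mul_left (dvd_pow_self p₁ hj.ne') _
      obtain ⟨P⟩ : Nonempty (Sylow p₁ Mb) := inferInstance
      obtain ⟨hP₁lt, n₁, hP₁card⟩ := sylow_image Mb p₁ hp₁M P
      obtain ⟨P₁, hP₁def⟩ : ∃ P₁ : Subgroup (G ⧸ F), P₁ = (P : Subgroup Mb).map Mb.subtype :=
        ⟨_, rfl⟩
      rw [← hP₁def] at hP₁lt hP₁card
      have hP₁A : ∀ z ∈ P₁, IsA A (orderOf z) := fun z hz =>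
        (isA_prime_pow hp₁ hp₁A n₁).of_dvd
          (by rw [← hP₁card]; exact Cfsg.Agent.S4001.ord_dvd_card P₁ hz)
      obtain ⟨N₁, hN₁def⟩ :
          ∃ N₁ : Subgroup (G ⧸ F), N₁ = Subgroup.normalizer (P₁ : Set (G ⧸ F)) := ⟨_, rfl⟩
      have hsup : N₁ ⊔ Mb = ⊤ := by
        rw [hN₁def, hP₁def]
        exact Sylow.normalizer_sup_eq_top P
      have hmemN₁ : ∀ y ∈ N₁, ∀ z : G ⧸ F, z ∈ P₁ ↔ y * z * y⁻¹ ∈ P₁ := by
        intro y hy
        rw [hN₁def] at hy
        exact Subgroup.mem_normalizer_iff.1 hy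
      have hidx : FQ.index = Mb.index * p₁ ^ j := by
        have h1 := Subgroup.index_mul_card FQ
        have h2 := Subgroup.index_mul_card Mb
        rw [hMbcard] at h2
        have h3 : FQ.index * Nat.card FQ = (Mb.index * p₁ ^ j) * Nat.card FQ := by
          rw [h1, ← h2]
          ring
        exact Nat.eq_of_mul_eq_mul_right hkpos h3
      have hqM : q ∣ Mb.index := by
        rw [hidx] at hqd
        rcases hq.dvd_mul.1 hqd with h | h
        · exact h
        · exfalso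
          have h5 := (Nat.prime_dvd_prime_iff_eq hq hp₁).1 (hq.dvd_of_dvd_pow h)
          exact hqA (by rw [h5]; exact hp₁A)
      have hqN₁ : q ∣ Nat.card N₁ := by
        refine hqM.trans ?_
        rw [Subgroup.index_eq_card]
        apply Subgroup.card_dvd_of_surjective ((QuotientGroup.mk' Mb).comp N₁.subtype)
        intro xb
        obtain ⟨x, rfl⟩ := QuotientGroup.mk'_surjective Mb xb
        have hx : x ∈ ((N₁ ⊔ Mb : Subgroup (G ⧸ F)) : Set (G ⧸ F)) := by
          rw [hsup]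
          exact Subgroup.mem_top x
        rw [Subgroup.mul_normal] at hx
        obtain ⟨n, hn, m, hm, rfl⟩ := Set.mem_mul.1 hx
        refine ⟨⟨n, hn⟩, ?_⟩
        have hm1 : QuotientGroup.mk' Mb m = 1 := (QuotientGroup.eq_one_iff m).2 hm
        show QuotientGroup.mk' Mb n = QuotientGroup.mk' Mb (n * m)
        rw [map_mul, hm1, mul_one]
      obtain ⟨y', hy'⟩ := exists_prime_orderOf_dvd_card' q hqN₁
      obtain ⟨y, hydef⟩ : ∃ y : G ⧸ F, y = (y' : G ⧸ F) := ⟨_, rfl⟩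
      have hyN₁ : y ∈ N₁ := by rw [hydef]; exact y'.2
      have hyord : orderOf y = q := by rw [hydef, Subgroup.orderOf_coe]; exact hy'
      have hynorm := hmemN₁ y hyN₁
      have hy1 : y ≠ 1 := ne_one_of_orderOf_prime hq hyord
      have hyB : IsB A (orderOf y) := by rw [hyord]; exact isB_prime hq hqA
      -- a minimal normal subgroup of `G/F`
      obtain ⟨Vb, r, k', hVbn, hVbcomm, hr, hk', hVbcard⟩ :=
        Cfsg.Agent.Helper1.minimal_normal_data (G := G ⧸ F)
      have hVbnil : Group.IsNilpotent Vb := nil_of_comm hVbcomm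
      have hVble : Vb ≤ FQ := hFQmax Vb hVbn hVbnil
      have hrV : r ∣ Nat.card Vb := by rw [hVbcard]; exact dvd_pow_self r hk'.ne'
      have hrk : r ∣ Nat.card FQ := hrV.trans (Subgroup.card_dvd_of_le hVble)
      have hrA : r ∉ A := hkB r hr hrk
      haveI : Fact r.Prime := ⟨hr⟩
      obtain ⟨a', ha'⟩ := exists_prime_orderOf_dvd_card' r hrV
      obtain ⟨a, hadef⟩ : ∃ a : G ⧸ F, a = (a' : G ⧸ F) := ⟨_, rfl⟩
      have haV : a ∈ Vb := by rw [hadef]; exact a'.2
      have haord : orderOf a = r := by rw [hadef, Subgroup.orderOf_coe]; exact ha'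
      have ha1 : a ≠ 1 := ne_one_of_orderOf_prime hr haord
      have haB : IsB A (orderOf a) := by rw [haord]; exact isB_prime hr hrA
      have hVbc : ∀ x ∈ Vb, ∀ y ∈ Vb, x * y = y * x := fun x hx y hy =>
        congrArg Subtype.val (hVbcomm.is_comm.comm ⟨x, hx⟩ ⟨y, hy⟩)
      -- the centre of `F`
      have hFcard1 : Nat.card F ≠ 1 := fun h => hF1 (Subgroup.eq_bot_of_card_eq F h)
      obtain ⟨z₀', hz₀', hz₀c'⟩ :=
        Cfsg.Agent.S4001.cen hFnil _ (Nat.minFac_prime hFcard1) (Nat.minFac_dvd _)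
      have hz₀1 : (z₀' : G) ≠ 1 := by
        intro h
        have h1 : z₀' = 1 := Subtype.ext h
        rw [h1, orderOf_one] at hz₀'
        exact (Nat.minFac_prime hFcard1).one_lt.ne hz₀'
      have hz₀V : (z₀' : G) ∈ Cfsg.Agent.S4001.Vsub F 0 :=
        Cfsg.Agent.S4001.mem_Vsub.2 ⟨z₀'.2,
          fun h hh => (congrArg Subtype.val (hz₀c' ⟨h, hh⟩)).symm, pow_zero _⟩
      letI := Cfsg.Agent.S4001.vcomm F 0
      haveI : Nontrivial ↥(Cfsg.Agent.S4001.Vsub F 0) :=
        ⟨⟨⟨(z₀' : G), hz₀V⟩, 1, fun h => hz₀1 (congrArg Subtype.val h)⟩⟩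
      have hVle : Cfsg.Agent.S4001.Vsub F 0 ≤ F := fun v hv => (Cfsg.Agent.S4001.mem_Vsub.1 hv).1
      have hfpfV : ∀ s ∈ Vb, s ≠ 1 → ∀ v : ↥(Cfsg.Agent.S4001.Vsub F 0),
          Cfsg.Agent.S4001.act F 0 s v = v → v = 1 := by
        intro s hs hs1 v hv
        obtain ⟨g, rfl⟩ := QuotientGroup.mk_surjective s
        have e : g * (v : G) * g⁻¹ = v :=
          (Cfsg.Agent.S4001.act_mk F 0 g v).symm.trans (congrArg Subtype.val hv)
        by_contra hv1
        have hv1' : (v : G) ≠ 1 := fun h => hv1 (Subtype.ext h)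
        obtain ⟨p, hp, hpv⟩ := exists_prime_dvd_orderOf hv1'
        have hpA : p ∈ A :=
          hF p hp (hpv.trans (Cfsg.Agent.S4001.ord_dvd_card F (hVle v.2)))
        have hrs : r ∣ orderOf (QuotientGroup.mk g : G ⧸ F) := by
          have h1 : orderOf (QuotientGroup.mk g : G ⧸ F) ∣ r ^ k' := by
            rw [← hVbcard]
            exact Cfsg.Agent.S4001.ord_dvd_card Vb hs
          obtain ⟨i, -, hi⟩ := (Nat.dvd_prime_pow hr).1 h1
          rcases Nat.eq_zero_or_pos i with h0 | h0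
          · exfalso
            rw [h0, pow_zero] at hi
            exact hs1 (orderOf_eq_one_iff.1 hi)
          · rw [hi]
            exact dvd_pow_self r h0.ne'
        have hrg : r ∣ orderOf g := hrs.trans (orderOf_map_dvd (QuotientGroup.mk' F) g)
        have hcomm : Commute (v : G) g := by
          show (v : G) * g = g * (v : G)
          calc (v : G) * g = g * (v : G) * g⁻¹ * g := by rw [e]
            _ = g * (v : G) := by group
        exact no_comm' hmix hcomm hp hr hpA hrA hpv hrg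
      have hcopV : (Nat.card Vb).Coprime (Nat.card ↥(Cfsg.Agent.S4001.Vsub F 0)) := by
        rw [hVbcard]
        exact (coprime_of_AB (hF.of_dvd (Subgroup.card_dvd_of_le hVle))
          (isB_prime_pow hr hrA k')).symm
      have hap : a ^ r = 1 := by rw [← haord]; exact pow_orderOf_eq_one a
      have hconj : ∀ g : G ⧸ F, ∃ i : ℤ, g * a * g⁻¹ = a ^ i := by
        intro g
        have hb : g * a * g⁻¹ ∈ Vb := hVbn.conj_mem a haV g
        have h := Cfsg.Agent.S4001.econd (Cfsg.Agent.S4001.act F 0) Vb hfpfV hcopV r hr a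
          (g * a * g⁻¹) haV hb (hVbc a haV _ hb) hap
          (by rw [conj_pow, hap, mul_one, mul_inv_cancel]) ha1
        obtain ⟨i, hi⟩ := Subgroup.mem_zpowers_iff.1 h
        exact ⟨i, hi.symm⟩
      have hcc := comm_of_conj_pow a hconj
      have hzy : ∀ z ∈ P₁, z * y = y * z := by
        intro z hz
        have hc : z * y * z⁻¹ * y⁻¹ ∈ P₁ := by
          have h1 : y * z⁻¹ * y⁻¹ ∈ P₁ := (hynorm z⁻¹).1 (P₁.inv_mem hz)
          have h2 := P₁.mul_mem hz h1
          have e : z * (y * z⁻¹ * y⁻¹) = z * y * z⁻¹ * y⁻¹ := by group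
          rwa [e] at h2
        have hc1 : z * y * z⁻¹ * y⁻¹ = 1 := by
          by_contra hne
          exact no_comm hmixQ (x := z * y * z⁻¹ * y⁻¹) (y := a) (hcc z y) hne ha1
            (hP₁A _ hc) haB
        calc z * y = z * y * z⁻¹ * y⁻¹ * (y * z) := by group
          _ = y * z := by rw [hc1, one_mul]
      obtain ⟨z, hz, hz1⟩ := exists_ne_one_of_ne_bot ((Subgroup.one_lt_card_iff_ne_bot _).1 hP₁lt)
      exact no_comm hmixQ (x := z) (y := y) (hzy z hz) hz1 hy1 (hP₁A z hz) hyB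
    -- `G/F` is a Frobenius group with kernel `K/F`
    have hcardQ : Nat.card (G ⧸ F) = FQ.index * Nat.card FQ := (Subgroup.index_mul_card FQ).symm
    have hcopQ : (FQ.index).Coprime (Nat.card FQ) := coprime_of_AB hidxA hkB
    obtain ⟨⟨Cb, hCb⟩, -⟩ := Cfsg.Agent.Helper1.hall_aux (Nat.card (G ⧸ F)) (G ⧸ F) rfl
      FQ.index (Nat.card FQ) hcardQ hcopQ
    have hQfrob : Cfsg.IsFrobeniusComplement Cb ∧
        Cfsg.frobeniusKernel Cb = (FQ : Set (G ⧸ F)) := by
      apply frob_crit FQ Cb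
      · exact dec_of_card FQ Cb (by rw [hCb, hcardQ, mul_comm]) (by rw [hCb]; exact hcopQ.symm)
      · exact hFQ1
      · intro h
        rw [h, Subgroup.card_bot] at hCb
        have h1 : FQ = ⊤ := Subgroup.index_eq_one.1 hCb.symm
        have h2 : Nat.card FQ = Nat.card (G ⧸ F) := by rw [h1, Subgroup.card_top]
        exact hkB p₀ hp₀ (by rw [h2]; exact hp₀d) hp₀A
      · intro c hc hc1 x hx hcx
        by_contra hx1
        refine no_comm hmixQ (x := c) (y := x) hcx hc1 hx1 ?_ ?_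
        · exact hidxA.of_dvd (by rw [← hCb]; exact Cfsg.Agent.S4001.ord_dvd_card _ hc)
        · exact hkB.of_dvd (Cfsg.Agent.S4001.ord_dvd_card _ hx)
    refine ⟨F, K, hFn, hKn, hFltK, hKfrob, Cb, hQfrob.1, ?_⟩
    rw [hQfrob.2, hKdef,
      Subgroup.map_comap_eq_self_of_surjective (QuotientGroup.mk'_surjective F) FQ]

/-- A finite solvable group whose prime graph (prime divisors of the order, two distinct primes joined when there is an element of order their product) is disconnected is a Frobenius group or a 2-Frobenius group (it has normal subgroups H < K with K a Frobenius group with kernel H and G/H a Frobenius group with kernel K/H). -/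
theorem result {G : Type*} [Group G] [Finite G] (hsol : Group.IsSolvable G)
    (hdisc : (∃ A : Set ℕ, (∃ a ∈ A, a.Prime ∧ a ∣ Nat.card G) ∧ (∃ b ∉ A, b.Prime ∧ b ∣ Nat.card G) ∧
      ∀ a ∈ A, ∀ b ∉ A, a.Prime → b.Prime → a ∣ Nat.card G → b ∣ Nat.card G → ¬ ∃ g : G, orderOf g = a * b)) :
    (∃ C : Subgroup G, Cfsg.IsFrobeniusComplement C) ∨
    (∃ (H K : Subgroup G) (_ : H.Normal), K.Normal ∧ H < K ∧
      (∃ C : Subgroup ↥K, Cfsg.IsFrobeniusComplement C ∧ Cfsg.frobeniusKernel C = (H.subgroupOf K : Set ↥K)) ∧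
      (∃ C : Subgroup (G ⧸ H), Cfsg.IsFrobeniusComplement C ∧ Cfsg.frobeniusKernel C = (K.map (QuotientGroup.mk' H) : Set (G ⧸ H)))) := by
  obtain ⟨A, ⟨a, haA, ha, had⟩, ⟨b, hbA, hb, hbd⟩, hno⟩ := hdisc
  haveI := hsol
  have hmix : NoMix A G := by
    intro p q hp hq hpA hqA ⟨g, hg⟩
    have hd : p * q ∣ Nat.card G := by rw [← hg]; exact orderOf_dvd_natCard g
    have hpd : p ∣ Nat.card G := (Dvd.intro _ rfl).trans hd
    have hqd : q ∣ Nat.card G := (Dvd.intro_left _ rfl).trans hd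
    exact hno p hpA q hqA hp hq hpd hqd ⟨g, hg⟩
  have hFnil : Group.IsNilpotent (Cfsg.fittingSubgroup G) :=
    Cfsg.Agent.Helper1.fitting_isNilpotent
  by_cases hFA : IsA A (Nat.card (Cfsg.fittingSubgroup G))
  · exact main_aux G A hmix hFA b hb hbA hbd
  · have hFB : IsA Aᶜ (Nat.card (Cfsg.fittingSubgroup G)) := by
      obtain ⟨p, hp, hpd, hpA⟩ :
          ∃ p : ℕ, p.Prime ∧ p ∣ Nat.card (Cfsg.fittingSubgroup G) ∧ p ∉ A := by
        by_contra hcon
        apply hFA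
        intro p hp hpd
        by_contra hpA
        exact hcon ⟨p, hp, hpd, hpA⟩
      intro q hq hqd
      show q ∉ A
      intro hqA
      have hne : q ≠ p := fun e => hpA (e ▸ hqA)
      obtain ⟨x, hx⟩ := Cfsg.Agent.S4001.nil_pq hFnil q p hq hp hne hqd hpd
      exact hmix q p hq hp hqA hpA ⟨(x : G), by rw [Subgroup.orderOf_coe]; exact hx⟩
    have hmix' : NoMix Aᶜ G := by
      intro p q hp hq hpA hqA ⟨g, hg⟩
      have hqA' : q ∈ A := by
        by_contra h
        exact hqA ((Set.mem_compl_iff A q).2 h)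
      have hpA' : p ∉ A := (Set.mem_compl_iff A p).1 hpA
      exact hmix q p hq hp hqA' hpA' ⟨g, by rw [hg, mul_comm]⟩
    exact main_aux G Aᶜ hmix' hFB a ha (fun h => (Set.mem_compl_iff A a).1 h haA) had

end Cfsg.Agent.S3857
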