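import Cfsg.Statements.S4115
import Cfsg.Agent.Helper3.Wielandt
import Cfsg.Agent.S4116
import Cfsg.Agent.S3857
import Mathlib

set_option autoImplicit false
universe u
open Cfsg

namespace Cfsg.Agent.S4115

theorem tiL {G : Type u} [Group G] [Finite G] (H L : Subgroup G) (hHL : H ≤ L)
    (hHn : (H.subgroupOf L).Normal)
    (hTI : ∀ g : G, g ∉ L → ∀ x ∈ H, g * x * g⁻¹ ∈ H → x = 1)
    (hHall : (Nat.card H).Coprime (H.subgroupOf L).index)
    (K : Subgroup L) (hKn : K.Normal) (hc : K.IsComplement' (H.subgroupOf L)) :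
    ∀ x : G, x ∉ L → ∀ y : L, x * (y : G) * x⁻¹ ∈ L → y ∈ K := by
  have hcardK : (H.subgroupOf L).index = Nat.card K := hc.index_eq_card
  have hcardH : Nat.card (H.subgroupOf L) = Nat.card H :=
    Nat.card_congr (Subgroup.subgroupOfEquivOfLe hHL).toEquiv
  have hcop : (Nat.card H).Coprime (Nat.card K) := by rw [← hcardK]; exact hHall
  have powH : ∀ y : L, ((y ^ Nat.card K : L) : G) ∈ H ∧
      (((y ^ Nat.card K : L) : G) = 1 → y ∈ K) := by
    intro y
    obtain ⟨⟨k, h⟩, e⟩ := hc.2 y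
    have e' : (k : L) * (h : L) = y := e
    have hkK : (k : L) ∈ K := k.2
    have hhH : (h : L) ∈ H.subgroupOf L := h.2
    have hcomm : Commute (k : L) (h : L) :=
      Subgroup.commute_of_normal_of_disjoint K (H.subgroupOf L) hKn hHn hc.disjoint _ _ hkK hhH
    have hk1 : (k : L) ^ Nat.card K = 1 :=
      orderOf_dvd_iff_pow_eq_one.mp (Subgroup.orderOf_dvd_natCard K hkK)
    have hy : y ^ Nat.card K = (h : L) ^ Nat.card K := by
      rw [← e', hcomm.mul_pow, hk1, one_mul]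
    constructor
    · rw [hy]
      have h1 : (h : L) ^ Nat.card K ∈ H.subgroupOf L := (H.subgroupOf L).pow_mem hhH _
      exact h1
    · intro h1
      have h2 : (h : L) ^ Nat.card K = 1 := by
        rw [← hy]; exact Subtype.ext h1
      have h3 : orderOf (h : L) ∣ Nat.card K := orderOf_dvd_of_pow_eq_one h2
      have h4 : orderOf (h : L) ∣ Nat.card H := by
        rw [← hcardH]
        exact Subgroup.orderOf_dvd_natCard _ hhH
      have h5 : orderOf (h : L) = 1 := Nat.eq_one_of_dvd_coprimes hcop h4 h3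
      have h6 : (h : L) = 1 := orderOf_eq_one_iff.mp h5
      rw [← e', h6, mul_one]
      exact hkK
  intro x hx y hy
  obtain ⟨ha, hay⟩ := powH y
  obtain ⟨hb, -⟩ := powH ⟨x * (y : G) * x⁻¹, hy⟩
  apply hay
  apply hTI x hx _ ha
  have e : x * ((y ^ Nat.card K : L) : G) * x⁻¹ =
      (((⟨x * (y : G) * x⁻¹, hy⟩ : L) ^ Nat.card K : L) : G) := by
    rw [Subgroup.coe_pow, Subgroup.coe_pow]
    show x * (y : G) ^ Nat.card K * x⁻¹ = (x * (y : G) * x⁻¹) ^ Nat.card K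
    rw [conj_pow]
  rw [e]; exact hb

theorem hallG {G : Type u} [Group G] [Finite G] (H : Subgroup G)
    (hTI : Cfsg.IsTISubset (H : Set G))
    (hHall : (Nat.card H).Coprime (H.subgroupOf (Subgroup.normalizer (H : Set G))).index) :
    (Nat.card H).Coprime H.index := by
  by_contra hcon
  obtain ⟨p, hp, hpH, hpI⟩ := Nat.Prime.not_coprime_iff_dvd.mp hcon
  haveI : Fact p.Prime := ⟨hp⟩
  obtain ⟨P⟩ : Nonempty (Sylow p H) := inferInstance
  obtain ⟨n, hn⟩ : ∃ n, n = (Nat.card H).factorization p := ⟨_, rfl⟩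
  have hPc : Nat.card (P : Subgroup H) = p ^ n := by rw [hn]; exact P.card_eq_multiplicity
  obtain ⟨Pb, hPb⟩ : ∃ Pb : Subgroup G, Pb = (P : Subgroup H).map H.subtype := ⟨_, rfl⟩
  have hPbc : Nat.card Pb = p ^ n := by
    rw [hPb, Subgroup.card_map_of_injective H.subtype_injective, hPc]
  have hPbH : Pb ≤ H := by rw [hPb]; exact Subgroup.map_subtype_le _
  have hn1 : 1 ≤ n := by
    rw [hn]; exact hp.factorization_pos_of_dvd Nat.card_pos.ne' hpH
  have hpn : p ^ n ∣ Nat.card H := by rw [hn]; exact Nat.ordProj_dvd _ _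
  have hdvd : p ^ (n + 1) ∣ Nat.card G := by
    rw [← H.index_mul_card, pow_succ']
    exact Nat.mul_dvd_mul hpI hpn
  have h1 := Sylow.prime_dvd_card_quotient_normalizer hdvd hPbc
  have hle : Subgroup.normalizer (Pb : Set G) ≤ Subgroup.normalizer (H : Set G) := by
    intro g hg
    by_contra hgL
    obtain ⟨x, hx, hx1⟩ : ∃ x ∈ Pb, x ≠ 1 := by
      by_contra hall
      push Not at hall
      have hbot : Pb = ⊥ := (Subgroup.eq_bot_iff_forall _).mpr hall
      rw [hbot, Subgroup.card_bot] at hPbc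
      have h2 : 1 < p ^ n := Nat.one_lt_pow (by omega) hp.one_lt
      omega
    have hx' : g * x * g⁻¹ ∈ Pb := (Subgroup.mem_normalizer_iff.mp hg x).mp hx
    exact hx1 (hTI g hgL x (hPbH hx) (hPbH hx'))
  have h2 : p ^ (n + 1) ∣ Nat.card (Subgroup.normalizer (Pb : Set G)) := by
    have h3 : (Pb.subgroupOf (Subgroup.normalizer (Pb : Set G))).index *
        Nat.card (Pb.subgroupOf (Subgroup.normalizer (Pb : Set G))) =
        Nat.card (Subgroup.normalizer (Pb : Set G)) := Subgroup.index_mul_card _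
    have h4 : Nat.card (Pb.subgroupOf (Subgroup.normalizer (Pb : Set G))) = p ^ n := by
      rw [Nat.card_congr (Subgroup.subgroupOfEquivOfLe Subgroup.le_normalizer).toEquiv, hPbc]
    have h1' : p ∣ (Pb.subgroupOf (Subgroup.normalizer (Pb : Set G))).index := h1
    rw [← h3, h4, pow_succ']
    exact Nat.mul_dvd_mul h1' (dvd_refl _)
  have h5 : p ^ (n + 1) ∣
      (H.subgroupOf (Subgroup.normalizer (H : Set G))).index * Nat.card H := by
    have h6 : (H.subgroupOf (Subgroup.normalizer (H : Set G))).index *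
        Nat.card (H.subgroupOf (Subgroup.normalizer (H : Set G))) =
        Nat.card (Subgroup.normalizer (H : Set G)) := Subgroup.index_mul_card _
    rw [Nat.card_congr (Subgroup.subgroupOfEquivOfLe Subgroup.le_normalizer).toEquiv] at h6
    rw [h6]
    exact h2.trans (Subgroup.card_dvd_of_le hle)
  have h7 : (p ^ (n + 1)).Coprime (H.subgroupOf (Subgroup.normalizer (H : Set G))).index :=
    Nat.Coprime.pow_left _ (Nat.Coprime.coprime_dvd_left hpH hHall)
  have h8 : p ^ (n + 1) ∣ Nat.card H := h7.dvd_of_dvd_mul_left h5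
  rw [hn] at h8
  exact Nat.pow_succ_factorization_not_dvd Nat.card_pos.ne' hp h8

theorem fwd {G : Type u} [Group G] [Finite G] (H : Subgroup G)
    (hTI : Cfsg.IsTISubset (H : Set G))
    (hHall : (Nat.card H).Coprime (H.subgroupOf (Subgroup.normalizer (H : Set G))).index)
    (K : Subgroup (Subgroup.normalizer (H : Set G))) (hKn : K.Normal)
    (hc : K.IsComplement' (H.subgroupOf (Subgroup.normalizer (H : Set G)))) :
    ∃ N : Subgroup G, N.Normal ∧ N.IsComplement' H := by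
  haveI := hKn
  have hti := tiL H (Subgroup.normalizer (H : Set G)) Subgroup.le_normalizer
    Subgroup.normal_in_normalizer hTI hHall K hKn hc
  obtain ⟨N, hNn, hNL, hNbig⟩ := Cfsg.Agent.Helper3.Wielandt.wielandt _ K hti
  have hcount := Cfsg.Agent.Helper3.Wielandt.count _ K N hNbig
  have hKidx : K.index = Nat.card H := by
    rw [hc.symm.index_eq_card]
    exact Nat.card_congr (Subgroup.subgroupOfEquivOfLe Subgroup.le_normalizer).toEquiv
  rw [hKidx] at hcount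
  have hdisj : Disjoint N H := by
    rw [Subgroup.disjoint_def]
    intro x hxN hxH
    have hxL : x ∈ Subgroup.normalizer (H : Set G) := Subgroup.le_normalizer hxH
    have h1 : (⟨x, hxL⟩ : Subgroup.normalizer (H : Set G)) ∈ K := (hNL ⟨x, hxL⟩).mp hxN
    have h2 : (⟨x, hxL⟩ : Subgroup.normalizer (H : Set G)) ∈
        H.subgroupOf (Subgroup.normalizer (H : Set G)) := hxH
    have h3 := Subgroup.disjoint_def.mp hc.disjoint h1 h2
    exact congrArg Subtype.val h3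
  refine ⟨N, hNn, Subgroup.isComplement'_of_card_mul_and_disjoint ?_ hdisj⟩
  exact le_antisymm (Cfsg.Agent.Helper3.Wielandt.card_mul_le N H hdisj) hcount

theorem bwd {G : Type u} [Group G] (H : Subgroup G) (N : Subgroup G) (hNn : N.Normal)
    (hNH : N.IsComplement' H) :
    ∃ K : Subgroup (Subgroup.normalizer (H : Set G)), K.Normal ∧
      K.IsComplement' (H.subgroupOf (Subgroup.normalizer (H : Set G))) := by
  refine ⟨N.subgroupOf _, hNn.subgroupOf _,
    Subgroup.isComplement'_of_disjoint_and_mul_eq_univ ?_ ?_⟩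
  · rw [Subgroup.disjoint_def]
    intro y hyN hyH
    have h1 : (y : G) = 1 := Subgroup.disjoint_def.mp hNH.disjoint hyN hyH
    exact Subtype.ext h1
  · apply Set.eq_univ_of_forall
    intro y
    obtain ⟨⟨n, h⟩, e⟩ := hNH.2 (y : G)
    have e' : (n : G) * (h : G) = (y : G) := e
    have hhH : (h : G) ∈ H := h.2
    have hnN : (n : G) ∈ N := n.2
    have hhL : (h : G) ∈ Subgroup.normalizer (H : Set G) := Subgroup.le_normalizer hhH
    have hnL : (n : G) ∈ Subgroup.normalizer (H : Set G) := by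
      have e2 : (n : G) = (y : G) * (h : G)⁻¹ := by rw [← e']; group
      rw [e2]
      exact Subgroup.mul_mem _ y.2 (Subgroup.inv_mem _ hhL)
    exact Set.mem_mul.mpr ⟨⟨(n : G), hnL⟩, hnN, ⟨(h : G), hhL⟩, hhH, Subtype.ext e'⟩

theorem frobQuot {T : Type u} [Group T] [Finite T] (Z M C₀ : Subgroup T) [hZ : Z.Normal]
    [hM : M.Normal] (hMZ : ¬ M ≤ Z) (hsup : M ⊔ C₀ = ⊤) (hC1 : C₀ ≠ ⊥)
    (hCZ : ∀ c ∈ C₀, c ∈ Z → c = 1)
    (hfpf : ∀ c ∈ C₀, c ≠ 1 → ∀ m ∈ M, (c * m)⁻¹ * (m * c) ∈ Z → m ∈ Z) :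
    ∃ C : Subgroup (T ⧸ Z), Cfsg.IsFrobeniusComplement C ∧ Nonempty (C₀ ≃* C) := by
  obtain ⟨f, hf⟩ : ∃ f : C₀ →* T ⧸ Z, f = (QuotientGroup.mk' Z).comp C₀.subtype := ⟨_, rfl⟩
  have hfa : ∀ c : C₀, f c = QuotientGroup.mk' Z (c : T) := fun c => by rw [hf]; rfl
  have hfinj : Function.Injective f := by
    rw [injective_iff_map_eq_one]
    intro c hc
    rw [hfa] at hc
    have h1 : (c : T) ∈ Z := (QuotientGroup.eq_one_iff _).mp hc
    exact Subtype.ext (hCZ _ c.2 h1)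
  refine ⟨f.range, ?_, ⟨MonoidHom.ofInjective hfinj⟩⟩
  haveI hMn : (M.map (QuotientGroup.mk' Z)).Normal :=
    Subgroup.Normal.map hM _ (QuotientGroup.mk'_surjective Z)
  refine (Cfsg.Agent.S3857.frob_crit (M.map (QuotientGroup.mk' Z)) f.range ?_ ?_ ?_ ?_).1
  · intro x
    obtain ⟨t, rfl⟩ := QuotientGroup.mk'_surjective Z x
    have ht : t ∈ M ⊔ C₀ := by rw [hsup]; exact Subgroup.mem_top t
    have ht' : t ∈ ((M ⊔ C₀ : Subgroup T) : Set T) := ht
    rw [Subgroup.normal_mul] at ht'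
    obtain ⟨m, hm, c, hc, rfl⟩ := Set.mem_mul.mp ht'
    exact ⟨QuotientGroup.mk' Z m, Subgroup.mem_map_of_mem _ hm, QuotientGroup.mk' Z c,
      ⟨⟨c, hc⟩, hfa _⟩, map_mul _ _ _⟩
  · intro hbot
    apply hMZ
    intro m hm
    have h1 : QuotientGroup.mk' Z m ∈ M.map (QuotientGroup.mk' Z) :=
      Subgroup.mem_map_of_mem _ hm
    rw [hbot, Subgroup.mem_bot] at h1
    exact (QuotientGroup.eq_one_iff _).mp h1
  · intro hbot
    apply hC1
    rw [Subgroup.eq_bot_iff_forall]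
    intro c hc
    have h1 : f ⟨c, hc⟩ ∈ f.range := ⟨_, rfl⟩
    rw [hbot, Subgroup.mem_bot] at h1
    have h2 := hfinj (h1.trans (map_one f).symm)
    exact congrArg Subtype.val h2
  · rintro _ ⟨c, rfl⟩ hc1 _ ⟨m, hm, rfl⟩ hcomm
    have hc1' : (c : T) ≠ 1 := by
      intro h
      apply hc1
      have h0 : c = 1 := Subtype.ext h
      rw [h0, map_one]
    rw [hfa] at hcomm
    have h1 : (((c : T) * m : T) : T ⧸ Z) = ((m * (c : T) : T) : T ⧸ Z) := by
      show (QuotientGroup.mk' Z) ((c : T) * m) = (QuotientGroup.mk' Z) (m * (c : T))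
      rw [map_mul, map_mul]; exact hcomm
    have h2 : ((c : T) * m)⁻¹ * (m * (c : T)) ∈ Z := QuotientGroup.eq.mp h1
    have h3 := hfpf _ c.2 hc1' m hm h2
    exact (QuotientGroup.eq_one_iff _).mpr h3

theorem comm_of_pow {G : Type u} [Group G] (h x z : G) (hz : z = (h * x)⁻¹ * (x * h))
    (hhz : h * z = z * h) (hcop : (orderOf h).Coprime (orderOf z)) : x * h = h * x := by
  obtain ⟨φ, hφ⟩ : ∃ φ : MulAut G, φ = MulAut.conj h⁻¹ := ⟨_, rfl⟩
  have hφx : φ x = x * z := by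
    rw [hφ, MulAut.conj_apply, inv_inv, hz]; group
  have hφz : φ z = z := by
    rw [hφ, MulAut.conj_apply, inv_inv]
    calc h⁻¹ * z * h = h⁻¹ * (z * h) := by group
      _ = h⁻¹ * (h * z) := by rw [hhz]
      _ = z := by group
  have key : ∀ n : ℕ, (φ ^ n) x = x * z ^ n := by
    intro n
    induction n with
    | zero => simp
    | succ n ih =>
      rw [pow_succ', MulAut.mul_apply, ih, map_mul, map_pow, hφx, hφz, pow_succ', mul_assoc]
  have h1 : φ ^ orderOf h = 1 := by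
    rw [hφ, ← map_pow, inv_pow, pow_orderOf_eq_one, inv_one, map_one]
  have h2 := key (orderOf h)
  rw [h1, MulAut.one_apply] at h2
  have h3 : z ^ orderOf h = 1 := by
    have h0 : x * 1 = x * z ^ orderOf h := by rw [mul_one]; exact h2
    exact (mul_left_cancel h0).symm
  have h4 : orderOf z ∣ orderOf h := orderOf_dvd_of_pow_eq_one h3
  have h5 : orderOf z = 1 := Nat.eq_one_of_dvd_coprimes hcop h4 (dvd_refl _)
  have h6 : z = 1 := orderOf_eq_one_iff.mp h5
  rw [hz] at h6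
  exact (inv_mul_eq_one.mp h6).symm

theorem part3 {G : Type u} [Group G] [Finite G] (H : Subgroup G)
    (hTI : Cfsg.IsTISubset (H : Set G)) (hHallG : (Nat.card H).Coprime H.index)
    (N : Subgroup G) (hNn : N.Normal) (hNH : N.IsComplement' H) (hnn : ¬ H.Normal) :
    ∃ (F : Type u) (_ : Group F) (_ : Finite F) (C : Subgroup F),
      Cfsg.IsFrobeniusComplement C ∧ Nonempty (H ≃* C) := by
  classical
  haveI := hNn
  obtain ⟨L, hL⟩ : ∃ L : Subgroup G, L = Subgroup.normalizer (H : Set G) := ⟨_, rfl⟩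
  have hHL : H ≤ L := by rw [hL]; exact Subgroup.le_normalizer
  have hLmem : ∀ g : G, g ∈ L ↔ ∀ h, h ∈ H ↔ g * h * g⁻¹ ∈ H := by
    intro g; rw [hL]; exact Subgroup.mem_normalizer_iff
  have hTI' : ∀ g : G, g ∉ L → ∀ x ∈ H, g * x * g⁻¹ ∈ H → x = 1 := by
    rw [hL]; exact hTI
  have hNcard : H.index = Nat.card N := hNH.index_eq_card
  have hHcard : N.index = Nat.card H := hNH.symm.index_eq_card
  have hcop : (Nat.card H).Coprime (Nat.card N) := by rw [← hNcard]; exact hHallG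
  have hdisj : ∀ x, x ∈ N → x ∈ H → x = 1 := fun x hxN hxH =>
    Subgroup.disjoint_def.mp hNH.disjoint hxN hxH
  have c1 : ∀ k ∈ N, k ∈ L → ∀ h ∈ H, k * h = h * k := by
    intro k hkN hkL h hh
    have h1 : k * h * k⁻¹ * h⁻¹ ∈ N := by
      have e : k * h * k⁻¹ * h⁻¹ = k * (h * k⁻¹ * h⁻¹) := by group
      rw [e]
      exact N.mul_mem hkN (hNn.conj_mem _ (N.inv_mem hkN) h)
    have h2 : k * h * k⁻¹ * h⁻¹ ∈ H :=
      H.mul_mem (((hLmem k).mp hkL h).mp hh) (H.inv_mem hh)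
    have h3 := hdisj _ h1 h2
    calc k * h = (k * h * k⁻¹ * h⁻¹) * (h * k) := by group
      _ = h * k := by rw [h3, one_mul]
  have c2 : ∀ h ∈ H, h ≠ 1 → ∀ n : G, n * h = h * n → n ∈ L := by
    intro h hh h1 n hn
    by_contra hnL
    apply h1
    apply hTI' n hnL h hh
    have e : n * h * n⁻¹ = h := by rw [hn]; group
    rw [e]; exact hh
  have c3 : ¬ N ≤ L := by
    intro hNL
    apply hnn
    rw [← Subgroup.normalizer_eq_top_iff, ← hL, eq_top_iff]
    intro g _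
    obtain ⟨⟨n, h⟩, e⟩ := hNH.2 g
    have e' : (n : G) * (h : G) = g := e
    have hnN : (n : G) ∈ N := n.2
    have hhH : (h : G) ∈ H := h.2
    rw [← e']
    exact L.mul_mem (hNL hnN) (hHL hhH)
  have hidx : (L.subgroupOf N).index ≠ 1 := by
    intro h1
    apply c3
    rw [Subgroup.index_eq_one] at h1
    intro n hn
    have h2 : (⟨n, hn⟩ : N) ∈ L.subgroupOf N := by rw [h1]; exact Subgroup.mem_top _
    exact h2
  obtain ⟨q, hq, hqd⟩ := Nat.exists_prime_and_dvd hidx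
  haveI : Fact q.Prime := ⟨hq⟩
  obtain ⟨Q⟩ : Nonempty (Sylow q N) := inferInstance
  obtain ⟨v, hv⟩ : ∃ v, v = (Nat.card N).factorization q := ⟨_, rfl⟩
  obtain ⟨Qb, hQb⟩ : ∃ Qb : Subgroup G, Qb = (Q : Subgroup N).map N.subtype := ⟨_, rfl⟩
  have hQbN : Qb ≤ N := by rw [hQb]; exact Subgroup.map_subtype_le _
  have hQbc : Nat.card Qb = q ^ v := by
    rw [hQb, Subgroup.card_map_of_injective N.subtype_injective, hv]
    exact Q.card_eq_multiplicity
  have hQbp : IsPGroup q Qb := by rw [hQb]; exact Q.isPGroup'.map _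
  have hfrat : Subgroup.normalizer (Qb : Set G) ⊔ N = ⊤ := by
    rw [hQb]; exact Sylow.normalizer_sup_eq_top Q
  obtain ⟨R, hR⟩ : ∃ R : Subgroup G, R = Subgroup.normalizer (Qb : Set G) := ⟨_, rfl⟩
  rw [← hR] at hfrat
  haveI hNRn : (N.subgroupOf R).Normal := hNn.subgroupOf R
  have hNRidx : (N.subgroupOf R).index = Nat.card H := by
    have h1 : N.relIndex (N ⊔ R) = N.relIndex R := Subgroup.relIndex_sup_left R N
    rw [sup_comm, hfrat, Subgroup.relIndex_top_right, hHcard] at h1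
    exact h1.symm
  have hNRcard : Nat.card (N.subgroupOf R) ∣ Nat.card N := by
    rw [← Subgroup.inf_subgroupOf_right N R,
      Nat.card_congr (Subgroup.subgroupOfEquivOfLe (inf_le_right : N ⊓ R ≤ R)).toEquiv]
    exact Subgroup.card_dvd_of_le inf_le_left
  have hSZ : (Nat.card (N.subgroupOf R)).Coprime (N.subgroupOf R).index := by
    rw [hNRidx]
    exact Nat.Coprime.coprime_dvd_left hNRcard hcop.symm
  obtain ⟨H₁, hH₁⟩ := Subgroup.exists_right_complement'_of_coprime hSZ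
  have hH₁card : Nat.card H₁ = Nat.card H := by
    rw [← hH₁.symm.index_eq_card, hNRidx]
  obtain ⟨H₁G, hH₁G⟩ : ∃ H₁G : Subgroup G, H₁G = H₁.map R.subtype := ⟨_, rfl⟩
  have hH₁Gc : Nat.card H₁G = Nat.card H := by
    rw [hH₁G, Subgroup.card_map_of_injective R.subtype_injective, hH₁card]
  have hH₁GR : H₁G ≤ R := by rw [hH₁G]; exact Subgroup.map_subtype_le _
  obtain ⟨g, hg⟩ := Cfsg.Agent.S4116.result H hHallG hTI H₁G
    (fun p _ hpd => by rw [hH₁Gc] at hpd; exact hpd)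
  have hgeq : H₁G = H.map (MulAut.conj g).toMonoidHom := by
    apply Subgroup.eq_of_le_of_card_ge hg
    rw [hH₁Gc, Subgroup.card_map_of_injective (MulAut.conj g).injective]
  have hgH : ∀ h ∈ H, g * h * g⁻¹ ∈ R := by
    intro h hh
    apply hH₁GR
    rw [hgeq]
    exact ⟨h, hh, rfl⟩
  obtain ⟨Q', hQ'⟩ : ∃ Q' : Subgroup G, Q' = Qb.map (MulAut.conj g⁻¹).toMonoidHom := ⟨_, rfl⟩
  have hQ'mem : ∀ x : G, x ∈ Q' ↔ g * x * g⁻¹ ∈ Qb := by
    intro x
    rw [hQ', Cfsg.Agent.S4116.mem_map_conj, inv_inv]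
  have hQ'c : Nat.card Q' = q ^ v := by
    rw [hQ', Subgroup.card_map_of_injective (MulAut.conj g⁻¹).injective, hQbc]
  have hQ'p : IsPGroup q Q' := by rw [hQ']; exact hQbp.map _
  have hQ'N : Q' ≤ N := by
    intro x hx
    have h1 : g * x * g⁻¹ ∈ N := hQbN ((hQ'mem x).mp hx)
    have h2 := hNn.conj_mem _ h1 g⁻¹
    have e : g⁻¹ * (g * x * g⁻¹) * g⁻¹⁻¹ = x := by group
    rw [e] at h2; exact h2
  have hQ'H : ∀ h ∈ H, ∀ x ∈ Q', h * x * h⁻¹ ∈ Q' := by
    intro h hh x hx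
    rw [hQ'mem]
    have h1 : g * h * g⁻¹ ∈ Subgroup.normalizer (Qb : Set G) := by rw [← hR]; exact hgH h hh
    have h2 := (Subgroup.mem_normalizer_iff.mp h1 (g * x * g⁻¹)).mp ((hQ'mem x).mp hx)
    have e : g * h * g⁻¹ * (g * x * g⁻¹) * (g * h * g⁻¹)⁻¹ = g * (h * x * h⁻¹) * g⁻¹ := by group
    rw [e] at h2; exact h2
  have hQ'L : ¬ Q' ≤ L := by
    intro hle
    have h1 : Q'.subgroupOf N ≤ L.subgroupOf N := fun x hx => hle hx
    have h2 : Nat.card (Q'.subgroupOf N) = q ^ v := by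
      rw [Nat.card_congr (Subgroup.subgroupOfEquivOfLe hQ'N).toEquiv, hQ'c]
    have h3 : q ^ v ∣ Nat.card (L.subgroupOf N) := by
      rw [← h2]; exact Subgroup.card_dvd_of_le h1
    have h4 : (L.subgroupOf N).index * Nat.card (L.subgroupOf N) = Nat.card N :=
      Subgroup.index_mul_card _
    have h5 : q * q ^ v ∣ (L.subgroupOf N).index * Nat.card (L.subgroupOf N) :=
      Nat.mul_dvd_mul hqd h3
    rw [h4, ← pow_succ', hv] at h5
    exact Nat.pow_succ_factorization_not_dvd Nat.card_pos.ne' hq h5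
  obtain ⟨Q₀, hQ₀⟩ : ∃ Q₀ : Subgroup G, Q₀ = Q' ⊓ L := ⟨_, rfl⟩
  have hQ₀mem : ∀ x, x ∈ Q₀ ↔ x ∈ Q' ∧ x ∈ L := by intro x; rw [hQ₀]; exact Subgroup.mem_inf
  have hQ₀H : ∀ h ∈ H, ∀ y ∈ Q₀, y * h = h * y := fun h hh y hy =>
    c1 y (hQ'N ((hQ₀mem y).mp hy).1) ((hQ₀mem y).mp hy).2 h hh
  haveI hnil : Group.IsNilpotent Q' := hQ'p.isNilpotent
  have hlt : Q₀.subgroupOf Q' < ⊤ := by
    rw [lt_top_iff_ne_top]
    intro htop
    apply hQ'L
    intro x hx
    have h1 : (⟨x, hx⟩ : Q') ∈ Q₀.subgroupOf Q' := by rw [htop]; exact Subgroup.mem_top _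
    have h2 : x ∈ Q₀ := h1
    exact ((hQ₀mem x).mp h2).2
  have hnc := Group.normalizerCondition_of_isNilpotent (G := Q') (Q₀.subgroupOf Q') hlt
  obtain ⟨x₀, hx₀n, hx₀⟩ := SetLike.exists_of_lt hnc
  have hx₀Q' : (x₀ : G) ∈ Q' := x₀.2
  have hx₀L : (x₀ : G) ∉ L := by
    intro h
    apply hx₀
    have h1 : (x₀ : G) ∈ Q₀ := (hQ₀mem _).mpr ⟨hx₀Q', h⟩
    exact h1
  have hx₀norm : (x₀ : G) ∈ Subgroup.normalizer (Q₀ : Set G) := by
    rw [Subgroup.mem_normalizer_iff]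
    intro y
    have hn := Subgroup.mem_normalizer_iff.mp hx₀n
    constructor
    · intro hy
      have hyQ' : y ∈ Q' := ((hQ₀mem y).mp hy).1
      have h1 : (⟨y, hyQ'⟩ : Q') ∈ Q₀.subgroupOf Q' := hy
      have h2 := (hn ⟨y, hyQ'⟩).mp h1
      exact h2
    · intro hy
      have hyQ' : y ∈ Q' := by
        have h1 : (x₀ : G) * y * (x₀ : G)⁻¹ ∈ Q' := ((hQ₀mem _).mp hy).1
        have h2 := Q'.mul_mem (Q'.mul_mem (Q'.inv_mem hx₀Q') h1) hx₀Q'
        have e : (x₀ : G)⁻¹ * ((x₀ : G) * y * (x₀ : G)⁻¹) * (x₀ : G) = y := by group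
        rw [e] at h2; exact h2
      have h1 : x₀ * (⟨y, hyQ'⟩ : Q') * x₀⁻¹ ∈ Q₀.subgroupOf Q' := hy
      have h2 := (hn ⟨y, hyQ'⟩).mpr h1
      exact h2
  obtain ⟨Q₁, hQ₁⟩ : ∃ Q₁ : Subgroup G, Q₁ = Q' ⊓ Subgroup.normalizer (Q₀ : Set G) :=
    ⟨_, rfl⟩
  have hQ₁mem : ∀ x, x ∈ Q₁ ↔ x ∈ Q' ∧ x ∈ Subgroup.normalizer (Q₀ : Set G) := by
    intro x; rw [hQ₁]; exact Subgroup.mem_inf
  have hHnQ₀ : H ≤ Subgroup.normalizer (Q₀ : Set G) := by
    intro h hh
    rw [Subgroup.mem_normalizer_iff]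
    intro y
    constructor
    · intro hy
      have e : h * y * h⁻¹ = y := by rw [← hQ₀H h hh y hy]; group
      rw [e]; exact hy
    · intro hy
      have e1 := hQ₀H h⁻¹ (H.inv_mem hh) _ hy
      have e : h * y * h⁻¹ = y := by
        calc h * y * h⁻¹ = (h * y * h⁻¹ * h⁻¹) * h := by group
          _ = (h⁻¹ * (h * y * h⁻¹)) * h := by rw [e1]
          _ = y := by group
      rw [← e]; exact hy
  have hHnQ₁ : H ≤ Subgroup.normalizer (Q₁ : Set G) := by
    have key : ∀ h ∈ H, ∀ y ∈ Q₁, h * y * h⁻¹ ∈ Q₁ := by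
      intro h hh y hy
      rw [hQ₁mem] at hy ⊢
      refine ⟨hQ'H h hh y hy.1, ?_⟩
      exact Subgroup.mul_mem _ (Subgroup.mul_mem _ (hHnQ₀ hh) hy.2)
        (Subgroup.inv_mem _ (hHnQ₀ hh))
    intro h hh
    rw [Subgroup.mem_normalizer_iff]
    intro y
    constructor
    · exact key h hh y
    · intro hy
      have h1 := key h⁻¹ (H.inv_mem hh) _ hy
      have e : h⁻¹ * (h * y * h⁻¹) * h⁻¹⁻¹ = y := by group
      rw [e] at h1; exact h1
  obtain ⟨T, hT⟩ : ∃ T : Subgroup G, T = Q₁ ⊔ H := ⟨_, rfl⟩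
  have hQ₁T : Q₁ ≤ T := by rw [hT]; exact le_sup_left
  have hHT : H ≤ T := by rw [hT]; exact le_sup_right
  have hTnQ₀ : T ≤ Subgroup.normalizer (Q₀ : Set G) := by
    rw [hT]; exact sup_le (fun y hy => ((hQ₁mem y).mp hy).2) hHnQ₀
  have hTnQ₁ : T ≤ Subgroup.normalizer (Q₁ : Set G) := by
    rw [hT]; exact sup_le Subgroup.le_normalizer hHnQ₁
  haveI hZn : (Q₀.subgroupOf T).Normal := Subgroup.normal_subgroupOf_of_le_normalizer hTnQ₀
  haveI hMn : (Q₁.subgroupOf T).Normal := Subgroup.normal_subgroupOf_of_le_normalizer hTnQ₁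
  have hsup : Q₁.subgroupOf T ⊔ H.subgroupOf T = ⊤ := by
    rw [← Subgroup.subgroupOf_sup hQ₁T hHT, ← hT, Subgroup.subgroupOf_self]
  have hx₀Q₁ : (x₀ : G) ∈ Q₁ := (hQ₁mem _).mpr ⟨hx₀Q', hx₀norm⟩
  have hMZ : ¬ Q₁.subgroupOf T ≤ Q₀.subgroupOf T := by
    intro hle
    have h1 : (⟨(x₀ : G), hQ₁T hx₀Q₁⟩ : T) ∈ Q₁.subgroupOf T := hx₀Q₁
    have h2 : (⟨(x₀ : G), hQ₁T hx₀Q₁⟩ : T) ∈ Q₀.subgroupOf T := hle h1
    have h3 : (x₀ : G) ∈ Q₀ := h2
    exact hx₀L ((hQ₀mem _).mp h3).2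
  have hH1 : H ≠ ⊥ := by
    intro hbot
    apply hnn
    rw [hbot]
    exact Subgroup.normal_bot
  have hC1 : H.subgroupOf T ≠ ⊥ := by
    intro hbot
    apply hH1
    rw [Subgroup.eq_bot_iff_forall]
    intro h hh
    have h1 : (⟨h, hHT hh⟩ : T) ∈ H.subgroupOf T := hh
    rw [hbot, Subgroup.mem_bot] at h1
    exact congrArg Subtype.val h1
  have hCZ : ∀ c ∈ H.subgroupOf T, c ∈ Q₀.subgroupOf T → c = 1 := by
    intro c hc hcZ
    have hcH : (c : G) ∈ H := hc
    have hcZ' : (c : G) ∈ Q₀ := hcZ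
    apply Subtype.ext
    exact hdisj _ (hQ'N ((hQ₀mem _).mp hcZ').1) hcH
  have hfpf : ∀ c ∈ H.subgroupOf T, c ≠ 1 → ∀ m ∈ Q₁.subgroupOf T,
      (c * m)⁻¹ * (m * c) ∈ Q₀.subgroupOf T → m ∈ Q₀.subgroupOf T := by
    intro c hc hc1 m hm hz
    have hcH : (c : G) ∈ H := hc
    have hc1' : (c : G) ≠ 1 := fun h => hc1 (Subtype.ext h)
    have hm' : (m : G) ∈ Q₁ := hm
    have hmQ' : (m : G) ∈ Q' := ((hQ₁mem _).mp hm').1
    have hzQ₀ : ((c : G) * (m : G))⁻¹ * ((m : G) * (c : G)) ∈ Q₀ := hz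
    have hzN : ((c : G) * (m : G))⁻¹ * ((m : G) * (c : G)) ∈ N :=
      hQ'N ((hQ₀mem _).mp hzQ₀).1
    have hcomm : (m : G) * (c : G) = (c : G) * (m : G) := by
      apply comm_of_pow (c : G) (m : G) _ rfl
      · exact (hQ₀H _ hcH _ hzQ₀).symm
      · exact Nat.Coprime.coprime_dvd_left (Subgroup.orderOf_dvd_natCard H hcH)
          (Nat.Coprime.coprime_dvd_right (Subgroup.orderOf_dvd_natCard N hzN) hcop)
    have hmL : (m : G) ∈ L := c2 _ hcH hc1' _ hcomm
    have h1 : (m : G) ∈ Q₀ := (hQ₀mem _).mpr ⟨hmQ', hmL⟩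
    exact h1
  obtain ⟨C, hC, ⟨e⟩⟩ := frobQuot (Q₀.subgroupOf T) (Q₁.subgroupOf T) (H.subgroupOf T)
    hMZ hsup hC1 hCZ hfpf
  exact ⟨T ⧸ Q₀.subgroupOf T, inferInstance, inferInstance, C, hC,
    ⟨(Subgroup.subgroupOfEquivOfLe hHT).symm.trans e⟩⟩


/-- Let G be a finite group and H a subgroup that meets each of its conjugates by elements outside N_G(H) trivially and whose order is coprime to its index in N_G(H). Then H has a normal complement in N_G(H) if and only if H has a normal complement in G. Moreover, if H is not normal in G and has a normal complement in N_G(H), then H is isomorphic to a Frobenius complement of some finite Frobenius group. -/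
theorem result {G : Type u} [Group G] [Finite G] (H : Subgroup G)
    (hTI : Cfsg.IsTISubset (H : Set G)) (hHall : (Nat.card H).Coprime (H.subgroupOf (Subgroup.normalizer (H : Set G))).index) :
    ((∃ K : Subgroup (Subgroup.normalizer (H : Set G)), K.Normal ∧ K.IsComplement' (H.subgroupOf (Subgroup.normalizer (H : Set G)))) ↔
      (∃ N : Subgroup G, N.Normal ∧ N.IsComplement' H)) ∧
    (¬ H.Normal → (∃ K : Subgroup (Subgroup.normalizer (H : Set G)), K.Normal ∧ K.IsComplement' (H.subgroupOf (Subgroup.normalizer (H : Set G)))) →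
      ∃ (F : Type u) (_ : Group F) (_ : Finite F) (C : Subgroup F), Cfsg.IsFrobeniusComplement C ∧ Nonempty (H ≃* C)) := by
  refine ⟨⟨?_, ?_⟩, ?_⟩
  · rintro ⟨K, hKn, hc⟩
    exact fwd H hTI hHall K hKn hc
  · rintro ⟨N, hNn, hNH⟩
    exact bwd H N hNn hNH
  · intro hnn hK
    obtain ⟨K, hKn, hc⟩ := hK
    obtain ⟨N, hNn, hNH⟩ := fwd H hTI hHall K hKn hc
    exact part3 H hTI (hallG H hTI hHall) N hNn hNH hnn

end Cfsg.Agent.S4115
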