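import Cfsg.Statements.S4134
import Cfsg.Agent.S4314

set_option autoImplicit false
open Cfsg

namespace Cfsg.Agent.S4134

/-- no proper containments among centralizers of noncentral elements -/
def HE (G : Type*) [Group G] : Prop :=
  ∀ w v : G, w ∉ Subgroup.center G → v ∉ Subgroup.center G →
    Subgroup.centralizer ({w} : Set G) ≤ Subgroup.centralizer ({v} : Set G) →
    Subgroup.centralizer ({v} : Set G) = Subgroup.centralizer ({w} : Set G)

theorem pow_central' {G : Type*} [Group G] [Finite G]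
    (hE : HE G) {a b : G}
    (ha : a ∉ Subgroup.center G) (hb : b ∉ Subgroup.center G) (hab : a * b = b * a)
    (hne : Subgroup.centralizer ({a} : Set G) ≠ Subgroup.centralizer ({b} : Set G)) (k : ℕ)
    (hk : a ^ k ∈ Subgroup.center G) : b ^ k ∈ Subgroup.center G := by
  by_contra hbk
  have hc : Commute a b := hab
  have h1 : (a * b) ^ k = a ^ k * b ^ k := hc.mul_pow k
  have habk : (a * b) ^ k ∉ Subgroup.center G := by
    intro h
    apply hbk
    have h2 : b ^ k = (a ^ k)⁻¹ * (a * b) ^ k := by rw [h1]; group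
    rw [h2]; exact (Subgroup.center G).mul_mem ((Subgroup.center G).inv_mem hk) h
  have habZ : a * b ∉ Subgroup.center G := fun h => habk ((Subgroup.center G).pow_mem h k)
  have e1 : Subgroup.centralizer ({b ^ k} : Set G) = Subgroup.centralizer ({b} : Set G) := by
    apply hE _ _ hb hbk
    intro g hg
    rw [Cfsg.Agent.S4314.mem_cent] at hg ⊢
    exact (Commute.pow_left (show Commute b g from hg) k).eq
  have e2 : Subgroup.centralizer ({(a * b) ^ k} : Set G) =
      Subgroup.centralizer ({a * b} : Set G) := by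
    apply hE _ _ habZ habk
    intro g hg
    rw [Cfsg.Agent.S4314.mem_cent] at hg ⊢
    exact (Commute.pow_left (show Commute (a * b) g from hg) k).eq
  have hz : ∀ g : G, g * a ^ k = a ^ k * g := Subgroup.mem_center_iff.mp hk
  have e3 : Subgroup.centralizer ({(a * b) ^ k} : Set G) =
      Subgroup.centralizer ({b ^ k} : Set G) := by
    ext g
    rw [Cfsg.Agent.S4314.mem_cent, Cfsg.Agent.S4314.mem_cent, h1]
    constructor
    · intro h
      have h2 : a ^ k * (b ^ k * g) = a ^ k * (g * b ^ k) := by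
        rw [← mul_assoc, h, ← mul_assoc, hz g, mul_assoc]
      exact mul_left_cancel h2
    · intro h
      rw [mul_assoc, h, ← mul_assoc, ← hz g, mul_assoc]
  have e4 : Subgroup.centralizer ({a * b} : Set G) = Subgroup.centralizer ({b} : Set G) := by
    rw [← e2, e3, e1]
  have e5 : Subgroup.centralizer ({b} : Set G) ≤ Subgroup.centralizer ({a} : Set G) := by
    intro g hg
    have hg' : g ∈ Subgroup.centralizer ({a * b} : Set G) := by rw [e4]; exact hg
    rw [Cfsg.Agent.S4314.mem_cent] at hg hg' ⊢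
    have h2 : a * g * b = g * a * b := by
      rw [mul_assoc, ← hg, ← mul_assoc, hg', mul_assoc]
    exact mul_right_cancel h2
  exact hne (hE _ _ hb ha e5)

theorem same_prime' {G : Type*} [Group G] [Finite G]
    (hE : HE G) {a b : G}
    (ha : a ∉ Subgroup.center G) (hb : b ∉ Subgroup.center G) (hab : a * b = b * a)
    (hne : Subgroup.centralizer ({a} : Set G) ≠ Subgroup.centralizer ({b} : Set G)) :
    ∃ ℓ : ℕ, ℓ.Prime ∧ a ^ ℓ ∈ Subgroup.center G ∧ b ^ ℓ ∈ Subgroup.center G := by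
  classical
  have hex : ∃ k, 0 < k ∧ a ^ k ∈ Subgroup.center G :=
    ⟨orderOf a, orderOf_pos a, by rw [pow_orderOf_eq_one]; exact (Subgroup.center G).one_mem⟩
  obtain ⟨k₀, hk₀⟩ : ∃ k₀, k₀ = Nat.find hex := ⟨_, rfl⟩
  have hk₀s : 0 < k₀ ∧ a ^ k₀ ∈ Subgroup.center G := hk₀ ▸ Nat.find_spec hex
  have hmin : ∀ k, 0 < k → a ^ k ∈ Subgroup.center G → k₀ ≤ k :=
    fun k h1 h2 => hk₀ ▸ Nat.find_min' hex ⟨h1, h2⟩
  have hk1 : k₀ ≠ 1 := by
    intro h
    rw [h, pow_one] at hk₀s
    exact ha hk₀s.2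
  obtain ⟨ℓ, hℓ, k', hk'⟩ : ∃ ℓ, ℓ.Prime ∧ ∃ k', k₀ = ℓ * k' := by
    obtain ⟨ℓ, hℓ, hd⟩ := Nat.exists_prime_and_dvd hk1
    exact ⟨ℓ, hℓ, hd⟩
  have hk'pos : 0 < k' := by
    rcases Nat.eq_zero_or_pos k' with h | h
    · rw [h, mul_zero] at hk'; omega
    · exact h
  by_cases hk'1 : k' = 1
  · rw [hk'1, mul_one] at hk'
    have h1 : a ^ ℓ ∈ Subgroup.center G := hk' ▸ hk₀s.2
    exact ⟨ℓ, hℓ, h1, pow_central' hE ha hb hab hne ℓ h1⟩
  · exfalso
    have hℓ2 := hℓ.two_le
    have hk'2 : 2 ≤ k' := by omega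
    have hk'lt : k' < k₀ := by rw [hk']; nlinarith
    have hbl : b ^ ℓ ∉ Subgroup.center G := by
      intro h
      have h1 := pow_central' hE hb ha hab.symm (Ne.symm hne) ℓ h
      have h2 := hmin ℓ hℓ.pos h1
      rw [hk'] at h2
      nlinarith
    have e1 : Subgroup.centralizer ({b ^ ℓ} : Set G) = Subgroup.centralizer ({b} : Set G) := by
      apply hE _ _ hb hbl
      intro g hg
      rw [Cfsg.Agent.S4314.mem_cent] at hg ⊢
      exact (Commute.pow_left (show Commute b g from hg) ℓ).eq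
    have hbk : b ^ k₀ ∈ Subgroup.center G := pow_central' hE ha hb hab hne k₀ hk₀s.2
    have h3 : (b ^ ℓ) ^ k' ∈ Subgroup.center G := by rw [← pow_mul, ← hk']; exact hbk
    have hcomm : b ^ ℓ * a = a * b ^ ℓ := (Commute.pow_left (show Commute b a from hab.symm) ℓ).eq
    have h4 := pow_central' hE hbl ha hcomm (by rw [e1]; exact Ne.symm hne) k' h3
    have h5 := hmin k' hk'pos h4
    omega

theorem nonab_exp' {G : Type*} [Group G] [Finite G]
    (hE : HE G) {x t m : G}
    (hx : x ∉ Subgroup.center G) (ht : t ∈ Subgroup.centralizer ({x} : Set G))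
    (hm : m ∈ Subgroup.centralizer ({x} : Set G)) (htm : t * m ≠ m * t) :
    ∃ q : ℕ, q.Prime ∧ ∀ u ∈ Subgroup.centralizer ({x} : Set G), u ∉ Subgroup.center G →
      u ^ q ∈ Subgroup.center G := by
  have htZ : t ∉ Subgroup.center G := fun h => htm ((Subgroup.mem_center_iff.mp h m).symm)
  have hxt : x * t = t * x := (Cfsg.Agent.S4314.mem_cent x t).mp ht
  have hne : Subgroup.centralizer ({x} : Set G) ≠ Subgroup.centralizer ({t} : Set G) := by
    intro h
    have h1 : m ∈ Subgroup.centralizer ({t} : Set G) := h ▸ hm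
    exact htm ((Cfsg.Agent.S4314.mem_cent t m).mp h1)
  obtain ⟨q, hq, hxq, htq⟩ := same_prime' hE hx htZ hxt hne
  refine ⟨q, hq, fun u hu huZ => ?_⟩
  by_cases hcu : Subgroup.centralizer ({u} : Set G) = Subgroup.centralizer ({x} : Set G)
  · have hut : u * t = t * u := (Cfsg.Agent.S4314.mem_cent u t).mp (by rw [hcu]; exact ht)
    obtain ⟨q', hq', huq', htq'⟩ := same_prime' hE huZ htZ hut (by rw [hcu]; exact hne)
    have h1 := Cfsg.Agent.S4314.prime_unique hq hq' htZ htq htq'
    rw [h1]; exact huq'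
  · have hxu : x * u = u * x := (Cfsg.Agent.S4314.mem_cent x u).mp hu
    obtain ⟨q', hq', hxq', huq'⟩ := same_prime' hE hx huZ hxu (Ne.symm hcu)
    have h1 := Cfsg.Agent.S4314.prime_unique hq hq' hx hxq hxq'
    rw [h1]; exact huq'

section numth

theorem val_of_mul {q n a b e : ℕ} (hq : q.Prime) (hn : n ≠ 0) (ha : ¬ q ∣ a) (hb : ¬ q ∣ b)
    (h : n * a = q ^ e * b) : n.factorization q = e := by
  have ha0 : a ≠ 0 := fun h0 => ha (h0 ▸ dvd_zero q)
  have hb0 : b ≠ 0 := fun h0 => hb (h0 ▸ dvd_zero q)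
  have h1 : (n * a).factorization q = (q ^ e * b).factorization q := by rw [h]
  rw [Nat.factorization_mul hn ha0, Nat.factorization_mul (pow_ne_zero e hq.ne_zero) hb0,
    Finsupp.add_apply, Finsupp.add_apply, Nat.factorization_eq_zero_of_not_dvd ha,
    Nat.factorization_eq_zero_of_not_dvd hb, hq.factorization_pow, Finsupp.single_eq_same] at h1
  simpa using h1

theorem decomp (n s : ℕ) (hn : n ≠ 0) :
    ∃ n₁, n = s ^ n.factorization s * n₁ ∧ n₁ ≠ 0 ∧
      ∀ p, n₁.factorization p = if p = s then 0 else n.factorization p := by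
  refine ⟨n / s ^ n.factorization s, (Nat.ordProj_mul_ordCompl_eq_self n s).symm,
    (Nat.ordCompl_pos s hn).ne', fun p => ?_⟩
  rw [Nat.factorization_ordCompl]
  by_cases hp : p = s
  · rw [if_pos hp, hp, Finsupp.erase_same]
  · rw [if_neg hp, Finsupp.erase_ne hp]

theorem nt (n m : ℕ) (hn : 1 < n) (hm : 0 < m) (hle : m ≤ n)
    (h1 : ∀ q, q.Prime → q ∣ n → q ∣ m)
    (h2 : ∃ q r, q.Prime ∧ r.Prime ∧ q ≠ r ∧ q ∣ m ∧ r ∣ m)
    (h3 : ∀ q r, q.Prime → r.Prime → q ≠ r → q ∣ n → r ∣ m →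
      q ^ n.factorization q < r ^ m.factorization r) : False := by
  have hn0 : n ≠ 0 := by omega
  have hm0 : m ≠ 0 := by omega
  by_cases hA : ∀ s, s.Prime → s ∣ n → n.factorization s ≤ m.factorization s
  · have hdvd : n ∣ m := by
      rw [← Nat.factorization_le_iff_dvd hn0 hm0]
      intro p
      by_cases hp : p.Prime
      · by_cases hpn : p ∣ n
        · exact hA p hp hpn
        · rw [Nat.factorization_eq_zero_of_not_dvd hpn]; exact Nat.zero_le _
      · rw [Nat.factorization_eq_zero_of_not_prime n hp]; exact Nat.zero_le _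
    have hnm : n = m := le_antisymm (Nat.le_of_dvd hm hdvd) hle
    obtain ⟨q, r, hq, hr, hqr, hqm, hrm⟩ := h2
    have e1 := h3 q r hq hr hqr (hnm ▸ hqm) hrm
    have e2 := h3 r q hr hq (Ne.symm hqr) (hnm ▸ hrm) hqm
    rw [hnm] at e1 e2
    omega
  · push Not at hA
    obtain ⟨s, hs, hsn, hlt⟩ := hA
    have hsm : s ∣ m := h1 s hs hsn
    have hother : ∀ t, t.Prime → t ≠ s → t ∣ n → n.factorization t < m.factorization t := by
      intro t ht hts htn
      have e1 := h3 t s ht hs hts htn hsm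
      have e2 := h3 s t hs ht (Ne.symm hts) hsn (h1 t ht htn)
      have e3 : s ^ m.factorization s < s ^ n.factorization s :=
        Nat.pow_lt_pow_right hs.one_lt hlt
      have e4 : t ^ n.factorization t < t ^ m.factorization t := by omega
      exact (Nat.pow_lt_pow_iff_right ht.one_lt).1 e4
    obtain ⟨t₀, ht₀, hts, ht₀m⟩ : ∃ t₀, t₀.Prime ∧ t₀ ≠ s ∧ t₀ ∣ m := by
      obtain ⟨q, r, hq, hr, hqr, hqm, hrm⟩ := h2
      by_cases hqs : q = s
      · exact ⟨r, hr, fun h => hqr (hqs.trans h.symm), hrm⟩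
      · exact ⟨q, hq, hqs, hqm⟩
    have hdpos : 0 < m.factorization t₀ := ht₀.factorization_pos_of_dvd hm0 ht₀m
    have hbpos : 0 < m.factorization s := hs.factorization_pos_of_dvd hm0 hsm
    have e5 : s ^ n.factorization s < t₀ ^ m.factorization t₀ :=
      h3 s t₀ hs ht₀ (Ne.symm hts) hsn ht₀m
    have e6 : t₀ ^ n.factorization t₀ < s ^ m.factorization s := by
      by_cases ht₀n : t₀ ∣ n
      · exact h3 t₀ s ht₀ hs hts ht₀n hsm
      · rw [Nat.factorization_eq_zero_of_not_dvd ht₀n, pow_zero]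
        exact Nat.one_lt_pow hbpos.ne' hs.one_lt
    obtain ⟨n₁, hn₁, hn₁0, hn₁f⟩ := decomp n s hn0
    obtain ⟨n₂, hn₂, hn₂0, hn₂f⟩ := decomp n₁ t₀ hn₁0
    obtain ⟨m₁, hm₁, hm₁0, hm₁f⟩ := decomp m s hm0
    obtain ⟨m₂, hm₂, hm₂0, hm₂f⟩ := decomp m₁ t₀ hm₁0
    have hn₁t : n₁.factorization t₀ = n.factorization t₀ := by rw [hn₁f, if_neg hts]
    have hm₁t : m₁.factorization t₀ = m.factorization t₀ := by rw [hm₁f, if_neg hts]
    rw [hn₁t] at hn₂
    rw [hm₁t] at hm₂
    have hdvd : n₂ ∣ m₂ := by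
      rw [← Nat.factorization_le_iff_dvd hn₂0 hm₂0]
      intro p
      rw [hn₂f, hm₂f]
      by_cases hpt : p = t₀
      · rw [if_pos hpt, if_pos hpt]
      · rw [if_neg hpt, if_neg hpt, hn₁f, hm₁f]
        by_cases hps : p = s
        · rw [if_pos hps, if_pos hps]
        · rw [if_neg hps, if_neg hps]
          by_cases hp : p.Prime
          · by_cases hpn : p ∣ n
            · exact (hother p hp hps hpn).le
            · rw [Nat.factorization_eq_zero_of_not_dvd hpn]; exact Nat.zero_le _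
          · rw [Nat.factorization_eq_zero_of_not_prime n hp]; exact Nat.zero_le _
    have hle2 : n₂ ≤ m₂ := Nat.le_of_dvd (Nat.pos_of_ne_zero hm₂0) hdvd
    have hn₂pos : 0 < n₂ := Nat.pos_of_ne_zero hn₂0
    have hnn : n = s ^ n.factorization s * (t₀ ^ n.factorization t₀ * n₂) := by
      rw [← hn₂]; exact hn₁
    have hmm : m = s ^ m.factorization s * (t₀ ^ m.factorization t₀ * m₂) := by
      rw [← hm₂]; exact hm₁
    have hfin : n < m := by
      rw [hnn, hmm]
      calc s ^ n.factorization s * (t₀ ^ n.factorization t₀ * n₂)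
          = (s ^ n.factorization s * t₀ ^ n.factorization t₀) * n₂ := by ring
        _ < (t₀ ^ m.factorization t₀ * s ^ m.factorization s) * n₂ :=
            Nat.mul_lt_mul_of_pos_right (Nat.mul_lt_mul'' e5 e6) hn₂pos
        _ ≤ (t₀ ^ m.factorization t₀ * s ^ m.factorization s) * m₂ :=
            Nat.mul_le_mul_left _ hle2
        _ = s ^ m.factorization s * (t₀ ^ m.factorization t₀ * m₂) := by ring
    omega

end numth

section grp

variable {G : Type*} [Group G]

theorem relIndex_sup_norm (H K : Subgroup G) (h : H ≤ Subgroup.normalizer (K : Set G)) :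
    K.relIndex (H ⊔ K) = K.relIndex H := by
  haveI := Subgroup.normal_subgroupOf_of_le_normalizer h
  haveI := Subgroup.normal_subgroupOf_sup_of_le_normalizer h
  exact (Nat.card_congr (QuotientGroup.quotientInfEquivProdNormalizerQuotient H K h).toEquiv).symm

/-- the `t`-torsion of a commutative subgroup -/
def torsIn (C : Subgroup G) (hC : ∀ a ∈ C, ∀ b ∈ C, a * b = b * a) (t : ℕ) : Subgroup G where
  carrier := {c | c ∈ C ∧ c ^ t = 1}
  one_mem' := ⟨C.one_mem, one_pow t⟩
  mul_mem' := by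
    rintro a b ⟨ha, hat⟩ ⟨hb, hbt⟩
    refine ⟨C.mul_mem ha hb, ?_⟩
    rw [(show Commute a b from hC a ha b hb).mul_pow, hat, hbt, one_mul]
  inv_mem' := by
    rintro a ⟨ha, hat⟩
    exact ⟨C.inv_mem ha, by rw [inv_pow, hat, inv_one]⟩

theorem mem_torsIn {C : Subgroup G} {hC : ∀ a ∈ C, ∀ b ∈ C, a * b = b * a} {t : ℕ} {c : G} :
    c ∈ torsIn C hC t ↔ c ∈ C ∧ c ^ t = 1 := Iff.rfl

theorem pow_relIndex_mem {Z K : Subgroup G} [Z.Normal] {c : G} (hc : c ∈ K) :
    c ^ Z.relIndex K ∈ Z := by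
  have h1 := Subgroup.pow_index_mem (Z.subgroupOf K) (⟨c, hc⟩ : K)
  rw [Subgroup.mem_subgroupOf] at h1
  exact h1

theorem self_mem_cent (w : G) : w ∈ Subgroup.centralizer ({w} : Set G) :=
  (Cfsg.Agent.S4314.mem_cent w w).2 rfl

theorem center_le_cent (w : G) : Subgroup.center G ≤ Subgroup.centralizer ({w} : Set G) := by
  intro z hz
  rw [Cfsg.Agent.S4314.mem_cent]
  exact Subgroup.mem_center_iff.1 hz w

theorem exists_central_mod [Finite G] {q : ℕ} [Fact q.Prime] (Q : Subgroup G) (hQ : IsPGroup q Q)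
    (Z : Subgroup G) (hQZ : ¬ Q ≤ Z) :
    ∃ w ∈ Q, w ∉ Z ∧ ∀ g ∈ Q, ∃ z ∈ Z, g * w * g⁻¹ = z * w := by
  classical
  haveI : Group.IsNilpotent Q := hQ.isNilpotent
  obtain ⟨k, hk⟩ := Group.IsNilpotent.nilpotent' (G := Q)
  have hex : ∃ j, ∃ x : Q, x ∈ Subgroup.upperCentralSeries Q j ∧ (x : G) ∉ Z := by
    by_contra hcon
    push Not at hcon
    apply hQZ
    intro x hx
    exact hcon k ⟨x, hx⟩ (by rw [hk]; exact Subgroup.mem_top _)
  have hj0 : Nat.find hex ≠ 0 := by
    intro h0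
    obtain ⟨x, hx, hxZ⟩ := Nat.find_spec hex
    rw [h0, Subgroup.upperCentralSeries_zero, Subgroup.mem_bot] at hx
    apply hxZ
    rw [hx]
    exact Z.one_mem
  obtain ⟨j, hj⟩ := Nat.exists_eq_succ_of_ne_zero hj0
  obtain ⟨x, hx, hxZ⟩ := Nat.find_spec hex
  rw [hj] at hx
  have hmin : ∀ y : Q, y ∈ Subgroup.upperCentralSeries Q j → (y : G) ∈ Z := by
    intro y hy
    by_contra hyZ
    have := Nat.find_min' hex ⟨y, hy, hyZ⟩
    omega
  refine ⟨x, x.2, hxZ, fun g hg => ?_⟩
  have h1 := (Subgroup.mem_upperCentralSeries_succ_iff).1 hx ⟨g, hg⟩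
  have h2 : (x : G) * g * (x : G)⁻¹ * g⁻¹ ∈ Z := hmin _ h1
  refine ⟨((x : G) * g * (x : G)⁻¹ * g⁻¹)⁻¹, Z.inv_mem h2, ?_⟩
  group

theorem conj_mem_cent {w : G} {Q : Subgroup G}
    (hcm : ∀ g ∈ Q, ∃ z ∈ Subgroup.center G, g * w * g⁻¹ = z * w) {g c : G} (hg : g ∈ Q)
    (hc : c ∈ Subgroup.centralizer ({w} : Set G)) :
    g * c * g⁻¹ ∈ Subgroup.centralizer ({w} : Set G) := by
  obtain ⟨z, hz, hgw⟩ := hcm g⁻¹ (Q.inv_mem hg)
  rw [inv_inv] at hgw
  have hz' : ∀ a, a * z = z * a := Subgroup.mem_center_iff.1 hz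
  have hcw : w * c = c * w := (Cfsg.Agent.S4314.mem_cent w c).1 hc
  rw [Cfsg.Agent.S4314.mem_cent]
  have e1 : z * (c * w) = c * (z * w) := by rw [← mul_assoc, ← hz' c, mul_assoc]
  calc w * (g * c * g⁻¹) = g * ((g⁻¹ * w * g) * c) * g⁻¹ := by group
    _ = g * (z * (w * c)) * g⁻¹ := by rw [hgw, mul_assoc z w c]
    _ = g * (c * (z * w)) * g⁻¹ := by rw [hcw, e1]
    _ = g * (c * (g⁻¹ * w * g)) * g⁻¹ := by rw [hgw]
    _ = g * c * g⁻¹ * w := by group

theorem normalizes_cent {w : G} {Q : Subgroup G}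
    (hcm : ∀ g ∈ Q, ∃ z ∈ Subgroup.center G, g * w * g⁻¹ = z * w) :
    Q ≤ Subgroup.normalizer ((Subgroup.centralizer ({w} : Set G) : Subgroup G) : Set G) := by
  intro g hg
  rw [Subgroup.mem_normalizer_iff]
  intro c
  constructor
  · intro hc
    exact conj_mem_cent hcm hg hc
  · intro hc
    have h1 := conj_mem_cent hcm (Q.inv_mem hg) hc
    have e : g⁻¹ * (g * c * g⁻¹) * g⁻¹⁻¹ = c := by group
    rw [e] at h1
    exact h1

theorem mem_sylow_of_normal [Finite G] {q : ℕ} [Fact q.Prime] (P : Sylow q G)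
    (hP : (P : Subgroup G).Normal) (x : G) (k : ℕ) (hx : x ^ q ^ k = 1) : x ∈ (P : Subgroup G) := by
  have hq : q.Prime := Fact.out
  have h1 : orderOf x ∣ q ^ k := orderOf_dvd_of_pow_eq_one hx
  obtain ⟨i, -, hi⟩ := (Nat.dvd_prime_pow hq).1 h1
  have h2 : IsPGroup q (Subgroup.zpowers x) := by
    apply IsPGroup.of_card (n := i)
    rw [Nat.card_zpowers, hi]
  obtain ⟨Q', hQ'⟩ := h2.exists_le_sylow
  haveI := Sylow.unique_of_normal P hP
  have h3 : Q' = P := Subsingleton.elim _ _
  rw [← h3]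
  exact hQ' (Subgroup.mem_zpowers x)

end grp

section key

variable {G : Type*} [Group G] [Finite G]

theorem key3 (hE : HE G)
    (hab : ∀ x : G, x ∉ Subgroup.center G → ∀ a ∈ Subgroup.centralizer ({x} : Set G),
      ∀ b ∈ Subgroup.centralizer ({x} : Set G), a * b = b * a)
    {q r : ℕ} (hq : q.Prime) (hr : r.Prime) (hqr : q ≠ r)
    (Q : Sylow q G) (w : G) (hwZ : w ∉ Subgroup.center G)
    (hcm : ∀ g ∈ (Q : Subgroup G), ∃ z ∈ Subgroup.center G, g * w * g⁻¹ = z * w)
    (hrm : r ∣ (Subgroup.center G).relIndex (Subgroup.centralizer ({w} : Set G))) :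
    ∃ e f u u' : ℕ, (Subgroup.centralizer ({w} : Set G)).index = q ^ e * u ∧ ¬ q ∣ u ∧
      (Subgroup.center G).relIndex (Subgroup.centralizer ({w} : Set G)) = r ^ f * u' ∧
      ¬ r ∣ u' ∧ q ^ e < r ^ f := by
  classical
  haveI : Fact q.Prime := ⟨hq⟩
  haveI : Fact r.Prime := ⟨hr⟩
  obtain ⟨C, hC_def⟩ : ∃ C : Subgroup G, C = Subgroup.centralizer ({w} : Set G) := ⟨_, rfl⟩
  obtain ⟨Z, hZ_def⟩ : ∃ Z : Subgroup G, Z = Subgroup.center G := ⟨_, rfl⟩
  haveI hZn : Z.Normal := by rw [hZ_def]; infer_instance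
  rw [← hC_def, ← hZ_def]
  rw [← hC_def, ← hZ_def] at hrm
  have hCab : ∀ a ∈ C, ∀ b ∈ C, a * b = b * a := by rw [hC_def]; exact hab w hwZ
  have hZC : Z ≤ C := by rw [hC_def, hZ_def]; exact center_le_cent w
  have hQC : (Q : Subgroup G) ≤ Subgroup.normalizer (C : Set G) := by
    rw [hC_def]; exact normalizes_cent hcm
  have hzc : ∀ z ∈ Z, ∀ a : G, a * z = z * a := by
    intro z hz
    rw [hZ_def] at hz
    exact Subgroup.mem_center_iff.1 hz
  -- the q-side
  have h_n : C.index = C.relIndex Q * ((Q : Subgroup G) ⊔ C).index := by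
    rw [← relIndex_sup_norm (Q : Subgroup G) C hQC]
    exact (Subgroup.relIndex_mul_index le_sup_right).symm
  have hu : ¬ q ∣ ((Q : Subgroup G) ⊔ C).index := by
    intro h
    exact Q.not_dvd_index (h.trans (Subgroup.index_dvd_of_le le_sup_left))
  obtain ⟨kQ, hkQ⟩ := IsPGroup.iff_card.1 Q.isPGroup'
  obtain ⟨e, -, he⟩ := (Nat.dvd_prime_pow hq).1
    (hkQ ▸ (Subgroup.relIndex_dvd_card C (Q : Subgroup G)))
  -- the r-side
  obtain ⟨S⟩ : Nonempty (Sylow r C) := inferInstance
  obtain ⟨k, hk⟩ := IsPGroup.iff_card.1 S.isPGroup'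
  obtain ⟨R₀, hR₀_def⟩ : ∃ R₀ : Subgroup G, R₀ = torsIn C hCab (r ^ k) := ⟨_, rfl⟩
  have hmemR : ∀ c, c ∈ R₀ ↔ c ∈ C ∧ c ^ r ^ k = 1 := by
    intro c; rw [hR₀_def]; exact mem_torsIn
  have hR₀C : R₀ ≤ C := fun c hc => ((hmemR c).1 hc).1
  have hR₀p : IsPGroup r R₀ := by
    intro x
    exact ⟨k, Subtype.ext ((hmemR x).1 x.2).2⟩
  have hSR : (S : Subgroup C) ≤ R₀.subgroupOf C := by
    intro x hx
    rw [Subgroup.mem_subgroupOf, hmemR]
    refine ⟨x.2, ?_⟩
    have h1 : (⟨x, hx⟩ : (S : Subgroup C)) ^ r ^ k = 1 := by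
      rw [← hk]; exact pow_card_eq_one'
    have h2 := congrArg (fun y : (S : Subgroup C) => ((y : C) : G)) h1
    exact h2
  have hR₀S : R₀.subgroupOf C = S :=
    S.is_maximal' (hR₀p.of_equiv (Subgroup.subgroupOfEquivOfLe hR₀C).symm) hSR
  have hRidx : ¬ r ∣ R₀.relIndex C := by
    unfold Subgroup.relIndex
    rw [hR₀S]
    exact S.not_dvd_index
  have hcardR : Nat.card R₀ = r ^ k := by
    rw [← hk, ← hR₀S]
    exact (Nat.card_congr (Subgroup.subgroupOfEquivOfLe hR₀C).toEquiv).symm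
  have hR₀Z : R₀ ≤ Subgroup.normalizer (Z : Set G) := by
    rw [Subgroup.normalizer_eq_top_iff.2 hZn]; exact le_top
  have h_m : Z.relIndex C = Z.relIndex R₀ * (R₀ ⊔ Z).relIndex C := by
    rw [← relIndex_sup_norm R₀ Z hR₀Z]
    exact (Subgroup.relIndex_mul_relIndex Z (R₀ ⊔ Z) C le_sup_right (sup_le hR₀C hZC)).symm
  have hu' : ¬ r ∣ (R₀ ⊔ Z).relIndex C := by
    intro h
    exact hRidx (h.trans (Subgroup.relIndex_dvd_of_le_left C (le_sup_left : R₀ ≤ R₀ ⊔ Z)))
  obtain ⟨f, -, hf⟩ := (Nat.dvd_prime_pow hr).1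
    (hcardR ▸ (Subgroup.relIndex_dvd_card Z R₀))
  -- a noncentral r-element
  obtain ⟨y, hyR, hyZ⟩ : ∃ y ∈ R₀, y ∉ Z := by
    by_contra hcon
    push Not at hcon
    have h1 : Z.relIndex R₀ = 1 := Subgroup.relIndex_eq_one.2 hcon
    rw [h_m, h1, one_mul] at hrm
    exact hu' hrm
  have hyC : y ∈ C := hR₀C hyR
  have hyZ' : y ∉ Subgroup.center G := by rw [← hZ_def]; exact hyZ
  have hCy : Subgroup.centralizer ({y} : Set G) = C := by
    rw [hC_def]
    apply hE w y hwZ hyZ'
    intro c hc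
    rw [Cfsg.Agent.S4314.mem_cent]
    rw [← hC_def] at hc
    exact hCab y hyC c hc
  have hconjR : ∀ g ∈ (Q : Subgroup G), ∀ c ∈ R₀, g * c * g⁻¹ ∈ R₀ := by
    intro g hg c hc
    rw [hmemR] at hc ⊢
    refine ⟨(Subgroup.mem_normalizer_iff.1 (hQC hg) c).1 hc.1, ?_⟩
    rw [conj_pow, hc.2, mul_one, mul_inv_cancel]
  -- the counting map
  have hcount : C.relIndex Q + 1 ≤ Z.relIndex R₀ := by
    obtain ⟨fm, hfm⟩ : ∃ fm : ↥(Q : Subgroup G) → (R₀ ⧸ Z.subgroupOf R₀),
        ∀ g : (Q : Subgroup G), fm g = QuotientGroup.mk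
          (⟨(g : G) * y * (g : G)⁻¹, hconjR g g.2 y hyR⟩ : R₀) := ⟨_, fun g => rfl⟩
    have hf1 : ∀ a b : (Q : Subgroup G), a⁻¹ * b ∈ C.subgroupOf (Q : Subgroup G) →
        fm a = fm b := by
      intro a b hab'
      rw [Subgroup.mem_subgroupOf] at hab'
      have h1 : ((a : G)⁻¹ * b) * y = y * ((a : G)⁻¹ * b) := hCab _ hab' y hyC
      rw [hfm, hfm]
      congr 1
      apply Subtype.ext
      show (a : G) * y * (a : G)⁻¹ = (b : G) * y * (b : G)⁻¹
      have e1 : (b : G) * y * (b : G)⁻¹ = a * (((a : G)⁻¹ * b) * y) * (b : G)⁻¹ := by group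
      rw [e1, h1]
      group
    have hf2 : ∀ a b : (Q : Subgroup G), fm a = fm b →
        a⁻¹ * b ∈ C.subgroupOf (Q : Subgroup G) := by
      intro a b hab'
      rw [hfm, hfm, QuotientGroup.eq, Subgroup.mem_subgroupOf] at hab'
      obtain ⟨z₀, hz₀_def⟩ : ∃ z₀ : G, z₀ = ((a : G) * y * (a : G)⁻¹)⁻¹ * ((b : G) * y * (b : G)⁻¹) :=
        ⟨_, rfl⟩
      have hz₀Z : z₀ ∈ Z := by rw [hz₀_def]; exact hab'
      have hz₀R : z₀ ∈ R₀ := by
        rw [hz₀_def]
        exact R₀.mul_mem (R₀.inv_mem (hconjR a a.2 y hyR)) (hconjR b b.2 y hyR)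
      obtain ⟨κ, hκ_def⟩ : ∃ κ : G, κ = (a : G)⁻¹ * b := ⟨_, rfl⟩
      have hκQ : κ ∈ (Q : Subgroup G) := by
        rw [hκ_def]; exact (Q : Subgroup G).mul_mem ((Q : Subgroup G).inv_mem a.2) b.2
      have hz₀c := hzc z₀ hz₀Z
      have hκy : κ * y * κ⁻¹ = y * z₀ := by
        have e1 : κ * y * κ⁻¹ = (a : G)⁻¹ * (((a : G) * y * (a : G)⁻¹) * z₀) * a := by
          rw [hκ_def, hz₀_def]; group
        have e2 : (a : G)⁻¹ * (((a : G) * y * (a : G)⁻¹) * z₀) * a
            = y * ((a : G)⁻¹ * z₀ * a) := by group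
        have e3 : (a : G)⁻¹ * z₀ * a = z₀ := by
          rw [mul_assoc, ← hz₀c a, ← mul_assoc, inv_mul_cancel, one_mul]
        rw [e1, e2, e3]
      have hpow : ∀ i : ℕ, κ ^ i * y * (κ ^ i)⁻¹ = y * z₀ ^ i := by
        intro i
        induction i with
        | zero => simp
        | succ i ih =>
          have e1 : κ ^ (i + 1) * y * (κ ^ (i + 1))⁻¹ = κ * (κ ^ i * y * (κ ^ i)⁻¹) * κ⁻¹ := by
            rw [pow_succ']; group
          rw [e1, ih]
          have hzi : ∀ a' : G, a' * z₀ ^ i = z₀ ^ i * a' := fun a' =>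
            ((Commute.pow_right (show Commute a' z₀ from hz₀c a') i)).eq
          have e2 : κ * (y * z₀ ^ i) * κ⁻¹ = (κ * y * κ⁻¹) * z₀ ^ i := by
            calc κ * (y * z₀ ^ i) * κ⁻¹ = κ * y * (z₀ ^ i * κ⁻¹) := by simp only [mul_assoc]
              _ = κ * y * (κ⁻¹ * z₀ ^ i) := by rw [hzi κ⁻¹]
              _ = (κ * y * κ⁻¹) * z₀ ^ i := by simp only [mul_assoc]
          rw [e2, hκy, mul_assoc, ← pow_succ']
      have hz₀1 : z₀ = 1 := by
        have h1 : z₀ ^ q ^ kQ = 1 := by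
          have h2 := hpow (q ^ kQ)
          have h3 : κ ^ q ^ kQ = 1 := by
            have h4 : (⟨κ, hκQ⟩ : (Q : Subgroup G)) ^ q ^ kQ = 1 := by
              rw [← hkQ]; exact pow_card_eq_one'
            exact congrArg Subtype.val h4
          rw [h3, inv_one, one_mul, mul_one] at h2
          have h5 : y * 1 = y * z₀ ^ q ^ kQ := by rw [mul_one]; exact h2
          exact (mul_left_cancel h5).symm
        have h2 : z₀ ^ r ^ k = 1 := ((hmemR z₀).1 hz₀R).2
        have h3 : orderOf z₀ ∣ q ^ kQ := orderOf_dvd_of_pow_eq_one h1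
        have h4 : orderOf z₀ ∣ r ^ k := orderOf_dvd_of_pow_eq_one h2
        have h5 : Nat.Coprime (q ^ kQ) (r ^ k) :=
          Nat.Coprime.pow _ _ ((Nat.coprime_primes hq hr).2 hqr)
        exact orderOf_eq_one_iff.1 (Nat.eq_one_of_dvd_coprimes h5 h3 h4)
      rw [hz₀1, mul_one] at hκy
      have hκC : κ ∈ Subgroup.centralizer ({y} : Set G) := by
        rw [Cfsg.Agent.S4314.mem_cent]
        have e1 : y * κ = (κ * y * κ⁻¹) * κ := by rw [hκy]
        rw [e1]; group
      rw [hCy] at hκC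
      rw [Subgroup.mem_subgroupOf]
      show ((a : G)⁻¹ * (b : G)) ∈ C
      rw [← hκ_def]; exact hκC
    have hf3 : ∀ a : (Q : Subgroup G), fm a ≠ 1 := by
      intro a ha
      rw [hfm, QuotientGroup.eq_one_iff, Subgroup.mem_subgroupOf] at ha
      have h1 : (a : G) * y * (a : G)⁻¹ ∈ Z := ha
      have h2 := hZn.conj_mem _ h1 (a : G)⁻¹
      have e : (a : G)⁻¹ * ((a : G) * y * (a : G)⁻¹) * (a : G)⁻¹⁻¹ = y := by group
      rw [e] at h2
      exact hyZ h2
    obtain ⟨ψ, hψ_none, hψ_some⟩ : ∃ ψ : Option ((Q : Subgroup G) ⧸ C.subgroupOf (Q : Subgroup G)) →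
        (R₀ ⧸ Z.subgroupOf R₀), ψ none = 1 ∧ ∀ a : (Q : Subgroup G),
        ψ (some (QuotientGroup.mk a)) = fm a :=
      ⟨fun o => o.elim 1 (fun x => Quotient.liftOn' x fm
        (fun a b hab' => hf1 a b (QuotientGroup.leftRel_apply.1 hab'))), rfl, fun a => rfl⟩
    have hψ : Function.Injective ψ := by
      intro o o' hoo
      cases o with
      | none =>
        cases o' with
        | none => rfl
        | some x' =>
          exfalso
          induction x' using QuotientGroup.induction_on with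
          | H a' =>
            rw [hψ_none, hψ_some] at hoo
            exact hf3 a' hoo.symm
      | some x =>
        cases o' with
        | none =>
          exfalso
          induction x using QuotientGroup.induction_on with
          | H a =>
            rw [hψ_none, hψ_some] at hoo
            exact hf3 a hoo
        | some x' =>
          induction x using QuotientGroup.induction_on with
          | H a =>
            induction x' using QuotientGroup.induction_on with
            | H a' =>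
              rw [hψ_some, hψ_some] at hoo
              congr 1
              exact QuotientGroup.eq.2 (hf2 a a' hoo)
    have h1 := Nat.card_le_card_of_injective ψ hψ
    rw [Finite.card_option] at h1
    exact h1
  refine ⟨e, f, ((Q : Subgroup G) ⊔ C).index, (R₀ ⊔ Z).relIndex C, by rw [h_n, he], hu,
    by rw [h_m, hf], hu', ?_⟩
  rw [he, hf] at hcount
  omega

end key

section q1

variable {G : Type*} [Group G] [Finite G]

theorem relIndex_eq (n : ℕ) (hn : 1 < n)
    (hidx : ∀ x : G, x ∉ Subgroup.center G → (Subgroup.centralizer ({x} : Set G)).index = n)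
    {x y : G} (hx : x ∉ Subgroup.center G) (hy : y ∉ Subgroup.center G) :
    (Subgroup.center G).relIndex (Subgroup.centralizer ({x} : Set G)) =
      (Subgroup.center G).relIndex (Subgroup.centralizer ({y} : Set G)) := by
  have h1 := Subgroup.relIndex_mul_index (center_le_cent x)
  have h2 := Subgroup.relIndex_mul_index (center_le_cent y)
  rw [hidx x hx] at h1
  rw [hidx y hy, ← h1] at h2
  exact (Nat.eq_of_mul_eq_mul_right (by omega) h2).symm

theorem exists_noncentral_sylow (n : ℕ)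
    (x₀ : G) (hx₀ : (Subgroup.centralizer ({x₀} : Set G)).index = n)
    {q : ℕ} [Fact q.Prime] (hqn : q ∣ n) (Q : Sylow q G) :
    ¬ (Q : Subgroup G) ≤ Subgroup.center G := by
  intro hQZ
  have h1 : (Subgroup.center G).index ∣ (Q : Subgroup G).index := Subgroup.index_dvd_of_le hQZ
  have h2 : n ∣ (Subgroup.center G).index := by
    rw [← hx₀]; exact Subgroup.index_dvd_of_le (center_le_cent x₀)
  exact Q.not_dvd_index (hqn.trans (h2.trans h1))

theorem q1_alpha (n : ℕ) (hn : 1 < n)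
    (hidx : ∀ x : G, x ∉ Subgroup.center G → (Subgroup.centralizer ({x} : Set G)).index = n)
    (hE : HE G) {x t m' : G} (hx : x ∉ Subgroup.center G)
    (ht : t ∈ Subgroup.centralizer ({x} : Set G)) (hm' : m' ∈ Subgroup.centralizer ({x} : Set G))
    (htm : t * m' ≠ m' * t) :
    ∃ q : ℕ, q.Prime ∧ ∀ u : G, (orderOf u).Coprime q → u ∈ Subgroup.center G := by
  obtain ⟨q, hq, hexp⟩ := nonab_exp' hE hx ht hm' htm
  haveI : Fact q.Prime := ⟨hq⟩
  refine ⟨q, hq, fun u hu => ?_⟩
  by_contra huZ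
  have hP : IsPGroup q (Subgroup.centralizer ({x} : Set G) ⧸
      (Subgroup.center G).subgroupOf (Subgroup.centralizer ({x} : Set G))) := by
    intro g
    induction g using QuotientGroup.induction_on with
    | H c =>
      refine ⟨1, ?_⟩
      rw [pow_one, ← QuotientGroup.mk_pow, QuotientGroup.eq_one_iff, Subgroup.mem_subgroupOf]
      show (c : G) ^ q ∈ Subgroup.center G
      by_cases hc : (c : G) ∈ Subgroup.center G
      · exact (Subgroup.center G).pow_mem hc q
      · exact hexp c c.2 hc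
  obtain ⟨j, hj⟩ := IsPGroup.iff_card.1 hP
  have hm : (Subgroup.center G).relIndex (Subgroup.centralizer ({x} : Set G)) = q ^ j := hj
  have h1 : u ^ (Subgroup.center G).relIndex (Subgroup.centralizer ({u} : Set G)) ∈
      Subgroup.center G := pow_relIndex_mem (self_mem_cent u)
  rw [relIndex_eq n hn hidx huZ hx, hm] at h1
  have h2 : u ^ orderOf u ∈ Subgroup.center G := by
    rw [pow_orderOf_eq_one]; exact (Subgroup.center G).one_mem
  exact huZ (Cfsg.Agent.S4314.mem_of_pow_pow_coprime h1 h2 (Nat.Coprime.pow_left j hu.symm))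

theorem q1_beta (n : ℕ) (hn : 1 < n)
    (hidx : ∀ x : G, x ∉ Subgroup.center G → (Subgroup.centralizer ({x} : Set G)).index = n)
    (hE : HE G) (x₀ : G) (hx₀ : x₀ ∉ Subgroup.center G)
    (hab : ∀ x : G, x ∉ Subgroup.center G → ∀ a ∈ Subgroup.centralizer ({x} : Set G),
      ∀ b ∈ Subgroup.centralizer ({x} : Set G), a * b = b * a) :
    ∃ q : ℕ, q.Prime ∧ ∀ u : G, (orderOf u).Coprime q → u ∈ Subgroup.center G := by
  classical
  by_contra hcon
  push Not at hcon
  obtain ⟨m, hm_def⟩ : ∃ m : ℕ,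
      m = (Subgroup.center G).relIndex (Subgroup.centralizer ({x₀} : Set G)) := ⟨_, rfl⟩
  have hm_eq : ∀ x : G, x ∉ Subgroup.center G →
      (Subgroup.center G).relIndex (Subgroup.centralizer ({x} : Set G)) = m := by
    intro x hx
    rw [hm_def]; exact relIndex_eq n hn hidx hx hx₀
  have hpow : ∀ x : G, x ∉ Subgroup.center G → ∀ c ∈ Subgroup.centralizer ({x} : Set G),
      c ^ m ∈ Subgroup.center G := by
    intro x hx c hc
    rw [← hm_eq x hx]
    exact pow_relIndex_mem hc
  have hm_pos : 0 < m := by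
    rw [hm_def]
    exact Nat.pos_of_dvd_of_pos (Subgroup.relIndex_dvd_card _ _) Nat.card_pos
  have hm1 : m ≠ 1 := by
    intro h1
    have := hpow x₀ hx₀ x₀ (self_mem_cent x₀)
    rw [h1, pow_one] at this
    exact hx₀ this
  have hZidx : (Subgroup.center G).index = m * n := by
    have h1 := Subgroup.relIndex_mul_index (center_le_cent x₀)
    rw [hidx x₀ hx₀, ← hm_def] at h1
    exact h1.symm
  -- m ≤ n
  have hle : m ≤ n := by
    obtain ⟨g, hg⟩ : ∃ g : G, g ∉ Subgroup.centralizer ({x₀} : Set G) := by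
      by_contra hall
      push Not at hall
      apply hx₀
      rw [Subgroup.mem_center_iff]
      intro g
      exact ((Cfsg.Agent.S4314.mem_cent x₀ g).1 (hall g)).symm
    have hgZ : g ∉ Subgroup.center G := fun h => hg (center_le_cent x₀ h)
    have hint : Subgroup.centralizer ({x₀} : Set G) ⊓ Subgroup.centralizer ({g} : Set G) ≤
        Subgroup.center G := by
      rintro c ⟨hc1, hc2⟩
      by_contra hcZ
      have e1 : Subgroup.centralizer ({c} : Set G) = Subgroup.centralizer ({x₀} : Set G) := by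
        apply hE x₀ c hx₀ hcZ
        intro a ha
        rw [Cfsg.Agent.S4314.mem_cent]
        exact hab x₀ hx₀ c hc1 a ha
      have e2 : Subgroup.centralizer ({c} : Set G) = Subgroup.centralizer ({g} : Set G) := by
        apply hE g c hgZ hcZ
        intro a ha
        rw [Cfsg.Agent.S4314.mem_cent]
        exact hab g hgZ c hc2 a ha
      apply hg
      rw [← e1, e2]
      exact self_mem_cent g
    have h1 : (Subgroup.center G).index ≤
        (Subgroup.centralizer ({x₀} : Set G) ⊓ Subgroup.centralizer ({g} : Set G)).index :=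
      Nat.le_of_dvd (Nat.pos_of_ne_zero Subgroup.index_ne_zero_of_finite)
        (Subgroup.index_dvd_of_le hint)
    have h2 := Subgroup.index_inf_le (H := Subgroup.centralizer ({x₀} : Set G))
      (K := Subgroup.centralizer ({g} : Set G))
    rw [hidx x₀ hx₀, hidx g hgZ] at h2
    rw [hZidx] at h1
    have h3 : m * n ≤ n * n := h1.trans h2
    exact Nat.le_of_mul_le_mul_right h3 (by omega)
  have hx₀n : (Subgroup.centralizer ({x₀} : Set G)).index = n := hidx x₀ hx₀
  apply nt n m hn hm_pos hle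
  · -- primes of n divide m
    intro q hq hqn
    haveI : Fact q.Prime := ⟨hq⟩
    obtain ⟨Q⟩ : Nonempty (Sylow q G) := inferInstance
    have hQZ := exists_noncentral_sylow n x₀ hx₀n hqn Q
    obtain ⟨w, hwQ, hwZ⟩ : ∃ w ∈ (Q : Subgroup G), w ∉ Subgroup.center G := by
      by_contra h
      push Not at h
      exact hQZ h
    by_contra hqm
    obtain ⟨kQ, hkQ⟩ := IsPGroup.iff_card.1 Q.isPGroup'
    have h1 := hpow w hwZ w (self_mem_cent w)
    have h2 : w ^ q ^ kQ ∈ Subgroup.center G := by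
      have h4 : (⟨w, hwQ⟩ : (Q : Subgroup G)) ^ q ^ kQ = 1 := by
        rw [← hkQ]; exact pow_card_eq_one'
      have h5 : w ^ q ^ kQ = 1 := congrArg Subtype.val h4
      rw [h5]; exact (Subgroup.center G).one_mem
    have h3 : Nat.Coprime m (q ^ kQ) :=
      Nat.Coprime.pow_right kQ ((Nat.Prime.coprime_iff_not_dvd hq).2 hqm).symm
    exact hwZ (Cfsg.Agent.S4314.mem_of_pow_pow_coprime h1 h2 h3)
  · -- two primes divide m
    obtain ⟨q, hq, hqm⟩ := Nat.exists_prime_and_dvd hm1
    obtain ⟨u, hu, huZ⟩ := hcon q hq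
    have h1 := hpow u huZ u (self_mem_cent u)
    have h2 : u ^ orderOf u ∈ Subgroup.center G := by
      rw [pow_orderOf_eq_one]; exact (Subgroup.center G).one_mem
    have h3 : ¬ Nat.Coprime m (orderOf u) := fun h =>
      huZ (Cfsg.Agent.S4314.mem_of_pow_pow_coprime h1 h2 h)
    obtain ⟨r, hr, hrm, hru⟩ := Nat.Prime.not_coprime_iff_dvd.1 h3
    refine ⟨q, r, hq, hr, ?_, hqm, hrm⟩
    intro hqr
    rw [← hqr] at hru
    have := Nat.Coprime.eq_one_of_dvd hu.symm hru
    exact hq.one_lt.ne' this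
  · -- the inequality of prime parts
    intro q r hq hr hqr hqn hrm
    haveI : Fact q.Prime := ⟨hq⟩
    obtain ⟨Q⟩ : Nonempty (Sylow q G) := inferInstance
    have hQZ := exists_noncentral_sylow n x₀ hx₀n hqn Q
    obtain ⟨w, -, hwZ, hcm⟩ := exists_central_mod (Q : Subgroup G) Q.isPGroup'
      (Subgroup.center G) hQZ
    obtain ⟨e, f, u, u', h1, h2, h3, h4, h5⟩ := key3 hE hab hq hr hqr Q w hwZ hcm
      (by rw [hm_eq w hwZ]; exact hrm)
    rw [hidx w hwZ] at h1
    rw [hm_eq w hwZ] at h3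
    have e1 : n.factorization q = e :=
      val_of_mul hq (by omega) (Nat.Prime.not_dvd_one hq) h2 (by rw [mul_one]; exact h1)
    have e2 : m.factorization r = f :=
      val_of_mul hr (by omega) (Nat.Prime.not_dvd_one hr) h4 (by rw [mul_one]; exact h3)
    rw [e1, e2]
    exact h5

end q1

open scoped Pointwise


/-- Let G be a finite group whose conjugacy classes have exactly two sizes, 1 and n > 1. Then n is a power of a prime p and G is the direct product of a p-group and an abelian group of order prime to p: its Sylow p-subgroup P is normal with an abelian normal complement centralizing it; moreover P has an abelian normal subgroup A with P/A of exponent dividing p. -/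
theorem result {G : Type*} [Group G] [Finite G] (n : ℕ) (hn : 1 < n)
    (h : ∀ x : G, (Subgroup.centralizer ({x} : Set G)).index = 1 ∨ (Subgroup.centralizer ({x} : Set G)).index = n) (hex : ∃ x : G, (Subgroup.centralizer ({x} : Set G)).index = n) :
    ∃ (p : ℕ) (_ : Fact p.Prime) (a : ℕ), n = p ^ a ∧ ∀ P : Sylow p G, (P : Subgroup G).Normal ∧
      (∃ N : Subgroup G, N.Normal ∧ N.IsComplement' (P : Subgroup G) ∧ IsMulCommutative N ∧
        ∀ x ∈ N, ∀ y ∈ (P : Subgroup G), x * y = y * x) ∧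
      ∃ A : Subgroup (P : Subgroup G), A.Normal ∧ IsMulCommutative A ∧ ∀ y : (P : Subgroup G), y ^ p ∈ A := by
  classical
  obtain ⟨x₀, hx₀i⟩ := hex
  -- central iff index one
  have hcent : ∀ x : G, (Subgroup.centralizer ({x} : Set G)).index = 1 → x ∈ Subgroup.center G := by
    intro x hx
    rw [Subgroup.index_eq_one] at hx
    rw [Subgroup.mem_center_iff]
    intro g
    have h1 : g ∈ Subgroup.centralizer ({x} : Set G) := hx ▸ Subgroup.mem_top g
    exact ((Cfsg.Agent.S4314.mem_cent x g).1 h1).symm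
  have hidx : ∀ x : G, x ∉ Subgroup.center G → (Subgroup.centralizer ({x} : Set G)).index = n := by
    intro x hx
    rcases h x with h1 | h1
    · exact absurd (hcent x h1) hx
    · exact h1
  have hx₀ : x₀ ∉ Subgroup.center G := by
    intro hx
    have h1 : Subgroup.centralizer ({x₀} : Set G) = ⊤ := by
      rw [eq_top_iff]
      intro g _
      rw [Cfsg.Agent.S4314.mem_cent]
      exact (Subgroup.mem_center_iff.1 hx g).symm
    rw [h1, Subgroup.index_top] at hx₀i
    omega
  have hE : HE G := by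
    intro w v hw hv hle
    have h1 := Subgroup.relIndex_mul_index hle
    rw [hidx w hw, hidx v hv] at h1
    have h2 : (Subgroup.centralizer ({w} : Set G)).relIndex (Subgroup.centralizer ({v} : Set G))
        = 1 := Nat.eq_of_mul_eq_mul_right (by omega : 0 < n) (by rw [h1, one_mul])
    exact le_antisymm (Subgroup.relIndex_eq_one.1 h2) hle
  -- the prime
  obtain ⟨q, hq, hq1⟩ : ∃ q : ℕ, q.Prime ∧
      ∀ u : G, (orderOf u).Coprime q → u ∈ Subgroup.center G := by
    by_cases hab : ∀ x : G, x ∉ Subgroup.center G → ∀ a ∈ Subgroup.centralizer ({x} : Set G),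
        ∀ b ∈ Subgroup.centralizer ({x} : Set G), a * b = b * a
    · exact q1_beta n hn hidx hE x₀ hx₀ hab
    · push Not at hab
      obtain ⟨x, hx, a, ha, b, hb, hne⟩ := hab
      exact q1_alpha n hn hidx hE hx ha hb hne
  haveI hqF : Fact q.Prime := ⟨hq⟩
  obtain ⟨Z, hZ_def⟩ : ∃ Z : Subgroup G, Z = Subgroup.center G := ⟨_, rfl⟩
  have hzc : ∀ z ∈ Z, ∀ a : G, a * z = z * a := by
    intro z hz
    rw [hZ_def] at hz
    exact Subgroup.mem_center_iff.1 hz
  have hZcomm : ∀ a ∈ Z, ∀ b ∈ Z, a * b = b * a := fun a _ b hb => hzc b hb a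
  -- the index of the centre is a power of q
  have hZidx : ∃ K : ℕ, Z.index = q ^ K := by
    refine ⟨_, Nat.eq_prime_pow_of_unique_prime_dvd Subgroup.index_ne_zero_of_finite ?_⟩
    intro d hd hdZ
    by_contra hdq
    haveI : Fact d.Prime := ⟨hd⟩
    obtain ⟨D⟩ : Nonempty (Sylow d G) := inferInstance
    have hDZ : (D : Subgroup G) ≤ Z := by
      intro x hx
      rw [hZ_def]
      apply hq1
      obtain ⟨kD, hkD⟩ := IsPGroup.iff_card.1 D.isPGroup'
      have h1 : orderOf x ∣ d ^ kD := by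
        have h4 : (⟨x, hx⟩ : (D : Subgroup G)) ^ d ^ kD = 1 := by
          rw [← hkD]; exact pow_card_eq_one'
        exact orderOf_dvd_of_pow_eq_one (congrArg Subtype.val h4)
      exact Nat.Coprime.coprime_dvd_left h1
        (Nat.Coprime.pow_left kD ((Nat.coprime_primes hd hq).2 hdq))
    exact D.not_dvd_index (hdZ.trans (Subgroup.index_dvd_of_le hDZ))
  obtain ⟨K, hK⟩ := hZidx
  have hZC₀ : Z ≤ Subgroup.centralizer ({x₀} : Set G) := by
    rw [hZ_def]; exact center_le_cent x₀
  obtain ⟨a, -, hna⟩ := (Nat.dvd_prime_pow hq).1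
    (hK ▸ (hx₀i ▸ Subgroup.index_dvd_of_le hZC₀ : n ∣ Z.index))
  refine ⟨q, hqF, a, hna, fun P => ?_⟩
  -- P ⊔ Z = ⊤
  have hPZ : (P : Subgroup G) ⊔ Z = ⊤ := by
    rw [← Subgroup.index_eq_one]
    have h1 : ((P : Subgroup G) ⊔ Z).index ∣ q ^ K := hK ▸ Subgroup.index_dvd_of_le le_sup_right
    obtain ⟨i, -, hi⟩ := (Nat.dvd_prime_pow hq).1 h1
    rcases Nat.eq_zero_or_pos i with h0 | h0
    · rw [hi, h0, pow_zero]
    · exfalso
      apply P.not_dvd_index
      have h2 : q ∣ ((P : Subgroup G) ⊔ Z).index := by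
        rw [hi]; exact dvd_pow_self q h0.ne'
      exact h2.trans (Subgroup.index_dvd_of_le le_sup_left)
  have hPn : (P : Subgroup G).Normal := by
    rw [← Subgroup.normalizer_eq_top_iff, eq_top_iff, ← hPZ]
    refine sup_le Subgroup.le_normalizer ?_
    rw [hZ_def]
    exact Subgroup.center_le_normalizer _
  obtain ⟨k₁, hk₁⟩ := IsPGroup.iff_card.1 P.isPGroup'
  have hPpow : ∀ x ∈ (P : Subgroup G), x ^ q ^ k₁ = 1 := by
    intro x hx
    have h4 : (⟨x, hx⟩ : (P : Subgroup G)) ^ q ^ k₁ = 1 := by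
      rw [← hk₁]; exact pow_card_eq_one'
    exact congrArg Subtype.val h4
  obtain ⟨t, ht_def⟩ : ∃ t : ℕ, t = (P : Subgroup G).index := ⟨_, rfl⟩
  have htq : ¬ q ∣ t := by rw [ht_def]; exact P.not_dvd_index
  have hcard : q ^ k₁ * t = Nat.card G := by
    rw [← hk₁, ht_def]; exact Subgroup.card_mul_index _
  have hcop : Nat.Coprime (q ^ k₁) t :=
    Nat.Coprime.pow_left k₁ ((Nat.Prime.coprime_iff_not_dvd hq).2 htq)
  refine ⟨hPn, ?_, ?_⟩
  · -- the complement
    obtain ⟨N, hN_def⟩ : ∃ N : Subgroup G, N = torsIn Z hZcomm t := ⟨_, rfl⟩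
    have hmemN : ∀ c, c ∈ N ↔ c ∈ Z ∧ c ^ t = 1 := by
      intro c; rw [hN_def]; exact mem_torsIn
    have hNn : N.Normal := by
      constructor
      intro z hz g
      have h1 := hzc z ((hmemN z).1 hz).1 g
      have e : g * z * g⁻¹ = z := by rw [h1, mul_assoc, mul_inv_cancel, mul_one]
      rw [e]; exact hz
    have hdisj : Disjoint N (P : Subgroup G) := by
      rw [Subgroup.disjoint_def]
      intro x hxN hxP
      have h1 : orderOf x ∣ t := orderOf_dvd_of_pow_eq_one ((hmemN x).1 hxN).2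
      have h2 : orderOf x ∣ q ^ k₁ := orderOf_dvd_of_pow_eq_one (hPpow x hxP)
      exact orderOf_eq_one_iff.1 (Nat.eq_one_of_dvd_coprimes hcop h2 h1)
    have hsup : N ⊔ (P : Subgroup G) = ⊤ := by
      rw [eq_top_iff]
      intro g _
      have h1 : g ^ q ^ k₁ ∈ N ⊔ (P : Subgroup G) := by
        apply Subgroup.mem_sup_left
        rw [hmemN]
        have h2 : (g ^ q ^ k₁) ^ t = 1 := by
          rw [← pow_mul, hcard]; exact pow_card_eq_one'
        refine ⟨?_, h2⟩
        rw [hZ_def]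
        apply hq1
        exact Nat.Coprime.coprime_dvd_left (orderOf_dvd_of_pow_eq_one h2)
          ((Nat.Prime.coprime_iff_not_dvd hq).2 htq).symm
      have h2 : g ^ t ∈ N ⊔ (P : Subgroup G) := by
        apply Subgroup.mem_sup_right
        apply mem_sylow_of_normal P hPn (g ^ t) k₁
        rw [← pow_mul, mul_comm, hcard]; exact pow_card_eq_one'
      exact Cfsg.Agent.S4314.mem_of_pow_pow_coprime h1 h2 hcop
    have hmul : (N : Set G) * ((P : Subgroup G) : Set G) = Set.univ := by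
      haveI := hNn
      rw [← Subgroup.normal_mul, hsup]; rfl
    refine ⟨N, hNn, Subgroup.isComplement'_of_disjoint_and_mul_eq_univ hdisj hmul,
      ⟨⟨fun x y => Subtype.ext (hZcomm x ((hmemN x).1 x.2).1 y ((hmemN y).1 y.2).1)⟩⟩, ?_⟩
    intro x hx y _
    exact (hzc x ((hmemN x).1 hx).1 y).symm
  · -- the abelian normal subgroup of P
    have hPZ' : ¬ (P : Subgroup G) ≤ Z := by
      intro hle
      apply hx₀
      rw [← hZ_def]
      have : (⊤ : Subgroup G) ≤ Z := by rw [← hPZ]; exact sup_le hle le_rfl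
      exact this (Subgroup.mem_top x₀)
    obtain ⟨w, hwP, hwZ, hcmw⟩ := exists_central_mod (P : Subgroup G) P.isPGroup' Z hPZ'
    have hexj : ∃ j : ℕ, w ^ q ^ j ∈ Z := ⟨k₁, by rw [hPpow w hwP]; exact Z.one_mem⟩
    have hj0 : Nat.find hexj ≠ 0 := by
      intro h0
      have := Nat.find_spec hexj
      rw [h0, pow_zero, pow_one] at this
      exact hwZ this
    obtain ⟨j, hj⟩ := Nat.exists_eq_succ_of_ne_zero hj0
    obtain ⟨v, hv_def⟩ : ∃ v : G, v = w ^ q ^ j := ⟨_, rfl⟩
    have hvZ : v ∉ Z := by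
      rw [hv_def]
      exact Nat.find_min hexj (by omega)
    have hvq : v ^ q ∈ Z := by
      rw [hv_def, ← pow_mul, ← pow_succ]
      have := Nat.find_spec hexj
      rw [hj] at this
      exact this
    have hvZ' : v ∉ Subgroup.center G := by rw [← hZ_def]; exact hvZ
    have hcmv : ∀ g ∈ (P : Subgroup G), ∃ z ∈ Subgroup.center G, g * v * g⁻¹ = z * v := by
      intro g hg
      obtain ⟨z, hz, hgw⟩ := hcmw g hg
      refine ⟨z ^ q ^ j, by rw [← hZ_def]; exact Z.pow_mem hz _, ?_⟩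
      rw [hv_def, ← conj_pow, hgw]
      exact (show Commute z w from (hzc z hz w).symm).mul_pow _
    obtain ⟨Kv, hKv_def⟩ : ∃ Kv : Subgroup G, Kv = Subgroup.centralizer ({v} : Set G) :=
      ⟨_, rfl⟩
    have hKq : ∀ g ∈ (P : Subgroup G), g ^ q ∈ Kv := by
      intro g hg
      obtain ⟨z, hz, hgv⟩ := hcmv g hg
      rw [← hZ_def] at hz
      have hzq : z ^ q = 1 := by
        have h1 : g * v ^ q * g⁻¹ = v ^ q := by
          rw [hzc _ hvq g, mul_assoc, mul_inv_cancel, mul_one]
        have h2 : g * v ^ q * g⁻¹ = z ^ q * v ^ q := by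
          rw [← conj_pow, hgv]
          exact (show Commute z v from (hzc z hz v).symm).mul_pow _
        rw [h1] at h2
        have h3 : 1 * v ^ q = z ^ q * v ^ q := by rw [one_mul]; exact h2
        exact (mul_right_cancel h3).symm
      have hpow : ∀ i : ℕ, g ^ i * v * (g ^ i)⁻¹ = z ^ i * v := by
        intro i
        induction i with
        | zero => simp
        | succ i ih =>
          have e1 : g ^ (i + 1) * v * (g ^ (i + 1))⁻¹ = g * (g ^ i * v * (g ^ i)⁻¹) * g⁻¹ := by
            rw [pow_succ']; group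
          have hzi : ∀ a' : G, a' * z ^ i = z ^ i * a' := fun a' =>
            ((Commute.pow_right (show Commute a' z from hzc z hz a') i)).eq
          have e2 : g * (z ^ i * v) * g⁻¹ = z ^ i * (g * v * g⁻¹) := by
            calc g * (z ^ i * v) * g⁻¹ = (g * z ^ i) * v * g⁻¹ := by simp only [mul_assoc]
              _ = (z ^ i * g) * v * g⁻¹ := by rw [hzi g]
              _ = z ^ i * (g * v * g⁻¹) := by simp only [mul_assoc]
          rw [e1, ih, e2, hgv, ← mul_assoc, ← pow_succ]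
      have h1 := hpow q
      rw [hzq, one_mul] at h1
      rw [hKv_def, Cfsg.Agent.S4314.mem_cent]
      have e1 : g ^ q * v = (g ^ q * v * (g ^ q)⁻¹) * g ^ q := by group
      rw [e1, h1]
    by_cases hKab : ∀ a ∈ Kv, ∀ b ∈ Kv, a * b = b * a
    · refine ⟨Kv.subgroupOf (P : Subgroup G), ?_, ?_, ?_⟩
      · constructor
        intro c hc g
        rw [Subgroup.mem_subgroupOf] at hc ⊢
        rw [hKv_def] at hc ⊢
        exact conj_mem_cent hcmv g.2 hc
      · exact ⟨⟨fun x y => Subtype.ext (Subtype.ext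
          (hKab _ (Subgroup.mem_subgroupOf.1 x.2) _ (Subgroup.mem_subgroupOf.1 y.2)))⟩⟩
      · intro y
        rw [Subgroup.mem_subgroupOf]
        exact hKq y y.2
    · push Not at hKab
      obtain ⟨a', ha', b', hb', hne⟩ := hKab
      rw [hKv_def] at ha' hb'
      obtain ⟨q', hq', hexp⟩ := nonab_exp' hE hvZ' ha' hb' hne
      have hvq' : v ^ q' ∈ Z := by
        rw [hZ_def]; exact hexp v (self_mem_cent v) hvZ'
      have hqq : q' = q := Cfsg.Agent.S4314.prime_unique hq' hq hvZ hvq' hvq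
      rw [hqq] at hexp
      have hexpq : ∀ g ∈ (P : Subgroup G), g ^ q ∈ Z := by
        intro g hg
        by_cases hgZ : g ∈ Z
        · exact Z.pow_mem hgZ q
        have hgZ' : g ∉ Subgroup.center G := by rw [← hZ_def]; exact hgZ
        by_cases hgK : g ∈ Subgroup.centralizer ({v} : Set G)
        · rw [hZ_def]; exact hexp g hgK hgZ'
        · by_contra hcZ
          have hcZ' : g ^ q ∉ Subgroup.center G := by rw [← hZ_def]; exact hcZ
          have e1 : Subgroup.centralizer ({g ^ q} : Set G) = Subgroup.centralizer ({g} : Set G) := by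
            apply hE g (g ^ q) hgZ' hcZ'
            intro c hc
            rw [Cfsg.Agent.S4314.mem_cent] at hc ⊢
            exact (Commute.pow_left (show Commute g c from hc) q).eq
          have h1 : g ^ q ∈ Subgroup.centralizer ({v} : Set G) := by
            rw [← hKv_def]; exact hKq g hg
          have h2 : v ∈ Subgroup.centralizer ({g ^ q} : Set G) := by
            rw [Cfsg.Agent.S4314.mem_cent] at h1 ⊢
            exact h1.symm
          rw [e1, Cfsg.Agent.S4314.mem_cent] at h2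
          apply hgK
          rw [Cfsg.Agent.S4314.mem_cent]
          exact h2.symm
      refine ⟨Subgroup.center (P : Subgroup G), inferInstance, inferInstance, ?_⟩
      intro y
      rw [Subgroup.mem_center_iff]
      intro g
      apply Subtype.ext
      exact hzc _ (hexpq y y.2) g

end Cfsg.Agent.S4134
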