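import Cfsg.Statements.S0801
import Mathlib
import Cfsg.Agent.Helper1.Gen801

set_option autoImplicit false
open Cfsg

namespace Cfsg.Agent.S0801

open Cfsg.Agent.Helper12 Cfsg.Agent.Helper23.QP Cfsg.Agent.Helper23.Dk Cfsg.Agent.Helper1.Gen801

/-- Let F be a finite field of odd characteristic and λ ≠ 0 an element generating F as a field. Then the lower and upper unitriangular matrices with off-diagonal entries 1 and λ generate SL_2(F), unless |F| = 9 and λ² = −1, in which case they generate a subgroup of order 120. -/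
theorem result {F : Type*} [Field F] [Fintype F] (h2 : (2 : F) ≠ 0) (lam : F) (hlam : lam ≠ 0) (hgen : Subfield.closure ({lam} : Set F) = ⊤) : (Subgroup.closure {g : Matrix.SpecialLinearGroup (Fin 2) F | (g : Matrix (Fin 2) (Fin 2) F) = !![1, 0; 1, 1] ∨ (g : Matrix (Fin 2) (Fin 2) F) = !![1, lam; 0, 1]} = ⊤ ∧ ¬ (Fintype.card F = 9 ∧ lam ^ 2 = -1)) ∨ (Fintype.card F = 9 ∧ lam ^ 2 = -1 ∧ Nat.card ↥(Subgroup.closure {g : Matrix.SpecialLinearGroup (Fin 2) F | (g : Matrix (Fin 2) (Fin 2) F) = !![1, 0; 1, 1] ∨ (g : Matrix (Fin 2) (Fin 2) F) = !![1, lam; 0, 1]}) = 120) := by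
  classical
  obtain ⟨p, hchar⟩ := CharP.exists F
  haveI := hchar
  have hp : p.Prime := CharP.char_is_prime F p
  haveI : Fact p.Prime := ⟨hp⟩
  have hp2 : p ≠ 2 := by
    rintro rfl
    exact h2 (CharP.ofNat_eq_zero F 2)
  obtain ⟨G, hGd⟩ : ∃ G : Subgroup (Matrix.SpecialLinearGroup (Fin 2) F),
      G = Subgroup.closure {g : Matrix.SpecialLinearGroup (Fin 2) F |
        (g : Matrix (Fin 2) (Fin 2) F) = !![1, 0; 1, 1] ∨
        (g : Matrix (Fin 2) (Fin 2) F) = !![1, lam; 0, 1]} := ⟨_, rfl⟩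
  rw [← hGd]
  obtain ⟨X, hXd⟩ : ∃ X : Matrix.SpecialLinearGroup (Fin 2) F, X = sl2mk (1 : F) 0 1 1 (by ring) :=
    ⟨_, rfl⟩
  have hX10 : e10 X = 1 := by rw [hXd, e10_mk]
  have hX00 : e00 X = 1 := by rw [hXd, e00_mk]
  have hX01 : e01 X = 0 := by rw [hXd, e01_mk]
  have hX11 : e11 X = 1 := by rw [hXd, e11_mk]
  have hXG : X ∈ G := by
    rw [hGd]
    exact Subgroup.subset_closure (Or.inl (by rw [hXd]; rfl))
  have hYG : sl2U lam ∈ G := by
    rw [hGd]
    exact Subgroup.subset_closure (Or.inr rfl)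
  have hinj := Subgroup.subtype_injective G
  have hu : G.subtype ⟨sl2U lam, hYG⟩ = sl2U lam := rfl
  have hgenG : Subgroup.closure {g : ↥G | g ^ p = 1} = ⊤ := by
    have h1 := Subgroup.closure_closure_coe_preimage
      (k := {g : Matrix.SpecialLinearGroup (Fin 2) F |
        (g : Matrix (Fin 2) (Fin 2) F) = !![1, 0; 1, 1] ∨
        (g : Matrix (Fin 2) (Fin 2) F) = !![1, lam; 0, 1]})
    subst hGd
    rw [eq_top_iff, ← h1]
    apply Subgroup.closure_mono
    intro g hg
    show g ^ p = 1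
    apply Subtype.ext
    rw [SubgroupClass.coe_pow, OneMemClass.coe_one]
    apply unip_pow_char h2 p
    rcases hg with hg | hg
    · show Matrix.trace ((g : Matrix.SpecialLinearGroup (Fin 2) F) : Matrix (Fin 2) (Fin 2) F) = 2
      rw [hg, Matrix.trace_fin_two_of]
      norm_num
    · show Matrix.trace ((g : Matrix.SpecialLinearGroup (Fin 2) F) : Matrix (Fin 2) (Fin 2) F) = 2
      rw [hg, Matrix.trace_fin_two_of]
      norm_num
  have hnp : ¬ IsPGroup p ↥G := by
    intro hpg
    obtain ⟨k, hk⟩ := hpg ⟨X * sl2U lam, G.mul_mem hXG hYG⟩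
    have hk' : (X * sl2U lam) ^ p ^ k = 1 := by
      have h1 := congrArg Subtype.val hk
      rwa [SubgroupClass.coe_pow, OneMemClass.coe_one] at h1
    have htr := trace_eq_two_of_pow p (X * sl2U lam) k hk'
    rw [trS_eq, e00_mul, e11_mul, e00_U, e01_U, e10_U, e11_U, hX00, hX01, hX10, hX11] at htr
    apply hlam
    linear_combination htr
  obtain ⟨k, hk, hcardG, hcases⟩ := count_cases G.subtype hinj hu hlam hp2 hgenG hnp
  have hk1_or : k = 1 ∨ (Nat.card (Pu G.subtype) = 3 ∧ k = 3 ∧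
      Nat.card (sqHom G.subtype).range = 2) := by
    rcases hcases with hb | hk1 | hexc
    · left; exact k1_of_hb1 G.subtype hinj hu hlam hp2 hgenG hnp hb k hk hcardG
    · left; exact hk1
    · right; exact hexc
  rcases hk1_or with hk1 | ⟨hq, hk3, hb⟩
  · left
    have htop : G = ⊤ :=
      top_of_k1 hp2 G lam hlam hgen (by rw [← hXd]; exact hXG) hYG (by rw [hk, hk1, one_mul])
    refine ⟨htop, ?_⟩
    rintro ⟨h9, hsq⟩
    have h9' : ((9 : ℕ) : F) = 0 := by rw [← h9]; exact Nat.cast_card_eq_zero F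
    have hdvd : p ∣ 3 ^ 2 := (CharP.cast_eq_zero_iff F p 9).1 h9'
    have hp3 : p = 3 :=
      (Nat.prime_dvd_prime_iff_eq hp Nat.prime_three).1 (hp.dvd_of_dvd_pow hdvd)
    subst hp3
    have hle := card_le_120 lam hsq G (le_of_eq hGd)
    rw [htop, Subgroup.card_top, sl2_card, h9] at hle
    norm_num at hle
  · right
    obtain ⟨-, m, hm⟩ := card_Pu_ge G.subtype hinj hu hlam hp2
    have hp3 : p = 3 := by
      rw [hq] at hm
      have hdvd : p ∣ 3 := by
        rcases m with _ | m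
        · simp at hm
        · rw [hm]; exact dvd_pow_self p (Nat.succ_ne_zero m)
      exact (Nat.prime_dvd_prime_iff_eq hp Nat.prime_three).1 hdvd
    subst hp3
    have hidx : (Bo G.subtype).index = 10 := by rw [hk, hk3, hq]
    have hz2 := card_Zs_le_two G.subtype hinj h2
    have hz1 : 1 ≤ Nat.card (Zs G.subtype) := Nat.card_pos
    have hcard60 : Nat.card G = 60 * Nat.card (Zs G.subtype) := by
      rw [hcardG, hq, hb, hidx]; ring
    have hdvd : Nat.card G ∣ 120 := by
      rw [hcard60]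
      obtain ⟨z, hz⟩ : ∃ z : ℕ, z = Nat.card (Zs G.subtype) := ⟨_, rfl⟩
      rw [← hz] at hz1 hz2 ⊢
      interval_cases z <;> norm_num
    have hne1 : lam ≠ 1 ∧ lam ≠ -1 := by
      have hno : ¬ (lam = 1 ∨ lam = -1) := by
        intro hl
        have h24 := card_le_24 lam hl G (le_of_eq hGd)
        omega
      exact ⟨fun h => hno (Or.inl h), fun h => hno (Or.inr h)⟩
    have hsq := exc_sq G lam (by rw [← hXd]; exact hXG) hYG hgenG hnp hidx hdvd hlam hne1.1 hne1.2
    have h9 := card_eq_nine lam hsq hgen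
    refine ⟨h9, hsq, ?_⟩
    have heven : 2 ∣ Nat.card G := by rw [hcard60]; exact Dvd.dvd.mul_right (by norm_num) _
    obtain ⟨g, hg⟩ := exists_prime_orderOf_dvd_card' 2 heven
    have hg2 : g * g = 1 := by
      have h1 := pow_orderOf_eq_one g
      rwa [hg, pow_two] at h1
    have hg1 : g ≠ 1 := by
      rintro rfl
      rw [orderOf_one] at hg
      norm_num at hg
    have hgZ : g ∈ Zs G.subtype := by
      rw [mem_Zs]
      apply scalar_of_sq h2
      exact congrArg Subtype.val hg2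
    have hz : Nat.card (Zs G.subtype) = 2 := by
      apply le_antisymm hz2
      have hnt : Nontrivial ↥(Zs G.subtype) :=
        ⟨⟨⟨g, hgZ⟩, 1, fun h => hg1 (congrArg Subtype.val h)⟩⟩
      exact Finite.one_lt_card
    rw [hcard60, hz]

end Cfsg.Agent.S0801
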