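import Mathlib
import Cfsg.Statements.S0994
import Cfsg.Agent.Helper5.Simple

namespace Cfsg.Agent.S0994

open Cfsg.Agent.Helper5

theorem result {G : Type*} [Group G] [Finite G] [IsSimpleGroup G] : Nat.card G ≠ 1188 := by
  intro hG
  have hnc : ¬ IsMulCommutative G := not_comm_of_not_prime (by rw [hG]; norm_num)
  have : Fact (Nat.Prime 11) := ⟨by norm_num⟩
  have : Fact (Nat.Prime 3) := ⟨by norm_num⟩
  let P : Sylow 11 G := default
  have hcardP : Nat.card P = 11 := by
    simpa using sylow_card_eq (p := 11) (k := 1) (m := 108) (hG.trans (by norm_num)) (by norm_num) P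
  have hPne : (P : Subgroup G) ≠ ⊥ := P.ne_bot_of_dvd_card (by rw [hG]; norm_num)
  have hn : Nat.card (Sylow 11 G) = 12 := by
    have h1 : Nat.card (Sylow 11 G) ∣ 108 :=
      card_sylow_dvd (p := 11) (k := 1) (m := 108) (hG.trans (by norm_num)) (by norm_num)
    have h2 := card_sylow_modEq_one 11 G
    have h3 : Nat.card (Sylow 11 G) ≠ 1 := card_sylow_ne_one hnc P hPne
    have hle := Nat.le_of_dvd (by norm_num) h1
    unfold Nat.ModEq at h2
    revert h1 h2 h3 hle
    generalize Nat.card (Sylow 11 G) = n
    intro h1 h2 h3 hle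
    interval_cases n <;> omega
  have hNcard : Nat.card (Subgroup.normalizer ((P : Subgroup G) : Set G)) = 99 := by
    have h1 := Subgroup.card_mul_index (Subgroup.normalizer ((P : Subgroup G) : Set G))
    have h0 : (Subgroup.normalizer ((P : Subgroup G) : Set G)).index = 12 := by
      rw [← hn]; exact P.card_eq_index_normalizer.symm
    rw [h0, hG] at h1
    omega
  have hNC : Subgroup.normalizer ((P : Subgroup G) : Set G) ≤
      Subgroup.centralizer ((P : Subgroup G) : Set G) := by
    apply normalizer_le_centralizer_of_coprime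
    have : IsCyclic (P : Subgroup G) := isCyclic_of_prime_card hcardP
    rw [IsCyclic.card_mulAut, hNcard]
    have h3 : Nat.card (P : Subgroup G) = 11 := hcardP
    rw [h3, Nat.totient_prime (by norm_num)]
    norm_num
  obtain ⟨z, hz⟩ := exists_prime_orderOf_dvd_card'
    (G := Subgroup.normalizer ((P : Subgroup G) : Set G)) 3 (by rw [hNcard]; norm_num)
  obtain ⟨y, hy⟩ := exists_prime_orderOf_dvd_card' (G := (P : Subgroup G)) 11
    (by rw [show Nat.card (P : Subgroup G) = 11 from hcardP])
  have hcomm : Commute (y : G) (z : G) :=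
    (Subgroup.mem_centralizer_iff.mp (hNC z.2)) y y.2
  have hord : orderOf ((y : G) * (z : G)) = 33 := by
    rw [hcomm.orderOf_mul_eq_mul_orderOf_of_coprime, Subgroup.orderOf_coe, Subgroup.orderOf_coe,
      hy, hz]
    rw [Subgroup.orderOf_coe, Subgroup.orderOf_coe, hy, hz]; norm_num
  classical
  have : Fintype (Sylow 11 G) := Fintype.ofFinite _
  have hinj := sylow_perm_injective hnc P hPne
  have hord' : orderOf (MulAction.toPermHom G (Sylow 11 G) ((y : G) * (z : G))) = 33 := by
    rw [orderOf_injective _ hinj, hord]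
  have h5 := perm_two_primes_le (MulAction.toPermHom G (Sylow 11 G) ((y : G) * (z : G)))
    (a := 3) (b := 11) (by norm_num) (by norm_num) (by norm_num) (by rw [hord']; norm_num)
    (by rw [hord']; norm_num)
  rw [← Nat.card_eq_fintype_card, hn] at h5
  omega

end Cfsg.Agent.S0994
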