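import Cfsg.Statements.S1160
import Cfsg.Agent.Helper23.OddPGroup

set_option autoImplicit false
open Cfsg

namespace Cfsg.Agent.S1160

open Cfsg.Agent.Helper23

section Tr

variable {P E : Type*} [Group P] [AddCommGroup E] [DistribMulAction P E]

/-- The trace operator `e ↦ ∑_{k<n} g^k • e`. -/
def trOp (g : P) (n : ℕ) : E →+ E :=
  ∑ k ∈ Finset.range n, DistribSMul.toAddMonoidHom E (g ^ k)

theorem trOp_apply (g : P) (n : ℕ) (e : E) :
    trOp g n e = ∑ k ∈ Finset.range n, (g ^ k) • e := by
  simp [trOp]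

theorem trOp_fixed {g : P} {n : ℕ} (hg : g ^ n = 1) (e : E) : g • trOp g n e = trOp g n e := by
  rw [trOp_apply, Finset.smul_sum]
  have h1 : ∀ k ∈ Finset.range n, g • (g ^ k • e) = g ^ (k + 1) • e := by
    intro k _; rw [← mul_smul, ← pow_succ']
  rw [Finset.sum_congr rfl h1]
  have h2 := Finset.sum_range_succ (fun k => g ^ k • e) n
  have h3 := Finset.sum_range_succ' (fun k => g ^ k • e) n
  rw [h3] at h2
  simp only [pow_zero, one_smul, hg] at h2
  exact add_right_cancel h2

theorem trOp_of_fixed {g : P} {e : E} (h : g • e = e) (n : ℕ) : trOp g n e = n • e := by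
  rw [trOp_apply]
  have h1 : ∀ k : ℕ, g ^ k • e = e := by
    intro k
    induction k with
    | zero => simp
    | succ k ih => rw [pow_succ, mul_smul, h, ih]
  rw [Finset.sum_congr rfl (fun k _ => h1 k), Finset.sum_const, Finset.card_range]

theorem trOp_comm {g h : P} (hc : Commute h g) (n : ℕ) (e : E) :
    trOp g n (h • e) = h • trOp g n e := by
  rw [trOp_apply, trOp_apply, Finset.smul_sum]
  refine Finset.sum_congr rfl (fun k _ => ?_)
  rw [← mul_smul, ← mul_smul, (hc.pow_right k).eq]

theorem trOp_eq_zero {g ζ : P} {n : ℕ} (hζc : ∀ a : P, Commute ζ a) (hζn : ζ ^ n = 1)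
    (hA : ∀ v : E, ζ • v = v → v = 0) {v : E} (hv : (g * ζ) • v = v) : trOp g n v = 0 := by
  have hA' : ∀ w : E, ζ⁻¹ • w = w → w = 0 := fun w hw => hA w (by
    calc ζ • w = ζ • (ζ⁻¹ • w) := by rw [hw]
      _ = w := smul_inv_smul ζ w)
  have h2 : ζ • (g • v) = v := by rw [← mul_smul, (hζc g).eq]; exact hv
  have h1 : g • v = ζ⁻¹ • v := by
    calc g • v = ζ⁻¹ • (ζ • (g • v)) := by rw [inv_smul_smul]
      _ = ζ⁻¹ • v := by rw [h2]
  have h3 : ∀ k : ℕ, g ^ k • v = (ζ⁻¹) ^ k • v := by
    intro k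
    induction k with
    | zero => simp
    | succ k ih =>
      calc g ^ (k + 1) • v = g ^ k • (g • v) := by rw [pow_succ, mul_smul]
        _ = g ^ k • (ζ⁻¹ • v) := by rw [h1]
        _ = ζ⁻¹ • (g ^ k • v) := by
          rw [← mul_smul, ← mul_smul, ((hζc (g ^ k)).inv_left).eq]
        _ = ζ⁻¹ • ((ζ⁻¹) ^ k • v) := by rw [ih]
        _ = (ζ⁻¹) ^ (k + 1) • v := by rw [pow_succ', mul_smul]
  have h4 : trOp g n v = trOp ζ⁻¹ n v := by
    rw [trOp_apply, trOp_apply]
    exact Finset.sum_congr rfl (fun k _ => h3 k)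
  rw [h4]
  exact hA' _ (trOp_fixed (by rw [inv_pow, hζn, inv_one]) v)

end Tr

theorem claimA {P E : Type*} [Group P] [Finite P] [AddCommGroup E] [DistribMulAction P E]
    [FaithfulSMul P E] {p : ℕ} (hinj2 : ∀ a b : E, p • a = p • b → a = b)
    (hK : ∀ a b : E, a ≠ 0 → b ≠ 0 → MulAction.stabilizer P a ≤ MulAction.stabilizer P b →
      MulAction.stabilizer P a = MulAction.stabilizer P b)
    (ζ : P) (hζc : ∀ a : P, Commute ζ a) (hζ1 : ζ ≠ 1) (hζp : ζ ^ p = 1) :
    ∀ a : E, ζ • a = a → a = 0 := by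
  intro a ha
  by_contra ha0
  have hinj : ∀ e : E, p • e = 0 → e = 0 := fun e he => hinj2 e 0 (by rw [he, smul_zero])
  have hall : ∀ e : E, ζ • e = e := by
    intro e
    have hTb : trOp ζ p (p • e - trOp ζ p e) = 0 := by
      rw [map_sub, map_nsmul, trOp_of_fixed (trOp_fixed hζp e) p, sub_self]
    have hb0 : p • e - trOp ζ p e = 0 := by
      by_contra hb0
      have hTa : trOp ζ p a = p • a := trOp_of_fixed ha p
      have hab : a + (p • e - trOp ζ p e) ≠ 0 := by
        intro h0
        have h1 : trOp ζ p (a + (p • e - trOp ζ p e)) = 0 := by rw [h0, map_zero]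
        rw [map_add, hTa, hTb, add_zero] at h1
        exact ha0 (hinj a h1)
      have hsplit : ∀ g : P, g • (a + (p • e - trOp ζ p e)) = a + (p • e - trOp ζ p e) →
          g • a = a ∧ g • (p • e - trOp ζ p e) = p • e - trOp ζ p e := by
        intro g hg
        have h1 : trOp ζ p (g • (a + (p • e - trOp ζ p e))) =
            g • trOp ζ p (a + (p • e - trOp ζ p e)) := trOp_comm (hζc g).symm p _
        rw [hg, map_add, hTa, hTb, add_zero] at h1
        have h2 : g • (p • a) = p • (g • a) := smul_comm g p a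
        have h3 : g • a = a := hinj2 _ _ (by rw [← h2, ← h1])
        refine ⟨h3, ?_⟩
        have h4 : g • a + g • (p • e - trOp ζ p e) = a + (p • e - trOp ζ p e) := by
          rw [← smul_add]; exact hg
        rw [h3] at h4
        exact add_left_cancel h4
      have hle1 : MulAction.stabilizer P (a + (p • e - trOp ζ p e)) ≤ MulAction.stabilizer P a :=
        fun g hg => MulAction.mem_stabilizer_iff.2 (hsplit g (MulAction.mem_stabilizer_iff.1 hg)).1
      have hle2 : MulAction.stabilizer P (a + (p • e - trOp ζ p e)) ≤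
          MulAction.stabilizer P (p • e - trOp ζ p e) :=
        fun g hg => MulAction.mem_stabilizer_iff.2 (hsplit g (MulAction.mem_stabilizer_iff.1 hg)).2
      have e1 := hK _ _ hab ha0 hle1
      have e2 := hK _ _ hab hb0 hle2
      have hζa : ζ ∈ MulAction.stabilizer P a := MulAction.mem_stabilizer_iff.2 ha
      rw [← e1, e2] at hζa
      have hζb : ζ • (p • e - trOp ζ p e) = p • e - trOp ζ p e :=
        MulAction.mem_stabilizer_iff.1 hζa
      have h5 : trOp ζ p (p • e - trOp ζ p e) = p • (p • e - trOp ζ p e) := trOp_of_fixed hζb p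
      rw [hTb] at h5
      exact hb0 (hinj _ h5.symm)
    have h5 : p • e = trOp ζ p e := sub_eq_zero.1 hb0
    have h6 : ζ • (p • e) = p • e := by
      have h7 := trOp_fixed hζp e
      rw [← h5] at h7
      exact h7
    have h7 : ζ • (p • e) = p • (ζ • e) := smul_comm ζ p e
    exact hinj2 _ _ (by rw [← h7, h6])
  apply hζ1
  apply FaithfulSMul.eq_of_smul_eq_smul (α := E)
  intro e
  rw [hall e, one_smul]

theorem final {P E : Type*} [Group P] [Finite P] [AddCommGroup E] [DistribMulAction P E]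
    {p : ℕ} (hp : p.Prime) (hp2 : p ≠ 2) (hinj2 : ∀ a b : E, p • a = p • b → a = b)
    (hK : ∀ a b : E, a ≠ 0 → b ≠ 0 → MulAction.stabilizer P a ≤ MulAction.stabilizer P b →
      MulAction.stabilizer P a = MulAction.stabilizer P b)
    (hA : ∀ ζ : P, (∀ a : P, Commute ζ a) → ζ ≠ 1 → ζ ^ p = 1 → ∀ v : E, ζ • v = v → v = 0)
    (z : P) (hzc : ∀ a : P, Commute z a) (hzp : z ^ p = 1)
    (x : P) (hx1 : x ≠ 1) (hxp : x ^ p = 1)
    (hxg : ∀ g : P, g * x * g⁻¹ * x⁻¹ ∈ Subgroup.zpowers z)
    (a : E) (ha0 : a ≠ 0) (hxa : x • a = a) : False := by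
  have hinj : ∀ e : E, p • e = 0 → e = 0 := fun e he => hinj2 e 0 (by rw [he, smul_zero])
  have hZc : ∀ c ∈ Subgroup.zpowers z, ∀ a : P, Commute c a := by
    intro c hc a
    obtain ⟨i, rfl⟩ := Subgroup.mem_zpowers_iff.1 hc
    exact (hzc a).zpow_left i
  have hZp : ∀ c ∈ Subgroup.zpowers z, c ^ p = 1 := by
    intro c hc
    obtain ⟨i, rfl⟩ := Subgroup.mem_zpowers_iff.1 hc
    rw [← zpow_natCast, ← zpow_mul, mul_comm, zpow_mul, zpow_natCast, hzp, one_zpow]
  have hxnc : ∃ g₀ : P, g₀ * x * g₀⁻¹ * x⁻¹ ≠ 1 := by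
    by_contra hcon
    push Not at hcon
    have hxc : ∀ g : P, Commute x g := by
      intro g
      have h1 := hcon g
      have h2 : g * x = x * g := by
        have h3 : g * x = (g * x * g⁻¹ * x⁻¹) * (x * g) := by group
        rw [h3, h1, one_mul]
      exact h2.symm
    exact ha0 (hA x hxc hx1 hxp a hxa)
  obtain ⟨g₀, hg₀⟩ := hxnc
  obtain ⟨c, hc⟩ : ∃ c, c = g₀ * x * g₀⁻¹ * x⁻¹ := ⟨_, rfl⟩
  rw [← hc] at hg₀
  have hcZ : c ∈ Subgroup.zpowers z := hc ▸ hxg g₀
  have hcc := hZc c hcZ
  have hcp := hZp c hcZ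
  have e1 : x * c * g₀ = g₀ * x := by rw [← (hcc x).eq, hc]; group
  have hb : (x * c) • (g₀ • a) = g₀ • a := by
    rw [← mul_smul, e1, mul_smul, hxa]
  have hb0 : g₀ • a ≠ 0 := by
    intro h; exact ha0 ((smul_eq_zero_iff_eq g₀).1 h)
  have hci1 : c⁻¹ ≠ 1 := by intro h; exact hg₀ (inv_eq_one.1 h)
  have hcci : ∀ a : P, Commute c⁻¹ a := fun a => (hcc a).inv_left
  have hcip : c⁻¹ ^ p = 1 := by rw [inv_pow, hcp, inv_one]
  have hTa : trOp x p a = p • a := trOp_of_fixed hxa p
  have hTb : trOp x p (g₀ • a) = 0 := trOp_eq_zero hcc hcp (hA c hcc hg₀ hcp) hb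
  have hT'b : trOp (x * c) p (g₀ • a) = p • (g₀ • a) := trOp_of_fixed hb p
  have hT'a : trOp (x * c) p a = 0 :=
    trOp_eq_zero hcci hcip (hA c⁻¹ hcci hci1 hcip) (by rw [mul_inv_cancel_right]; exact hxa)
  have hsplit : ∀ g : P, g • (a + g₀ • a) = a + g₀ • a →
      g • a = a ∧ g • (g₀ • a) = g₀ • a := by
    intro g hg
    obtain ⟨c', hc'⟩ : ∃ c', c' = g * x * g⁻¹ * x⁻¹ := ⟨_, rfl⟩
    have hc'Z : c' ∈ Subgroup.zpowers z := hc' ▸ hxg g
    have hc'c := hZc c' hc'Z
    have hc'p := hZp c' hc'Z
    have hgx : x * c' * g = g * x := by rw [← (hc'c x).eq, hc']; group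
    have hsum : g • a + g • (g₀ • a) = a + g₀ • a := by rw [← smul_add]; exact hg
    by_cases hc'1 : c' = 1
    · have hcomm : Commute g x := by
        rw [hc'1, mul_one] at hgx
        exact hgx.symm
      have h1 : trOp x p (g • (a + g₀ • a)) = g • trOp x p (a + g₀ • a) := trOp_comm hcomm p _
      rw [hg, map_add, hTa, hTb, add_zero] at h1
      have h2 : g • (p • a) = p • (g • a) := smul_comm g p a
      have h3 : g • a = a := hinj2 _ _ (by rw [← h2, ← h1])
      refine ⟨h3, ?_⟩
      rw [h3] at hsum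
      exact add_left_cancel hsum
    · exfalso
      have h1 : (x * c') • (g • a) = g • a := by
        rw [← mul_smul, hgx, mul_smul, hxa]
      have h2 : (x * (c' * c)) • (g • (g₀ • a)) = g • (g₀ • a) := by
        have e2 : x * (c' * c) * g = g * (x * c) := by
          calc x * (c' * c) * g = x * c' * (c * g) := by group
            _ = x * c' * (g * c) := by rw [(hcc g).eq]
            _ = (x * c' * g) * c := by group
            _ = g * (x * c) := by rw [hgx]; group
        rw [← mul_smul, e2, mul_smul, hb]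
      have hTga : trOp x p (g • a) = 0 := trOp_eq_zero hc'c hc'p (hA c' hc'c hc'1 hc'p) h1
      by_cases hcc1 : c' * c = 1
      · have hc'eq : c' = c⁻¹ := eq_inv_of_mul_eq_one_left hcc1
        have hd1 : c⁻¹ * c⁻¹ ≠ 1 := by
          intro h
          have h2' : c ^ 2 = 1 := by
            have h3 : (c⁻¹ * c⁻¹)⁻¹ = 1 := by rw [h, inv_one]
            rw [mul_inv_rev, inv_inv] at h3
            rw [pow_two]; exact h3
          have ho2 : orderOf c ∣ 2 := orderOf_dvd_of_pow_eq_one h2'
          have hop : orderOf c ∣ p := orderOf_dvd_of_pow_eq_one hcp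
          have hcop : Nat.Coprime 2 p := (Nat.coprime_primes Nat.prime_two hp).2 (Ne.symm hp2)
          have h4 : orderOf c ∣ 1 := by
            have h5 := Nat.dvd_gcd ho2 hop
            rwa [hcop.gcd_eq_one] at h5
          exact hg₀ (orderOf_eq_one_iff.1 (Nat.dvd_one.1 h4))
        have hdc : ∀ a : P, Commute (c⁻¹ * c⁻¹) a := fun a => (hcci a).mul_left (hcci a)
        have hdp : (c⁻¹ * c⁻¹) ^ p = 1 := by
          rw [(Commute.refl c⁻¹).mul_pow, hcip, one_mul]
        have h1' : (x * c * (c⁻¹ * c⁻¹)) • (g • a) = g • a := by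
          have e3 : x * c * (c⁻¹ * c⁻¹) = x * c' := by rw [hc'eq]; group
          rw [e3]; exact h1
        have hT'ga : trOp (x * c) p (g • a) = 0 :=
          trOp_eq_zero hdc hdp (hA _ hdc hd1 hdp) h1'
        have h2' : (x * c * c⁻¹) • (g • (g₀ • a)) = g • (g₀ • a) := by
          have e4 : x * c * c⁻¹ = x * (c' * c) := by rw [hcc1]; group
          rw [e4]; exact h2
        have hT'gb : trOp (x * c) p (g • (g₀ • a)) = 0 :=
          trOp_eq_zero hcci hcip (hA _ hcci hci1 hcip) h2'
        have h5 : trOp (x * c) p (g • a + g • (g₀ • a)) = trOp (x * c) p (a + g₀ • a) := by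
          rw [hsum]
        rw [map_add, map_add, hT'ga, hT'gb, hT'a, hT'b, add_zero, zero_add] at h5
        exact hb0 (hinj _ h5.symm)
      · have hd'c : ∀ a : P, Commute (c' * c) a := fun a => (hc'c a).mul_left (hcc a)
        have hd'p : (c' * c) ^ p = 1 := by rw [(hc'c c).mul_pow, hc'p, hcp, one_mul]
        have hTgb : trOp x p (g • (g₀ • a)) = 0 :=
          trOp_eq_zero hd'c hd'p (hA _ hd'c hcc1 hd'p) h2
        have h5 : trOp x p (g • a + g • (g₀ • a)) = trOp x p (a + g₀ • a) := by rw [hsum]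
        rw [map_add, map_add, hTga, hTgb, hTa, hTb, add_zero, add_zero] at h5
        exact ha0 (hinj _ h5.symm)
  have hab : a + g₀ • a ≠ 0 := by
    intro h0
    have h1 : trOp x p (a + g₀ • a) = 0 := by rw [h0, map_zero]
    rw [map_add, hTa, hTb, add_zero] at h1
    exact ha0 (hinj a h1)
  have hle1 : MulAction.stabilizer P (a + g₀ • a) ≤ MulAction.stabilizer P a :=
    fun g hg => MulAction.mem_stabilizer_iff.2 (hsplit g (MulAction.mem_stabilizer_iff.1 hg)).1
  have hle2 : MulAction.stabilizer P (a + g₀ • a) ≤ MulAction.stabilizer P (g₀ • a) :=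
    fun g hg => MulAction.mem_stabilizer_iff.2 (hsplit g (MulAction.mem_stabilizer_iff.1 hg)).2
  have e5 := hK _ _ hab ha0 hle1
  have e6 := hK _ _ hab hb0 hle2
  have hxs : x ∈ MulAction.stabilizer P a := MulAction.mem_stabilizer_iff.2 hxa
  rw [← e5, e6] at hxs
  have hxb : x • (g₀ • a) = g₀ • a := MulAction.mem_stabilizer_iff.1 hxs
  have hcb : c • (g₀ • a) = g₀ • a := by
    calc c • (g₀ • a) = c • (x • (g₀ • a)) := by rw [hxb]
      _ = (x * c) • (g₀ • a) := by rw [← mul_smul, (hcc x).eq]
      _ = g₀ • a := hb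
  exact hb0 (hA c hcc hg₀ hcp _ hcb)

/-- Let `p ≠ 2` be prime and `P` a finite `p`-group acting faithfully by additive automorphisms on a finite elementary abelian `q`-group `E` (`q` prime), such that `|P_a|` is the same for all `a ≠ 0`. Then `P` is cyclic and every non-identity element of `P` fixes only `0`. -/
theorem result {P E : Type*} [Group P] [Finite P]
    [AddCommGroup E] [Finite E] [DistribMulAction P E] [FaithfulSMul P E]
    {p q : ℕ} [Fact p.Prime] (hp2 : p ≠ 2) (hP : IsPGroup p P) (hq : q.Prime) (hE : ∀ e : E, q • e = 0)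
    (hconst : ∀ a b : E, a ≠ 0 → b ≠ 0 →
      Nat.card (MulAction.stabilizer P a) = Nat.card (MulAction.stabilizer P b)) :
    IsCyclic P ∧ ∀ g : P, g ≠ 1 → ∀ a : E, g • a = a → a = 0 := by
  have hp : p.Prime := Fact.out
  have hK : ∀ a b : E, a ≠ 0 → b ≠ 0 → MulAction.stabilizer P a ≤ MulAction.stabilizer P b →
      MulAction.stabilizer P a = MulAction.stabilizer P b :=
    fun a b ha hb hle => Subgroup.eq_of_le_of_card_ge hle (hconst b a hb ha).le
  have hfaith : ∀ g : P, (∀ e : E, g • e = e) → g = 1 := by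
    intro g hg
    apply FaithfulSMul.eq_of_smul_eq_smul (α := E)
    intro e; rw [hg e, one_smul]
  have hcyc : IsCyclic P := by
    by_contra hnc
    by_cases hqp : q = p
    · by_cases hE0 : ∀ e : E, e = 0
      · have h1 : ∀ g : P, g = 1 := fun g => hfaith g (fun e => by rw [hE0 e, smul_zero])
        have : Subsingleton P := ⟨fun a b => by rw [h1 a, h1 b]⟩
        exact hnc isCyclic_of_subsingleton
      · push Not at hE0
        obtain ⟨e₀, he₀⟩ := hE0
        have : Fact q.Prime := ⟨hq⟩
        have hEp : IsPGroup q (Multiplicative E) := by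
          intro g
          refine ⟨1, ?_⟩
          rw [pow_one]
          exact congrArg Multiplicative.ofAdd (hE (Multiplicative.toAdd g))
        obtain ⟨m, hm⟩ := IsPGroup.iff_card.1 hEp
        have hcardE : Nat.card E = q ^ m := (Nat.card_congr Multiplicative.toAdd).symm.trans hm
        have hm0 : m ≠ 0 := by
          rintro rfl
          rw [pow_zero] at hcardE
          have : Subsingleton E := (Nat.card_eq_one_iff_unique.1 hcardE).1
          exact he₀ (Subsingleton.elim _ _)
        have hdvd : p ∣ Nat.card E := by rw [hcardE, ← hqp]; exact dvd_pow_self q hm0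
        have h0fix : (0 : E) ∈ MulAction.fixedPoints P E := fun g => smul_zero g
        obtain ⟨b, hbfix, hb0⟩ :=
          hP.exists_fixed_point_of_prime_dvd_card_of_fixed_point E hdvd h0fix
        have h1 : MulAction.stabilizer P b = ⊤ := by
          rw [eq_top_iff]; intro g _; exact MulAction.mem_stabilizer_iff.2 (hbfix g)
        have hstab : ∀ e : E, e ≠ 0 → ∀ g : P, g • e = e := by
          intro e he g
          have h2 := hK e b he (Ne.symm hb0) (by rw [h1]; exact le_top)
          have h3 : g ∈ MulAction.stabilizer P e := by rw [h2, h1]; trivial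
          exact MulAction.mem_stabilizer_iff.1 h3
        have h4 : ∀ g : P, g = 1 := fun g => hfaith g (fun e => by
          by_cases he : e = 0
          · rw [he, smul_zero]
          · exact hstab e he g)
        have : Subsingleton P := ⟨fun a b => by rw [h4 a, h4 b]⟩
        exact hnc isCyclic_of_subsingleton
    · have hcop : Nat.Coprime p q := (Nat.coprime_primes hp hq).2 (Ne.symm hqp)
      obtain ⟨m, -, hm⟩ := Nat.exists_mul_mod_eq_one_of_coprime hcop hq.one_lt
      have hinv : ∀ e : E, m • (p • e) = e := by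
        intro e
        have h1 : p * m = q * (p * m / q) + 1 := by
          have h2 := Nat.div_add_mod (p * m) q
          rw [hm] at h2; exact h2.symm
        rw [← mul_nsmul, h1, add_nsmul, one_nsmul, mul_nsmul, hE, nsmul_zero, zero_add]
      have hinj2 : ∀ a b : E, p • a = p • b → a = b := by
        intro a b h
        rw [← hinv a, h, hinv b]
      obtain ⟨z, x, hzc, hz1, hzp, hxp, hxn, hxg⟩ := exists_normal_rank_two hp2 hP hnc
      have hzc' : ∀ a : P, Commute z a := fun a => (Subgroup.mem_center_iff.1 hzc a).symm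
      have hA : ∀ ζ : P, (∀ a : P, Commute ζ a) → ζ ≠ 1 → ζ ^ p = 1 →
          ∀ v : E, ζ • v = v → v = 0 :=
        fun ζ hζc hζ1 hζp => claimA hinj2 hK ζ hζc hζ1 hζp
      have hzo : orderOf z = p := orderOf_eq_prime hzp hz1
      have hSig : ∀ e : E, ∑ i ∈ Finset.range p, trOp (x * z ^ i) p e = p • e := by
        intro e
        simp only [trOp_apply]
        rw [Finset.sum_comm, Finset.sum_eq_single 0]
        · simp
        · intro k hk hk0
          have hzk1 : z ^ k ≠ 1 := by
            intro h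
            have h1 : p ∣ k := by rw [← hzo]; exact orderOf_dvd_of_pow_eq_one h
            have h2 := Nat.le_of_dvd (Nat.pos_of_ne_zero hk0) h1
            have h3 := Finset.mem_range.1 hk
            omega
          have hzkc : ∀ a : P, Commute (z ^ k) a := fun a => (hzc' a).pow_left k
          have hzkp : (z ^ k) ^ p = 1 := by rw [← pow_mul, mul_comm, pow_mul, hzp, one_pow]
          have h1 : ∀ i ∈ Finset.range p, (x * z ^ i) ^ k • e = x ^ k • ((z ^ k) ^ i • e) := by
            intro i _
            rw [((hzc' x).symm.pow_right i).mul_pow, mul_smul, ← pow_mul, ← pow_mul,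
              mul_comm i k]
          rw [Finset.sum_congr rfl h1, ← Finset.smul_sum, ← trOp_apply,
            hA (z ^ k) hzkc hzk1 hzkp _ (trOp_fixed hzkp e), smul_zero]
        · intro h0
          exact absurd (Finset.mem_range.2 hp.pos) h0
      obtain ⟨e₀, he₀⟩ : ∃ e : E, z • e ≠ e := by
        by_contra hcon
        push Not at hcon
        exact hz1 (hfaith z hcon)
      have he₀0 : e₀ ≠ 0 := by
        rintro rfl
        exact he₀ (smul_zero z)
      obtain ⟨i, hi, hai⟩ : ∃ i ∈ Finset.range p, trOp (x * z ^ i) p e₀ ≠ 0 := by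
        by_contra hcon
        push Not at hcon
        have h1 := hSig e₀
        rw [Finset.sum_eq_zero hcon] at h1
        exact he₀0 (hinj2 e₀ 0 (by rw [← h1, smul_zero]))
      have hx'p : (x * z ^ i) ^ p = 1 := by
        rw [((hzc' x).symm.pow_right i).mul_pow, hxp, one_mul, ← pow_mul, mul_comm, pow_mul,
          hzp, one_pow]
      have hx'1 : x * z ^ i ≠ 1 := by
        intro h
        apply hxn
        have h1 : x = (z ^ i)⁻¹ := eq_inv_of_mul_eq_one_left h
        rw [h1]
        exact Subgroup.inv_mem _ (Subgroup.pow_mem _ (Subgroup.mem_zpowers z) i)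
      have hx'g : ∀ g : P, g * (x * z ^ i) * g⁻¹ * (x * z ^ i)⁻¹ ∈ Subgroup.zpowers z := by
        intro g
        have hc : Commute (z ^ i) g⁻¹ := (hzc' g⁻¹).pow_left i
        have e1 : g * (x * z ^ i) * g⁻¹ * (x * z ^ i)⁻¹ =
            g * x * (z ^ i * g⁻¹) * (z ^ i)⁻¹ * x⁻¹ := by group
        rw [e1, hc.eq]
        have e2 : g * x * (g⁻¹ * z ^ i) * (z ^ i)⁻¹ * x⁻¹ = g * x * g⁻¹ * x⁻¹ := by group
        rw [e2]; exact hxg g
      exact final hp hp2 hinj2 hK hA z hzc' hzp (x * z ^ i) hx'1 hx'p hx'g _ hai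
        (trOp_fixed hx'p e₀)
  refine ⟨hcyc, ?_⟩
  intro g hg1 a hga
  by_contra ha0
  apply hg1
  apply hfaith
  intro e
  by_cases he : e = 0
  · rw [he, smul_zero]
  · have h1 : MulAction.stabilizer P a = MulAction.stabilizer P e :=
      eq_of_card_eq_of_isCyclic _ _ (hconst a e ha0 he)
    have h2 : g ∈ MulAction.stabilizer P e := by
      rw [← h1]; exact MulAction.mem_stabilizer_iff.2 hga
    exact MulAction.mem_stabilizer_iff.1 h2

end Cfsg.Agent.S1160
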