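-- S1249: proof by helper7
import Cfsg.Statements.S1249
import Mathlib

set_option autoImplicit false
open Cfsg

namespace Cfsg.Agent.S1249

/-- Let P and Q be Sylow p-subgroups of the finite group G both containing the subgroup A. If A is strongly closed in P, then A is strongly closed in Q. -/
theorem result {G : Type*} [Group G] [Finite G] {p : ℕ} [Fact p.Prime] (P Q : Sylow p G) (A : Subgroup G) (hAQ : A ≤ Q) (hA : Cfsg.IsStronglyClosed A (P : Subgroup G)) : Cfsg.IsStronglyClosed A (Q : Subgroup G) := by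
  obtain ⟨g, rfl⟩ := MulAction.exists_smul_eq G P Q
  have hmem : ∀ x, x ∈ ((g • P : Sylow p G) : Subgroup G) ↔ g⁻¹ * x * g ∈ (P : Subgroup G) := by
    intro x
    rw [Sylow.smul_def, Sylow.pointwise_smul_def, Subgroup.mem_pointwise_smul_iff_inv_smul_mem]
    simp [MulAut.smul_def]
  obtain ⟨hAP, hcl⟩ := hA
  have h1 : ∀ a ∈ A, g⁻¹ * a * g ∈ A := by
    intro a ha
    have h := hcl a ha g⁻¹
    rw [inv_inv] at h
    exact h ((hmem a).mp (hAQ ha))
  let f : A → A := fun a => ⟨g⁻¹ * a * g, h1 a a.2⟩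
  have finj : Function.Injective f := by
    intro a b hab
    have h := congrArg Subtype.val hab
    simp only [f] at h
    exact Subtype.ext (by simpa using h)
  have fsurj := Finite.injective_iff_surjective.mp finj
  have h2 : ∀ y ∈ A, g * y * g⁻¹ ∈ A := by
    intro y hy
    obtain ⟨a, ha⟩ := fsurj ⟨y, hy⟩
    have h3 : g⁻¹ * a * g = y := congrArg Subtype.val ha
    have h4 : g * y * g⁻¹ = a := by rw [← h3]; group
    rw [h4]; exact a.2
  refine ⟨hAQ, ?_⟩
  intro x hx h hxh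
  have h5 : g⁻¹ * (h * x * h⁻¹) * g ∈ (P : Subgroup G) := (hmem _).mp hxh
  have h6 : (g⁻¹ * h) * x * (g⁻¹ * h)⁻¹ ∈ A := by
    apply hcl x hx
    have : (g⁻¹ * h) * x * (g⁻¹ * h)⁻¹ = g⁻¹ * (h * x * h⁻¹) * g := by group
    rw [this]; exact h5
  have h7 := h2 _ h6
  have h8 : g * ((g⁻¹ * h) * x * (g⁻¹ * h)⁻¹) * g⁻¹ = h * x * h⁻¹ := by group
  rw [h8] at h7
  exact h7

end Cfsg.Agent.S1249
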