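-- S1250: proof by helper7
import Cfsg.Statements.S1250
import Mathlib

set_option autoImplicit false
open Cfsg

namespace Cfsg.Agent.S1250

/-- Let S be a Sylow p-subgroup of the finite group G, A ≤ S strongly closed in S, and N a normal subgroup. Then the image of A in G ⧸ N is strongly closed in the image of S (which is a Sylow p-subgroup of G ⧸ N). -/
theorem result {G : Type*} [Group G] [Finite G] {p : ℕ} [Fact p.Prime] (S : Sylow p G) (A : Subgroup G) (hA : Cfsg.IsStronglyClosed A (S : Subgroup G)) (N : Subgroup G) [N.Normal] : Cfsg.IsStronglyClosed (A.map (QuotientGroup.mk' N)) ((S : Subgroup G).map (QuotientGroup.mk' N)) := by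
  classical
  obtain ⟨hAS, hcl⟩ := hA
  refine ⟨Subgroup.map_mono hAS, ?_⟩
  rintro _ ⟨a, ha, rfl⟩ gbar hg
  obtain ⟨g, rfl⟩ := QuotientGroup.mk'_surjective N gbar
  have hg' : QuotientGroup.mk' N (g * a * g⁻¹) ∈ (S : Subgroup G).map (QuotientGroup.mk' N) := by
    simpa using hg
  obtain ⟨s, hs, hsy⟩ := hg'
  set y : G := g * a * g⁻¹ with hy
  have hn : s⁻¹ * y ∈ N := QuotientGroup.eq.mp hsy
  set K : Subgroup G := (S : Subgroup G) ⊔ N with hK
  have hSK : (S : Subgroup G) ≤ K := le_sup_left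
  have hNK : N ≤ K := le_sup_right
  have hyK : y ∈ K := by
    have h1 : y = s * (s⁻¹ * y) := by group
    rw [h1]; exact K.mul_mem (hSK hs) (hNK hn)
  set Y : Subgroup G := (S : Subgroup G).map (MulAut.conj g).toMonoidHom with hYdef
  have hYp : IsPGroup p Y := S.isPGroup'.map _
  have hyY : y ∈ Y := ⟨a, hAS ha, rfl⟩
  obtain ⟨Q, hQ⟩ := (hYp.comap_of_injective K.subtype K.subtype_injective).exists_le_sylow
  obtain ⟨k, hk⟩ := MulAction.exists_smul_eq K (S.subtype hSK) Q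
  have hyQ : (⟨y, hyK⟩ : K) ∈ (Q : Subgroup K) :=
    hQ (show (⟨y, hyK⟩ : K) ∈ Y.comap K.subtype from hyY)
  rw [← hk, Sylow.smul_def, Sylow.pointwise_smul_def, Subgroup.mem_pointwise_smul_iff_inv_smul_mem] at hyQ
  have hyS : (k : G)⁻¹ * y * (k : G) ∈ (S : Subgroup G) := by
    have h1 : (MulAut.conj k)⁻¹ • (⟨y, hyK⟩ : K) = k⁻¹ * ⟨y, hyK⟩ * k := by simp [MulAut.smul_def]
    rw [h1, Sylow.coe_subtype, Subgroup.mem_subgroupOf] at hyQ
    simpa using hyQ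
  have hkinv : (k : G)⁻¹ ∈ (S : Subgroup G) ⊔ N := K.inv_mem k.2
  obtain ⟨s₁, hs₁, n₁, hn₁, hsn⟩ := Subgroup.mem_sup_of_normal_right.mp hkinv
  have hz : n₁ * y * n₁⁻¹ ∈ (S : Subgroup G) := by
    have hk' : (k : G) = n₁⁻¹ * s₁⁻¹ := by
      rw [← inv_inv (k : G), ← hsn]; group
    have h1 : n₁ * y * n₁⁻¹ = s₁⁻¹ * ((k : G)⁻¹ * y * (k : G)) * s₁ := by
      rw [hk']; group
    rw [h1]
    exact Subgroup.mul_mem _ (Subgroup.mul_mem _ (Subgroup.inv_mem _ hs₁) hyS) hs₁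
  have hzA : n₁ * y * n₁⁻¹ ∈ A := by
    have h1 : n₁ * y * n₁⁻¹ = (n₁ * g) * a * (n₁ * g)⁻¹ := by rw [hy]; group
    rw [h1] at hz ⊢
    exact hcl a ha _ hz
  refine ⟨n₁ * y * n₁⁻¹, hzA, ?_⟩
  have hn1 : QuotientGroup.mk' N n₁ = 1 := (QuotientGroup.eq_one_iff n₁).mpr hn₁
  rw [map_mul, map_mul, map_inv, hn1, hy]
  simp

end Cfsg.Agent.S1250
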