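-- S1924: consequence of Thompson's transfer lemma (dihedral complement), via signs of coset actions.
import Mathlib
import Cfsg.Statements.S1924
import Cfsg.Agent.Helper6.PResidual
import Cfsg.Agent.Helper23.Replacement
import Cfsg.Agent.Helper9.ElemTwo

set_option autoImplicit false
open Cfsg

namespace Cfsg.Agent.S1924

/-- Sign of a permutation all of whose cycles have length `2 ^ (r + 1)`. -/
theorem sign_of_free {α : Type*} [Fintype α] [DecidableEq α] (σ : Equiv.Perm α) (r : ℕ)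
    (h1 : σ ^ (2 ^ (r + 1)) = 1) (h2 : ∀ a, (σ ^ (2 ^ r)) a ≠ a) (m : ℕ)
    (hm : Fintype.card α = 2 ^ (r + 1) * m) : Equiv.Perm.sign σ = (-1) ^ m := by
  have hall : ∀ n ∈ σ.cycleType, n = 2 ^ (r + 1) := by
    intro n hn
    have hdvd : n ∣ 2 ^ (r + 1) :=
      (Equiv.Perm.dvd_of_mem_cycleType hn).trans (orderOf_dvd_of_pow_eq_one h1)
    obtain ⟨i, hi, rfl⟩ := (Nat.dvd_prime_pow Nat.prime_two).1 hdvd
    by_contra hne
    have hi' : i ≤ r := by
      by_contra hcon
      have hir : i = r + 1 := by omega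
      exact hne (by rw [hir])
    obtain ⟨c, τ, hστ, hdisj, hcyc, hcard⟩ := Equiv.Perm.mem_cycleType_iff.1 hn
    have hc1 : c ^ (2 ^ r) = 1 := by
      apply orderOf_dvd_iff_pow_eq_one.1
      rw [hcyc.orderOf, hcard]
      exact pow_dvd_pow 2 hi'
    obtain ⟨a, ha, -⟩ := hcyc
    have hτa : τ a = a := (hdisj a).resolve_left ha
    apply h2 a
    rw [hστ, hdisj.commute.mul_pow, hc1, one_mul]
    exact Equiv.Perm.pow_apply_eq_self_of_apply_eq_self hτa _
  have hrep : σ.cycleType = Multiset.replicate (Multiset.card σ.cycleType) (2 ^ (r + 1)) :=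
    Multiset.eq_replicate_card.2 hall
  have hsupp : σ.support = Finset.univ := by
    ext a
    simp only [Equiv.Perm.mem_support, Finset.mem_univ, iff_true]
    intro ha
    exact h2 a (Equiv.Perm.pow_apply_eq_self_of_apply_eq_self ha _)
  have hsum : σ.cycleType.sum = Fintype.card α := by
    rw [Equiv.Perm.sum_cycleType, hsupp, Finset.card_univ]
  have hk : Multiset.card σ.cycleType = m := by
    have hsum' := hsum
    rw [hrep, Multiset.sum_replicate, smul_eq_mul, hm] at hsum'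
    have hpos : 0 < 2 ^ (r + 1) := by positivity
    exact Nat.eq_of_mul_eq_mul_right hpos (by rw [hsum', mul_comm])
  rw [Equiv.Perm.sign_of_cycleType, hsum, hk, hm, pow_add, pow_mul,
    (Nat.even_pow.2 ⟨even_two, Nat.succ_ne_zero r⟩).neg_one_pow, one_pow, one_mul]

/-- Generalized Thompson transfer: an index-two subgroup from the sign of the coset action. -/
theorem idx2 {H : Type*} [Group H] [Finite H] (U : Subgroup H) (y : H) (r m : ℕ)
    (hy : orderOf y = 2 ^ (r + 1)) (hm : Odd m)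
    (hcard : Nat.card H = Nat.card U * 2 ^ (r + 1) * m)
    (hfree : ∀ g : H, g * y ^ (2 ^ r) * g⁻¹ ∉ U) :
    ∃ N : Subgroup H, N.index = 2 ∧
      (∀ y' : H, orderOf y' = 2 ^ (r + 1) → (∀ g : H, g * y' ^ (2 ^ r) * g⁻¹ ∉ U) → y' ∉ N) ∧
      ∀ g : H, Odd (orderOf g) → g ∈ N := by
  classical
  haveI : Fintype (H ⧸ U) := Fintype.ofFinite _
  obtain ⟨φ, hφdef⟩ : ∃ φ : H →* ℤˣ,
      φ = Equiv.Perm.sign.comp (MulAction.toPermHom H (H ⧸ U)) := ⟨_, rfl⟩
  have hidx : Fintype.card (H ⧸ U) = 2 ^ (r + 1) * m := by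
    have h1 := U.card_mul_index
    rw [hcard, mul_assoc] at h1
    have h2 : U.index = 2 ^ (r + 1) * m := Nat.eq_of_mul_eq_mul_left Nat.card_pos h1
    rw [← Nat.card_eq_fintype_card, ← Subgroup.index_eq_card, h2]
  have hφ : ∀ y' : H, orderOf y' = 2 ^ (r + 1) → (∀ g : H, g * y' ^ (2 ^ r) * g⁻¹ ∉ U) →
      φ y' = -1 := by
    intro y' hy' hfree'
    have hσ1 : (MulAction.toPermHom H (H ⧸ U) y') ^ (2 ^ (r + 1)) = 1 := by
      rw [← map_pow, ← hy', pow_orderOf_eq_one, map_one]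
    have hσ2 : ∀ a, ((MulAction.toPermHom H (H ⧸ U) y') ^ (2 ^ r)) a ≠ a := by
      intro a
      rw [← map_pow]
      obtain ⟨z, hz⟩ : ∃ z, z = y' ^ (2 ^ r) := ⟨_, rfl⟩
      rw [← hz]
      obtain ⟨g, rfl⟩ := QuotientGroup.mk_surjective a
      intro hfix
      have hfix' : (QuotientGroup.mk (z * g) : H ⧸ U) = QuotientGroup.mk g := hfix
      rw [QuotientGroup.eq] at hfix'
      apply hfree' g⁻¹
      rw [← hz]
      have e : g⁻¹ * z * g⁻¹⁻¹ = ((z * g)⁻¹ * g)⁻¹ := by group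
      rw [e]
      exact U.inv_mem hfix'
    have h3 := sign_of_free (MulAction.toPermHom H (H ⧸ U) y') r hσ1 hσ2 m hidx
    rw [hm.neg_one_pow] at h3
    rw [hφdef]
    exact h3
  refine ⟨φ.ker, ?_, ?_, ?_⟩
  · have hsurj : Function.Surjective φ := by
      intro u
      rcases Int.units_eq_one_or u with rfl | rfl
      · exact ⟨1, map_one φ⟩
      · exact ⟨y, hφ y hy hfree⟩
    rw [Subgroup.index_ker, MonoidHom.range_eq_top.2 hsurj, Subgroup.card_top,
      Nat.card_eq_fintype_card, Fintype.card_units_int]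
  · intro y' hy' hfree' hmem
    rw [MonoidHom.mem_ker, hφ y' hy' hfree'] at hmem
    exact absurd hmem (by decide)
  · intro g hg
    rw [MonoidHom.mem_ker]
    rcases Int.units_eq_one_or (φ g) with h | h
    · exact h
    · exfalso
      have h3 : (φ g) ^ orderOf g = 1 := by rw [← map_pow, pow_orderOf_eq_one, map_one]
      rw [h, hg.neg_one_pow] at h3
      exact absurd h3 (by decide)

/-- Descent along a cyclic 2-group. -/
theorem descent {G : Type*} [Group G] [Finite G] (T : Subgroup G)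
    (hTR : T ≤ Cfsg.pResidual 2 G) (m : ℕ) (hm : Odd m) :
    ∀ j : ℕ, ∀ (H : Subgroup G) (y : G), Cfsg.pResidual 2 G ≤ H → y ∈ H → orderOf y = 2 ^ j →
      Nat.card H = Nat.card T * 2 ^ j * m →
      (∀ c ∈ Subgroup.zpowers y, orderOf c = 2 → ∀ g : G, g * c * g⁻¹ ∉ T) →
      ∃ K : Subgroup G, Cfsg.pResidual 2 G ≤ K ∧ Nat.card K = Nat.card T * m := by
  intro j
  induction j with
  | zero =>
    intro H y hRH _ _ hcard _
    exact ⟨H, hRH, by rw [hcard, pow_zero, mul_one]⟩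
  | succ r ih =>
    intro H y hRH hyH hy hcard hinv
    have hTH : T ≤ H := hTR.trans hRH
    have hcardT : Nat.card (T.subgroupOf H) = Nat.card T :=
      Nat.card_congr (Subgroup.subgroupOfEquivOfLe hTH).toEquiv
    have hz : orderOf (y ^ (2 ^ r)) = 2 := by
      rw [orderOf_pow_of_dvd (by positivity) (by rw [hy]; exact pow_dvd_pow 2 (Nat.le_succ r)),
        hy, pow_succ, Nat.mul_div_cancel_left _ (by positivity)]
    obtain ⟨N', hN'idx, -, hN'odd⟩ := idx2 (T.subgroupOf H) (⟨y, hyH⟩ : ↥H) r m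
      (by rw [Subgroup.orderOf_mk]; exact hy) hm (by rw [hcardT]; exact hcard) (by
        intro g hmem
        rw [Subgroup.mem_subgroupOf] at hmem
        exact hinv (y ^ (2 ^ r)) (Subgroup.pow_mem _ (Subgroup.mem_zpowers y) _) hz (g : G)
          (by simpa using hmem))
    have h2N : Nat.card ↥H = 2 * Nat.card N' := by
      rw [← hN'idx, Subgroup.index_mul_card]
    obtain ⟨N, hNdef⟩ : ∃ N : Subgroup G, N = N'.map H.subtype := ⟨_, rfl⟩
    have hNcard : Nat.card N = Nat.card N' := by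
      rw [hNdef]; exact Subgroup.card_map_of_injective H.subtype_injective
    have hRN : Cfsg.pResidual 2 G ≤ N := by
      unfold Cfsg.pResidual
      rw [Subgroup.closure_le]
      intro g hg
      have hg' : Nat.Coprime (orderOf g) 2 := hg
      have hgH : g ∈ H := hRH (Subgroup.subset_closure hg)
      rw [SetLike.mem_coe, hNdef]
      refine Subgroup.mem_map.2 ⟨⟨g, hgH⟩, hN'odd _ ?_, rfl⟩
      rw [Subgroup.orderOf_mk]
      exact Nat.coprime_two_right.1 hg'
    have hy2N : y ^ 2 ∈ N := by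
      rw [hNdef]
      exact Subgroup.mem_map.2 ⟨⟨y, hyH⟩ ^ 2, Subgroup.sq_mem_of_index_two hN'idx _, rfl⟩
    have hy2 : orderOf (y ^ 2) = 2 ^ r := by
      rw [orderOf_pow_of_dvd two_ne_zero (by rw [hy]; exact dvd_pow_self 2 (Nat.succ_ne_zero r)),
        hy, pow_succ, Nat.mul_div_cancel _ (by norm_num)]
    refine ih N (y ^ 2) hRN hy2N hy2 ?_ ?_
    · have h3 : 2 * Nat.card N = 2 * (Nat.card T * 2 ^ r * m) := by
        rw [hNcard, ← h2N, hcard, pow_succ]; ring
      exact Nat.eq_of_mul_eq_mul_left two_pos h3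
    · intro c hc
      exact hinv c (Subgroup.zpowers_le.2 (Subgroup.pow_mem _ (Subgroup.mem_zpowers y) 2) hc)

/-- In a dihedral group, the elements outside a cyclic subgroup of index two square to one. -/
theorem dih_sq_of_index_two (n : ℕ) (M : Subgroup (DihedralGroup n)) (hM : M.index = 2)
    (g' : DihedralGroup n) (hg' : M ≤ Subgroup.zpowers g') : ∀ y, y ∉ M → y * y = 1 := by
  intro y hy
  cases y with
  | sr i => exact DihedralGroup.sr_mul_self i
  | r i =>
    cases g' with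
    | r j =>
      exfalso
      have hrot : ∀ z ∈ M, ∃ k, z = DihedralGroup.r k := by
        intro z hz
        obtain ⟨k, hk⟩ := Subgroup.mem_zpowers_iff.1 (hg' hz)
        exact ⟨j * k, by rw [← hk, DihedralGroup.r_zpow]⟩
      have hs0 : DihedralGroup.sr (0 : ZMod n) ∉ M := by
        intro h
        obtain ⟨k, hk⟩ := hrot _ h
        cases hk
      have hmem : DihedralGroup.r i * DihedralGroup.sr 0 ∈ M := by
        rw [Subgroup.mul_mem_iff_of_index_two hM]
        exact ⟨fun h => absurd h hy, fun h => absurd h hs0⟩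
      obtain ⟨k, hk⟩ := hrot _ hmem
      rw [DihedralGroup.r_mul_sr] at hk
      cases hk
    | sr j =>
      have hmem : DihedralGroup.r i * DihedralGroup.r i ∈ M := by
        rw [Subgroup.mul_mem_iff_of_index_two hM]
      obtain ⟨k, hk⟩ := Subgroup.mem_zpowers_iff.1 (hg' hmem)
      rw [← zpow_mod_orderOf, DihedralGroup.orderOf_sr, Nat.cast_ofNat] at hk
      rcases Int.emod_two_eq_zero_or_one k with h0 | h1
      · rw [h0, zpow_zero] at hk
        exact hk.symm
      · rw [h1, zpow_one, DihedralGroup.r_mul_r] at hk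
        cases hk

theorem dih_outside_invol {G : Type*} [Group G] (D C : Subgroup G) (n : ℕ)
    (e : ↥D ≃* DihedralGroup n) (hCD : C ≤ D) (hC : IsCyclic ↥C) (hCi : C.relIndex D = 2) :
    ∀ d ∈ D, d ∉ C → d * d = 1 := by
  obtain ⟨g₀, hg₀⟩ := IsCyclic.exists_generator (α := ↥C)
  have hM : ((C.subgroupOf D).map (e : ↥D →* DihedralGroup n)).index = 2 := by
    rw [Subgroup.index_map_equiv]; exact hCi
  have hle : (C.subgroupOf D).map (e : ↥D →* DihedralGroup n) ≤
      Subgroup.zpowers (e ⟨(g₀ : G), hCD g₀.2⟩) := by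
    rintro _ ⟨u, hu, rfl⟩
    rw [SetLike.mem_coe, Subgroup.mem_subgroupOf] at hu
    obtain ⟨k, hk⟩ := Subgroup.mem_zpowers_iff.1 (hg₀ ⟨(u : G), hu⟩)
    rw [Subgroup.mem_zpowers_iff]
    refine ⟨k, ?_⟩
    show (e ⟨(g₀ : G), hCD g₀.2⟩) ^ k = e u
    have h2 := congrArg Subtype.val hk
    rw [← map_zpow]
    exact congrArg e (Subtype.ext (by simpa using h2))
  intro d hd hdC
  have h1 := dih_sq_of_index_two n _ hM _ hle (e ⟨d, hd⟩) (by
    intro hmem
    obtain ⟨u, hu, hue⟩ := hmem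
    have hud : u = ⟨d, hd⟩ := e.injective hue
    rw [hud, SetLike.mem_coe, Subgroup.mem_subgroupOf] at hu
    exact hdC hu)
  have h2 : (⟨d, hd⟩ : ↥D) * ⟨d, hd⟩ = 1 := by
    apply e.injective
    rw [map_mul, h1, map_one]
  exact congrArg Subtype.val h2

theorem arith1 (a u k : ℕ) (h1 : a ≤ u) (h2 : 2 * a = u * k) (hk0 : k ≠ 0) (hk1 : k ≠ 1) :
    u = a := by
  have h3 : u * 2 ≤ u * k := Nat.mul_le_mul_left u (by omega)
  omega

theorem arith2 (a b o₁ o₂ : ℕ) (h1 : Odd o₁) (h2 : Odd o₂) (h : o₁ * 2 ^ a = o₂ * 2 ^ b) :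
    2 ^ a = 2 ^ b := by
  apply Nat.dvd_antisymm
  · have hc : Nat.Coprime (2 ^ a) o₂ := Nat.Coprime.pow_left a (Nat.coprime_two_left.2 h2)
    exact hc.dvd_of_dvd_mul_left (by rw [← h]; exact Dvd.intro_left o₁ rfl)
  · have hc : Nat.Coprime (2 ^ b) o₁ := Nat.Coprime.pow_left b (Nat.coprime_two_left.2 h1)
    exact hc.dvd_of_dvd_mul_left (by rw [h]; exact Dvd.intro_left o₂ rfl)

/-- A consequence of Thompson's transfer lemma. Let G be a finite group, L a subgroup with O²(L) = L, T a Sylow 2-subgroup of L and S a Sylow 2-subgroup of G containing T. Suppose D ≤ S is a dihedral subgroup of order at least 4 (the four-group counts) with D ∩ T = 1 and S = TD as a set of products (so |S| = |T|·|D|), and C ≤ D is cyclic of index 2 in D. If no involution of D outside C is G-conjugate to an involution of the subgroup generated by T and C, and the involution of C is not G-conjugate to any involution of T, then G has a normal subgroup K, containing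 every Sylow 2-subgroup of L as a Sylow 2-subgroup, with G = KD. -/
theorem result {G : Type*} [Group G] [Finite G] (L T S D C : Subgroup G) (hL : Cfsg.pResidual 2 ↥L = ⊤)
    (hTL : T ≤ L) (hT2 : IsPGroup 2 T) (hTsyl : ¬ 2 ∣ T.relIndex L)
    (hS2 : IsPGroup 2 S) (hSsyl : ¬ 2 ∣ S.index) (hTS : T ≤ S)
    (hDS : D ≤ S) (hDih : ∃ n : ℕ, 2 ≤ n ∧ Nonempty (↥D ≃* DihedralGroup n)) (hDT : D ⊓ T = ⊥) (hTD : T ⊔ D = S) (hTDc : Nat.card T * Nat.card D = Nat.card S)
    (hCD : C ≤ D) (hC : IsCyclic ↥C) (hCi : C.relIndex D = 2)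
    (h1 : ∀ x ∈ D, x ∉ C → orderOf x = 2 → ∀ g : G, g * x * g⁻¹ ∈ T ⊔ C → False)
    (h2 : ∀ c ∈ C, orderOf c = 2 → ∀ g : G, g * c * g⁻¹ ∈ T → False) :
    ∃ K : Subgroup G, K.Normal ∧ K ⊔ D = ⊤ ∧
      ∀ T' : Subgroup G, T' ≤ L → IsPGroup 2 T' → ¬ 2 ∣ T'.relIndex L → T' ≤ K ∧ ¬ 2 ∣ T'.relIndex K := by
  classical
  haveI : Fact (Nat.Prime 2) := ⟨Nat.prime_two⟩
  obtain ⟨n, -, ⟨e⟩⟩ := hDih
  have hRn : (Cfsg.pResidual 2 G).Normal := Cfsg.Agent.Helper6.pResidual_normal 2 G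
  have hLR : L ≤ Cfsg.pResidual 2 G := by
    have h := Cfsg.Agent.Helper6.map_pResidual_le 2 L
    rw [hL] at h
    intro l hl
    exact h (Subgroup.mem_map.2 ⟨⟨l, hl⟩, Subgroup.mem_top _, rfl⟩)
  have hTR : T ≤ Cfsg.pResidual 2 G := hTL.trans hLR
  have hDinv : ∀ d ∈ D, d ∉ C → orderOf d = 2 := by
    intro d hd hdC
    have h := dih_outside_invol D C n e hCD hC hCi d hd hdC
    exact orderOf_eq_prime (by rw [pow_two]; exact h) (fun h1 => hdC (h1 ▸ C.one_mem))
  obtain ⟨x₀, hx₀D, hx₀C⟩ : ∃ x₀ ∈ D, x₀ ∉ C := by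
    by_contra hcon
    push Not at hcon
    have h3 : C.relIndex D = 1 := Subgroup.relIndex_eq_one.2 hcon
    omega
  have hx₀2 : orderOf x₀ = 2 := hDinv x₀ hx₀D hx₀C
  have hCS : C ≤ S := hCD.trans hDS
  have hUS : T ⊔ C ≤ S := sup_le hTS hCS
  have hcardD : Nat.card D = 2 * Nat.card C := by
    have h3 := Cfsg.Agent.Helper9.relIndex_mul_card_of_le hCD
    rw [hCi] at h3
    exact h3.symm
  have hx₀U : x₀ ∉ T ⊔ C := by
    intro hmem
    exact h1 x₀ hx₀D hx₀C hx₀2 1 (by simpa using hmem)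
  have hTC : T ⊓ C = ⊥ := by
    rw [eq_bot_iff, ← hDT]
    exact le_inf (inf_le_right.trans hCD) inf_le_left
  have hUge : Nat.card T * Nat.card C ≤ Nat.card ↥(T ⊔ C) := by
    have h3 := Cfsg.Agent.Helper23.card_mul_card_le_sup_inf T C
    rw [hTC, Subgroup.card_bot, mul_one] at h3
    exact h3
  have hUcard : Nat.card ↥(T ⊔ C) = Nat.card T * Nat.card C := by
    obtain ⟨k, hk⟩ := Subgroup.card_dvd_of_le hUS
    have hSeq : 2 * (Nat.card T * Nat.card C) = Nat.card ↥(T ⊔ C) * k := by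
      rw [← hk, ← hTDc, hcardD]; ring
    apply arith1 _ _ k hUge hSeq
    · intro hk0
      rw [hk0, mul_zero] at hk
      have hpos : 0 < Nat.card S := Nat.card_pos
      omega
    · intro hk1
      rw [hk1, mul_one] at hk
      have hEq := Subgroup.eq_of_le_of_card_ge hUS hk.le
      exact hx₀U (by rw [hEq]; exact hDS hx₀D)
  obtain ⟨m, hmdef⟩ : ∃ m, m = S.index := ⟨_, rfl⟩
  have hmodd : Odd m := by
    rw [hmdef]; exact Nat.not_even_iff_odd.1 (fun h => hSsyl (even_iff_two_dvd.1 h))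
  have hGcard : Nat.card G = Nat.card ↥(T ⊔ C) * 2 ^ (0 + 1) * m := by
    rw [hUcard, hmdef, ← S.card_mul_index, ← hTDc, hcardD]; ring
  obtain ⟨N₁, hN₁idx, hN₁all, hN₁odd⟩ := idx2 (T ⊔ C) x₀ 0 m
    (hx₀2.trans (by norm_num)) hmodd hGcard (by
      intro g hmem
      rw [pow_zero, pow_one] at hmem
      exact h1 x₀ hx₀D hx₀C hx₀2 g hmem)
  have hx₀N₁ : x₀ ∉ N₁ := hN₁all x₀ (hx₀2.trans (by norm_num)) (by
    intro g hmem
    rw [pow_zero, pow_one] at hmem
    exact h1 x₀ hx₀D hx₀C hx₀2 g hmem)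
  have hRN₁ : Cfsg.pResidual 2 G ≤ N₁ := by
    unfold Cfsg.pResidual
    rw [Subgroup.closure_le]
    intro g hg
    exact hN₁odd g (Nat.coprime_two_right.1 hg)
  have hCN₁ : C ≤ N₁ := by
    intro c hc
    have hxc : x₀ * c ∉ C := fun h => hx₀C (by
      have h3 := C.mul_mem h (C.inv_mem hc)
      rwa [mul_inv_cancel_right] at h3)
    have hxcD : x₀ * c ∈ D := D.mul_mem hx₀D (hCD hc)
    have hxc2 : orderOf (x₀ * c) = 2 := hDinv _ hxcD hxc
    have hxcN : x₀ * c ∉ N₁ := hN₁all (x₀ * c) (hxc2.trans (by norm_num)) (by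
      intro g hmem
      rw [pow_zero, pow_one] at hmem
      exact h1 (x₀ * c) hxcD hxc hxc2 g hmem)
    by_contra hcN
    exact hxcN ((Subgroup.mul_mem_iff_of_index_two hN₁idx).2
      ⟨fun h => absurd h hx₀N₁, fun h => absurd h hcN⟩)
  obtain ⟨c₀, hc₀⟩ := IsCyclic.exists_generator (α := ↥C)
  have hc₀ord : orderOf (c₀ : G) = Nat.card C := by
    rw [Subgroup.orderOf_coe]; exact orderOf_eq_card_of_forall_mem_zpowers hc₀
  obtain ⟨j, hj⟩ := IsPGroup.iff_card.1 (hS2.to_le hCS)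
  have hN₁card : Nat.card N₁ = Nat.card T * 2 ^ j * m := by
    have h3 := N₁.index_mul_card
    rw [hN₁idx, ← S.card_mul_index, ← hTDc, hcardD, hj, ← hmdef] at h3
    have h4 : 2 * Nat.card N₁ = 2 * (Nat.card T * 2 ^ j * m) := by rw [h3]; ring
    exact Nat.eq_of_mul_eq_mul_left two_pos h4
  have hinvC : ∀ c ∈ Subgroup.zpowers (c₀ : G), orderOf c = 2 → ∀ g : G, g * c * g⁻¹ ∉ T :=
    fun c hc hc2 g hmem => h2 c (Subgroup.zpowers_le.2 c₀.2 hc) hc2 g hmem
  obtain ⟨Kst, hRK, hKcard⟩ := descent T hTR m hmodd j N₁ (c₀ : G) hRN₁ (hCN₁ c₀.2)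
    (hc₀ord.trans hj) hN₁card hinvC
  refine ⟨Cfsg.pResidual 2 G, hRn, ?_, ?_⟩
  · rw [← Subgroup.index_eq_one]
    have hSle : S ≤ Cfsg.pResidual 2 G ⊔ D := by
      rw [← hTD]; exact sup_le_sup_right hTR D
    have hd1 : (Cfsg.pResidual 2 G ⊔ D).index ∣ m := by
      rw [hmdef]; exact Subgroup.index_dvd_of_le hSle
    have hd2 : (Cfsg.pResidual 2 G ⊔ D).index ∣ (Cfsg.pResidual 2 G).index :=
      Subgroup.index_dvd_of_le le_sup_left
    haveI := hRn
    have hpg : IsPGroup 2 (G ⧸ Cfsg.pResidual 2 G) :=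
      Cfsg.Agent.Helper6.isPGroup_quotient_pResidual 2 (Cfsg.pResidual 2 G) le_rfl
    obtain ⟨i, hi⟩ := IsPGroup.iff_card.1 hpg
    rw [Subgroup.index_eq_card (Cfsg.pResidual 2 G), hi] at hd2
    obtain ⟨i', -, hi'⟩ := (Nat.dvd_prime_pow Nat.prime_two).1 hd2
    rw [hi'] at hd1 ⊢
    cases i' with
    | zero => rfl
    | succ i'' =>
      exfalso
      have h3 : 2 ∣ m := dvd_trans (dvd_pow_self 2 (Nat.succ_ne_zero i'')) hd1
      exact (Nat.not_even_iff_odd.2 hmodd) (even_iff_two_dvd.2 h3)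
  · intro T' hT'L hT'2 hT'syl
    have hT'R : T' ≤ Cfsg.pResidual 2 G := hT'L.trans hLR
    refine ⟨hT'R, ?_⟩
    obtain ⟨a, ha⟩ := IsPGroup.iff_card.1 hT2
    obtain ⟨b, hb⟩ := IsPGroup.iff_card.1 hT'2
    have e1 := Cfsg.Agent.Helper9.relIndex_mul_card_of_le hTL
    have e2 := Cfsg.Agent.Helper9.relIndex_mul_card_of_le hT'L
    have hTT' : Nat.card T = Nat.card T' := by
      rw [ha, hb]
      apply arith2 a b (T.relIndex L) (T'.relIndex L)
        (Nat.not_even_iff_odd.1 (fun h => hTsyl (even_iff_two_dvd.1 h)))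
        (Nat.not_even_iff_odd.1 (fun h => hT'syl (even_iff_two_dvd.1 h)))
      rw [← ha, ← hb, e1, e2]
    have e3 := Cfsg.Agent.Helper9.relIndex_mul_card_of_le hT'R
    have e4 : Nat.card ↥(Cfsg.pResidual 2 G) ∣ Nat.card T * m := by
      rw [← hKcard]; exact Subgroup.card_dvd_of_le hRK
    rw [← e3, ← hTT', mul_comm (T'.relIndex _) _] at e4
    have e5 : T'.relIndex (Cfsg.pResidual 2 G) ∣ m :=
      Nat.dvd_of_mul_dvd_mul_left Nat.card_pos e4
    intro h2dvd
    exact (Nat.not_even_iff_odd.2 hmodd) (even_iff_two_dvd.2 (dvd_trans h2dvd e5))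

end Cfsg.Agent.S1924
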