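-- S3864: dihedral Sylow 2-subgroups: involution classes versus subgroups of index two and four.
import Mathlib
import Cfsg.Statements.S3864
import Cfsg.Agent.Helper9.Dihedral
import Cfsg.Agent.Helper1.Frobenius
import Cfsg.Agent.Helper14.Conj
import Cfsg.Agent.S1924

set_option autoImplicit false
open Cfsg
open scoped Pointwise

namespace Cfsg.Agent.S3864

/-- No solution of `x + x = 1` in `ZMod m` for even `m`. -/
theorem zmod_even_aux (m : ℕ) (hm2 : 2 ∣ m) (x : ZMod m) : x + x ≠ 1 := by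
  intro h
  have h2 := congrArg (ZMod.castHom hm2 (ZMod 2)) h
  rw [map_add, map_one] at h2
  revert h2
  generalize (ZMod.castHom hm2 (ZMod 2)) x = t
  revert t
  decide

/-- Concrete dihedral data in a subgroup isomorphic to a dihedral group of order `2m`, `m` even. -/
theorem dih_data {X : Type*} [Group X] (S : Subgroup X) (m : ℕ) (hm : m ≠ 0) (hm2 : 2 ∣ m)
    (e : ↥S ≃* DihedralGroup m) :
    ∃ a b : X, a ∈ S ∧ b ∈ S ∧ orderOf a = m ∧ b ∉ Subgroup.zpowers a ∧
      (∀ s ∈ S, s ∉ Subgroup.zpowers a → s * s = 1) ∧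
      (∀ s ∈ S, ∀ t ∈ S, s ∉ Subgroup.zpowers a → t ∉ Subgroup.zpowers a →
        s * t ∈ Subgroup.zpowers a) ∧
      (∀ s ∈ S, s ∉ Subgroup.zpowers a → ∃ p ∈ S, s = p * b * p⁻¹ ∨ s = p * (b * a) * p⁻¹) ∧
      (∀ p ∈ S, p * b * p⁻¹ ≠ b * a) := by
  haveI : NeZero m := ⟨hm⟩
  obtain ⟨A, hA⟩ : ∃ A : ↥S, e A = DihedralGroup.r 1 := ⟨e.symm _, e.apply_symm_apply _⟩
  obtain ⟨B, hB⟩ : ∃ B : ↥S, e B = DihedralGroup.sr 0 := ⟨e.symm _, e.apply_symm_apply _⟩
  have key : ∀ s (hs : s ∈ S) (i : ZMod m), e ⟨s, hs⟩ = DihedralGroup.r i →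
      s ∈ Subgroup.zpowers (A : X) := by
    intro s hs i hi
    rw [Subgroup.mem_zpowers_iff]
    refine ⟨(i.val : ℤ), ?_⟩
    have h1 : A ^ i.val = ⟨s, hs⟩ := by
      apply e.injective
      rw [map_pow, hA, DihedralGroup.r_one_pow, hi, ZMod.natCast_zmod_val]
    have h2 := congrArg Subtype.val h1
    rw [zpow_natCast]
    simpa using h2
  have key2 : ∀ s (hs : s ∈ S), s ∈ Subgroup.zpowers (A : X) →
      ∃ i, e ⟨s, hs⟩ = DihedralGroup.r i := by
    intro s hs hsa
    obtain ⟨j, hj⟩ := Subgroup.mem_zpowers_iff.1 hsa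
    refine ⟨(j : ZMod m), ?_⟩
    have h1 : (⟨s, hs⟩ : ↥S) = A ^ j := by
      apply Subtype.ext
      rw [Subgroup.coe_zpow]; exact hj.symm
    rw [h1, map_zpow, hA, DihedralGroup.r_one_zpow]
  refine ⟨(A : X), (B : X), A.2, B.2, ?_, ?_, ?_, ?_, ?_, ?_⟩
  · rw [Subgroup.orderOf_coe, ← MulEquiv.orderOf_eq e, hA, DihedralGroup.orderOf_r_one]
  · intro hmem
    obtain ⟨i, hi⟩ := key2 (B : X) B.2 hmem
    have h1 : e B = DihedralGroup.r i := hi
    rw [hB] at h1
    cases h1
  · intro s hs hsa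
    cases h : e ⟨s, hs⟩ with
    | r i => exact absurd (key s hs i h) hsa
    | sr i =>
      have h1 : (⟨s, hs⟩ : ↥S) * ⟨s, hs⟩ = 1 := by
        apply e.injective
        rw [map_mul, h, DihedralGroup.sr_mul_self, map_one]
      exact congrArg Subtype.val h1
  · intro s hs t ht hsa hta
    cases h : e ⟨s, hs⟩ with
    | r i => exact absurd (key s hs i h) hsa
    | sr i =>
      cases h' : e ⟨t, ht⟩ with
      | r j => exact absurd (key t ht j h') hta
      | sr j =>
        apply key (s * t) (S.mul_mem hs ht) (j - i)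
        have h1 : (⟨s * t, S.mul_mem hs ht⟩ : ↥S) = ⟨s, hs⟩ * ⟨t, ht⟩ := rfl
        rw [h1, map_mul, h, h', DihedralGroup.sr_mul_sr]
  · intro s hs hsa
    cases h : e ⟨s, hs⟩ with
    | r i => exact absurd (key s hs i h) hsa
    | sr i =>
      obtain ⟨q, hq | hq⟩ := Nat.even_or_odd' i.val
      · refine ⟨((e.symm (DihedralGroup.r (-(q : ZMod m))) : ↥S) : X), (e.symm _).2, Or.inl ?_⟩
        have h1 : (⟨s, hs⟩ : ↥S) = e.symm (DihedralGroup.r (-(q : ZMod m))) * B *
            (e.symm (DihedralGroup.r (-(q : ZMod m))))⁻¹ := by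
          apply e.injective
          rw [map_mul, map_mul, map_inv, e.apply_symm_apply, hB, h]
          simp only [DihedralGroup.inv_r, DihedralGroup.r_mul_sr, DihedralGroup.sr_mul_r]
          congr 1
          rw [← ZMod.natCast_zmod_val i, hq]
          push_cast; ring
        exact congrArg Subtype.val h1
      · refine ⟨((e.symm (DihedralGroup.r (-(q : ZMod m))) : ↥S) : X), (e.symm _).2, Or.inr ?_⟩
        have h1 : (⟨s, hs⟩ : ↥S) = e.symm (DihedralGroup.r (-(q : ZMod m))) * (B * A) *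
            (e.symm (DihedralGroup.r (-(q : ZMod m))))⁻¹ := by
          apply e.injective
          rw [map_mul, map_mul, map_mul, map_inv, e.apply_symm_apply, hB, hA, h]
          simp only [DihedralGroup.inv_r, DihedralGroup.r_mul_sr, DihedralGroup.sr_mul_r]
          congr 1
          rw [← ZMod.natCast_zmod_val i, hq]
          push_cast; ring
        exact congrArg Subtype.val h1
  · intro p hp hpb
    have h1 : (⟨p, hp⟩ : ↥S) * B * (⟨p, hp⟩ : ↥S)⁻¹ = B * A := Subtype.ext hpb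
    have h2 := congrArg e h1
    rw [map_mul, map_mul, map_inv, map_mul, hB, hA] at h2
    cases h : e ⟨p, hp⟩ with
    | r j =>
      rw [h] at h2
      simp only [DihedralGroup.inv_r, DihedralGroup.r_mul_sr, DihedralGroup.sr_mul_r] at h2
      have h3 := DihedralGroup.sr.inj h2
      apply zmod_even_aux m hm2 (-j)
      linear_combination h3
    | sr j =>
      rw [h] at h2
      simp only [DihedralGroup.inv_sr, DihedralGroup.sr_mul_sr, DihedralGroup.r_mul_sr,
        DihedralGroup.sr_mul_r] at h2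
      have h3 := DihedralGroup.sr.inj h2
      apply zmod_even_aux m hm2 j
      linear_combination h3

theorem comm_mem_of_index_two {G : Type*} [Group G] (N : Subgroup G) (hN : N.index = 2)
    (g y : G) : g * y * g⁻¹ * y⁻¹ ∈ N := by
  have e : g * y * g⁻¹ * y⁻¹ = (g * y) * (y * g)⁻¹ := by group
  rw [e, Subgroup.mul_mem_iff_of_index_two hN, inv_mem_iff, Subgroup.mul_mem_iff_of_index_two hN,
    Subgroup.mul_mem_iff_of_index_two hN]
  tauto

theorem comm_mem_of_index_four {G : Type*} [Group G] (N : Subgroup G) [N.Normal]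
    (hN : N.index = 4) (g y : G) : g * y * g⁻¹ * y⁻¹ ∈ N := by
  haveI : Fact (Nat.Prime 2) := ⟨Nat.prime_two⟩
  have hcard : Nat.card (G ⧸ N) = 2 ^ 2 := by rw [← Subgroup.index_eq_card, hN]; norm_num
  have hcomm := isMulCommutative_iff.1 (IsPGroup.isMulCommutative_of_card_eq_prime_sq hcard)
  rw [← QuotientGroup.eq_one_iff]
  have h := hcomm (g : G ⧸ N) (y : G ⧸ N)
  simp only [QuotientGroup.mk_mul, QuotientGroup.mk_inv]
  rw [h]
  group

/-- If `z ~ b` and `z ~ ba` then there is no subgroup of index two. -/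
theorem no_index_two {G : Type*} [Group G] [Finite G] (P : Sylow 2 G) (a b z : G) (k : ℕ)
    (hmul : ∀ s ∈ (P : Subgroup G), ∀ t ∈ (P : Subgroup G), s ∉ Subgroup.zpowers a →
      t ∉ Subgroup.zpowers a → s * t ∈ Subgroup.zpowers a)
    (hbP : b ∈ (P : Subgroup G)) (hba : b ∉ Subgroup.zpowers a)
    (hz : z = (a * a) ^ k) (hzb : IsConj z b) (hzc : IsConj z (b * a))
    (N : Subgroup G) (hN : N.index = 2) : False := by
  haveI hNn : N.Normal := Subgroup.normal_of_index_eq_two hN
  have hcm := comm_mem_of_index_two N hN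
  obtain ⟨g1, hg1⟩ := isConj_iff.1 hzb
  obtain ⟨g2, hg2⟩ := isConj_iff.1 hzc
  have h1 : b * z⁻¹ ∈ N := by
    have := hcm g1 z
    rwa [hg1] at this
  have h2 : b * a * z⁻¹ ∈ N := by
    have := hcm g2 z
    rwa [hg2] at this
  have h3 : b * a * b⁻¹ ∈ N := by
    have e1 : b * a * b⁻¹ = (b * a * z⁻¹) * (b * z⁻¹)⁻¹ := by group
    rw [e1]; exact Subgroup.mul_mem _ h2 (Subgroup.inv_mem _ h1)
  have haN : a ∈ N := by
    have h4 := hNn.conj_mem _ h3 b⁻¹
    have e2 : b⁻¹ * (b * a * b⁻¹) * b⁻¹⁻¹ = a := by group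
    rwa [e2] at h4
  have hzN : z ∈ N := by
    rw [hz]; exact Subgroup.pow_mem _ (Subgroup.mul_mem _ haN haN) _
  have hbN : b ∈ N := by
    have e3 : b = b * z⁻¹ * z := by group
    rw [e3]; exact Subgroup.mul_mem _ h1 hzN
  have hPN : (P : Subgroup G) ≤ N := by
    intro s hs
    by_cases hsa : s ∈ Subgroup.zpowers a
    · exact (Subgroup.zpowers_le.2 haN) hsa
    · have h4 := (Subgroup.zpowers_le.2 haN) (hmul s hs b hbP hsa hba)
      have e4 : s = s * b * b⁻¹ := by group
      rw [e4]; exact Subgroup.mul_mem _ h4 (Subgroup.inv_mem _ hbN)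
  have hdvd := Subgroup.index_dvd_of_le hPN
  rw [hN] at hdvd
  exact P.not_dvd_index hdvd

/-- If `z` is conjugate to an involution `y` of `P` outside `⟨a⟩`, there is no normal subgroup of
index four. -/
theorem no_index_four {G : Type*} [Group G] [Finite G] (P : Sylow 2 G) (a b z y : G) (k : ℕ)
    (hinv : ∀ s ∈ (P : Subgroup G), s ∉ Subgroup.zpowers a → s * s = 1)
    (hmul : ∀ s ∈ (P : Subgroup G), ∀ t ∈ (P : Subgroup G), s ∉ Subgroup.zpowers a →
      t ∉ Subgroup.zpowers a → s * t ∈ Subgroup.zpowers a)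
    (haP : a ∈ (P : Subgroup G)) (hbP : b ∈ (P : Subgroup G)) (hba : b ∉ Subgroup.zpowers a)
    (hz : z = (a * a) ^ k)
    (hyP : y ∈ (P : Subgroup G)) (hya : y ∉ Subgroup.zpowers a) (hzy : IsConj z y)
    (N : Subgroup G) (hNn : N.Normal) (hN : N.index = 4) : False := by
  haveI := hNn
  have hcm := comm_mem_of_index_four N hN
  have hbb : b * b = 1 := hinv b hbP hba
  have hbaP : b * a ∈ (P : Subgroup G) := Subgroup.mul_mem _ hbP haP
  have hbaa : b * a ∉ Subgroup.zpowers a := by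
    intro h
    apply hba
    have e0 : b = b * a * a⁻¹ := by group
    rw [e0]
    exact Subgroup.mul_mem _ h (Subgroup.inv_mem _ (Subgroup.mem_zpowers a))
  have hcc : b * a * (b * a) = 1 := hinv _ hbaP hbaa
  have haaN : a * a ∈ N := by
    have h1 := hcm b a
    have e1 : b * a * b⁻¹ * a⁻¹ = (a * a)⁻¹ := by
      have hb' : b⁻¹ = b := inv_eq_of_mul_eq_one_right hbb
      have h2 : b * a * b = a⁻¹ := eq_inv_of_mul_eq_one_left ((mul_assoc (b * a) b a).trans hcc)
      rw [hb', h2]; group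
    rw [e1] at h1
    exact inv_mem_iff.1 h1
  have hzN : z ∈ N := by rw [hz]; exact Subgroup.pow_mem _ haaN _
  have hyN : y ∈ N := by
    obtain ⟨g, hg⟩ := isConj_iff.1 hzy
    have h1 := hcm g z
    rw [hg] at h1
    have e3 : y = y * z⁻¹ * z := by group
    rw [e3]
    exact Subgroup.mul_mem _ h1 hzN
  have himg : ∀ s ∈ (P : Subgroup G), (s : G ⧸ N) = 1 ∨ (s : G ⧸ N) = (a : G ⧸ N) := by
    have ha2 : (a : G ⧸ N) ^ (2 : ℤ) = 1 := by
      rw [zpow_two, ← QuotientGroup.mk_mul]
      exact (QuotientGroup.eq_one_iff _).2 haaN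
    have hzp : ∀ s ∈ Subgroup.zpowers a, (s : G ⧸ N) = 1 ∨ (s : G ⧸ N) = (a : G ⧸ N) := by
      intro s hs
      obtain ⟨j, rfl⟩ := Subgroup.mem_zpowers_iff.1 hs
      rw [QuotientGroup.mk_zpow]
      obtain ⟨q, rfl | rfl⟩ := Int.even_or_odd' j
      · left; rw [zpow_mul, ha2, one_zpow]
      · right; rw [zpow_add, zpow_mul, ha2, one_zpow, one_mul, zpow_one]
    intro s hs
    by_cases hsa : s ∈ Subgroup.zpowers a
    · exact hzp s hsa
    · have h1 := hzp _ (hmul s hs y hyP hsa hya)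
      have h2 : ((s * y : G) : G ⧸ N) = (s : G ⧸ N) := by
        rw [QuotientGroup.mk_mul, (QuotientGroup.eq_one_iff y).2 hyN, mul_one]
      rwa [h2] at h1
  have hodd : Odd (P : Subgroup G).index := by
    rw [← Nat.not_even_iff_odd, even_iff_two_dvd]
    exact P.not_dvd_index
  have htop : (P : Subgroup G) ⊔ N = ⊤ := by
    rw [← Subgroup.index_eq_one]
    have h1 : ((P : Subgroup G) ⊔ N).index ∣ (P : Subgroup G).index :=
      Subgroup.index_dvd_of_le le_sup_left
    have h2 : ((P : Subgroup G) ⊔ N).index ∣ 2 ^ 2 := by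
      have h := Subgroup.index_dvd_of_le (le_sup_right : N ≤ (P : Subgroup G) ⊔ N)
      rw [hN] at h
      exact h
    have hcop : Nat.Coprime (P : Subgroup G).index (2 ^ 2) :=
      Nat.Coprime.pow_right 2 (Nat.coprime_two_right.2 hodd)
    have h3 := Nat.dvd_gcd h1 h2
    rw [hcop.gcd_eq_one] at h3
    exact Nat.dvd_one.1 h3
  have hsurj : Function.Surjective (fun t : Bool => if t then (a : G ⧸ N) else 1) := by
    intro q
    obtain ⟨g, rfl⟩ := QuotientGroup.mk_surjective q
    have hg : g ∈ ((P : Subgroup G) ⊔ N : Subgroup G) := by rw [htop]; exact Subgroup.mem_top g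
    have hg' : g ∈ ((P : Subgroup G) : Set G) * (N : Set G) := by
      rw [← Subgroup.mul_normal]; exact hg
    obtain ⟨p, hp, n', hn', rfl⟩ := Set.mem_mul.1 hg'
    have h2 : ((p * n' : G) : G ⧸ N) = (p : G ⧸ N) := by
      rw [QuotientGroup.mk_mul, (QuotientGroup.eq_one_iff n').2 hn', mul_one]
    rcases himg p hp with h | h
    · exact ⟨false, by rw [h2, h]; rfl⟩
    · exact ⟨true, by rw [h2, h]; rfl⟩
  have hle := Nat.card_le_card_of_surjective _ hsurj
  rw [← Subgroup.index_eq_card, hN] at hle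
  simp at hle

theorem result {G : Type*} [Group G] [Finite G] (P : Sylow 2 G) (n : ℕ) (hn : 3 ≤ n) (hdih : Nonempty (↥(P : Subgroup G) ≃* DihedralGroup (2 ^ (n - 1)))) : (Nat.card {C : ConjClasses G // ∃ g : G, ConjClasses.mk g = C ∧ orderOf g = 2} = 1 ∧ ∀ N : Subgroup G, N.Normal → N.index ≠ 2) ∨ (Nat.card {C : ConjClasses G // ∃ g : G, ConjClasses.mk g = C ∧ orderOf g = 2} = 2 ∧ (∃ N : Subgroup G, N.Normal ∧ N.index = 2) ∧ ∀ N : Subgroup G, N.Normal → N.index ≠ 4) ∨ (Nat.card {C : ConjClasses G // ∃ g : G, ConjClasses.mk g = C ∧ orderOf g = 2} = 3 ∧ Cfsg.HasNormalPComplement 2 G) := by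
  obtain ⟨e⟩ := hdih
  haveI : Fact (Nat.Prime 2) := ⟨Nat.prime_two⟩
  obtain ⟨k, hk, hk0⟩ : ∃ k, 2 ^ (n - 1) = 2 * (2 * k) ∧ k ≠ 0 := by
    refine ⟨2 ^ (n - 3), ?_, by positivity⟩
    have h3 : n - 1 = (n - 3) + 2 := by omega
    rw [h3, pow_add]; ring
  obtain ⟨a, b, haP, hbP, hoa, hba, hinv, hmul, hconj, hnc⟩ :=
    dih_data (P : Subgroup G) (2 ^ (n - 1)) (by positivity) ⟨2 * k, hk⟩ e
  rw [hk] at hoa
  obtain ⟨c, hc⟩ : ∃ c, c = b * a := ⟨_, rfl⟩
  rw [← hc] at hconj hnc
  obtain ⟨z, hzdef⟩ : ∃ z, z = (a * a) ^ k := ⟨_, rfl⟩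
  have hza : z ∈ Subgroup.zpowers a := by
    rw [hzdef]
    exact Subgroup.pow_mem _ (Subgroup.mul_mem _ (Subgroup.mem_zpowers a) (Subgroup.mem_zpowers a)) _
  have hzpow : z = a ^ (2 * k) := by rw [hzdef, ← pow_two, ← pow_mul]
  have hzz : z * z = 1 := by
    have h1 : z * z = a ^ (2 * (2 * k)) := by
      rw [hzpow, ← pow_add]; congr 1; ring
    rw [h1, ← hoa, pow_orderOf_eq_one]
  have hz1 : z ≠ 1 := by
    rw [hzpow]
    exact pow_ne_one_of_lt_orderOf (by omega) (by rw [hoa]; omega)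
  have hoz : orderOf z = 2 := orderOf_eq_prime (by rw [pow_two]; exact hzz) hz1
  have hcP : c ∈ (P : Subgroup G) := by rw [hc]; exact Subgroup.mul_mem _ hbP haP
  have hca : c ∉ Subgroup.zpowers a := by
    intro h
    apply hba
    have e0 : b = c * a⁻¹ := by rw [hc]; group
    rw [e0]
    exact Subgroup.mul_mem _ h (Subgroup.inv_mem _ (Subgroup.mem_zpowers a))
  have hbb : b * b = 1 := hinv b hbP hba
  have hcc : c * c = 1 := hinv c hcP hca
  have hb1 : b ≠ 1 := fun h => hba (h ▸ Subgroup.one_mem _)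
  have hc1 : c ≠ 1 := fun h => hca (h ▸ Subgroup.one_mem _)
  have hob : orderOf b = 2 := orderOf_eq_prime (by rw [pow_two]; exact hbb) hb1
  have hoc : orderOf c = 2 := orderOf_eq_prime (by rw [pow_two]; exact hcc) hc1
  have hodd : Odd (P : Subgroup G).index := by
    rw [← Nat.not_even_iff_odd, even_iff_two_dvd]
    exact P.not_dvd_index
  have hcardP : Nat.card (P : Subgroup G) = 2 * (2 * (2 * k)) := by
    rw [Nat.card_congr e.toEquiv, DihedralGroup.nat_card, hk]
  have hcardG : Nat.card G =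
      Nat.card (Subgroup.zpowers a) * 2 ^ (0 + 1) * (P : Subgroup G).index := by
    rw [← (P : Subgroup G).card_mul_index, hcardP, Nat.card_zpowers, hoa]; ring
  -- every involution is conjugate to z, b or c
  have hinvol : ∀ g : G, orderOf g = 2 → IsConj g z ∨ IsConj g b ∨ IsConj g c := by
    intro g hg
    have hgp : IsPGroup 2 (Subgroup.zpowers g) := by
      apply IsPGroup.of_card (n := 1)
      rw [Nat.card_zpowers, hg, pow_one]
    obtain ⟨x, hx⟩ := Helper14.exists_le_sylow_conj P (Subgroup.zpowers g) hgp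
    have hs : x⁻¹ * g * x ∈ (P : Subgroup G) :=
      (Helper14.mem_map_conj _ x g).1 (hx (Subgroup.mem_zpowers g))
    have hgg : g * g = 1 := by rw [← pow_two, ← hg, pow_orderOf_eq_one]
    have hss : (x⁻¹ * g * x) * (x⁻¹ * g * x) = 1 := by
      calc (x⁻¹ * g * x) * (x⁻¹ * g * x) = x⁻¹ * (g * g) * x := by group
        _ = 1 := by rw [hgg]; group
    have hs1 : x⁻¹ * g * x ≠ 1 := by
      intro h
      have hg1 : g = 1 := by
        have e0 : g = x * (x⁻¹ * g * x) * x⁻¹ := by group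
        rw [e0, h]; group
      rw [hg1, orderOf_one] at hg
      exact absurd hg (by norm_num)
    by_cases hsa : x⁻¹ * g * x ∈ Subgroup.zpowers a
    · left
      have h3 := Helper9.involution_unique_zpowers a _ z hsa hza hss hzz hs1 hz1
      rw [isConj_iff]
      exact ⟨x⁻¹, by rw [inv_inv]; exact h3⟩
    · obtain ⟨p, -, h | h⟩ := hconj _ hs hsa
      · right; left
        rw [isConj_iff]
        refine ⟨p⁻¹ * x⁻¹, ?_⟩
        have e1 : p⁻¹ * x⁻¹ * g * (p⁻¹ * x⁻¹)⁻¹ = p⁻¹ * (x⁻¹ * g * x) * p := by group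
        rw [e1, h]; group
      · right; right
        rw [isConj_iff]
        refine ⟨p⁻¹ * x⁻¹, ?_⟩
        have e1 : p⁻¹ * x⁻¹ * g * (p⁻¹ * x⁻¹)⁻¹ = p⁻¹ * (x⁻¹ * g * x) * p := by group
        rw [e1, h]; group
  have hmem : ∀ C : ConjClasses G, (∃ g : G, ConjClasses.mk g = C ∧ orderOf g = 2) ↔
      C = ConjClasses.mk z ∨ C = ConjClasses.mk b ∨ C = ConjClasses.mk c := by
    intro C
    constructor
    · rintro ⟨g, rfl, hg⟩
      rcases hinvol g hg with h | h | h
      · exact Or.inl (ConjClasses.mk_eq_mk_iff_isConj.2 h)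
      · exact Or.inr (Or.inl (ConjClasses.mk_eq_mk_iff_isConj.2 h))
      · exact Or.inr (Or.inr (ConjClasses.mk_eq_mk_iff_isConj.2 h))
    · rintro (rfl | rfl | rfl)
      · exact ⟨z, rfl, hoz⟩
      · exact ⟨b, rfl, hob⟩
      · exact ⟨c, rfl, hoc⟩
  have hcard : Nat.card {C : ConjClasses G // ∃ g : G, ConjClasses.mk g = C ∧ orderOf g = 2} =
      Set.ncard {C : ConjClasses G | ∃ g : G, ConjClasses.mk g = C ∧ orderOf g = 2} :=
    Nat.card_coe_set_eq _
  -- index two subgroups from the transfer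
  have hidx : ∀ y : G, orderOf y = 2 → ¬ IsConj z y →
      ∃ N : Subgroup G, N.Normal ∧ N.index = 2 := by
    intro y hy hzy
    have hfree : ∀ g : G, g * y ^ (2 ^ 0) * g⁻¹ ∉ Subgroup.zpowers a := by
      intro g hmem'
      rw [pow_zero, pow_one] at hmem'
      have hyy : y * y = 1 := by rw [← pow_two, ← hy, pow_orderOf_eq_one]
      have h1 : (g * y * g⁻¹) * (g * y * g⁻¹) = 1 := by
        calc (g * y * g⁻¹) * (g * y * g⁻¹) = g * (y * y) * g⁻¹ := by group
          _ = 1 := by rw [hyy]; group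
      have h2 : g * y * g⁻¹ ≠ 1 := by
        intro h
        have hy1 : y = 1 := by
          have e0 : y = g⁻¹ * (g * y * g⁻¹) * g := by group
          rw [e0, h]; group
        rw [hy1, orderOf_one] at hy
        exact absurd hy (by norm_num)
      have h3 := Helper9.involution_unique_zpowers a _ z hmem' hza h1 hzz h2 hz1
      apply hzy
      rw [isConj_iff]
      refine ⟨g⁻¹, ?_⟩
      rw [← h3]; group
    obtain ⟨N, hN, -, -⟩ := S1924.idx2 (Subgroup.zpowers a) y 0 (P : Subgroup G).index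
      (by rw [hy]; norm_num) hodd hcardG hfree
    exact ⟨N, Subgroup.normal_of_index_eq_two hN, hN⟩
  by_cases hzb : IsConj z b <;> by_cases hzc : IsConj z c
  · -- one class
    left
    have hbz : ConjClasses.mk b = ConjClasses.mk z := ConjClasses.mk_eq_mk_iff_isConj.2 hzb.symm
    have hcz : ConjClasses.mk c = ConjClasses.mk z := ConjClasses.mk_eq_mk_iff_isConj.2 hzc.symm
    have hset : {C : ConjClasses G | ∃ g : G, ConjClasses.mk g = C ∧ orderOf g = 2} =
        {ConjClasses.mk z} := by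
      ext C
      rw [Set.mem_setOf_eq, hmem, hbz, hcz]
      show _ ↔ C = _
      tauto
    refine ⟨by rw [hcard, hset, Set.ncard_singleton], ?_⟩
    intro N _ hN
    rw [hc] at hzc
    exact no_index_two P a b z k hmul hbP hba hzdef hzb hzc N hN
  · -- two classes: z ~ b
    right; left
    have hbz : ConjClasses.mk b = ConjClasses.mk z := ConjClasses.mk_eq_mk_iff_isConj.2 hzb.symm
    have hne : ConjClasses.mk z ≠ ConjClasses.mk c :=
      fun h => hzc (ConjClasses.mk_eq_mk_iff_isConj.1 h)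
    have hset : {C : ConjClasses G | ∃ g : G, ConjClasses.mk g = C ∧ orderOf g = 2} =
        {ConjClasses.mk z, ConjClasses.mk c} := by
      ext C
      rw [Set.mem_setOf_eq, hmem, hbz]
      show _ ↔ (C = _ ∨ C = _)
      tauto
    refine ⟨by rw [hcard, hset, Set.ncard_pair hne], hidx c hoc hzc, ?_⟩
    intro N hNn hN
    exact no_index_four P a b z b k hinv hmul haP hbP hba hzdef hbP hba hzb N hNn hN
  · -- two classes: z ~ c
    right; left
    have hcz : ConjClasses.mk c = ConjClasses.mk z := ConjClasses.mk_eq_mk_iff_isConj.2 hzc.symm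
    have hne : ConjClasses.mk z ≠ ConjClasses.mk b :=
      fun h => hzb (ConjClasses.mk_eq_mk_iff_isConj.1 h)
    have hset : {C : ConjClasses G | ∃ g : G, ConjClasses.mk g = C ∧ orderOf g = 2} =
        {ConjClasses.mk z, ConjClasses.mk b} := by
      ext C
      rw [Set.mem_setOf_eq, hmem, hcz]
      show _ ↔ (C = _ ∨ C = _)
      tauto
    refine ⟨by rw [hcard, hset, Set.ncard_pair hne], hidx b hob hzb, ?_⟩
    intro N hNn hN
    exact no_index_four P a b z c k hinv hmul haP hbP hba hzdef hcP hca hzc N hNn hN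
  · -- three classes: normal 2-complement
    right; right
    have hnpc : Cfsg.HasNormalPComplement 2 G := by
      apply Helper1.npc_of_local
      apply Helper1.localP_of_sylow P
      intro Q hQP g hg hgo
      have hgQ : ∀ q ∈ Q, g * q * g⁻¹ ∈ Q :=
        fun q hq => (Subgroup.mem_normalizer_iff.1 hg q).1 hq
      have hgodd : Odd (orderOf g) := Nat.coprime_two_right.1 hgo
      suffices hcomm : ∀ q ∈ Q, g * q = q * g by
        rw [Subgroup.mem_centralizer_iff]
        intro q hq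
        exact (hcomm q hq).symm
      by_cases hQ : Q ≤ Subgroup.zpowers a ∨ ∃ q ∈ Q, q * q ≠ 1
      · exact Helper9.dih_centralizes (P : Subgroup G) P.isPGroup' a hinv hmul Q hQP hQ g hgQ
          hgodd
      · have hQ2 : ∀ q ∈ Q, q * q = 1 := by
          intro q hq
          by_contra hne
          exact hQ (Or.inr ⟨q, hq, hne⟩)
        apply Helper9.dih_centralizes_of_inter (P : Subgroup G) P.isPGroup' a hinv hmul Q hQP g
          hgQ hgodd
        intro q hq hqa
        by_cases hq1 : q = 1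
        · rw [hq1]; simp
        have hqz : q = z :=
          Helper9.involution_unique_zpowers a q z hqa hza (hQ2 q hq) hzz hq1 hz1
        have hw : g * q * g⁻¹ ∈ Q := hgQ q hq
        have hw1 : g * q * g⁻¹ ≠ 1 := by
          intro h
          apply hq1
          have e0 : q = g⁻¹ * (g * q * g⁻¹) * g := by group
          rw [e0, h]; group
        by_cases hwa : g * q * g⁻¹ ∈ Subgroup.zpowers a
        · have hwz : g * q * g⁻¹ = z :=
            Helper9.involution_unique_zpowers a _ z hwa hza (hQ2 _ hw) hzz hw1 hz1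
          rw [← hqz] at hwz
          exact mul_inv_eq_iff_eq_mul.1 hwz
        · exfalso
          obtain ⟨p, -, h | h⟩ := hconj _ (hQP hw) hwa
          · apply hzb
            rw [isConj_iff]
            refine ⟨p⁻¹ * g, ?_⟩
            have e1 : p⁻¹ * g * z * (p⁻¹ * g)⁻¹ = p⁻¹ * (g * z * g⁻¹) * p := by group
            rw [e1, ← hqz, h]; group
          · apply hzc
            rw [isConj_iff]
            refine ⟨p⁻¹ * g, ?_⟩
            have e1 : p⁻¹ * g * z * (p⁻¹ * g)⁻¹ = p⁻¹ * (g * z * g⁻¹) * p := by group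
            rw [e1, ← hqz, h]; group
    have hbc : ¬ IsConj b c := by
      intro hconjbc
      obtain ⟨x, hx⟩ := isConj_iff.1 hconjbc
      obtain ⟨K, hK, hcompl, -⟩ := Helper1.compl_of_npc P hnpc
      obtain ⟨⟨⟨n', hn'⟩, ⟨s, hs⟩⟩, hxeq⟩ := hcompl.2 x
      have hn'' : n' ∈ K := hn'
      have hs' : s ∈ (P : Subgroup G) := hs
      have hxeq' : n' * s = x := hxeq
      have hb' : s * b * s⁻¹ ∈ (P : Subgroup G) :=
        Subgroup.mul_mem _ (Subgroup.mul_mem _ hs' hbP) (Subgroup.inv_mem _ hs')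
      have h2 : c * (s * b * s⁻¹)⁻¹ ∈ K ⊓ (P : Subgroup G) := by
        refine Subgroup.mem_inf.2 ⟨?_, Subgroup.mul_mem _ hcP (Subgroup.inv_mem _ hb')⟩
        have e2 : c * (s * b * s⁻¹)⁻¹ =
            n' * ((s * b * s⁻¹) * n'⁻¹ * (s * b * s⁻¹)⁻¹) := by
          rw [← hx, ← hxeq']; group
        rw [e2]
        exact K.mul_mem hn'' (hK.conj_mem _ (K.inv_mem hn'') _)
      rw [hcompl.disjoint.eq_bot, Subgroup.mem_bot] at h2
      exact hnc s hs' (mul_inv_eq_one.1 h2).symm
    have h1 : ConjClasses.mk z ≠ ConjClasses.mk b :=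
      fun h => hzb (ConjClasses.mk_eq_mk_iff_isConj.1 h)
    have h2 : ConjClasses.mk z ≠ ConjClasses.mk c :=
      fun h => hzc (ConjClasses.mk_eq_mk_iff_isConj.1 h)
    have h3 : ConjClasses.mk b ≠ ConjClasses.mk c :=
      fun h => hbc (ConjClasses.mk_eq_mk_iff_isConj.1 h)
    have hset : {C : ConjClasses G | ∃ g : G, ConjClasses.mk g = C ∧ orderOf g = 2} =
        {ConjClasses.mk z, ConjClasses.mk b, ConjClasses.mk c} := by
      ext C
      rw [Set.mem_setOf_eq, hmem]
      show _ ↔ (C = _ ∨ C = _ ∨ C = _)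
      tauto
    refine ⟨?_, hnpc⟩
    rw [hcard]
    exact Set.ncard_eq_three.2 ⟨_, _, _, h1, h2, h3, hset⟩

end Cfsg.Agent.S3864
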