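-- S1255: dihedral Sylow 2-subgroups: no index two and no isolated involution iff one class of involutions.
import Mathlib
import Cfsg.Statements.S1255
import Cfsg.Agent.S3864
import Cfsg.Agent.Helper9.KleinSub

set_option autoImplicit false
open Cfsg

namespace Cfsg.Agent.S1255

/-- Package of facts on a group with dihedral Sylow 2-subgroup `S` of order `2m`. -/
theorem dih_pkg {X : Type*} [Group X] [Finite X] (S : Sylow 2 X) (m : ℕ) (hm : 2 ≤ m)
    (eS : (S : Subgroup X) ≃* DihedralGroup m) :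
    ∃ a b z : X, a ∈ (S : Subgroup X) ∧ b ∈ (S : Subgroup X) ∧ orderOf a = m ∧
      z ∈ Subgroup.zpowers a ∧ b ∉ Subgroup.zpowers a ∧
      orderOf z = 2 ∧ orderOf b = 2 ∧ orderOf (b * a) = 2 ∧
      (∀ s ∈ (S : Subgroup X), s ∉ Subgroup.zpowers a → s * s = 1) ∧
      (∀ s ∈ (S : Subgroup X), ∀ t ∈ (S : Subgroup X), s ∉ Subgroup.zpowers a →
        t ∉ Subgroup.zpowers a → s * t ∈ Subgroup.zpowers a) ∧
      (∀ s ∈ (S : Subgroup X), s ∉ Subgroup.zpowers a →
        ∃ p ∈ (S : Subgroup X), s = p * b * p⁻¹ ∨ s = p * (b * a) * p⁻¹) ∧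
      (∀ p ∈ (S : Subgroup X), p * b * p⁻¹ ≠ b * a) ∧
      (∀ g : X, orderOf g = 2 → IsConj g z ∨ IsConj g b ∨ IsConj g (b * a)) ∧
      (∀ y : X, orderOf y = 2 → ¬ IsConj z y → ∃ N : Subgroup X, N.index = 2) := by
  haveI : Fact (Nat.Prime 2) := ⟨Nat.prime_two⟩
  have hcardS : Nat.card (S : Subgroup X) = 2 * m := by
    rw [Nat.card_congr eS.toEquiv, DihedralGroup.nat_card]
  obtain ⟨k, hk, hk0⟩ : ∃ k, m = 2 * k ∧ k ≠ 0 := by
    have h1 := S.card_eq_multiplicity
    rw [hcardS] at h1
    generalize (Nat.card X).factorization 2 = j at h1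
    cases j with
    | zero => rw [pow_zero] at h1; omega
    | succ j =>
      cases j with
      | zero => rw [zero_add, pow_one] at h1; omega
      | succ j =>
        refine ⟨2 ^ j, ?_, by positivity⟩
        have h2 : 2 * m = 2 * (2 * 2 ^ j) := by rw [h1]; ring
        omega
  obtain ⟨a, b, haP, hbP, hoa, hba, hinv, hmul, hconj, hnc⟩ :=
    S3864.dih_data (S : Subgroup X) m (by omega) ⟨k, hk⟩ eS
  have hoa' : orderOf a = 2 * k := by rw [hoa, hk]
  obtain ⟨z, hzdef⟩ : ∃ z, z = a ^ k := ⟨_, rfl⟩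
  have hza : z ∈ Subgroup.zpowers a := by
    rw [hzdef]; exact Subgroup.pow_mem _ (Subgroup.mem_zpowers a) _
  have hzz : z * z = 1 := by
    rw [hzdef, ← pow_add, show k + k = 2 * k by ring, ← hoa', pow_orderOf_eq_one]
  have hz1 : z ≠ 1 := by
    rw [hzdef]; exact pow_ne_one_of_lt_orderOf hk0 (by rw [hoa']; omega)
  have hoz : orderOf z = 2 := orderOf_eq_prime (by rw [pow_two]; exact hzz) hz1
  have hcP : b * a ∈ (S : Subgroup X) := Subgroup.mul_mem _ hbP haP
  have hca : b * a ∉ Subgroup.zpowers a := by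
    intro h
    apply hba
    have e0 : b = b * a * a⁻¹ := by group
    rw [e0]
    exact Subgroup.mul_mem _ h (Subgroup.inv_mem _ (Subgroup.mem_zpowers a))
  have hbb : b * b = 1 := hinv b hbP hba
  have hcc : b * a * (b * a) = 1 := hinv _ hcP hca
  have hb1 : b ≠ 1 := fun h => hba (by rw [h]; exact Subgroup.one_mem _)
  have hc1 : b * a ≠ 1 := fun h => hca (by rw [h]; exact Subgroup.one_mem _)
  have hob : orderOf b = 2 := orderOf_eq_prime (by rw [pow_two]; exact hbb) hb1
  have hoc : orderOf (b * a) = 2 := orderOf_eq_prime (by rw [pow_two]; exact hcc) hc1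
  have hodd : Odd (S : Subgroup X).index := by
    rw [← Nat.not_even_iff_odd, even_iff_two_dvd]
    exact S.not_dvd_index
  have hcardG : Nat.card X =
      Nat.card (Subgroup.zpowers a) * 2 ^ (0 + 1) * (S : Subgroup X).index := by
    rw [← (S : Subgroup X).card_mul_index, hcardS, Nat.card_zpowers, hoa]; ring
  refine ⟨a, b, z, haP, hbP, hoa, hza, hba, hoz, hob, hoc, hinv, hmul, hconj, hnc, ?_, ?_⟩
  · intro g hg
    have hgp : IsPGroup 2 (Subgroup.zpowers g) := by
      apply IsPGroup.of_card (n := 1)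
      rw [Nat.card_zpowers, hg, pow_one]
    obtain ⟨x, hx⟩ := Helper14.exists_le_sylow_conj S (Subgroup.zpowers g) hgp
    have hs : x⁻¹ * g * x ∈ (S : Subgroup X) :=
      (Helper14.mem_map_conj _ x g).1 (hx (Subgroup.mem_zpowers g))
    have hgg : g * g = 1 := by rw [← pow_two, ← hg, pow_orderOf_eq_one]
    have hss : (x⁻¹ * g * x) * (x⁻¹ * g * x) = 1 := by
      calc (x⁻¹ * g * x) * (x⁻¹ * g * x) = x⁻¹ * (g * g) * x := by group
        _ = 1 := by rw [hgg]; group
    have hs1 : x⁻¹ * g * x ≠ 1 := by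
      intro h
      have hg1 : g = 1 := by
        have e0 : g = x * (x⁻¹ * g * x) * x⁻¹ := by group
        rw [e0, h]; group
      rw [hg1, orderOf_one] at hg
      exact absurd hg (by norm_num)
    by_cases hsa : x⁻¹ * g * x ∈ Subgroup.zpowers a
    · left
      have h3 := Helper9.involution_unique_zpowers a _ z hsa hza hss hzz hs1 hz1
      rw [isConj_iff]
      exact ⟨x⁻¹, by rw [inv_inv]; exact h3⟩
    · obtain ⟨p, -, h | h⟩ := hconj _ hs hsa
      · right; left
        rw [isConj_iff]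
        refine ⟨p⁻¹ * x⁻¹, ?_⟩
        have e1 : p⁻¹ * x⁻¹ * g * (p⁻¹ * x⁻¹)⁻¹ = p⁻¹ * (x⁻¹ * g * x) * p := by group
        rw [e1, h]; group
      · right; right
        rw [isConj_iff]
        refine ⟨p⁻¹ * x⁻¹, ?_⟩
        have e1 : p⁻¹ * x⁻¹ * g * (p⁻¹ * x⁻¹)⁻¹ = p⁻¹ * (x⁻¹ * g * x) * p := by group
        rw [e1, h]; group
  · intro y hy hzy
    have hfree : ∀ g : X, g * y ^ (2 ^ 0) * g⁻¹ ∉ Subgroup.zpowers a := by
      intro g hmem'
      rw [pow_zero, pow_one] at hmem'
      have hyy : y * y = 1 := by rw [← pow_two, ← hy, pow_orderOf_eq_one]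
      have h1 : (g * y * g⁻¹) * (g * y * g⁻¹) = 1 := by
        calc (g * y * g⁻¹) * (g * y * g⁻¹) = g * (y * y) * g⁻¹ := by group
          _ = 1 := by rw [hyy]; group
      have h2 : g * y * g⁻¹ ≠ 1 := by
        intro h
        have hy1 : y = 1 := by
          have e0 : y = g⁻¹ * (g * y * g⁻¹) * g := by group
          rw [e0, h]; group
        rw [hy1, orderOf_one] at hy
        exact absurd hy (by norm_num)
      have h3 := Helper9.involution_unique_zpowers a _ z hmem' hza h1 hzz h2 hz1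
      apply hzy
      rw [isConj_iff]
      refine ⟨g⁻¹, ?_⟩
      rw [← h3]; group
    obtain ⟨N, hN, -, -⟩ := S1924.idx2 (Subgroup.zpowers a) y 0 (S : Subgroup X).index
      (by rw [hy]; norm_num) hodd hcardG hfree
    exact ⟨N, hN⟩

/-- If `z ~ b` and `z ~ ba` then there is no subgroup of index two. -/
theorem no_index_two' {G : Type*} [Group G] [Finite G] (P : Sylow 2 G) (a b z : G)
    (hmul : ∀ s ∈ (P : Subgroup G), ∀ t ∈ (P : Subgroup G), s ∉ Subgroup.zpowers a →
      t ∉ Subgroup.zpowers a → s * t ∈ Subgroup.zpowers a)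
    (hbP : b ∈ (P : Subgroup G)) (hba : b ∉ Subgroup.zpowers a)
    (hza : z ∈ Subgroup.zpowers a) (hzb : IsConj z b) (hzc : IsConj z (b * a))
    (N : Subgroup G) (hN : N.index = 2) : False := by
  haveI hNn : N.Normal := Subgroup.normal_of_index_eq_two hN
  have hcm := S3864.comm_mem_of_index_two N hN
  obtain ⟨g1, hg1⟩ := isConj_iff.1 hzb
  obtain ⟨g2, hg2⟩ := isConj_iff.1 hzc
  have h1 : b * z⁻¹ ∈ N := by
    have := hcm g1 z
    rwa [hg1] at this
  have h2 : b * a * z⁻¹ ∈ N := by
    have := hcm g2 z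
    rwa [hg2] at this
  have h3 : b * a * b⁻¹ ∈ N := by
    have e1 : b * a * b⁻¹ = (b * a * z⁻¹) * (b * z⁻¹)⁻¹ := by group
    rw [e1]; exact Subgroup.mul_mem _ h2 (Subgroup.inv_mem _ h1)
  have haN : a ∈ N := by
    have h4 := hNn.conj_mem _ h3 b⁻¹
    have e2 : b⁻¹ * (b * a * b⁻¹) * b⁻¹⁻¹ = a := by group
    rwa [e2] at h4
  have hzN : z ∈ N := (Subgroup.zpowers_le.2 haN) hza
  have hbN : b ∈ N := by
    have e3 : b = b * z⁻¹ * z := by group
    rw [e3]; exact Subgroup.mul_mem _ h1 hzN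
  have hPN : (P : Subgroup G) ≤ N := by
    intro s hs
    by_cases hsa : s ∈ Subgroup.zpowers a
    · exact (Subgroup.zpowers_le.2 haN) hsa
    · have h4 := (Subgroup.zpowers_le.2 haN) (hmul s hs b hbP hsa hba)
      have e4 : s = s * b * b⁻¹ := by group
      rw [e4]; exact Subgroup.mul_mem _ h4 (Subgroup.inv_mem _ hbN)
  have hdvd := Subgroup.index_dvd_of_le hPN
  rw [hN] at hdvd
  exact P.not_dvd_index hdvd

theorem result {X : Type*} [Group X] [Finite X] (S : Sylow 2 X) (m : ℕ) (hm : 2 ≤ m) (eS : (S : Subgroup X) ≃* DihedralGroup m) : ((∀ H : Subgroup X, H.index ≠ 2) ∧ (∀ z : X, ¬ Cfsg.IsIsolatedInvolution z)) ↔ ((∀ a b : X, orderOf a = 2 → orderOf b = 2 → IsConj a b) ∨ (∀ U : Subgroup X, U ≤ S → IsKleinFour U → (Subgroup.centralizer (U : Set X)).relIndex (Subgroup.normalizer (U : Set X)) = (if Nat.card S = 4 then 3 else 6))) := by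
  obtain ⟨a, b, z, haP, hbP, hoa, hza, hba, hoz, hob, hoc, hinv, hmul, hconj, hnc, hinvol, hidx⟩ :=
    dih_pkg S m hm eS
  have hzz : z * z = 1 := by rw [← pow_two, ← hoz, pow_orderOf_eq_one]
  have hz1 : z ≠ 1 := by
    intro h
    rw [h, orderOf_one] at hoz
    exact absurd hoz (by norm_num)
  have hzP : z ∈ (S : Subgroup X) := (Subgroup.zpowers_le.2 haP) hza
  have hcP : b * a ∈ (S : Subgroup X) := Subgroup.mul_mem _ hbP haP
  have hca : b * a ∉ Subgroup.zpowers a := by
    intro h
    apply hba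
    have e0 : b = b * a * a⁻¹ := by group
    rw [e0]
    exact Subgroup.mul_mem _ h (Subgroup.inv_mem _ (Subgroup.mem_zpowers a))
  have hzcomm : ∀ y ∈ (S : Subgroup X), y ∉ Subgroup.zpowers a → z * y = y * z := by
    intro y hyP hya
    have hyy : y * y = 1 := hinv y hyP hya
    have hyz : y * z ∉ Subgroup.zpowers a := by
      intro h
      apply hya
      have e0 : y = y * z * z⁻¹ := by group
      rw [e0]; exact Subgroup.mul_mem _ h (Subgroup.inv_mem _ hza)
    have h1 : y * z * (y * z) = 1 := hinv _ (Subgroup.mul_mem _ hyP hzP) hyz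
    calc z * y = (y * y) * (z * y) * (z * z) := by rw [hyy, hzz, one_mul, mul_one]
      _ = y * (y * z * (y * z)) * z := by group
      _ = y * z := by rw [h1, mul_one]
  have hzb_ne : z ≠ b := fun h => hba (h ▸ hza)
  have hall_of : IsConj z b → IsConj z (b * a) →
      ∀ x y : X, orderOf x = 2 → orderOf y = 2 → IsConj x y := by
    intro hzb hzc x y hx hy
    have hxz : IsConj x z := by
      rcases hinvol x hx with h | h | h
      · exact h
      · exact h.trans hzb.symm
      · exact h.trans hzc.symm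
    have hyz : IsConj y z := by
      rcases hinvol y hy with h | h | h
      · exact h
      · exact h.trans hzb.symm
      · exact h.trans hzc.symm
    exact hxz.trans hyz.symm
  have hA : (∀ x y : X, orderOf x = 2 → orderOf y = 2 → IsConj x y) →
      (∀ H : Subgroup X, H.index ≠ 2) ∧ (∀ t : X, ¬ Cfsg.IsIsolatedInvolution t) := by
    intro hall
    have hzb := hall z b hoz hob
    have hzc := hall z (b * a) hoz hoc
    refine ⟨fun H hH => no_index_two' S a b z hmul hbP hba hza hzb hzc H hH, ?_⟩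
    rintro t ⟨hot, hiso⟩
    obtain ⟨h, hh⟩ := isConj_iff.1 (hall z t hoz hot)
    obtain ⟨g, hg⟩ := isConj_iff.1 hzb
    have hkey : (h * g * h⁻¹) * t * (h * g * h⁻¹)⁻¹ = h * b * h⁻¹ := by
      rw [← hh, ← hg]; group
    have hcomm : Commute t ((h * g * h⁻¹) * t * (h * g * h⁻¹)⁻¹) := by
      rw [hkey, ← hh]
      show h * z * h⁻¹ * (h * b * h⁻¹) = h * b * h⁻¹ * (h * z * h⁻¹)
      calc h * z * h⁻¹ * (h * b * h⁻¹) = h * (z * b) * h⁻¹ := by group
        _ = h * (b * z) * h⁻¹ := by rw [hzcomm b hbP hba]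
        _ = h * b * h⁻¹ * (h * z * h⁻¹) := by group
    have h2 := hiso _ hcomm
    rw [hkey, ← hh] at h2
    exact hzb_ne (mul_left_cancel (mul_right_cancel h2)).symm
  constructor
  · rintro ⟨hno2, -⟩
    left
    by_cases hzb : IsConj z b
    · by_cases hzc : IsConj z (b * a)
      · exact hall_of hzb hzc
      · obtain ⟨N, hN⟩ := hidx (b * a) hoc hzc
        exact absurd hN (hno2 N)
    · obtain ⟨N, hN⟩ := hidx b hob hzb
      exact absurd hN (hno2 N)
  · rintro (hall | hU)
    · exact hA hall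
    · apply hA
      have key : ∀ y ∈ (S : Subgroup X), y ∉ Subgroup.zpowers a → IsConj z y := by
        intro y hyP hya
        have hyy : y * y = 1 := hinv y hyP hya
        have hy1 : y ≠ 1 := fun h => hya (by rw [h]; exact Subgroup.one_mem _)
        have hne : z ≠ y := fun h => hya (h ▸ hza)
        have hzy := hzcomm y hyP hya
        have hle : Helper9.kfour z y hzz hyy hzy ≤ (S : Subgroup X) := by
          intro x hx
          rcases Helper9.mem_kfour.1 hx with h | h | h | h
          · rw [h]; exact Subgroup.one_mem _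
          · rw [h]; exact hzP
          · rw [h]; exact hyP
          · rw [h]; exact Subgroup.mul_mem _ hzP hyP
        have hK := Helper9.isKleinFour_kfour z y hzz hyy hzy hz1 hy1 hne
        have h3 : 3 ∣ (Subgroup.centralizer
            ((Helper9.kfour z y hzz hyy hzy : Subgroup X) : Set X)).relIndex
            (Subgroup.normalizer ((Helper9.kfour z y hzz hyy hzy : Subgroup X) : Set X)) := by
          rw [hU _ hle hK]
          split_ifs <;> norm_num
        obtain ⟨g, hgN, hgC, hgo⟩ := Helper9.exists_odd_not_mem_of_three_dvd _ _ h3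
        exact Helper9.kfour_conj z y hzz hyy hzy hz1 hy1 hne g hgN hgC hgo
      exact hall_of (key b hbP hba) (key (b * a) hcP hca)

end Cfsg.Agent.S1255
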