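import Cfsg.Statements.S1256
import Mathlib
import Cfsg.Agent.S3864
import Cfsg.Agent.Helper29.DihFour2

set_option autoImplicit false
open Cfsg

namespace Cfsg.Agent.S1256

theorem result {X : Type*} [Group X] [Finite X] (S : Sylow 2 X) (m : ℕ) (hm : 2 ≤ m) (eS : (S : Subgroup X) ≃* DihedralGroup m) : (Nat.card S = 4 → ∀ U V : Subgroup X, IsKleinFour U → IsKleinFour V → (∃ x : X, U.map (MulAut.conj x).toMonoidHom = V)) ∧ (4 < Nat.card S → ∃ U₁ U₂ : Subgroup X, IsKleinFour U₁ ∧ IsKleinFour U₂ ∧ ¬ (∃ x : X, U₁.map (MulAut.conj x).toMonoidHom = U₂) ∧ ∀ V : Subgroup X, IsKleinFour V → (∃ x : X, V.map (MulAut.conj x).toMonoidHom = U₁) ∨ (∃ x : X, V.map (MulAut.conj x).toMonoidHom = U₂)) := by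
  classical
  have : Fact (Nat.Prime 2) := ⟨Nat.prime_two⟩
  have hcardS : Nat.card (S : Subgroup X) = 2 * m := by
    rw [Nat.card_congr eS.toEquiv, DihedralGroup.nat_card]
  constructor
  · intro h4 U V hU hV
    have key : ∀ W : Subgroup X, IsKleinFour W →
        ∃ g : X, (S : Subgroup X).map (MulAut.conj g).toMonoidHom = W := by
      intro W hW
      have hW2 : IsPGroup 2 W := IsPGroup.of_card (n := 2) (by rw [hW.card_four]; norm_num)
      obtain ⟨g, hg⟩ := Cfsg.Agent.Helper14.exists_le_sylow_conj S W hW2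
      refine ⟨g, (Subgroup.eq_of_le_of_card_ge hg ?_).symm⟩
      have h6 : Nat.card ((S : Subgroup X).map (MulAut.conj g).toMonoidHom) =
          Nat.card (S : Subgroup X) :=
        Subgroup.card_map_of_injective (MulAut.conj g).injective
      rw [h6, h4, hW.card_four]
    obtain ⟨g, hg⟩ := key U hU
    obtain ⟨g2, hg2⟩ := key V hV
    refine ⟨g2 * g⁻¹, ?_⟩
    rw [← hg, Cfsg.Agent.Helper14.map_conj_map_conj, ← hg2]
    have e : g2 * g⁻¹ * g = g2 := by group
    rw [e]
  · intro h4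
    obtain ⟨f, hf⟩ := IsPGroup.iff_card.1 S.isPGroup'
    have h4m : 4 ∣ m := by
      rw [hcardS] at hf h4
      have hf3 : 3 ≤ f := by
        by_contra hlt
        have h1 : f ≤ 2 := by omega
        have h2 := Nat.pow_le_pow_right (show 0 < 2 by norm_num) h1
        omega
      obtain ⟨f2, rfl⟩ := Nat.exists_eq_add_of_le hf3
      refine ⟨2 ^ f2, ?_⟩
      rw [pow_add] at hf
      have h3 : (2 : ℕ) ^ 3 = 8 := by norm_num
      rw [h3] at hf
      omega
    have hm0 : m ≠ 0 := by omega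
    obtain ⟨a, b, haS, hbS, hoa, hbA, hinv, hmul, hconj, hnc⟩ :=
      Cfsg.Agent.S3864.dih_data (S : Subgroup X) m hm0 (dvd_trans (by norm_num) h4m) eS
    have h : Cfsg.Agent.Helper29.DihFour.DD (S : Subgroup X) a b :=
      ⟨haS, hbS, hbA, hinv, hmul, hconj, hnc⟩
    obtain ⟨k, hk⟩ := h4m
    have hk0 : k ≠ 0 := by rintro rfl; omega
    have hcA : a ^ k ∈ Subgroup.zpowers a := Subgroup.pow_mem _ (Subgroup.mem_zpowers a) k
    have hc4 : orderOf (a ^ k) = 4 := by
      rw [orderOf_pow_of_dvd hk0 (by rw [hoa, hk]; exact dvd_mul_left k 4), hoa, hk]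
      exact Nat.mul_div_cancel _ (Nat.pos_of_ne_zero hk0)
    generalize a ^ k = c at hcA hc4
    obtain ⟨c4, c2, hci, hne⟩ := Cfsg.Agent.Helper29.DihFour.c_facts hc4
    have hzA : c * c ∈ Subgroup.zpowers a := Subgroup.mul_mem _ hcA hcA
    have hbb := hinv b hbS hbA
    have hbaS : b * a ∈ (S : Subgroup X) := Subgroup.mul_mem _ hbS haS
    have hbaA : b * a ∉ Subgroup.zpowers a := fun hmem => hbA (by
      have := Subgroup.mul_mem _ hmem (Subgroup.inv_mem _ (Subgroup.mem_zpowers a))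
      simpa using this)
    have hbaba := hinv (b * a) hbaS hbaA
    have hzb : c * c * b = b * (c * c) :=
      (mul_inv_eq_iff_eq_mul.1 (h.z_central hzA c4 hbS)).symm
    have hzba : c * c * (b * a) = b * a * (c * c) :=
      (mul_inv_eq_iff_eq_mul.1 (h.z_central hzA c4 hbaS)).symm
    have hb1 : b ≠ 1 := fun hb => hbA (hb ▸ Subgroup.one_mem _)
    have hba1 : b * a ≠ 1 := fun hb => hbaA (hb ▸ Subgroup.one_mem _)
    have hzb_ne : c * c ≠ b := fun hb => hbA (hb ▸ hzA)
    have hzba_ne : c * c ≠ b * a := fun hb => hbaA (hb ▸ hzA)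
    have hK1 := Cfsg.Agent.Helper9.isKleinFour_kfour (c * c) b c4 hbb hzb c2 hb1 hzb_ne
    have hK2 := Cfsg.Agent.Helper9.isKleinFour_kfour (c * c) (b * a) c4 hbaba hzba c2 hba1 hzba_ne
    refine ⟨Cfsg.Agent.Helper9.kfour (c * c) b c4 hbb hzb,
      Cfsg.Agent.Helper9.kfour (c * c) (b * a) c4 hbaba hzba, hK1, hK2, ?_, ?_⟩
    · rintro ⟨x, hx⟩
      obtain ⟨n, g, hn, hg1, hg2⟩ := Cfsg.Agent.Helper29.DihFour.sylow_step S _ _ c x hc4
        (h.c_norm hcA hbS hbA c4 hbb hzb) (h.c_norm hcA hbaS hbaA c4 hbaba hzba) hx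
      apply h.final S hcA hc4 (n * x)
      · have hT : g⁻¹ * c * g = c ∨ g⁻¹ * c * g = c⁻¹ := by
          apply h.order_four hcA hc4 hg1
          have := Cfsg.Agent.Helper29.DihFour.ord_conj g⁻¹ c
          rw [inv_inv] at this
          rw [this, hc4]
        have e1 : n * x * c * (n * x)⁻¹ = n * (x * c * x⁻¹) * n⁻¹ := by group
        rw [e1]
        apply Cfsg.Agent.Helper29.DihFour.conj_pm hT
        apply h.order_four hcA hc4 hg2
        have := Cfsg.Agent.Helper29.DihFour.ord_conj g⁻¹ (n * (x * c * x⁻¹) * n⁻¹)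
        rw [inv_inv] at this
        rw [this, Cfsg.Agent.Helper29.DihFour.ord_conj, Cfsg.Agent.Helper29.DihFour.ord_conj, hc4]
      · have hxb : x * b * x⁻¹ ∈ Cfsg.Agent.Helper9.kfour (c * c) (b * a) c4 hbaba hzba := by
          rw [← hx]
          exact Cfsg.Agent.Helper14.conj_mem_map_conj _ x
            (Cfsg.Agent.Helper9.mem_kfour.2 (Or.inr (Or.inr (Or.inl rfl))))
        have h5 := hn _ hxb
        have e : n * x * b * (n * x)⁻¹ = n * (x * b * x⁻¹) * n⁻¹ := by group
        rw [e]; exact Cfsg.Agent.Helper9.mem_kfour.1 h5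
    · intro V hV
      obtain ⟨x, hxz, hx⟩ := h.classes S hcA hc4 V hV
      rcases hx with hx | hx
      · left
        refine ⟨x⁻¹, ?_⟩
        have h1 := Cfsg.Agent.Helper29.DihFour.map_conj_eq_of_forall
          (Cfsg.Agent.Helper9.kfour (c * c) b c4 hbb hzb) V
          (by rw [hK1.card_four, hV.card_four]) x
          (Cfsg.Agent.Helper29.DihFour.kfour_conj_le c4 hbb hzb V x hxz hx)
        rw [← h1]; exact Cfsg.Agent.Helper14.map_conj_inv_map_conj _ x
      · right
        refine ⟨x⁻¹, ?_⟩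
        have h1 := Cfsg.Agent.Helper29.DihFour.map_conj_eq_of_forall
          (Cfsg.Agent.Helper9.kfour (c * c) (b * a) c4 hbaba hzba) V
          (by rw [hK2.card_four, hV.card_four]) x
          (Cfsg.Agent.Helper29.DihFour.kfour_conj_le c4 hbaba hzba V x hxz hx)
        rw [← h1]; exact Cfsg.Agent.Helper14.map_conj_inv_map_conj _ x

end Cfsg.Agent.S1256
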