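import Cfsg.Statements.S1280
import Cfsg.Agent.Helper23.FixedLift

set_option autoImplicit false
open Cfsg

namespace Cfsg.Agent.S1280

open Cfsg.Agent.Helper23

/-- Let θ be a solvable A-signalizer functor (A a noncyclic elementary abelian p-subgroup of the finite group G), and X, Y members of its family with Y ≤ N_G(X). Then X ⊔ Y (= XY) is again in the family. -/
theorem result {G : Type*} [Group G] [Finite G] (p : ℕ) [Fact p.Prime] (A : Subgroup G) (hA : Cfsg.IsElementaryAbelian p A) (hA2 : p ^ 2 ≤ Nat.card ↥A) (θ : G → Subgroup G) (hθ : Cfsg.IsSolvableSignalizerFunctor p A θ) (X Y : Subgroup G) (hX : X ∈ Cfsg.signalizerFamily p A θ) (hY : Y ∈ Cfsg.signalizerFamily p A θ) (hn : Y ≤ Subgroup.normalizer (X : Set G)) : X ⊔ Y ∈ Cfsg.signalizerFamily p A θ := by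
  have hp : p.Prime := Fact.out
  obtain ⟨hX1, hX2, hX3, hX4⟩ := hX
  obtain ⟨hY1, hY2, hY3, hY4⟩ := hY
  refine ⟨isSolvable_sup_of_le_normalizer hX1 hY1 hn,
    not_dvd_card_sup_of_le_normalizer hp hX2 hY2 hn, ?_, ?_⟩
  · intro b hb u hu
    obtain ⟨x, hx, y, hy, rfl⟩ := exists_mul_of_mem_sup hn hu
    have e : b * (x * y) * b⁻¹ = (b * x * b⁻¹) * (b * y * b⁻¹) := by group
    rw [e]
    exact Subgroup.mul_mem _ (Subgroup.mem_sup_left (hX3 b hb x hx))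
      (Subgroup.mem_sup_right (hY3 b hb y hy))
  · intro a ha ha1 g hg
    obtain ⟨hg1, hg2⟩ := Subgroup.mem_inf.1 hg
    obtain ⟨x, hx, y, hy, rfl⟩ := exists_mul_of_mem_sup hn hg1
    have hga : Commute (x * y) a := Subgroup.mem_centralizer_singleton_iff.1 hg2
    have hza : Subgroup.zpowers a ≤ A := Subgroup.zpowers_le.2 ha
    have hzp : IsPGroup p (Subgroup.zpowers a) :=
      isPGroup_zpowers_of_pow a 1 (by rw [pow_one]; exact hA.2 a ha)
    have hD : ¬ p ∣ Nat.card ↥(X ⊓ Y) :=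
      fun h => hX2 (h.trans (Subgroup.card_dvd_of_le inf_le_left))
    have hPN : ∀ c ∈ Subgroup.zpowers a, ∀ n ∈ X ⊓ Y, c * n * c⁻¹ ∈ X ⊓ Y := by
      intro c hc n hn'
      obtain ⟨hn1, hn2⟩ := Subgroup.mem_inf.1 hn'
      exact Subgroup.mem_inf.2 ⟨hX3 c (hza hc) n hn1, hY3 c (hza hc) n hn2⟩
    have hv : ∀ c ∈ Subgroup.zpowers a, y⁻¹⁻¹ * c * y⁻¹ * c⁻¹ ∈ X ⊓ Y := by
      intro c hc
      obtain ⟨k, rfl⟩ := Subgroup.mem_zpowers_iff.1 hc
      have hck : a ^ k * (x * y) = x * y * a ^ k := (hga.zpow_right k).eq.symm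
      have e1 : y⁻¹⁻¹ * a ^ k * y⁻¹ * (a ^ k)⁻¹ = y * (a ^ k * y⁻¹ * (a ^ k)⁻¹) := by group
      have e2 : y⁻¹⁻¹ * a ^ k * y⁻¹ * (a ^ k)⁻¹ = x⁻¹ * (a ^ k * x * (a ^ k)⁻¹) := by
        have e3 : x⁻¹ * (a ^ k * x * (a ^ k)⁻¹) =
            x⁻¹ * (a ^ k * (x * y)) * y⁻¹ * (a ^ k)⁻¹ := by group
        rw [e3, hck]; group
      refine Subgroup.mem_inf.2 ⟨?_, ?_⟩
      · rw [e2]
        exact Subgroup.mul_mem _ (Subgroup.inv_mem _ hx) (hX3 _ (hza hc) x hx)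
      · rw [e1]
        exact Subgroup.mul_mem _ hy (hY3 _ (hza hc) _ (Subgroup.inv_mem _ hy))
    obtain ⟨n, hn', hfix⟩ :=
      exists_fixed_lift_gen (X ⊓ Y) hD (Subgroup.zpowers a) hzp hPN y⁻¹ hv
    obtain ⟨hn1, hn2⟩ := Subgroup.mem_inf.1 hn'
    have hfa : Commute a (y⁻¹ * n) := hfix a (Subgroup.mem_zpowers a)
    have h1 : y⁻¹ * n ∈ θ a := by
      apply hY4 a ha ha1
      refine Subgroup.mem_inf.2 ⟨Subgroup.mul_mem _ (Subgroup.inv_mem _ hy) hn2, ?_⟩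
      rw [Subgroup.mem_centralizer_singleton_iff]
      exact hfa.symm.eq
    have h2 : x * n ∈ θ a := by
      apply hX4 a ha ha1
      refine Subgroup.mem_inf.2 ⟨Subgroup.mul_mem _ hx hn1, ?_⟩
      rw [Subgroup.mem_centralizer_singleton_iff]
      have e : x * n = (x * y) * (y⁻¹ * n) := by group
      rw [e]
      exact (hga.mul_left hfa.symm).eq
    have e : x * y = (x * n) * (y⁻¹ * n)⁻¹ := by group
    rw [e]
    exact Subgroup.mul_mem _ h2 (Subgroup.inv_mem _ h1)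

end Cfsg.Agent.S1280
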