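import Cfsg.Statements.S1281
import Cfsg.Agent.Helper23.FixedLift

set_option autoImplicit false
open Cfsg

namespace Cfsg.Agent.S1281

open Cfsg.Agent.Helper23

/-- Let θ be a solvable A-signalizer functor on the finite group G (A a noncyclic elementary abelian p-subgroup) and N a normal subgroup of order prime to p. Then for all non-identity a, b ∈ A, the image of θ a in G / N meets the centralizer of the image of b inside the image of θ b. -/
theorem result {G : Type*} [Group G] [Finite G] (p : ℕ) [Fact p.Prime] (A : Subgroup G) (hA : Cfsg.IsElementaryAbelian p A) (hA2 : p ^ 2 ≤ Nat.card ↥A) (θ : G → Subgroup G) (hθ : Cfsg.IsSolvableSignalizerFunctor p A θ) (N : Subgroup G) [N.Normal] (hN : ¬ p ∣ Nat.card ↥N) (a b : G) (ha : a ∈ A) (ha1 : a ≠ 1) (hb : b ∈ A) (hb1 : b ≠ 1) : (θ a).map (QuotientGroup.mk' N) ⊓ Subgroup.centralizer {QuotientGroup.mk' N b} ≤ (θ b).map (QuotientGroup.mk' N) := by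
  have hNn : N.Normal := inferInstance
  obtain ⟨⟨hθ1, hθ2, hθ3, hθ4⟩, -⟩ := hθ
  intro x' hx'
  obtain ⟨hx'1, hx'2⟩ := Subgroup.mem_inf.1 hx'
  obtain ⟨x, hx, rfl⟩ := hx'1
  have hcomm : QuotientGroup.mk' N x * QuotientGroup.mk' N b =
      QuotientGroup.mk' N b * QuotientGroup.mk' N x :=
    Subgroup.mem_centralizer_singleton_iff.1 hx'2
  have hzb : Subgroup.zpowers b ≤ A := Subgroup.zpowers_le.2 hb
  have hzp : IsPGroup p (Subgroup.zpowers b) :=
    isPGroup_zpowers_of_pow b 1 (by rw [pow_one]; exact hA.2 b hb)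
  have hD : ¬ p ∣ Nat.card ↥(N ⊓ θ a) :=
    fun h => hN (h.trans (Subgroup.card_dvd_of_le inf_le_left))
  have hPN : ∀ c ∈ Subgroup.zpowers b, ∀ n ∈ N ⊓ θ a, c * n * c⁻¹ ∈ N ⊓ θ a := by
    intro c hc n hn
    obtain ⟨hn1, hn2⟩ := Subgroup.mem_inf.1 hn
    exact Subgroup.mem_inf.2 ⟨hNn.conj_mem n hn1 c, hθ3 a ha ha1 c (hzb hc) n hn2⟩
  have hv : ∀ c ∈ Subgroup.zpowers b, x⁻¹ * c * x * c⁻¹ ∈ N ⊓ θ a := by
    intro c hc
    refine Subgroup.mem_inf.2 ⟨?_, ?_⟩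
    · obtain ⟨k, rfl⟩ := Subgroup.mem_zpowers_iff.1 hc
      have hcb : Commute (QuotientGroup.mk' N x) (QuotientGroup.mk' N b) := hcomm
      have h1 : QuotientGroup.mk' N (x⁻¹ * b ^ k * x * (b ^ k)⁻¹) = 1 := by
        rw [map_mul, map_mul, map_mul, map_inv, map_inv, map_zpow]
        rw [mul_assoc (QuotientGroup.mk' N x)⁻¹, ← (hcb.zpow_right k).eq]
        group
      rw [QuotientGroup.mk'_apply, QuotientGroup.eq_one_iff] at h1
      exact h1
    · have h1 : x⁻¹ * c * x * c⁻¹ = x⁻¹ * (c * x * c⁻¹) := by group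
      rw [h1]
      exact Subgroup.mul_mem _ (Subgroup.inv_mem _ hx) (hθ3 a ha ha1 c (hzb hc) x hx)
  obtain ⟨n, hn, hfix⟩ := exists_fixed_lift_gen (N ⊓ θ a) hD (Subgroup.zpowers b) hzp hPN x hv
  obtain ⟨hn1, hn2⟩ := Subgroup.mem_inf.1 hn
  have hy : x * n ∈ θ a ⊓ Subgroup.centralizer ({b} : Set G) := by
    refine Subgroup.mem_inf.2 ⟨Subgroup.mul_mem _ hx hn2, ?_⟩
    rw [Subgroup.mem_centralizer_singleton_iff]
    exact (hfix b (Subgroup.mem_zpowers b)).symm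
  have hyb : x * n ∈ θ b := hθ4 a ha ha1 b hb hb1 hy
  refine ⟨x * n, hyb, ?_⟩
  have h1 : QuotientGroup.mk' N n = 1 := by
    rw [QuotientGroup.mk'_apply, QuotientGroup.eq_one_iff]; exact hn1
  rw [map_mul, h1, mul_one]

end Cfsg.Agent.S1281
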