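-- S1284: consequences of transitivity: Sylow q-subgroups of members of the family and of θ(C(B)).
import Mathlib
import Cfsg.Statements.S1284
import Cfsg.Agent.Helper9.Transitivity

set_option autoImplicit false
open Cfsg
open Cfsg.Agent.Helper9.Trans

namespace Cfsg.Agent.S1284

theorem sylow_conj {G : Type*} [Group G] [Finite G] (p : ℕ) [Fact p.Prime] (A : Subgroup G)
    (hA : Cfsg.IsElementaryAbelian p A) (hA3 : p ^ 3 ≤ Nat.card ↥A) (θ : G → Subgroup G)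
    (hθ : Cfsg.IsSignalizerFunctor p A θ) (q : ℕ) [Fact q.Prime] (Q : Subgroup G)
    (hQ : IsMaxQ p q A θ Q) (H : Subgroup G) (hH : WF p A θ H) :
    ∃ c ∈ Cfsg.signalizerInf A θ, ∃ S : Sylow q ↥H,
      (S : Subgroup ↥H).map H.subtype = Q.map (MulAut.conj c).toMonoidHom ⊓ H := by
  classical
  have hp : p.Prime := Fact.out
  have hAp : IsPGroup p ↥A := Cfsg.Agent.Helper3.elemAb_isPGroup hA
  have hAsol : Group.IsSolvable ↥A := by
    haveI : Group.IsNilpotent ↥A := hAp.isNilpotent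
    exact inferInstance
  have hcop : (Nat.card ↥A).Coprime (Nat.card ↥H) := by
    obtain ⟨m, hm⟩ := IsPGroup.iff_card.1 hAp
    rw [hm]
    exact Nat.Coprime.pow_left m ((Nat.Prime.coprime_iff_not_dvd hp).2 hH.1)
  have hAH : A ≤ Subgroup.normalizer (H : Set G) := fun b hb =>
    Cfsg.Agent.Helper9.mem_normalizer_of_conj_le H b (hH.2.1 b hb)
  obtain ⟨P, hAP⟩ := Cfsg.Agent.S0023.result A H hAH hcop (Or.inl hAsol) q
  obtain ⟨R, hR⟩ : ∃ R : Subgroup G, R = (P : Subgroup ↥H).map H.subtype := ⟨_, rfl⟩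
  rw [← hR] at hAP
  have hRH : R ≤ H := by rw [hR]; rintro _ ⟨x, -, rfl⟩; exact x.2
  have hRq : IsPGroup q ↥R := by rw [hR]; exact P.isPGroup'.map _
  have hRinv : ∀ b ∈ A, ∀ u ∈ R, b * u * b⁻¹ ∈ R := fun b hb u hu =>
    (Subgroup.mem_normalizer_iff.mp (hAP hb) u).mp hu
  have hRF := fam_of_wf (wf_sub hH hRH hRinv) hRq
  obtain ⟨Q', hRQ', hQ'⟩ := exists_max p q A θ _ R hRF hRq rfl
  obtain ⟨c, hc, hcQ⟩ := transitivity p A hA hA3 θ hθ q Q Q' hQ hQ'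
  refine ⟨c, hc, P, ?_⟩
  rw [hcQ, ← hR]
  apply le_antisymm (le_inf hRQ' hRH)
  intro x hx
  obtain ⟨hxQ', hxH⟩ := Subgroup.mem_inf.mp hx
  have hq' : IsPGroup q ↥((Q' ⊓ H).subgroupOf H) := (hQ'.2.1.to_le inf_le_left).comap_subtype
  have hle : (P : Subgroup ↥H) ≤ (Q' ⊓ H).subgroupOf H := by
    intro v hv
    rw [Subgroup.mem_subgroupOf]
    have hvR : (v : G) ∈ R := by rw [hR]; exact ⟨v, hv, rfl⟩
    exact Subgroup.mem_inf.mpr ⟨hRQ' hvR, v.2⟩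
  have heq := P.is_maximal' hq' hle
  have hxP : (⟨x, hxH⟩ : ↥H) ∈ (P : Subgroup ↥H) := by
    rw [← heq, Subgroup.mem_subgroupOf]
    exact hx
  rw [hR]
  exact ⟨⟨x, hxH⟩, hxP, rfl⟩

/-- Let θ be a solvable A-signalizer functor on the finite group G, A elementary abelian of rank at least 3, q a prime dividing some |θ a|, and Q maximal among the q-subgroups in the family of θ. Then (a) for every member H of the family, some c in the intersection of the θ a (a ∈ A non-identity) makes c Q c⁻¹ ∩ H a Sylow q-subgroup of H; and (b) for every nontrivial subgroup B ≤ A, C_Q(B) is a Sylow q-subgroup of the intersection of the θ b over the non-identity b ∈ B. -/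
theorem result {G : Type*} [Group G] [Finite G] (p : ℕ) [Fact p.Prime] (A : Subgroup G) (hA : Cfsg.IsElementaryAbelian p A) (hA3 : p ^ 3 ≤ Nat.card ↥A) (θ : G → Subgroup G) (hθ : Cfsg.IsSolvableSignalizerFunctor p A θ) (q : ℕ) [Fact q.Prime] (hq : ∃ a ∈ A, a ≠ 1 ∧ q ∣ Nat.card ↥(θ a)) (Q : Subgroup G) (hQW : Q ∈ Cfsg.signalizerFamily p A θ) (hQq : IsPGroup q ↥Q) (hQmax : ∀ R ∈ Cfsg.signalizerFamily p A θ, IsPGroup q ↥R → Q ≤ R → R = Q) : (∀ H : Subgroup G, H ∈ Cfsg.signalizerFamily p A θ → ∃ c ∈ Cfsg.signalizerInf A θ, ∃ S : Sylow q ↥H, (S : Subgroup ↥H).map H.subtype = Q.map (MulAut.conj c).toMonoidHom ⊓ H) ∧ (∀ B : Subgroup G, B ≤ A → B ≠ ⊥ → ∃ S : Sylow q ↥(Cfsg.signalizerInf B θ), (S : Subgroup ↥(Cfsg.signalizerInf B θ)).map (Cfsg.signalizerInf B θ).subtype = Q ⊓ Subgroup.centralizer (B : Set G)) := by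
  classical
  have hθ' := hθ.1
  have hQ : IsMaxQ p q A θ Q := ⟨hQW, hQq, hQmax⟩
  have hQw := wf_of_fam hQW
  refine ⟨fun H hH => sylow_conj p A hA hA3 θ hθ' q Q hQ H (wf_of_fam hH), ?_⟩
  intro B hBA hB1
  obtain ⟨b₀, hb₀B, hb₀1⟩ : ∃ b₀ ∈ B, b₀ ≠ 1 := by
    by_contra hcon
    push_neg at hcon
    exact hB1 ((Subgroup.eq_bot_iff_forall _).mpr hcon)
  obtain ⟨Hb, hHb⟩ : ∃ Hb : Subgroup G, Hb = Cfsg.signalizerInf B θ := ⟨_, rfl⟩
  rw [← hHb]
  have hmemHb : ∀ u : G, u ∈ Hb ↔ ∀ b ∈ B, b ≠ 1 → u ∈ θ b := by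
    intro u; rw [hHb]; exact mem_inf_iff u
  have hHbw : WF p A θ Hb := by
    apply wf_sub (wf_theta hθ' b₀ (hBA hb₀B) hb₀1)
    · intro u hu
      exact (hmemHb u).mp hu b₀ hb₀B hb₀1
    · intro b hb u hu
      rw [hmemHb] at hu ⊢
      intro b' hb' hb'1
      exact hθ'.2.2.1 b' (hBA hb') hb'1 b hb u (hu b' hb' hb'1)
  obtain ⟨c, hc, S, hS⟩ := sylow_conj p A hA hA3 θ hθ' q Q hQ Hb hHbw
  have hcHb : c ∈ Hb := by
    rw [hmemHb]
    intro b hb hb1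
    exact inf_le_theta b (hBA hb) hb1 hc
  have hHbC : Hb ≤ Subgroup.centralizer (B : Set G) := by
    intro u hu
    rw [Subgroup.mem_centralizer_iff]
    intro b hb
    by_cases hb1 : b = 1
    · rw [hb1]; simp
    · have h1 := hθ'.1 b (hBA hb) hb1 ((hmemHb u).mp hu b hb hb1)
      exact Subgroup.mem_centralizer_iff.mp h1 b (Set.mem_singleton b)
  have hQC : Q ⊓ Subgroup.centralizer (B : Set G) ≤ Hb := by
    intro u hu
    obtain ⟨hu1, hu2⟩ := Subgroup.mem_inf.mp hu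
    rw [hmemHb]
    intro b hb hb1
    apply hQw.2.2 b (hBA hb) hb1
    refine Subgroup.mem_inf.mpr ⟨hu1, ?_⟩
    rw [Subgroup.mem_centralizer_iff]
    intro z hz
    rw [Set.mem_singleton_iff] at hz
    rw [hz]
    exact Subgroup.mem_centralizer_iff.mp hu2 b hb
  obtain ⟨c', hc'⟩ : ∃ c' : ↥Hb, (c' : G) = c := ⟨⟨c, hcHb⟩, rfl⟩
  have hmemS' : ∀ v : ↥Hb, v ∈ ((MulAut.conj c'⁻¹ • S : Sylow q ↥Hb) : Subgroup ↥Hb) ↔
      c' * v * c'⁻¹ ∈ (S : Subgroup ↥Hb) := by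
    intro v
    rw [Sylow.pointwise_smul_def, Subgroup.mem_pointwise_smul_iff_inv_smul_mem,
      MulAut.smul_def, MulAut.conj_inv_apply, inv_inv]
  refine ⟨MulAut.conj c'⁻¹ • S, ?_⟩
  ext x
  constructor
  · rintro ⟨v, hv, rfl⟩
    have hv' := (hmemS' v).mp hv
    have h1 : ((c' * v * c'⁻¹ : ↥Hb) : G) ∈ (S : Subgroup ↥Hb).map Hb.subtype :=
      ⟨c' * v * c'⁻¹, hv', rfl⟩
    rw [hS] at h1
    have h2 := (Subgroup.mem_inf.mp h1).1
    rw [Cfsg.Agent.Helper14.mem_map_conj] at h2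
    have e : c⁻¹ * ((c' * v * c'⁻¹ : ↥Hb) : G) * c = (v : G) := by
      show c⁻¹ * ((c' : G) * (v : G) * (c' : G)⁻¹) * c = (v : G)
      rw [hc']; group
    rw [e] at h2
    exact Subgroup.mem_inf.mpr ⟨h2, hHbC v.2⟩
  · intro hx
    have hxHb : x ∈ Hb := hQC hx
    have hxQ : x ∈ Q := (Subgroup.mem_inf.mp hx).1
    have h1 : c * x * c⁻¹ ∈ Q.map (MulAut.conj c).toMonoidHom ⊓ Hb := by
      refine Subgroup.mem_inf.mpr ⟨?_, mul_mem (mul_mem hcHb hxHb) (inv_mem hcHb)⟩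
      rw [Cfsg.Agent.Helper14.mem_map_conj]
      have e : c⁻¹ * (c * x * c⁻¹) * c = x := by group
      rw [e]; exact hxQ
    rw [← hS] at h1
    obtain ⟨w, hw, hweq⟩ := h1
    refine ⟨⟨x, hxHb⟩, ?_, rfl⟩
    apply (hmemS' _).mpr
    have e : c' * (⟨x, hxHb⟩ : ↥Hb) * c'⁻¹ = w := by
      apply Subtype.ext
      show (c' : G) * x * (c' : G)⁻¹ = (w : G)
      rw [hc']
      exact hweq.symm
    rw [e]; exact hw

end Cfsg.Agent.S1284
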