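-- S1285: a signalizer functor (rank ≥ 3) all of whose values are q-groups is complete.
import Mathlib
import Cfsg.Statements.S1285
import Cfsg.Agent.Helper9.Transitivity

set_option autoImplicit false
open Cfsg
open Cfsg.Agent.Helper9.Trans

namespace Cfsg.Agent.S1285

/-- Let θ be a solvable A-signalizer functor on the finite group G with A elementary abelian of rank at least 3, and suppose that for some prime q every θ a (a ∈ A non-identity) is a q-group. Then θ is complete. -/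
theorem result {G : Type*} [Group G] [Finite G] (p : ℕ) [Fact p.Prime] (A : Subgroup G) (hA : Cfsg.IsElementaryAbelian p A) (hA3 : p ^ 3 ≤ Nat.card ↥A) (θ : G → Subgroup G) (hθ : Cfsg.IsSolvableSignalizerFunctor p A θ) (q : ℕ) [Fact q.Prime] (hq : ∀ a ∈ A, a ≠ 1 → IsPGroup q ↥(θ a)) : Cfsg.IsCompleteSignalizerFunctor p A θ := by
  classical
  have hp : p.Prime := Fact.out
  have hθ' := hθ.1
  refine ⟨hθ', ?_⟩
  have hbotw : WF p A θ (⊥ : Subgroup G) := by
    refine ⟨?_, ?_, ?_⟩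
    · rw [Subgroup.card_bot]
      exact hp.one_lt.ne' ∘ Nat.dvd_one.mp
    · intro b hb u hu
      rw [Subgroup.mem_bot] at hu ⊢
      rw [hu]; group
    · intro a ha ha1
      exact inf_le_left.trans bot_le
  have hbotq : IsPGroup q ↥(⊥ : Subgroup G) := IsPGroup.of_bot
  obtain ⟨Q, -, hQ⟩ := exists_max p q A θ _ ⊥ (fam_of_wf hbotw hbotq) hbotq rfl
  have hQw := wf_of_fam hQ.1
  refine ⟨Q, hQw.2.1, hQw.1, ?_⟩
  intro a ha ha1
  apply le_antisymm (hQw.2.2 a ha ha1)
  apply le_inf _ (hθ'.1 a ha ha1)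
  have hθq := hq a ha ha1
  have hθF := fam_of_wf (wf_theta hθ' a ha ha1) hθq
  obtain ⟨Qa, hθQa, hQa⟩ := exists_max p q A θ _ (θ a) hθF hθq rfl
  obtain ⟨c, hc, hcQ⟩ := transitivity p A hA hA3 θ hθ' q Qa Q hQa hQ
  have hca : c ∈ θ a := inf_le_theta a ha ha1 hc
  intro x hx
  rw [← hcQ, Cfsg.Agent.Helper14.mem_map_conj]
  exact hθQa (mul_mem (mul_mem (inv_mem hca) hx) hca)

end Cfsg.Agent.S1285
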