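-- helper9: S1288 (q'-subgroup with q'-commutators on hyperplane centralizers lies in O_{q'}(K))
import Mathlib
import Cfsg.Statements.S1288
import Cfsg.Agent.Helper9.HypGen
import Cfsg.Agent.Helper9.PPrimeCore
import Cfsg.Agent.S0044
import Cfsg.Agent.Helper7.LBalance2

set_option autoImplicit false
open Cfsg

namespace Cfsg.Agent.S1288

open scoped commutatorElement

/-- `O_{q',q}(K)`: the preimage in `K` of `O_q(K / O_{q'}(K))`. -/
def pqCore (q : ℕ) (K : Type*) [Group K] : Subgroup K :=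
  (Cfsg.pCore q (K ⧸ Cfsg.pPrimeCore q K)).comap (QuotientGroup.mk' (Cfsg.pPrimeCore q K))

theorem pqCore_normal (q : ℕ) (K : Type*) [Group K] : (pqCore q K).Normal :=
  (Helper1.pCore_normal q _).comap _

theorem pqCore_characteristic (q : ℕ) (K : Type*) [Group K] : (pqCore q K).Characteristic := by
  rw [Subgroup.characteristic_iff_map_le]
  intro φ
  have hNchar : (Cfsg.pPrimeCore q K).Characteristic := Helper9.pPrimeCore_characteristic q K
  have hNmap : (Cfsg.pPrimeCore q K).map φ.toMonoidHom = Cfsg.pPrimeCore q K :=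
    Subgroup.characteristic_iff_map_eq.mp hNchar φ
  have hXn : (((pqCore q K).map φ.toMonoidHom).map
      (QuotientGroup.mk' (Cfsg.pPrimeCore q K))).Normal :=
    ((pqCore_normal q K).map φ.toMonoidHom φ.surjective).map (QuotientGroup.mk' _)
      (QuotientGroup.mk'_surjective _)
  have hXp : IsPGroup q (((pqCore q K).map φ.toMonoidHom).map
      (QuotientGroup.mk' (Cfsg.pPrimeCore q K))) := by
    rintro ⟨y, z, hz, rfl⟩
    obtain ⟨x, hx, rfl⟩ := hz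
    have hx' : (QuotientGroup.mk' (Cfsg.pPrimeCore q K)) x ∈
        Cfsg.pCore q (K ⧸ Cfsg.pPrimeCore q K) := hx
    obtain ⟨k, hk⟩ := (Helper1.pCore_isPGroup q (K ⧸ Cfsg.pPrimeCore q K)) ⟨_, hx'⟩
    have hk' : ((QuotientGroup.mk' (Cfsg.pPrimeCore q K)) x) ^ (q ^ k) = 1 := by
      have h0 := congrArg Subtype.val hk
      exact h0
    have hk2 : x ^ (q ^ k) ∈ Cfsg.pPrimeCore q K := by
      rw [← QuotientGroup.eq_one_iff, QuotientGroup.mk_pow]
      exact hk'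
    have hk3 : φ.toMonoidHom (x ^ (q ^ k)) ∈ Cfsg.pPrimeCore q K := by
      have : φ.toMonoidHom (x ^ (q ^ k)) ∈ (Cfsg.pPrimeCore q K).map φ.toMonoidHom :=
        ⟨_, hk2, rfl⟩
      rw [hNmap] at this
      exact this
    refine ⟨k, ?_⟩
    apply Subtype.ext
    show ((QuotientGroup.mk' (Cfsg.pPrimeCore q K)) (φ.toMonoidHom x)) ^ (q ^ k) = 1
    rw [← map_pow, ← map_pow]
    exact (QuotientGroup.eq_one_iff _).2 hk3
  have hle := Helper1.le_pCore hXn hXp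
  rintro y hy
  show (QuotientGroup.mk' (Cfsg.pPrimeCore q K)) y ∈ Cfsg.pCore q (K ⧸ Cfsg.pPrimeCore q K)
  exact hle ⟨y, hy, rfl⟩

theorem eq_one_of_qpow_of_coprime {X : Type*} [Group X] (q : ℕ) (x : X) (k n : ℕ)
    (h1 : x ^ (q ^ k) = 1) (h2 : x ^ n = 1) (hc : n.Coprime q) : x = 1 := by
  have h := (pow_gcd_eq_one (a := x) (m := q ^ k) (n := n)).2 ⟨h1, h2⟩
  have hg : Nat.gcd (q ^ k) n = 1 := Nat.Coprime.pow_left k hc.symm
  rw [hg, pow_one] at h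
  exact h

theorem result {H : Type*} [Group H] [Finite H] (p : ℕ) [Fact p.Prime] (A K : Subgroup H) (hA : Cfsg.IsElementaryAbelian p A) (hA2 : p ^ 2 ≤ Nat.card ↥A) (hK : ¬ p ∣ Nat.card ↥K) (hKs : Group.IsSolvable ↥K) (hAK : A ≤ Subgroup.normalizer (K : Set H)) (q : ℕ) [Fact q.Prime] (hqK : q ∣ Nat.card ↥K) (U : Subgroup H) (hU : U ≤ K) (hUq : ¬ q ∣ Nat.card ↥U) (hcomm : ∀ B : Subgroup H, B ≤ A → B.relIndex A = p → ¬ q ∣ Nat.card ↥⁅U, K ⊓ Subgroup.centralizer (B : Set H)⁆) : U ≤ (Cfsg.pPrimeCore q ↥K).map K.subtype := by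
  classical
  haveI := hKs
  have hp : p.Prime := Fact.out
  have hq : q.Prime := Fact.out
  have hQ₀n : (pqCore q ↥K).Normal := pqCore_normal q ↥K
  obtain ⟨Q, hQdef⟩ : ∃ Q : Subgroup H, Q = (pqCore q ↥K).map K.subtype := ⟨_, rfl⟩
  have hQK : Q ≤ K := by rw [hQdef]; exact Subgroup.map_subtype_le _
  -- `A` normalizes `Q`
  have hconj : ∀ a ∈ A, ∀ x ∈ Q, a * x * a⁻¹ ∈ Q := by
    intro a ha x hx
    rw [hQdef] at hx ⊢
    obtain ⟨xK, hxK, rfl⟩ := hx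
    obtain ⟨d', hd', hd'eq⟩ := Helper9.char_conj_mem (pqCore q ↥K) (pqCore_characteristic q ↥K)
      a (hAK ha) xK hxK
    exact ⟨d', hd', hd'eq⟩
  have hAQ : A ≤ Subgroup.normalizer (Q : Set H) := by
    intro a ha
    rw [Subgroup.mem_normalizer_iff]
    intro x
    constructor
    · exact hconj a ha x
    · intro h
      have h2 := hconj a⁻¹ (inv_mem ha) _ h
      have e : a⁻¹ * (a * x * a⁻¹) * a⁻¹⁻¹ = x := by group
      rw [e] at h2
      exact h2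
  have hQp : ¬ p ∣ Nat.card Q := fun h => hK (h.trans (Subgroup.card_dvd_of_le hQK))
  have hgen := Helper9.hyperplane_generation p A Q hA hQp hAQ
  obtain ⟨m, hAcard⟩ := (IsPGroup.iff_card (p := p) (G := ↥A)).1 (Helper3.elemAb_isPGroup hA)
  -- a hyperplane exists
  obtain ⟨B', hB'A, hB'idx⟩ : ∃ B' : Subgroup H, B' ≤ A ∧ B'.relIndex A = p := by
    have hne : ∃ a ∈ A, a ≠ 1 := by
      by_contra hcon
      push_neg at hcon
      have hbot : A = ⊥ := (Subgroup.eq_bot_iff_forall A).2 hcon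
      rw [hbot, Subgroup.card_bot] at hA2
      have : 2 ^ 2 ≤ p ^ 2 := Nat.pow_le_pow_left hp.two_le 2
      omega
    obtain ⟨a, haA, ha1⟩ := hne
    obtain ⟨A₁, hA₁A, -, hcard⟩ := Helper9.exists_compl_elemAb p A hA a haA ha1
    refine ⟨A₁, hA₁A, ?_⟩
    have h1 : Nat.card (A₁.subgroupOf A) * (A₁.subgroupOf A).index = Nat.card A :=
      Subgroup.card_mul_index _
    have h2 : Nat.card (A₁.subgroupOf A) = Nat.card A₁ :=
      Nat.card_congr (Subgroup.subgroupOfEquivOfLe hA₁A).toEquiv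
    have h3 : Nat.card A₁ * A₁.relIndex A = Nat.card A₁ * p := by
      rw [hcard, ← h2]; exact h1
    exact Nat.eq_of_mul_eq_mul_left Nat.card_pos h3
  have hBcase : ∀ B : Subgroup H, B.relIndex A ≤ p → B.relIndex A = 1 ∨ B.relIndex A = p := by
    intro B hBle
    have hdvd0 : B.relIndex A ∣ p ^ m := by rw [← hAcard]; exact Subgroup.relIndex_dvd_card B A
    obtain ⟨j, -, hj⟩ := (Nat.dvd_prime_pow hp).1 hdvd0
    rcases Nat.eq_zero_or_pos j with h0 | hpos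
    · left; rw [hj, h0, pow_zero]
    · right
      have hdvd : p ∣ B.relIndex A := by rw [hj]; exact dvd_pow_self p hpos.ne'
      have hpos' : 0 < B.relIndex A := by rw [hj]; exact pow_pos hp.pos j
      exact le_antisymm hBle (Nat.le_of_dvd hpos' hdvd)
  -- key step, inside `K`
  have hkey : ∀ B : Subgroup H, B ≤ A → B.relIndex A = p → ∀ uK cK : ↥K, (uK : H) ∈ U →
      cK ∈ pqCore q ↥K → (cK : H) ∈ Subgroup.centralizer (B : Set H) →
      ⁅uK, cK⁆ ∈ Cfsg.pPrimeCore q ↥K := by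
    intro B hBA hBidx uK cK huU hcQ hcC
    have hgW : ⁅(uK : H), (cK : H)⁆ ∈ ⁅U, K ⊓ Subgroup.centralizer (B : Set H)⁆ :=
      Subgroup.commutator_mem_commutator huU ⟨cK.2, hcC⟩
    have hW := hcomm B hBA hBidx
    have hord : (orderOf ⁅(uK : H), (cK : H)⁆).Coprime q := by
      have h1 : orderOf ⁅(uK : H), (cK : H)⁆ ∣
          Nat.card ↥⁅U, K ⊓ Subgroup.centralizer (B : Set H)⁆ :=
        Subgroup.orderOf_dvd_natCard _ hgW
      exact Nat.Coprime.coprime_dvd_left h1 ((Nat.Prime.coprime_iff_not_dvd hq).2 hW).symm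
    have hpow : (⁅uK, cK⁆ : ↥K) ^ (orderOf ⁅(uK : H), (cK : H)⁆) = 1 := by
      apply Subtype.ext
      rw [Subgroup.coe_pow]
      exact pow_orderOf_eq_one ⁅(uK : H), (cK : H)⁆
    have hmemQ : ⁅uK, cK⁆ ∈ pqCore q ↥K := by
      have h1 : uK * cK * uK⁻¹ ∈ pqCore q ↥K := hQ₀n.conj_mem cK hcQ uK
      have h2 : uK * cK * uK⁻¹ * cK⁻¹ ∈ pqCore q ↥K := mul_mem h1 (inv_mem hcQ)
      exact h2
    have hmk : (QuotientGroup.mk' (Cfsg.pPrimeCore q ↥K)) ⁅uK, cK⁆ ∈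
        Cfsg.pCore q (↥K ⧸ Cfsg.pPrimeCore q ↥K) := hmemQ
    obtain ⟨k, hk⟩ := (Helper1.pCore_isPGroup q (↥K ⧸ Cfsg.pPrimeCore q ↥K)) ⟨_, hmk⟩
    have hk' : ((QuotientGroup.mk' (Cfsg.pPrimeCore q ↥K)) ⁅uK, cK⁆) ^ (q ^ k) = 1 := by
      have h0 := congrArg Subtype.val hk
      exact h0
    have hk2 : ((QuotientGroup.mk' (Cfsg.pPrimeCore q ↥K)) ⁅uK, cK⁆) ^
        (orderOf ⁅(uK : H), (cK : H)⁆) = 1 := by
      rw [← map_pow, hpow, map_one]
    have h1 := eq_one_of_qpow_of_coprime q _ k _ hk' hk2 hord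
    exact (QuotientGroup.eq_one_iff _).1 h1
  -- `U` centralizes `Q / N`
  have hcent : ∀ uK cK : ↥K, (uK : H) ∈ U → cK ∈ pqCore q ↥K →
      ⁅uK, cK⁆ ∈ Cfsg.pPrimeCore q ↥K := by
    intro uK cK huU hcQ
    obtain ⟨C, hC⟩ : ∃ C : Subgroup H, ∀ z, z ∈ C ↔
        ∃ hz : z ∈ K, ⁅uK, (⟨z, hz⟩ : ↥K)⁆ ∈ Cfsg.pPrimeCore q ↥K := by
      refine ⟨((Subgroup.centralizer {(QuotientGroup.mk' (Cfsg.pPrimeCore q ↥K)) uK}).comap
        (QuotientGroup.mk' (Cfsg.pPrimeCore q ↥K))).map K.subtype, ?_⟩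
      intro z
      constructor
      · rintro ⟨zK, hzK, rfl⟩
        refine ⟨zK.2, ?_⟩
        have h1 : (QuotientGroup.mk' (Cfsg.pPrimeCore q ↥K)) zK ∈
            Subgroup.centralizer {(QuotientGroup.mk' (Cfsg.pPrimeCore q ↥K)) uK} := hzK
        have h2 := Subgroup.mem_centralizer_iff.1 h1 _ rfl
        have h3 : (QuotientGroup.mk' (Cfsg.pPrimeCore q ↥K)) ⁅uK, zK⁆ = 1 := by
          rw [map_commutatorElement, commutatorElement_eq_one_iff_mul_comm]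
          exact h2
        exact (QuotientGroup.eq_one_iff _).1 h3
      · rintro ⟨hz, h⟩
        refine ⟨⟨z, hz⟩, ?_, rfl⟩
        show (QuotientGroup.mk' (Cfsg.pPrimeCore q ↥K)) ⟨z, hz⟩ ∈
          Subgroup.centralizer {(QuotientGroup.mk' (Cfsg.pPrimeCore q ↥K)) uK}
        rw [Subgroup.mem_centralizer_iff]
        intro y hy
        rw [Set.mem_singleton_iff] at hy
        rw [hy]
        have h1 : (QuotientGroup.mk' (Cfsg.pPrimeCore q ↥K)) ⁅uK, (⟨z, hz⟩ : ↥K)⁆ = 1 :=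
          (QuotientGroup.eq_one_iff _).2 h
        rw [map_commutatorElement, commutatorElement_eq_one_iff_mul_comm] at h1
        exact h1
    have hle : Q ≤ C := by
      refine hgen.le.trans (iSup_le fun B => ?_)
      intro z hz
      obtain ⟨hzQ, hzC⟩ := Subgroup.mem_inf.1 hz
      rw [hC]
      have hzQ' := hzQ
      rw [hQdef] at hzQ'
      obtain ⟨zK, hzK, rfl⟩ := hzQ'
      refine ⟨zK.2, ?_⟩
      rcases hBcase B.1 B.2.2 with h1 | h1
      · have hAB : A ≤ B.1 := Subgroup.relIndex_eq_one.1 h1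
        have hB'B : (B' : Set H) ⊆ (B.1 : Set H) := fun x hx => hAB (hB'A hx)
        exact hkey B' hB'A hB'idx uK zK huU hzK (Subgroup.centralizer_le hB'B hzC)
      · exact hkey B.1 B.2.1 h1 uK zK huU hzK hzC
    have hcH : (cK : H) ∈ Q := by rw [hQdef]; exact ⟨cK, hcQ, rfl⟩
    obtain ⟨hz, h⟩ := (hC _).1 (hle hcH)
    exact h
  -- conclusion
  intro u hu
  have huK : u ∈ K := hU hu
  have hOq : Cfsg.pPrimeCore q (↥K ⧸ Cfsg.pPrimeCore q ↥K) = ⊥ :=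
    Helper9.pPrimeCore_quotient_eq_bot q ↥K
  have hfit : Cfsg.fittingSubgroup (↥K ⧸ Cfsg.pPrimeCore q ↥K) =
      Cfsg.pCore q (↥K ⧸ Cfsg.pPrimeCore q ↥K) :=
    Helper7.fitting_eq_pCore_of_pPrimeCore_eq_bot q hOq
  haveI : Group.IsSolvable (↥K ⧸ Cfsg.pPrimeCore q ↥K) := inferInstance
  have hCF := S0044.result (G := ↥K ⧸ Cfsg.pPrimeCore q ↥K)
  have hmem : (QuotientGroup.mk' (Cfsg.pPrimeCore q ↥K)) ⟨u, huK⟩ ∈
      Cfsg.pCore q (↥K ⧸ Cfsg.pPrimeCore q ↥K) := by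
    rw [← hfit]
    apply hCF
    rw [hfit, Subgroup.mem_centralizer_iff]
    intro y hy
    obtain ⟨x, rfl⟩ := QuotientGroup.mk'_surjective (Cfsg.pPrimeCore q ↥K) y
    have hx : x ∈ pqCore q ↥K := hy
    have h1 := hcent ⟨u, huK⟩ x hu hx
    have h2 : (QuotientGroup.mk' (Cfsg.pPrimeCore q ↥K)) ⁅(⟨u, huK⟩ : ↥K), x⁆ = 1 :=
      (QuotientGroup.eq_one_iff _).2 h1
    rw [map_commutatorElement, commutatorElement_eq_one_iff_mul_comm] at h2
    exact h2.symm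
  obtain ⟨k, hk⟩ := (Helper1.pCore_isPGroup q (↥K ⧸ Cfsg.pPrimeCore q ↥K)) ⟨_, hmem⟩
  have hk' : ((QuotientGroup.mk' (Cfsg.pPrimeCore q ↥K)) ⟨u, huK⟩) ^ (q ^ k) = 1 := by
    have h0 := congrArg Subtype.val hk
    exact h0
  have hord : (orderOf u).Coprime q :=
    Nat.Coprime.coprime_dvd_left (Subgroup.orderOf_dvd_natCard U hu)
      ((Nat.Prime.coprime_iff_not_dvd hq).2 hUq).symm
  have hpow : (⟨u, huK⟩ : ↥K) ^ (orderOf u) = 1 := by
    apply Subtype.ext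
    rw [Subgroup.coe_pow]
    exact pow_orderOf_eq_one u
  have hk2 : ((QuotientGroup.mk' (Cfsg.pPrimeCore q ↥K)) ⟨u, huK⟩) ^ (orderOf u) = 1 := by
    rw [← map_pow, hpow, map_one]
  have h1 := eq_one_of_qpow_of_coprime q _ k _ hk' hk2 hord
  have h2 : (⟨u, huK⟩ : ↥K) ∈ Cfsg.pPrimeCore q ↥K := (QuotientGroup.eq_one_iff _).1 h1
  exact ⟨⟨u, huK⟩, h2, rfl⟩

end Cfsg.Agent.S1288
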