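import Cfsg.Statements.S4357
import Cfsg.Agent.Helper12.Redundant

set_option autoImplicit false
open Cfsg

namespace Cfsg.Agent.S4357

open Cfsg.Agent.Helper12

/-- Let F be a finite field with q elements, p a prime and G = SL(2, F). Say a Sylow p-subgroup Q of G is redundant when every element of p-power order lies in some Sylow p-subgroup other than Q. Then G has a redundant Sylow p-subgroup if and only if p = 2 and q is not of any of the forms 2ᵏ - 1, 2ᵏ, 2ᵏ + 1. -/
theorem result {F : Type*} [Field F] [Fintype F] (p : ℕ) [Fact p.Prime] :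
    (∃ Q : Sylow p (Matrix.SpecialLinearGroup (Fin 2) F), ∀ x : Matrix.SpecialLinearGroup (Fin 2) F,
        (∃ k : ℕ, orderOf x = p ^ k) → ∃ P : Sylow p (Matrix.SpecialLinearGroup (Fin 2) F), P ≠ Q ∧ x ∈ P) ↔
      (p = 2 ∧ (¬ ∃ k : ℕ, Fintype.card F + 1 = 2 ^ k) ∧ (¬ ∃ k : ℕ, Fintype.card F = 2 ^ k) ∧
        ¬ ∃ k : ℕ, Fintype.card F = 2 ^ k + 1) := by
  constructor
  · rintro ⟨Q, hQ⟩
    have hNR : ¬ ∃ x : Matrix.SpecialLinearGroup (Fin 2) F, (∃ k : ℕ, orderOf x = p ^ k) ∧
        ∀ P : Sylow p (Matrix.SpecialLinearGroup (Fin 2) F), x ∈ P → P = Q := by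
      rintro ⟨x, hxk, hxP⟩
      obtain ⟨P, hPQ, hxmem⟩ := hQ x hxk
      exact hPQ (hxP P hxmem)
    obtain ⟨ℓ, hℓ⟩ := CharP.exists F
    have : CharP F ℓ := hℓ
    have hℓp : ℓ.Prime := CharP.char_is_prime F ℓ
    have : Fact ℓ.Prime := ⟨hℓp⟩
    obtain ⟨n, -, hn⟩ := FiniteField.card F ℓ
    have hpp : p.Prime := Fact.out
    have hq1 : 1 < Fintype.card F := Fintype.one_lt_card
    have hpℓ : p ≠ ℓ := by
      rintro rfl
      exact hNR (nonred_char _ Q)
    have hnpq : ¬ p ∣ Fintype.card F := by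
      intro h
      rw [hn] at h
      exact hpℓ ((Nat.prime_dvd_prime_iff_eq hpp hℓp).mp (hpp.dvd_of_dvd_pow h))
    have hp2 : p = 2 := by
      by_contra hp2
      apply hNR
      by_cases hd1 : p ∣ Fintype.card F - 1
      · obtain ⟨u, hu⟩ := sl2_exists_orderOf_card_sub_one (F := F)
        exact nonred_cyclic p (sl2diag u)
          (by rw [hu, sl2_card]; exact S2430.fac_sub hq1 hpp hp2 hd1) Q
      · by_cases hd2 : p ∣ Fintype.card F + 1
        · obtain ⟨a, ha⟩ := sl2_exists_orderOf_card_add_one (F := F) ℓ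
          exact nonred_cyclic p a
            (by rw [ha, sl2_card]; exact S2430.fac_add hq1 hpp hp2 hd2) Q
        · have hnd : ¬ p ∣ Nat.card (Matrix.SpecialLinearGroup (Fin 2) F) := by
            rw [sl2_card, sq_sub_one_eq _ hq1.le]
            intro h
            rcases (Nat.Prime.dvd_mul hpp).mp h with h | h
            · exact hnpq h
            · rcases (Nat.Prime.dvd_mul hpp).mp h with h | h
              · exact hd1 h
              · exact hd2 h
          exact nonred_cyclic p (1 : Matrix.SpecialLinearGroup (Fin 2) F)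
            (by rw [Nat.factorization_eq_zero_of_not_dvd hnd, orderOf_one, Nat.factorization_one,
              Finsupp.zero_apply]) Q
    subst hp2
    have hodd : Odd (Fintype.card F) := by
      rcases Nat.even_or_odd (Fintype.card F) with he | ho
      · exact absurd (even_iff_two_dvd.mp he) hnpq
      · exact ho
    refine ⟨rfl, ?_, ?_, ?_⟩
    · rintro ⟨k, hk⟩
      exact hNR (nonred_two hodd (Or.inl ⟨k, hk⟩) Q)
    · rintro ⟨k, hk⟩
      rcases Nat.eq_zero_or_pos k with hk0 | hk0
      · rw [hk0, pow_zero] at hk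
        omega
      · exact hnpq (by rw [hk]; exact dvd_pow_self 2 hk0.ne')
    · rintro ⟨k, hk⟩
      exact hNR (nonred_two hodd (Or.inr ⟨k, hk⟩) Q)
  · rintro ⟨rfl, h1, h2, h3⟩
    obtain ⟨ℓ, hℓ⟩ := CharP.exists F
    have : CharP F ℓ := hℓ
    have hℓp : ℓ.Prime := CharP.char_is_prime F ℓ
    obtain ⟨n, -, hn⟩ := FiniteField.card F ℓ
    have hodd : Odd (Fintype.card F) := by
      rcases hℓp.eq_two_or_odd' with h | h
      · exfalso
        apply h2
        exact ⟨n, by rw [hn, h]⟩
      · rw [hn]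
        exact h.pow
    obtain ⟨Q⟩ : Nonempty (Sylow 2 (Matrix.SpecialLinearGroup (Fin 2) F)) := inferInstance
    exact ⟨Q, fun x hx => redundant_two hodd h1 h3 Q x hx⟩

end Cfsg.Agent.S4357
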