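import Cfsg.Statements.S4356
import Cfsg.Agent.S4357

set_option autoImplicit false
open Cfsg

namespace Cfsg.Agent.S4356

open Cfsg.Agent.Helper12

theorem center_le_sylow2 {F : Type*} [Field F] [Fintype F] (P : Sylow 2 (Matrix.SpecialLinearGroup (Fin 2) F)) :
    Subgroup.center (Matrix.SpecialLinearGroup (Fin 2) F) ≤ (P : Subgroup (Matrix.SpecialLinearGroup (Fin 2) F)) := by
  have hZ2 : IsPGroup 2 (Subgroup.center (Matrix.SpecialLinearGroup (Fin 2) F)) := by
    intro g
    refine ⟨1, ?_⟩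
    apply Subtype.ext
    rw [Subgroup.coe_pow, Subgroup.coe_one, pow_one, pow_two]
    rcases sl2_center_cases (g : Matrix.SpecialLinearGroup (Fin 2) F) g.2 with h | h
    · rw [h, mul_one]
    · rw [h]; exact sl2NegOne_mul_self
  have hsup := IsPGroup.to_sup_of_normal_right P.isPGroup' hZ2
  have he := P.is_maximal' hsup le_sup_left
  rw [← he]
  exact le_sup_right

/-- Let F be a finite field with q elements, p a prime and G = PSL(2, F). Say a Sylow p-subgroup Q of G is redundant when every element of p-power order lies in some Sylow p-subgroup other than Q. Then G has a redundant Sylow p-subgroup if and only if p = 2 and q is not of any of the forms 2ᵏ - 1, 2ᵏ, 2ᵏ + 1. -/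
theorem result {F : Type*} [Field F] [Fintype F] (p : ℕ) [Fact p.Prime] :
    (∃ Q : Sylow p (Matrix.ProjectiveSpecialLinearGroup (Fin 2) F), ∀ x : Matrix.ProjectiveSpecialLinearGroup (Fin 2) F,
        (∃ k : ℕ, orderOf x = p ^ k) → ∃ P : Sylow p (Matrix.ProjectiveSpecialLinearGroup (Fin 2) F), P ≠ Q ∧ x ∈ P) ↔
      (p = 2 ∧ (¬ ∃ k : ℕ, Fintype.card F + 1 = 2 ^ k) ∧ (¬ ∃ k : ℕ, Fintype.card F = 2 ^ k) ∧
        ¬ ∃ k : ℕ, Fintype.card F = 2 ^ k + 1) := by
  have hpp : p.Prime := Fact.out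
  obtain ⟨π, hπ⟩ : ∃ π : Matrix.SpecialLinearGroup (Fin 2) F →* Matrix.ProjectiveSpecialLinearGroup (Fin 2) F,
      π = QuotientGroup.mk' (Subgroup.center (Matrix.SpecialLinearGroup (Fin 2) F)) := ⟨_, rfl⟩
  have hsurj : Function.Surjective π := by rw [hπ]; exact QuotientGroup.mk'_surjective _
  have hker : ∀ a b : Matrix.SpecialLinearGroup (Fin 2) F, π a = π b →
      ∃ z : Matrix.SpecialLinearGroup (Fin 2) F, z ∈ Subgroup.center (Matrix.SpecialLinearGroup (Fin 2) F) ∧ b = a * z := by
    intro a b hab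
    rw [hπ] at hab
    exact ⟨a⁻¹ * b, QuotientGroup.eq.mp hab, by group⟩
  have hker1 : ∀ a : Matrix.SpecialLinearGroup (Fin 2) F, π a = 1 → a ∈ Subgroup.center (Matrix.SpecialLinearGroup (Fin 2) F) := by
    intro a ha
    rw [hπ] at ha
    exact (QuotientGroup.eq_one_iff a).mp ha
  constructor
  · rintro ⟨Q', hQ'⟩
    apply (S4357.result p).mp
    obtain ⟨Q, hQ⟩ := Sylow.mapSurjective_surjective hsurj p Q'
    refine ⟨Q, ?_⟩
    intro x hx
    obtain ⟨k, hk⟩ := hx
    have hpx : ∃ j : ℕ, orderOf (π x) = p ^ j := by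
      have hd : orderOf (π x) ∣ p ^ k := by rw [← hk]; exact orderOf_map_dvd π x
      obtain ⟨j, -, hj⟩ := (Nat.dvd_prime_pow hpp).mp hd
      exact ⟨j, hj⟩
    obtain ⟨P', hP'Q', hxP'⟩ := hQ' (π x) hpx
    obtain ⟨P, hP⟩ := Sylow.mapSurjective_surjective hsurj p P'
    refine ⟨P, ?_, ?_⟩
    · intro hPQ
      apply hP'Q'
      rw [← hP, ← hQ, hPQ]
    · have hxP'' : π x ∈ (P : Subgroup (Matrix.SpecialLinearGroup (Fin 2) F)).map π := by
        rw [← hP] at hxP'
        exact hxP'
      obtain ⟨y, hyP, hyx⟩ := Subgroup.mem_map.mp hxP''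
      obtain ⟨z, hz, hxyz⟩ := hker y x hyx
      by_cases h2 : p = 2
      · subst h2
        rw [hxyz]
        exact Subgroup.mul_mem _ hyP (center_le_sylow2 P hz)
      · have hzz : z * z = 1 := by
          rcases sl2_center_cases z hz with h | h
          · rw [h, mul_one]
          · rw [h]; exact sl2NegOne_mul_self
        obtain ⟨a, ha⟩ := P.isPGroup' ⟨y, hyP⟩
        have hya : y ^ p ^ a = 1 := by
          have h := congrArg Subtype.val ha
          rw [Subgroup.coe_pow, Subgroup.coe_one] at h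
          exact h
        have hcomm : Commute y z := Subgroup.mem_center_iff.mp hz y
        have hxN : x ^ (p ^ k * p ^ a) = 1 := by
          rw [pow_mul, ← hk, pow_orderOf_eq_one, one_pow]
        have hyN : y ^ (p ^ k * p ^ a) = 1 := by
          rw [mul_comm (p ^ k) (p ^ a), pow_mul, hya, one_pow]
        have hzN : z ^ (p ^ k * p ^ a) = 1 := by
          have h := hxN
          rw [hxyz, hcomm.mul_pow, hyN, one_mul] at h
          exact h
        have hpodd : Odd p := (Nat.Prime.eq_two_or_odd' hpp).resolve_left h2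
        obtain ⟨m, hm⟩ : Odd (p ^ k * p ^ a) := (hpodd.pow).mul (hpodd.pow)
        have hz1 : z = 1 := by
          rw [hm, pow_succ, pow_mul, pow_two, hzz, one_pow, one_mul] at hzN
          exact hzN
        rw [hxyz, hz1, mul_one]
        exact hyP
  · intro hRHS
    have hSL := (S4357.result (F := F) p).mpr hRHS
    obtain ⟨rfl, -, -, -⟩ := hRHS
    obtain ⟨Q, hQ⟩ := hSL
    refine ⟨Q.mapSurjective hsurj, ?_⟩
    intro x' hx'
    obtain ⟨k, hk⟩ := hx'
    obtain ⟨x, hx⟩ := hsurj x'
    have h1 : π (x ^ 2 ^ k) = 1 := by rw [map_pow, hx, ← hk, pow_orderOf_eq_one]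
    have h2 : x ^ 2 ^ k ∈ Subgroup.center (Matrix.SpecialLinearGroup (Fin 2) F) := hker1 _ h1
    have h3 : x ^ 2 ^ (k + 1) = 1 := by
      rw [pow_succ, pow_mul, pow_two]
      rcases sl2_center_cases _ h2 with h | h
      · rw [h, mul_one]
      · rw [h]; exact sl2NegOne_mul_self
    obtain ⟨j, -, hj⟩ := (Nat.dvd_prime_pow Nat.prime_two).mp (orderOf_dvd_of_pow_eq_one h3)
    obtain ⟨P, hPQ, hxP⟩ := hQ x ⟨j, hj⟩
    refine ⟨P.mapSurjective hsurj, ?_, ?_⟩
    · intro heq
      apply hPQ
      have hmap : (P : Subgroup (Matrix.SpecialLinearGroup (Fin 2) F)).map π = (Q : Subgroup (Matrix.SpecialLinearGroup (Fin 2) F)).map π :=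
        congrArg (fun S : Sylow 2 (Matrix.ProjectiveSpecialLinearGroup (Fin 2) F) => (S : Subgroup (Matrix.ProjectiveSpecialLinearGroup (Fin 2) F))) heq
      have hle : (Q : Subgroup (Matrix.SpecialLinearGroup (Fin 2) F)) ≤ (P : Subgroup (Matrix.SpecialLinearGroup (Fin 2) F)) := by
        intro y hy
        have hy' : π y ∈ (P : Subgroup (Matrix.SpecialLinearGroup (Fin 2) F)).map π := by
          rw [hmap]; exact Subgroup.mem_map_of_mem π hy
        obtain ⟨w, hwP, hwy⟩ := Subgroup.mem_map.mp hy'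
        obtain ⟨z, hz, hyz⟩ := hker w y hwy
        rw [hyz]
        exact Subgroup.mul_mem _ hwP (center_le_sylow2 P hz)
      exact Sylow.ext (Q.is_maximal' P.isPGroup' hle)
    · have hmem : π x ∈ (P : Subgroup (Matrix.SpecialLinearGroup (Fin 2) F)).map π := Subgroup.mem_map_of_mem π hxP
      rw [hx] at hmem
      exact hmem

end Cfsg.Agent.S4356
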