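import Cfsg.Statements.S2427
import Cfsg.Agent.S4356

set_option autoImplicit false
open Cfsg

namespace Cfsg.Agent.S2427

open Cfsg.Agent.Helper12
open scoped commutatorElement

theorem trace_eq_zero_of_sq_negOne {F : Type*} [Field F] (x : Matrix.SpecialLinearGroup (Fin 2) F)
    (hxx : x * x = sl2NegOne) : (x : Matrix (Fin 2) (Fin 2) F).trace = 0 := by
  obtain ⟨a, b, c, d, hxe, hdet⟩ := sl2_eta x
  have hm : ((x * x : Matrix.SpecialLinearGroup (Fin 2) F) : Matrix (Fin 2) (Fin 2) F) = ((sl2NegOne : Matrix.SpecialLinearGroup (Fin 2) F) : Matrix (Fin 2) (Fin 2) F) := by rw [hxx]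
  rw [Matrix.SpecialLinearGroup.coe_mul, hxe, sl2NegOne, sl2mk_val, Matrix.mul_fin_two] at hm
  obtain ⟨E1, E2, E3, E4⟩ := S5016.mat2_inj hm
  rw [hxe, Matrix.trace_fin_two_of]
  have h0 : (a + d) ^ 2 = 0 := by linear_combination E1 + E4 + 2 * hdet
  exact (pow_eq_zero_iff (two_ne_zero)).mp h0

/-- Structure of `SL₂` over a field with three elements, relative to a Sylow 2-subgroup `Q`. -/
theorem sl23_sylow {F : Type*} [Field F] [Fintype F] (hF : Fintype.card F = 3)
    (Q : Sylow 2 (Matrix.SpecialLinearGroup (Fin 2) F)) :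
    Nat.card (Matrix.SpecialLinearGroup (Fin 2) F) = 24 ∧ Nat.card (Q : Subgroup (Matrix.SpecialLinearGroup (Fin 2) F)) = 8 ∧
    (Q : Subgroup (Matrix.SpecialLinearGroup (Fin 2) F)).Normal ∧
    Nonempty ((Q : Subgroup (Matrix.SpecialLinearGroup (Fin 2) F)) ≃* QuaternionGroup 2) ∧
    commutator (Matrix.SpecialLinearGroup (Fin 2) F) = (Q : Subgroup (Matrix.SpecialLinearGroup (Fin 2) F)) ∧
    ∀ N : Subgroup (Matrix.SpecialLinearGroup (Fin 2) F), N.Normal →
      N = ⊥ ∨ N = ⊤ ∨ N = Subgroup.center (Matrix.SpecialLinearGroup (Fin 2) F) ∨ N = (Q : Subgroup (Matrix.SpecialLinearGroup (Fin 2) F)) := by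
  have hodd : Odd (Fintype.card F) := by rw [hF]; exact ⟨1, rfl⟩
  have h2 : (2 : F) ≠ 0 := two_ne_zero_of_odd hodd
  have hG24 : Nat.card (Matrix.SpecialLinearGroup (Fin 2) F) = 24 := by
    have h := sl2_card (F := F)
    rw [hF] at h
    exact h.trans (by norm_num)
  have hQ8 : Nat.card (Q : Subgroup (Matrix.SpecialLinearGroup (Fin 2) F)) = 8 := by
    have h := S2431.sylow_card_of_eq 2 3 3 (hG24.trans (by norm_num)) (by norm_num) Q
    exact h.trans (by norm_num)
  have hQnorm : (Q : Subgroup (Matrix.SpecialLinearGroup (Fin 2) F)).Normal := by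
    have h3 := (S2431.result hodd Q).2.2 (Or.inl (by rw [hF]))
    have hNtop : Subgroup.normalizer ((Q : Subgroup (Matrix.SpecialLinearGroup (Fin 2) F)) : Set (Matrix.SpecialLinearGroup (Fin 2) F)) = ⊤ := by
      apply (Subgroup.card_eq_iff_eq_top _).mp
      rw [h3, hG24]
      have h8 : Nat.card Q = 8 := hQ8
      omega
    exact Subgroup.normalizer_eq_top_iff.mp hNtop
  have hchar : CharP F 3 := by
    obtain ⟨p, hp⟩ := CharP.exists F
    have : CharP F p := hp
    obtain ⟨n, hpp, hn⟩ := FiniteField.card F p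
    have hp3 : p = 3 := by
      have hd : p ∣ 3 := by rw [← hF, hn]; exact dvd_pow_self p n.ne_zero
      exact (Nat.prime_dvd_prime_iff_eq hpp Nat.prime_three).mp hd
    subst hp3
    exact hp
  have h3F : (3 : F) = 0 := by
    have h := CharP.cast_eq_zero F 3
    exact_mod_cast h
  obtain ⟨k, hk, ⟨e0⟩⟩ := S0261.result hodd Q
  have : NeZero (2 ^ k) := ⟨pow_ne_zero k two_ne_zero⟩
  have hk1 : k = 1 := by
    have hc : Nat.card (Q : Subgroup (Matrix.SpecialLinearGroup (Fin 2) F)) = 4 * 2 ^ k := by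
      rw [Nat.card_congr e0.toEquiv, Nat.card_eq_fintype_card, QuaternionGroup.card]
    rw [hQ8] at hc
    have h2k : 2 ^ k = 2 := by omega
    exact Nat.pow_right_injective (le_refl 2) (h2k.trans (pow_one 2).symm)
  subst hk1
  have e : (Q : Subgroup (Matrix.SpecialLinearGroup (Fin 2) F)) ≃* QuaternionGroup 2 := e0
  have hlcm : 2 * lcm 2 2 = 4 := by decide
  have hQ4 : ∀ g ∈ (Q : Subgroup (Matrix.SpecialLinearGroup (Fin 2) F)), (g * g) * (g * g) = 1 := by
    intro g hg
    have h1 : (e ⟨g, hg⟩) ^ 4 = 1 := by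
      have h := Monoid.pow_exponent_eq_one (e ⟨g, hg⟩)
      rw [QuaternionGroup.exponent, hlcm] at h
      exact h
    rw [← map_pow, MulEquiv.map_eq_one_iff] at h1
    have h2' := congrArg Subtype.val h1
    rw [Subgroup.coe_pow, Subgroup.coe_one] at h2'
    have h3 : g ^ 4 = 1 := h2'
    have e22 : (4 : ℕ) = 2 + 2 := rfl
    rw [e22, pow_add, pow_two] at h3
    exact h3
  have hQa : ∀ g ∈ (Q : Subgroup (Matrix.SpecialLinearGroup (Fin 2) F)),
      g ∈ Subgroup.center (Matrix.SpecialLinearGroup (Fin 2) F) ∨ (g : Matrix (Fin 2) (Fin 2) F).trace = 0 := by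
    intro g hg
    by_cases hgg : g * g = 1
    · left; exact S0807.central_of_sq_one hodd g hgg
    · right
      have hneg : g * g = sl2NegOne := by
        apply Subtype.ext
        rw [S0268.result hodd (g * g) hgg (hQ4 g hg), S0809.negOne_val]
      exact trace_eq_zero_of_sq_negOne g hneg
  have hQc : ∀ x : Matrix.SpecialLinearGroup (Fin 2) F, x ^ 8 = 1 → x ∈ (Q : Subgroup (Matrix.SpecialLinearGroup (Fin 2) F)) := by
    intro x hx
    have hd : orderOf x ∣ 2 ^ 3 := by
      have h := orderOf_dvd_of_pow_eq_one hx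
      norm_num
      exact h
    obtain ⟨j, -, hj⟩ := (Nat.dvd_prime_pow Nat.prime_two).mp hd
    obtain ⟨P0, hP0⟩ := (IsPGroup.of_card ((Nat.card_zpowers x).trans hj)).exists_le_sylow
    obtain ⟨g, hg⟩ := MulAction.exists_smul_eq (Matrix.SpecialLinearGroup (Fin 2) F) Q P0
    have hP0Q : P0 = Q := by rw [← hg]; exact Sylow.smul_eq_of_normal (h := hQnorm)
    rw [← hP0Q]
    exact hP0 (Subgroup.mem_zpowers x)
  have hclass : ∀ N : Subgroup (Matrix.SpecialLinearGroup (Fin 2) F), N.Normal →
      N = ⊥ ∨ N = ⊤ ∨ N = Subgroup.center (Matrix.SpecialLinearGroup (Fin 2) F) ∨ N = (Q : Subgroup (Matrix.SpecialLinearGroup (Fin 2) F)) := by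
    intro N hN
    by_cases hNQ : N ≤ (Q : Subgroup (Matrix.SpecialLinearGroup (Fin 2) F))
    · by_cases hNZ : N ≤ Subgroup.center (Matrix.SpecialLinearGroup (Fin 2) F)
      · by_cases hbot : ∀ x ∈ N, x = 1
        · exact Or.inl ((Subgroup.eq_bot_iff_forall N).mpr hbot)
        · right; right; left
          push_neg at hbot
          obtain ⟨x, hxN, hx1⟩ := hbot
          apply le_antisymm hNZ
          intro z hz
          rcases sl2_center_cases z hz with h | h
          · rw [h]; exact N.one_mem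
          · rcases sl2_center_cases x (hNZ hxN) with h' | h'
            · exact absurd h' hx1
            · rw [h, ← h']; exact hxN
      · right; right; right
        obtain ⟨x, hxN, hxZ⟩ := SetLike.not_le_iff_exists.mp hNZ
        have htx : (x : Matrix (Fin 2) (Fin 2) F).trace = 0 := (hQa x (hNQ hxN)).resolve_left hxZ
        have hxx : x * x = sl2NegOne := S0809.sq_eq_negOne_of_trace x htx
        apply le_antisymm hNQ
        intro g hg
        rcases hQa g hg with hc | ht
        · rcases sl2_center_cases g hc with h | h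
          · rw [h]; exact N.one_mem
          · rw [h, ← hxx]; exact N.mul_mem hxN hxN
        · have h4 : (x : Matrix (Fin 2) (Fin 2) F).trace ^ 2 ≠ 4 := by
            rw [htx]; exact S0809.four_ne_zero_sq hodd
          have hconj : IsConj x g := sl2_odd_isConj_of_trace hodd x g (by rw [htx, ht]) h4
          obtain ⟨c, hc⟩ := isConj_iff.mp hconj
          rw [← hc]
          exact hN.conj_mem x hxN c
    · right; left
      obtain ⟨x, hxN, hxQ⟩ := SetLike.not_le_iff_exists.mp hNQ
      have ht1 : x ^ 8 ≠ 1 := fun h => hxQ (hQc x h)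
      have ht3 : (x ^ 8) ^ 3 = 1 := by
        rw [← pow_mul]
        have h := pow_card_eq_one' (G := Matrix.SpecialLinearGroup (Fin 2) F) (x := x)
        rw [hG24] at h
        exact h
      have htr : ((x ^ 8 : Matrix.SpecialLinearGroup (Fin 2) F) : Matrix (Fin 2) (Fin 2) F).trace = 2 :=
        sl2_trace_eq_two_of_pow_char 3 (x ^ 8) ht3
      obtain ⟨b, hb, hconj⟩ := sl2_exists_conj_sl2U h2 (x ^ 8) htr ht1
      obtain ⟨c, hc⟩ := isConj_iff.mp hconj
      have hbN : sl2U b ∈ N := by rw [← hc]; exact hN.conj_mem _ (N.pow_mem hxN 8) c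
      have hnegN : sl2U (-b) ∈ N := by
        have e1 : (sl2U (-b) : Matrix.SpecialLinearGroup (Fin 2) F) = (sl2U b)⁻¹ := by
          rw [eq_inv_iff_mul_eq_one, sl2U_mul, neg_add_cancel, sl2U_zero]
        rw [e1]; exact N.inv_mem hbN
      have hall : ∀ y : F, sl2U y ∈ N := by
        intro y
        obtain ⟨c', hc'⟩ : ∃ c' : F, c' = y * b⁻¹ := ⟨_, rfl⟩
        have hy : y = c' * b := by rw [hc', mul_assoc, inv_mul_cancel₀ hb, mul_one]
        have hc3 : c' ^ 3 = c' := by
          have h := FiniteField.pow_card c'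
          rw [hF] at h
          exact h
        have hfac : c' * ((c' - 1) * (c' + 1)) = 0 := by linear_combination hc3
        rcases mul_eq_zero.mp hfac with h0 | h0
        · rw [hy, h0, zero_mul, sl2U_zero]; exact N.one_mem
        · rcases mul_eq_zero.mp h0 with h1 | h1
          · have h1' : c' = 1 := by linear_combination h1
            rw [hy, h1', one_mul]; exact hbN
          · have h1' : c' = -1 := by linear_combination h1
            rw [hy, h1', neg_one_mul]; exact hnegN
      have hX : ((sl2mk (0 : F) 1 (-1) 0 (by ring) : Matrix.SpecialLinearGroup (Fin 2) F) : Matrix (Fin 2) (Fin 2) F) 1 0 ≠ 0 := by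
        rw [sl2mk_val]
        show (-1 : F) ≠ 0
        exact neg_ne_zero.mpr one_ne_zero
      exact sl2_generate _ hX N hall (fun y => hN.conj_mem _ (hall y) _)
  have hidx : Nat.card ((Matrix.SpecialLinearGroup (Fin 2) F) ⧸ (Q : Subgroup (Matrix.SpecialLinearGroup (Fin 2) F))) = 3 := by
    have h1 := Subgroup.card_mul_index (Q : Subgroup (Matrix.SpecialLinearGroup (Fin 2) F))
    rw [hQ8, hG24, Subgroup.index_eq_card] at h1
    omega
  have hcyc : IsCyclic ((Matrix.SpecialLinearGroup (Fin 2) F) ⧸ (Q : Subgroup (Matrix.SpecialLinearGroup (Fin 2) F))) := isCyclic_of_prime_card hidx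
  obtain ⟨γ, hγ⟩ := hcyc.exists_generator
  have hle : commutator (Matrix.SpecialLinearGroup (Fin 2) F) ≤ (Q : Subgroup (Matrix.SpecialLinearGroup (Fin 2) F)) := by
    rw [commutator_def, Subgroup.commutator_le]
    intro g₁ _ g₂ _
    apply (QuotientGroup.eq_one_iff _).mp
    obtain ⟨m, hm⟩ := Subgroup.mem_zpowers_iff.mp (hγ (g₁ : (Matrix.SpecialLinearGroup (Fin 2) F) ⧸ (Q : Subgroup (Matrix.SpecialLinearGroup (Fin 2) F))))
    obtain ⟨n, hn⟩ := Subgroup.mem_zpowers_iff.mp (hγ (g₂ : (Matrix.SpecialLinearGroup (Fin 2) F) ⧸ (Q : Subgroup (Matrix.SpecialLinearGroup (Fin 2) F))))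
    rw [commutatorElement_def]
    show ((g₁ : (Matrix.SpecialLinearGroup (Fin 2) F) ⧸ (Q : Subgroup (Matrix.SpecialLinearGroup (Fin 2) F))) * (g₂ : (Matrix.SpecialLinearGroup (Fin 2) F) ⧸ (Q : Subgroup (Matrix.SpecialLinearGroup (Fin 2) F))) *
      (g₁ : (Matrix.SpecialLinearGroup (Fin 2) F) ⧸ (Q : Subgroup (Matrix.SpecialLinearGroup (Fin 2) F)))⁻¹ * (g₂ : (Matrix.SpecialLinearGroup (Fin 2) F) ⧸ (Q : Subgroup (Matrix.SpecialLinearGroup (Fin 2) F)))⁻¹) = 1
    rw [← hm, ← hn, zpow_mul_comm γ m n]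
    group
  have hcommQ : commutator (Matrix.SpecialLinearGroup (Fin 2) F) = (Q : Subgroup (Matrix.SpecialLinearGroup (Fin 2) F)) := by
    have hnormC : (commutator (Matrix.SpecialLinearGroup (Fin 2) F)).Normal := inferInstance
    obtain ⟨u, hu⟩ : ∃ u : Matrix.SpecialLinearGroup (Fin 2) F, u = sl2U 1 := ⟨_, rfl⟩
    obtain ⟨l, hl⟩ : ∃ l : Matrix.SpecialLinearGroup (Fin 2) F, l = sl2mk 1 0 1 1 (by ring) := ⟨_, rfl⟩
    obtain ⟨c, hc⟩ : ∃ c : Matrix.SpecialLinearGroup (Fin 2) F, c = sl2mk 0 (-1) 1 0 (by ring) := ⟨_, rfl⟩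
    have hrel : u * l = c * (l * u) := by
      rw [hu, hl, hc]
      apply Subtype.ext
      simp only [Matrix.SpecialLinearGroup.coe_mul, sl2U_val, sl2mk_val, Matrix.mul_fin_two]
      apply S5016.mat2_ext <;> first | ring1 | linear_combination h3F
    have hcmem : c ∈ commutator (Matrix.SpecialLinearGroup (Fin 2) F) := by
      have h1 : ⁅u, l⁆ ∈ commutator (Matrix.SpecialLinearGroup (Fin 2) F) := by
        rw [commutator_def]
        exact Subgroup.commutator_mem_commutator (Subgroup.mem_top u) (Subgroup.mem_top l)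
      have h2' : ⁅u, l⁆ = c := by
        rw [commutatorElement_def, hrel]
        group
      rw [← h2']; exact h1
    have hcZ : c ∉ Subgroup.center (Matrix.SpecialLinearGroup (Fin 2) F) := by
      intro hz
      obtain ⟨h01, -, -⟩ := (S0805.mem_center_iff_scalar c).mp hz
      rw [hc, sl2mk_val] at h01
      have h01' : (-1 : F) = 0 := h01
      exact neg_ne_zero.mpr one_ne_zero h01'
    rcases hclass (commutator (Matrix.SpecialLinearGroup (Fin 2) F)) hnormC with h | h | h | h
    · exfalso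
      rw [h] at hcmem
      have hc1 : c = 1 := Subgroup.mem_bot.mp hcmem
      exact hcZ (by rw [hc1]; exact Subgroup.one_mem _)
    · exfalso
      rw [h] at hle
      have h5 := Subgroup.card_le_of_le hle
      rw [Subgroup.card_top, hG24, hQ8] at h5
      omega
    · exfalso
      rw [h] at hcmem
      exact hcZ hcmem
    · exact h
  exact ⟨hG24, hQ8, hQnorm, ⟨e⟩, hcommQ, hclass⟩

theorem sl23_struct {F : Type*} [Field F] [Fintype F] (hF : Fintype.card F = 3) :
    Nat.card (Matrix.SpecialLinearGroup (Fin 2) F) = 24 ∧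
    Nat.card (Subgroup.center (Matrix.SpecialLinearGroup (Fin 2) F)) = 2 ∧
    Nat.card (commutator (Matrix.SpecialLinearGroup (Fin 2) F)) = 8 ∧
    Nonempty (commutator (Matrix.SpecialLinearGroup (Fin 2) F) ≃* QuaternionGroup 2) ∧
    (∀ P : Sylow 3 (Matrix.SpecialLinearGroup (Fin 2) F),
      Subgroup.IsComplement' (commutator (Matrix.SpecialLinearGroup (Fin 2) F)) (P : Subgroup (Matrix.SpecialLinearGroup (Fin 2) F))) ∧
    ∀ N : Subgroup (Matrix.SpecialLinearGroup (Fin 2) F), N.Normal →
      N = ⊥ ∨ N = ⊤ ∨ N = Subgroup.center (Matrix.SpecialLinearGroup (Fin 2) F) ∨ N = commutator (Matrix.SpecialLinearGroup (Fin 2) F) := by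
  have hodd : Odd (Fintype.card F) := by rw [hF]; exact ⟨1, rfl⟩
  have h2 : (2 : F) ≠ 0 := two_ne_zero_of_odd hodd
  obtain ⟨Q⟩ : Nonempty (Sylow 2 (Matrix.SpecialLinearGroup (Fin 2) F)) := inferInstance
  obtain ⟨hG24, hQ8, hQnorm, ⟨e⟩, hcommQ, hclass⟩ := sl23_sylow hF Q
  refine ⟨hG24, sl2_center_card_odd h2, ?_, ?_, ?_, ?_⟩
  · rw [hcommQ]; exact hQ8
  · exact ⟨(MulEquiv.subgroupCongr hcommQ).trans e⟩
  · intro P
    have hP3 : Nat.card (P : Subgroup (Matrix.SpecialLinearGroup (Fin 2) F)) = 3 :=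
      (S2431.sylow_card_of_eq 3 1 8 (hG24.trans (by norm_num)) (by norm_num) P).trans
        (by norm_num)
    rw [hcommQ]
    apply Subgroup.isComplement'_of_coprime
    · rw [hQ8, hP3, hG24]
    · rw [hQ8, hP3]
      decide
  · intro N hN
    rw [hcommQ]
    exact hclass N hN

/-- The group SL₂ over the field with 3 elements has order 24 and centre of order 2; its commutator subgroup has order 8, is isomorphic to the quaternion group of order 8 and is complemented by every Sylow 3-subgroup (so the group is a semidirect product of a quaternion group of order 8 by a cyclic group of order 3); and its only normal subgroups besides the trivial subgroup and the whole group are the centre and the commutator subgroup. -/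
theorem result :
    Nat.card (Matrix.SpecialLinearGroup (Fin 2) (ZMod 3)) = 24 ∧
    Nat.card (Subgroup.center (Matrix.SpecialLinearGroup (Fin 2) (ZMod 3))) = 2 ∧
    Nat.card (commutator (Matrix.SpecialLinearGroup (Fin 2) (ZMod 3))) = 8 ∧
    Nonempty (commutator (Matrix.SpecialLinearGroup (Fin 2) (ZMod 3)) ≃* QuaternionGroup 2) ∧
    (∀ P : Sylow 3 (Matrix.SpecialLinearGroup (Fin 2) (ZMod 3)),
      Subgroup.IsComplement' (commutator (Matrix.SpecialLinearGroup (Fin 2) (ZMod 3)))
        (P : Subgroup (Matrix.SpecialLinearGroup (Fin 2) (ZMod 3)))) ∧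
    ∀ N : Subgroup (Matrix.SpecialLinearGroup (Fin 2) (ZMod 3)), N.Normal →
      N = ⊥ ∨ N = ⊤ ∨ N = Subgroup.center (Matrix.SpecialLinearGroup (Fin 2) (ZMod 3)) ∨
        N = commutator (Matrix.SpecialLinearGroup (Fin 2) (ZMod 3)) := by
  exact sl23_struct (F := ZMod 3) (ZMod.card 3)

end Cfsg.Agent.S2427
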