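import Cfsg.Statements.S1303
import Cfsg.Agent.S2427

set_option autoImplicit false
open Cfsg

namespace Cfsg.Agent.S1303

open Cfsg.Agent.Helper12

theorem sl23_local {F : Type*} [Field F] [Fintype F] (hF : Fintype.card F = 3) :
    Cfsg.IsPConstrained 2 (Matrix.SpecialLinearGroup (Fin 2) F) ∧ Cfsg.pPrimeCore 2 (Matrix.SpecialLinearGroup (Fin 2) F) = ⊥ ∧
    (∀ t : Matrix.SpecialLinearGroup (Fin 2) F, orderOf t = 2 → t ∈ Subgroup.center (Matrix.SpecialLinearGroup (Fin 2) F)) ∧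
    ∃ Q : Subgroup (Matrix.SpecialLinearGroup (Fin 2) F), Nat.card ↥Q = 3 ∧ ¬ (Q ≤ Cfsg.pPrimeCore 2 (Matrix.SpecialLinearGroup (Fin 2) F)) := by
  have hodd : Odd (Fintype.card F) := by rw [hF]; exact ⟨1, rfl⟩
  have h2 : (2 : F) ≠ 0 := two_ne_zero_of_odd hodd
  obtain ⟨Q⟩ : Nonempty (Sylow 2 (Matrix.SpecialLinearGroup (Fin 2) F)) := inferInstance
  obtain ⟨hG24, hQ8, hQnorm, -, -, hclass⟩ := S2427.sl23_sylow hF Q
  have hZ2 : Nat.card (Subgroup.center (Matrix.SpecialLinearGroup (Fin 2) F)) = 2 := sl2_center_card_odd h2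
  have hD : Cfsg.pPrimeCore 2 (Matrix.SpecialLinearGroup (Fin 2) F) = ⊥ := by
    unfold Cfsg.pPrimeCore
    rw [sSup_eq_bot]
    rintro N ⟨hN, hcop⟩
    rcases hclass N hN with h | h | h | h
    · exact h
    · exfalso
      subst h
      rw [Subgroup.card_top, hG24] at hcop
      exact absurd hcop (by decide)
    · exfalso
      subst h
      rw [hZ2] at hcop
      exact absurd hcop (by decide)
    · exfalso
      subst h
      rw [hQ8] at hcop
      exact absurd hcop (by decide)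
  have hQW : (Q : Subgroup (Matrix.SpecialLinearGroup (Fin 2) F)) ≤ Cfsg.pPrimePCore 2 (Matrix.SpecialLinearGroup (Fin 2) F) := by
    intro x hx
    show (QuotientGroup.mk' (Cfsg.pPrimeCore 2 (Matrix.SpecialLinearGroup (Fin 2) F))) x ∈ Cfsg.pCore 2 ((Matrix.SpecialLinearGroup (Fin 2) F) ⧸ Cfsg.pPrimeCore 2 (Matrix.SpecialLinearGroup (Fin 2) F))
    have hmapN : ((Q : Subgroup (Matrix.SpecialLinearGroup (Fin 2) F)).map (QuotientGroup.mk' (Cfsg.pPrimeCore 2 (Matrix.SpecialLinearGroup (Fin 2) F)))).Normal :=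
      Subgroup.Normal.map hQnorm _ (QuotientGroup.mk'_surjective _)
    have hmapP : IsPGroup 2 ((Q : Subgroup (Matrix.SpecialLinearGroup (Fin 2) F)).map (QuotientGroup.mk' (Cfsg.pPrimeCore 2 (Matrix.SpecialLinearGroup (Fin 2) F)))) :=
      Q.isPGroup'.map _
    have hle : (Q : Subgroup (Matrix.SpecialLinearGroup (Fin 2) F)).map (QuotientGroup.mk' (Cfsg.pPrimeCore 2 (Matrix.SpecialLinearGroup (Fin 2) F))) ≤
        Cfsg.pCore 2 ((Matrix.SpecialLinearGroup (Fin 2) F) ⧸ Cfsg.pPrimeCore 2 (Matrix.SpecialLinearGroup (Fin 2) F)) := le_sSup ⟨hmapN, hmapP⟩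
    exact hle (Subgroup.mem_map_of_mem _ hx)
  have hcon : Cfsg.IsPConstrained 2 (Matrix.SpecialLinearGroup (Fin 2) F) := by
    intro P
    have hQP : (Q : Subgroup (Matrix.SpecialLinearGroup (Fin 2) F)) ≤
        (P : Subgroup ↥(Cfsg.pPrimePCore 2 (Matrix.SpecialLinearGroup (Fin 2) F))).map (Cfsg.pPrimePCore 2 (Matrix.SpecialLinearGroup (Fin 2) F)).subtype := by
      have hn : ((Q : Subgroup (Matrix.SpecialLinearGroup (Fin 2) F)).subgroupOf (Cfsg.pPrimePCore 2 (Matrix.SpecialLinearGroup (Fin 2) F))).Normal := hQnorm.subgroupOf _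
      have hp : IsPGroup 2 ((Q : Subgroup (Matrix.SpecialLinearGroup (Fin 2) F)).subgroupOf (Cfsg.pPrimePCore 2 (Matrix.SpecialLinearGroup (Fin 2) F))) :=
        Q.isPGroup'.comap_subtype
      have hsup := IsPGroup.to_sup_of_normal_right P.isPGroup' hp
      have he := P.is_maximal' hsup le_sup_left
      have hle : (Q : Subgroup (Matrix.SpecialLinearGroup (Fin 2) F)).subgroupOf (Cfsg.pPrimePCore 2 (Matrix.SpecialLinearGroup (Fin 2) F)) ≤ (P : Subgroup ↥(Cfsg.pPrimePCore 2 (Matrix.SpecialLinearGroup (Fin 2) F))) := by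
        rw [← he]; exact le_sup_right
      intro x hx
      exact Subgroup.mem_map.mpr ⟨⟨x, hQW hx⟩, hle (Subgroup.mem_subgroupOf.mpr hx), rfl⟩
    have hcent := (S2431.result hodd Q).1
    intro g hg
    have hg' : g ∈ Subgroup.centralizer ((Q : Subgroup (Matrix.SpecialLinearGroup (Fin 2) F)) : Set (Matrix.SpecialLinearGroup (Fin 2) F)) :=
      Subgroup.centralizer_le (SetLike.coe_subset_coe.mpr hQP) hg
    rw [hcent] at hg'
    exact hQW (S4356.center_le_sylow2 Q hg')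
  have hinv : ∀ t : Matrix.SpecialLinearGroup (Fin 2) F, orderOf t = 2 → t ∈ Subgroup.center (Matrix.SpecialLinearGroup (Fin 2) F) := by
    intro t ht
    apply S0807.central_of_sq_one hodd
    have h := pow_orderOf_eq_one t
    rw [ht] at h
    rw [← pow_two]
    exact h
  obtain ⟨P3⟩ : Nonempty (Sylow 3 (Matrix.SpecialLinearGroup (Fin 2) F)) := inferInstance
  have hP3 : Nat.card (P3 : Subgroup (Matrix.SpecialLinearGroup (Fin 2) F)) = 3 :=
    (S2431.sylow_card_of_eq 3 1 8 (hG24.trans (by norm_num)) (by norm_num) P3).trans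
      (by norm_num)
  refine ⟨hcon, hD, hinv, (P3 : Subgroup (Matrix.SpecialLinearGroup (Fin 2) F)), hP3, ?_⟩
  rw [hD]
  intro hle
  have hb := le_bot_iff.mp hle
  rw [hb, Subgroup.card_bot] at hP3
  exact absurd hP3 (by norm_num)

/-- The group X = SL(2, 3): it is 2-constrained, O_{2'}(X) = 1, its centre A = Z(X) contains every involution of X = C_X(A), and X has a subgroup of order 3 (normalized by A) not contained in O_{2'}(X). -/
theorem result : Cfsg.IsPConstrained 2 (Matrix.SpecialLinearGroup (Fin 2) (ZMod 3)) ∧ Cfsg.pPrimeCore 2 (Matrix.SpecialLinearGroup (Fin 2) (ZMod 3)) = ⊥ ∧ (∀ t : Matrix.SpecialLinearGroup (Fin 2) (ZMod 3), orderOf t = 2 → t ∈ Subgroup.center (Matrix.SpecialLinearGroup (Fin 2) (ZMod 3))) ∧ ∃ Q : Subgroup (Matrix.SpecialLinearGroup (Fin 2) (ZMod 3)), Nat.card ↥Q = 3 ∧ ¬ (Q ≤ Cfsg.pPrimeCore 2 (Matrix.SpecialLinearGroup (Fin 2) (ZMod 3))) := by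
  exact sl23_local (F := ZMod 3) (ZMod.card 3)

end Cfsg.Agent.S1303
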