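import Mathlib
import Cfsg.Statements.S5911
-- import your own Cfsg.Agent.* helpers here

set_option autoImplicit false
open Cfsg

namespace Cfsg.Agent.S5911

open Equiv Equiv.Perm

section gen
variable {Y : Type*} [DecidableEq Y]

theorem swap_comm_of_disjoint {a b c d : Y} (hca : c ≠ a) (hcb : c ≠ b) (hda : d ≠ a)
    (hdb : d ≠ b) : swap a b * swap c d = swap c d * swap a b := by
  ext x
  simp only [Perm.mul_apply, swap_apply_def]
  split_ifs <;> simp_all

theorem noncomm_cases {a b c d : Y} (hab : a ≠ b) (hcd : c ≠ d)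
    (h : swap a b * swap c d ≠ swap c d * swap a b) :
    (c = a ∧ d ≠ b) ∨ (c = b ∧ d ≠ a) ∨ (d = a ∧ c ≠ b) ∨ (d = b ∧ c ≠ a) := by
  by_cases h1 : c = a
  · left
    refine ⟨h1, fun hd => h ?_⟩
    rw [h1, hd]
  by_cases h2 : c = b
  · right; left
    refine ⟨h2, fun hd => h ?_⟩
    rw [h2, hd, swap_comm b a]
  by_cases h3 : d = a
  · right; right; left; exact ⟨h3, h2⟩
  by_cases h4 : d = b
  · right; right; right; exact ⟨h4, h1⟩
  exact absurd (swap_comm_of_disjoint h1 h2 h3 h4) h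

theorem orderOf_swap_mul_conj_le [Fintype Y] {a b : Y} (hab : a ≠ b) (y : Perm Y) :
    orderOf (swap a b * (y * swap a b * y⁻¹)) ≤ 3 := by
  rw [← Equiv.swap_apply_apply]
  obtain ⟨c, hc⟩ : ∃ c, y a = c := ⟨_, rfl⟩
  obtain ⟨d, hd⟩ : ∃ d, y b = d := ⟨_, rfl⟩
  rw [hc, hd]
  have hcd : c ≠ d := fun h => hab (y.injective (by rw [hc, hd, h]))
  by_cases hcomm : swap a b * swap c d = swap c d * swap a b
  · have h2 : (swap a b * swap c d) ^ 2 = 1 := by
      rw [pow_two]
      calc swap a b * swap c d * (swap a b * swap c d)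
          = swap a b * (swap c d * swap a b) * swap c d := by group
        _ = swap a b * (swap a b * swap c d) * swap c d := by rw [hcomm]
        _ = (swap a b * swap a b) * (swap c d * swap c d) := by group
        _ = 1 := by rw [swap_mul_self, swap_mul_self, one_mul]
    exact le_trans (orderOf_le_of_pow_eq_one (by norm_num) h2) (by norm_num)
  · rcases noncomm_cases hab hcd hcomm with ⟨h1, h2⟩ | ⟨h1, h2⟩ | ⟨h1, h2⟩ | ⟨h1, h2⟩
    · rw [h1]
      exact (isThreeCycle_swap_mul_swap_same hab (fun h => hcd (h1.trans h)) (Ne.symm h2)).orderOf.le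
    · rw [h1, swap_comm a b]
      exact (isThreeCycle_swap_mul_swap_same hab.symm (fun h => hcd (h1.trans h))
        (Ne.symm h2)).orderOf.le
    · rw [h1, swap_comm c a]
      exact (isThreeCycle_swap_mul_swap_same hab (fun h => hcd (h.symm.trans h1.symm))
        (Ne.symm h2)).orderOf.le
    · rw [h1, swap_comm a b, swap_comm c b]
      exact (isThreeCycle_swap_mul_swap_same hab.symm (fun h => hcd (h.symm.trans h1.symm))
        (Ne.symm h2)).orderOf.le

theorem not_ord_le_three [Fintype Y] (u : Perm Y) (x : Y) (h1 : u x ≠ x) (h2 : u (u x) ≠ x)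
    (h3 : u (u (u x)) ≠ x) : ¬ orderOf u ≤ 3 := by
  intro hle
  have hpos : 0 < orderOf u := orderOf_pos u
  have hpow : u ^ orderOf u = 1 := pow_orderOf_eq_one u
  obtain ⟨k, hk⟩ : ∃ k, orderOf u = k := ⟨_, rfl⟩
  rw [hk] at hle hpos hpow
  have key : ∀ z, (u ^ k) z = z := fun z => by rw [hpow]; rfl
  interval_cases k
  · exact h1 (by simpa using key x)
  · exact h2 (by simpa [pow_succ, Perm.mul_apply] using key x)
  · exact h3 (by simpa [pow_succ, Perm.mul_apply] using key x)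

theorem exists_notMem [Fintype Y] (S : Finset Y) (h : S.card < Fintype.card Y) :
    ∃ x, x ∉ S := by
  by_contra hcon
  push_neg at hcon
  have h1 : Finset.univ ⊆ S := fun x _ => hcon x
  have h2 := Finset.card_le_card h1
  rw [Finset.card_univ] at h2
  omega

theorem eq_swap_of_prop [Fintype Y] (h5 : 5 ≤ Fintype.card Y) (h6 : Fintype.card Y ≠ 6)
    (t : Perm Y) (ht1 : t ≠ 1) (ht2 : t * t = 1)
    (hp : ∀ y : Perm Y, orderOf (t * (y * t * y⁻¹)) ≤ 3) :
    ∃ a b, a ≠ b ∧ t = swap a b := by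
  by_contra hne
  push_neg at hne
  have htt : ∀ x, t (t x) = x := fun x => by
    have := congrArg (fun f : Perm Y => f x) ht2
    simpa using this
  obtain ⟨x1, hx1⟩ : ∃ x, t x ≠ x := by
    by_contra h
    push_neg at h
    exact ht1 (Equiv.ext h)
  obtain ⟨x2, hx2⟩ : ∃ z, t x1 = z := ⟨_, rfl⟩
  have h21 : t x2 = x1 := by rw [← hx2]; exact htt x1
  have h12 : x1 ≠ x2 := fun h => hx1 (hx2.trans h.symm)
  obtain ⟨x3, hx3⟩ : ∃ x, t x ≠ swap x1 x2 x := by
    by_contra h
    push_neg at h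
    exact hne x1 x2 h12 (Equiv.ext h)
  have h31 : x3 ≠ x1 := by
    intro h
    rw [h, swap_apply_left] at hx3
    exact hx3 hx2
  have h32 : x3 ≠ x2 := by
    intro h
    rw [h, swap_apply_right] at hx3
    exact hx3 h21
  rw [swap_apply_of_ne_of_ne h31 h32] at hx3
  obtain ⟨x4, hx4⟩ : ∃ z, t x3 = z := ⟨_, rfl⟩
  have h43 : t x4 = x3 := by rw [← hx4]; exact htt x3
  have h34 : x3 ≠ x4 := fun h => hx3 (hx4.trans h.symm)
  have h41 : x4 ≠ x1 := fun h => h32 (by rw [← h43, h, hx2])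
  have h42 : x4 ≠ x2 := fun h => h31 (by rw [← h43, h, h21])
  have hu : ∀ (y : Perm Y) (x : Y), (t * (y * t * y⁻¹)) x = t (y (t (y⁻¹ x))) := fun y x => rfl
  by_cases hfix : ∃ x5, t x5 = x5
  · obtain ⟨x5, hx5⟩ := hfix
    have h51 : x5 ≠ x1 := fun h => hx1 (by rw [← h]; exact hx5)
    have h52 : x5 ≠ x2 := fun h => h12 (by rw [← h21, ← h, hx5])
    have h53 : x5 ≠ x3 := fun h => hx3 (by rw [← h]; exact hx5)
    have h54 : x5 ≠ x4 := fun h => h34 (by rw [← h43, ← h, hx5])
    obtain ⟨y, hy⟩ : ∃ y : Perm Y, y = swap x1 x3 * swap x4 x5 := ⟨_, rfl⟩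
    have hy1 : y x1 = x3 := by
      rw [hy, Perm.mul_apply, swap_apply_of_ne_of_ne h41.symm h51.symm, swap_apply_left]
    have hy3 : y x3 = x1 := by
      rw [hy, Perm.mul_apply, swap_apply_of_ne_of_ne h34 h53.symm, swap_apply_right]
    have hy4 : y x4 = x5 := by
      rw [hy, Perm.mul_apply, swap_apply_left, swap_apply_of_ne_of_ne h51 h53]
    have hy2 : y x2 = x2 := by
      rw [hy, Perm.mul_apply, swap_apply_of_ne_of_ne h42.symm h52.symm,
        swap_apply_of_ne_of_ne h12.symm h32.symm]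
    have e1 : (t * (y * t * y⁻¹)) x1 = x5 := by
      rw [hu, Perm.inv_eq_iff_eq.mpr hy3.symm, hx4, hy4, hx5]
    have e5 : (t * (y * t * y⁻¹)) x5 = x2 := by
      rw [hu, Perm.inv_eq_iff_eq.mpr hy4.symm, h43, hy3, hx2]
    have e2 : (t * (y * t * y⁻¹)) x2 = x4 := by
      rw [hu, Perm.inv_eq_iff_eq.mpr hy2.symm, h21, hy1, hx4]
    exact not_ord_le_three _ x1 (by rw [e1]; exact h51) (by rw [e1, e5]; exact h12.symm)
      (by rw [e1, e5, e2]; exact h41) (hp y)
  · push_neg at hfix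
    have hS4 : ∀ x ∈ ({x1, x2, x3, x4} : Finset Y), t x ∈ ({x1, x2, x3, x4} : Finset Y) := by
      intro x hx
      simp only [Finset.mem_insert, Finset.mem_singleton] at hx ⊢
      rcases hx with rfl | rfl | rfl | rfl
      · right; left; exact hx2
      · left; exact h21
      · right; right; right; exact hx4
      · right; right; left; exact h43
    obtain ⟨x5, hx5⟩ := exists_notMem ({x1, x2, x3, x4} : Finset Y)
      (lt_of_le_of_lt Finset.card_le_four (by omega))
    obtain ⟨x6, hx6⟩ : ∃ z, t x5 = z := ⟨_, rfl⟩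
    have h65 : t x6 = x5 := by rw [← hx6]; exact htt x5
    have hx6' : x6 ∉ ({x1, x2, x3, x4} : Finset Y) :=
      fun h => hx5 (by rw [← h65]; exact hS4 x6 h)
    have h56 : x5 ≠ x6 := fun h => hfix x5 (hx6.trans h.symm)
    have hS6 : ∀ x ∈ ({x5, x6, x1, x2, x3, x4} : Finset Y),
        t x ∈ ({x5, x6, x1, x2, x3, x4} : Finset Y) := by
      intro x hx
      rw [Finset.mem_insert, Finset.mem_insert] at hx ⊢
      rcases hx with rfl | rfl | hx
      · right; left; exact hx6
      · left; exact h65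
      · right; right; exact hS4 x hx
    have hev : 2 ∣ Fintype.card Y := by
      by_contra hodd
      have : Fact (Nat.Prime 2) := ⟨Nat.prime_two⟩
      obtain ⟨a, ha⟩ := Equiv.Perm.exists_fixed_point_of_prime (p := 2) (n := 1) hodd
        (σ := t) (by rw [pow_one, pow_two]; exact ht2)
      exact hfix a ha
    have h8 : 8 ≤ Fintype.card Y := by
      obtain ⟨k, hk⟩ := hev
      omega
    obtain ⟨x7, hx7⟩ := exists_notMem ({x5, x6, x1, x2, x3, x4} : Finset Y)
      (lt_of_le_of_lt Finset.card_le_six (by omega))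
    obtain ⟨x8, hx8⟩ : ∃ z, t x7 = z := ⟨_, rfl⟩
    have h87 : t x8 = x7 := by rw [← hx8]; exact htt x7
    have hx8' : x8 ∉ ({x5, x6, x1, x2, x3, x4} : Finset Y) :=
      fun h => hx7 (by rw [← h87]; exact hS6 x8 h)
    have h78 : x7 ≠ x8 := fun h => hfix x7 (hx8.trans h.symm)
    simp only [Finset.mem_insert, Finset.mem_singleton, not_or] at hx5 hx6' hx7 hx8'
    obtain ⟨h51, h52, h53, h54⟩ := hx5
    obtain ⟨h61, h62, h63, h64⟩ := hx6'
    obtain ⟨h75, h76, h71, h72, h73, h74⟩ := hx7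
    obtain ⟨h85, h86, h81, h82, h83, h84⟩ := hx8'
    obtain ⟨y, hy⟩ : ∃ y : Perm Y, y = swap x2 x3 * swap x4 x5 * swap x6 x7 := ⟨_, rfl⟩
    have hy1 : y x1 = x1 := by
      rw [hy, Perm.mul_apply, Perm.mul_apply, swap_apply_of_ne_of_ne (Ne.symm h61) (Ne.symm h71),
        swap_apply_of_ne_of_ne (Ne.symm h41) (Ne.symm h51),
        swap_apply_of_ne_of_ne h12 (Ne.symm h31)]
    have hy2 : y x2 = x3 := by
      rw [hy, Perm.mul_apply, Perm.mul_apply, swap_apply_of_ne_of_ne (Ne.symm h62) (Ne.symm h72),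
        swap_apply_of_ne_of_ne (Ne.symm h42) (Ne.symm h52), swap_apply_left]
    have hy5 : y x5 = x4 := by
      rw [hy, Perm.mul_apply, Perm.mul_apply, swap_apply_of_ne_of_ne h56 (Ne.symm h75),
        swap_apply_right, swap_apply_of_ne_of_ne h42 (Ne.symm h34)]
    have hy6 : y x6 = x7 := by
      rw [hy, Perm.mul_apply, Perm.mul_apply, swap_apply_left,
        swap_apply_of_ne_of_ne h74 h75, swap_apply_of_ne_of_ne h72 h73]
    have hy7 : y x7 = x6 := by
      rw [hy, Perm.mul_apply, Perm.mul_apply, swap_apply_right,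
        swap_apply_of_ne_of_ne h64 (Ne.symm h56), swap_apply_of_ne_of_ne h62 h63]
    have hy8 : y x8 = x8 := by
      rw [hy, Perm.mul_apply, Perm.mul_apply, swap_apply_of_ne_of_ne h86 (Ne.symm h78),
        swap_apply_of_ne_of_ne h84 h85, swap_apply_of_ne_of_ne h82 h83]
    have e1 : (t * (y * t * y⁻¹)) x1 = x4 := by
      rw [hu, Perm.inv_eq_iff_eq.mpr hy1.symm, hx2, hy2, hx4]
    have e4 : (t * (y * t * y⁻¹)) x4 = x8 := by
      rw [hu, Perm.inv_eq_iff_eq.mpr hy5.symm, hx6, hy6, hx8]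
    have e8 : (t * (y * t * y⁻¹)) x8 = x5 := by
      rw [hu, Perm.inv_eq_iff_eq.mpr hy8.symm, h87, hy7, h65]
    exact not_ord_le_three _ x1 (by rw [e1]; exact h41) (by rw [e1, e4]; exact h81)
      (by rw [e1, e4, e8]; exact h51) (hp y)

theorem key_K {i b c e f : Y} (hib : i ≠ b) (hic : i ≠ c) (hbc : b ≠ c) (hef : e ≠ f)
    (h1 : swap i b * swap e f ≠ swap e f * swap i b)
    (h2 : swap i c * swap e f ≠ swap e f * swap i c) :
    swap e f i ≠ i ∨ swap e f = swap b c := by
  rcases noncomm_cases hib hef h1 with ⟨h, h'⟩ | ⟨h, h'⟩ | ⟨h, h'⟩ | ⟨h, h'⟩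
  · left
    rw [h, swap_apply_left]
    exact fun hh => hef (h.trans hh.symm)
  · rcases noncomm_cases hic hef h2 with ⟨g, g'⟩ | ⟨g, g'⟩ | ⟨g, g'⟩ | ⟨g, g'⟩
    · exact absurd (h.symm.trans g) hib.symm
    · exact absurd (h.symm.trans g) hbc
    · exact absurd g h'
    · right; rw [h, g]
  · left
    rw [h, swap_apply_right]
    exact fun hh => hef (hh.trans h.symm)
  · rcases noncomm_cases hic hef h2 with ⟨g, g'⟩ | ⟨g, g'⟩ | ⟨g, g'⟩ | ⟨g, g'⟩
    · exact absurd g h'
    · right; rw [h, g]; exact swap_comm c b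
    · exact absurd (h.symm.trans g) hib.symm
    · exact absurd (h.symm.trans g) hbc

theorem app_inv (h : Perm Y) (x : Y) : h (h⁻¹ x) = x := Equiv.apply_symm_apply h x

end gen

theorem main_aux {Ω X : Type*} [Fintype Ω] [DecidableEq Ω] [Fintype X] [DecidableEq X]
    (h5 : 5 ≤ Fintype.card Ω) (h6 : Fintype.card Ω ≠ 6) (hcX : Fintype.card X = Fintype.card Ω)
    (ψ : Perm Ω ≃* Perm X) (x₀ : X) (H : Subgroup (Perm Ω))
    (hfixH : ∀ h ∈ H, ψ h x₀ = x₀) : ∃ i : Ω, ∀ h ∈ H, h i = i := by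
  have hs : ∀ u, u ≠ x₀ → ∃ a b, a ≠ b ∧ ψ.symm (swap x₀ u) = swap a b := by
    intro u hu
    apply eq_swap_of_prop h5 h6
    · intro h1
      have h2 : swap x₀ u = 1 := by
        have := congrArg ψ h1
        simpa using this
      exact hu (swap_eq_one_iff.mp h2).symm
    · rw [← map_mul, swap_mul_self, map_one]
    · intro y
      have h3 := orderOf_swap_mul_conj_le (Ne.symm hu) (ψ y)
      have e : ψ.symm (swap x₀ u * (ψ y * swap x₀ u * (ψ y)⁻¹))
          = ψ.symm (swap x₀ u) * (y * ψ.symm (swap x₀ u) * y⁻¹) := by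
        simp [map_mul, map_inv]
      rw [← e, MulEquiv.orderOf_eq]
      exact h3
  have hinj_s : ∀ u v, ψ.symm (swap x₀ u) = ψ.symm (swap x₀ v) → u = v := by
    intro u v h
    have := congrArg (fun f : Perm X => f x₀) (ψ.symm.injective h)
    simpa using this
  have hnc : ∀ u v : X, u ≠ x₀ → v ≠ x₀ → u ≠ v →
      ψ.symm (swap x₀ u) * ψ.symm (swap x₀ v) ≠ ψ.symm (swap x₀ v) * ψ.symm (swap x₀ u) := by
    intro u v hu hv huv hc
    rw [← map_mul, ← map_mul] at hc
    have hc' := ψ.symm.injective hc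
    have h2 := congrArg (fun f : Perm X => f x₀) hc'
    simp only [Perm.mul_apply, swap_apply_left] at h2
    rw [swap_apply_of_ne_of_ne hv (Ne.symm huv), swap_apply_of_ne_of_ne hu huv] at h2
    exact huv h2.symm
  obtain ⟨u1, hu1⟩ := exists_notMem ({x₀} : Finset X) (by rw [Finset.card_singleton]; omega)
  obtain ⟨u2, hu2⟩ := exists_notMem ({x₀, u1} : Finset X)
    (lt_of_le_of_lt Finset.card_le_two (by omega))
  obtain ⟨u3, hu3⟩ := exists_notMem ({x₀, u1, u2} : Finset X)
    (lt_of_le_of_lt Finset.card_le_three (by omega))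
  obtain ⟨u4, hu4⟩ := exists_notMem ({x₀, u1, u2, u3} : Finset X)
    (lt_of_le_of_lt Finset.card_le_four (by omega))
  simp only [Finset.mem_insert, Finset.mem_singleton, not_or] at hu1 hu2 hu3 hu4
  obtain ⟨a, b, hab, hs1⟩ := hs u1 hu1
  obtain ⟨c, d, hcd, hs2⟩ := hs u2 hu2.1
  have hnc12 := hnc u1 u2 hu1 hu2.1 (Ne.symm hu2.2)
  rw [hs1, hs2] at hnc12
  obtain ⟨i, b', c', hib, hic, hbc, e1, e2⟩ : ∃ i b' c', i ≠ b' ∧ i ≠ c' ∧ b' ≠ c' ∧
      ψ.symm (swap x₀ u1) = swap i b' ∧ ψ.symm (swap x₀ u2) = swap i c' := by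
    rcases noncomm_cases hab hcd hnc12 with ⟨h, h'⟩ | ⟨h, h'⟩ | ⟨h, h'⟩ | ⟨h, h'⟩
    · exact ⟨a, b, d, hab, fun hh => hcd (h.trans hh), fun hh => h' hh.symm, hs1,
        by rw [hs2, h]⟩
    · exact ⟨b, a, d, hab.symm, fun hh => hcd (h.trans hh), fun hh => h' hh.symm,
        by rw [hs1, swap_comm], by rw [hs2, h]⟩
    · exact ⟨a, b, c, hab, fun hh => hcd (hh.symm.trans h.symm), fun hh => h' hh.symm, hs1,
        by rw [hs2, h, swap_comm]⟩
    · exact ⟨b, a, c, hab.symm, fun hh => hcd (hh.symm.trans h.symm), fun hh => h' hh.symm,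
        by rw [hs1, swap_comm], by rw [hs2, h, swap_comm]⟩
  have hK : ∀ u, u ≠ x₀ → u ≠ u1 → u ≠ u2 →
      ψ.symm (swap x₀ u) i ≠ i ∨ ψ.symm (swap x₀ u) = swap b' c' := by
    intro u hu h1 h2
    obtain ⟨e, f, hef, hse⟩ := hs u hu
    have n1 := hnc u1 u hu1 hu (Ne.symm h1)
    have n2 := hnc u2 u hu2.1 hu (Ne.symm h2)
    rw [e1, hse] at n1
    rw [e2, hse] at n2
    rw [hse]
    exact key_K hib hic hbc hef n1 n2
  obtain ⟨w, hw0, hw1, hw2, hwi⟩ : ∃ w, w ≠ x₀ ∧ w ≠ u1 ∧ w ≠ u2 ∧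
      ψ.symm (swap x₀ w) i ≠ i := by
    rcases hK u3 hu3.1 hu3.2.1 hu3.2.2 with h | h
    · exact ⟨u3, hu3.1, hu3.2.1, hu3.2.2, h⟩
    · rcases hK u4 hu4.1 hu4.2.1 hu4.2.2.1 with h' | h'
      · exact ⟨u4, hu4.1, hu4.2.1, hu4.2.2.1, h'⟩
      · exact absurd (hinj_s _ _ (h'.trans h.symm)) hu4.2.2.2
  obtain ⟨d', hid, hsw'⟩ : ∃ d', i ≠ d' ∧ ψ.symm (swap x₀ w) = swap i d' := by
    obtain ⟨e, f, hef, hsw⟩ := hs w hw0
    rw [hsw] at hwi
    by_cases hei : e = i
    · exact ⟨f, fun h => hef (hei.trans h), by rw [hsw, hei]⟩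
    · by_cases hfi : f = i
      · exact ⟨e, fun h => hei h.symm, by rw [hsw, hfi, swap_comm]⟩
      · exact absurd (swap_apply_of_ne_of_ne (Ne.symm hei) (Ne.symm hfi)) hwi
  have hdb : d' ≠ b' := fun h => hw1 (hinj_s _ _ (by rw [hsw', e1, h]))
  have hdc : d' ≠ c' := fun h => hw2 (hinj_s _ _ (by rw [hsw', e2, h]))
  have hall : ∀ u, u ≠ x₀ → ψ.symm (swap x₀ u) i ≠ i := by
    intro u hu
    by_cases h1 : u = u1
    · rw [h1, e1, swap_apply_left]; exact hib.symm
    by_cases h2 : u = u2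
    · rw [h2, e2, swap_apply_left]; exact hic.symm
    by_cases h3 : u = w
    · rw [h3]; exact hwi
    rcases hK u hu h1 h2 with h | h
    · exact h
    · exfalso
      have n := hnc w u hw0 hu (Ne.symm h3)
      rw [hsw', h] at n
      exact n (swap_comm_of_disjoint hib.symm hdb.symm hic.symm hdc.symm)
  refine ⟨i, fun h hh => ?_⟩
  by_contra hne
  have hfix : ψ h x₀ = x₀ := hfixH h hh
  have hconj : ∀ u, h * ψ.symm (swap x₀ u) * h⁻¹ = ψ.symm (swap x₀ (ψ h u)) := by
    intro u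
    apply ψ.injective
    rw [map_mul, map_mul, map_inv, MulEquiv.apply_symm_apply, MulEquiv.apply_symm_apply,
      ← Equiv.swap_apply_apply, hfix]
  have hmove : ∀ u, u ≠ x₀ → ψ.symm (swap x₀ u) (h⁻¹ i) ≠ h⁻¹ i := by
    intro u hu
    have hu' : ψ h u ≠ x₀ := fun hh' => hu ((ψ h).injective (hh'.trans hfix.symm))
    have h4 := hall (ψ h u) hu'
    rw [← hconj u] at h4
    intro hcon
    apply h4
    rw [Perm.mul_apply, Perm.mul_apply, hcon, app_inv]
  obtain ⟨j, hj⟩ : ∃ j, h⁻¹ i = j := ⟨_, rfl⟩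
  rw [hj] at hmove
  have hji : j ≠ i := by
    intro hji'
    apply hne
    have h5' : h (h⁻¹ i) = h i := by rw [hj, hji']
    rw [app_inv] at h5'
    exact h5'.symm
  have hsij : ∀ u, u ≠ x₀ → ψ.symm (swap x₀ u) = swap i j := by
    intro u hu
    obtain ⟨e, f, hef, hse⟩ := hs u hu
    have hi := hall u hu
    have hjm := hmove u hu
    rw [hse] at hi hjm ⊢
    by_cases hei : e = i
    · have hfj : f = j := by
        by_contra hfj
        exact hjm (swap_apply_of_ne_of_ne (by rw [hei]; exact hji) (Ne.symm hfj))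
      rw [hei, hfj]
    · have hfi : f = i := by
        by_contra hfi
        exact hi (swap_apply_of_ne_of_ne (Ne.symm hei) (Ne.symm hfi))
      have hej : e = j := by
        by_contra hej
        exact hjm (swap_apply_of_ne_of_ne (Ne.symm hej) (by rw [hfi]; exact hji))
      rw [hfi, hej, swap_comm]
  exact hu2.2 (hinj_s _ _ ((hsij u2 hu2.1).trans (hsij u1 hu1).symm))

theorem fix_imp_eq {Ω : Type*} [Fintype Ω] [DecidableEq Ω] (H : Subgroup (Perm Ω))
    (hH : H.index = Fintype.card Ω) (x : Ω) (hx : ∀ h ∈ H, h x = x) :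
    H = MulAction.stabilizer (Perm Ω) x := by
  have hle : H ≤ MulAction.stabilizer (Perm Ω) x := fun h hh => by
    rw [MulAction.mem_stabilizer_iff]; exact hx h hh
  have hidx : (MulAction.stabilizer (Perm Ω) x).index = Fintype.card Ω := by
    rw [MulAction.index_stabilizer_of_transitive, Nat.card_eq_fintype_card]
  have h1 := Subgroup.relIndex_mul_index hle
  rw [hH, hidx] at h1
  have hpos : 0 < Fintype.card Ω := Fintype.card_pos_iff.mpr ⟨x⟩
  have h2 : H.relIndex (MulAction.stabilizer (Perm Ω) x) = 1 :=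
    Nat.eq_of_mul_eq_mul_right hpos (by rw [h1, one_mul])
  exact le_antisymm hle (Subgroup.relIndex_eq_one.mp h2)

theorem main_case {Ω : Type*} [Fintype Ω] [DecidableEq Ω] (h6 : Fintype.card Ω ≠ 6)
    (H : Subgroup (Perm Ω)) (hH : H.index = Fintype.card Ω) (h5 : 5 ≤ Fintype.card Ω) :
    ∃ x : Ω, ∀ h ∈ H, h x = x := by
  classical
  haveI : Fintype (Perm Ω ⧸ H) := Fintype.ofFinite _
  have hcX : Fintype.card (Perm Ω ⧸ H) = Fintype.card Ω := by
    rw [← Nat.card_eq_fintype_card, ← hH, Subgroup.index_eq_card]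
  have hinj : Function.Injective (MulAction.toPermHom (Perm Ω) (Perm Ω ⧸ H)) := by
    rw [← MonoidHom.ker_eq_bot_iff]
    by_contra hne
    have hker : (MulAction.toPermHom (Perm Ω) (Perm Ω ⧸ H)).ker = H.normalCore :=
      (Subgroup.normalCore_eq_ker H).symm
    have : Nontrivial (MulAction.toPermHom (Perm Ω) (Perm Ω ⧸ H)).ker :=
      (Subgroup.nontrivial_iff_ne_bot _).mpr hne
    have hA : alternatingGroup Ω ≤ (MulAction.toPermHom (Perm Ω) (Perm Ω ⧸ H)).ker :=
      Equiv.Perm.alternatingGroup_le_of_normal (by rw [Nat.card_eq_fintype_card]; exact h5) this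
    have hAH : alternatingGroup Ω ≤ H := by
      rw [hker] at hA
      exact hA.trans (Subgroup.normalCore_le H)
    have h2 := Subgroup.index_antitone hAH
    have : Nontrivial Ω := Fintype.one_lt_card_iff_nontrivial.mp (by omega)
    rw [hH, alternatingGroup.index_eq_two] at h2
    omega
  have hbij : Function.Bijective (MulAction.toPermHom (Perm Ω) (Perm Ω ⧸ H)) := by
    rw [Fintype.bijective_iff_injective_and_card]
    exact ⟨hinj, by rw [Fintype.card_perm, Fintype.card_perm, hcX]⟩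
  refine main_aux h5 h6 hcX (MulEquiv.ofBijective _ hbij) (QuotientGroup.mk 1) H ?_
  intro h hh
  show h • (QuotientGroup.mk 1 : Perm Ω ⧸ H) = QuotientGroup.mk 1
  rw [MulAction.Quotient.smul_mk, QuotientGroup.eq]
  simpa using hh

theorem small_case {Ω : Type*} [Fintype Ω] [DecidableEq Ω] (H : Subgroup (Perm Ω))
    (hH : H.index = Fintype.card Ω) (hlt : Fintype.card Ω < 5) :
    ∃ x : Ω, ∀ h ∈ H, h x = x := by
  have hcardH : Nat.card H * Fintype.card Ω = (Fintype.card Ω).factorial := by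
    have h0 := Subgroup.card_mul_index H
    rw [hH, Nat.card_eq_fintype_card (α := Perm Ω), Fintype.card_perm] at h0
    exact h0
  obtain ⟨n, hn⟩ : ∃ n, Fintype.card Ω = n := ⟨_, rfl⟩
  rw [hn] at hcardH hlt hH
  interval_cases n
  · exact absurd hH Subgroup.index_ne_zero_of_finite
  · obtain ⟨x⟩ : Nonempty Ω := Fintype.card_pos_iff.mp (by omega)
    have hss : Subsingleton Ω := Fintype.card_le_one_iff_subsingleton.mp (by omega)
    exact ⟨x, fun h _ => Subsingleton.elim _ _⟩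
  · obtain ⟨x⟩ : Nonempty Ω := Fintype.card_pos_iff.mp (by omega)
    have hc : Nat.card H = 1 := by
      simp only [Nat.factorial] at hcardH
      omega
    refine ⟨x, fun h hh => ?_⟩
    rw [Subgroup.eq_bot_of_card_eq H hc, Subgroup.mem_bot] at hh
    rw [hh]; rfl
  · have hc : Nat.card H = 2 := by
      simp only [Nat.factorial] at hcardH
      omega
    have hp : IsPGroup 2 H := IsPGroup.of_card (n := 1) (by rw [hc]; rfl)
    have hmod := hp.card_modEq_card_fixedPoints Ω
    have hne : (MulAction.fixedPoints H Ω).Nonempty := by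
      by_contra hemp
      rw [Set.not_nonempty_iff_eq_empty] at hemp
      rw [hemp, Nat.card_eq_fintype_card, hn] at hmod
      simp [Nat.ModEq] at hmod
    obtain ⟨x, hx⟩ := hne
    exact ⟨x, fun h hh => hx ⟨h, hh⟩⟩
  · have hc : Nat.card H = 6 := by
      simp only [Nat.factorial] at hcardH
      omega
    have : Fact (Nat.Prime 3) := ⟨by norm_num⟩
    obtain ⟨c, hc3⟩ := exists_prime_orderOf_dvd_card' (G := H) 3 (by rw [hc]; norm_num)
    have hcardP : Nat.card (Subgroup.zpowers c) = 3 := by rw [Nat.card_zpowers, hc3]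
    have hidxP : (Subgroup.zpowers c).index = 2 := by
      have := Subgroup.card_mul_index (Subgroup.zpowers c)
      rw [hcardP, hc] at this
      omega
    have hN : (Subgroup.zpowers c).Normal := Subgroup.normal_of_index_eq_two hidxP
    have hpP : IsPGroup 3 (Subgroup.zpowers c) := IsPGroup.of_card (n := 1) (by rw [hcardP]; rfl)
    have hmod := hpP.card_modEq_card_fixedPoints Ω
    rw [Nat.card_eq_fintype_card, hn] at hmod
    have hle : Nat.card (MulAction.fixedPoints (Subgroup.zpowers c) Ω) ≤ 4 := by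
      have h0 : Nat.card (MulAction.fixedPoints (Subgroup.zpowers c) Ω) ≤ Nat.card Ω :=
        Finite.card_subtype_le (fun x : Ω => x ∈ MulAction.fixedPoints (Subgroup.zpowers c) Ω)
      rw [Nat.card_eq_fintype_card (α := Ω), hn] at h0
      exact h0
    have hne4 : Nat.card (MulAction.fixedPoints (Subgroup.zpowers c) Ω) ≠ 4 := by
      intro h4
      have hall : ∀ x : Ω, x ∈ MulAction.fixedPoints (Subgroup.zpowers c) Ω := by
        by_contra hex
        push_neg at hex
        obtain ⟨x, hx⟩ := hex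
        have h0 : Nat.card (MulAction.fixedPoints (Subgroup.zpowers c) Ω) < Nat.card Ω :=
          Finite.card_subtype_lt
            (p := fun x : Ω => x ∈ MulAction.fixedPoints (Subgroup.zpowers c) Ω) hx
        rw [Nat.card_eq_fintype_card (α := Ω), hn] at h0
        omega
      have hc1 : c = 1 := by
        apply Subtype.ext
        apply Equiv.ext
        intro x
        exact hall x ⟨c, Subgroup.mem_zpowers c⟩
      rw [hc1, orderOf_one] at hc3
      omega
    have hone : Nat.card (MulAction.fixedPoints (Subgroup.zpowers c) Ω) = 1 := by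
      have h3 : Nat.card (MulAction.fixedPoints (Subgroup.zpowers c) Ω) % 3 = 1 := by
        have := hmod
        unfold Nat.ModEq at this
        omega
      omega
    rw [Nat.card_eq_one_iff_unique] at hone
    obtain ⟨hsub, ⟨⟨d, hd⟩⟩⟩ := hone
    refine ⟨d, fun h hh => ?_⟩
    have hmem : h d ∈ MulAction.fixedPoints (Subgroup.zpowers c) Ω := by
      intro p
      have hq : (⟨h, hh⟩ : H)⁻¹ * (p : H) * (⟨h, hh⟩ : H)⁻¹⁻¹ ∈ Subgroup.zpowers c :=
        hN.conj_mem _ p.2 _
      have hq' := hd ⟨_, hq⟩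
      have e : ((⟨h, hh⟩ : H)⁻¹ * (p : H) * (⟨h, hh⟩ : H)⁻¹⁻¹ : H) • d
          = h⁻¹ (((p : H) : Perm Ω) (h d)) := rfl
      have hq'' : h⁻¹ (((p : H) : Perm Ω) (h d)) = d := e ▸ hq'
      have := congrArg h hq''
      rw [app_inv] at this
      exact this
    have := hsub.elim ⟨h d, hmem⟩ ⟨d, hd⟩
    exact congrArg Subtype.val this


/-- Let Ω be a finite set whose size n is not 6. Then every subgroup of the symmetric group on Ω of index n is the stabilizer of a point. -/
theorem result {Ω : Type*} [Fintype Ω] [DecidableEq Ω] (h6 : Fintype.card Ω ≠ 6)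
    (H : Subgroup (Equiv.Perm Ω)) (hH : H.index = Fintype.card Ω) :
    ∃ x : Ω, H = MulAction.stabilizer (Equiv.Perm Ω) x := by
  suffices h : ∃ x : Ω, ∀ h ∈ H, h x = x by
    obtain ⟨x, hx⟩ := h
    exact ⟨x, fix_imp_eq H hH x hx⟩
  rcases Nat.lt_or_ge (Fintype.card Ω) 5 with hlt | h5
  · exact small_case H hH hlt
  · exact main_case h6 H hH h5

end Cfsg.Agent.S5911
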