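import Mathlib
import Cfsg.Statements.S2119
import Cfsg.Agent.S5911
-- import your own Cfsg.Agent.* helpers here

set_option autoImplicit false
open Cfsg

namespace Cfsg.Agent.S2119


open Equiv Equiv.Perm

section tc
variable {Y : Type*} [DecidableEq Y]

/-- `x` is the three-cycle `a → b → c → a`. -/
def IsTC (x : Perm Y) (a b c : Y) : Prop :=
  a ≠ b ∧ b ≠ c ∧ a ≠ c ∧ x a = b ∧ x b = c ∧ x c = a ∧ ∀ t, t ≠ a → t ≠ b → t ≠ c → x t = t

theorem tc_unique {x y : Perm Y} {a b c : Y} (hx : IsTC x a b c) (hy : IsTC y a b c) : x = y := by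
  obtain ⟨-, -, -, xa, xb, xc, xo⟩ := hx
  obtain ⟨-, -, -, ya, yb, yc, yo⟩ := hy
  ext t
  by_cases ha : t = a
  · rw [ha, xa, ya]
  by_cases hb : t = b
  · rw [hb, xb, yb]
  by_cases hc : t = c
  · rw [hc, xc, yc]
  rw [xo t ha hb hc, yo t ha hb hc]

theorem tc_inv {x : Perm Y} {a b c : Y} (hx : IsTC x a b c) : IsTC x⁻¹ a c b := by
  obtain ⟨hab, hbc, hac, xa, xb, xc, xo⟩ := hx
  refine ⟨hac, hbc.symm, hab, ?_, ?_, ?_, ?_⟩
  · rw [Perm.inv_eq_iff_eq]; exact xc.symm
  · rw [Perm.inv_eq_iff_eq]; exact xb.symm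
  · rw [Perm.inv_eq_iff_eq]; exact xa.symm
  · intro t h1 h2 h3
    rw [Perm.inv_eq_iff_eq]; exact (xo t h1 h3 h2).symm

theorem tc_conj {x : Perm Y} {a b c : Y} (g : Perm Y) (hx : IsTC x a b c) :
    IsTC (g * x * g⁻¹) (g a) (g b) (g c) := by
  obtain ⟨hab, hbc, hac, xa, xb, xc, xo⟩ := hx
  have key : ∀ t, (g * x * g⁻¹) (g t) = g (x t) := by
    intro t; simp [Perm.mul_apply]
  refine ⟨fun h => hab (g.injective h), fun h => hbc (g.injective h),
    fun h => hac (g.injective h), ?_, ?_, ?_, ?_⟩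
  · rw [key, xa]
  · rw [key, xb]
  · rw [key, xc]
  · intro t h1 h2 h3
    have e : g (g⁻¹ t) = t := S5911.app_inv g t
    have k1 : g⁻¹ t ≠ a := fun h => h1 (by rw [← e, h])
    have k2 : g⁻¹ t ≠ b := fun h => h2 (by rw [← e, h])
    have k3 : g⁻¹ t ≠ c := fun h => h3 (by rw [← e, h])
    calc (g * x * g⁻¹) t = g (x (g⁻¹ t)) := rfl
      _ = g (g⁻¹ t) := by rw [xo _ k1 k2 k3]
      _ = t := e

theorem tc_swap {a b c : Y} (hab : a ≠ b) (hbc : b ≠ c) (hac : a ≠ c) :
    IsTC (swap a c * swap a b) a b c := by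
  refine ⟨hab, hbc, hac, ?_, ?_, ?_, ?_⟩
  · rw [Perm.mul_apply, swap_apply_left, swap_apply_of_ne_of_ne hab.symm hbc]
  · rw [Perm.mul_apply, swap_apply_right, swap_apply_left]
  · rw [Perm.mul_apply, swap_apply_of_ne_of_ne hac.symm hbc.symm, swap_apply_right]
  · intro t h1 h2 h3
    rw [Perm.mul_apply, swap_apply_of_ne_of_ne h1 h2, swap_apply_of_ne_of_ne h1 h3]

theorem tc_three [Fintype Y] {x : Perm Y} {a b c : Y} (hx : IsTC x a b c) : x.IsThreeCycle := by
  have h := tc_unique hx (tc_swap hx.1 hx.2.1 hx.2.2.1)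
  rw [h]
  exact isThreeCycle_swap_mul_swap_same hx.2.2.1 hx.1 hx.2.1.symm

theorem tc_of_three [Fintype Y] {x : Perm Y} (hx : x.IsThreeCycle) {s : Y} (hs : x s ≠ s) :
    IsTC x s (x s) (x (x s)) := by
  have h3 : x (x (x s)) = s := by
    have h4 : x ^ 3 = 1 := by rw [← hx.orderOf]; exact pow_orderOf_eq_one x
    have h5 := congrArg (fun p : Perm Y => p s) h4
    simpa [pow_succ, Perm.mul_apply] using h5
  have d1 : s ≠ x s := fun h => hs h.symm
  have d2 : x s ≠ x (x s) := fun h => d1 (x.injective h)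
  have d3 : s ≠ x (x s) := by
    intro h
    have h6 : x s = x (x (x s)) := congrArg x h
    exact hs (h6.trans h3)
  refine ⟨d1, d2, d3, rfl, rfl, h3, ?_⟩
  intro t h1 h2 h3'
  by_contra ht
  have hsub : ({s, x s, x (x s), t} : Finset Y) ⊆ x.support := by
    intro u hu
    simp only [Finset.mem_insert, Finset.mem_singleton] at hu
    rw [Perm.mem_support]
    rcases hu with h | h | h | h <;> rw [h]
    · exact hs
    · exact fun h => d2 h.symm
    · rw [h3]; exact d3
    · exact ht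
  have n1 : s ∉ ({x s, x (x s), t} : Finset Y) := by
    simp only [Finset.mem_insert, Finset.mem_singleton, not_or]
    exact ⟨d1, d3, fun h => h1 h.symm⟩
  have n2 : x s ∉ ({x (x s), t} : Finset Y) := by
    simp only [Finset.mem_insert, Finset.mem_singleton, not_or]
    exact ⟨d2, fun h => h2 h.symm⟩
  have n3 : x (x s) ∉ ({t} : Finset Y) := by
    simp only [Finset.mem_singleton]; exact fun h => h3' h.symm
  have hcard : ({s, x s, x (x s), t} : Finset Y).card = 4 := by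
    rw [Finset.card_insert_of_notMem n1, Finset.card_insert_of_notMem n2,
      Finset.card_insert_of_notMem n3, Finset.card_singleton]
  have h7 := Finset.card_le_card hsub
  rw [hcard, hx.card_support] at h7
  omega

theorem shared_arc [Fintype Y] {x y : Perm Y} (hx : x.IsThreeCycle) (hy : y.IsThreeCycle)
    (h2 : x * y * (x * y) = 1) (h1 : x * y ≠ 1) : ∃ u, x u ≠ u ∧ y u = x u := by
  have hex : ∃ s, x (y s) ≠ s := by
    by_contra hcon
    push_neg at hcon
    apply h1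
    ext s
    exact hcon s
  obtain ⟨s, hs⟩ := hex
  have ht : x (y (x (y s))) = s := by
    have h5 := congrArg (fun p : Perm Y => p s) h2
    simpa [Perm.mul_apply] using h5
  by_cases hys : y s = s
  · rw [hys] at hs ht
    have htc := tc_of_three hx hs
    refine ⟨x s, fun h => htc.2.1 h.symm, ?_⟩
    apply x.injective
    rw [ht, htc.2.2.2.2.2.1]
  by_cases hyt : y (x (y s)) = x (y s)
  · rw [hyt] at ht
    have htm : x (x (y s)) ≠ x (y s) := by rw [ht]; exact fun h => hs h.symm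
    have htc := tc_of_three hx htm
    rw [ht] at htc
    refine ⟨s, fun h => htc.2.1 h.symm, ?_⟩
    apply x.injective
    exact htc.2.2.2.2.2.1.symm
  · obtain ⟨e1, e2, e3, -, -, e6, e7⟩ := tc_of_three hy hys
    by_cases c1 : x (y s) = y s
    · rw [c1] at ht
      refine ⟨y (y s), ?_, ?_⟩
      · rw [ht]; exact e3
      · rw [ht]; exact e6
    · have c2 : x (y s) = y (y s) := by
        by_contra c2
        exact hyt (e7 _ hs c1 c2)
      refine ⟨y s, ?_, c2.symm⟩
      rw [c2]; exact fun h => e2 h.symm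

theorem clique [Fintype Y] {y₃ y₄ y : Perm Y} {a b c d : Y} (h3 : IsTC y₃ a b c)
    (h4 : IsTC y₄ a b d) (hcd : c ≠ d) (hy : y.IsThreeCycle)
    (s3 : ∃ u, y₃ u ≠ u ∧ y u = y₃ u) (s4 : ∃ v, y₄ v ≠ v ∧ y v = y₄ v) : y a = b := by
  obtain ⟨hab, hbc, hac, p1, p2, p3, p4⟩ := h3
  obtain ⟨-, hbd, had, q1, q2, q3, q4⟩ := h4
  obtain ⟨u, hu, hyu⟩ := s3
  obtain ⟨v, hv, hyv⟩ := s4
  by_cases ua : u = a
  · rw [ua, p1] at hyu; exact hyu
  by_cases va : v = a
  · rw [va, q1] at hyv; exact hyv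
  exfalso
  have ubc : u = b ∨ u = c := by
    by_contra h; push_neg at h
    exact hu (p4 u ua h.1 h.2)
  have vbd : v = b ∨ v = d := by
    by_contra h; push_neg at h
    exact hv (q4 v va h.1 h.2)
  rcases ubc with hub | huc
  · rw [hub, p2] at hyu
    rcases vbd with hvb | hvd
    · rw [hvb, q2] at hyv
      exact hcd (hyu.symm.trans hyv)
    · rw [hvd, q3] at hyv
      have hb : y b ≠ b := by rw [hyu]; exact fun h => hbc h.symm
      have htc := tc_of_three hy hb
      rw [hyu] at htc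
      obtain ⟨-, -, -, -, -, r6, r7⟩ := htc
      by_cases hdc : d = y c
      · rw [hdc, r6] at hyv; exact hab hyv.symm
      · have h9 := r7 d (fun h => hbd h.symm) (fun h => hcd h.symm) hdc
        rw [hyv] at h9; exact had h9
  · rw [huc, p3] at hyu
    rcases vbd with hvb | hvd
    · rw [hvb, q2] at hyv
      have hb : y b ≠ b := by rw [hyv]; exact fun h => hbd h.symm
      have htc := tc_of_three hy hb
      rw [hyv] at htc
      obtain ⟨-, -, -, -, -, r6, r7⟩ := htc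
      by_cases hcd' : c = y d
      · rw [hcd', r6] at hyu; exact hab hyu.symm
      · have h9 := r7 c (fun h => hbc h.symm) hcd hcd'
        rw [hyu] at h9; exact hac h9
    · rw [hvd, q3] at hyv
      exact hcd (y.injective (hyu.trans hyv.symm))

theorem gen [Fintype Y] {o₁ o₂ : Y} (h12 : o₁ ≠ o₂) (M : Subgroup (Perm Y))
    (hM : ∀ i, i ≠ o₁ → i ≠ o₂ → swap o₁ i * swap o₁ o₂ ∈ M) : alternatingGroup Y ≤ M := by
  rw [← closure_three_cycles_eq_alternating, Subgroup.closure_le]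
  intro z hz
  have hz3 : z.IsThreeCycle := hz
  have hx : ∀ i, i ≠ o₁ → i ≠ o₂ → IsTC (swap o₁ i * swap o₁ o₂) o₁ o₂ i :=
    fun i h1 h2 => tc_swap h12 (Ne.symm h2) (Ne.symm h1)
  have case1 : ∀ v w, v ≠ o₁ → v ≠ o₂ → w ≠ o₁ → w ≠ o₂ → v ≠ w →
      ∀ z', IsTC z' o₁ v w → z' ∈ M := by
    intro v w hv1 hv2 hw1 hw2 hvw z' hz'
    have e : z' = (swap o₁ w * swap o₁ o₂) * (swap o₁ v * swap o₁ o₂)⁻¹ := by
      apply tc_unique hz'
      obtain ⟨-, -, -, a1, a2, a3, a4⟩ := hx w hw1 hw2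
      obtain ⟨-, -, -, b1, b2, b3, b4⟩ := tc_inv (hx v hv1 hv2)
      refine ⟨Ne.symm hv1, hvw, Ne.symm hw1, ?_, ?_, ?_, ?_⟩
      · rw [Perm.mul_apply, b1, a4 v hv1 hv2 hvw]
      · rw [Perm.mul_apply, b2, a2]
      · rw [Perm.mul_apply, b4 w hw1 (Ne.symm hvw) hw2, a3]
      · intro t t1 t2 t3
        rw [Perm.mul_apply]
        by_cases t4 : t = o₂
        · rw [t4, b3, a1]
        · rw [b4 t t1 t2 t4, a4 t t1 t4 t3]
    rw [e]
    exact M.mul_mem (hM w hw1 hw2) (M.inv_mem (hM v hv1 hv2))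
  have case2 : ∀ v w, v ≠ o₁ → v ≠ o₂ → w ≠ o₁ → w ≠ o₂ → v ≠ w →
      ∀ z', IsTC z' o₂ v w → z' ∈ M := by
    intro v w hv1 hv2 hw1 hw2 hvw z' hz'
    have e : z' = (swap o₁ w * swap o₁ o₂)⁻¹ * (swap o₁ v * swap o₁ o₂) := by
      apply tc_unique hz'
      obtain ⟨-, -, -, c1, c2, c3, c4⟩ := hx v hv1 hv2
      obtain ⟨-, -, -, d1, d2, d3, d4⟩ := tc_inv (hx w hw1 hw2)
      refine ⟨Ne.symm hv2, hvw, Ne.symm hw2, ?_, ?_, ?_, ?_⟩
      · rw [Perm.mul_apply, c2, d4 v hv1 hvw hv2]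
      · rw [Perm.mul_apply, c3, d1]
      · rw [Perm.mul_apply, c4 w hw1 hw2 (Ne.symm hvw), d2]
      · intro t t1 t2 t3
        rw [Perm.mul_apply]
        by_cases t4 : t = o₁
        · rw [t4, c1, d3]
        · rw [c4 t t4 t1 t2, d4 t t4 t3 t1]
    rw [e]
    exact M.mul_mem (M.inv_mem (hM w hw1 hw2)) (hM v hv1 hv2)
  by_cases m1 : z o₁ = o₁
  · by_cases m2 : z o₂ = o₂
    · -- neither base point is moved
      have hne : z.support.Nonempty := by
        rw [← Finset.card_pos, hz3.card_support]; norm_num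
      obtain ⟨u, hu⟩ := hne
      rw [Perm.mem_support] at hu
      have htc := tc_of_three hz3 hu
      have u1 : u ≠ o₁ := fun h => hu (by rw [h]; exact m1)
      have u2 : u ≠ o₂ := fun h => hu (by rw [h]; exact m2)
      have v1 : z u ≠ o₁ := fun h => htc.2.1 (by rw [h, m1])
      have v2 : z u ≠ o₂ := fun h => htc.2.1 (by rw [h, m2])
      have w1 : z (z u) ≠ o₁ := by
        intro h
        have e := htc.2.2.2.2.2.1
        rw [h, m1] at e
        exact u1 e.symm
      have w2 : z (z u) ≠ o₂ := by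
        intro h
        have e := htc.2.2.2.2.2.1
        rw [h, m2] at e
        exact u2 e.symm
      have hz1 := tc_swap (a := o₁) (b := u) (c := z u) (Ne.symm u1) htc.1 (Ne.symm v1)
      have hz2 := tc_swap (a := o₁) (b := z u) (c := z (z u)) (Ne.symm v1) htc.2.1 (Ne.symm w1)
      have m1' := case1 u (z u) u1 u2 v1 v2 htc.1 _ hz1
      have m2' := case1 (z u) (z (z u)) v1 v2 w1 w2 htc.2.1 _ hz2
      have e : z = (swap o₁ (z u) * swap o₁ u) * (swap o₁ (z (z u)) * swap o₁ (z u)) := by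
        apply tc_unique htc
        obtain ⟨-, -, -, f1, f2, f3, f4⟩ := hz1
        obtain ⟨-, -, -, g1, g2, g3, g4⟩ := hz2
        refine ⟨htc.1, htc.2.1, htc.2.2.1, ?_, ?_, ?_, ?_⟩
        · rw [Perm.mul_apply, g4 u u1 htc.1 htc.2.2.1, f2]
        · rw [Perm.mul_apply, g2, f4 _ w1 (Ne.symm htc.2.2.1) (Ne.symm htc.2.1)]
        · rw [Perm.mul_apply, g3, f1]
        · intro t t1 t2 t3
          rw [Perm.mul_apply]
          by_cases t4 : t = o₁
          · rw [t4, g1, f3]
          · rw [g4 t t4 t2 t3, f4 t t4 t1 t2]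
      rw [e]
      exact M.mul_mem m1' m2'
    · have htc := tc_of_three hz3 m2
      have hv1 : z o₂ ≠ o₁ := fun h => htc.2.1 (by rw [h, m1])
      have hw1 : z (z o₂) ≠ o₁ := by
        intro h
        have e := htc.2.2.2.2.2.1
        rw [h, m1] at e
        exact h12 e
      exact case2 (z o₂) (z (z o₂)) hv1 (Ne.symm htc.1) hw1 (Ne.symm htc.2.2.1) htc.2.1 z htc
  · have htc := tc_of_three hz3 m1
    by_cases hv2 : z o₁ = o₂
    · rw [hv2] at htc
      have e := tc_unique htc (hx (z o₂) (Ne.symm htc.2.2.1) (Ne.symm htc.2.1))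
      rw [e]
      exact hM _ (Ne.symm htc.2.2.1) (Ne.symm htc.2.1)
    · by_cases hw2 : z (z o₁) = o₂
      · rw [hw2] at htc
        have e := tc_unique htc (tc_inv (hx (z o₁) m1 hv2))
        rw [e]
        exact M.inv_mem (hM _ m1 hv2)
      · exact case1 (z o₁) (z (z o₁)) m1 hv2 (Ne.symm htc.2.2.1) hw2 htc.2.1 z htc

theorem prod_eq {o₁ o₂ i j : Y} (j1 : j ≠ o₁) (j2 : j ≠ o₂) :
    swap o₁ i * swap o₁ o₂ * (swap o₁ j * swap o₁ o₂) = swap o₁ i * swap o₂ j := by
  have e := Equiv.swap_apply_apply (swap o₁ o₂) o₁ j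
  rw [swap_apply_left, swap_apply_of_ne_of_ne j1 j2, swap_inv] at e
  rw [e]; simp only [mul_assoc]

theorem prod_sq {o₁ o₂ i j : Y} (h12 : o₁ ≠ o₂) (i2 : i ≠ o₂) (j1 : j ≠ o₁)
    (j2 : j ≠ o₂) (hij : i ≠ j) :
    swap o₁ i * swap o₁ o₂ * (swap o₁ j * swap o₁ o₂) *
      (swap o₁ i * swap o₁ o₂ * (swap o₁ j * swap o₁ o₂)) = 1 := by
  rw [prod_eq j1 j2]
  have hc := S5911.swap_comm_of_disjoint (a := o₁) (b := i) (c := o₂) (d := j)
    (Ne.symm h12) (Ne.symm i2) j1 (Ne.symm hij)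
  calc swap o₁ i * swap o₂ j * (swap o₁ i * swap o₂ j)
      = swap o₁ i * swap o₂ j * (swap o₂ j * swap o₁ i) := by rw [← hc]
    _ = swap o₁ i * (swap o₂ j * swap o₂ j) * swap o₁ i := by simp only [mul_assoc]
    _ = 1 := by rw [swap_mul_self, mul_one, swap_mul_self]

theorem prod_ne {o₁ o₂ i j : Y} (h12 : o₁ ≠ o₂) (i1 : i ≠ o₁) (j1 : j ≠ o₁) (j2 : j ≠ o₂) :
    swap o₁ i * swap o₁ o₂ * (swap o₁ j * swap o₁ o₂) ≠ 1 := by
  rw [prod_eq j1 j2]
  intro h
  have h5 := Perm.congr_fun h o₁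
  rw [Perm.mul_apply, swap_apply_of_ne_of_ne h12 (Ne.symm j1), swap_apply_left,
    Perm.one_apply] at h5
  exact i1 h5

end tc

section cent
variable {n : ℕ}

theorem card_cent_rep (x : Perm (Fin n)) (k : ℕ) (hk : 1 ≤ k)
    (hx : x.cycleType = Multiset.replicate k 3) :
    Nat.card (Subgroup.centralizer ({x} : Set (Perm (Fin n)))) =
      (n - 3 * k).factorial * 3 ^ k * k.factorial := by
  have h1 : (Multiset.replicate k 3).toFinset = {3} := by
    ext a
    rw [Multiset.mem_toFinset, Multiset.mem_replicate, Finset.mem_singleton]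
    constructor
    · exact fun h => h.2
    · exact fun h => ⟨by omega, h⟩
  rw [nat_card_centralizer, hx, Multiset.sum_replicate, Multiset.prod_replicate,
    Fintype.card_fin, h1, Finset.prod_singleton, Multiset.count_replicate_self, smul_eq_mul,
    mul_comm k 3]

theorem cent_A (x : alternatingGroup (Fin n)) :
    Nat.card (Subgroup.centralizer ({x} : Set (alternatingGroup (Fin n)))) =
      Nat.card ((Subgroup.centralizer ({(x : Perm (Fin n))} : Set (Perm (Fin n))) ⊓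
        alternatingGroup (Fin n) : Subgroup (Perm (Fin n)))) := by
  have h1 : Subgroup.centralizer ({x} : Set (alternatingGroup (Fin n))) =
      (Subgroup.centralizer ({(x : Perm (Fin n))} : Set (Perm (Fin n))) ⊓
        alternatingGroup (Fin n)).subgroupOf (alternatingGroup (Fin n)) := by
    ext a
    rw [Subgroup.mem_subgroupOf, Subgroup.mem_inf, Subgroup.mem_centralizer_iff,
      Subgroup.mem_centralizer_iff]
    constructor
    · intro h
      refine ⟨?_, a.2⟩
      intro y hy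
      rw [Set.mem_singleton_iff] at hy
      rw [hy]
      exact congrArg Subtype.val (h x (Set.mem_singleton x))
    · rintro ⟨h, -⟩ y hy
      rw [Set.mem_singleton_iff] at hy
      rw [hy]
      exact Subtype.ext (h _ (Set.mem_singleton _))
  rw [h1]
  exact Nat.card_congr (Subgroup.subgroupOfEquivOfLe inf_le_right).toEquiv

theorem card_inf_alt (hn : 2 ≤ n) (H : Subgroup (Perm (Fin n))) :
    Nat.card H = Nat.card (H ⊓ alternatingGroup (Fin n) : Subgroup (Perm (Fin n))) ∨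
    Nat.card H = 2 * Nat.card (H ⊓ alternatingGroup (Fin n) : Subgroup (Perm (Fin n))) := by
  have hnt : Nontrivial (Fin n) := Fin.nontrivial_iff_two_le.mpr hn
  have h1 : (alternatingGroup (Fin n)).relIndex H ∣ 2 := by
    rw [← alternatingGroup.index_eq_two (α := Fin n)]
    exact Subgroup.relIndex_dvd_index_of_normal _ _
  have h2 : (alternatingGroup (Fin n)).relIndex H *
      Nat.card (H ⊓ alternatingGroup (Fin n) : Subgroup (Perm (Fin n))) = Nat.card H := by
    have h3 := Subgroup.index_mul_card ((alternatingGroup (Fin n)).subgroupOf H)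
    have h4 : Nat.card ((alternatingGroup (Fin n)).subgroupOf H) =
        Nat.card (H ⊓ alternatingGroup (Fin n) : Subgroup (Perm (Fin n))) := by
      rw [← Subgroup.inf_subgroupOf_right, inf_comm]
      exact Nat.card_congr (Subgroup.subgroupOfEquivOfLe inf_le_left).toEquiv
    rw [h4] at h3
    exact h3
  have h5 : (alternatingGroup (Fin n)).relIndex H = 1 ∨
      (alternatingGroup (Fin n)).relIndex H = 2 := by
    have h6 := Nat.le_of_dvd (by norm_num) h1
    have h0 : (alternatingGroup (Fin n)).relIndex H ≠ 0 := by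
      intro h; rw [h] at h1; simp at h1
    omega
  rcases h5 with h | h
  · left; rw [← h2, h, one_mul]
  · right; rw [← h2, h]

theorem fact_step (k m : ℕ) (hk : 2 ≤ k)
    (h : 2 * 3 ^ (k - 1) * k.factorial * m.factorial < (m + 3 * k - 3).factorial) :
    2 * 3 ^ (k + 1 - 1) * (k + 1).factorial * m.factorial <
      (m + 3 * (k + 1) - 3).factorial := by
  obtain ⟨j, hj⟩ : ∃ j, m + 3 * k - 3 = j := ⟨_, rfl⟩
  have hj' : m + 3 * (k + 1) - 3 = j + 2 + 1 := by omega
  rw [hj] at h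
  rw [hj', Nat.factorial_succ (j + 2), Nat.factorial_succ (j + 1), Nat.factorial_succ j,
    Nat.factorial_succ k, Nat.add_sub_cancel]
  have h3 : 3 ^ k = 3 * 3 ^ (k - 1) := by
    rw [← pow_succ']; congr 1; omega
  rw [h3]
  have hj3 : 3 * (k + 1) ≤ (j + 2 + 1) * ((j + 1 + 1) * (j + 1)) := by
    have h1 : 2 ≤ (j + 1 + 1) * (j + 1) := by
      calc 2 = 2 * 1 := rfl
        _ ≤ (j + 1 + 1) * (j + 1) := Nat.mul_le_mul (by omega) (by omega)
    calc 3 * (k + 1) ≤ (j + 2 + 1) * 2 := by omega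
      _ ≤ (j + 2 + 1) * ((j + 1 + 1) * (j + 1)) := Nat.mul_le_mul_left _ h1
  calc 2 * (3 * 3 ^ (k - 1)) * ((k + 1) * k.factorial) * m.factorial
      = 3 * (k + 1) * (2 * 3 ^ (k - 1) * k.factorial * m.factorial) := by ring
    _ < 3 * (k + 1) * j.factorial := (Nat.mul_lt_mul_left (by omega)).mpr h
    _ ≤ (j + 2 + 1) * ((j + 1 + 1) * (j + 1)) * j.factorial := Nat.mul_le_mul_right _ hj3
    _ = (j + 2 + 1) * ((j + 1 + 1) * ((j + 1) * j.factorial)) := by ring

theorem fact_ineq (k m : ℕ) (hk : 2 ≤ k) (hkm : k = 2 → 1 ≤ m) :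
    2 * 3 ^ (k - 1) * k.factorial * m.factorial < (m + 3 * k - 3).factorial := by
  by_cases hm : 1 ≤ m
  · clear hkm
    induction k, hk using Nat.le_induction with
    | base =>
      show 2 * 3 ^ 1 * (2 : ℕ).factorial * m.factorial < (m + 3 * 2 - 3).factorial
      have e : m + 3 * 2 - 3 = m + 2 + 1 := by omega
      rw [e, Nat.factorial_succ (m + 2), Nat.factorial_succ (m + 1), Nat.factorial_succ m]
      have h1 : 24 ≤ (m + 2 + 1) * ((m + 1 + 1) * (m + 1)) := by
        calc 24 = 4 * (3 * 2) := rfl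
          _ ≤ (m + 2 + 1) * ((m + 1 + 1) * (m + 1)) :=
            Nat.mul_le_mul (by omega) (Nat.mul_le_mul (by omega) (by omega))
      have hpos : 0 < m.factorial := Nat.factorial_pos m
      have e2 : 2 * 3 ^ 1 * (2 : ℕ).factorial = 12 := by decide
      rw [e2]
      calc 12 * m.factorial < 24 * m.factorial := by omega
        _ ≤ (m + 2 + 1) * ((m + 1 + 1) * (m + 1)) * m.factorial := Nat.mul_le_mul_right _ h1
        _ = (m + 2 + 1) * ((m + 1 + 1) * ((m + 1) * m.factorial)) := by ring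
    | succ k hk ih => exact fact_step k m hk ih
  · have hm0 : m = 0 := by omega
    subst hm0
    have hk3 : 3 ≤ k := by
      by_contra h
      have h2 : k = 2 := by omega
      have h3 := hkm h2
      omega
    clear hkm hk
    induction k, hk3 using Nat.le_induction with
    | base => decide
    | succ k hk ih => exact fact_step k 0 (by omega) ih

theorem map_three (hn : 4 ≤ n) (h6 : n ≠ 6) (φ : MulAut (alternatingGroup (Fin n)))
    (x : alternatingGroup (Fin n)) (hx : (x : Perm (Fin n)).IsThreeCycle) :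
    ((φ x : alternatingGroup (Fin n)) : Perm (Fin n)).IsThreeCycle := by
  have ho : orderOf ((φ x : alternatingGroup (Fin n)) : Perm (Fin n)) = 3 := by
    have h1 := MulEquiv.orderOf_eq φ x
    rw [Subgroup.orderOf_coe, h1, ← Subgroup.orderOf_coe, hx.orderOf]
  obtain ⟨j, hj⟩ := cycleType_prime_order
    (σ := ((φ x : alternatingGroup (Fin n)) : Perm (Fin n))) (by rw [ho]; exact Nat.prime_three)
  rw [ho] at hj
  by_cases hj0 : j = 0
  · rw [hj0] at hj
    show ((φ x : alternatingGroup (Fin n)) : Perm (Fin n)).cycleType = {3}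
    rw [hj]; rfl
  exfalso
  have hk : 2 ≤ j + 1 := by omega
  have hsum : 3 * (j + 1) ≤ n := by
    have h1 := sum_cycleType_le ((φ x : alternatingGroup (Fin n)) : Perm (Fin n))
    rw [hj, Multiset.sum_replicate, smul_eq_mul, Fintype.card_fin] at h1
    omega
  have hn7 : 7 ≤ n := by omega
  have c1 := card_cent_rep (x : Perm (Fin n)) 1 le_rfl
    (by rw [Multiset.replicate_one]; exact hx)
  have c2 := card_cent_rep ((φ x : alternatingGroup (Fin n)) : Perm (Fin n)) (j + 1)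
    (by omega) hj
  have hinv : Nat.card (Subgroup.centralizer ({x} : Set (alternatingGroup (Fin n)))) =
      Nat.card (Subgroup.centralizer ({φ x} : Set (alternatingGroup (Fin n)))) := by
    apply Nat.card_congr
    refine Equiv.subtypeEquiv φ.toEquiv ?_
    intro a
    show a ∈ Subgroup.centralizer ({x} : Set (alternatingGroup (Fin n))) ↔
      φ a ∈ Subgroup.centralizer ({φ x} : Set (alternatingGroup (Fin n)))
    rw [Subgroup.mem_centralizer_iff, Subgroup.mem_centralizer_iff]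
    constructor
    · intro h y hy
      rw [Set.mem_singleton_iff] at hy
      rw [hy, ← map_mul, ← map_mul, h x (Set.mem_singleton x)]
    · intro h y hy
      rw [Set.mem_singleton_iff] at hy
      rw [hy]
      apply φ.injective
      rw [map_mul, map_mul]
      exact h (φ x) (Set.mem_singleton _)
  rw [cent_A x, cent_A (φ x)] at hinv
  have d1 := card_inf_alt (by omega : 2 ≤ n)
    (Subgroup.centralizer ({(x : Perm (Fin n))} : Set (Perm (Fin n))))
  have d2 := card_inf_alt (by omega : 2 ≤ n)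
    (Subgroup.centralizer ({((φ x : alternatingGroup (Fin n)) : Perm (Fin n))} :
      Set (Perm (Fin n))))
  have hle : Nat.card (Subgroup.centralizer ({(x : Perm (Fin n))} : Set (Perm (Fin n)))) ≤
      2 * Nat.card (Subgroup.centralizer
        ({((φ x : alternatingGroup (Fin n)) : Perm (Fin n))} : Set (Perm (Fin n)))) := by
    rcases d1 with d1 | d1 <;> rcases d2 with d2 | d2 <;> omega
  have e1 : n - 3 * (j + 1) + 3 * (j + 1) - 3 = n - 3 := by omega
  have ineq := fact_ineq (j + 1) (n - 3 * (j + 1)) hk (by intro h; omega)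
  rw [e1, Nat.add_sub_cancel] at ineq
  have e2 : (n - 3 * 1).factorial * 3 ^ 1 * Nat.factorial 1 = 3 * (n - 3).factorial := by
    rw [Nat.mul_one, pow_one, Nat.factorial_one, mul_one, mul_comm]
  have e3 : 2 * ((n - 3 * (j + 1)).factorial * 3 ^ (j + 1) * (j + 1).factorial) =
      3 * (2 * 3 ^ j * (j + 1).factorial * (n - 3 * (j + 1)).factorial) := by
    rw [pow_succ]; ring
  rw [c1, c2, e2, e3] at hle
  have h9 := (Nat.mul_lt_mul_left (by norm_num : 0 < 3)).mpr ineq
  omega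

end cent

theorem inj_aux (n : ℕ) (hn : 4 ≤ n) :
    Function.Injective
      (MulAut.conjNormal : Perm (Fin n) →* MulAut (alternatingGroup (Fin n))) := by
  rw [injective_iff_map_eq_one]
  intro g hg
  by_contra hg1
  obtain ⟨s, hs⟩ : ∃ s, g s ≠ s := by
    by_contra h; push_neg at h; exact hg1 (Perm.ext h)
  obtain ⟨y, hy⟩ := S5911.exists_notMem ({s, g s} : Finset (Fin n))
    (lt_of_le_of_lt Finset.card_le_two (by rw [Fintype.card_fin]; omega))
  obtain ⟨z, hz⟩ := S5911.exists_notMem ({s, g s, y} : Finset (Fin n))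
    (lt_of_le_of_lt Finset.card_le_three (by rw [Fintype.card_fin]; omega))
  simp only [Finset.mem_insert, Finset.mem_singleton, not_or] at hy hz
  have htc := tc_swap (a := s) (b := y) (c := z) (Ne.symm hy.1) (Ne.symm hz.2.2) (Ne.symm hz.1)
  have hcA : swap s z * swap s y ∈ alternatingGroup (Fin n) :=
    (tc_three htc).mem_alternatingGroup
  have h1 : g * (swap s z * swap s y) * g⁻¹ = swap s z * swap s y := by
    have h0 := congrArg (fun ψ : MulAut (alternatingGroup (Fin n)) =>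
      ((ψ ⟨_, hcA⟩ : alternatingGroup (Fin n)) : Perm (Fin n))) hg
    simpa using h0
  have h2 := tc_conj g htc
  rw [h1] at h2
  have h3 := h2.2.2.2.1
  rw [htc.2.2.2.2.2.2 (g s) hs (Ne.symm hy.2) (Ne.symm hz.2.1)] at h3
  exact hy.1 (g.injective h3).symm

theorem surj_aux (n : ℕ) (hn : 4 ≤ n) (h6 : n ≠ 6) (φ : MulAut (alternatingGroup (Fin n))) :
    ∃ g : Perm (Fin n), MulAut.conjNormal g = φ := by
  obtain ⟨o₁, o₂, i₃, i₄, h12, h31, h32, h41, h42, h34⟩ : ∃ o₁ o₂ i₃ i₄ : Fin n,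
      o₁ ≠ o₂ ∧ i₃ ≠ o₁ ∧ i₃ ≠ o₂ ∧ i₄ ≠ o₁ ∧ i₄ ≠ o₂ ∧ i₃ ≠ i₄ :=
    ⟨⟨0, by omega⟩, ⟨1, by omega⟩, ⟨2, by omega⟩, ⟨3, by omega⟩, by simp [Fin.ext_iff]⟩
  have hxtc : ∀ i, i ≠ o₁ → i ≠ o₂ → IsTC (swap o₁ i * swap o₁ o₂) o₁ o₂ i :=
    fun i h1 h2 => tc_swap h12 (Ne.symm h2) (Ne.symm h1)
  have hxA : ∀ i, i ≠ o₁ → i ≠ o₂ → swap o₁ i * swap o₁ o₂ ∈ alternatingGroup (Fin n) :=
    fun i h1 h2 => (tc_three (hxtc i h1 h2)).mem_alternatingGroup
  obtain ⟨Yf, hYf⟩ : ∃ Yf : Fin n → Perm (Fin n), ∀ i (h1 : i ≠ o₁) (h2 : i ≠ o₂),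
      Yf i = ((φ ⟨_, hxA i h1 h2⟩ : alternatingGroup (Fin n)) : Perm (Fin n)) :=
    ⟨fun i => if h : i ≠ o₁ ∧ i ≠ o₂ then
      ((φ ⟨_, hxA i h.1 h.2⟩ : alternatingGroup (Fin n)) : Perm (Fin n)) else 1,
      fun i h1 h2 => dif_pos ⟨h1, h2⟩⟩
  have hY3 : ∀ i, i ≠ o₁ → i ≠ o₂ → (Yf i).IsThreeCycle := by
    intro i h1 h2
    rw [hYf i h1 h2]
    exact map_three hn h6 φ _ (tc_three (hxtc i h1 h2))
  have hshare : ∀ i j, i ≠ o₁ → i ≠ o₂ → j ≠ o₁ → j ≠ o₂ → i ≠ j →
      ∃ u, Yf i u ≠ u ∧ Yf j u = Yf i u := by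
    intro i j i1 i2 j1 j2 hij
    apply shared_arc (hY3 i i1 i2) (hY3 j j1 j2)
    · rw [hYf i i1 i2, hYf j j1 j2]
      have e : (⟨_, hxA i i1 i2⟩ : alternatingGroup (Fin n)) * ⟨_, hxA j j1 j2⟩ *
          (⟨_, hxA i i1 i2⟩ * ⟨_, hxA j j1 j2⟩) = 1 :=
        Subtype.ext (prod_sq h12 i2 j1 j2 hij)
      have e2 : φ ((⟨_, hxA i i1 i2⟩ : alternatingGroup (Fin n)) * ⟨_, hxA j j1 j2⟩ *
          (⟨_, hxA i i1 i2⟩ * ⟨_, hxA j j1 j2⟩)) = 1 := by rw [e, map_one]
      simp only [map_mul] at e2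
      exact congrArg Subtype.val e2
    · rw [hYf i i1 i2, hYf j j1 j2]
      intro h
      have h5 : φ ((⟨_, hxA i i1 i2⟩ : alternatingGroup (Fin n)) * ⟨_, hxA j j1 j2⟩) = 1 := by
        apply Subtype.ext
        rw [map_mul]
        exact h
      have h6' := (MulEquiv.map_eq_one_iff φ).mp h5
      exact prod_ne h12 i1 j1 j2 (congrArg Subtype.val h6')
  have hYinj : ∀ i j, i ≠ o₁ → i ≠ o₂ → j ≠ o₁ → j ≠ o₂ → Yf i = Yf j → i = j := by
    intro i j i1 i2 j1 j2 h
    rw [hYf i i1 i2, hYf j j1 j2] at h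
    have h' := φ.injective (Subtype.ext h)
    have h'' : swap o₁ i * swap o₁ o₂ = swap o₁ j * swap o₁ o₂ := congrArg Subtype.val h'
    calc i = (swap o₁ i * swap o₁ o₂) o₂ := ((hxtc i i1 i2).2.2.2.2.1).symm
      _ = (swap o₁ j * swap o₁ o₂) o₂ := by rw [h'']
      _ = j := (hxtc j j1 j2).2.2.2.2.1
  obtain ⟨a, ha34, ha_eq⟩ := hshare i₃ i₄ h31 h32 h41 h42 h34
  obtain ⟨b, hb⟩ : ∃ b, Yf i₃ a = b := ⟨_, rfl⟩
  have t3 := tc_of_three (hY3 i₃ h31 h32) ha34
  have ha4 : Yf i₄ a ≠ a := by rw [ha_eq]; exact ha34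
  have t4 := tc_of_three (hY3 i₄ h41 h42) ha4
  rw [ha_eq] at t4
  rw [hb] at t3 t4 ha_eq
  have hcd : Yf i₃ b ≠ Yf i₄ b := by
    intro h
    rw [← h] at t4
    exact h34 (hYinj i₃ i₄ h31 h32 h41 h42 (tc_unique t3 t4))
  have harc : ∀ i, i ≠ o₁ → i ≠ o₂ → Yf i a = b := by
    intro i i1 i2
    by_cases e3 : i = i₃
    · rw [e3]; exact hb
    by_cases e4 : i = i₄
    · rw [e4]; exact ha_eq
    exact clique t3 t4 hcd (hY3 i i1 i2) (hshare i₃ i h31 h32 i1 i2 (Ne.symm e3))
      (hshare i₄ i h41 h42 i1 i2 (Ne.symm e4))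
  have hTC : ∀ i, i ≠ o₁ → i ≠ o₂ → IsTC (Yf i) a b (Yf i b) := by
    intro i i1 i2
    have hm : Yf i a ≠ a := by rw [harc i i1 i2]; exact (t3.1).symm
    have t := tc_of_three (hY3 i i1 i2) hm
    rw [harc i i1 i2] at t
    exact t
  obtain ⟨gf, hgf⟩ : ∃ gf : Fin n → Fin n, ∀ i, gf i =
      if i = o₁ then a else if i = o₂ then b else Yf i b := ⟨_, fun i => rfl⟩
  have g1 : gf o₁ = a := by rw [hgf, if_pos rfl]
  have g2 : gf o₂ = b := by rw [hgf, if_neg h12.symm, if_pos rfl]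
  have g3 : ∀ i, i ≠ o₁ → i ≠ o₂ → gf i = Yf i b := by
    intro i h1 h2; rw [hgf, if_neg h1, if_neg h2]
  have ginj : Function.Injective gf := by
    intro i j hij
    by_cases i1 : i = o₁
    · by_cases j1 : j = o₁
      · rw [i1, j1]
      · exfalso
        rw [i1, g1] at hij
        by_cases j2 : j = o₂
        · rw [j2, g2] at hij; exact t3.1 hij
        · rw [g3 j j1 j2] at hij; exact (hTC j j1 j2).2.2.1 hij
    · by_cases i2 : i = o₂
      · by_cases j1 : j = o₁
        · exfalso; rw [i2, g2, j1, g1] at hij; exact t3.1 hij.symm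
        · by_cases j2 : j = o₂
          · rw [i2, j2]
          · exfalso; rw [i2, g2, g3 j j1 j2] at hij; exact (hTC j j1 j2).2.1 hij
      · by_cases j1 : j = o₁
        · exfalso; rw [g3 i i1 i2, j1, g1] at hij; exact (hTC i i1 i2).2.2.1 hij.symm
        · by_cases j2 : j = o₂
          · exfalso; rw [g3 i i1 i2, j2, g2] at hij; exact (hTC i i1 i2).2.1 hij.symm
          · rw [g3 i i1 i2, g3 j j1 j2] at hij
            have ti := hTC i i1 i2
            have tj := hTC j j1 j2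
            rw [hij] at ti
            exact hYinj i j i1 i2 j1 j2 (tc_unique ti tj)
  obtain ⟨g, hg⟩ : ∃ g : Perm (Fin n), ∀ i, g i = gf i :=
    ⟨Equiv.ofBijective gf (Finite.injective_iff_bijective.mp ginj), fun i => rfl⟩
  refine ⟨g, ?_⟩
  have hagree : ∀ i (i1 : i ≠ o₁) (i2 : i ≠ o₂),
      g * (swap o₁ i * swap o₁ o₂) * g⁻¹ = Yf i := by
    intro i i1 i2
    have t := tc_conj g (hxtc i i1 i2)
    rw [hg, hg, hg, g1, g2, g3 i i1 i2] at t
    exact tc_unique t (hTC i i1 i2)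
  have hle := gen h12 ((MonoidHom.eqLocus
    (MulAut.conjNormal g : MulAut (alternatingGroup (Fin n))).toMonoidHom φ.toMonoidHom).map
      (alternatingGroup (Fin n)).subtype) (by
    intro i i1 i2
    refine Subgroup.mem_map.mpr ⟨⟨_, hxA i i1 i2⟩, ?_, rfl⟩
    show (MulAut.conjNormal g) ⟨_, hxA i i1 i2⟩ = φ ⟨_, hxA i i1 i2⟩
    apply Subtype.ext
    rw [MulAut.conjNormal_apply, hagree i i1 i2, hYf i i1 i2])
  refine MulEquiv.ext fun x => ?_
  obtain ⟨w, hw, hwx⟩ := Subgroup.mem_map.mp (hle x.2)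
  have hwx' : w = x := Subtype.ext hwx
  rw [← hwx']
  exact hw


/-- Automorphisms of the alternating groups: for n ≥ 4 with n ≠ 6, every automorphism of the alternating group of degree n is conjugation by a unique permutation, i.e. conjugation induces an isomorphism from the symmetric group of degree n onto the automorphism group of the alternating group (so the outer automorphism group has order 2). -/
theorem result (n : ℕ) (hn : 4 ≤ n) (h6 : n ≠ 6) : Function.Bijective (MulAut.conjNormal : Equiv.Perm (Fin n) →* MulAut ↥(alternatingGroup (Fin n))) := by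
  exact ⟨inj_aux n hn, fun φ => surj_aux n hn h6 φ⟩

end Cfsg.Agent.S2119
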