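import Mathlib
import Cfsg.Statements.S1323
import Cfsg.Agent.S2119
import Cfsg.Agent.S5911
-- import your own Cfsg.Agent.* helpers here

set_option autoImplicit false
open Cfsg

namespace Cfsg.Agent.S1323


open Equiv Equiv.Perm

section gen
variable {Y : Type*} [DecidableEq Y] [Fintype Y]

theorem two_more (p : Y → Prop) [DecidablePred p] (hc : 4 ≤ (Finset.univ.filter p).card) (x w : Y) :
    ∃ y z, p y ∧ p z ∧ y ≠ z ∧ y ≠ x ∧ y ≠ w ∧ z ≠ x ∧ z ≠ w := by
  have h1 : 1 < ((Finset.univ.filter p) \ {x, w}).card := by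
    have h2 := Finset.le_card_sdiff {x, w} (Finset.univ.filter p)
    have h3 : ({x, w} : Finset Y).card ≤ 2 := Finset.card_le_two
    omega
  obtain ⟨y, hy, z, hz, hyz⟩ := Finset.one_lt_card.mp h1
  rw [Finset.mem_sdiff, Finset.mem_filter, Finset.mem_insert, Finset.mem_singleton] at hy hz
  exact ⟨y, z, hy.1.2, hz.1.2, hyz, fun h => hy.2 (Or.inl h), fun h => hy.2 (Or.inr h),
    fun h => hz.2 (Or.inl h), fun h => hz.2 (Or.inr h)⟩

theorem tc_fix {x y z w : Y} (h1 : w ≠ x) (h2 : w ≠ y) (h3 : w ≠ z) :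
    (swap x z * swap x y) w = w := by
  rw [Perm.mul_apply, swap_apply_of_ne_of_ne h1 h2, swap_apply_of_ne_of_ne h1 h3]

theorem fix_of_comm (p : Y → Prop) [DecidablePred p] (hc : 4 ≤ (Finset.univ.filter p).card)
    (a : Perm Y)
    (ha : ∀ x y z : Y, p x → p y → p z → x ≠ y → y ≠ z → x ≠ z →
      a * (swap x z * swap x y) = (swap x z * swap x y) * a) :
    ∀ x, p x → a x = x := by
  intro x hx
  by_contra hne
  obtain ⟨y, z, hy, hz, hyz, hyx, hyw, hzx, hzw⟩ := two_more p hc x (a x)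
  have htc := S2119.tc_swap hyx.symm hyz hzx.symm
  have h1 : a ((swap x z * swap x y) x) = (swap x z * swap x y) (a x) :=
    Perm.congr_fun (ha x y z hx hy hz hyx.symm hyz hzx.symm) x
  rw [htc.2.2.2.1] at h1
  rw [htc.2.2.2.2.2.2 (a x) hne hyw.symm hzw.symm] at h1
  exact hyx (a.injective h1)

theorem comm_of_disj (p : Y → Prop) (a c : Perm Y) (ha : ∀ x, p x → a x = x)
    (hc : ∀ x, ¬ p x → c x = x) : a * c = c * a := by
  have hd : Perm.Disjoint a c := by
    intro x
    by_cases hx : p x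
    · exact Or.inl (ha x hx)
    · exact Or.inr (hc x hx)
  exact hd.commute.eq

theorem no_inv (s : Perm Y) (hs1 : s ≠ 1) (hs2 : s * s = 1) (hsgn : Perm.sign s = 1)
    (T : Finset Y) (hT : T.card ≤ 3) (hsup : ∀ x, s x ≠ x → x ∈ T) : False := by
  have hsub : s.support ⊆ T := by
    intro x hx
    exact hsup x (Perm.mem_support.mp hx)
  have hcard : s.support.card ≤ 3 := (Finset.card_le_card hsub).trans hT
  have h0 : s.support.card ≠ 0 := by
    rw [Ne, Finset.card_eq_zero, Perm.support_eq_empty_iff]; exact hs1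
  have h1 : s.support.card ≠ 1 := Perm.card_support_ne_one s
  have h2 : s.support.card ≠ 2 := by
    intro h
    have h' := (Perm.card_support_eq_two.mp h).sign_eq
    rw [hsgn] at h'
    exact absurd h' (by decide)
  have h3 : s.support.card ≠ 3 := by
    intro h
    have ho := (card_support_eq_three_iff.mp h).orderOf
    have hd : orderOf s ∣ 2 := orderOf_dvd_of_pow_eq_one (by rw [pow_two]; exact hs2)
    rw [ho] at hd
    exact absurd hd (by decide)
  omega

theorem pres {Z : Type*} [Finite Z] (p : Z → Prop) (g : Perm Z) (hg : ∀ x, p x → p (g x)) :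
    ∀ x, p (g x) → p x := by
  intro x hx
  let f : {y // p y} → {y // p y} := fun y => ⟨g y.1, hg y.1 y.2⟩
  have hinj : Function.Injective f := by
    intro y1 y2 h
    apply Subtype.ext
    exact g.injective (congrArg Subtype.val h)
  obtain ⟨y, hy⟩ := Finite.surjective_of_injective hinj ⟨g x, hx⟩
  have h1 : g y.1 = g x := congrArg Subtype.val hy
  rw [← g.injective h1]
  exact y.2

theorem conj_fix {Z : Type*} [Finite Z] (p : Z → Prop) (g : Perm Z) (hg : ∀ x, p x → p (g x))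
    (c : Perm Z) :
    (∀ x, p x → c x = x) ↔ (∀ x, p x → (g * c * g⁻¹) x = x) := by
  have hg' := pres p g hg
  constructor
  · intro hc x hx
    have e0 : g (g⁻¹ x) = x := Equiv.apply_symm_apply g x
    have h1 : p (g⁻¹ x) := hg' _ (by rw [e0]; exact hx)
    have e : (g * c * g⁻¹) x = g (c (g⁻¹ x)) := rfl
    rw [e, hc _ h1, e0]
  · intro hc x hx
    have h1 := hc (g x) (hg x hx)
    have e : (g * c * g⁻¹) (g x) = g (c (g⁻¹ (g x))) := rfl
    have e2 : g⁻¹ (g x) = x := Equiv.symm_apply_apply g x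
    rw [e, e2] at h1
    exact g.injective h1

end gen

theorem norm_le_norm_cent {G : Type*} [Group G] (H : Subgroup G) :
    Subgroup.normalizer (H : Set G) ≤
      Subgroup.normalizer (Subgroup.centralizer (H : Set G) : Set G) := by
  intro g hg
  rw [Subgroup.mem_normalizer_iff] at hg ⊢
  intro c
  constructor
  · intro hc
    rw [Subgroup.mem_centralizer_iff] at hc ⊢
    intro h hh
    have h1 : g⁻¹ * h * g ∈ H := by
      rw [hg (g⁻¹ * h * g)]
      have e : g * (g⁻¹ * h * g) * g⁻¹ = h := by group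
      rw [e]; exact hh
    have h2 := hc _ h1
    calc h * (g * c * g⁻¹) = g * ((g⁻¹ * h * g) * c) * g⁻¹ := by group
      _ = g * (c * (g⁻¹ * h * g)) * g⁻¹ := by rw [h2]
      _ = g * c * g⁻¹ * h := by group
  · intro hc
    rw [Subgroup.mem_centralizer_iff] at hc ⊢
    intro h hh
    have h1 : g * h * g⁻¹ ∈ H := (hg h).mp hh
    have h2 := hc _ h1
    calc h * c = g⁻¹ * ((g * h * g⁻¹) * (g * c * g⁻¹)) * g := by group
      _ = g⁻¹ * ((g * c * g⁻¹) * (g * h * g⁻¹)) * g := by rw [h2]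
      _ = c * h := by group

abbrev Lsub (n : ℕ) (h4 : 4 ≤ n) : Subgroup ↥(alternatingGroup (Fin n)) :=
  ⨅ i : Fin 4, MulAction.stabilizer ↥(alternatingGroup (Fin n)) (Fin.castLE h4 i : Fin n)

section main
variable {n : ℕ}

theorem card_lo (h4 : 4 ≤ n) :
    (Finset.univ.filter (fun x : Fin n => x.val < 4)).card = 4 := by
  have e : (Finset.univ.filter (fun x : Fin n => x.val < 4)) =
      (Finset.univ : Finset (Fin 4)).image (Fin.castLE h4) := by
    ext x
    simp only [Finset.mem_filter, Finset.mem_univ, true_and, Finset.mem_image]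
    constructor
    · intro hx
      exact ⟨⟨x.val, hx⟩, Fin.ext rfl⟩
    · rintro ⟨i, rfl⟩
      exact i.2
  have hinj : Function.Injective (Fin.castLE h4) := fun i j h => Fin.ext (by have h' := congrArg Fin.val h; exact h')
  rw [e, Finset.card_image_of_injective _ hinj, Finset.card_univ, Fintype.card_fin]

theorem card_hi (h4 : 4 ≤ n) :
    (Finset.univ.filter (fun x : Fin n => ¬ x.val < 4)).card = n - 4 := by
  have h1 := Finset.card_filter_add_card_filter_not (s := (Finset.univ : Finset (Fin n)))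
    (fun x : Fin n => x.val < 4)
  rw [card_lo h4, Finset.card_univ, Fintype.card_fin] at h1
  omega

theorem mem_L (h4 : 4 ≤ n) (a : alternatingGroup (Fin n)) :
    a ∈ Lsub n h4 ↔ ∀ x : Fin n, x.val < 4 → a.1 x = x := by
  simp only [Lsub, Subgroup.mem_iInf, MulAction.mem_stabilizer_iff]
  constructor
  · intro h x hx
    have h1 := h ⟨x.val, hx⟩
    have e : Fin.castLE h4 ⟨x.val, hx⟩ = x := Fin.ext rfl
    rw [e] at h1
    exact h1
  · intro h i
    exact h (Fin.castLE h4 i) i.2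

theorem tcA (x y z : Fin n) (hxy : x ≠ y) (hxz : x ≠ z) :
    swap x z * swap x y ∈ alternatingGroup (Fin n) := by
  rw [Perm.mem_alternatingGroup, Perm.sign_mul, Perm.sign_swap hxz, Perm.sign_swap hxy]
  simp

theorem tc_mem_L (h4 : 4 ≤ n) (x y z : Fin n) (hx : ¬ x.val < 4) (hy : ¬ y.val < 4)
    (hz : ¬ z.val < 4) (hxy : x ≠ y) (hxz : x ≠ z) :
    (⟨swap x z * swap x y, tcA x y z hxy hxz⟩ : alternatingGroup (Fin n)) ∈ Lsub n h4 := by
  rw [mem_L]
  intro w hw
  exact tc_fix (fun h => hx (by rw [← h]; exact hw)) (fun h => hy (by rw [← h]; exact hw))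
    (fun h => hz (by rw [← h]; exact hw))

theorem mem_C (h4 : 4 ≤ n) (hn : 9 ≤ n) (a : alternatingGroup (Fin n)) :
    a ∈ Subgroup.centralizer (Lsub n h4 : Set (alternatingGroup (Fin n))) ↔
      ∀ x : Fin n, ¬ x.val < 4 → a.1 x = x := by
  rw [Subgroup.mem_centralizer_iff]
  constructor
  · intro ha
    have hc4 : 4 ≤ (Finset.univ.filter (fun x : Fin n => ¬ x.val < 4)).card := by
      rw [card_hi h4]; omega
    apply fix_of_comm (fun x : Fin n => ¬ x.val < 4) hc4 a.1
    intro x y z hx hy hz hxy hyz hxz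
    have h1 := ha _ (tc_mem_L h4 x y z hx hy hz hxy hxz)
    exact (congrArg Subtype.val h1).symm
  · intro ha l hl
    apply Subtype.ext
    exact comm_of_disj (fun x : Fin n => x.val < 4) l.1 a.1 ((mem_L h4 l).mp hl) ha

theorem tc_mem_C (h4 : 4 ≤ n) (hn : 9 ≤ n) (x y z : Fin n) (hx : x.val < 4) (hy : y.val < 4)
    (hz : z.val < 4) (hxy : x ≠ y) (hxz : x ≠ z) :
    (⟨swap x z * swap x y, tcA x y z hxy hxz⟩ : alternatingGroup (Fin n)) ∈
      Subgroup.centralizer (Lsub n h4 : Set (alternatingGroup (Fin n))) := by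
  rw [mem_C h4 hn]
  intro w hw
  exact tc_fix (fun h => hw (by rw [h]; exact hx)) (fun h => hw (by rw [h]; exact hy))
    (fun h => hw (by rw [h]; exact hz))

theorem cc_eq (h4 : 4 ≤ n) (hn : 9 ≤ n) :
    Subgroup.centralizer ((Subgroup.centralizer (Lsub n h4 : Set (alternatingGroup (Fin n)))
      : Subgroup (alternatingGroup (Fin n))) : Set (alternatingGroup (Fin n))) = Lsub n h4 := by
  ext a
  constructor
  · intro ha
    rw [Subgroup.mem_centralizer_iff] at ha
    rw [mem_L]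
    apply fix_of_comm (fun x : Fin n => x.val < 4) (le_of_eq (card_lo h4).symm) a.1
    intro x y z hx hy hz hxy hyz hxz
    have h1 := ha _ (tc_mem_C h4 hn x y z hx hy hz hxy hxz)
    exact (congrArg Subtype.val h1).symm
  · intro ha
    rw [Subgroup.mem_centralizer_iff]
    intro c hc
    exact ((Subgroup.mem_centralizer_iff.mp hc) a ha).symm

theorem norm_eq (h4 : 4 ≤ n) (hn : 9 ≤ n) :
    Subgroup.normalizer (Lsub n h4 : Set (alternatingGroup (Fin n))) =
      Subgroup.normalizer (Subgroup.centralizer (Lsub n h4 : Set (alternatingGroup (Fin n)))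
        : Set (alternatingGroup (Fin n))) := by
  apply le_antisymm (norm_le_norm_cent _)
  have h := norm_le_norm_cent (Subgroup.centralizer (Lsub n h4 : Set (alternatingGroup (Fin n))))
  rw [cc_eq h4 hn] at h
  exact h

theorem quasi (h4 : 4 ≤ n) (hn : 9 ≤ n) : Cfsg.IsQuasisimple ↥(Lsub n h4) := by
  have hcardS : Nat.card {x : Fin n // ¬ x.val < 4} = n - 4 := by
    rw [Nat.card_eq_fintype_card, Fintype.card_subtype, card_hi h4]
  have hsimpS : IsSimpleGroup (alternatingGroup {x : Fin n // ¬ x.val < 4}) :=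
    alternatingGroup.isSimpleGroup (by rw [hcardS]; omega)
  let ι : alternatingGroup {x : Fin n // ¬ x.val < 4} →* alternatingGroup (Fin n) :=
    ((Perm.ofSubtype : Perm {x : Fin n // ¬ x.val < 4} →* Perm (Fin n)).comp
      (alternatingGroup {x : Fin n // ¬ x.val < 4}).subtype).codRestrict
      (alternatingGroup (Fin n))
      (fun x => by
        rw [Perm.mem_alternatingGroup]
        show Perm.sign (Perm.ofSubtype x.1) = 1
        rw [Perm.sign_ofSubtype]
        exact Perm.mem_alternatingGroup.mp x.2)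
  have hι : ∀ x, (ι x).1 = Perm.ofSubtype x.1 := fun x => rfl
  have hinj : Function.Injective ι := by
    intro x y h
    apply Subtype.ext
    apply Perm.ofSubtype_injective
    have h1 := congrArg Subtype.val h
    rw [hι, hι] at h1
    exact h1
  have hrange : ι.range = Lsub n h4 := by
    ext a
    rw [MonoidHom.mem_range, mem_L]
    constructor
    · rintro ⟨x, rfl⟩ w hw
      rw [hι]
      exact Perm.ofSubtype_apply_of_not_mem x.1 (not_not.mpr hw)
    · intro ha
      have hpres : ∀ x : Fin n, (¬ (a.1 x).val < 4) ↔ ¬ x.val < 4 := by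
        intro x
        constructor
        · intro h1 h2
          rw [ha x h2] at h1
          exact h1 h2
        · intro h1 h2
          have h3 := ha _ h2
          have h5 := a.1.injective h3
          rw [h5] at h2
          exact h1 h2
      have hmov : ∀ x : Fin n, a.1 x ≠ x → ¬ x.val < 4 := fun x hx h => hx (ha x h)
      have hof : Perm.ofSubtype (Perm.subtypePerm a.1 hpres) = a.1 :=
        Perm.ofSubtype_subtypePerm hpres hmov
      have hsgn : Perm.subtypePerm a.1 hpres ∈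
          alternatingGroup {x : Fin n // ¬ x.val < 4} := by
        rw [Perm.mem_alternatingGroup, ← Perm.sign_ofSubtype, hof]
        exact Perm.mem_alternatingGroup.mp a.2
      refine ⟨⟨Perm.subtypePerm a.1 hpres, hsgn⟩, ?_⟩
      apply Subtype.ext
      rw [hι]
      exact hof
  let e : alternatingGroup {x : Fin n // ¬ x.val < 4} ≃* ↥(Lsub n h4) :=
    (MonoidHom.ofInjective hinj).trans (MulEquiv.subgroupCongr hrange)
  have hsimpL : IsSimpleGroup ↥(Lsub n h4) := (MulEquiv.isSimpleGroup_congr e).mp hsimpS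
  have hcen : Subgroup.center ↥(Lsub n h4) = ⊥ := by
    rw [Subgroup.eq_bot_iff_forall]
    intro z hz
    rw [Subgroup.mem_center_iff] at hz
    have hzC : z.1 ∈ Subgroup.centralizer (Lsub n h4 : Set (alternatingGroup (Fin n))) := by
      rw [Subgroup.mem_centralizer_iff]
      intro h hh
      exact congrArg Subtype.val (hz ⟨h, hh⟩)
    have h1 := (mem_C h4 hn z.1).mp hzC
    have h2 := (mem_L h4 z.1).mp z.2
    apply Subtype.ext
    apply Subtype.ext
    refine Equiv.Perm.ext (fun x => ?_)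
    show z.1.1 x = x
    by_cases hx : x.val < 4
    · exact h2 x hx
    · exact h1 x hx
  have hperf : Group.IsPerfect ↥(Lsub n h4) := by
    constructor
    have hN : (commutator ↥(Lsub n h4)).Normal := by
      first | infer_instance | (rw [commutator_def]; infer_instance)
    rcases hN.eq_bot_or_eq_top with h | h
    · exfalso
      rw [commutator_eq_bot_iff_center_eq_top, hcen] at h
      exact bot_ne_top h
    · exact h
  refine ⟨hperf, ?_⟩
  have e2 : ↥(Lsub n h4) ⧸ Subgroup.center ↥(Lsub n h4) ≃* ↥(Lsub n h4) :=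
    (QuotientGroup.quotientMulEquivOfEq hcen).trans QuotientGroup.quotientBot
  exact (MulEquiv.isSimpleGroup_congr e2).mpr hsimpL

theorem even_C (h4 : 4 ≤ n) (hn : 9 ≤ n) :
    Even (Nat.card ↥(Subgroup.centralizer (Lsub n h4 : Set (alternatingGroup (Fin n))))) := by
  obtain ⟨e0, e1, e2, e3, v0, v1, v2, v3⟩ : ∃ e0 e1 e2 e3 : Fin n,
      e0.val = 0 ∧ e1.val = 1 ∧ e2.val = 2 ∧ e3.val = 3 :=
    ⟨⟨0, by omega⟩, ⟨1, by omega⟩, ⟨2, by omega⟩, ⟨3, by omega⟩, rfl, rfl, rfl, rfl⟩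
  have ne : ∀ {a b : Fin n}, a.val ≠ b.val → a ≠ b := fun h h' => h (congrArg Fin.val h')
  have h01 : e0 ≠ e1 := ne (by omega)
  have h02 : e0 ≠ e2 := ne (by omega)
  have h03 : e0 ≠ e3 := ne (by omega)
  have h12 : e1 ≠ e2 := ne (by omega)
  have h13 : e1 ≠ e3 := ne (by omega)
  have h23 : e2 ≠ e3 := ne (by omega)
  have hc2 := tc_mem_C h4 hn e0 e1 e2 (by omega) (by omega) (by omega) h01 h02
  have hc3 := tc_mem_C h4 hn e0 e1 e3 (by omega) (by omega) (by omega) h01 h03
  obtain ⟨T, hT⟩ : ∃ T : ↥(Subgroup.centralizer (Lsub n h4 : Set (alternatingGroup (Fin n)))),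
      (T.1.1 : Perm (Fin n)) = swap e0 e2 * swap e0 e1 * (swap e0 e3 * swap e0 e1) :=
    ⟨⟨_, mul_mem hc2 hc3⟩, rfl⟩
  have hT1 : T ≠ 1 := by
    intro h
    rw [h] at hT
    exact S2119.prod_ne h01 h02.symm h03.symm h13.symm hT.symm
  have hT2 : T ^ 2 = 1 := by
    rw [pow_two]
    apply Subtype.ext
    apply Subtype.ext
    show (T.1.1 : Perm (Fin n)) * T.1.1 = 1
    rw [hT]
    exact S2119.prod_sq h01 h12.symm h03.symm h13.symm h23
  have : Fact (Nat.Prime 2) := ⟨Nat.prime_two⟩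
  have ho : orderOf T = 2 := orderOf_eq_prime hT2 hT1
  have hd := orderOf_dvd_natCard T
  rw [ho] at hd
  exact even_iff_two_dvd.mpr hd

theorem mem_normC (h4 : 4 ≤ n) (hn : 9 ≤ n) (g : alternatingGroup (Fin n))
    (hQ : ∀ x : Fin n, ¬ x.val < 4 → ¬ (g.1 x).val < 4) :
    g ∈ Subgroup.normalizer (Subgroup.centralizer (Lsub n h4 : Set (alternatingGroup (Fin n)))
      : Set (alternatingGroup (Fin n))) := by
  rw [Subgroup.mem_normalizer_iff]
  intro c
  rw [mem_C h4 hn, mem_C h4 hn]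
  exact conj_fix (fun x : Fin n => ¬ x.val < 4) g.1 hQ c.1

theorem odd_C (h4 : 4 ≤ n) (hn : 9 ≤ n) (g : alternatingGroup (Fin n))
    (hg : g ∉ Subgroup.normalizer (Subgroup.centralizer
      (Lsub n h4 : Set (alternatingGroup (Fin n))) : Set (alternatingGroup (Fin n)))) :
    Odd (Nat.card ↥(Subgroup.centralizer (Lsub n h4 : Set (alternatingGroup (Fin n))) ⊓
      (Subgroup.centralizer (Lsub n h4 : Set (alternatingGroup (Fin n)))).map
        (MulAut.conj g).toMonoidHom)) := by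
  rw [← Nat.not_even_iff_odd]
  intro hev
  have hQ : ∃ x₀ : Fin n, ¬ x₀.val < 4 ∧ (g.1 x₀).val < 4 := by
    by_contra hcon
    apply hg
    apply mem_normC h4 hn g
    intro x hx hgx
    exact hcon ⟨x, hx, hgx⟩
  obtain ⟨x₀, hx₀, hgx₀⟩ := hQ
  have : Fact (Nat.Prime 2) := ⟨Nat.prime_two⟩
  obtain ⟨w, hw⟩ := exists_prime_orderOf_dvd_card' 2 (even_iff_two_dvd.mp hev)
  have hw1 : w ≠ 1 := by
    intro h; rw [h, orderOf_one] at hw; exact absurd hw (by decide)
  have hw2 : w * w = 1 := by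
    have h1 := pow_orderOf_eq_one w
    rw [hw, pow_two] at h1
    exact h1
  have hw2' : (w.1.1 : Perm (Fin n)) * w.1.1 = 1 :=
    congrArg Subtype.val (congrArg Subtype.val hw2)
  have hwC := (mem_C h4 hn w.1).mp (Subgroup.mem_inf.mp w.2).1
  obtain ⟨c, hc, hcw⟩ := Subgroup.mem_map.mp (Subgroup.mem_inf.mp w.2).2
  have hcC := (mem_C h4 hn c).mp hc
  have hcw' : g.1 * c.1 * g.1⁻¹ = w.1.1 := congrArg Subtype.val hcw
  have hfix : (w.1.1 : Perm (Fin n)) (g.1 x₀) = g.1 x₀ := by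
    rw [← hcw']
    have e : (g.1 * c.1 * g.1⁻¹) (g.1 x₀) = g.1 (c.1 (g.1⁻¹ (g.1 x₀))) := rfl
    have e2 : g.1⁻¹ (g.1 x₀) = x₀ := Equiv.symm_apply_apply g.1 x₀
    rw [e, e2, hcC x₀ hx₀]
  have hmem : g.1 x₀ ∈ Finset.univ.filter (fun x : Fin n => x.val < 4) := by
    rw [Finset.mem_filter]; exact ⟨Finset.mem_univ _, hgx₀⟩
  have hTc : ((Finset.univ.filter (fun x : Fin n => x.val < 4)).erase (g.1 x₀)).card ≤ 3 := by
    have h1 := Finset.card_erase_of_mem hmem
    rw [card_lo h4] at h1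
    omega
  refine no_inv (w.1.1 : Perm (Fin n)) ?_ hw2' (Perm.mem_alternatingGroup.mp w.1.2)
    ((Finset.univ.filter (fun x : Fin n => x.val < 4)).erase (g.1 x₀)) hTc ?_
  · intro h
    exact hw1 (Subtype.ext (Subtype.ext h))
  · intro x hx
    rw [Finset.mem_erase, Finset.mem_filter]
    refine ⟨fun h => hx (by rw [h]; exact hfix), Finset.mem_univ _, ?_⟩
    by_contra hlo
    exact hx (hwC x hlo)

theorem map_L_eq (h4 : 4 ≤ n) (g : alternatingGroup (Fin n))
    (hQ : ∀ x : Fin n, ¬ x.val < 4 → ¬ (g.1 x).val < 4) :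
    (Lsub n h4).map (MulAut.conj g).toMonoidHom = Lsub n h4 := by
  have hlo : ∀ x : Fin n, x.val < 4 → (g.1 x).val < 4 := by
    intro x hx
    by_contra h
    exact pres (fun x : Fin n => ¬ x.val < 4) g.1 hQ x h hx
  ext a
  rw [Subgroup.mem_map]
  constructor
  · rintro ⟨l, hl, rfl⟩
    rw [mem_L] at hl ⊢
    exact (conj_fix (fun x : Fin n => x.val < 4) g.1 hlo l.1).mp hl
  · intro ha
    refine ⟨g⁻¹ * a * g, ?_, ?_⟩
    · rw [mem_L]
      refine (conj_fix (fun x : Fin n => x.val < 4) g.1 hlo (g⁻¹ * a * g).1).mpr ?_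
      have e : g.1 * (g⁻¹ * a * g).1 * g.1⁻¹ = a.1 := by
        show g.1 * (g.1⁻¹ * a.1 * g.1) * g.1⁻¹ = a.1
        group
      rw [e]
      exact (mem_L h4 a).mp ha
    · show g * (g⁻¹ * a * g) * g⁻¹ = a
      group

theorem part_c (h4 : 4 ≤ n) (hn : 9 ≤ n) (g : alternatingGroup (Fin n))
    (hne : (Lsub n h4).map (MulAut.conj g).toMonoidHom ≠ Lsub n h4) :
    ⁅Lsub n h4, (Lsub n h4).map (MulAut.conj g).toMonoidHom⁆ ≠ ⊥ := by
  intro hcomm
  rw [Subgroup.commutator_eq_bot_iff_le_centralizer] at hcomm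
  have hQ : ∃ u₁ : Fin n, ¬ u₁.val < 4 ∧ (g.1 u₁).val < 4 := by
    by_contra hcon
    apply hne
    apply map_L_eq h4 g
    intro x hx hgx
    exact hcon ⟨x, hx, hgx⟩
  obtain ⟨u₁, hu₁, hgu₁⟩ := hQ
  have hP : ∃ u : Fin n, ¬ u.val < 4 ∧ ¬ (g.1 u).val < 4 := by
    by_contra hcon
    have hsub : (Finset.univ.filter (fun x : Fin n => ¬ x.val < 4)).image g.1 ⊆
        Finset.univ.filter (fun x : Fin n => x.val < 4) := by
      intro y hy
      rw [Finset.mem_image] at hy
      obtain ⟨x, hx, rfl⟩ := hy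
      rw [Finset.mem_filter] at hx ⊢
      refine ⟨Finset.mem_univ _, ?_⟩
      by_contra h
      exact hcon ⟨x, hx.2, h⟩
    have h1 := Finset.card_le_card hsub
    rw [Finset.card_image_of_injective _ g.1.injective, card_hi h4, card_lo h4] at h1
    omega
  obtain ⟨u, hu, hgu⟩ := hP
  have huu₁ : u ≠ u₁ := by
    intro h; rw [h] at hgu; exact hgu hgu₁
  have hc4 : 4 ≤ (Finset.univ.filter (fun x : Fin n => ¬ x.val < 4)).card := by
    rw [card_hi h4]; omega
  obtain ⟨u₃, _, hu₃', _, _, hu₃u, hu₃u₁, _, _⟩ :=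
    two_more (fun x : Fin n => ¬ x.val < 4) hc4 u u₁
  have hu₃ : ¬ u₃.val < 4 := hu₃'
  obtain ⟨y, z, hy', hz', hyz, hygu, hygu₃, hzgu, hzgu₃⟩ :=
    two_more (fun x : Fin n => ¬ x.val < 4) hc4 (g.1 u) (g.1 u₃)
  have hy : ¬ y.val < 4 := hy'
  have hz : ¬ z.val < 4 := hz'
  have hc'L := tc_mem_L h4 u u₁ u₃ hu hu₁ hu₃ huu₁ hu₃u.symm
  have hlL := tc_mem_L h4 (g.1 u) y z hgu hy hz hygu.symm hzgu.symm
  have hl'mem : g * ⟨swap u u₃ * swap u u₁, tcA u u₁ u₃ huu₁ hu₃u.symm⟩ * g⁻¹ ∈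
      (Lsub n h4).map (MulAut.conj g).toMonoidHom :=
    Subgroup.mem_map.mpr ⟨_, hc'L, rfl⟩
  have hcm := Subgroup.mem_centralizer_iff.mp (hcomm hlL) _ hl'mem
  have hcm' : (g.1 * (swap u u₃ * swap u u₁) * g.1⁻¹) * (swap (g.1 u) z * swap (g.1 u) y) =
      (swap (g.1 u) z * swap (g.1 u) y) * (g.1 * (swap u u₃ * swap u u₁) * g.1⁻¹) :=
    congrArg Subtype.val hcm
  have htc' := S2119.tc_conj g.1 (S2119.tc_swap huu₁ hu₃u₁.symm hu₃u.symm)
  have htl := S2119.tc_swap hygu.symm hyz hzgu.symm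
  have h2 : (g.1 * (swap u u₃ * swap u u₁) * g.1⁻¹)
        ((swap (g.1 u) z * swap (g.1 u) y) (g.1 u)) =
      (swap (g.1 u) z * swap (g.1 u) y)
        ((g.1 * (swap u u₃ * swap u u₁) * g.1⁻¹) (g.1 u)) := Perm.congr_fun hcm' (g.1 u)
  rw [htl.2.2.2.1, htc'.2.2.2.1] at h2
  have hyu₁ : y ≠ g.1 u₁ := by
    intro h; rw [h] at hy; exact hy hgu₁
  have hzu₁ : z ≠ g.1 u₁ := by
    intro h; rw [h] at hz; exact hz hgu₁
  have hguu₁ : g.1 u ≠ g.1 u₁ := fun h => huu₁ (g.1.injective h)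
  rw [htc'.2.2.2.2.2.2 y hygu hyu₁ hygu₃,
    htl.2.2.2.2.2.2 (g.1 u₁) hguu₁.symm hyu₁.symm hzu₁.symm] at h2
  exact hyu₁ h2

end main


/-- For n ≥ 9, the subgroup of the alternating group on Fin n fixing each of the points 0, 1, 2, 3 is a standard subgroup. -/
theorem result (n : ℕ) (h4 : 4 ≤ n) (hn : 9 ≤ n) : Cfsg.IsStandardSubgroup (⨅ i : Fin 4, MulAction.stabilizer ↥(alternatingGroup (Fin n)) (Fin.castLE h4 i : Fin n)) := by
  exact ⟨quasi h4 hn, ⟨even_C h4 hn, fun g hg => odd_C h4 hn g hg⟩,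
    fun g hne => part_c h4 hn g hne, norm_eq h4 hn⟩

end Cfsg.Agent.S1323
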