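import Cfsg.Statements.S1338
import Mathlib
import Cfsg.Agent.Helper10.KJ6
import Cfsg.Agent.S1337

set_option autoImplicit false
open Cfsg

namespace Cfsg.Agent.S1338

/-- A finite 3-group of 3-rank at least 4 is 2-connected for the prime 3: its commuting graph on elementary abelian subgroups of order ≥ 9 is connected. -/
theorem result {P : Type*} [Group P] [Finite P] (hP : IsPGroup 3 P) (hrk : ¬ Cfsg.PRankLE 3 3 P) : Cfsg.IsKConnected 3 2 P := by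
  haveI : Fact (Nat.Prime 3) := ⟨by norm_num⟩
  unfold Cfsg.PRankLE at hrk
  push Not at hrk
  obtain ⟨A, hAc, hA3, hAcard⟩ := hrk
  obtain ⟨a, ha⟩ := IsPGroup.iff_card.1 (hP.to_subgroup A)
  have ha4 : 4 ≤ a := by
    rw [ha] at hAcard
    by_contra h
    push Not at h
    have : 3 ^ a ≤ 3 ^ 3 := Nat.pow_le_pow_right (by norm_num) (by omega)
    omega
  obtain ⟨K, hK⟩ := Sylow.exists_subgroup_card_pow_prime (G := ↥A) 3 (n := 4)
    (ha ▸ pow_dvd_pow 3 ha4)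
  have hAab := (Cfsg.Agent.Helper10.KJ.isMulComm_iff A).1 hAc
  have hEea : Cfsg.IsElementaryAbelian 3 (K.map A.subtype) := by
    refine ⟨(Cfsg.Agent.Helper10.KJ.isMulComm_iff _).2 ?_, ?_⟩
    · rintro _ ⟨x, _, rfl⟩ _ ⟨y, _, rfl⟩
      exact hAab x.1 x.2 y.1 y.2
    · rintro _ ⟨x, _, rfl⟩
      exact hA3 x.1 x.2
  have hE4 : Nat.card ↥(K.map A.subtype) = 3 ^ 4 := by
    rw [Subgroup.card_map_of_injective A.subtype_injective, hK]
  obtain ⟨W, hWn, hWea, hW4⟩ := Cfsg.Agent.Helper10.KJ.exists_normal_ea4 (p := 3) (by norm_num)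
    hP _ hEea hE4
  have hrk2 : ¬ Cfsg.PRankLE 3 2 P := by
    intro h
    have := h A hAc hA3
    omega
  obtain ⟨U, _, _, _, hUconn⟩ := Cfsg.Agent.S1337.result 3 hP hrk2
  have main := fun X hX hXc =>
    Cfsg.Agent.Helper10.KJ.cent_rank_three hP W hWn hWea hW4 X hX hXc
  intro E₁ E₂ hE₁ hc₁ hE₂ hc₂
  have p1 := (hUconn E₁ hE₁ hc₁).2 (main E₁ hE₁ hc₁)
  have p2 := (hUconn E₂ hE₂ hc₂).2 (main E₂ hE₂ hc₂)
  refine p1.trans (Cfsg.Agent.Helper10.KJ.rtg_symm ?_ p2)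
  rintro A B ⟨h1, h2, h3, h4, h5⟩
  exact ⟨h3, h4, h1, h2, fun b hb a ha => (h5 a ha b hb).symm⟩

end Cfsg.Agent.S1338
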