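-- S1339: proof by helper7
import Cfsg.Statements.S1339
import Mathlib
import Cfsg.Agent.Helper7.CharP

set_option autoImplicit false
open Cfsg

namespace Cfsg.Agent.S1339

theorem f2_cases {F : Type*} [Field F] [Fintype F] (hF : Fintype.card F = 2) (x : F)
    (hx : x ≠ 0) : x = 1 := by
  have h := FiniteField.pow_card_sub_one_eq_one x hx
  rw [hF] at h
  simpa using h

theorem f2_add_self {F : Type*} [Field F] [Fintype F] (hF : Fintype.card F = 2) (x : F) :
    x + x = 0 := by
  have h := FiniteField.cast_card_eq_zero F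
  rw [hF] at h
  have h2 : (2 : F) = 0 := by exact_mod_cast h
  rw [← two_mul, h2, zero_mul]

theorem row_mul {n : ℕ} {F : Type*} [Field F] (A M : Matrix (Fin n) (Fin n) F) (k : Fin n)
    (hA : ∀ l, A k l = (1 : Matrix (Fin n) (Fin n) F) k l) (l : Fin n) :
    (A * M) k l = M k l := by
  rw [Matrix.mul_apply]
  have h : ∀ m ∈ Finset.univ, A k m * M m l = (1 : Matrix (Fin n) (Fin n) F) k m * M m l := by
    intro m _
    rw [hA m]
  rw [Finset.sum_congr rfl h, ← Matrix.mul_apply, Matrix.one_mul]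

theorem row_zero_mul {n : ℕ} {F : Type*} [Field F] (A M : Matrix (Fin n) (Fin n) F)
    (k : Fin n) (hA : ∀ l, A k l = 0) (l : Fin n) : (A * M) k l = 0 := by
  rw [Matrix.mul_apply]
  apply Finset.sum_eq_zero
  intro m _
  rw [hA m, zero_mul]

/-- The matrices agreeing with the identity outside row `i`. -/
def R0 {n : ℕ} (F : Type*) [Field F] (i : Fin n) :
    Subgroup (Matrix.SpecialLinearGroup (Fin n) F) where
  carrier := {g | ∀ k, k ≠ i → ∀ l, g.1 k l = (1 : Matrix (Fin n) (Fin n) F) k l}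
  mul_mem' := by
    intro g h hg hh k hk l
    rw [Matrix.SpecialLinearGroup.coe_mul, row_mul g.1 h.1 k (hg k hk) l]
    exact hh k hk l
  one_mem' := by
    intro k hk l
    rfl
  inv_mem' := by
    intro g hg k hk l
    have h1 : g.1 * (g⁻¹).1 = 1 := by
      rw [← Matrix.SpecialLinearGroup.coe_mul, mul_inv_cancel, Matrix.SpecialLinearGroup.coe_one]
    have h2 := row_mul g.1 (g⁻¹).1 k (hg k hk) l
    rw [h1] at h2
    exact h2.symm

theorem mem_R0 {n : ℕ} {F : Type*} [Field F] (i : Fin n)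
    (g : Matrix.SpecialLinearGroup (Fin n) F) :
    g ∈ R0 F i ↔ ∀ k, k ≠ i → ∀ l, g.1 k l = (1 : Matrix (Fin n) (Fin n) F) k l := Iff.rfl

theorem diag_ne_zero {n : ℕ} {F : Type*} [Field F] (i : Fin n)
    (g : Matrix.SpecialLinearGroup (Fin n) F) (hcol : ∀ k, k ≠ i → g.1 k i = 0) :
    g.1 i i ≠ 0 := by
  intro h0
  have h1 : (g⁻¹).1 * g.1 = 1 := by
    rw [← Matrix.SpecialLinearGroup.coe_mul, inv_mul_cancel, Matrix.SpecialLinearGroup.coe_one]
  have h2 := congrFun (congrFun h1 i) i
  rw [Matrix.mul_apply, Matrix.one_apply_eq] at h2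
  have h3 : ∑ m, (g⁻¹).1 i m * g.1 m i = 0 := by
    apply Finset.sum_eq_zero
    intro m _
    by_cases hm : m = i
    · rw [hm, h0, mul_zero]
    · rw [hcol m hm, mul_zero]
  rw [h3] at h2
  exact zero_ne_one h2

theorem row_ne_zero {n : ℕ} {F : Type*} [Field F] (k : Fin n)
    (g : Matrix.SpecialLinearGroup (Fin n) F) (hrow : ∀ l, g.1 k l = 0) : False := by
  have h1 : g.1 * (g⁻¹).1 = 1 := by
    rw [← Matrix.SpecialLinearGroup.coe_mul, mul_inv_cancel, Matrix.SpecialLinearGroup.coe_one]
  have h2 := row_zero_mul g.1 (g⁻¹).1 k hrow k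
  rw [h1, Matrix.one_apply_eq] at h2
  exact one_ne_zero h2

theorem sq_eq_one {n : ℕ} {F : Type*} [Field F] [Fintype F] (hF : Fintype.card F = 2)
    (i : Fin n) (g : Matrix.SpecialLinearGroup (Fin n) F) (hg : g ∈ R0 F i) : g * g = 1 := by
  have hrow : ∀ k, k ≠ i → ∀ l, g.1 k l = (1 : Matrix (Fin n) (Fin n) F) k l := hg
  have hii : g.1 i i = 1 := by
    apply f2_cases hF
    apply diag_ne_zero i g
    intro k hk
    rw [hrow k hk i, Matrix.one_apply_ne hk]
  obtain ⟨N, hN⟩ : ∃ N : Matrix (Fin n) (Fin n) F, N = g.1 - 1 := ⟨_, rfl⟩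
  have hNrow : ∀ k, k ≠ i → ∀ l, N k l = 0 := by
    intro k hk l
    rw [hN, Matrix.sub_apply, hrow k hk l, sub_self]
  have hNii : N i i = 0 := by
    rw [hN, Matrix.sub_apply, hii, Matrix.one_apply_eq, sub_self]
  have hNN : N * N = 0 := by
    ext k l
    rw [Matrix.mul_apply, Matrix.zero_apply]
    apply Finset.sum_eq_zero
    intro m _
    by_cases hm : m = i
    · by_cases hk : k = i
      · rw [hm, hk, hNii, zero_mul]
      · rw [hNrow k hk m, zero_mul]
    · rw [hNrow m hm l, mul_zero]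
  have hN2 : N + N = 0 := by
    ext k l
    rw [Matrix.add_apply, Matrix.zero_apply]
    exact f2_add_self hF _
  have hg1 : g.1 = 1 + N := by rw [hN]; abel
  apply Subtype.ext
  rw [Matrix.SpecialLinearGroup.coe_mul, Matrix.SpecialLinearGroup.coe_one, hg1]
  have e : (1 + N) * (1 + N) = 1 + (N + N) + N * N := by
    rw [Matrix.add_mul, Matrix.one_mul, Matrix.mul_add, Matrix.mul_one]
    abel
  rw [e, hN2, hNN, add_zero, add_zero]

theorem col_of_comm {n : ℕ} {F : Type*} [Field F] (i j : Fin n)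
    (c : Matrix (Fin n) (Fin n) F)
    (hc : Matrix.transvection i j (1 : F) * c = c * Matrix.transvection i j (1 : F)) :
    ∀ a, a ≠ i → c a i = 0 := by
  intro a ha
  have h := congrFun (congrFun hc a) j
  rw [Matrix.transvection_mul_apply_of_ne i j a j ha, Matrix.mul_transvection_apply_same] at h
  linear_combination -h

theorem mem_R0_of_comm {n : ℕ} {F : Type*} [Field F] [Fintype F] (hF : Fintype.card F = 2)
    (i j : Fin n) (hij : i ≠ j) (h : Matrix.SpecialLinearGroup (Fin n) F)
    (hc : ∀ a, a ≠ i →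
      Matrix.transvection i a (1 : F) * h.1 = h.1 * Matrix.transvection i a (1 : F)) :
    h ∈ R0 F i := by
  have h1 : ∀ a, a ≠ i → ∀ l, l ≠ a → h.1 a l = 0 := by
    intro a ha l hl
    have e := congrFun (congrFun (hc a ha) i) l
    rw [Matrix.transvection_mul_apply_same, Matrix.mul_transvection_apply_of_ne i a i l hl] at e
    linear_combination e
  have h2 : ∀ a, a ≠ i → h.1 a a = h.1 i i := by
    intro a ha
    have e := congrFun (congrFun (hc a ha) i) a
    rw [Matrix.transvection_mul_apply_same, Matrix.mul_transvection_apply_same] at e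
    linear_combination e
  have hii : h.1 i i = 1 := by
    apply f2_cases hF
    intro h0
    apply row_ne_zero j h
    intro l
    by_cases hl : l = j
    · rw [hl, h2 j (Ne.symm hij), h0]
    · exact h1 j (Ne.symm hij) l hl
  refine (mem_R0 i h).mpr ?_
  intro k hk l
  by_cases hl : l = k
  · rw [hl, h2 k hk, hii, Matrix.one_apply_eq]
  · rw [h1 k hk l hl, Matrix.one_apply_ne (Ne.symm hl)]

/-- The transvection `1 + E_{ia}` as an element of `SL`. -/
def xa {n : ℕ} (F : Type*) [Field F] (i a : Fin n) (hia : i ≠ a) :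
    Matrix.SpecialLinearGroup (Fin n) F :=
  ⟨Matrix.transvection i a (1 : F), Matrix.det_transvection_of_ne i a hia (1 : F)⟩

theorem xa_mem_R0 {n : ℕ} {F : Type*} [Field F] (i a : Fin n) (hia : i ≠ a) :
    xa F i a hia ∈ R0 F i := by
  refine (mem_R0 i _).mpr ?_
  intro k hk l
  show Matrix.transvection i a (1 : F) k l = (1 : Matrix (Fin n) (Fin n) F) k l
  unfold Matrix.transvection
  rw [Matrix.add_apply, Matrix.single_apply_of_row_ne (Ne.symm hk), add_zero]

theorem transv_comm {n : ℕ} {F : Type*} [Field F] (i j a : Fin n) (hij : i ≠ j)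
    (hia : i ≠ a) :
    Matrix.transvection i j (1 : F) * Matrix.transvection i a (1 : F) =
      Matrix.transvection i a (1 : F) * Matrix.transvection i j (1 : F) := by
  unfold Matrix.transvection
  have h1 : Matrix.single i j (1 : F) * Matrix.single i a (1 : F) = 0 := by
    first
      | exact Matrix.single_mul_single_of_ne (1 : F) i j i (Ne.symm hij) (1 : F)
      | simp [hij.symm]
  have h2 : Matrix.single i a (1 : F) * Matrix.single i j (1 : F) = 0 := by
    first
      | exact Matrix.single_mul_single_of_ne (1 : F) i a i (Ne.symm hia) (1 : F)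
      | simp [hia.symm]
  have hc : Commute (Matrix.single i j (1 : F)) (Matrix.single i a (1 : F)) := by
    show _ * _ = _ * _
    rw [h1, h2]
  exact ((Commute.one_left _).add_left ((Commute.one_right _).add_right hc)).eq

theorem conj_row {n : ℕ} {F : Type*} [Field F] (i : Fin n)
    (c q : Matrix.SpecialLinearGroup (Fin n) F)
    (hrow : ∀ k, k ≠ i → ∀ l, q.1 k l = (1 : Matrix (Fin n) (Fin n) F) k l)
    (hcol : ∀ a, a ≠ i → c.1 a i = 0) :
    ∀ k, k ≠ i → ∀ l, (c * q * c⁻¹).1 k l = (1 : Matrix (Fin n) (Fin n) F) k l := by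
  intro k hk l
  obtain ⟨N, hN⟩ : ∃ N : Matrix (Fin n) (Fin n) F, N = q.1 - 1 := ⟨_, rfl⟩
  have hNrow : ∀ a, a ≠ i → ∀ m, N a m = 0 := by
    intro a ha m
    rw [hN, Matrix.sub_apply, hrow a ha m, sub_self]
  have hq1 : q.1 = 1 + N := by rw [hN]; abel
  have hcd : c.1 * (c⁻¹).1 = 1 := by
    rw [← Matrix.SpecialLinearGroup.coe_mul, mul_inv_cancel, Matrix.SpecialLinearGroup.coe_one]
  have hcN : ∀ m, (c.1 * N) k m = 0 := by
    intro m
    rw [Matrix.mul_apply]
    apply Finset.sum_eq_zero
    intro a _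
    by_cases ha : a = i
    · rw [ha, hcol k hk, zero_mul]
    · rw [hNrow a ha m, mul_zero]
  rw [Matrix.SpecialLinearGroup.coe_mul, Matrix.SpecialLinearGroup.coe_mul, hq1, Matrix.mul_add,
    Matrix.mul_one, Matrix.add_mul, hcd, Matrix.add_apply,
    row_zero_mul (c.1 * N) (c⁻¹).1 k hcN l, add_zero]


/-- Let F be a field with 2 elements, n ≥ 3, and t ∈ SL(n, F) a transvection (t = 1 + E_{ij}, i ≠ j). Then the generalized Fitting subgroup of C(t) is O_2(C(t)). -/
theorem result {F : Type*} [Field F] [Fintype F] [DecidableEq F] (hF : Fintype.card F = 2) (n : ℕ) (hn : 3 ≤ n) (i j : Fin n) (hij : i ≠ j) (t : Matrix.SpecialLinearGroup (Fin n) F) (ht : (t : Matrix (Fin n) (Fin n) F) = Matrix.transvection i j 1) : Cfsg.generalizedFittingSubgroup ↥(Subgroup.centralizer ({t} : Set (Matrix.SpecialLinearGroup (Fin n) F))) = Cfsg.pCore 2 ↥(Subgroup.centralizer ({t} : Set (Matrix.SpecialLinearGroup (Fin n) F))) := by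
  haveI : Fact (Nat.Prime 2) := ⟨Nat.prime_two⟩
  apply (Helper7.generalizedFitting_eq_pCore_iff 2).mpr
  have htC : ∀ c ∈ Subgroup.centralizer ({t} : Set (Matrix.SpecialLinearGroup (Fin n) F)),
      Matrix.transvection i j (1 : F) * c.1 = c.1 * Matrix.transvection i j (1 : F) := by
    intro c hc
    have h1 := Subgroup.mem_centralizer_iff.mp hc t (Set.mem_singleton t)
    have h2 := congrArg Subtype.val h1
    rw [Matrix.SpecialLinearGroup.coe_mul, Matrix.SpecialLinearGroup.coe_mul, ht] at h2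
    exact h2
  refine ⟨(R0 F i).subgroupOf (Subgroup.centralizer {t}), ?_, ?_, ?_⟩
  · constructor
    intro q hq c
    rw [Subgroup.mem_subgroupOf] at hq ⊢
    have hrow : ∀ k, k ≠ i → ∀ l, (q : Matrix.SpecialLinearGroup (Fin n) F).1 k l =
        (1 : Matrix (Fin n) (Fin n) F) k l := hq
    have hcol := col_of_comm i j (c : Matrix.SpecialLinearGroup (Fin n) F).1 (htC c.1 c.2)
    exact (mem_R0 i _).mpr (conj_row i (c : Matrix.SpecialLinearGroup (Fin n) F)
      (q : Matrix.SpecialLinearGroup (Fin n) F) hrow hcol)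
  · intro q
    refine ⟨1, ?_⟩
    rw [show (2 : ℕ) ^ 1 = 2 from rfl, pow_two]
    apply Subtype.ext
    apply Subtype.ext
    have h := sq_eq_one hF i
      ((q : ↥(Subgroup.centralizer ({t} : Set (Matrix.SpecialLinearGroup (Fin n) F)))) :
        Matrix.SpecialLinearGroup (Fin n) F) (Subgroup.mem_subgroupOf.mp q.2)
    exact h
  · intro h hh
    rw [Subgroup.mem_subgroupOf]
    apply mem_R0_of_comm hF i j hij
    intro a ha
    have hxaC : xa F i a (Ne.symm ha) ∈
        Subgroup.centralizer ({t} : Set (Matrix.SpecialLinearGroup (Fin n) F)) := by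
      rw [Subgroup.mem_centralizer_iff]
      intro y hy
      rw [Set.mem_singleton_iff] at hy
      rw [hy]
      apply Subtype.ext
      rw [Matrix.SpecialLinearGroup.coe_mul, Matrix.SpecialLinearGroup.coe_mul, ht]
      exact transv_comm i j a hij (Ne.symm ha)
    have hmem : (⟨xa F i a (Ne.symm ha), hxaC⟩ :
        ↥(Subgroup.centralizer ({t} : Set (Matrix.SpecialLinearGroup (Fin n) F)))) ∈
        (R0 F i).subgroupOf (Subgroup.centralizer {t}) :=
      Subgroup.mem_subgroupOf.mpr (xa_mem_R0 i a (Ne.symm ha))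
    have h1 := Subgroup.mem_centralizer_iff.mp hh _ hmem
    have h2 := congrArg (fun z : ↥(Subgroup.centralizer
      ({t} : Set (Matrix.SpecialLinearGroup (Fin n) F))) =>
        (z : Matrix.SpecialLinearGroup (Fin n) F).1) h1
    exact h2

end Cfsg.Agent.S1339
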