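import Cfsg.Statements.S1387
import Cfsg.Agent.S1474

set_option autoImplicit false
open Cfsg

namespace Cfsg.Agent.S1387

theorem card_fh_of {G : Type*} [Group G] (M : Subgroup G) :
    Nat.card ↥(Cfsg.fittingHallOf M) = Nat.card ↥(Cfsg.fittingHall ↥M) := by
  unfold Cfsg.fittingHallOf
  exact Subgroup.card_map_of_injective (Subgroup.subtype_injective M)

theorem pow_index_eq_one {G : Type*} [Group G] [Finite G] (M : Subgroup G) (u : G) (huM : u ∈ M)
    (hu : ∀ k : ℕ, u ^ k ∈ Cfsg.fittingHallOf M → u ^ k = 1) :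
    u ^ (Cfsg.fittingHall ↥M).index = 1 := by
  obtain ⟨hFn, -, -⟩ := Cfsg.Agent.S1474.fh_mem (G := ↥M)
  haveI := hFn
  apply hu
  have h1 : ((⟨u, huM⟩ : ↥M) : ↥M ⧸ Cfsg.fittingHall ↥M) ^ (Cfsg.fittingHall ↥M).index = 1 := by
    rw [Subgroup.index_eq_card]
    exact pow_card_eq_one'
  have h2 : (⟨u, huM⟩ : ↥M) ^ (Cfsg.fittingHall ↥M).index ∈ Cfsg.fittingHall ↥M := by
    rw [← QuotientGroup.eq_one_iff, QuotientGroup.mk_pow]
    exact h1
  show u ^ (Cfsg.fittingHall ↥M).index ∈ (Cfsg.fittingHall ↥M).map M.subtype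
  exact Subgroup.mem_map.mpr ⟨_, h2, by simp⟩

theorem key {G : Type*} [Group G] [Finite G] (M : Subgroup G) (u h : G)
    (huM : u ∈ M) (hh : h ∈ Cfsg.fittingHallOf M)
    (hu : ∀ k : ℕ, u ^ k ∈ Cfsg.fittingHallOf M → u ^ k = 1)
    (hx : h * u ∈ Subgroup.centralizer (Cfsg.fittingHallOf M : Set G)) :
    u ∈ Subgroup.centralizer (Cfsg.fittingHallOf M : Set G) := by
  obtain ⟨-, -, hFc⟩ := Cfsg.Agent.S1474.fh_mem (G := ↥M)
  have hud0 := pow_index_eq_one M u huM hu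
  obtain ⟨n, hn⟩ : ∃ n, n = Nat.card ↥(Cfsg.fittingHallOf M) := ⟨_, rfl⟩
  obtain ⟨d, hd⟩ : ∃ d, d = (Cfsg.fittingHall ↥M).index := ⟨_, rfl⟩
  have hud : u ^ d = 1 := by rw [hd]; exact hud0
  have hcop : Nat.gcd n d = 1 := by
    rw [hn, hd, card_fh_of]; exact hFc
  have hhn : h ^ n = 1 := by
    have := pow_card_eq_one' (G := ↥(Cfsg.fittingHallOf M)) (x := ⟨h, hh⟩)
    rw [hn]
    have h5 := congrArg Subtype.val this
    rw [Subgroup.coe_pow, Subgroup.coe_one] at h5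
    exact h5
  have key1 : ∀ y ∈ Cfsg.fittingHallOf M, u * y * u⁻¹ = h⁻¹ * y * h := by
    intro y hy
    have hc : y * (h * u) = h * u * y := (Subgroup.mem_centralizer_iff.mp hx) y hy
    calc u * y * u⁻¹ = h⁻¹ * (h * u * y) * u⁻¹ := by group
      _ = h⁻¹ * (y * (h * u)) * u⁻¹ := by rw [hc]
      _ = h⁻¹ * y * h := by group
  have key2 : ∀ k : ℕ, ∀ y ∈ Cfsg.fittingHallOf M,
      u ^ k * y * (u ^ k)⁻¹ = h⁻¹ ^ k * y * (h⁻¹ ^ k)⁻¹ := by
    intro k
    induction k with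
    | zero => intro y _; simp
    | succ k ih =>
      intro y hy
      have hy' : h⁻¹ * y * h ∈ Cfsg.fittingHallOf M :=
        Subgroup.mul_mem _ (Subgroup.mul_mem _ (Subgroup.inv_mem _ hh) hy) hh
      calc u ^ (k + 1) * y * (u ^ (k + 1))⁻¹ = u ^ k * (u * y * u⁻¹) * (u ^ k)⁻¹ := by
            rw [pow_succ]; simp only [mul_inv_rev, mul_assoc]
        _ = u ^ k * (h⁻¹ * y * h) * (u ^ k)⁻¹ := by rw [key1 y hy]
        _ = h⁻¹ ^ k * (h⁻¹ * y * h) * (h⁻¹ ^ k)⁻¹ := ih _ hy'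
        _ = h⁻¹ ^ (k + 1) * y * (h⁻¹ ^ (k + 1))⁻¹ := by
            rw [pow_succ]; simp only [mul_inv_rev, inv_inv, mul_assoc]
  have hun : u ^ n ∈ Subgroup.centralizer (Cfsg.fittingHallOf M : Set G) := by
    rw [Subgroup.mem_centralizer_iff]
    intro y hy
    have h1 := key2 n y hy
    rw [inv_pow, hhn] at h1
    have h2 : u ^ n * y * (u ^ n)⁻¹ = y := by
      rw [h1]; simp
    simpa using (congrArg (· * u ^ n) h2).symm
  have hgcd : (1 : ℤ) = (n : ℤ) * Nat.gcdA n d + (d : ℤ) * Nat.gcdB n d := by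
    have := Nat.gcd_eq_gcd_ab n d
    rw [hcop] at this
    simpa using this
  have hu1 : u = (u ^ n) ^ (Nat.gcdA n d) := by
    have h1 : u ^ (1 : ℤ) = u ^ ((n : ℤ) * Nat.gcdA n d + (d : ℤ) * Nat.gcdB n d) := by
      rw [← hgcd]
    rw [zpow_one, zpow_add, zpow_mul, zpow_mul, zpow_natCast, zpow_natCast, hud, one_zpow,
      mul_one] at h1
    exact h1
  rw [hu1]
  exact Subgroup.zpow_mem _ hun _

/-- Let M be a subgroup of a finite group G with type-P data (W₁, U, W₂) and H = M_F. Then the Fitting subgroup F(M) is generated by H and the centralizer of H in U. -/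
theorem result {G : Type*} [Group G] [Finite G] (M W₁ U W₂ : Subgroup G) (hP : Cfsg.IsTypePWith M W₁ U W₂) :
    Cfsg.fittingOf M = Cfsg.fittingHallOf M ⊔ (U ⊓ Subgroup.centralizer (Cfsg.fittingHallOf M : Set G)) := by
  have hM' : ⁅M, M⁆ ≤ M := hP.W₁_compl.1
  have hUM' : U ≤ ⁅M, M⁆ := hP.U_compl.2.1
  have hHU : Cfsg.fittingHallOf M ⊓ U = ⊥ := hP.U_compl.2.2.1
  have hdec := hP.U_compl.2.2.2
  have hfe := hP.fitting_eq
  have hfl := hP.fitting_le
  rw [← hfe]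
  apply le_antisymm
  · refine sup_le le_sup_left ?_
    intro x hx
    have hxF : x ∈ Cfsg.fittingOf M := by
      rw [← hfe]; exact Subgroup.mem_sup_right hx
    obtain ⟨a, ha, b, hb, rfl⟩ := hdec x (hfl hxF)
    have hbC : b ∈ Subgroup.centralizer (Cfsg.fittingHallOf M : Set G) := by
      refine key M b a (hM' (hUM' hb)) ha ?_ hx.2
      intro k hk
      have : b ^ k ∈ Cfsg.fittingHallOf M ⊓ U := ⟨hk, U.pow_mem hb k⟩
      rwa [hHU, Subgroup.mem_bot] at this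
    exact Subgroup.mul_mem _ (Subgroup.mem_sup_left ha) (Subgroup.mem_sup_right ⟨hb, hbC⟩)
  · exact sup_le_sup_left (inf_le_inf_right _ (hUM'.trans hM')) _

end Cfsg.Agent.S1387
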