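import Cfsg.Statements.S1388
import Cfsg.Agent.S1387
import Cfsg.Agent.Helper14.Comm
import Cfsg.Agent.Helper23.PSolv

set_option autoImplicit false
open Cfsg
open scoped commutatorElement

namespace Cfsg.Agent.S1388

theorem card_of_complIn {G : Type*} [Group G] [Finite G] {A B M : Subgroup G}
    (h : Cfsg.IsComplIn A B M) : Nat.card ↥M = Nat.card ↥A * Nat.card ↥B := by
  obtain ⟨hA, hB, hAB, hdec⟩ := h
  rw [← Nat.card_prod]
  symm
  apply Nat.card_congr
  refine Equiv.ofBijective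
    (fun x : ↥A × ↥B => (⟨(x.1 : G) * (x.2 : G), M.mul_mem (hA x.1.2) (hB x.2.2)⟩ : ↥M)) ⟨?_, ?_⟩
  · rintro ⟨⟨a, ha⟩, ⟨b, hb⟩⟩ ⟨⟨a', ha'⟩, ⟨b', hb'⟩⟩ hxy
    have hxy' : a * b = a' * b' := congrArg Subtype.val hxy
    have h1 : a'⁻¹ * a = b' * b⁻¹ := by
      calc a'⁻¹ * a = a'⁻¹ * (a * b) * b⁻¹ := by group
        _ = a'⁻¹ * (a' * b') * b⁻¹ := by rw [hxy']
        _ = b' * b⁻¹ := by group
    have h2 : a'⁻¹ * a ∈ A ⊓ B :=
      ⟨A.mul_mem (A.inv_mem ha') ha, by rw [h1]; exact B.mul_mem hb' (B.inv_mem hb)⟩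
    rw [hAB, Subgroup.mem_bot] at h2
    have ha_eq : a = a' := by
      calc a = a' * (a'⁻¹ * a) := by group
        _ = a' := by rw [h2, mul_one]
    subst ha_eq
    have hb_eq : b = b' := mul_left_cancel hxy'
    subst hb_eq
    rfl
  · rintro ⟨m, hm⟩
    obtain ⟨a, ha, b, hb, rfl⟩ := hdec m hm
    exact ⟨(⟨a, ha⟩, ⟨b, hb⟩), rfl⟩

/-- Let M be a subgroup of a finite group G with type-P data (W₁, U, W₂) and H = M_F. Then the derived subgroup of U centralizes H, and if U ≠ 1 then U does not centralize H. -/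
theorem result {G : Type*} [Group G] [Finite G] (M W₁ U W₂ : Subgroup G) (hP : Cfsg.IsTypePWith M W₁ U W₂) :
    ⁅U, U⁆ ≤ Subgroup.centralizer (Cfsg.fittingHallOf M : Set G) ∧ (U ≠ ⊥ → ¬ U ≤ Subgroup.centralizer (Cfsg.fittingHallOf M : Set G)) := by
  have hM' : ⁅M, M⁆ ≤ M := hP.W₁_compl.1
  have hW₁M : W₁ ≤ M := hP.W₁_compl.2.1
  have hUM' : U ≤ ⁅M, M⁆ := hP.U_compl.2.1
  have hHU : Cfsg.fittingHallOf M ⊓ U = ⊥ := hP.U_compl.2.2.1
  have hdec := hP.U_compl.2.2.2
  have hUM : U ≤ M := hUM'.trans hM'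
  have hUU : ⁅U, U⁆ ≤ U := Subgroup.commutator_le.mpr (fun a ha b hb => by
    rw [commutatorElement_def]
    exact U.mul_mem (U.mul_mem (U.mul_mem ha hb) (U.inv_mem ha)) (U.inv_mem hb))
  refine ⟨?_, ?_⟩
  · intro x hx
    have hxU : x ∈ U := hUU hx
    have hxF : x ∈ Cfsg.fittingOf M := by
      rw [← hP.fitting_eq]
      exact hP.derived_two_le (Subgroup.commutator_mono hUM' hUM' hx)
    rw [Cfsg.Agent.S1387.result M W₁ U W₂ hP] at hxF
    obtain ⟨a, ha, c, hc, rfl⟩ := Cfsg.Agent.Helper14.exists_mul_of_mem_sup_normalizer _ _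
      (inf_le_right.trans (Subgroup.centralizer_le_normalizer _)) hxF
    have haU : a ∈ U := by
      have : a = a * c * c⁻¹ := by group
      rw [this]; exact U.mul_mem hxU (U.inv_mem hc.1)
    have ha1 : a = 1 := by
      have : a ∈ Cfsg.fittingHallOf M ⊓ U := ⟨ha, haU⟩
      rwa [hHU, Subgroup.mem_bot] at this
    rw [ha1, one_mul]
    exact hc.2
  · intro hU1 hUC
    apply hU1
    obtain ⟨hFn, hFnil, hFc⟩ := Cfsg.Agent.S1474.fh_mem (G := ↥M)
    have hcH := Cfsg.Agent.S1387.card_fh_of M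
    have hc1 : Nat.card ↥M = Nat.card ↥⁅M, M⁆ * Nat.card ↥W₁ := card_of_complIn hP.W₁_compl
    have hc2 : Nat.card ↥⁅M, M⁆ = Nat.card ↥(Cfsg.fittingHallOf M) * Nat.card ↥U :=
      card_of_complIn hP.U_compl
    have hc3 : Nat.card ↥M = Nat.card ↥(Cfsg.fittingHall ↥M) * (Cfsg.fittingHall ↥M).index :=
      ((Cfsg.fittingHall ↥M).card_mul_index).symm
    have hc4 : Nat.card ↥M = Nat.card ↥W₁ * W₁.relIndex M :=
      Cfsg.Agent.Helper23.card_eq_card_mul_relIndex hW₁M
    have hc5 : Nat.card ↥M = Nat.card ↥U * U.relIndex M :=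
      Cfsg.Agent.Helper23.card_eq_card_mul_relIndex hUM
    have hHpos : 0 < Nat.card ↥(Cfsg.fittingHall ↥M) := Nat.card_pos
    have hUpos : 0 < Nat.card ↥U := Nat.card_pos
    have hWpos : 0 < Nat.card ↥W₁ := Nat.card_pos
    have hidx : (Cfsg.fittingHall ↥M).index = Nat.card ↥U * Nat.card ↥W₁ := by
      have : Nat.card ↥(Cfsg.fittingHall ↥M) * (Cfsg.fittingHall ↥M).index =
          Nat.card ↥(Cfsg.fittingHall ↥M) * (Nat.card ↥U * Nat.card ↥W₁) := by
        rw [← hc3, hc1, hc2, hcH]; ring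
      exact Nat.eq_of_mul_eq_mul_left hHpos this
    have hrelW : W₁.relIndex M = Nat.card ↥(Cfsg.fittingHallOf M) * Nat.card ↥U := by
      have : Nat.card ↥W₁ * W₁.relIndex M =
          Nat.card ↥W₁ * (Nat.card ↥(Cfsg.fittingHallOf M) * Nat.card ↥U) := by
        rw [← hc4, hc1, hc2]; ring
      exact Nat.eq_of_mul_eq_mul_left hWpos this
    have hrelU : U.relIndex M = Nat.card ↥(Cfsg.fittingHallOf M) * Nat.card ↥W₁ := by
      have : Nat.card ↥U * U.relIndex M =
          Nat.card ↥U * (Nat.card ↥(Cfsg.fittingHallOf M) * Nat.card ↥W₁) := by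
        rw [← hc5, hc1, hc2]; ring
      exact Nat.eq_of_mul_eq_mul_left hUpos this
    have hcopUH : (Nat.card ↥U).Coprime (Nat.card ↥(Cfsg.fittingHallOf M)) := by
      rw [hcH]
      exact (Nat.Coprime.coprime_dvd_right (Dvd.intro _ hidx.symm) hFc).symm
    have hcopUW : (Nat.card ↥U).Coprime (Nat.card ↥W₁) := by
      have := hP.W₁_hall
      rw [hrelW] at this
      exact (Nat.Coprime.coprime_dvd_right (Dvd.intro_left _ rfl) this).symm
    have hpowU : ∀ v ∈ U, v ^ (Cfsg.fittingHall ↥M).index = 1 := by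
      intro v hv
      apply Cfsg.Agent.S1387.pow_index_eq_one M v (hUM hv)
      intro k hk
      have : v ^ k ∈ Cfsg.fittingHallOf M ⊓ U := ⟨hk, U.pow_mem hv k⟩
      rwa [hHU, Subgroup.mem_bot] at this
    have hconj : ∀ m ∈ M, ∀ u ∈ U, m * u * m⁻¹ ∈ U := by
      intro m hm u hu
      have hy : m * u * m⁻¹ ∈ ⁅M, M⁆ := by
        have h1 : ⁅m, u⁆ ∈ ⁅M, M⁆ := Subgroup.commutator_mem_commutator hm (hUM hu)
        have h2 : m * u * m⁻¹ = ⁅m, u⁆ * u := by rw [commutatorElement_def]; group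
        rw [h2]; exact Subgroup.mul_mem _ h1 (hUM' hu)
      obtain ⟨a, ha, b, hb, hab⟩ := hdec _ hy
      have hyd : (m * u * m⁻¹) ^ (Cfsg.fittingHall ↥M).index = 1 := by
        rw [conj_pow, hpowU u hu]; simp
      have hcomm : Commute a b := (Subgroup.mem_centralizer_iff.mp (hUC hb)) a ha
      have had : a ^ (Cfsg.fittingHall ↥M).index = 1 := by
        have h3 : (a * b) ^ (Cfsg.fittingHall ↥M).index = 1 := by rw [← hab]; exact hyd
        rw [hcomm.mul_pow, hpowU b hb, mul_one] at h3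
        exact h3
      have han : a ^ Nat.card ↥(Cfsg.fittingHallOf M) = 1 := by
        have := pow_card_eq_one' (G := ↥(Cfsg.fittingHallOf M)) (x := ⟨a, ha⟩)
        have h5 := congrArg Subtype.val this
        rw [Subgroup.coe_pow, Subgroup.coe_one] at h5
        exact h5
      have ha1 : a = 1 := by
        have h4 := pow_gcd_eq_one.mpr ⟨han, had⟩
        rw [hcH, Nat.Coprime.gcd_eq_one hFc, pow_one] at h4
        exact h4
      rw [hab, ha1, one_mul]; exact hb
    have hUn : (U.subgroupOf M).Normal := by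
      refine ⟨fun x hx g => ?_⟩
      rw [Subgroup.mem_subgroupOf] at hx ⊢
      have := hconj g g.2 x hx
      simpa using this
    have hUnil : Group.IsNilpotent ↥(U.subgroupOf M) := by
      haveI := hP.U_nilpotent
      exact Group.nilpotent_of_mulEquiv (Subgroup.subgroupOfEquivOfLe hUM).symm
    have hUc : (Nat.card ↥(U.subgroupOf M)).Coprime (U.subgroupOf M).index := by
      rw [Nat.card_congr (Subgroup.subgroupOfEquivOfLe hUM).toEquiv]
      show (Nat.card ↥U).Coprime (U.relIndex M)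
      rw [hrelU]
      exact Nat.Coprime.mul_right hcopUH hcopUW
    have hle : U.subgroupOf M ≤ Cfsg.fittingHall ↥M := by
      unfold Cfsg.fittingHall
      exact le_sSup ⟨hUn, hUnil, hUc⟩
    rw [Subgroup.eq_bot_iff_forall]
    intro u hu
    have h1 : (⟨u, hUM hu⟩ : ↥M) ∈ Cfsg.fittingHall ↥M := hle (Subgroup.mem_subgroupOf.mpr hu)
    have h2 : u ∈ Cfsg.fittingHallOf M := Subgroup.mem_map.mpr ⟨_, h1, rfl⟩
    have : u ∈ Cfsg.fittingHallOf M ⊓ U := ⟨h2, hu⟩
    rwa [hHU, Subgroup.mem_bot] at this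

end Cfsg.Agent.S1388
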