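import Cfsg.Statements.S1396
import Cfsg.Agent.Helper21.TransHyp
import Cfsg.Agent.S1302
import Cfsg.Agent.S0629
import Cfsg.Agent.Helper23.SolvPSolv
import Mathlib
-- import your own Cfsg.Agent.* helpers here

set_option autoImplicit false
open Cfsg

namespace Cfsg.Agent.S1396

/-- Let G be a minimal simple group of odd order, p a prime dividing the order of G and A an abelian p-subgroup. Suppose either (1) A consists exactly of the elements x of C_G(A) with x^p = 1, and every proper subgroup of G has p-length at most one, or (2) A is normal and self-centralizing in some Sylow p-subgroup of G and has rank at least 2. Then A satisfies the transitivity hypothesis. -/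
theorem result {G : Type*} [Group G] [Finite G] (hG : Cfsg.IsMinSimpleOddOrder G)
    (p : ℕ) [Fact p.Prime] (hp : p ∣ Nat.card G) (A : Subgroup G) (hAp : IsPGroup p A) (hAc : IsMulCommutative A)
    (h : (∀ x ∈ Subgroup.centralizer (A : Set G), x ^ p = 1 ↔ x ∈ A) ∧ (∀ H : Subgroup G, H ≠ ⊤ → Cfsg.PLengthLE p 1 H) ∨
      ∃ P : Sylow p G, Cfsg.IsSCN (P : Subgroup G) A ∧ ¬ Cfsg.PRankLE p 1 A) :
    Cfsg.TransitivityHypothesis A := by
  classical
  have hpp : p.Prime := Fact.out
  haveI := hAc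
  have hp2 : p ≠ 2 := by
    intro h2
    have hodd := hG.1
    rw [h2] at hp
    exact (Nat.not_even_iff_odd.mpr hodd) (even_iff_two_dvd.mpr hp)
  -- elements of order p in C_G(A) lie in A
  have hΩG : ∀ x ∈ Subgroup.centralizer (A : Set G), orderOf x = p → x ∈ A := by
    intro x hx hord
    rcases h with ⟨h1, -⟩ | ⟨P, ⟨hAP, hPN, hPC⟩, -⟩
    · exact (h1 x hx).mp (by rw [← hord]; exact pow_orderOf_eq_one x)
    · obtain ⟨N, hN⟩ : ∃ N : Subgroup G, N = Subgroup.normalizer (A : Set G) := ⟨_, rfl⟩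
      rw [← hN] at hPN
      have hxN : x ∈ N := by rw [hN]; exact Subgroup.centralizer_le_normalizer _ hx
      have hxp : IsPGroup p (Subgroup.zpowers x) := by
        apply IsPGroup.of_card (n := 1)
        rw [Nat.card_zpowers, hord, pow_one]
      have hY : IsPGroup p (A ⊔ Subgroup.zpowers x : Subgroup G) := by
        apply IsPGroup.to_sup_of_normal_left' hAp hxp
        rw [Subgroup.zpowers_le, ← hN]
        exact hxN
      have hYN : A ⊔ Subgroup.zpowers x ≤ N := by
        apply sup_le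
        · rw [hN]; exact Subgroup.le_normalizer
        · rw [Subgroup.zpowers_le]; exact hxN
      have hY' : IsPGroup p ((A ⊔ Subgroup.zpowers x : Subgroup G).subgroupOf N) :=
        hY.comap_subtype
      obtain ⟨S', hS'⟩ := hY'.exists_le_sylow
      obtain ⟨g, hg⟩ := MulAction.exists_smul_eq (↥N) (P.subtype hPN) S'
      have hx' : (⟨x, hxN⟩ : ↥N) ∈ (S' : Subgroup ↥N) := by
        apply hS'
        rw [Subgroup.mem_subgroupOf]
        exact Subgroup.mem_sup_right (Subgroup.mem_zpowers x)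
      rw [← hg, Sylow.smul_def, Sylow.pointwise_smul_def,
        Subgroup.mem_pointwise_smul_iff_inv_smul_mem,
        MulAut.smul_def, MulAut.conj_inv_apply, Sylow.coe_subtype, Subgroup.mem_subgroupOf] at hx'
      have hgN : (g : G) ∈ Subgroup.normalizer (A : Set G) := hN ▸ g.2
      have hgN' : (g : G)⁻¹ ∈ Subgroup.normalizer (A : Set G) := inv_mem hgN
      have h1 : (g : G)⁻¹ * x * ((g : G)⁻¹)⁻¹ ∈ Subgroup.centralizer (A : Set G) :=
        Cfsg.Agent.Helper14.conj_mem_centralizer_of_mem_normalizer A _ hgN' x hx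
      rw [inv_inv] at h1
      have h2 : (g : G)⁻¹ * x * (g : G) ∈ A := by
        rw [← hPC]
        refine Subgroup.mem_inf.mpr ⟨?_, h1⟩
        simpa using hx'
      have h3 := (Subgroup.mem_normalizer_iff.mp hgN _).mp h2
      have e : (g : G) * ((g : G)⁻¹ * x * (g : G)) * (g : G)⁻¹ = x := by group
      rwa [e] at h3
  have hA1 : A ≠ ⊥ := by
    intro hbot
    rcases h with ⟨h1, -⟩ | ⟨P, -, hrk⟩
    · obtain ⟨x, hx⟩ := exists_prime_orderOf_dvd_card' p hp
      have hxc : x ∈ Subgroup.centralizer (A : Set G) := by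
        rw [Subgroup.mem_centralizer_iff]
        intro a ha
        have ha' : a ∈ A := ha
        rw [hbot, Subgroup.mem_bot] at ha'
        rw [ha', one_mul, mul_one]
      have hxA : x ∈ A := hΩG x hxc hx
      rw [hbot, Subgroup.mem_bot] at hxA
      rw [hxA, orderOf_one] at hx
      exact hpp.one_lt.ne hx
    · apply hrk
      intro A' _ _
      have h1 : Nat.card ↥A' ≤ Nat.card ↥A := Nat.le_of_dvd Nat.card_pos (Subgroup.card_subgroup_dvd_card A')
      have hAcard : Nat.card ↥A = 1 := by rw [hbot]; exact Subgroup.card_bot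
      rw [hAcard] at h1
      have : 1 ≤ p ^ 1 := Nat.one_le_pow _ _ hpp.pos
      omega
  have hA2 : A ≠ ⊤ := by
    intro htop
    apply hG.2.2.1
    refine ⟨⟨fun x y => ?_⟩⟩
    exact setLike_mul_comm (s := A) (htop ▸ Subgroup.mem_top x) (htop ▸ Subgroup.mem_top y)
  have hpA : p ∣ Nat.card ↥A := by
    obtain ⟨k, hk⟩ := IsPGroup.iff_card.1 hAp
    rcases Nat.eq_zero_or_pos k with h0 | h0
    · rw [h0, pow_zero] at hk
      exact absurd (Subgroup.card_eq_one.mp hk) hA1
    · exact hk ▸ dvd_pow_self p h0.ne'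
  refine ⟨hA1, hA2, fun X hX hAX => le_antisymm (sSup_le ?_) (le_sSup ?_)⟩
  · rintro Y ⟨hYX, hYπ, hAY⟩
    haveI : Group.IsSolvable ↥X := hG.2.2.2 X hX
    obtain ⟨P⟩ := (inferInstance : Nonempty (Sylow p ↥(Cfsg.pPrimePCore p ↥X)))
    have hc : Cfsg.IsPConstrained p ↥X :=
      Cfsg.Agent.S0629.result P (Cfsg.Agent.Helper23.isPSolvable_of_isSolvable p _)
    have hE'c : IsMulCommutative ↥(A.subgroupOf X) := by
      refine IsMulCommutative.of_setLike_mul_comm (fun x hx y hy => ?_)
      apply Subtype.ext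
      exact setLike_mul_comm (s := A) (Subgroup.mem_subgroupOf.mp hx) (Subgroup.mem_subgroupOf.mp hy)
    have hE'p : IsPGroup p ↥(A.subgroupOf X) := hAp.comap_subtype
    have hYp : ¬ p ∣ Nat.card ↥Y := fun hd => (hYπ p hpp hd).2 hpA
    have hK'p : ¬ p ∣ Nat.card ↥(Y.subgroupOf X) := by
      rw [Nat.card_congr (Subgroup.subgroupOfEquivOfLe hYX).toEquiv]
      exact hYp
    have hE'K' : A.subgroupOf X ≤ Subgroup.normalizer ((Y.subgroupOf X : Subgroup ↥X) : Set ↥X) := by
      intro e he
      have heE : (e : G) ∈ A := Subgroup.mem_subgroupOf.mp he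
      apply Cfsg.Agent.Helper14.mem_normalizer_of_forall
      · intro k hk
        rw [Subgroup.mem_subgroupOf] at hk ⊢
        exact (Subgroup.mem_normalizer_iff.mp (hAY heE) _).mp hk
      · intro k hk
        rw [Subgroup.mem_subgroupOf] at hk ⊢
        have := (Subgroup.mem_normalizer_iff.mp (hAY (A.inv_mem heE)) _).mp hk
        simpa using this
    have hmain : Y.subgroupOf X ≤ Cfsg.pPrimeCore p ↥X := by
      apply Cfsg.Agent.S1302.result p hp2 hc (A.subgroupOf X) hE'c hE'p ?_ _ hK'p hE'K'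
      intro x hx hxo
      rw [Subgroup.mem_subgroupOf]
      apply hΩG
      · rw [Subgroup.mem_centralizer_iff] at hx ⊢
        intro e he
        have := hx ⟨e, hAX he⟩ (Subgroup.mem_subgroupOf.mpr he)
        exact congrArg Subtype.val this
      · rw [Subgroup.orderOf_coe]; exact hxo
    have hcore : Cfsg.pPrimeCore p ↥X ≤ Cfsg.piCore (Cfsg.primesNotDvd (Nat.card ↥A)) ↥X := by
      apply sSup_le
      rintro N ⟨hNn, hNc⟩
      apply le_sSup
      refine ⟨hNn, fun r hr hrd => ⟨hr, fun hrA => ?_⟩⟩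
      obtain ⟨k, hk⟩ := IsPGroup.iff_card.1 hAp
      rw [hk] at hrA
      have hrp : r = p := (Nat.prime_dvd_prime_iff_eq hr hpp).mp (hr.dvd_of_dvd_pow hrA)
      rw [hrp] at hrd
      exact hpp.one_lt.ne' (Nat.Coprime.eq_one_of_dvd hNc.symm hrd)
    intro y hy
    exact ⟨⟨y, hYX hy⟩, hcore (hmain (Subgroup.mem_subgroupOf.mpr hy)), rfl⟩
  · exact ⟨Cfsg.Agent.Helper21.TransHyp.pco_le _ X, Cfsg.Agent.Helper21.TransHyp.pco_isPi _ X,
      fun a ha => Cfsg.Agent.Helper21.TransHyp.pco_norm _ X a (hAX ha)⟩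

end Cfsg.Agent.S1396
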