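-- S1446: proof by helper7
import Cfsg.Statements.S1446
import Mathlib
import Cfsg.Agent.Helper7.FrobF

set_option autoImplicit false
open Cfsg

namespace Cfsg.Agent.S1446

/-- Let X be a finite group with subgroups K, R, M such that: K and R are nontrivial, K ∩ R = 1, R normalizes K, no non-identity element of R centralizes a non-identity element of K, K ⊔ R is solvable of odd order; M is nilpotent and nontrivial, normalized by K and by R, with order coprime to that of K ⊔ R, M ∩ C(K) = 1, and M ∩ C(x) = M ∩ C(R) for all non-identity x ∈ R. Then R has prime order p, #M = #(M ∩ C(R)) ^ p, and if M ∩ C(R) is cyclic then [K, K] centralizes M. -/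
theorem result {X : Type*} [Group X] [Finite X] (K R M : Subgroup X) (hK1 : K ≠ ⊥) (hR1 : R ≠ ⊥) (hKR : K ⊓ R = ⊥)
    (hRK : R ≤ Subgroup.normalizer (K : Set X)) (hfrob : ∀ r ∈ R, r ≠ 1 → K ⊓ Subgroup.centralizer ({r} : Set X) = ⊥)
    (hsolv : Group.IsSolvable ↥(K ⊔ R)) (hodd : Odd (Nat.card ↥(K ⊔ R)))
    (hM1 : M ≠ ⊥) (hMn : Group.IsNilpotent M) (hKM : K ≤ Subgroup.normalizer (M : Set X)) (hRM : R ≤ Subgroup.normalizer (M : Set X))
    (hcop : (Nat.card ↥(K ⊔ R)).Coprime (Nat.card M)) (hCK : M ⊓ Subgroup.centralizer (K : Set X) = ⊥)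
    (hpr : ∀ x ∈ R, x ≠ 1 → M ⊓ Subgroup.centralizer ({x} : Set X) = M ⊓ Subgroup.centralizer (R : Set X)) :
    (Nat.card R).Prime ∧ Nat.card M = Nat.card ↥(M ⊓ Subgroup.centralizer (R : Set X)) ^ Nat.card R ∧
      (IsCyclic ↥(M ⊓ Subgroup.centralizer (R : Set X)) → ⁅K, K⁆ ≤ Subgroup.centralizer (M : Set X)) := by
  classical
  have hUn : ∀ e ∈ R, ∀ u ∈ K, e * u * e⁻¹ ∈ K := fun e he u hu =>
    (Subgroup.mem_normalizer_iff.mp (hRK he) u).mp hu
  have hfpf : ∀ e ∈ R, e ≠ 1 → ∀ u ∈ K, e * u = u * e → u = 1 := by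
    intro e he he1 u hu hc
    have h1 : u ∈ K ⊓ Subgroup.centralizer ({e} : Set X) :=
      Subgroup.mem_inf.mpr ⟨hu, Subgroup.mem_centralizer_iff.mpr (fun h hh => by
        rw [Set.mem_singleton_iff.mp hh]; exact hc)⟩
    rw [hfrob e he he1, Subgroup.mem_bot] at h1
    exact h1
  have hHn : ∀ x ∈ K ⊔ R, ∀ h ∈ M, x * h * x⁻¹ ∈ M := fun x hx h hh =>
    (Subgroup.mem_normalizer_iff.mp ((sup_le hKM hRM) hx) h).mp hh
  haveI := hMn
  have hMsolv : Group.IsSolvable M := inferInstance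
  have hcop' : (Nat.card M).Coprime (Nat.card ↥(K ⊔ R)) := hcop.symm
  have hform := Cfsg.Agent.Helper7.Frob.main_aux K R hUn hfpf (Nat.card M) M rfl hHn hMsolv hcop'
  have hCKR : M ⊓ Subgroup.centralizer ((K ⊔ R : Subgroup X) : Set X) = ⊥ := by
    rw [eq_bot_iff, ← hCK]
    exact inf_le_inf_left _ (Subgroup.centralizer_le
      (fun x hx => (le_sup_left : K ≤ K ⊔ R) hx))
  rw [hCKR, hCK, Subgroup.card_bot, one_pow, one_mul, mul_one] at hform
  have hprime : (Nat.card R).Prime := by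
    have hcard1 : Nat.card R ≠ 1 := fun h => hR1 (Subgroup.eq_bot_of_card_eq R h)
    obtain ⟨r, hr, hrdvd⟩ := Nat.exists_prime_and_dvd hcard1
    haveI : Fact r.Prime := ⟨hr⟩
    obtain ⟨x, hx⟩ := exists_prime_orderOf_dvd_card' r hrdvd
    have hxR : (x : X) ∈ R := x.2
    have hx1 : (x : X) ≠ 1 := by
      intro h
      have h2 : orderOf (x : X) = r := by rw [Subgroup.orderOf_coe, hx]
      rw [h, orderOf_one] at h2
      exact hr.ne_one h2.symm
    obtain ⟨R₀, hR₀⟩ : ∃ R₀ : Subgroup X, R₀ = Subgroup.zpowers (x : X) := ⟨_, rfl⟩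
    have hR₀R : R₀ ≤ R := by rw [hR₀]; exact (Subgroup.zpowers_le).mpr hxR
    have hR₀card : Nat.card R₀ = r := by
      rw [hR₀, Nat.card_zpowers, Subgroup.orderOf_coe, hx]
    have hle : K ⊔ R₀ ≤ K ⊔ R := sup_le_sup_left hR₀R K
    have hform₀ := Cfsg.Agent.Helper7.Frob.main_aux K R₀ (fun e he => hUn e (hR₀R he))
      (fun e he => hfpf e (hR₀R he)) (Nat.card M) M rfl (fun y hy => hHn y (hle hy)) hMsolv
      (Nat.Coprime.coprime_dvd_right (Subgroup.card_dvd_of_le hle) hcop')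
    have hCKR₀ : M ⊓ Subgroup.centralizer ((K ⊔ R₀ : Subgroup X) : Set X) = ⊥ := by
      rw [eq_bot_iff, ← hCK]
      exact inf_le_inf_left _ (Subgroup.centralizer_le
        (fun y hy => (le_sup_left : K ≤ K ⊔ R₀) hy))
    have hCR₀ : M ⊓ Subgroup.centralizer (R₀ : Set X)
        = M ⊓ Subgroup.centralizer (R : Set X) := by
      apply le_antisymm
      · rw [← hpr x hxR hx1]
        exact inf_le_inf_left _ (Subgroup.centralizer_le (by
          intro y hy
          rw [Set.mem_singleton_iff.mp hy, hR₀]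
          exact Subgroup.mem_zpowers _))
      · exact inf_le_inf_left _ (Subgroup.centralizer_le (fun y hy => hR₀R hy))
    rw [hCKR₀, hCK, Subgroup.card_bot, one_pow, one_mul, mul_one, hCR₀, hR₀card] at hform₀
    have hc2 : 2 ≤ Nat.card ↥(M ⊓ Subgroup.centralizer (R : Set X)) := by
      by_contra hlt
      have hpos : 0 < Nat.card ↥(M ⊓ Subgroup.centralizer (R : Set X)) := Nat.card_pos
      have hc1 : Nat.card ↥(M ⊓ Subgroup.centralizer (R : Set X)) = 1 := by omega
      rw [hc1, one_pow] at hform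
      exact hM1 (Subgroup.eq_bot_of_card_eq M hform)
    have hrR : r = Nat.card R := Nat.pow_right_injective hc2 (hform₀.symm.trans hform)
    rw [← hrR]; exact hr
  refine ⟨hprime, hform, fun hcyc => ?_⟩
  have hmain := Cfsg.Agent.Helper7.Frob.comm_main K R hR1 hUn hfpf (Nat.card M) M rfl hHn
    hMsolv hcop' hCK hcyc
  rw [Subgroup.commutator_le]
  intro g₁ hg₁ g₂ hg₂
  rw [Subgroup.mem_centralizer_iff]
  intro h hh
  exact (hmain g₁ hg₁ g₂ hg₂ h hh).symm

end Cfsg.Agent.S1446
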