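import Cfsg.Statements.S1453
import Mathlib
import Cfsg.Agent.S1452

set_option autoImplicit false
open Cfsg
open scoped commutatorElement

namespace Cfsg.Agent.S1453

theorem pow_comm_of_comm {G : Type*} [Group G] (x y c : G) (hyx : y * x = x * y * c)
    (hcy : c * y = y * c) (k : ℕ) : y ^ k * x = x * y ^ k * c ^ k := by
  have hCy : Commute c y := hcy
  induction k with
  | zero => simp
  | succ k ih =>
    calc y ^ (k + 1) * x = y * (y ^ k * x) := by rw [pow_succ']; group
      _ = y * (x * y ^ k * c ^ k) := by rw [ih]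
      _ = (y * x) * y ^ k * c ^ k := by group
      _ = x * y * c * y ^ k * c ^ k := by rw [hyx]
      _ = x * y * (c * y ^ k) * c ^ k := by group
      _ = x * y * (y ^ k * c) * c ^ k := by rw [(hCy.pow_right k).eq]
      _ = x * y ^ (k + 1) * c ^ (k + 1) := by rw [pow_succ' y, pow_succ' c]; group

theorem zpowers_elab {G : Type*} [Group G] (p : ℕ) (w : G) (hw : w ^ p = 1) :
    (∀ a ∈ Subgroup.zpowers w, ∀ b ∈ Subgroup.zpowers w, a * b = b * a) ∧
      (∀ a ∈ Subgroup.zpowers w, a ^ p = 1) := by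
  constructor
  · intro a ha b hb
    obtain ⟨i, rfl⟩ := Subgroup.mem_zpowers_iff.mp ha
    obtain ⟨j, rfl⟩ := Subgroup.mem_zpowers_iff.mp hb
    rw [← zpow_add, ← zpow_add, add_comm]
  · intro a ha
    obtain ⟨i, rfl⟩ := Subgroup.mem_zpowers_iff.mp ha
    rw [← zpow_natCast, ← zpow_mul, mul_comm, zpow_mul, zpow_natCast, hw, one_zpow]

/-- Let p be an odd prime and R a finite p-group with an elementary abelian subgroup of order p ^ 3 and an elementary abelian subgroup E of order p ^ 2 contained in no larger elementary abelian subgroup. Let Z₂ be the second centre of R, W the subgroup generated by the elements of Z₂ of order dividing p, and T = C_R(W). Then E is not contained in T; the elements of order dividing p of the centre of R generate a group of order p; W is elementary abelian of order p ^ 2; and T is characteristic in R of index p. -/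
theorem result {R : Type*} [Group R] [Finite R] (p : ℕ) [Fact p.Prime] (hp : p ≠ 2) (hR : IsPGroup p R) (hr : ¬ Cfsg.PRankLE p 2 R)
    (E : Subgroup R) (hE : Cfsg.IsElementaryAbelian p E) (hE2 : Nat.card E = p ^ 2)
    (hEmax : ∀ B : Subgroup R, Cfsg.IsElementaryAbelian p B → E ≤ B → B = E) :
    ¬ E ≤ Subgroup.centralizer ((Subgroup.closure {x : R | x ∈ Subgroup.upperCentralSeries R 2 ∧ x ^ p = 1} : Subgroup R) : Set R) ∧
      Nat.card ↥(Subgroup.closure {x : R | x ∈ Subgroup.center R ∧ x ^ p = 1}) = p ∧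
      (Cfsg.IsElementaryAbelian p (Subgroup.closure {x : R | x ∈ Subgroup.upperCentralSeries R 2 ∧ x ^ p = 1}) ∧
        Nat.card ↥(Subgroup.closure {x : R | x ∈ Subgroup.upperCentralSeries R 2 ∧ x ^ p = 1}) = p ^ 2) ∧
      (Subgroup.centralizer ((Subgroup.closure {x : R | x ∈ Subgroup.upperCentralSeries R 2 ∧ x ^ p = 1} : Subgroup R) : Set R)).Characteristic ∧
      (Subgroup.centralizer ((Subgroup.closure {x : R | x ∈ Subgroup.upperCentralSeries R 2 ∧ x ^ p = 1} : Subgroup R) : Set R)).index = p := by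
  have hpp : p.Prime := Fact.out
  have hEc := (S1337.comm_iff E).mp hE.1
  have hEp := hE.2
  -- maximality of E, usable forms
  have hmaxB : ∀ B : Subgroup R, (∀ a ∈ B, ∀ b ∈ B, a * b = b * a) → (∀ a ∈ B, a ^ p = 1) →
      (∀ a ∈ E, ∀ b ∈ B, a * b = b * a) → B ≤ E := by
    intro B hBc hBp hEB
    obtain ⟨h1, h2⟩ := S1337.sup_elab p E B hEc hEp hBc hBp hEB
    have h3 := hEmax (E ⊔ B) ⟨(S1337.comm_iff _).mpr h1, h2⟩ le_sup_left
    rw [← h3]; exact le_sup_right
  have hmaxel : ∀ w : R, w ^ p = 1 → (∀ e ∈ E, e * w = w * e) → w ∈ E := by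
    intro w hw hwE
    obtain ⟨hzc, hzp⟩ := zpowers_elab p w hw
    have hEz : ∀ a ∈ E, ∀ b ∈ Subgroup.zpowers w, a * b = b * a := by
      intro a ha b hb
      obtain ⟨i, rfl⟩ := Subgroup.mem_zpowers_iff.mp hb
      exact ((show Commute a w from hwE a ha).zpow_right i).eq
    exact hmaxB _ hzc hzp hEz (Subgroup.mem_zpowers w)
  -- E is not normal
  have hEnn : ¬ E.Normal := by
    intro hEn
    have hrC := S1337.rank_centralizer_normal p hR hr E hEn hEc hEp hE2
    unfold Cfsg.PRankLE at hrC
    push Not at hrC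
    obtain ⟨B, hBc, hBp, hBcard⟩ := hrC
    have hB' : B.map (Subgroup.centralizer (E : Set R)).subtype ≤ E := by
      apply hmaxB
      · rintro _ ⟨a, ha, rfl⟩ _ ⟨b, hb, rfl⟩
        have h1 := (S1337.comm_iff B).mp hBc a ha b hb
        exact congrArg Subtype.val h1
      · rintro _ ⟨a, ha, rfl⟩
        have h1 := congrArg Subtype.val (hBp a ha)
        simpa using h1
      · rintro a ha _ ⟨b, hb, rfl⟩
        exact Subgroup.mem_centralizer_iff.mp b.2 a ha
    have h1 := Subgroup.card_le_of_le hB'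
    rw [Subgroup.card_map_of_injective (Subgroup.subtype_injective _), hE2] at h1
    omega
  -- subgroups of E
  have hsubE : ∀ K : Subgroup R, K ≤ E → K ≠ E → Nat.card K ≤ p := by
    intro K hKE hne
    obtain ⟨j, hj⟩ := IsPGroup.iff_card.mp (hR.to_subgroup K)
    have h1 : Nat.card K ∣ Nat.card E := Subgroup.card_dvd_of_le hKE
    rw [hj, hE2] at h1
    have h2 : j ≤ 2 := (Nat.pow_dvd_pow_iff_le_right hpp.one_lt).mp h1
    have h3 : j ≠ 2 := by
      intro h
      apply hne
      exact Subgroup.eq_of_le_of_card_ge hKE (by rw [hE2, hj, h])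
    rw [hj]
    calc p ^ j ≤ p ^ 1 := Nat.pow_le_pow_right hpp.pos (by omega)
      _ = p := pow_one p
  -- Z
  obtain ⟨Z, hZdef⟩ : ∃ Z, Z = Subgroup.closure {x : R | x ∈ Subgroup.center R ∧ x ^ p = 1} :=
    ⟨_, rfl⟩
  have hZcen : Z ≤ Subgroup.center R := by
    rw [hZdef, Subgroup.closure_le]; intro x hx; exact hx.1
  have hZp : ∀ z ∈ Z, z ^ p = 1 := by
    intro z hz
    have hz' := hz
    rw [hZdef] at hz'
    induction hz' using Subgroup.closure_induction with
    | mem x hx => exact hx.2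
    | one => exact one_pow p
    | mul x y hx hy ihx ihy =>
      have hxc : x ∈ Subgroup.center R := by
        have : x ∈ Z := by rw [hZdef]; exact hx
        exact hZcen this
      have hcomm : Commute x y := (Subgroup.mem_center_iff.mp hxc y).symm
      have hxZ : x ∈ Z := by rw [hZdef]; exact hx
      have hyZ : y ∈ Z := by rw [hZdef]; exact hy
      rw [hcomm.mul_pow, ihx hxZ, ihy hyZ, one_mul]
    | inv x hx ih =>
      have hxZ : x ∈ Z := by rw [hZdef]; exact hx
      rw [inv_pow, ih hxZ, inv_one]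
  have hZcomm : ∀ a ∈ Z, ∀ b : R, a * b = b * a := fun a ha b =>
    (Subgroup.mem_center_iff.mp (hZcen ha) b).symm
  have hZE : Z ≤ E := hmaxB Z (fun a ha b _ => hZcomm a ha b) hZp
    (fun a _ b hb => (hZcomm b hb a).symm)
  have hZnE : Z ≠ E := by
    intro h
    apply hEnn
    rw [← h]
    constructor
    intro z hz g
    rw [Subgroup.mem_center_iff.mp (hZcen hz) g, mul_inv_cancel_right]
    exact hz
  have hZnb : Z ≠ ⊥ := by
    haveI : Nontrivial R := by
      rw [← Finite.one_lt_card_iff_nontrivial]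
      have h1 : Nat.card E ≤ Nat.card R := Subgroup.card_le_card_group E
      have h2 : 1 < p ^ 2 := Nat.one_lt_pow (by norm_num) hpp.one_lt
      omega
    haveI := hR.center_nontrivial
    obtain ⟨⟨z, hzc⟩, hz1⟩ := exists_ne (1 : Subgroup.center R)
    have hz1' : z ≠ 1 := fun h => hz1 (Subtype.ext h)
    obtain ⟨k, hk⟩ := IsPGroup.iff_orderOf.mp hR z
    have hk0 : k ≠ 0 := by
      intro h
      rw [h, pow_zero, orderOf_eq_one_iff] at hk
      exact hz1' hk
    have hz'p : (z ^ (p ^ (k - 1))) ^ p = 1 := by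
      rw [← pow_mul, ← pow_succ, Nat.sub_add_cancel (Nat.pos_of_ne_zero hk0), ← hk, pow_orderOf_eq_one]
    have hz'1 : z ^ (p ^ (k - 1)) ≠ 1 := by
      apply pow_ne_one_of_lt_orderOf (pow_pos hpp.pos _).ne'
      rw [hk]
      exact Nat.pow_lt_pow_right hpp.one_lt (by omega)
    have hmem : z ^ (p ^ (k - 1)) ∈ Z := by
      rw [hZdef]
      exact Subgroup.subset_closure ⟨pow_mem hzc _, hz'p⟩
    intro hbot
    rw [hbot, Subgroup.mem_bot] at hmem
    exact hz'1 hmem
  have hZcard : Nat.card Z = p := by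
    obtain ⟨j, hj⟩ := IsPGroup.iff_card.mp (hR.to_subgroup Z)
    have h1 := hsubE Z hZE hZnE
    have h2 : j ≠ 0 := by
      intro h
      rw [h, pow_zero] at hj
      exact hZnb (Subgroup.card_eq_one.mp hj)
    rw [hj] at h1 ⊢
    have h3 : j ≤ 1 := by
      by_contra hcon
      have : p ^ 2 ≤ p ^ j := Nat.pow_le_pow_right hpp.pos (by omega)
      have : p < p ^ 2 := by
        calc p = p ^ 1 := (pow_one p).symm
          _ < p ^ 2 := Nat.pow_lt_pow_right hpp.one_lt (by norm_num)
      omega
    have : j = 1 := by omega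
    rw [this, pow_one]
  -- W
  obtain ⟨W, hWdef⟩ : ∃ W, W = Subgroup.closure
      {x : R | x ∈ Subgroup.upperCentralSeries R 2 ∧ x ^ p = 1} := ⟨_, rfl⟩
  rw [← hWdef, ← hZdef]
  have hZ2 : ∀ x : R, x ∈ Subgroup.upperCentralSeries R 2 ↔ ∀ y, ⁅x, y⁆ ∈ Subgroup.center R := by
    intro x
    rw [show (2 : ℕ) = 1 + 1 from rfl, Subgroup.mem_upperCentralSeries_succ_iff,
      Subgroup.upperCentralSeries_one]
  have hWZ2 : W ≤ Subgroup.upperCentralSeries R 2 := by
    rw [hWdef, Subgroup.closure_le]; intro x hx; exact hx.1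
  have hdvd : p ∣ ∑ i ∈ Finset.range p, i := by
    have h2' := Finset.sum_range_id_mul_two p
    have hcop : Nat.Coprime p 2 := (Nat.coprime_primes hpp Nat.prime_two).mpr hp
    exact hcop.dvd_of_dvd_mul_right (by rw [h2']; exact dvd_mul_right p (p - 1))
  have hWp : ∀ w ∈ W, w ^ p = 1 := by
    intro w hw
    have hw' := hw
    rw [hWdef] at hw'
    induction hw' using Subgroup.closure_induction with
    | mem x hx => exact hx.2
    | one => exact one_pow p
    | mul x y hx hy ihx ihy =>
      have hxW : x ∈ W := by rw [hWdef]; exact hx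
      have hyW : y ∈ W := by rw [hWdef]; exact hy
      obtain ⟨c, hcdef⟩ : ∃ c, c = ⁅y⁻¹, x⁻¹⁆ := ⟨_, rfl⟩
      have hcc : c ∈ Subgroup.center R := by
        rw [hcdef]; exact (hZ2 _).mp (hWZ2 (inv_mem hyW)) x⁻¹
      have hcg : ∀ g : R, c * g = g * c := fun g => (Subgroup.mem_center_iff.mp hcc g).symm
      have hyx : y * x = x * y * c := by rw [hcdef, commutatorElement_def]; group
      have h1 := S1452.mul_pow_of_comm x y c hyx (hcg x) (hcg y) p
      have h2 := pow_comm_of_comm x y c hyx (hcg y) p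
      rw [ihy hyW, one_mul, mul_one] at h2
      have hcp : c ^ p = 1 := by
        have : x * 1 = x * c ^ p := by rw [mul_one]; exact h2
        exact (mul_left_cancel this).symm
      obtain ⟨k, hk⟩ := hdvd
      rw [h1, ihx hxW, ihy hyW, one_mul, one_mul, hk, pow_mul, hcp, one_pow]
    | inv x hx ih =>
      have hxW : x ∈ W := by rw [hWdef]; exact hx
      rw [inv_pow, ih hxW, inv_one]
  have hWchar : W.Characteristic := by
    rw [Subgroup.characteristic_iff_map_le]
    intro φ
    rw [hWdef, MonoidHom.map_closure, Subgroup.closure_le]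
    rintro _ ⟨x, ⟨hx2, hxp⟩, rfl⟩
    apply Subgroup.subset_closure
    refine ⟨?_, ?_⟩
    · rw [hZ2] at hx2 ⊢
      intro y
      have h1 := hx2 (φ.symm y)
      have h2 : φ ⁅x, φ.symm y⁆ ∈ Subgroup.center R := by
        have hc : (Subgroup.center R).Characteristic := inferInstance
        exact (Subgroup.characteristic_iff_map_le.mp hc φ) (Subgroup.mem_map_of_mem _ h1)
      rw [map_commutatorElement, MulEquiv.apply_symm_apply] at h2
      exact h2
    · show (φ x) ^ p = 1
      rw [← map_pow, hxp, map_one]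
  haveI hWn : W.Normal := inferInstance
  have hWR : ∀ w ∈ W, ∀ r : R, ⁅w, r⁆ ∈ Z := by
    intro w hw r
    rw [hZdef]
    apply Subgroup.subset_closure
    refine ⟨(hZ2 w).mp (hWZ2 hw) r, ?_⟩
    apply hWp
    have : ⁅w, r⁆ = w * (r * w⁻¹ * r⁻¹) := by rw [commutatorElement_def]; group
    rw [this]
    exact mul_mem hw (hWn.conj_mem _ (inv_mem hw) r)
  -- U
  obtain ⟨U, hUn, hUp, hU2⟩ := S1337.exists_normal_rank_two p hR hr
  have hUW : U ≤ W := by
    haveI := hUn
    obtain ⟨A', hA'n, hA'U, hA'card, hA'⟩ := S0129.exists_sub hR U 1 hU2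
    haveI := hA'n
    obtain ⟨A'', -, -, hA''card, hA''⟩ := S0129.exists_sub hR A' 0 (by rw [hA'card])
    have hA''bot : A'' = ⊥ := Subgroup.card_eq_one.mp (by rw [hA''card, pow_zero])
    have hA'cen : A' ≤ Subgroup.center R := by
      intro x hx
      rw [Subgroup.mem_center_iff]
      intro g
      have h1 := hA'' g x hx
      rw [hA''bot, Subgroup.mem_bot] at h1
      calc g * x = (g * x * g⁻¹ * x⁻¹) * (x * g) := by group
        _ = x * g := by rw [h1, one_mul]
    intro u hu
    rw [hWdef]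
    apply Subgroup.subset_closure
    refine ⟨(hZ2 u).mpr (fun y => ?_), hUp u hu⟩
    apply hA'cen
    have h1 := hA' y u⁻¹ (inv_mem hu)
    have h2 : ⁅u, y⁆ = u * (y * u⁻¹ * y⁻¹ * u⁻¹⁻¹) * u⁻¹ := by
      rw [commutatorElement_def]; group
    rw [h2]
    exact hA'n.conj_mem _ h1 u
  -- E ≰ W
  have hEW : ¬ E ≤ W := by
    intro h
    apply hEnn
    constructor
    intro e he r
    have h1 : r * e * r⁻¹ = (⁅e, r⁆)⁻¹ * e := by rw [commutatorElement_def]; group
    rw [h1]
    exact mul_mem (inv_mem (hZE (hWR e (h he) r))) he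
  have hWEcard : Nat.card (W ⊓ E : Subgroup R) ≤ p :=
    hsubE _ inf_le_right (fun h => hEW (h ▸ inf_le_left))
  -- |W| ≤ p * |W ⊓ E|
  obtain ⟨e, heE, heZ⟩ := SetLike.exists_of_lt (lt_of_le_of_ne hZE hZnE)
  have hgen : ∀ K : Subgroup R, Z ≤ K → e ∈ K → K ≤ E → K = E := by
    intro K hZK heK hKE
    by_contra hne
    have h1 := hsubE K hKE hne
    have h2 : Z = K := Subgroup.eq_of_le_of_card_ge hZK (by rw [hZcard]; exact h1)
    exact heZ (h2 ▸ heK)
  obtain ⟨φ, hφ⟩ : ∃ φ : W →* Z, ∀ w : W, ((φ w : Z) : R) = ⁅(w : R), e⁆ := by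
    refine ⟨{ toFun := fun w => ⟨⁅(w : R), e⁆, hWR w w.2 e⟩
              map_one' := ?_
              map_mul' := ?_ }, fun w => rfl⟩
    · apply Subtype.ext
      show ⁅((1 : W) : R), e⁆ = 1
      rw [commutatorElement_def]; simp
    · intro a b
      apply Subtype.ext
      show ⁅((a * b : W) : R), e⁆ = ⁅(a : R), e⁆ * ⁅(b : R), e⁆
      have hb : ⁅(b : R), e⁆ ∈ Subgroup.center R := hZcen (hWR b b.2 e)
      calc ⁅((a * b : W) : R), e⁆ = (a : R) * ⁅(b : R), e⁆ * (a : R)⁻¹ * ⁅(a : R), e⁆ := by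
            simp only [commutatorElement_def, Subgroup.coe_mul]; group
        _ = ⁅(b : R), e⁆ * (a : R) * (a : R)⁻¹ * ⁅(a : R), e⁆ := by
            rw [Subgroup.mem_center_iff.mp hb (a : R)]
        _ = ⁅(a : R), e⁆ * ⁅(b : R), e⁆ := by
            rw [mul_inv_cancel_right]
            exact (Subgroup.mem_center_iff.mp hb _).symm
  have hker : φ.ker ≤ (W ⊓ E).subgroupOf W := by
    intro w hw
    rw [MonoidHom.mem_ker] at hw
    have h1 : ⁅(w : R), e⁆ = 1 := by
      rw [← hφ w, hw]; rfl
    rw [commutatorElement_eq_one_iff_mul_comm] at h1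
    rw [Subgroup.mem_subgroupOf]
    refine ⟨w.2, ?_⟩
    apply hmaxel _ (hWp w w.2)
    have hK := hgen (E ⊓ Subgroup.centralizer {(w : R)})
      (le_inf hZE (fun z hz => by
        rw [Subgroup.mem_centralizer_iff]
        intro h hh
        rw [Set.mem_singleton_iff] at hh
        rw [hh]
        exact (hZcomm z hz _).symm))
      ⟨heE, by
        show e ∈ Subgroup.centralizer {(w : R)}
        rw [Subgroup.mem_centralizer_iff]
        intro h hh
        rw [Set.mem_singleton_iff] at hh
        rw [hh]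
        exact h1⟩
      inf_le_left
    intro e' he'
    have h2 : e' ∈ E ⊓ Subgroup.centralizer {(w : R)} := by rw [hK]; exact he'
    have h3 := Subgroup.mem_centralizer_iff.mp h2.2 (w : R) rfl
    exact h3.symm
  have hWcard_le : Nat.card W ≤ p ^ 2 := by
    have h1 : Nat.card φ.ker * φ.ker.index = Nat.card W := Subgroup.card_mul_index φ.ker
    rw [Subgroup.index_ker] at h1
    have h2 : Nat.card φ.range ≤ p := by
      have := Subgroup.card_le_card_group φ.range
      rw [hZcard] at this
      exact this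
    have h3 : Nat.card φ.ker ≤ p := by
      have h4 := Subgroup.card_le_of_le hker
      rw [Nat.card_congr (Subgroup.subgroupOfEquivOfLe (inf_le_left : W ⊓ E ≤ W)).toEquiv] at h4
      exact h4.trans hWEcard
    rw [← h1, pow_two]
    exact Nat.mul_le_mul h3 h2
  have hUeqW : U = W := Subgroup.eq_of_le_of_card_ge hUW (by rw [hU2]; exact hWcard_le)
  have hW2 : Nat.card W = p ^ 2 := by rw [← hUeqW]; exact hU2
  have hWcomm : IsMulCommutative W := IsPGroup.isMulCommutative_of_card_eq_prime_sq hW2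
  -- E ≰ T
  have hET : ¬ E ≤ Subgroup.centralizer (W : Set R) := by
    intro h
    have hWE : W ≤ E := by
      intro w hw
      apply hmaxel w (hWp w hw)
      intro e' he'
      exact (Subgroup.mem_centralizer_iff.mp (h he') w hw).symm
    have : W = E := Subgroup.eq_of_le_of_card_ge hWE (by rw [hE2, hW2])
    exact hEW (this ▸ le_refl _)
  refine ⟨hET, hZcard, ⟨⟨hWcomm, hWp⟩, hW2⟩, ?_, ?_⟩
  · haveI := hWchar
    infer_instance
  · have hidx := S0129.index_centralizer_le hR 2 W hWn hW2
    have hsum : (∑ i ∈ Finset.range 2, i) = 1 := by decide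
    rw [hsum, pow_one] at hidx
    have hne1 : (Subgroup.centralizer (W : Set R)).index ≠ 1 := by
      intro h
      rw [Subgroup.index_eq_one] at h
      exact hET (h ▸ le_top)
    obtain ⟨n, hn⟩ := IsPGroup.iff_card.mp hR
    have hd : (Subgroup.centralizer (W : Set R)).index ∣ p ^ n := by
      rw [← hn]; exact Subgroup.index_dvd_card _
    obtain ⟨j, -, hj⟩ := (Nat.dvd_prime_pow hpp).mp hd
    rw [hj] at hidx hne1 ⊢
    have hj0 : j ≠ 0 := by
      intro h; rw [h, pow_zero] at hne1; exact hne1 rfl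
    have hj1 : j ≤ 1 := by
      by_contra hcon
      have : p ^ 2 ≤ p ^ j := Nat.pow_le_pow_right hpp.pos (by omega)
      have : p < p ^ 2 := by
        calc p = p ^ 1 := (pow_one p).symm
          _ < p ^ 2 := Nat.pow_lt_pow_right hpp.one_lt (by norm_num)
      omega
    have : j = 1 := by omega
    rw [this, pow_one]

end Cfsg.Agent.S1453
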