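import Cfsg.Statements.S1457
import Cfsg.Agent.Helper21.OddStable
import Cfsg.Agent.Helper23.SolvPSolv
import Mathlib
-- import your own Cfsg.Agent.* helpers here

set_option autoImplicit false
open Cfsg

namespace Cfsg.Agent.S1457

open scoped commutatorElement


/-- Let G be a solvable group of odd order, p a prime, S a Sylow p-subgroup of G and A an abelian subgroup of S normal in S. Then A ≤ O_{p',p}(G). -/
theorem result {G : Type*} [Group G] [Finite G] [Group.IsSolvable G] (hodd : Odd (Nat.card G)) (p : ℕ) [Fact p.Prime] (S : Sylow p G) (A : Subgroup G) (hA : A ≤ (S : Subgroup G)) (hAc : IsMulCommutative A)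
    (hAn : (S : Subgroup G) ≤ Subgroup.normalizer (A : Set G)) :
    A ≤ Cfsg.pPrimePCore p G := by
  have hpr : p.Prime := Fact.out
  by_cases hp2 : p = 2
  · have hS1 : (S : Subgroup G) = ⊥ := by
      obtain ⟨n, hn⟩ := IsPGroup.iff_card.mp S.2
      have hdvd : Nat.card (S : Subgroup G) ∣ Nat.card G := Subgroup.card_subgroup_dvd_card _
      have hn0 : n = 0 := by
        by_contra hne
        have h1 : 2 ∣ Nat.card G := by
          refine dvd_trans ?_ hdvd
          rw [hn, hp2]; exact dvd_pow_self 2 hne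
        exact (Nat.not_even_iff_odd.2 hodd) (even_iff_two_dvd.2 h1)
      rw [hn0, pow_zero] at hn
      exact Subgroup.card_eq_one.mp hn
    rw [hS1] at hA
    exact hA.trans bot_le
  · intro a ha
    show QuotientGroup.mk' (Cfsg.pPrimeCore p G) a ∈ Cfsg.pCore p (G ⧸ Cfsg.pPrimeCore p G)
    obtain ⟨π, hπ⟩ : ∃ π : G →* G ⧸ Cfsg.pPrimeCore p G, π = QuotientGroup.mk' _ := ⟨_, rfl⟩
    have hπs : Function.Surjective π := by rw [hπ]; exact QuotientGroup.mk'_surjective _
    rw [← hπ]
    have hsolvQ : Group.IsSolvable (G ⧸ Cfsg.pPrimeCore p G) :=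
      Group.isSolvable_of_surjective hπs
    have hoddQ : Odd (Nat.card (G ⧸ Cfsg.pPrimeCore p G)) :=
      Odd.of_dvd_nat hodd (Subgroup.card_quotient_dvd_card _)
    have hO : Cfsg.pPrimeCore p (G ⧸ Cfsg.pPrimeCore p G) = ⊥ :=
      Cfsg.Agent.Helper23.pPrimeCore_quotient_pPrimeCore p
    have hc := Cfsg.Agent.Helper23.hall_higman
      (Cfsg.Agent.Helper23.isPSolvable_of_isSolvable p (G ⧸ Cfsg.pPrimeCore p G)) hO
    apply Cfsg.Agent.Helper21.OddStable.mem_pCore_of_quad hsolvQ hoddQ hp2 hc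
    have hTn : (Cfsg.pCore p (G ⧸ Cfsg.pPrimeCore p G)).Normal :=
      Cfsg.Agent.Helper23.pCore_normal_fin p
    have hTp : IsPGroup p (Cfsg.pCore p (G ⧸ Cfsg.pPrimeCore p G)) :=
      Cfsg.Agent.Helper23.pCore_isPGroup p
    have hTS : Cfsg.pCore p (G ⧸ Cfsg.pPrimeCore p G) ≤ (S : Subgroup G).map π := by
      have h1 := Cfsg.Agent.Helper23.le_sylow_of_normal hTn hTp (S.mapSurjective hπs)
      rw [Sylow.coe_mapSurjective] at h1
      exact h1
    have h1 : ⁅Cfsg.pCore p (G ⧸ Cfsg.pPrimeCore p G), Subgroup.zpowers (π a)⁆ ≤ A.map π := by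
      rw [Subgroup.commutator_le]
      intro t ht y hy
      obtain ⟨s, hs, rfl⟩ := hTS ht
      have hyA : y ∈ A.map π := by
        have h2 : Subgroup.zpowers (π a) ≤ A.map π :=
          Subgroup.zpowers_le.mpr (Subgroup.mem_map_of_mem _ ha)
        exact h2 hy
      obtain ⟨b, hb, rfl⟩ := hyA
      have h3 : s * b * s⁻¹ ∈ A := (Subgroup.mem_normalizer_iff.mp (hAn hs) b).mp hb
      have h4 : ⁅π s, π b⁆ = π (s * b * s⁻¹ * b⁻¹) := by
        rw [commutatorElement_def, map_mul, map_mul, map_mul, map_inv, map_inv]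
      rw [h4]
      exact Subgroup.mem_map_of_mem _ (A.mul_mem h3 (A.inv_mem hb))
    rw [eq_bot_iff, Subgroup.commutator_le]
    intro x hx y hy
    rw [Subgroup.mem_bot, commutatorElement_eq_one_iff_mul_comm]
    obtain ⟨x', hx', rfl⟩ := h1 hx
    have hyA : y ∈ A.map π := by
      have h2 : Subgroup.zpowers (π a) ≤ A.map π :=
        Subgroup.zpowers_le.mpr (Subgroup.mem_map_of_mem _ ha)
      exact h2 hy
    obtain ⟨y', hy', rfl⟩ := hyA
    rw [← map_mul, ← map_mul,
      Cfsg.Agent.Helper23.comm_of_isMulCommutative hAc x' hx' y' hy']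

end Cfsg.Agent.S1457
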