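import Cfsg.Statements.S1458
import Cfsg.Agent.Helper21.ZJFull
import Cfsg.Agent.Helper21.OddStable
import Cfsg.Agent.Helper7.PLayer
import Cfsg.Agent.Helper7.CharP
import Mathlib
-- import your own Cfsg.Agent.* helpers here

set_option autoImplicit false
open Cfsg

namespace Cfsg.Agent.S1458

/-- Let G be a solvable group of odd order, p a prime and S a Sylow p-subgroup of G. Then the subgroup generated by the centre of the Thompson subgroup of S and O_{p'}(G) is normal in G. -/
theorem result {G : Type*} [Group G] [Finite G] [Group.IsSolvable G] (hodd : Odd (Nat.card G)) (p : ℕ) [Fact p.Prime] (S : Sylow p G) :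
    (Cfsg.centerThompsonOf p (S : Subgroup G) ⊔ Cfsg.pPrimeCore p G).Normal := by
  have hpp : p.Prime := Fact.out
  have hN : (Cfsg.pPrimeCore p G).Normal := Cfsg.Agent.Helper23.pPrimeCore_normal_fin p
  by_cases hp2 : p = 2
  · -- the Sylow subgroup is trivial
    have hS : (S : Subgroup G) = ⊥ := by
      apply Subgroup.eq_bot_of_card_eq
      obtain ⟨k, hk⟩ := S.isPGroup'.exists_card_eq
      rw [hk]
      rcases Nat.eq_zero_or_pos k with h0 | h0
      · rw [h0, pow_zero]
      · exfalso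
        have h1 : p ∣ Nat.card G := by
          have h2 : Nat.card (S : Subgroup G) ∣ Nat.card G := Subgroup.card_subgroup_dvd_card _
          rw [hk] at h2
          exact (dvd_pow_self p h0.ne').trans h2
        rw [hp2] at h1
        exact (Nat.not_even_iff_odd.mpr hodd) (even_iff_two_dvd.mpr h1)
    have h3 : Cfsg.centerThompsonOf p (S : Subgroup G) = ⊥ := by
      rw [eq_bot_iff, ← hS]
      exact Cfsg.Agent.Helper21.ZJFull.ct_le p _
    rw [h3, bot_sup_eq]
    exact hN
  have hNc : (Nat.card (Cfsg.pPrimeCore p G)).Coprime p :=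
    Cfsg.Agent.Helper23.pPrimeCore_coprime p
  have hNP : ∀ x ∈ (S : Subgroup G), QuotientGroup.mk' (Cfsg.pPrimeCore p G) x = 1 → x = 1 := by
    intro x hx h
    have hxN : x ∈ Cfsg.pPrimeCore p G := (QuotientGroup.eq_one_iff x).1 h
    have hd : Disjoint (Cfsg.pPrimeCore p G) (S : Subgroup G) := by
      apply Subgroup.disjoint_of_coprime_natCard
      obtain ⟨k, hk⟩ := S.isPGroup'.exists_card_eq
      rw [hk]; exact Nat.Coprime.pow_right k hNc
    have h1 : x ∈ (⊥ : Subgroup G) := hd.le_bot ⟨hxN, hx⟩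
    exact Subgroup.mem_bot.1 h1
  have hsolvQ : Group.IsSolvable (G ⧸ Cfsg.pPrimeCore p G) := inferInstance
  have hL : Cfsg.pLayer p G = ⊥ := by
    rw [Cfsg.Agent.Helper7.pLayer_eq_bot_iff p]
    intro Kb hKb
    exact Cfsg.Agent.Helper7.IsComponent.not_isSolvable hKb inferInstance
  have hF := Cfsg.Agent.Helper7.generalizedFitting_quotient_eq_pCore_of_pLayer_eq_bot p hL
  have hC := Cfsg.Agent.Helper7.centralizer_pCore_le_of_generalizedFitting_eq p hF
  have hoddQ : Odd (Nat.card (G ⧸ Cfsg.pPrimeCore p G)) :=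
    Odd.of_dvd_nat hodd (Subgroup.card_quotient_dvd_card _)
  have hnps := Cfsg.Agent.Helper21.OddStable.isNormalizerPStable_of_odd (p := p) hsolvQ hoddQ hp2
  have hSbcoe : ((S.mapSurjective (QuotientGroup.mk'_surjective (Cfsg.pPrimeCore p G)) :
      Sylow p (G ⧸ Cfsg.pPrimeCore p G)) : Subgroup (G ⧸ Cfsg.pPrimeCore p G)) =
      (S : Subgroup G).map (QuotientGroup.mk' (Cfsg.pPrimeCore p G)) :=
    Sylow.coe_mapSurjective _ _
  have hst := Cfsg.Agent.Helper23.zjStable_of_normalizerPStable hnps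
    ((S.mapSurjective (QuotientGroup.mk'_surjective (Cfsg.pPrimeCore p G)) :
      Sylow p (G ⧸ Cfsg.pPrimeCore p G)) : Subgroup (G ⧸ Cfsg.pPrimeCore p G))
  have hZn := Cfsg.Agent.Helper21.ZJFull.ct_normal hp2 hC
    (S.mapSurjective (QuotientGroup.mk'_surjective (Cfsg.pPrimeCore p G))) hst
  rw [hSbcoe, ← Cfsg.Agent.Helper21.ZJFull.ind_czW,
    Cfsg.Agent.Helper10.ind_map_injOn (Cfsg.Agent.Helper21.ZJFull.czW p)
      (Cfsg.Agent.Helper21.ZJFull.czW_char p) (QuotientGroup.mk' (Cfsg.pPrimeCore p G))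
      (S : Subgroup G) S.isPGroup' hNP,
    Cfsg.Agent.Helper21.ZJFull.ind_czW] at hZn
  have h5 : Cfsg.centerThompsonOf p (S : Subgroup G) ⊔ Cfsg.pPrimeCore p G =
      ((Cfsg.centerThompsonOf p (S : Subgroup G)).map
        (QuotientGroup.mk' (Cfsg.pPrimeCore p G))).comap
        (QuotientGroup.mk' (Cfsg.pPrimeCore p G)) := by
    rw [Subgroup.comap_map_eq, QuotientGroup.ker_mk']
  rw [h5]
  exact hZn.comap _

end Cfsg.Agent.S1458
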