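import Cfsg.Statements.S1462
import Cfsg.Agent.S1302
import Cfsg.Agent.S0629
import Cfsg.Agent.S4176
import Cfsg.Agent.Helper23.SolvPSolv
import Cfsg.Agent.Helper14.Comm
import Cfsg.Agent.Helper14.Conj

set_option autoImplicit false
open Cfsg

namespace Cfsg.Agent.S1462
open Cfsg.Agent.Helper14

theorem elab_of_central {G : Type*} [Group G] {p : ℕ} (E : Subgroup G)
    (hE : Cfsg.IsElementaryAbelian p E) (x : G) (hx : x ∈ Subgroup.centralizer (E : Set G))
    (hxp : x ^ p = 1) :
    Cfsg.IsElementaryAbelian p (Subgroup.closure ((E : Set G) ∪ {x})) := by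
  have hcomm : ∀ a ∈ (E : Set G) ∪ {x}, ∀ b ∈ (E : Set G) ∪ {x}, a * b = b * a := by
    have hEc : ∀ a ∈ E, ∀ b ∈ E, a * b = b * a := fun a ha b hb => by
      have := hE.1.is_comm.comm (⟨a, ha⟩ : ↥E) ⟨b, hb⟩
      exact congrArg Subtype.val this
    have hxc : ∀ a ∈ E, a * x = x * a := fun a ha => Subgroup.mem_centralizer_iff.mp hx a ha
    rintro a (ha | ha) b (hb | hb)
    · exact hEc a ha b hb
    · rw [Set.mem_singleton_iff.mp hb]; exact hxc a ha
    · rw [Set.mem_singleton_iff.mp ha]; exact (hxc b hb).symm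
    · rw [Set.mem_singleton_iff.mp ha, Set.mem_singleton_iff.mp hb]
  have hpow : ∀ a ∈ (E : Set G) ∪ {x}, a ^ p = 1 := by
    rintro a (ha | ha)
    · exact hE.2 a ha
    · rw [Set.mem_singleton_iff.mp ha]; exact hxp
  exact ⟨⟨⟨fun a b => Subtype.ext (closure_comm_of_comm _ hcomm a.1 a.2 b.1 b.2)⟩⟩,
    closure_pow_eq_one_of_comm _ p hcomm hpow⟩

theorem isPGroup_of_elab {G : Type*} [Group G] {p : ℕ} (E : Subgroup G)
    (hE : Cfsg.IsElementaryAbelian p E) : IsPGroup p ↥E := by
  intro g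
  refine ⟨1, ?_⟩
  apply Subtype.ext
  rw [pow_one]
  exact hE.2 g.1 g.2


/-- Let G be a finite solvable group, p an odd prime with G = O_{p',p,p'}(G), E an elementary abelian p-subgroup contained in no larger elementary abelian p-subgroup of G, and L a subgroup of order coprime to p normalized by E. Then L ≤ O_{p'}(G). -/
theorem result {G : Type*} [Group G] [Finite G] [Group.IsSolvable G] (p : ℕ) [Fact p.Prime] (hp : p ≠ 2) (hpl : Cfsg.PLengthLE p 1 G) (E L : Subgroup G) (hE : Cfsg.IsElementaryAbelian p E)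
    (hEmax : ∀ B : Subgroup G, Cfsg.IsElementaryAbelian p B → E ≤ B → B = E) (hL : (Nat.card L).Coprime p) (hEL : E ≤ Subgroup.normalizer (L : Set G)) :
    L ≤ Cfsg.pPrimeCore p G := by
  have hpp : p.Prime := Fact.out
  obtain ⟨P⟩ := (inferInstance : Nonempty (Sylow p ↥(Cfsg.pPrimePCore p G)))
  have hc : Cfsg.IsPConstrained p G :=
    Cfsg.Agent.S0629.result P (Cfsg.Agent.Helper23.isPSolvable_of_isSolvable p _)
  have hΩ : ∀ x ∈ Subgroup.centralizer (E : Set G), orderOf x = p → x ∈ E := by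
    intro x hx hord
    have hBel := elab_of_central E hE x hx (by rw [← hord]; exact pow_orderOf_eq_one x)
    have hle : E ≤ Subgroup.closure ((E : Set G) ∪ {x}) :=
      fun a ha => Subgroup.subset_closure (Or.inl ha)
    have := hEmax _ hBel hle
    rw [← this]
    exact Subgroup.subset_closure (Or.inr rfl)
  exact Cfsg.Agent.S1302.result p hp hc E hE.1 (isPGroup_of_elab E hE) hΩ L
    ((Nat.Prime.coprime_iff_not_dvd hpp).mp hL.symm) hEL

end Cfsg.Agent.S1462
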