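import Cfsg.Statements.S4296
import Mathlib
import Cfsg.Agent.Helper21.QuatSq
import Cfsg.Agent.S0069
import Cfsg.Agent.Lead.FrobConj
import Cfsg.Agent.Helper16.QuatExt
import Cfsg.Agent.Helper23.OddPGroup
-- import your own Cfsg.Agent.* helpers here

set_option autoImplicit false
open Cfsg

namespace Cfsg.Agent.S4296

open Cfsg.Agent.Helper21

/-- an involution of a Frobenius complement inverts the kernel -/
theorem invol_inverts {G : Type*} [Group G] [Finite G] (K H : Subgroup G) [hKn : K.Normal]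
    (hfix : ∀ h ∈ H, h ≠ 1 → ∀ k ∈ K, h * k = k * h → k = 1)
    (t : G) (htH : t ∈ H) (ht1 : t ≠ 1) (ht2 : t * t = 1) : ∀ k ∈ K, t * k * t⁻¹ = k⁻¹ := by
  classical
  have htinv : t⁻¹ = t := inv_eq_of_mul_eq_one_left ht2
  obtain ⟨ψ, hψ⟩ : ∃ ψ : K → K, ∀ k : K, ((ψ k : K) : G) = (k : G)⁻¹ * (t * k * t⁻¹) :=
    ⟨fun k => ⟨(k : G)⁻¹ * (t * k * t⁻¹), K.mul_mem (K.inv_mem k.2) (hKn.conj_mem k k.2 t)⟩,
      fun k => rfl⟩
  have hinj : Function.Injective ψ := by
    intro k l hkl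
    have h1 : (k : G)⁻¹ * (t * k * t⁻¹) = (l : G)⁻¹ * (t * l * t⁻¹) := by
      rw [← hψ, ← hψ, hkl]
    have h2 : t * ((l : G) * (k : G)⁻¹) = ((l : G) * (k : G)⁻¹) * t := by
      have : (l : G) * (k : G)⁻¹ * t = t * (l * (k : G)⁻¹) := by
        calc (l : G) * (k : G)⁻¹ * t = l * ((k : G)⁻¹ * (t * k * t⁻¹)) * t * (k : G)⁻¹ := by group
          _ = l * ((l : G)⁻¹ * (t * l * t⁻¹)) * t * (k : G)⁻¹ := by rw [h1]
          _ = t * (l * (k : G)⁻¹) := by group
      exact this.symm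
    have h3 := hfix t htH ht1 ((l : G) * (k : G)⁻¹) (K.mul_mem l.2 (K.inv_mem k.2)) h2
    exact Subtype.ext (mul_inv_eq_one.mp h3).symm
  have hsurj : Function.Surjective ψ := Finite.surjective_of_injective hinj
  intro k hk
  obtain ⟨l, hl⟩ := hsurj ⟨k, hk⟩
  have hl' : (l : G)⁻¹ * (t * l * t⁻¹) = k := by rw [← hψ, hl]
  rw [← hl']
  have e1 : t * ((l : G)⁻¹ * (t * l * t⁻¹)) * t⁻¹ = t * (l : G)⁻¹ * t * l * (t * t)⁻¹ := by group
  have e2 : ((l : G)⁻¹ * (t * l * t⁻¹))⁻¹ = t * (l : G)⁻¹ * t⁻¹ * l := by group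
  rw [e1, e2, ht2, inv_one, mul_one, htinv]

/-- a Frobenius complement has at most one involution -/
theorem invol_unique {G : Type*} [Group G] [Finite G] (K H : Subgroup G) [hKn : K.Normal]
    (hK : K ≠ ⊥) (hfix : ∀ h ∈ H, h ≠ 1 → ∀ k ∈ K, h * k = k * h → k = 1)
    (t t' : G) (htH : t ∈ H) (ht1 : t ≠ 1) (ht2 : t * t = 1)
    (htH' : t' ∈ H) (ht1' : t' ≠ 1) (ht2' : t' * t' = 1) : t = t' := by
  have h1 := invol_inverts K H hfix t htH ht1 ht2
  have h2 := invol_inverts K H hfix t' htH' ht1' ht2'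
  obtain ⟨k0, hk0⟩ := (Subgroup.ne_bot_iff_exists_ne_one).mp hK
  obtain ⟨k, hk, hk1⟩ : ∃ k : G, k ∈ K ∧ k ≠ 1 :=
    ⟨k0, k0.2, fun h => hk0 (Subtype.ext h)⟩
  by_contra hne
  have h3 : t * t' ≠ 1 := by
    intro h
    apply hne
    have : t = t'⁻¹ := eq_inv_of_mul_eq_one_left h
    rw [this]
    exact inv_eq_of_mul_eq_one_left ht2'
  have h4 : (t * t') * k = k * (t * t') := by
    have a1 : t' * k = k⁻¹ * t' := by
      have := h2 k hk
      rw [← this]; group
    have a2 : t * k⁻¹ = k * t := by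
      have := h1 k⁻¹ (K.inv_mem hk)
      rw [inv_inv] at this
      calc t * k⁻¹ = (t * k⁻¹ * t⁻¹) * t := by group
        _ = k * t := by rw [this]
    calc t * t' * k = t * (t' * k) := by group
      _ = t * (k⁻¹ * t') := by rw [a1]
      _ = (t * k⁻¹) * t' := by group
      _ = k * t * t' := by rw [a2]
      _ = k * (t * t') := by group
  exact hk1 (hfix (t * t') (H.mul_mem htH htH') h3 k hk h4)

/-- Sylow subgroups of a Frobenius complement for odd primes are cyclic -/
theorem sylow_cyclic {G : Type*} [Group G] [Finite G] (K H : Subgroup G) [hKn : K.Normal]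
    (hK : K ≠ ⊥) (hfix : ∀ h ∈ H, h ≠ 1 → ∀ k ∈ K, h * k = k * h → k = 1)
    (p : ℕ) [hpF : Fact p.Prime] (hp2 : p ≠ 2) (P : Sylow p H) : IsCyclic P := by
  have hp : p.Prime := hpF.out
  apply Cfsg.Agent.Helper23.isCyclic_of_forall_elementary_card_le hp2 P.isPGroup'
  intro A hA hAe
  obtain ⟨AG, hAG⟩ : ∃ AG : Subgroup G,
      AG = (A.map (P : Subgroup H).subtype).map H.subtype := ⟨_, rfl⟩
  have hcard : Nat.card AG = Nat.card A := by
    rw [hAG, Subgroup.card_map_of_injective H.subtype_injective,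
      Subgroup.card_map_of_injective (Subgroup.subtype_injective _)]
  have hAGH : AG ≤ H := by rw [hAG]; exact Subgroup.map_subtype_le _
  have hAGc : ∀ a ∈ AG, ∀ b ∈ AG, a * b = b * a := by
    rw [hAG]
    rintro _ ⟨_, ⟨a, ha, rfl⟩, rfl⟩ _ ⟨_, ⟨b, hb, rfl⟩, rfl⟩
    haveI := hA
    have e := mul_comm' (⟨a, ha⟩ : A) ⟨b, hb⟩
    have e' : a * b = b * a := congrArg Subtype.val e
    have e'' := congrArg (fun x : ↥(P : Subgroup H) => ((x : H) : G)) e'
    exact e''
  have hAGe : ∀ a ∈ AG, a ^ p = 1 := by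
    rw [hAG]
    rintro _ ⟨_, ⟨a, ha, rfl⟩, rfl⟩
    have e := hAe a ha
    have e'' := congrArg (fun x : ↥(P : Subgroup H) => ((x : H) : G)) e
    exact e''
  haveI hcyc : IsCyclic AG := Cfsg.Agent.S0069.abelian_cyclic K H hK hfix AG hAGH hAGc
  obtain ⟨g, hg⟩ := IsCyclic.exists_generator (α := AG)
  have hgo : orderOf g = Nat.card AG := orderOf_eq_card_of_forall_mem_zpowers hg
  have hgp : g ^ p = 1 := Subtype.ext (hAGe g g.2)
  rw [← hcard, ← hgo]
  exact Nat.le_of_dvd hp.pos (orderOf_dvd_of_pow_eq_one hgp)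

theorem main {L : Type*} [Group L] [Finite L] (H N : Subgroup L)
    (d : Cfsg.Agent.Lead.FrobData H N)
    (hZ : ∃ (p : ℕ) (_ : Fact p.Prime) (P : Sylow p H), ¬ IsCyclic P) :
    Odd (Nat.card N) ∧ IsSquare (Nat.card N) := by
  classical
  haveI hNn : N.Normal := d.2.2.1
  have hfix : ∀ h ∈ H, h ≠ 1 → ∀ k ∈ N, h * k = k * h → k = 1 :=
    fun h hh h1 k hk e => d.comm hh h1 hk e.symm
  have hN : N ≠ ⊥ := d.ne_bot
  obtain ⟨p, hpF, P, hP⟩ := hZ
  have hp2 : p = 2 := by
    by_contra hne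
    exact hP (sylow_cyclic N H hN hfix p hne P)
  subst hp2
  have hnc : ¬ IsMulCommutative (P : Subgroup H) := by
    intro hc
    apply hP
    obtain ⟨AG, hAG⟩ : ∃ AG : Subgroup L, AG = (P : Subgroup H).map H.subtype := ⟨_, rfl⟩
    have hAGH : AG ≤ H := by rw [hAG]; exact Subgroup.map_subtype_le _
    have hAGc : ∀ a ∈ AG, ∀ b ∈ AG, a * b = b * a := by
      rw [hAG]
      rintro _ ⟨a, ha, rfl⟩ _ ⟨b, hb, rfl⟩
      have e := mul_comm' (⟨a, ha⟩ : (P : Subgroup H)) ⟨b, hb⟩
      have e' : a * b = b * a := congrArg Subtype.val e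
      exact congrArg (fun x : H => (x : L)) e'
    haveI hcyc : IsCyclic AG := Cfsg.Agent.S0069.abelian_cyclic N H hN hfix AG hAGH hAGc
    obtain ⟨e⟩ : Nonempty ((P : Subgroup H) ≃* AG) := by
      rw [hAG]
      exact ⟨(P : Subgroup H).equivMapOfInjective H.subtype H.subtype_injective⟩
    exact isCyclic_of_surjective e.symm e.symm.surjective
  have huniq : ∃! x : (P : Subgroup H), orderOf x = 2 := by
    haveI hPnt : Nontrivial (P : Subgroup H) := by
      by_contra h
      rw [not_nontrivial_iff_subsingleton] at h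
      exact hP isCyclic_of_subsingleton
    have h2 : 2 ∣ Nat.card (P : Subgroup H) := by
      obtain ⟨k, hk⟩ := P.isPGroup'.exists_card_eq
      have hk0 : k ≠ 0 := by
        rintro rfl
        rw [pow_zero] at hk
        exact (Finite.one_lt_card (α := (P : Subgroup H))).ne' hk
      rw [hk]; exact dvd_pow_self 2 hk0
    obtain ⟨x, hx⟩ := exists_prime_orderOf_dvd_card' 2 h2
    have key : ∀ y : (P : Subgroup H), orderOf y = 2 →
        (((y : H) : L) ∈ H ∧ ((y : H) : L) ≠ 1 ∧ ((y : H) : L) * ((y : H) : L) = 1) := by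
      intro y hy
      refine ⟨(y : H).2, ?_, ?_⟩
      · intro h
        have : y = 1 := Subtype.ext (Subtype.ext h)
        rw [this, orderOf_one] at hy
        omega
      · have h1 : y ^ 2 = 1 := by
          have := pow_orderOf_eq_one y
          rwa [hy] at this
        have h2 := congrArg (fun w : (P : Subgroup H) => ((w : H) : L)) h1
        simpa [pow_two] using h2
    refine ⟨x, hx, fun y hy => ?_⟩
    obtain ⟨a1, a2, a3⟩ := key x hx
    obtain ⟨b1, b2, b3⟩ := key y hy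
    have e := invol_unique N H hN hfix _ _ b1 b2 b3 a1 a2 a3
    exact Subtype.ext (Subtype.ext e)
  obtain ⟨k, hk1, ⟨e⟩⟩ := Cfsg.Agent.Helper16.QuatExt.exists_quat P.isPGroup' hnc huniq
  haveI : NeZero (2 ^ k) := ⟨by positivity⟩
  obtain ⟨A, B, hABA, hBB, hAm, -, hAo⟩ := Cfsg.Agent.Helper16.QuatExt.quat_data e
  obtain ⟨a, ha⟩ : ∃ a : L, a = ((A : H) : L) := ⟨_, rfl⟩
  obtain ⟨b, hb⟩ : ∃ b : L, b = ((B : H) : L) := ⟨_, rfl⟩
  have haH : a ∈ H := by rw [ha]; exact (A : H).2
  have hbH : b ∈ H := by rw [hb]; exact (B : H).2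
  have hABA' : a * (b * a) = b := by
    have := congrArg (fun w : (P : Subgroup H) => ((w : H) : L)) hABA
    rw [ha, hb]; simpa using this
  have hBB' : b * b = a ^ (2 ^ k) := by
    have := congrArg (fun w : (P : Subgroup H) => ((w : H) : L)) hBB
    rw [ha, hb]; simpa using this
  have hAm' : a ^ (2 ^ k) ≠ 1 := by
    intro h
    apply hAm
    apply Subtype.ext
    apply Subtype.ext
    rw [ha] at h
    simpa using h
  have hAo' : orderOf a = 2 * 2 ^ k := by
    rw [ha, Subgroup.orderOf_coe, Subgroup.orderOf_coe, hAo]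
  obtain ⟨i, hi⟩ : ∃ i : L, i = a ^ (2 ^ (k - 1)) := ⟨_, rfl⟩
  obtain ⟨z, hz⟩ : ∃ z : L, z = a ^ (2 ^ k) := ⟨_, rfl⟩
  have hiH : i ∈ H := by rw [hi]; exact H.pow_mem haH _
  have hzH : z ∈ H := by rw [hz]; exact H.pow_mem haH _
  have hz1 : z ≠ 1 := by rw [hz]; exact hAm'
  have hii : i * i = z := by
    rw [hi, hz, ← pow_add]
    congr 1
    obtain ⟨m, rfl⟩ : ∃ m, k = m + 1 := ⟨k - 1, by omega⟩
    rw [Nat.add_sub_cancel, pow_succ]; ring
  have hbb : b * b = z := by rw [hz]; exact hBB'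
  have hzz : z * z = 1 := by
    rw [hz, ← pow_add, ← two_mul, ← hAo']
    exact pow_orderOf_eq_one a
  have hpowrel : ∀ r : ℕ, a ^ r * (b * a ^ r) = b := by
    intro r
    induction r with
    | zero => simp
    | succ r ih =>
      calc a ^ (r + 1) * (b * a ^ (r + 1)) = (a ^ r * a) * (b * (a * a ^ r)) := by
            rw [← pow_succ, ← pow_succ']
        _ = a ^ r * (a * (b * a)) * a ^ r := by group
        _ = a ^ r * (b * a ^ r) := by rw [hABA']; group
        _ = b := ih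
  have hibi : i * (b * i) = b := by rw [hi]; exact hpowrel _
  have hij : i * b = z * (b * i) := by
    calc i * b = i * (i * (b * i)) := by rw [hibi]
      _ = (i * i) * (b * i) := by group
      _ = z * (b * i) := by rw [hii]
  have hinv := invol_inverts N H hfix z hzH hz1 hzz
  have hodd : Odd (Nat.card N) := by
    by_contra hne
    rw [Nat.not_odd_iff_even, even_iff_two_dvd] at hne
    obtain ⟨t, ht⟩ := exists_prime_orderOf_dvd_card' 2 hne
    have ht1 : (t : L) ≠ 1 := by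
      intro h
      have : t = 1 := Subtype.ext h
      rw [this, orderOf_one] at ht
      omega
    have ht2 : (t : L) * (t : L) = 1 := by
      have h1 : t ^ 2 = 1 := by
        have := pow_orderOf_eq_one t
        rwa [ht] at this
      have h2 := congrArg (fun w : N => (w : L)) h1
      simpa [pow_two] using h2
    have h3 := hinv t t.2
    have h4 : (t : L)⁻¹ = t := inv_eq_of_mul_eq_one_left ht2
    rw [h4] at h3
    have h5 : z * (t : L) = (t : L) * z := by
      calc z * (t : L) = z * t * z⁻¹ * z := by group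
        _ = (t : L) * z := by rw [h3]
    exact ht1 (hfix z hzH hz1 t t.2 h5)
  refine ⟨hodd, ?_⟩
  refine card_sq_of_quat (N := N) (MulAut.conjNormal i : MulAut N).toMonoidHom
    (MulAut.conjNormal b : MulAut N).toMonoidHom hodd ?_ ?_ ?_
  · intro x
    apply Subtype.ext
    show i * (i * (x : L) * i⁻¹) * i⁻¹ = (x : L)⁻¹
    rw [← hinv x x.2, ← hii]; group
  · intro x
    apply Subtype.ext
    show b * (b * (x : L) * b⁻¹) * b⁻¹ = (x : L)⁻¹
    rw [← hinv x x.2, ← hbb]; group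
  · intro x
    apply Subtype.ext
    show i * (b * (x : L) * b⁻¹) * i⁻¹ = (b * (i * (x : L) * i⁻¹) * b⁻¹)⁻¹
    have hy : b * (i * (x : L) * i⁻¹) * b⁻¹ ∈ N := hNn.conj_mem _ (hNn.conj_mem _ x.2 i) b
    rw [← hinv _ hy]
    calc i * (b * (x : L) * b⁻¹) * i⁻¹ = (i * b) * x * (i * b)⁻¹ := by group
      _ = (z * (b * i)) * x * (z * (b * i))⁻¹ := by rw [hij]
      _ = z * (b * (i * (x : L) * i⁻¹) * b⁻¹) * z⁻¹ := by group


/-- Let H be a Frobenius complement in a finite group, and suppose some Sylow subgroup of H is not cyclic. Then the number of elements of the Frobenius kernel (the identity together with the elements lying in no conjugate of H) is an odd perfect square. -/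
theorem result {L : Type*} [Group L] [Finite L] (H : Subgroup L) (hF : Cfsg.IsFrobeniusComplement H)
    (hZ : ∃ (p : ℕ) (_ : Fact p.Prime) (P : Sylow p H), ¬ IsCyclic P) :
    Odd (Nat.card (Cfsg.frobeniusKernel H)) ∧ IsSquare (Nat.card (Cfsg.frobeniusKernel H)) := by
  obtain ⟨N, d⟩ := Cfsg.Agent.Lead.exists_frobData H hF
  have hc : Nat.card (Cfsg.frobeniusKernel H) = Nat.card N := by rw [← d.2.1]; rfl
  rw [hc]
  exact main H N d hZ

end Cfsg.Agent.S4296
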