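import Cfsg.Statements.S1476
import Mathlib
import Cfsg.Agent.Helper21.CNGroup2
import Cfsg.Agent.S4296
import Cfsg.Agent.Helper15.Quat
-- import your own Cfsg.Agent.* helpers here

set_option autoImplicit false
open Cfsg

namespace Cfsg.Agent.S1476

theorem card_two_unique {G : Type*} [Group G] [Finite G] (K E : Subgroup G) [K.Normal]
    (hK : K ≠ ⊥) (hfix : ∀ h ∈ E, h ≠ 1 → ∀ k ∈ K, h * k = k * h → k = 1)
    (Q : Subgroup G) (hQE : Q ≤ E) (H₁ H₂ : Subgroup Q) (h1 : Nat.card H₁ = 2)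
    (h2 : Nat.card H₂ = 2) : H₁ = H₂ := by
  have key : ∀ H : Subgroup Q, Nat.card H = 2 →
      ∃ t : Q, t ≠ 1 ∧ t * t = 1 ∧ H = Subgroup.zpowers t := by
    intro H hH
    haveI : Fact (Nat.Prime 2) := ⟨Nat.prime_two⟩
    obtain ⟨t, ht⟩ := exists_prime_orderOf_dvd_card' (G := H) 2 (by rw [hH])
    have hto : orderOf (t : Q) = 2 := by rw [Subgroup.orderOf_coe]; exact ht
    refine ⟨(t : Q), ?_, ?_, ?_⟩
    · intro h0; rw [h0, orderOf_one] at hto; omega
    · rw [← pow_two, ← hto]; exact pow_orderOf_eq_one _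
    · symm
      apply Subgroup.eq_of_le_of_card_ge (Subgroup.zpowers_le.mpr t.2)
      rw [hH, Nat.card_zpowers, hto]
  obtain ⟨t, ht1, ht2, rfl⟩ := key H₁ h1
  obtain ⟨t', ht1', ht2', rfl⟩ := key H₂ h2
  have := Cfsg.Agent.S4296.invol_unique K E hK hfix (t : G) (t' : G) (hQE t.2)
    (fun h => ht1 (Subtype.ext h)) (congrArg Subtype.val ht2) (hQE t'.2)
    (fun h => ht1' (Subtype.ext h)) (congrArg Subtype.val ht2')
  rw [Subtype.ext this]

theorem frob_case {G : Type*} [Group G] [Finite G] (hCN : Cfsg.IsCNGroup G)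
    (hnn : ¬ Group.IsNilpotent G) (p : ℕ) [Fact p.Prime] (P : Sylow p G)
    (hP1 : (P : Subgroup G) ≠ ⊥) (hPn : (P : Subgroup G).Normal) :
    ∃ K E : Subgroup G, K.Normal ∧ Subgroup.IsComplement' K E ∧ Cfsg.IsFrobeniusComplement E ∧
      (IsCyclic E ∨ ∃ C Q : Subgroup G, C ⊔ Q = E ∧ (∀ a ∈ C, ∀ b ∈ Q, a * b = b * a) ∧
        IsCyclic C ∧ Odd (Nat.card C) ∧ ∃ n : ℕ, Nonempty (↥Q ≃* QuaternionGroup (2 ^ n))) := by
  classical
  obtain ⟨hH1, hH2, ⟨E, hE, hEF, hfpf⟩, -⟩ := Cfsg.Agent.S1474.result hCN hnn p P hP1 hPn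
  obtain ⟨H, hHdef⟩ : ∃ H : Subgroup G, H = Cfsg.fittingHall G := ⟨_, rfl⟩
  rw [← hHdef] at hH1 hH2 hE hfpf
  haveI hHn : H.Normal := hHdef ▸ inferInstance
  refine ⟨H, E, hHn, hE, hEF, ?_⟩
  have hfix : ∀ e ∈ E, e ≠ 1 → ∀ h ∈ H, e * h = h * e → h = 1 := by
    intro e he he1 h hh hc
    have hmem : h ∈ H ⊓ Subgroup.centralizer ({e} : Set G) :=
      ⟨hh, Cfsg.Agent.Helper8.mem_cent.mpr hc⟩
    rw [hfpf e he he1, Subgroup.mem_bot] at hmem
    exact hmem
  have hE1 : E ≠ ⊥ := hEF.1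
  obtain ⟨z, hzE, hz1, hzc⟩ := Cfsg.Agent.Helper21.center_of_fix H E hH1 hE1 hfix
  have hEnil : Group.IsNilpotent E :=
    Cfsg.Agent.S1474.nilpotent_of_le (fun a ha => Cfsg.Agent.Helper8.mem_cent.mpr (hzc a ha))
      (hCN z hz1)
  haveI := hEnil
  haveI : Fact (Nat.Prime 2) := ⟨Nat.prime_two⟩
  obtain ⟨Q₂⟩ : Nonempty (Sylow 2 E) := inferInstance
  obtain ⟨QG, hQGdef⟩ : ∃ QG : Subgroup G, QG = (Q₂ : Subgroup E).map E.subtype := ⟨_, rfl⟩
  have hQGE : QG ≤ E := by rw [hQGdef]; exact Subgroup.map_subtype_le _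
  have hQGp : IsPGroup 2 QG := by rw [hQGdef]; exact Q₂.2.map _
  have e₂ : (Q₂ : Subgroup E) ≃* QG :=
    hQGdef ▸ (Q₂ : Subgroup E).equivMapOfInjective E.subtype E.subtype_injective
  rcases Cfsg.Agent.Helper15.quaternion_of_unique_involution hQGp
    (fun H₁ H₂ h1 h2 => card_two_unique H E hH1 hfix QG hQGE H₁ H₂ h1 h2) with hcyc | ⟨n, hn⟩
  · left
    haveI : IsCyclic (Q₂ : Subgroup E) := isCyclic_of_surjective e₂.symm e₂.symm.surjective
    haveI : IsZGroup E := ⟨fun q hq S => by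
      haveI := Fact.mk hq
      by_cases hq2 : q = 2
      · subst hq2
        exact isCyclic_of_surjective (Sylow.equiv Q₂ S) (Sylow.equiv Q₂ S).surjective
      · exact Cfsg.Agent.S4296.sylow_cyclic H E hH1 hfix q hq2 S⟩
    infer_instance
  · right
    have q03 := (Group.isNilpotent_of_finite_tfae (G := E)).out 0 3
    haveI hQ₂n : (Q₂ : Subgroup E).Normal := (q03.mp hEnil) 2 inferInstance Q₂
    obtain ⟨C', hC'⟩ := Subgroup.exists_right_complement'_of_coprime
      (N := (Q₂ : Subgroup E)) Q₂.card_coprime_index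
    obtain ⟨C, hCdef⟩ : ∃ C : Subgroup G, C = C'.map E.subtype := ⟨_, rfl⟩
    have hCE : C ≤ E := by rw [hCdef]; exact Subgroup.map_subtype_le _
    have hCc : Nat.card C = (Q₂ : Subgroup E).index := by
      rw [hCdef, Subgroup.card_map_of_injective E.subtype_injective]
      exact hC'.symm.index_eq_card.symm
    have hodd : ¬ 2 ∣ Nat.card C := by rw [hCc]; exact Q₂.not_dvd_index
    refine ⟨C, QG, ?_, ?_, ?_, ?_, n, hn⟩
    · rw [hCdef, hQGdef, ← Subgroup.map_sup, sup_comm, hC'.sup_eq_top, ← MonoidHom.range_eq_map,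
        Subgroup.range_subtype]
    · rw [hCdef, hQGdef]
      rintro _ ⟨a, ha, rfl⟩ _ ⟨b, hb, rfl⟩
      have hab : (orderOf a).Coprime (orderOf b) := by
        have h1 : orderOf a ∣ (Q₂ : Subgroup E).index := by
          rw [hC'.symm.index_eq_card]
          exact Subgroup.orderOf_dvd_natCard C' ha
        have h2 : orderOf b ∣ Nat.card (Q₂ : Subgroup E) := Subgroup.orderOf_dvd_natCard _ hb
        exact Nat.Coprime.coprime_dvd_left h1
          (Nat.Coprime.coprime_dvd_right h2 Q₂.card_coprime_index.symm)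
      exact congrArg Subtype.val (Cfsg.Agent.Helper8.comm_of_coprime_nilpotent a b hab)
    · haveI : IsZGroup C :=
        Cfsg.Agent.S0069.zgroup H C hH1 (fun h hh => hfix h (hCE hh)) hodd
      haveI : Group.IsNilpotent C := Cfsg.Agent.S1474.nilpotent_of_le hCE hEnil
      infer_instance
    · exact Nat.not_even_iff_odd.mp (fun h => hodd (even_iff_two_dvd.mp h))


/-- Let G be a finite solvable group in which every non-identity element has nilpotent centralizer. Then either G is nilpotent; or G has a normal subgroup K with a Frobenius complement E (K E = G, K ∩ E = 1, E meets its conjugates by outside elements trivially) such that E is cyclic or E is generated by two elementwise-commuting subgroups, one cyclic of odd order and one isomorphic to a generalized quaternion group; or G is a three-step group with respect to some prime p. -/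
theorem result {G : Type*} [Group G] [Finite G] [Group.IsSolvable G] (hCN : Cfsg.IsCNGroup G) :
    Group.IsNilpotent G ∨
      (∃ K E : Subgroup G, K.Normal ∧ Subgroup.IsComplement' K E ∧ Cfsg.IsFrobeniusComplement E ∧
        (IsCyclic E ∨ ∃ C Q : Subgroup G, C ⊔ Q = E ∧ (∀ a ∈ C, ∀ b ∈ Q, a * b = b * a) ∧ IsCyclic C ∧ Odd (Nat.card C) ∧
          ∃ n : ℕ, Nonempty (↥Q ≃* QuaternionGroup (2 ^ n)))) ∨
      ∃ p : ℕ, p.Prime ∧ Cfsg.IsThreeStepGroup p G := by
  by_cases hnil : Group.IsNilpotent G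
  · exact Or.inl hnil
  by_cases hS : ∃ (p : ℕ) (_ : Fact p.Prime) (S : Sylow p G),
      (S : Subgroup G).Normal ∧ (S : Subgroup G) ≠ ⊥
  · obtain ⟨p, hp, S, hSn, hS1⟩ := hS
    exact Or.inr (Or.inl (frob_case hCN hnil p S hS1 hSn))
  · right; right
    have hnS : ∀ (p : ℕ) [Fact p.Prime] (S : Sylow p G), (S : Subgroup G).Normal →
        (S : Subgroup G) = ⊥ := by
      intro p _ S hSn
      by_contra h
      exact hS ⟨p, inferInstance, S, hSn, h⟩
    have hF : Cfsg.fittingSubgroup G ≠ ⊥ := by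
      intro h
      have h1 := Cfsg.Agent.S0044.result (G := G)
      rw [h] at h1
      have h2 : ∀ x : G, x = 1 := by
        intro x
        have : x ∈ Subgroup.centralizer (((⊥ : Subgroup G) : Set G)) := by
          rw [Subgroup.mem_centralizer_iff]
          intro y hy
          have hy' : y = 1 := Subgroup.mem_bot.mp hy
          rw [hy']; simp
        exact Subgroup.mem_bot.mp (h1 this)
      apply hnil
      haveI : Subsingleton G := ⟨fun a b => by rw [h2 a, h2 b]⟩
      infer_instance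
    obtain ⟨⟨p, hp⟩, hpP⟩ : ∃ p : Nat.Primes, Cfsg.pCore (p : ℕ) G ≠ ⊥ := by
      by_contra hcon
      have hcon' : ∀ q : Nat.Primes, Cfsg.pCore (q : ℕ) G = ⊥ :=
        fun q => by_contra (fun h => hcon ⟨q, h⟩)
      apply hF
      rw [Cfsg.Agent.Helper1.fitting_eq_iSup_primes]
      simp [hcon']
    haveI := Fact.mk hp
    have hpP' : Cfsg.pCore p G ≠ ⊥ := hpP
    have hFP : Cfsg.fittingSubgroup G = Cfsg.pCore p G := by
      apply le_antisymm
      · rw [Cfsg.Agent.Helper1.fitting_eq_iSup_primes]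
        apply iSup_le
        intro q
        by_cases hqp : (q : ℕ) = p
        · rw [hqp]
        · rw [Cfsg.Agent.Helper21.unique_pCore hCN hnS p q hp q.2 (Ne.symm hqp) hpP']
          exact bot_le
      · exact Cfsg.Agent.Helper1.pCore_le_fitting p
    haveI hPn := Cfsg.Agent.Helper1.pCore_normal p G
    have hCP : Subgroup.centralizer (Cfsg.pCore p G : Set G) ≤ Cfsg.pCore p G := by
      rw [← hFP]; exact Cfsg.Agent.S0044.result
    have hnSyl : p ∣ (Cfsg.pCore p G).index := by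
      by_contra h
      have h1 := hnS p ((Cfsg.Agent.Helper1.pCore_isPGroup p G).toSylow h)
        (by rw [IsPGroup.toSylow_coe]; exact hPn)
      rw [IsPGroup.toSylow_coe] at h1
      exact hpP' h1
    obtain ⟨A, h1, h2, h3, h4, h5, h6, h7, h8, h9⟩ :=
      Cfsg.Agent.Helper21.three_step_aux hCN p (Cfsg.pCore p G)
        (Cfsg.Agent.Helper1.pCore_isPGroup p G) hpP' hCP
        (fun V hVn hVp => Cfsg.Agent.Helper1.le_pCore hVn hVp) hnSyl
    exact ⟨p, hp, hpP', A, h1, h2, h3, h4, h5, h6, h7, h8, h9⟩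

end Cfsg.Agent.S1476
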