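import Cfsg.Statements.S1483
import Cfsg.Agent.Helper21.CNMax2
import Mathlib
-- import your own Cfsg.Agent.* helpers here

set_option autoImplicit false
open Cfsg

namespace Cfsg.Agent.S1483

open Cfsg.Agent.Helper21.CNMax in
theorem dvd_card_of_mem {G : Type*} [Group G] [Finite G] (s : ℕ) [Fact s.Prime] (w : G)
    (K : Subgroup G) (hw : w ∈ K) (hw1 : w ≠ 1) (hwp : IsPGroup s (Subgroup.zpowers w)) :
    s ∣ Nat.card K := by
  obtain ⟨k, hk⟩ := hwp.exists_card_eq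
  have hk0 : k ≠ 0 := by
    intro h0
    rw [h0, pow_zero] at hk
    exact (Subgroup.zpowers_ne_bot.mpr hw1) (Subgroup.card_eq_one.mp hk)
  have h1 : s ∣ Nat.card (Subgroup.zpowers w) := by rw [hk]; exact dvd_pow_self s hk0
  exact h1.trans (Subgroup.card_dvd_of_le (Subgroup.zpowers_le.mpr hw))



/-- Let G be a minimal simple group of odd order in which every non-identity element has nilpotent centralizer. Then any two nilpotent subgroups each contained in no larger nilpotent subgroup are either conjugate or of coprime orders; and for primes p, q, r: if some elements x, y ≠ 1 of p-power and q-power order commute, and some elements y', z ≠ 1 of q-power and r-power order commute, then some elements of p-power and r-power order, both ≠ 1, commute. -/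
theorem result {G : Type*} [Group G] [Finite G] (hG : Cfsg.IsMinSimpleOddOrder G) (hCN : Cfsg.IsCNGroup G) :
    (∀ H₁ H₂ : Subgroup G, (Group.IsNilpotent ↥H₁ ∧ ∀ L : Subgroup G, Group.IsNilpotent L → H₁ ≤ L → L = H₁) → (Group.IsNilpotent ↥H₂ ∧ ∀ L : Subgroup G, Group.IsNilpotent L → H₂ ≤ L → L = H₂) → (∃ g : G, H₂ = H₁.map (MulAut.conj g).toMonoidHom) ∨ (Nat.card H₁).Coprime (Nat.card H₂)) ∧
      ∀ (p q r : ℕ), p.Prime → q.Prime → r.Prime → ∀ (x y y' z : G), x ≠ 1 → y ≠ 1 → y' ≠ 1 → z ≠ 1 →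
        IsPGroup p (Subgroup.zpowers x) → IsPGroup q (Subgroup.zpowers y) → IsPGroup q (Subgroup.zpowers y') → IsPGroup r (Subgroup.zpowers z) →
        x * y = y * x → y' * z = z * y' →
        ∃ x' z' : G, x' ≠ 1 ∧ z' ≠ 1 ∧ IsPGroup p (Subgroup.zpowers x') ∧ IsPGroup r (Subgroup.zpowers z') ∧ x' * z' = z' * x' := by
  refine ⟨fun H₁ H₂ h₁ h₂ =>
    Cfsg.Agent.Helper21.CNMax.conj_or_coprime hG hCN H₁ H₂ h₁.1 h₁.2 h₂.1 h₂.2, ?_⟩
  intro p q r hp hq hr x y y' z hx1 hy1 hy'1 hz1 hxp hyq hy'q hzr hxy hy'z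
  haveI := Fact.mk hp
  haveI := Fact.mk hq
  haveI := Fact.mk hr
  by_cases hpr : p = r
  · rw [← hpr] at hzr
    exact ⟨x, x, hx1, hx1, hxp, hpr ▸ hxp, rfl⟩
  obtain ⟨H₁, hK₁, hH₁nil, hmax₁⟩ := Cfsg.Agent.Helper21.CNMax.exists_max_nil _ (hCN x hx1)
  obtain ⟨H₂, hK₂, hH₂nil, hmax₂⟩ := Cfsg.Agent.Helper21.CNMax.exists_max_nil _ (hCN z hz1)
  have hxH₁ : x ∈ H₁ := hK₁ (by
    rw [Subgroup.mem_centralizer_iff]; intro h hh
    rw [Set.mem_singleton_iff] at hh; rw [hh])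
  have hyH₁ : y ∈ H₁ := hK₁ (by
    rw [Subgroup.mem_centralizer_iff]; intro h hh
    rw [Set.mem_singleton_iff] at hh; rw [hh]; exact hxy)
  have hzH₂ : z ∈ H₂ := hK₂ (by
    rw [Subgroup.mem_centralizer_iff]; intro h hh
    rw [Set.mem_singleton_iff] at hh; rw [hh])
  have hy'H₂ : y' ∈ H₂ := hK₂ (by
    rw [Subgroup.mem_centralizer_iff]; intro h hh
    rw [Set.mem_singleton_iff] at hh; rw [hh]; exact hy'z.symm)
  have hq1 : q ∣ Nat.card H₁ := dvd_card_of_mem q y H₁ hyH₁ hy1 hyq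
  have hq2 : q ∣ Nat.card H₂ := dvd_card_of_mem q y' H₂ hy'H₂ hy'1 hy'q
  rcases Cfsg.Agent.Helper21.CNMax.conj_or_coprime hG hCN H₁ H₂ hH₁nil hmax₁ hH₂nil hmax₂ with
    ⟨g, hg⟩ | hcop
  · have hz' : z ∈ H₁.map (MulAut.conj g).toMonoidHom := hg ▸ hzH₂
    obtain ⟨z₀, hz₀, hz₀z⟩ := hz'
    have hz₀1 : z₀ ≠ 1 := by
      intro h0
      rw [h0, map_one] at hz₀z
      exact hz1 hz₀z.symm
    have hz₀r : IsPGroup r (Subgroup.zpowers z₀) := by
      obtain ⟨n, hn⟩ := IsPGroup.iff_card.mp hzr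
      rw [Nat.card_zpowers] at hn
      apply IsPGroup.of_card (n := n)
      rw [Nat.card_zpowers, ← hn, ← hz₀z]
      exact (orderOf_injective (MulAut.conj g).toMonoidHom (MulAut.conj g).injective z₀).symm
    refine ⟨x, z₀, hx1, hz₀1, hxp, hz₀r, ?_⟩
    have hHall₁ := (Cfsg.Agent.S1477.result hCN H₁ hH₁nil hmax₁).1
    obtain ⟨Sp, hSp⟩ := Cfsg.Agent.Helper21.CNMax.exists_sylow_le H₁ hHall₁ p
      (dvd_card_of_mem p x H₁ hxH₁ hx1 hxp)
    obtain ⟨Sr, hSr⟩ := Cfsg.Agent.Helper21.CNMax.exists_sylow_le H₁ hHall₁ r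
      (dvd_card_of_mem r z₀ H₁ hz₀ hz₀1 hz₀r)
    have hxS := Cfsg.Agent.Helper21.CNMax.p_elt_mem Sp H₁ hH₁nil hSp x hxH₁ hxp
    have hzS := Cfsg.Agent.Helper21.CNMax.p_elt_mem Sr H₁ hH₁nil hSr z₀ hz₀ hz₀r
    have hNp := Cfsg.Agent.Helper21.CNMax.sylow_normal_in_nil Sp H₁ hH₁nil hSp
    have hNr := Cfsg.Agent.Helper21.CNMax.sylow_normal_in_nil Sr H₁ hH₁nil hSr
    have hdisj := IsPGroup.disjoint_of_ne p r hpr _ _ Sp.isPGroup' Sr.isPGroup'
    have hc : x * z₀ * x⁻¹ * z₀⁻¹ ∈ (Sp : Subgroup G) ⊓ (Sr : Subgroup G) := by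
      refine Subgroup.mem_inf.mpr ⟨?_, ?_⟩
      · have h1 : z₀ * x⁻¹ * z₀⁻¹ ∈ (Sp : Subgroup G) :=
          Cfsg.Agent.Helper21.CNMax.conj_mem_of_le_normalizer hNp hz₀ (Subgroup.inv_mem _ hxS)
        have e : x * z₀ * x⁻¹ * z₀⁻¹ = x * (z₀ * x⁻¹ * z₀⁻¹) := by group
        rw [e]; exact Subgroup.mul_mem _ hxS h1
      · exact Subgroup.mul_mem _
          (Cfsg.Agent.Helper21.CNMax.conj_mem_of_le_normalizer hNr hxH₁ hzS)
          (Subgroup.inv_mem _ hzS)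
    rw [hdisj.eq_bot, Subgroup.mem_bot] at hc
    calc x * z₀ = (x * z₀ * x⁻¹ * z₀⁻¹) * z₀ * x := by group
      _ = z₀ * x := by rw [hc, one_mul]
  · exfalso
    have h1 := Nat.Coprime.eq_one_of_dvd (Nat.Coprime.coprime_dvd_left hq1 hcop) hq2
    exact hq.one_lt.ne' h1

end Cfsg.Agent.S1483
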