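import Cfsg.Statements.S1484
import Cfsg.Agent.Helper21.CNMax2
import Mathlib
-- import your own Cfsg.Agent.* helpers here

set_option autoImplicit false
open Cfsg

namespace Cfsg.Agent.S1484

/-- Let G be a minimal simple group of odd order in which every non-identity element has nilpotent centralizer, and M₁, …, M_k maximal subgroups, pairwise non-conjugate, such that every maximal subgroup is conjugate to some M_i. Let H_i be the largest normal nilpotent Hall subgroup of M_i. Then the orders of the H_i are pairwise coprime, their product is the order of G, and every element of G is conjugate to an element of some H_i. -/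
theorem result {G : Type*} [Group G] [Finite G] (hG : Cfsg.IsMinSimpleOddOrder G) (hCN : Cfsg.IsCNGroup G) (k : ℕ) (Mrep : Fin k → Subgroup G) (hmax : ∀ i, IsCoatom (Mrep i))
    (hnc : ∀ i j, i ≠ j → ∀ g : G, Mrep j ≠ (Mrep i).map (MulAut.conj g).toMonoidHom) (hall : ∀ M : Subgroup G, IsCoatom M → ∃ i, ∃ g : G, M = (Mrep i).map (MulAut.conj g).toMonoidHom) :
    (∀ i j, i ≠ j → (Nat.card (Cfsg.fittingHallOf (Mrep i))).Coprime (Nat.card (Cfsg.fittingHallOf (Mrep j)))) ∧
      ∏ i, Nat.card (Cfsg.fittingHallOf (Mrep i)) = Nat.card G ∧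
      ∀ x : G, ∃ i, ∃ g : G, g * x * g⁻¹ ∈ Cfsg.fittingHallOf (Mrep i) := by
  classical
  have hsimple := hG.2.1
  have hstruct : ∀ i, ∃ H : Subgroup G, Group.IsNilpotent H ∧
      (∀ L : Subgroup G, Group.IsNilpotent L → H ≤ L → L = H) ∧
      Cfsg.fittingHallOf (Mrep i) = H ∧ Subgroup.normalizer (H : Set G) = Mrep i := by
    intro i
    obtain ⟨H, E, hHnil, hmaxH, hFD⟩ :=
      Cfsg.Agent.Helper21.CNMax.coatom_struct hG hCN (Mrep i) (hmax i)
    refine ⟨H, hHnil, hmaxH,
      Cfsg.Agent.Helper21.CNMax.fittingHallOf_eq hCN _ H E hHnil hmaxH hFD, ?_⟩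
    have hNtop := (Cfsg.Agent.Helper21.CNMax.max_nil_coatom hG hCN H hHnil hmaxH).1
    rcases eq_or_lt_of_le hFD.2.2.1 with h | h
    · exact h.symm
    · exact absurd ((hmax i).2 _ h) hNtop
  choose Hf hnil hmaxf hfit hnorm using hstruct
  simp only [hfit]
  have hconjN : ∀ i (g : G), Subgroup.normalizer
      (((Hf i).map (MulAut.conj g).toMonoidHom : Subgroup G) : Set G) =
      (Mrep i).map (MulAut.conj g).toMonoidHom := by
    intro i g
    rw [← Subgroup.map_equiv_normalizer_eq (Hf i) (MulAut.conj g), hnorm i]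
  have conj_rep : ∀ H : Subgroup G, Group.IsNilpotent H →
      (∀ L : Subgroup G, Group.IsNilpotent L → H ≤ L → L = H) →
      ∃ i, ∃ g : G, H = (Hf i).map (MulAut.conj g).toMonoidHom := by
    intro H hHnil hmaxH
    obtain ⟨i, g, hig⟩ := hall _ (Cfsg.Agent.Helper21.CNMax.max_nil_coatom hG hCN H hHnil hmaxH)
    refine ⟨i, g, ?_⟩
    obtain ⟨hcn, hcm⟩ := Cfsg.Agent.Helper21.CNMax.max_nil_conj (Hf i) (hnil i) (hmaxf i) g
    exact Cfsg.Agent.Helper21.CNMax.max_nil_unique_of_normalizer hG hCN _ H hcn hcm hHnil hmaxH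
      (by rw [hconjN]; exact hig)
  have hcoprime : ∀ i j, i ≠ j → (Nat.card (Hf i)).Coprime (Nat.card (Hf j)) := by
    intro i j hij
    rcases Cfsg.Agent.Helper21.CNMax.conj_or_coprime hG hCN (Hf i) (Hf j) (hnil i) (hmaxf i)
      (hnil j) (hmaxf j) with ⟨g, hg⟩ | h
    · exfalso
      apply hnc i j hij g
      rw [← hnorm j, hg, hconjN]
    · exact h
  refine ⟨hcoprime, ?_, ?_⟩
  · apply Nat.eq_of_factorization_eq
    · exact Finset.prod_ne_zero_iff.mpr (fun i _ => Nat.card_pos.ne')
    · exact Nat.card_pos.ne'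
    intro p
    by_cases hp : p.Prime
    swap
    · rw [Nat.factorization_eq_zero_of_not_prime _ hp,
        Nat.factorization_eq_zero_of_not_prime _ hp]
    rw [Nat.factorization_prod (fun i _ => Nat.card_pos.ne'), Finsupp.finsetSum_apply]
    by_cases hpG : p ∣ Nat.card G
    · haveI := Fact.mk hp
      obtain ⟨S⟩ : Nonempty (Sylow p G) := inferInstance
      have hSne := S.ne_bot_of_dvd_card hpG
      obtain ⟨H, hSH, hHnil, hmaxH⟩ :=
        Cfsg.Agent.Helper21.CNMax.exists_max_nil (S : Subgroup G) S.isPGroup'.isNilpotent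
      obtain ⟨i₀, g, hig⟩ := conj_rep H hHnil hmaxH
      have hpS : p ∣ Nat.card (S : Subgroup G) := by
        obtain ⟨k, hk⟩ := S.isPGroup'.exists_card_eq
        have hk0 : k ≠ 0 := by
          intro h0
          rw [h0, pow_zero] at hk
          exact hSne (Subgroup.eq_bot_of_card_eq _ hk)
        rw [hk]; exact dvd_pow_self p hk0
      have hpH : p ∣ Nat.card (Hf i₀) := by
        have h1 : Nat.card H = Nat.card (Hf i₀) := by
          rw [hig, Subgroup.card_map_of_injective (MulAut.conj g).injective]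
        rw [← h1]
        exact hpS.trans (Subgroup.card_dvd_of_le hSH)
      rw [Finset.sum_eq_single i₀]
      · exact Cfsg.Agent.Helper21.CNMax.hall_factorization (Hf i₀)
          (Cfsg.Agent.S1477.result hCN _ (hnil i₀) (hmaxf i₀)).1 p hp hpH
      · intro j _ hj
        apply Nat.factorization_eq_zero_of_not_dvd
        intro hpj
        have hcop := hcoprime j i₀ hj
        exact hp.one_lt.ne' (Nat.Coprime.eq_one_of_dvd (Nat.Coprime.coprime_dvd_left hpj hcop) hpH)
      · intro h; exact absurd (Finset.mem_univ _) h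
    · rw [Nat.factorization_eq_zero_of_not_dvd hpG]
      apply Finset.sum_eq_zero
      intro i _
      apply Nat.factorization_eq_zero_of_not_dvd
      intro h
      exact hpG (h.trans (Subgroup.card_subgroup_dvd_card _))
  · intro x
    by_cases hx : x = 1
    · have hex : ∃ M : Subgroup G, IsCoatom M := by
        haveI := hsimple
        rcases eq_top_or_exists_le_coatom (⊥ : Subgroup G) with h | ⟨M, hM, -⟩
        · exact absurd h bot_ne_top
        · exact ⟨M, hM⟩
      obtain ⟨M, hM⟩ := hex
      obtain ⟨i, -, -⟩ := hall M hM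
      refine ⟨i, 1, ?_⟩
      rw [hx]
      simp
    · obtain ⟨H, hK, hHnil, hmaxH⟩ := Cfsg.Agent.Helper21.CNMax.exists_max_nil _ (hCN x hx)
      have hxH : x ∈ H := hK (by
        rw [Subgroup.mem_centralizer_iff]; intro h hh
        rw [Set.mem_singleton_iff] at hh; rw [hh])
      obtain ⟨i, g, hig⟩ := conj_rep H hHnil hmaxH
      rw [hig] at hxH
      obtain ⟨w, hw, hwx⟩ := hxH
      refine ⟨i, g⁻¹, ?_⟩
      have hwx' : g * w * g⁻¹ = x := hwx
      have e : g⁻¹ * x * g⁻¹⁻¹ = w := by rw [← hwx']; group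
      rw [e]; exact hw

end Cfsg.Agent.S1484
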