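import Mathlib
import Cfsg.Statements.S1783
import Mathlib
import Cfsg.Agent.Helper26.TISq
-- import your own Cfsg.Agent.* helpers here

set_option autoImplicit false
open Cfsg

namespace Cfsg.Agent.S1783

/-- Let X be a finite group whose generalized Fitting subgroup equals its largest normal 2-subgroup Q, and let A be an abelian 2-subgroup of X such that every conjugate of A equals A or meets A trivially. Let B be the subgroup generated by the squares of the elements of A. Then B lies in Q, and if B is not an elementary abelian 2-group then the normal closure of B in X is commutative. -/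
theorem result {X : Type*} [Group X] [Finite X]
    (hX : Cfsg.generalizedFittingSubgroup X = Cfsg.pCore 2 X) (A : Subgroup X) (hA2 : IsPGroup 2 ↥A) (hAa : IsMulCommutative ↥A)
    (hti : ∀ h : X, A.map (MulAut.conj h).toMonoidHom = A ∨ A.map (MulAut.conj h).toMonoidHom ⊓ A = ⊥) :
    Subgroup.closure ((fun a : X => a ^ 2) '' (A : Set X)) ≤ Cfsg.pCore 2 X ∧
      (¬ Cfsg.IsElementaryAbelian 2 (Subgroup.closure ((fun a : X => a ^ 2) '' (A : Set X))) →
        IsMulCommutative ↥(Subgroup.normalClosure ((fun a : X => a ^ 2) '' (A : Set X)))) := by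
  classical
  have hAa' : ∀ x ∈ A, ∀ y ∈ A, x * y = y * x := by
    intro x hx y hy
    have := hAa.is_comm.comm (⟨x, hx⟩ : ↥A) ⟨y, hy⟩
    exact congrArg Subtype.val this
  haveI hQn : (Cfsg.pCore 2 X).Normal := Cfsg.Agent.Helper14.pCore_normal 2 X
  have hQ2 : IsPGroup 2 ↥(Cfsg.pCore 2 X) := Cfsg.Agent.Helper14.pCore_isPGroup 2 X
  have hCQ : Subgroup.centralizer ((Cfsg.pCore 2 X : Subgroup X) : Set X) ≤ Cfsg.pCore 2 X := by
    have := Cfsg.Agent.S1265.result (G := X)
    rw [hX] at this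
    exact this
  have h1 : Subgroup.closure ((fun a : X => a ^ 2) '' (A : Set X)) ≤ Cfsg.pCore 2 X := by
    rw [Subgroup.closure_le]
    rintro _ ⟨a, ha, rfl⟩
    have := Cfsg.Agent.Helper26.TISq.sq_mem_of_quadratic (Cfsg.pCore 2 X) hQ2 hCQ
      (fun N hN hN2 => Cfsg.Agent.Helper14.le_pCore hN hN2) A hA2 hAa' hti a ha
    show a ^ 2 ∈ Cfsg.pCore 2 X
    rw [pow_two]; exact this
  refine ⟨h1, ?_⟩
  intro hne
  have hBA : Subgroup.closure ((fun a : X => a ^ 2) '' (A : Set X)) ≤ A := by
    rw [Subgroup.closure_le]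
    rintro _ ⟨a, ha, rfl⟩
    exact A.pow_mem ha 2
  have hBsq : ∃ x ∈ Subgroup.closure ((fun a : X => a ^ 2) '' (A : Set X)), x * x ≠ 1 := by
    by_contra hno
    push Not at hno
    apply hne
    refine ⟨⟨⟨fun x y => Subtype.ext (hAa' _ (hBA x.2) _ (hBA y.2))⟩⟩, ?_⟩
    intro b hb
    rw [pow_two]; exact hno b hb
  have hcomm := Cfsg.Agent.Helper26.TISq.normalClosure_comm (Cfsg.pCore 2 X) hQ2 A _ hBA h1 hAa' hBsq
    (Cfsg.Agent.Helper26.TISq.ti_conj _ (Cfsg.Agent.Helper26.TISq.sq_ti A hti))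
  have hgen : ∀ u ∈ Group.conjugatesOfSet ((fun a : X => a ^ 2) '' (A : Set X)),
      ∀ v ∈ Group.conjugatesOfSet ((fun a : X => a ^ 2) '' (A : Set X)), u * v = v * u := by
    intro u hu v hv
    rw [Group.mem_conjugatesOfSet_iff] at hu hv
    obtain ⟨_, ⟨a, ha, rfl⟩, hc⟩ := hu
    obtain ⟨_, ⟨a', ha', rfl⟩, hc'⟩ := hv
    rw [isConj_iff] at hc hc'
    obtain ⟨g, rfl⟩ := hc
    obtain ⟨g', rfl⟩ := hc'
    exact hcomm g g' _ (Subgroup.subset_closure ⟨a, ha, rfl⟩) _ (Subgroup.subset_closure ⟨a', ha', rfl⟩)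
  have hc1 : Subgroup.normalClosure ((fun a : X => a ^ 2) '' (A : Set X)) ≤
      Subgroup.centralizer (Group.conjugatesOfSet ((fun a : X => a ^ 2) '' (A : Set X))) := by
    unfold Subgroup.normalClosure
    rw [Subgroup.closure_le]
    intro x hx
    exact Subgroup.mem_centralizer_iff.mpr (fun y hy => hgen y hy x hx)
  have hc2 : Subgroup.normalClosure ((fun a : X => a ^ 2) '' (A : Set X)) ≤
      Subgroup.centralizer (Subgroup.normalClosure ((fun a : X => a ^ 2) '' (A : Set X)) : Set X) := by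
    have hle : ∀ x ∈ Group.conjugatesOfSet ((fun a : X => a ^ 2) '' (A : Set X)),
        x ∈ Subgroup.centralizer (Subgroup.normalClosure ((fun a : X => a ^ 2) '' (A : Set X)) : Set X) := by
      intro x hx
      exact Subgroup.mem_centralizer_iff.mpr
        (fun y hy => (Subgroup.mem_centralizer_iff.mp (hc1 hy) x hx).symm)
    exact (Subgroup.closure_le _).mpr hle
  exact ⟨⟨fun x y => Subtype.ext ((Subgroup.mem_centralizer_iff.mp (hc2 x.2) y y.2).symm)⟩⟩

end Cfsg.Agent.S1783
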