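import Cfsg.Statements.S1896
import Mathlib
import Cfsg.Agent.Helper8.MetaAut

set_option autoImplicit false
open Cfsg

namespace Cfsg.Agent.S1896

/-- A finite metacyclic 2-group whose automorphism group is not a 2-group is isomorphic to the quaternion group of order 8 or to a homocyclic abelian group Z_{2^n} × Z_{2^n}. -/
theorem result {X : Type*} [Group X] [Finite X] (hX : IsPGroup 2 X)
    (hm : Cfsg.IsMetacyclic X) (hA : ¬ IsPGroup 2 (MulAut X)) :
    Nonempty (X ≃* QuaternionGroup 2) ∨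
      ∃ n : ℕ, Nonempty (X ≃* Multiplicative (ZMod (2 ^ n)) × Multiplicative (ZMod (2 ^ n))) := by
  obtain ⟨N, hNn, hNc, hQc⟩ := hm
  haveI := hNn
  obtain ⟨c0, hc0⟩ := hNc.exists_generator
  obtain ⟨q, hq⟩ := hQc.exists_generator
  obtain ⟨y, rfl⟩ := QuotientGroup.mk_surjective q
  have hform : ∀ g : X, ∃ i j : ℕ, g = y ^ i * (c0 : X) ^ j := by
    intro g
    obtain ⟨i, hi⟩ := Cfsg.Agent.Helper8.Meta.exists_pow_of_mem_zpowers (hq (g : X ⧸ N))
    have h1 : (y ^ i)⁻¹ * g ∈ N := by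
      rw [← QuotientGroup.eq, QuotientGroup.mk_pow]; exact hi
    obtain ⟨j, hj⟩ := Cfsg.Agent.Helper8.Meta.exists_pow_of_mem_zpowers (hc0 ⟨_, h1⟩)
    refine ⟨i, j, ?_⟩
    have h2 : (c0 : X) ^ j = (y ^ i)⁻¹ * g := by
      have h3 := congrArg Subtype.val hj
      simpa using h3
    rw [h2, mul_inv_cancel_left]
  have hNle : commutator X ≤ Subgroup.zpowers (c0 : X) := by
    have h1 : commutator X ≤ N := by
      rw [commutator_def, Subgroup.commutator_le]
      intro a _ b _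
      have hcomm := Cfsg.Agent.S1236.zp_comm (y : X ⧸ N) (a : X ⧸ N) (b : X ⧸ N) (hq _) (hq _)
      rw [← QuotientGroup.eq_one_iff, commutatorElement_def, QuotientGroup.mk_mul,
        QuotientGroup.mk_mul, QuotientGroup.mk_mul, QuotientGroup.mk_inv, QuotientGroup.mk_inv,
        hcomm]
      group
    intro u hu
    obtain ⟨j, hj⟩ := Cfsg.Agent.Helper8.Meta.exists_pow_of_mem_zpowers (hc0 ⟨u, h1 hu⟩)
    have h2 : (c0 : X) ^ j = u := by simpa using congrArg Subtype.val hj
    rw [← h2]; exact Subgroup.pow_mem _ (Subgroup.mem_zpowers _) _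
  obtain ⟨r, hrp, hr2, hrd⟩ : ∃ r : ℕ, r.Prime ∧ r ≠ 2 ∧ r ∣ Nat.card (MulAut X) := by
    by_contra hcon
    apply hA
    have h1 := Nat.eq_prime_pow_of_unique_prime_dvd (n := Nat.card (MulAut X)) (p := 2)
      Nat.card_pos.ne'
      (fun {d} hd hdvd => by
        by_contra hne
        exact hcon ⟨d, hd, hne, hdvd⟩)
    exact IsPGroup.of_card h1
  haveI : Fact r.Prime := ⟨hrp⟩
  obtain ⟨α, hα⟩ := exists_prime_orderOf_dvd_card' r hrd
  have hrodd : Odd r := hrp.odd_of_ne_two hr2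
  have hαr : α ^ r = 1 := by rw [← hα]; exact pow_orderOf_eq_one α
  have hα1 : α ≠ 1 := by
    intro h
    rw [h, orderOf_one] at hα
    exact hrp.one_lt.ne hα
  have hyp : Cfsg.Agent.Helper8.MetaAut.Hyp (c0 : X) y α r :=
    ⟨hX, hform, hrp, hrodd, hαr, hα1⟩
  by_cases hab : ∀ a b : X, a * b = b * a
  · right; exact Cfsg.Agent.Helper8.MetaAut.abelian_case hyp hab
  · left
    exact Cfsg.Agent.S4189.result hX (fun hc => hab (fun a b => hc.is_comm.comm a b))
      (Cfsg.Agent.Helper8.MetaAut.nonabelian_case hyp hNle hab) hA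

end Cfsg.Agent.S1896
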