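import Cfsg.Statements.S1902
import Cfsg.Agent.S1302
import Cfsg.Agent.S0629
import Cfsg.Agent.S4176
import Cfsg.Agent.Helper23.SolvPSolv
import Cfsg.Agent.Helper14.Comm
import Cfsg.Agent.Helper14.Conj
import Cfsg.Agent.Helper14.PElem

set_option autoImplicit false
open Cfsg

namespace Cfsg.Agent.S1902
open Cfsg.Agent.Helper14

theorem elab_of_central {G : Type*} [Group G] {p : ℕ} (E : Subgroup G)
    (hE : Cfsg.IsElementaryAbelian p E) (x : G) (hx : x ∈ Subgroup.centralizer (E : Set G))
    (hxp : x ^ p = 1) :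
    Cfsg.IsElementaryAbelian p (Subgroup.closure ((E : Set G) ∪ {x})) := by
  have hcomm : ∀ a ∈ (E : Set G) ∪ {x}, ∀ b ∈ (E : Set G) ∪ {x}, a * b = b * a := by
    have hEc : ∀ a ∈ E, ∀ b ∈ E, a * b = b * a := fun a ha b hb => by
      have := hE.1.is_comm.comm (⟨a, ha⟩ : ↥E) ⟨b, hb⟩
      exact congrArg Subtype.val this
    have hxc : ∀ a ∈ E, a * x = x * a := fun a ha => Subgroup.mem_centralizer_iff.mp hx a ha
    rintro a (ha | ha) b (hb | hb)
    · exact hEc a ha b hb
    · rw [Set.mem_singleton_iff.mp hb]; exact hxc a ha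
    · rw [Set.mem_singleton_iff.mp ha]; exact (hxc b hb).symm
    · rw [Set.mem_singleton_iff.mp ha, Set.mem_singleton_iff.mp hb]
  have hpow : ∀ a ∈ (E : Set G) ∪ {x}, a ^ p = 1 := by
    rintro a (ha | ha)
    · exact hE.2 a ha
    · rw [Set.mem_singleton_iff.mp ha]; exact hxp
  exact ⟨⟨⟨fun a b => Subtype.ext (closure_comm_of_comm _ hcomm a.1 a.2 b.1 b.2)⟩⟩,
    closure_pow_eq_one_of_comm _ p hcomm hpow⟩

theorem isPGroup_of_elab {G : Type*} [Group G] {p : ℕ} (E : Subgroup G)
    (hE : Cfsg.IsElementaryAbelian p E) : IsPGroup p ↥E := by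
  intro g
  refine ⟨1, ?_⟩
  apply Subtype.ext
  rw [pow_one]
  exact hE.2 g.1 g.2


/-- Let p be an odd prime, G a finite p-solvable group, and B an elementary abelian subgroup of order p² such that B is the subgroup generated by the elements of order p of some Sylow p-subgroup of C_G(b₀), for some nontrivial b₀ ∈ B. Then every B-invariant subgroup of G of order prime to p lies in O_{p'}(G). -/
theorem result {G : Type*} [Group G] [Finite G] {p : ℕ} [Fact p.Prime] (hp : p ≠ 2)
    (hG : Cfsg.IsPSolvable p G) (B : Subgroup G) (hB : Cfsg.IsElementaryAbelian p B) (hBc : Nat.card B = p ^ 2)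
    (b₀ : G) (hb₀ : b₀ ∈ B) (hb₁ : b₀ ≠ 1) (P : Sylow p ↥(Subgroup.centralizer ({b₀} : Set G)))
    (hBP : B = Subgroup.closure {x : G | x ∈ ((P : Subgroup ↥(Subgroup.centralizer ({b₀} : Set G))).map
      (Subgroup.centralizer ({b₀} : Set G)).subtype : Subgroup G) ∧ orderOf x = p})
    (Q : Subgroup G) (hQ : ¬ p ∣ Nat.card Q) (hinv : ∀ b ∈ B, ∀ x ∈ Q, b * x * b⁻¹ ∈ Q) :
    Q ≤ Cfsg.pPrimeCore p G := by
  have hpp : p.Prime := Fact.out
  obtain ⟨P'⟩ := (inferInstance : Nonempty (Sylow p ↥(Cfsg.pPrimePCore p G)))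
  have hc : Cfsg.IsPConstrained p G :=
    Cfsg.Agent.S0629.result P' (Cfsg.Agent.S4176.isPSolvable_subgroup hG _)
  have hBQ : B ≤ Subgroup.normalizer (Q : Set G) := by
    intro b hb
    apply mem_normalizer_of_forall Q b (hinv b hb)
    intro x hx
    have := hinv b⁻¹ (B.inv_mem hb) x hx
    rwa [inv_inv] at this
  have hBcomm : ∀ a ∈ B, ∀ b ∈ B, a * b = b * a := fun a ha b hb => by
    have := hB.1.is_comm.comm (⟨a, ha⟩ : ↥B) ⟨b, hb⟩
    exact congrArg Subtype.val this
  have hΩ : ∀ x ∈ Subgroup.centralizer (B : Set G), orderOf x = p → x ∈ B := by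
    intro x hx hord
    have hxp : x ^ p = 1 := by rw [← hord]; exact pow_orderOf_eq_one x
    have hDel := elab_of_central B hB x hx hxp
    have hBD : B ≤ Subgroup.closure ((B : Set G) ∪ {x}) :=
      fun a ha => Subgroup.subset_closure (Or.inl ha)
    have hDC : Subgroup.closure ((B : Set G) ∪ {x}) ≤ Subgroup.centralizer ({b₀} : Set G) := by
      rw [Subgroup.closure_le]
      rintro a (ha | ha)
      · show a ∈ Subgroup.centralizer ({b₀} : Set G)
        rw [Subgroup.mem_centralizer_iff]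
        intro h hh
        rw [Set.mem_singleton_iff.mp hh]
        exact hBcomm b₀ hb₀ a ha
      · show a ∈ Subgroup.centralizer ({b₀} : Set G)
        rw [Subgroup.mem_centralizer_iff]
        intro h hh
        rw [Set.mem_singleton_iff.mp hh, Set.mem_singleton_iff.mp ha]
        exact Subgroup.mem_centralizer_iff.mp hx b₀ hb₀
    obtain ⟨S, hS⟩ := exists_sylow_sub_ge (Subgroup.centralizer ({b₀} : Set G)) _ hDC
      (isPGroup_of_elab _ hDel)
    obtain ⟨m, hm, hSm⟩ := sylow_sub_conj (Subgroup.centralizer ({b₀} : Set G)) P S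
    rw [hSm] at hS
    have hconj : (Subgroup.closure ((B : Set G) ∪ {x})).map (MulAut.conj m⁻¹).toMonoidHom ≤ B := by
      rintro y ⟨d, hd, rfl⟩
      by_cases hd1 : d = 1
      · rw [hd1, map_one]; exact B.one_mem
      · have hdo : orderOf d = p := orderOf_eq_prime (hDel.2 d hd) hd1
        have h1 := (mem_map_conj _ m d).mp (hS hd)
        rw [hBP]
        apply Subgroup.subset_closure
        refine ⟨?_, ?_⟩
        · show (MulAut.conj m⁻¹) d ∈ _
          rw [MulAut.conj_apply, inv_inv]; exact h1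
        · show orderOf ((MulAut.conj m⁻¹) d) = p
          rw [(MulAut.conj m⁻¹).orderOf_eq d]; exact hdo
    have hcard : Nat.card ↥(Subgroup.closure ((B : Set G) ∪ {x})) ≤ Nat.card ↥B := by
      have h1 := Subgroup.card_le_of_le hconj
      rwa [Subgroup.card_map_of_injective (MulAut.conj m⁻¹).injective] at h1
    have := Subgroup.eq_of_le_of_card_ge hBD hcard
    rw [this]
    exact Subgroup.subset_closure (Or.inr rfl)
  exact Cfsg.Agent.S1302.result p hp hc B hB.1 (isPGroup_of_elab B hB) hΩ Q hQ hBQ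

end Cfsg.Agent.S1902
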