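import Cfsg.Statements.S1910
import Cfsg.Agent.Helper14.Comm
import Cfsg.Agent.Helper19.PGroup
import Cfsg.Agent.Helper5.Grp
import Cfsg.Agent.Helper6.ConjMap
import Cfsg.Agent.Helper23.PSolv
import Cfsg.Agent.S3514

set_option autoImplicit false
open Cfsg
open scoped commutatorElement

namespace Cfsg.Agent.S1910

variable {G : Type*} [Group G]

theorem eq_one_of_two_pow_of_odd [Finite G] {K : Subgroup G} (hK : Odd (Nat.card K)) {x : G}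
    (hx : x ∈ K) {k : ℕ} (hxk : x ^ 2 ^ k = 1) : x = 1 := by
  have h1 : orderOf x ∣ 2 ^ k := orderOf_dvd_of_pow_eq_one hxk
  have h2 : orderOf x ∣ Nat.card K := by
    have := orderOf_dvd_natCard (⟨x, hx⟩ : K)
    rwa [← Subgroup.orderOf_coe] at this
  have h3 : Nat.Coprime (2 ^ k) (Nat.card K) := Nat.Coprime.pow_left k (Nat.coprime_two_left.mpr hK)
  have h4 : orderOf x = 1 := Nat.eq_one_of_dvd_coprimes h3 h1 h2
  exact orderOf_eq_one_iff.mp h4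

theorem two_pow_of_mem {T : Subgroup G} (hT2 : IsPGroup 2 T) {x : G} (hx : x ∈ T) :
    ∃ k : ℕ, x ^ 2 ^ k = 1 := by
  obtain ⟨k, hk⟩ := hT2 ⟨x, hx⟩
  refine ⟨k, ?_⟩
  have := congrArg Subtype.val hk
  rwa [Subgroup.coe_pow, Subgroup.coe_one] at this

theorem tight_core [Finite G] {Q : Subgroup G} (hQ : Cfsg.IsTightlyEmbedded Q) {x y : G}
    (hx : x ∈ Q) (hx1 : x ≠ 1) {k : ℕ} (hxk : x ^ 2 ^ k = 1) (hy : y * x * y⁻¹ ∈ Q) :
    y ∈ Subgroup.normalizer (Q : Set G) := by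
  by_contra hyN
  have hyN' : y⁻¹ ∉ Subgroup.normalizer (Q : Set G) := fun h =>
    hyN (by simpa using Subgroup.inv_mem _ h)
  have hodd := hQ.2 y⁻¹ hyN'
  apply hx1
  have hxm : x ∈ Q.map (MulAut.conj y⁻¹).toMonoidHom := by
    rw [Cfsg.Agent.Helper6.mem_conj_map]
    simpa using hy
  exact eq_one_of_two_pow_of_odd hodd ⟨hx, hxm⟩ hxk

theorem tight_conj [Finite G] {Q : Subgroup G} (hQ : Cfsg.IsTightlyEmbedded Q) (g : G) :
    Cfsg.IsTightlyEmbedded (Q.map (MulAut.conj g).toMonoidHom) := by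
  refine ⟨?_, ?_⟩
  · rw [Subgroup.card_map_of_injective (f := (MulAut.conj g).toMonoidHom) (MulAut.conj g).injective]
    exact hQ.1
  · intro h hh
    have hh' : g⁻¹ * h * g ∉ Subgroup.normalizer (Q : Set G) := by
      intro hn
      apply hh
      rw [Subgroup.mem_normalizer_iff] at hn ⊢
      intro y
      rw [Cfsg.Agent.Helper6.mem_conj_map, Cfsg.Agent.Helper6.mem_conj_map]
      have := hn (g⁻¹ * y * g)
      have e : g⁻¹ * h * g * (g⁻¹ * y * g) * (g⁻¹ * h * g)⁻¹ = g⁻¹ * (h * y * h⁻¹) * g := by group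
      rw [e] at this
      exact this
    have hodd := hQ.2 _ hh'
    have hmap : Q.map (MulAut.conj g).toMonoidHom ⊓
        (Q.map (MulAut.conj g).toMonoidHom).map (MulAut.conj h).toMonoidHom
        = (Q ⊓ Q.map (MulAut.conj (g⁻¹ * h * g)).toMonoidHom).map (MulAut.conj g).toMonoidHom := by
      ext y
      simp only [Subgroup.mem_inf, Cfsg.Agent.Helper6.mem_conj_map]
      have e : (g⁻¹ * h * g)⁻¹ * (g⁻¹ * y * g) * (g⁻¹ * h * g) = g⁻¹ * (h⁻¹ * y * h) * g := by group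
      rw [e]
    rw [hmap, Subgroup.card_map_of_injective (f := (MulAut.conj g).toMonoidHom) (MulAut.conj g).injective]
    exact hodd

theorem eq_of_odd_relIndex [Finite G] {T X D : Subgroup G} (hTX : T ≤ X) (hXD : X ≤ D)
    (hX : IsPGroup 2 X) (hodd : ¬ 2 ∣ T.relIndex D) : X = T := by
  apply le_antisymm _ hTX
  rw [← Subgroup.relIndex_eq_one]
  have h1 : T.relIndex X ∣ T.relIndex D := ⟨_, (Subgroup.relIndex_mul_relIndex T X D hTX hXD).symm⟩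
  obtain ⟨n, hn⟩ := IsPGroup.iff_card.mp hX
  have h2 : T.relIndex X ∣ 2 ^ n := by rw [← hn]; exact Subgroup.relIndex_dvd_card T X
  obtain ⟨j, -, hj⟩ := (Nat.dvd_prime_pow Nat.prime_two).mp h2
  rcases Nat.eq_zero_or_pos j with h0 | hpos
  · rw [hj, h0, pow_zero]
  · exfalso
    apply hodd
    refine dvd_trans ?_ h1
    rw [hj]
    exact dvd_pow_self 2 (Nat.pos_iff_ne_zero.mp hpos)

theorem card_dvd_of_odd_relIndex [Finite G] {X H K : Subgroup G} (hXK : X ≤ K) (hX : IsPGroup 2 X)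
    (hHK : H ≤ K) (hodd : ¬ 2 ∣ H.relIndex K) : Nat.card X ∣ Nat.card H := by
  obtain ⟨n, hn⟩ := IsPGroup.iff_card.mp hX
  have h1 : Nat.card X ∣ Nat.card H * H.relIndex K := by
    rw [← Cfsg.Agent.Helper23.card_eq_card_mul_relIndex hHK]
    exact Subgroup.card_dvd_of_le hXK
  have h2 : Nat.Coprime (Nat.card X) (H.relIndex K) := by
    rw [hn]
    exact Nat.Coprime.pow_left n ((Nat.Prime.coprime_iff_not_dvd Nat.prime_two).mpr hodd)
  exact Nat.Coprime.dvd_of_dvd_mul_right h2 h1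

theorem odd_relIndex_inf [Finite G] {Q T S : Subgroup G} (hTN : T ≤ Subgroup.normalizer (Q : Set G))
    (hTS : T ≤ S) (hS : S ≤ Q ⊔ T) (hodd : ¬ 2 ∣ S.relIndex (Q ⊔ T)) :
    ¬ 2 ∣ (S ⊓ Q).relIndex Q := by
  have hSN : S ≤ Subgroup.normalizer (Q : Set G) := hS.trans (sup_le Subgroup.le_normalizer hTN)
  have h1 : S.relIndex (Q ⊔ S) = S.relIndex Q := Cfsg.Agent.S3514.relIndex_sup_norm' Q S hSN
  have h2 : Q ⊔ S = Q ⊔ T := le_antisymm (sup_le le_sup_left hS) (sup_le_sup_left hTS Q)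
  rw [Subgroup.inf_relIndex_right, ← h1, h2]
  exact hodd

theorem sup_eq {Q T S : Subgroup G} (hTN : T ≤ Subgroup.normalizer (Q : Set G)) (hTS : T ≤ S)
    (hS : S ≤ Q ⊔ T) :
    T ⊔ (S ⊓ Subgroup.normalizer (T : Set G) ⊓ Q) = S ⊓ Subgroup.normalizer (T : Set G) := by
  apply le_antisymm
  · exact sup_le (le_inf hTS Subgroup.le_normalizer) inf_le_left
  · intro x hx
    obtain ⟨q, hq, t, ht, rfl⟩ :=
      Cfsg.Agent.Helper14.exists_mul_of_mem_sup_normalizer Q T hTN (hS hx.1)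
    have hqS : q ∈ S := by
      have e : q = q * t * t⁻¹ := by group
      rw [e]; exact S.mul_mem hx.1 (S.inv_mem (hTS ht))
    have hqN : q ∈ Subgroup.normalizer (T : Set G) := by
      have e : q = q * t * t⁻¹ := by group
      rw [e]; exact Subgroup.mul_mem _ hx.2 (Subgroup.inv_mem _ (Subgroup.le_normalizer ht))
    exact Subgroup.mul_mem _ (Subgroup.mem_sup_right ⟨⟨hqS, hqN⟩, hq⟩) (Subgroup.mem_sup_left ht)

theorem inj_hom [Finite G] {Q Q₁ : Subgroup G} (hQ₁ : Cfsg.IsTightlyEmbedded Q₁)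
    (hodd : Odd (Nat.card ↥(Q ⊓ Q₁))) {T : Subgroup G}
    (hT : T ≤ Q₁ ⊓ Subgroup.normalizer (Q : Set G)) (hT2 : IsPGroup 2 T)
    (hTmax : ∀ X : Subgroup G, IsPGroup 2 X → T ≤ X →
      X ≤ Q₁ ⊓ Subgroup.normalizer (Q : Set G) → X = T)
    {S : Subgroup G} (hTS : T ≤ S) (hS2 : IsPGroup 2 S)
    {s : G} (hsS : s ∈ S) (hsQ : s ∈ Q)
    (hsN : s ∈ Subgroup.normalizer
      ((T ⊔ (S ⊓ Subgroup.normalizer (T : Set G) ⊓ Q) : Subgroup G) : Set G))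
    (hsT : s ∉ Subgroup.normalizer (T : Set G)) :
    ∃ φ : ↥T →* ↥(S ⊓ Subgroup.normalizer (T : Set G) ⊓ Q), Function.Injective φ := by
  have hTQ : ∀ x ∈ T, x ∈ Q → x = 1 := by
    intro x hxT hxQ
    obtain ⟨k, hk⟩ := two_pow_of_mem hT2 hxT
    exact eq_one_of_two_pow_of_odd hodd ⟨hxQ, (hT hxT).1⟩ hk
  have hRN : (S ⊓ Subgroup.normalizer (T : Set G) ⊓ Q) ≤ Subgroup.normalizer (T : Set G) :=
    inf_le_left.trans inf_le_right
  have hdec : ∀ t : ↥T, ∃ r : ↥(S ⊓ Subgroup.normalizer (T : Set G) ⊓ Q),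
      s * (t : G) * s⁻¹ * (r : G)⁻¹ ∈ T := by
    intro t
    have h1 : s * (t : G) * s⁻¹ ∈ T ⊔ (S ⊓ Subgroup.normalizer (T : Set G) ⊓ Q) :=
      (Subgroup.mem_normalizer_iff.mp hsN (t : G)).mp (Subgroup.mem_sup_left t.2)
    obtain ⟨a, ha, b, hb, hab⟩ :=
      Cfsg.Agent.Helper14.exists_mul_of_mem_sup_normalizer _ _ hRN h1
    refine ⟨⟨b, hb⟩, ?_⟩
    rw [hab]
    simpa using ha
  choose f hf using hdec
  have huniq : ∀ (t : ↥T) (r : ↥(S ⊓ Subgroup.normalizer (T : Set G) ⊓ Q)),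
      s * (t : G) * s⁻¹ * (r : G)⁻¹ ∈ T → r = f t := by
    intro t r hr
    have h1 := hf t
    have h2 : (f t : G) * (r : G)⁻¹ ∈ T := by
      have e : (f t : G) * (r : G)⁻¹ =
          (s * (t : G) * s⁻¹ * (f t : G)⁻¹)⁻¹ * (s * (t : G) * s⁻¹ * (r : G)⁻¹) := by group
      rw [e]; exact T.mul_mem (T.inv_mem h1) hr
    have h3 : (f t : G) * (r : G)⁻¹ ∈ Q := Q.mul_mem (f t).2.2 (Q.inv_mem r.2.2)
    have h4 := hTQ _ h2 h3
    apply Subtype.ext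
    have h5 : (f t : G) = r := by
      calc (f t : G) = (f t : G) * (r : G)⁻¹ * r := by group
        _ = r := by rw [h4, one_mul]
    exact h5.symm
  have hmul : ∀ t₁ t₂ : ↥T, f (t₁ * t₂) = f t₁ * f t₂ := by
    intro t₁ t₂
    symm
    apply huniq
    have h1 := hf t₁
    have h2 := hf t₂
    have h3 : (f t₁ : G) * (s * (t₂ : G) * s⁻¹ * (f t₂ : G)⁻¹) * (f t₁ : G)⁻¹ ∈ T :=
      (Subgroup.mem_normalizer_iff.mp (hRN (f t₁).2) _).mp h2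
    have e : s * ((t₁ * t₂ : ↥T) : G) * s⁻¹ *
        ((f t₁ * f t₂ : ↥(S ⊓ Subgroup.normalizer (T : Set G) ⊓ Q)) : G)⁻¹
        = (s * (t₁ : G) * s⁻¹ * (f t₁ : G)⁻¹) *
          ((f t₁ : G) * (s * (t₂ : G) * s⁻¹ * (f t₂ : G)⁻¹) * (f t₁ : G)⁻¹) := by
      rw [Subgroup.coe_mul, Subgroup.coe_mul]; group
    rw [e]; exact T.mul_mem h1 h3
  refine ⟨MonoidHom.mk' f hmul, ?_⟩
  intro t₁ t₂ h12
  by_contra hne
  have hf12 : f t₁ = f t₂ := h12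
  have h1 := hf t₁
  have h2 := hf t₂
  rw [hf12] at h1
  have huT : (t₁ : G) * (t₂ : G)⁻¹ ∈ T := T.mul_mem t₁.2 (T.inv_mem t₂.2)
  have hu1 : (t₁ : G) * (t₂ : G)⁻¹ ≠ 1 := by
    intro h
    apply hne
    apply Subtype.ext
    calc (t₁ : G) = (t₁ : G) * (t₂ : G)⁻¹ * t₂ := by group
      _ = t₂ := by rw [h, one_mul]
  have hsu : s * ((t₁ : G) * (t₂ : G)⁻¹) * s⁻¹ ∈ T := by
    have e : s * ((t₁ : G) * (t₂ : G)⁻¹) * s⁻¹ =
        (s * (t₁ : G) * s⁻¹ * (f t₂ : G)⁻¹) * (s * (t₂ : G) * s⁻¹ * (f t₂ : G)⁻¹)⁻¹ := by group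
    rw [e]
    exact T.mul_mem h1 (T.inv_mem h2)
  obtain ⟨k, hk⟩ := two_pow_of_mem hT2 huT
  have hsN₁ : s ∈ Subgroup.normalizer (Q₁ : Set G) := tight_core hQ₁ (hT huT).1 hu1 hk (hT hsu).1
  have hsNQ : s ∈ Subgroup.normalizer (Q : Set G) := Subgroup.le_normalizer hsQ
  apply hsT
  have hXS : T ⊔ Subgroup.zpowers s ≤ S := sup_le hTS (by rw [Subgroup.zpowers_le]; exact hsS)
  have hX : (T ⊔ Subgroup.zpowers s) ⊓ (Q₁ ⊓ Subgroup.normalizer (Q : Set G)) = T :=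
    hTmax _ (hS2.to_le (inf_le_left.trans hXS)) (le_inf le_sup_left hT) inf_le_right
  have hconj : ∀ (y : G), y ∈ T ⊔ Subgroup.zpowers s → y ∈ Subgroup.normalizer (Q₁ : Set G) →
      y ∈ Subgroup.normalizer (Q : Set G) → ∀ h ∈ T, y * h * y⁻¹ ∈ T := by
    intro y hyX hy1 hy2 h hh
    rw [← hX]
    refine ⟨?_, ?_, ?_⟩
    · exact Subgroup.mul_mem _ (Subgroup.mul_mem _ hyX (Subgroup.mem_sup_left hh))
        (Subgroup.inv_mem _ hyX)
    · exact (Subgroup.mem_normalizer_iff.mp hy1 h).mp (hT hh).1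
    · exact Subgroup.mul_mem _ (Subgroup.mul_mem _ hy2 (hT hh).2) (Subgroup.inv_mem _ hy2)
  have hs_mem : s ∈ T ⊔ Subgroup.zpowers s := Subgroup.mem_sup_right (Subgroup.mem_zpowers s)
  rw [Subgroup.mem_normalizer_iff]
  intro h
  constructor
  · exact hconj s hs_mem hsN₁ hsNQ h
  · intro hh
    have := hconj s⁻¹ (Subgroup.inv_mem _ hs_mem) (Subgroup.inv_mem _ hsN₁)
      (Subgroup.inv_mem _ hsNQ) _ hh
    have e : s⁻¹ * (s * h * s⁻¹) * s⁻¹⁻¹ = h := by group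
    rwa [e] at this

theorem exists_good [Finite G] {Q T S : Subgroup G} (hTN : T ≤ Subgroup.normalizer (Q : Set G))
    (hTS : T ≤ S) (hS : S ≤ Q ⊔ T) (hS2 : IsPGroup 2 S)
    (hex : ¬ (S ⊓ Q ≤ Subgroup.normalizer (T : Set G))) :
    ∃ s ∈ S, s ∈ Q ∧ s ∈ Subgroup.normalizer
      ((T ⊔ (S ⊓ Subgroup.normalizer (T : Set G) ⊓ Q) : Subgroup G) : Set G) ∧
      s ∉ Subgroup.normalizer (T : Set G) := by
  rw [sup_eq hTN hTS hS]
  have hlt : S ⊓ Subgroup.normalizer (T : Set G) < S := by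
    refine lt_of_le_of_ne inf_le_left ?_
    intro h
    apply hex
    intro x hx
    have : x ∈ S ⊓ Subgroup.normalizer (T : Set G) := by rw [h]; exact hx.1
    exact this.2
  obtain ⟨y, hyS, hyN, hyn⟩ := Cfsg.Agent.Helper19.exists_mem_normalizer_not_mem hS2 hlt
  obtain ⟨q, hq, t, ht, rfl⟩ :=
    Cfsg.Agent.Helper14.exists_mul_of_mem_sup_normalizer Q T hTN (hS hyS)
  have htS : t ∈ S := hTS ht
  have htN : t ∈ S ⊓ Subgroup.normalizer (T : Set G) := ⟨htS, Subgroup.le_normalizer ht⟩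
  have hqS : q ∈ S := by
    have e : q = q * t * t⁻¹ := by group
    rw [e]; exact S.mul_mem hyS (S.inv_mem htS)
  refine ⟨q, hqS, hq, ?_, ?_⟩
  · have e : q = q * t * t⁻¹ := by group
    rw [e]
    exact Subgroup.mul_mem _ hyN (Subgroup.inv_mem _ (Subgroup.le_normalizer htN))
  · intro hqN
    apply hyn
    exact Subgroup.mul_mem _ ⟨hqS, hqN⟩ htN

theorem config [Finite G] {Q Q₁ : Subgroup G} (g : G)
    (hQQ₁ : Q₁ = Q.map (MulAut.conj g).toMonoidHom)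
    (hQ₁ : Cfsg.IsTightlyEmbedded Q₁) (hodd : Odd (Nat.card ↥(Q ⊓ Q₁)))
    {T : Subgroup G} (hT : T ≤ Q₁ ⊓ Subgroup.normalizer (Q : Set G)) (hT2 : IsPGroup 2 T)
    (hTmax : ∀ X : Subgroup G, IsPGroup 2 X → T ≤ X →
      X ≤ Q₁ ⊓ Subgroup.normalizer (Q : Set G) → X = T)
    {S : Subgroup G} (hTS : T ≤ S) (hS : S ≤ Q ⊔ T) (hS2 : IsPGroup 2 S)
    (hSodd : ¬ 2 ∣ S.relIndex (Q ⊔ T)) :
    ∃ φ : ↥T →* ↥(S ⊓ Subgroup.normalizer (T : Set G) ⊓ Q), Function.Injective φ := by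
  have hTN : T ≤ Subgroup.normalizer (Q : Set G) := hT.trans inf_le_right
  by_cases hex : S ⊓ Q ≤ Subgroup.normalizer (T : Set G)
  · have hodd' : ¬ 2 ∣ (S ⊓ Q).relIndex Q := odd_relIndex_inf hTN hTS hS hSodd
    obtain ⟨P, hP⟩ :=
      (IsPGroup.comap_subtype (hS2.to_le (inf_le_left : S ⊓ Q ≤ S)) (K := Q)).exists_le_sylow
    have hPle : (P : Subgroup ↥Q).map Q.subtype ≤ Q := by
      rintro _ ⟨y, -, rfl⟩; exact y.2
    have hP2 : IsPGroup 2 ↥((P : Subgroup ↥Q).map Q.subtype) := P.isPGroup'.map Q.subtype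
    have hSQle : S ⊓ Q ≤ (P : Subgroup ↥Q).map Q.subtype := by
      intro x hx
      exact ⟨⟨x, hx.2⟩, hP (Subgroup.mem_subgroupOf.mpr hx), rfl⟩
    have hdvd : Nat.card ↥((P : Subgroup ↥Q).map Q.subtype) ∣ Nat.card ↥(S ⊓ Q) :=
      card_dvd_of_odd_relIndex hPle hP2 inf_le_right hodd'
    have hPeq : (P : Subgroup ↥Q).map Q.subtype = S ⊓ Q :=
      (Subgroup.eq_of_le_of_card_ge hSQle (Nat.le_of_dvd Nat.card_pos hdvd)).symm
    have hT'Q : T.map (MulAut.conj g⁻¹).toMonoidHom ≤ Q := by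
      intro y hy
      rw [Cfsg.Agent.Helper6.mem_conj_map] at hy
      have h1 : g⁻¹⁻¹ * y * g⁻¹ ∈ Q.map (MulAut.conj g).toMonoidHom := hQQ₁ ▸ (hT hy).1
      rw [Cfsg.Agent.Helper6.mem_conj_map] at h1
      have e : g⁻¹ * (g⁻¹⁻¹ * y * g⁻¹) * g = y := by group
      rwa [e] at h1
    obtain ⟨z, hzQ, hz⟩ :=
      Cfsg.Agent.Helper5.exists_conj_mem_of_sylow_map Q P _ (hT2.map _) hT'Q
    have hmem : ∀ t : ↥T,
        z * (g⁻¹ * (t : G) * g) * z⁻¹ ∈ S ⊓ Subgroup.normalizer (T : Set G) ⊓ Q := by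
      intro t
      have h1 : g⁻¹ * (t : G) * g ∈ T.map (MulAut.conj g⁻¹).toMonoidHom := by
        rw [Cfsg.Agent.Helper6.mem_conj_map]
        have e : g⁻¹⁻¹ * (g⁻¹ * (t : G) * g) * g⁻¹ = t := by group
        rw [e]; exact t.2
      have h2 := hz _ h1
      rw [hPeq] at h2
      exact ⟨⟨h2.1, hex h2⟩, h2.2⟩
    refine ⟨MonoidHom.mk' (fun t => ⟨z * (g⁻¹ * (t : G) * g) * z⁻¹, hmem t⟩) ?_, ?_⟩
    · intro a b
      apply Subtype.ext
      show z * (g⁻¹ * ((a * b : ↥T) : G) * g) * z⁻¹ =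
        (z * (g⁻¹ * (a : G) * g) * z⁻¹) * (z * (g⁻¹ * (b : G) * g) * z⁻¹)
      rw [Subgroup.coe_mul]; group
    · intro a b hab
      have h1 : z * (g⁻¹ * (a : G) * g) * z⁻¹ = z * (g⁻¹ * (b : G) * g) * z⁻¹ :=
        congrArg Subtype.val hab
      apply Subtype.ext
      have h2 : ∀ c : G, c = g * (z⁻¹ * (z * (g⁻¹ * c * g) * z⁻¹) * z) * g⁻¹ := by
        intro c; group
      rw [h2 (a : G), h1, ← h2 (b : G)]
  · obtain ⟨s, hsS, hsQ, hsN, hsT⟩ := exists_good hTN hTS hS hS2 hex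
    exact inj_hom hQ₁ hodd hT hT2 hTmax hTS hS2 hsS hsQ hsN hsT

theorem exists_max_two [Finite G] {R D : Subgroup G} (hRD : R ≤ D) (hR2 : IsPGroup 2 R) :
    ∃ T' : Subgroup G, R ≤ T' ∧ T' ≤ D ∧ IsPGroup 2 T' ∧
      ∀ X : Subgroup G, IsPGroup 2 X → T' ≤ X → X ≤ D → X = T' := by
  obtain ⟨P, hP⟩ := (IsPGroup.comap_subtype hR2 (K := D)).exists_le_sylow
  refine ⟨(P : Subgroup ↥D).map D.subtype, ?_, ?_, P.isPGroup'.map D.subtype, ?_⟩
  · intro x hx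
    exact ⟨⟨x, hRD hx⟩, hP (Subgroup.mem_subgroupOf.mpr hx), rfl⟩
  · rintro _ ⟨y, -, rfl⟩; exact y.2
  · intro X hX hTX hXD
    have h1 : (P : Subgroup ↥D) ≤ X.subgroupOf D := by
      intro y hy
      rw [Subgroup.mem_subgroupOf]
      exact hTX ⟨y, hy, rfl⟩
    have h2 : X.subgroupOf D = P := P.is_maximal' (IsPGroup.comap_subtype hX) h1
    apply le_antisymm _ hTX
    intro x hx
    have : (⟨x, hXD hx⟩ : ↥D) ∈ (P : Subgroup ↥D) := by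
      rw [← h2]; exact Subgroup.mem_subgroupOf.mpr hx
    exact ⟨_, this, rfl⟩

theorem exists_sylow_sup [Finite G] {K T' : Subgroup G} (hT'K : T' ≤ K) (hT2 : IsPGroup 2 T') :
    ∃ S' : Subgroup G, T' ≤ S' ∧ S' ≤ K ∧ IsPGroup 2 S' ∧ ¬ 2 ∣ S'.relIndex K := by
  obtain ⟨P, hP⟩ := (IsPGroup.comap_subtype hT2 (K := K)).exists_le_sylow
  refine ⟨(P : Subgroup ↥K).map K.subtype, ?_, ?_, P.isPGroup'.map K.subtype, ?_⟩
  · intro x hx
    exact ⟨⟨x, hT'K hx⟩, hP (Subgroup.mem_subgroupOf.mpr hx), rfl⟩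
  · rintro _ ⟨y, -, rfl⟩; exact y.2
  · have h1 : ((P : Subgroup ↥K).map K.subtype).subgroupOf K = (P : Subgroup ↥K) :=
      Subgroup.comap_map_eq_self_of_injective K.subtype_injective _
    show ¬ 2 ∣ (((P : Subgroup ↥K).map K.subtype).subgroupOf K).index
    rw [h1]
    exact P.not_dvd_index

theorem mirror [Finite G] {Q Q₁ : Subgroup G} (g : G)
    (hQQ₁ : Q₁ = Q.map (MulAut.conj g).toMonoidHom)
    (hQ : Cfsg.IsTightlyEmbedded Q) (hQ₁ : Cfsg.IsTightlyEmbedded Q₁)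
    (hodd : Odd (Nat.card ↥(Q ⊓ Q₁)))
    {T : Subgroup G} (hT1 : T ≠ ⊥) (hT : T ≤ Q₁ ⊓ Subgroup.normalizer (Q : Set G))
    (hT2 : IsPGroup 2 T) (hTodd : ¬ 2 ∣ T.relIndex (Q₁ ⊓ Subgroup.normalizer (Q : Set G)))
    {R : Subgroup G} (hRQ : R ≤ Q) (hR2 : IsPGroup 2 R)
    (hcomm : ∀ r ∈ R, ∀ t ∈ T, r * t = t * r) :
    Nat.card ↥R ≤ Nat.card ↥T := by
  obtain ⟨t₀, ht₀, ht₀1⟩ : ∃ t ∈ T, t ≠ 1 := by
    by_contra h
    push_neg at h
    exact hT1 ((Subgroup.eq_bot_iff_forall T).mpr h)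
  obtain ⟨k₀, hk₀⟩ := two_pow_of_mem hT2 ht₀
  have hRN₁ : R ≤ Subgroup.normalizer (Q₁ : Set G) := by
    intro r hr
    refine tight_core hQ₁ (hT ht₀).1 ht₀1 hk₀ ?_
    have e : r * t₀ * r⁻¹ = t₀ := by rw [hcomm r hr t₀ ht₀]; group
    rw [e]; exact (hT ht₀).1
  have hQQ : Q = Q₁.map (MulAut.conj g⁻¹).toMonoidHom := by
    ext y
    rw [hQQ₁, Cfsg.Agent.Helper6.mem_conj_map, Cfsg.Agent.Helper6.mem_conj_map]
    have e : g⁻¹ * (g⁻¹⁻¹ * y * g⁻¹) * g = y := by group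
    rw [e]
  have hodd' : Odd (Nat.card ↥(Q₁ ⊓ Q)) := by rw [inf_comm]; exact hodd
  obtain ⟨T', hRT', hT'D, hT'2, hT'max⟩ := exists_max_two (le_inf hRQ hRN₁) hR2
  obtain ⟨S', hT'S', hS'K, hS'2, hS'odd⟩ :=
    exists_sylow_sup (le_sup_right : T' ≤ Q₁ ⊔ T') hT'2
  obtain ⟨φ, hφ⟩ := config (Q := Q₁) (Q₁ := Q) g⁻¹ hQQ hQ hodd' hT'D hT'2 hT'max hT'S' hS'K
    hS'2 hS'odd
  have h1 : Nat.card ↥R ≤ Nat.card ↥T' :=
    Nat.le_of_dvd Nat.card_pos (Subgroup.card_dvd_of_le hRT')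
  have h2 : Nat.card ↥T' ≤ Nat.card ↥(S' ⊓ Subgroup.normalizer (T' : Set G) ⊓ Q₁) :=
    Nat.card_le_card_of_injective φ hφ
  by_cases hT'1 : T' = ⊥
  · have h0 : Nat.card ↥T' = 1 := by rw [hT'1]; exact Subgroup.card_bot
    calc Nat.card ↥R ≤ Nat.card ↥T' := h1
      _ = 1 := h0
      _ ≤ Nat.card ↥T := Nat.card_pos
  · obtain ⟨u, hu, hu1⟩ : ∃ u ∈ T', u ≠ 1 := by
      by_contra h
      push_neg at h
      exact hT'1 ((Subgroup.eq_bot_iff_forall T').mpr h)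
    obtain ⟨k, hk⟩ := two_pow_of_mem hT'2 hu
    have hT'Q₁ : ∀ x ∈ T', x ∈ Q₁ → x = 1 := by
      intro x hx hxQ₁
      obtain ⟨j, hj⟩ := two_pow_of_mem hT'2 hx
      exact eq_one_of_two_pow_of_odd hodd ⟨(hT'D hx).1, hxQ₁⟩ hj
    have hR'D : S' ⊓ Subgroup.normalizer (T' : Set G) ⊓ Q₁ ≤
        Q₁ ⊓ Subgroup.normalizer (Q : Set G) := by
      intro r hr
      refine ⟨hr.2, ?_⟩
      have h3 : u * r * u⁻¹ * r⁻¹ ∈ T' := by
        have : r * u⁻¹ * r⁻¹ ∈ T' :=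
          (Subgroup.mem_normalizer_iff.mp hr.1.2 u⁻¹).mp (T'.inv_mem hu)
        have e : u * r * u⁻¹ * r⁻¹ = u * (r * u⁻¹ * r⁻¹) := by group
        rw [e]; exact T'.mul_mem hu this
      have h4 : u * r * u⁻¹ * r⁻¹ ∈ Q₁ := by
        have : u * r * u⁻¹ ∈ Q₁ := (Subgroup.mem_normalizer_iff.mp (hT'D hu).2 r).mp hr.2
        exact Q₁.mul_mem this (Q₁.inv_mem hr.2)
      have h5 := hT'Q₁ _ h3 h4
      refine tight_core hQ (hT'D hu).1 hu1 hk ?_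
      have e : r * u * r⁻¹ = (u * r * u⁻¹ * r⁻¹)⁻¹ * u := by group
      rw [e, h5]
      simpa using (hT'D hu).1
    have h3 : Nat.card ↥(S' ⊓ Subgroup.normalizer (T' : Set G) ⊓ Q₁) ∣ Nat.card ↥T :=
      card_dvd_of_odd_relIndex hR'D (hS'2.to_le (inf_le_left.trans inf_le_left)) hT hTodd
    exact h1.trans (h2.trans (Nat.le_of_dvd Nat.card_pos h3))

/-- Let Q be a tightly embedded subgroup of a finite group G, g an element outside N_G(Q), T a nontrivial Sylow 2-subgroup of Q^g ∩ N_G(Q), and S a Sylow 2-subgroup of QT containing T. Then T ∩ Q = 1, and N_S(T) is the direct product of T and N_S(T) ∩ Q, with N_S(T) ∩ Q isomorphic to T. -/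
theorem result {G : Type*} [Group G] [Finite G] (Q : Subgroup G) (hQ : Cfsg.IsTightlyEmbedded Q)
    (g : G) (hg : g ∉ Subgroup.normalizer (Q : Set G))
    (T : Subgroup G) (hT1 : T ≠ ⊥) (hT : T ≤ Q.map (MulAut.conj g).toMonoidHom ⊓ Subgroup.normalizer (Q : Set G))
    (hTsyl : IsPGroup 2 T ∧ ¬ 2 ∣ T.relIndex (Q.map (MulAut.conj g).toMonoidHom ⊓ Subgroup.normalizer (Q : Set G)))
    (S : Subgroup G) (hTS : T ≤ S) (hS : S ≤ Q ⊔ T) (hSsyl : IsPGroup 2 S ∧ ¬ 2 ∣ S.relIndex (Q ⊔ T)) :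
    T ⊓ Q = ⊥ ∧
      T ⊓ (S ⊓ Subgroup.normalizer (T : Set G) ⊓ Q) = ⊥ ∧
      ⁅T, S ⊓ Subgroup.normalizer (T : Set G) ⊓ Q⁆ = ⊥ ∧
      T ⊔ (S ⊓ Subgroup.normalizer (T : Set G) ⊓ Q) = S ⊓ Subgroup.normalizer (T : Set G) ∧
      Nonempty (↥(S ⊓ Subgroup.normalizer (T : Set G) ⊓ Q) ≃* T) := by
  have hodd : Odd (Nat.card ↥(Q ⊓ Q.map (MulAut.conj g).toMonoidHom)) := hQ.2 g hg
  have hQ₁ := tight_conj hQ g
  obtain ⟨Q₁, hQ₁def⟩ : ∃ Q₁, Q₁ = Q.map (MulAut.conj g).toMonoidHom := ⟨_, rfl⟩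
  rw [← hQ₁def] at hodd hQ₁ hT hTsyl
  have hT2 := hTsyl.1
  have hTN : T ≤ Subgroup.normalizer (Q : Set G) := hT.trans inf_le_right
  have hTmax : ∀ X : Subgroup G, IsPGroup 2 X → T ≤ X →
      X ≤ Q₁ ⊓ Subgroup.normalizer (Q : Set G) → X = T :=
    fun X hX hTX hXD => eq_of_odd_relIndex hTX hXD hX hTsyl.2
  have hTQ : T ⊓ Q = ⊥ := by
    rw [Subgroup.eq_bot_iff_forall]
    rintro x ⟨hxT, hxQ⟩
    obtain ⟨k, hk⟩ := two_pow_of_mem hT2 hxT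
    exact eq_one_of_two_pow_of_odd hodd ⟨hxQ, (hT hxT).1⟩ hk
  have hRN : S ⊓ Subgroup.normalizer (T : Set G) ⊓ Q ≤ Subgroup.normalizer (T : Set G) :=
    inf_le_left.trans inf_le_right
  have hRQ : S ⊓ Subgroup.normalizer (T : Set G) ⊓ Q ≤ Q := inf_le_right
  have hcomm : ⁅T, S ⊓ Subgroup.normalizer (T : Set G) ⊓ Q⁆ = ⊥ := by
    rw [eq_bot_iff, Subgroup.commutator_le]
    intro a ha r hr
    rw [← hTQ, commutatorElement_def]
    refine ⟨?_, ?_⟩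
    · have : r * a⁻¹ * r⁻¹ ∈ T := (Subgroup.mem_normalizer_iff.mp (hRN hr) a⁻¹).mp (T.inv_mem ha)
      have e : a * r * a⁻¹ * r⁻¹ = a * (r * a⁻¹ * r⁻¹) := by group
      rw [e]; exact T.mul_mem ha this
    · have : a * r * a⁻¹ ∈ Q := (Subgroup.mem_normalizer_iff.mp (hTN ha) r).mp (hRQ hr)
      exact Q.mul_mem this (Q.inv_mem (hRQ hr))
  refine ⟨hTQ, ?_, hcomm, sup_eq hTN hTS hS, ?_⟩
  · rw [eq_bot_iff, ← hTQ]
    exact inf_le_inf_left T hRQ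
  · obtain ⟨φ, hφ⟩ := config g hQ₁def hQ₁ hodd hT hT2 hTmax hTS hS hSsyl.1 hSsyl.2
    have hcard : Nat.card ↥(S ⊓ Subgroup.normalizer (T : Set G) ⊓ Q) ≤ Nat.card ↥T :=
      mirror g hQ₁def hQ hQ₁ hodd hT1 hT hT2 hTsyl.2 hRQ
        (hSsyl.1.to_le (inf_le_left.trans inf_le_left))
        (fun r hr t ht => (Subgroup.mem_centralizer_iff.mp
          ((Subgroup.commutator_eq_bot_iff_le_centralizer.mp hcomm) ht)) r hr)
    have hbij : Function.Bijective φ := by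
      rw [Nat.bijective_iff_injective_and_card]
      exact ⟨hφ, le_antisymm (Nat.card_le_card_of_injective φ hφ) hcard⟩
    exact ⟨(MulEquiv.ofBijective φ hbij).symm⟩

end Cfsg.Agent.S1910
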