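-- S1921: proof by helper7
import Cfsg.Statements.S1921
import Mathlib
import Cfsg.Agent.Helper7.Components

set_option autoImplicit false
open Cfsg

namespace Cfsg.Agent.S1921

theorem diag_gen {H : Type*} [Group H] (a : H) (L L' K : Subgroup H)
    (hq : Cfsg.IsQuasisimple ↥L)
    (hL' : ∀ m, m ∈ L' ↔ ∃ l ∈ L, a * l * a⁻¹ = m)
    (hc : ∀ l ∈ L, ∀ m ∈ L', l * m = m * l)
    (hd : ∀ l ∈ L, l * (a * l * a⁻¹) ∈ K)
    (u : H) (huL : u ∈ L) (huK : u ∈ K) (hu : ¬ ∀ l ∈ L, u * l = l * u) :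
    L ⊔ L' ≤ K := by
  have hn : (K.subgroupOf L).Normal := by
    constructor
    intro n hn g
    rw [Subgroup.mem_subgroupOf] at hn ⊢
    have hm' : a * (g : H) * a⁻¹ ∈ L' := (hL' _).mpr ⟨g, g.2, rfl⟩
    have hmk : (a * (g : H) * a⁻¹) * (n : H) = (n : H) * (a * (g : H) * a⁻¹) :=
      (hc n n.2 _ hm').symm
    have e : ((g * n * g⁻¹ : ↥L) : H) =
        ((g : H) * (a * (g : H) * a⁻¹)) * (n : H) * ((g : H) * (a * (g : H) * a⁻¹))⁻¹ := by
      have e1 : ((g : H) * (a * (g : H) * a⁻¹)) * (n : H) * ((g : H) * (a * (g : H) * a⁻¹))⁻¹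
          = (g : H) * ((a * (g : H) * a⁻¹) * (n : H)) * (a * (g : H) * a⁻¹)⁻¹ * (g : H)⁻¹ := by
        group
      rw [e1, hmk]
      push_cast
      group
    rw [e]
    exact K.mul_mem (K.mul_mem (hd g g.2) hn) (K.inv_mem (hd g g.2))
  have hLK : L ≤ K := by
    rcases Cfsg.Agent.Helper7.quasisimple_subnormal hq (K.subgroupOf L)
      (Subgroup.Normal.isSubnormal hn) with h | h
    · exact Subgroup.subgroupOf_eq_top.mp h
    · exfalso
      apply hu
      intro l hl
      have h1 : (⟨u, huL⟩ : ↥L) ∈ K.subgroupOf L := by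
        rw [Subgroup.mem_subgroupOf]; exact huK
      have h2 := Subgroup.mem_center_iff.mp (h h1) ⟨l, hl⟩
      have h3 := congrArg Subtype.val h2
      exact h3.symm
  refine sup_le hLK ?_
  intro m hm
  obtain ⟨l, hl, rfl⟩ := (hL' m).mp hm
  have e : a * l * a⁻¹ = l⁻¹ * (l * (a * l * a⁻¹)) := by group
  rw [e]
  exact K.mul_mem (K.inv_mem (hLK hl)) (hd l hl)


/-- Let a be an involution of a finite group H and L a component of H with a L a⁻¹ ≠ L; put M = ⟨L, aLa⁻¹⟩ and let J be the subgroup generated by the elements x · a x a⁻¹ with x ∈ L (the diagonal). Then every element of M outside J·Z(M) generates M together with J. -/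
theorem result {H : Type*} [Group H] [Finite H] (a : H) (ha : orderOf a = 2) (L : Subgroup H) (hL : Cfsg.IsComponent L)
    (hLa : L.map (MulAut.conj a).toMonoidHom ≠ L) (x : H) (hxM : x ∈ L ⊔ L.map (MulAut.conj a).toMonoidHom)
    (hxJ : x ∉ Subgroup.closure {y : H | ∃ l ∈ L, y = l * (a * l * a⁻¹)} ⊔
      ((L ⊔ L.map (MulAut.conj a).toMonoidHom) ⊓ Subgroup.centralizer ((L ⊔ L.map (MulAut.conj a).toMonoidHom : Subgroup H) : Set H))) :
    Subgroup.closure {y : H | ∃ l ∈ L, y = l * (a * l * a⁻¹)} ⊔ Subgroup.zpowers x = L ⊔ L.map (MulAut.conj a).toMonoidHom := by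
  classical
  have hL'comp : Cfsg.IsComponent (L.map (MulAut.conj a).toMonoidHom) :=
    Cfsg.Agent.Helper7.conj_isComponent hL a
  have hcomm : ⁅L, L.map (MulAut.conj a).toMonoidHom⁆ = ⊥ :=
    Cfsg.Agent.Helper7.components_commute hL hL'comp (Ne.symm hLa)
  have hL' : ∀ m, m ∈ L.map (MulAut.conj a).toMonoidHom ↔ ∃ l ∈ L, a * l * a⁻¹ = m := by
    intro m
    rw [Subgroup.mem_map]
    rfl
  have hc : ∀ l ∈ L, ∀ m ∈ L.map (MulAut.conj a).toMonoidHom, l * m = m * l := by
    intro l hl m hm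
    have h1 := (Subgroup.commutator_eq_bot_iff_le_centralizer.mp hcomm) hl
    exact (Subgroup.mem_centralizer_iff.mp h1 m hm).symm
  have hdJ : ∀ l ∈ L, l * (a * l * a⁻¹) ∈
      Subgroup.closure {y : H | ∃ l ∈ L, y = l * (a * l * a⁻¹)} :=
    fun l hl => Subgroup.subset_closure ⟨l, hl, rfl⟩
  apply le_antisymm
  · refine sup_le ?_ (Subgroup.zpowers_le.mpr hxM)
    rw [Subgroup.closure_le]
    rintro y ⟨l, hl, rfl⟩
    exact Subgroup.mul_mem _ (Subgroup.mem_sup_left hl)
      (Subgroup.mem_sup_right ((hL' _).mpr ⟨l, hl, rfl⟩))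
  · obtain ⟨l₁, hl₁, m, hm, hx⟩ := Cfsg.Agent.Helper7.mem_sup_of_commutator_eq_bot hcomm hxM
    obtain ⟨l₂, hl₂, hm2⟩ := (hL' m).mp hm
    have hxK : x ∈ Subgroup.closure {y : H | ∃ l ∈ L, y = l * (a * l * a⁻¹)} ⊔ Subgroup.zpowers x :=
      Subgroup.mem_sup_right (Subgroup.mem_zpowers x)
    have huL : l₁ * l₂⁻¹ ∈ L := L.mul_mem hl₁ (L.inv_mem hl₂)
    have hxe : x = (l₁ * l₂⁻¹) * (l₂ * (a * l₂ * a⁻¹)) := by
      rw [← hx, ← hm2]; group
    have huK : l₁ * l₂⁻¹ ∈
        Subgroup.closure {y : H | ∃ l ∈ L, y = l * (a * l * a⁻¹)} ⊔ Subgroup.zpowers x := by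
      have e : l₁ * l₂⁻¹ = x * (l₂ * (a * l₂ * a⁻¹))⁻¹ := by
        rw [hxe]; group
      rw [e]
      exact Subgroup.mul_mem _ hxK (Subgroup.inv_mem _ (Subgroup.mem_sup_left (hdJ l₂ hl₂)))
    have hu : ¬ ∀ l ∈ L, (l₁ * l₂⁻¹) * l = l * (l₁ * l₂⁻¹) := by
      intro hall
      apply hxJ
      have hle : L ⊔ L.map (MulAut.conj a).toMonoidHom ≤
          Subgroup.centralizer ({l₁ * l₂⁻¹} : Set H) := by
        refine sup_le ?_ ?_
        · intro l hl
          have hc1 : l ∈ Subgroup.centralizer ({l₁ * l₂⁻¹} : Set H) := by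
            rw [Subgroup.mem_centralizer_iff]
            intro h hh
            rw [Set.mem_singleton_iff] at hh
            rw [hh]
            exact hall l hl
          exact hc1
        · intro m' hm'
          have hc1 : m' ∈ Subgroup.centralizer ({l₁ * l₂⁻¹} : Set H) := by
            rw [Subgroup.mem_centralizer_iff]
            intro h hh
            rw [Set.mem_singleton_iff] at hh
            rw [hh]
            exact hc _ huL m' hm'
          exact hc1
      have huC : l₁ * l₂⁻¹ ∈ Subgroup.centralizer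
          ((L ⊔ L.map (MulAut.conj a).toMonoidHom : Subgroup H) : Set H) := by
        rw [Subgroup.mem_centralizer_iff]
        intro y hy
        exact ((Subgroup.mem_centralizer_iff.mp (hle hy)) _ rfl).symm
      rw [hxe]
      exact Subgroup.mul_mem _
        (Subgroup.mem_sup_right ⟨Subgroup.mem_sup_left huL, huC⟩)
        (Subgroup.mem_sup_left (hdJ l₂ hl₂))
    exact diag_gen a L (L.map (MulAut.conj a).toMonoidHom) _ hL.2 hL' hc
      (fun l hl => Subgroup.mem_sup_left (hdJ l hl)) (l₁ * l₂⁻¹) huL huK hu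

end Cfsg.Agent.S1921
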