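-- S1922: proof by helper7
import Cfsg.Statements.S1922
import Mathlib
import Cfsg.Agent.Helper23.PSolv
import Cfsg.Agent.Helper7.PLayer
import Cfsg.Agent.Helper7.Large

set_option autoImplicit false
open Cfsg

namespace Cfsg.Agent.S1922

theorem mem_conj_iff {G : Type*} [Group G] (H : Subgroup G) (g x : G) :
    x ∈ H.map (MulAut.conj g).toMonoidHom ↔ g⁻¹ * x * g ∈ H := by
  constructor
  · rintro ⟨h, hh, rfl⟩
    have h1 : g⁻¹ * ((MulAut.conj g).toMonoidHom h) * g = h := by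
      show g⁻¹ * (g * h * g⁻¹) * g = h
      group
    rw [h1]; exact hh
  · intro h
    refine ⟨g⁻¹ * x * g, h, ?_⟩
    show g * (g⁻¹ * x * g) * g⁻¹ = x
    group

theorem inv_swap {G : Type*} [Group G] {x e : G} (h : x * e * x⁻¹ = e⁻¹) :
    x * e⁻¹ = e * x := by
  have h1 : x * e = e⁻¹ * x := by
    rw [← h]; group
  calc x * e⁻¹ = e * (e⁻¹ * x) * e⁻¹ := by group
    _ = e * (x * e) * e⁻¹ := by rw [← h1]
    _ = e * x := by group

theorem inv_pow_of_inv {G : Type*} [Group G] {x r : G} (h : x * r * x⁻¹ = r⁻¹) (n : ℕ) :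
    x * r ^ n * x⁻¹ = (r ^ n)⁻¹ := by
  rw [← conj_pow, h, inv_pow]

theorem refl_conj {G : Type*} [Group G] {x r : G} (h : x * r * x⁻¹ = r⁻¹) (n : ℕ) :
    ∃ d : G, r ^ n * x = d * x * d⁻¹ ∨ r ^ n * x = d * (r * x) * d⁻¹ := by
  rcases Nat.even_or_odd' n with ⟨j, rfl | rfl⟩
  · refine ⟨r ^ j, Or.inl ?_⟩
    have h1 : x * (r ^ j)⁻¹ = r ^ j * x := inv_swap (inv_pow_of_inv h j)
    have h4 : r ^ (2 * j) = r ^ j * r ^ j := by rw [← pow_add, two_mul]
    rw [h4, mul_assoc (r ^ j) x, h1, mul_assoc]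
  · refine ⟨r ^ j, Or.inr ?_⟩
    have h1 : x * (r ^ j)⁻¹ = r ^ j * x := inv_swap (inv_pow_of_inv h j)
    have h4 : r ^ (2 * j + 1) = r ^ j * r * r ^ j := by
      rw [← pow_succ, ← pow_add]
      congr 1
      ring
    rw [h4, mul_assoc (r ^ j) (r * x), mul_assoc r x, h1]
    simp only [mul_assoc]

theorem half_pow {G : Type*} [Group G] (x : G) (k : ℕ) (hx : x ^ (2 * k + 1) = 1) :
    x ^ (k + 1) * x ^ (k + 1) = x := by
  rw [← pow_add]
  have h : k + 1 + (k + 1) = (2 * k + 1) + 1 := by ring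
  rw [h, pow_succ, hx, one_mul]

theorem dihedral_mid {G : Type*} [Group G] {z t : G} (hz : z * z = 1) (ht : t * t = 1) (k : ℕ)
    (hw : (t * z) ^ (2 * k + 1) = 1) :
    ∃ d : G, (t * z) ^ (k + 1) * z = d * z * d⁻¹ ∧
      ((t * z) ^ (k + 1) * z) * z * ((t * z) ^ (k + 1) * z)⁻¹ = t := by
  have hzi : z⁻¹ = z := inv_eq_of_mul_eq_one_right hz
  have hti : t⁻¹ = t := inv_eq_of_mul_eq_one_right ht
  have hR : z * (t * z) * z⁻¹ = (t * z)⁻¹ := by
    have h1 : (t * z)⁻¹ = z * t := by rw [mul_inv_rev, hzi, hti]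
    rw [h1]; group
  obtain ⟨c, hcdef⟩ : ∃ c : G, c = (t * z) ^ (k + 1) := ⟨_, rfl⟩
  have hc : z * c * z⁻¹ = c⁻¹ := by rw [hcdef]; exact inv_pow_of_inv hR (k + 1)
  have hd : z * c ^ (k + 1) * z⁻¹ = (c ^ (k + 1))⁻¹ := inv_pow_of_inv hc (k + 1)
  have hcc : c * c = t * z := by rw [hcdef]; exact half_pow (t * z) k hw
  have hc1 : c ^ (2 * k + 1) = 1 := by
    rw [hcdef, ← pow_mul, mul_comm (k + 1) (2 * k + 1), pow_mul, hw, one_pow]
  have hdd : c ^ (k + 1) * c ^ (k + 1) = c := half_pow c k hc1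
  have h1 : z * c⁻¹ = c * z := inv_swap hc
  have h2 : z * (c ^ (k + 1))⁻¹ = c ^ (k + 1) * z := inv_swap hd
  rw [← hcdef]
  refine ⟨c ^ (k + 1), ?_, ?_⟩
  · rw [mul_assoc (c ^ (k + 1)) z, h2, ← mul_assoc, hdd]
  · rw [mul_inv_rev, hzi, h1]
    calc c * z * z * (c * z) = c * (z * z) * c * z := by simp only [mul_assoc]
      _ = (c * c) * z := by rw [hz, mul_one]
      _ = t := by rw [hcc, mul_assoc, hz, mul_one]

theorem dihedral_rec {G : Type*} [Group G] {z s : G} (hz : z * z = 1) (hs : s * s = 1)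
    (hodd : Odd (orderOf (s * z))) :
    ((s * z * s⁻¹) * z) ^ ((orderOf ((s * z * s⁻¹) * z) + 1) / 2) * z = s := by
  have hsi : s⁻¹ = s := inv_eq_of_mul_eq_one_right hs
  have hw : (s * z * s⁻¹) * z = (s * z) ^ 2 := by
    rw [hsi, pow_two, mul_assoc (s * z) s z]
  have hord : orderOf ((s * z) ^ 2) = orderOf (s * z) :=
    Nat.Coprime.orderOf_pow hodd.coprime_two_right
  obtain ⟨j, hj⟩ := hodd
  rw [hw, hord, hj]
  have h1 : (2 * j + 1 + 1) / 2 = j + 1 := by omega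
  rw [h1, ← pow_mul]
  have h2 : (s * z) ^ (2 * (j + 1)) = s * z := by
    have h3 : 2 * (j + 1) = (2 * j + 1) + 1 := by ring
    rw [h3, pow_succ, ← hj, pow_orderOf_eq_one, one_mul]
  rw [h2, mul_assoc, hz, mul_one]

/-- the involution of `⟨t, z⟩` swapping `t` and `z` (when `t * z` has odd order) -/
noncomputable def psi {G : Type*} [Group G] (z t : G) : G :=
  (t * z) ^ ((orderOf (t * z) + 1) / 2) * z

theorem not_two_dvd_card_of_involution {α : Type*} [Finite α] (f : α → α)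
    (hf : ∀ x, f (f x) = x) (x0 : α) (h0 : f x0 = x0) (huniq : ∀ x, f x = x → x = x0) :
    ¬ 2 ∣ Nat.card α := by
  classical
  haveI := Fintype.ofFinite α
  rw [Nat.card_eq_fintype_card]
  intro hdvd
  have hsum : ∑ x ∈ (Finset.univ.erase x0 : Finset α), (1 : ZMod 2) = 0 := by
    refine Finset.sum_involution (fun x _ => f x) ?_ ?_ ?_ ?_
    · intro a ha
      exact (by decide : (1 : ZMod 2) + 1 = 0)
    · intro a ha _ h
      exact (Finset.ne_of_mem_erase ha) (huniq a h)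
    · intro a ha
      rw [Finset.mem_erase]
      refine ⟨?_, Finset.mem_univ _⟩
      intro h
      have h' : f a = x0 := h
      apply Finset.ne_of_mem_erase ha
      rw [← hf a, h', h0]
    · intro a ha
      exact hf a
  rw [Finset.sum_const, Finset.card_erase_of_mem (Finset.mem_univ x0), Finset.card_univ,
    nsmul_eq_mul, mul_one] at hsum
  have h2 : 2 ∣ Fintype.card α - 1 := (ZMod.natCast_eq_zero_iff _ 2).mp hsum
  have hpos : 0 < Fintype.card α := Fintype.card_pos_iff.mpr ⟨x0⟩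
  omega

/-- conjugation action of a subgroup on an invariant set -/
def conjSetAction {G : Type*} [Group G] (K : Subgroup G) (S : Set G)
    (hS : ∀ k ∈ K, ∀ s ∈ S, k * s * k⁻¹ ∈ S) : MulAction ↥K ↥S where
  smul k s := ⟨(k : G) * (s : G) * (k : G)⁻¹, hS k k.2 s s.2⟩
  one_smul s := by
    apply Subtype.ext
    show ((1 : ↥K) : G) * (s : G) * ((1 : ↥K) : G)⁻¹ = (s : G)
    simp
  mul_smul k k' s := by
    apply Subtype.ext
    show ((k * k' : ↥K) : G) * (s : G) * ((k * k' : ↥K) : G)⁻¹ =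
      (k : G) * ((k' : G) * (s : G) * (k' : G)⁻¹) * (k : G)⁻¹
    simp [mul_assoc]

theorem mem_zpowers_of_sq {G : Type*} [Group G] {s k : G} (hs : s * s = 1)
    (hk : k ∈ Subgroup.zpowers s) : k = 1 ∨ k = s := by
  obtain ⟨i, rfl⟩ := Subgroup.mem_zpowers_iff.mp hk
  rcases Int.even_or_odd' i with ⟨j, rfl | rfl⟩
  · left; rw [zpow_mul, zpow_two, hs, one_zpow]
  · right; rw [zpow_add, zpow_mul, zpow_two, hs, one_zpow, one_mul, zpow_one]

theorem isPGroup_zpowers_of_sq {G : Type*} [Group G] {x : G} (hx : x * x = 1) :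
    IsPGroup 2 ↥(Subgroup.zpowers x) := by
  rintro ⟨g, hg⟩
  refine ⟨1, ?_⟩
  apply Subtype.ext
  rw [Subgroup.coe_pow, Subgroup.coe_one, pow_one, pow_two]
  show g * g = 1
  rcases mem_zpowers_of_sq hx hg with h | h
  · rw [h, one_mul]
  · rw [h]; exact hx

def SigmaSet {G : Type*} [Group G] (z : G) (H : Subgroup G) (a : G) : Set G :=
  {s | IsConj z s ∧ a⁻¹ * s ∈ H}

def DeltaSet {G : Type*} [Group G] (z : G) (H : Subgroup G) (a : G) : Set G :=
  {t | IsConj z t ∧ a⁻¹ * t * a ∈ H}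

theorem mem_SigmaSet {G : Type*} [Group G] {z : G} {H : Subgroup G} {a s : G} :
    s ∈ SigmaSet z H a ↔ IsConj z s ∧ a⁻¹ * s ∈ H := Iff.rfl

theorem mem_DeltaSet {G : Type*} [Group G] {z : G} {H : Subgroup G} {a t : G} :
    t ∈ DeltaSet z H a ↔ IsConj z t ∧ a⁻¹ * t * a ∈ H := Iff.rfl

theorem two_central {G : Type*} [Group G] [Finite G] (z : G) (hzz : z * z = 1) (H : Subgroup G)
    (hH : H ≠ ⊤) (h0' : ∀ g : G, g⁻¹ * z * g ∈ H ↔ g ∈ H)
    (h1' : ∀ t : G, IsConj z t → t ≠ z → t * z = z * t →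
        ∀ g : G, g⁻¹ * (z * t) * g ∈ H ↔ g ∈ H) :
    ∃ P : Sylow 2 G, z ∈ (Subgroup.center ↥(P : Subgroup G)).map (P : Subgroup G).subtype := by
  have hzi : z⁻¹ = z := inv_eq_of_mul_eq_one_right hzz
  have hzH : z ∈ H := by
    have h := (h0' 1).mpr H.one_mem
    simpa using h
  have hinv : ∀ t : G, IsConj z t → t * t = 1 := by
    intro t ht
    obtain ⟨c, rfl⟩ := isConj_iff.mp ht
    have h : c * z * c⁻¹ * (c * z * c⁻¹) = c * (z * z) * c⁻¹ := by group
    rw [h, hzz, mul_one, mul_inv_cancel]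
  have hF : ∀ b g : G, g⁻¹ * (b * z * b⁻¹) * g ∈ H ↔ b⁻¹ * g ∈ H := by
    intro b g
    have h := h0' (b⁻¹ * g)
    have e : (b⁻¹ * g)⁻¹ * z * (b⁻¹ * g) = g⁻¹ * (b * z * b⁻¹) * g := by group
    rw [e] at h
    exact h
  have hA : ∀ b t s' : G, b * z * b⁻¹ = t → IsConj z s' → s' ≠ t → s' * t = t * s' →
      ∀ g : G, g⁻¹ * (t * s') * g ∈ H ↔ b⁻¹ * g ∈ H := by
    intro b t s' hb hs' hne hcomm g
    subst hb
    have ht1 : IsConj z (b⁻¹ * s' * b) := hs'.trans (isConj_iff.mpr ⟨b⁻¹, by rw [inv_inv]⟩)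
    have ht2 : b⁻¹ * s' * b ≠ z := by
      intro h
      apply hne
      rw [← h]; group
    have ht3 : (b⁻¹ * s' * b) * z = z * (b⁻¹ * s' * b) := by
      calc (b⁻¹ * s' * b) * z = b⁻¹ * (s' * (b * z * b⁻¹)) * b := by group
        _ = b⁻¹ * ((b * z * b⁻¹) * s') * b := by rw [hcomm]
        _ = z * (b⁻¹ * s' * b) := by group
    have h := h1' _ ht1 ht2 ht3 (b⁻¹ * g)
    have e : (b⁻¹ * g)⁻¹ * (z * (b⁻¹ * s' * b)) * (b⁻¹ * g) =
        g⁻¹ * ((b * z * b⁻¹) * s') * g := by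
      group
    rw [e] at h
    exact h
  have hB : ∀ t : G, IsConj z t → t ∉ H → Odd (orderOf (t * z)) := by
    intro t ht htH
    obtain ⟨b, hb⟩ := isConj_iff.mp ht
    have hbH : b ∉ H := by
      intro hbm
      apply htH
      rw [← hb]
      exact H.mul_mem (H.mul_mem hbm hzH) (H.inv_mem hbm)
    have htt : t * t = 1 := hinv t ht
    have hti : t⁻¹ = t := inv_eq_of_mul_eq_one_right htt
    by_contra hodd
    rw [Nat.not_odd_iff_even] at hodd
    obtain ⟨k, hk⟩ := hodd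
    have hpos : 0 < orderOf (t * z) := orderOf_pos (t * z)
    have hk0 : k ≠ 0 := by omega
    have hklt : k < orderOf (t * z) := by omega
    obtain ⟨c, hcdef⟩ : ∃ c : G, c = (t * z) ^ k := ⟨_, rfl⟩
    have hc1 : c ≠ 1 := by rw [hcdef]; exact pow_ne_one_of_lt_orderOf hk0 hklt
    have hcc : c * c = 1 := by rw [hcdef, ← pow_add, ← hk, pow_orderOf_eq_one]
    have hci : c⁻¹ = c := inv_eq_of_mul_eq_one_right hcc
    have hinvtz : (t * z)⁻¹ = z * t := by rw [mul_inv_rev, hzi, hti]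
    have hRz : z * (t * z) * z⁻¹ = (t * z)⁻¹ := by rw [hinvtz]; group
    have hRt : t * (t * z) * t⁻¹ = (t * z)⁻¹ := by
      rw [hinvtz, hti, ← mul_assoc, htt, one_mul]
    have hcz : z * c * z⁻¹ = c⁻¹ := by rw [hcdef]; exact inv_pow_of_inv hRz k
    have hct : t * c * t⁻¹ = c⁻¹ := by rw [hcdef]; exact inv_pow_of_inv hRt k
    have hzc : z * c = c * z := by
      have h := inv_swap hcz
      rwa [hci] at h
    have htc : t * c = c * t := by
      have h := inv_swap hct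
      rwa [hci] at h
    have hcz_conj : IsConj z (c * z) := by
      obtain ⟨d, hd⟩ := refl_conj hRz k
      rw [← hcdef] at hd
      rcases hd with h | h
      · rw [h]; exact isConj_iff.mpr ⟨d, rfl⟩
      · have e : t * z * z = t := by rw [mul_assoc, hzz, mul_one]
        rw [h, e, ← hb]
        exact isConj_iff.mpr ⟨d * b, by group⟩
    have hct_conj : IsConj z (c * t) := by
      obtain ⟨d, hd⟩ := refl_conj hRt k
      rw [← hcdef] at hd
      rcases hd with h | h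
      · rw [h, ← hb]
        exact isConj_iff.mpr ⟨d * b, by group⟩
      · rw [h]
        refine isConj_iff.mpr ⟨d * t, ?_⟩
        rw [mul_inv_rev, hti]
        simp only [mul_assoc]
    have hne1 : c * z ≠ z := by
      intro h
      apply hc1
      have h' : c * z = 1 * z := by rw [h, one_mul]
      exact mul_right_cancel h'
    have hcomm1 : c * z * z = z * (c * z) := by rw [← mul_assoc z c z, hzc]
    have hA1 := h1' (c * z) hcz_conj hne1 hcomm1
    have e1 : z * (c * z) = c := by rw [← mul_assoc, hzc, mul_assoc, hzz, mul_one]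
    rw [e1] at hA1
    have hne2 : c * t ≠ t := by
      intro h
      apply hc1
      have h' : c * t = 1 * t := by rw [h, one_mul]
      exact mul_right_cancel h'
    have hcomm2 : c * t * t = t * (c * t) := by rw [← mul_assoc t c t, htc]
    have hA2 := hA b t (c * t) hb hct_conj hne2 hcomm2
    have e2 : t * (c * t) = c := by rw [← mul_assoc, htc, mul_assoc, htt, mul_one]
    rw [e2] at hA2
    have h3 : b⁻¹ * c * b ∈ H := by
      apply (hA2 b).mpr
      rw [inv_mul_cancel]; exact H.one_mem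
    exact hbH ((hA1 b).mp h3)
  obtain ⟨a, haH⟩ : ∃ a : G, a ∉ H := by
    by_contra hcon
    push_neg at hcon
    exact hH (eq_top_iff.mpr (fun x _ => hcon x))
  have hS_notH : ∀ s : G, a⁻¹ * s ∈ H → s ∉ H := by
    intro s hs hsH
    apply haH
    have h := H.mul_mem hsH (H.inv_mem hs)
    have e : s * (a⁻¹ * s)⁻¹ = a := by group
    rw [e] at h; exact h
  have hD_notH : ∀ t : G, IsConj z t → a⁻¹ * t * a ∈ H → t ∉ H := by
    intro t ht hta htH
    obtain ⟨b, hb⟩ := isConj_iff.mp ht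
    rw [← hb] at hta htH
    have h1 : b⁻¹ * a ∈ H := (hF b a).mp hta
    have h2 : b⁻¹ * 1 ∈ H := (hF b 1).mp (by simpa using htH)
    apply haH
    have h3 := H.mul_mem (H.inv_mem h2) h1
    have e : (b⁻¹ * 1)⁻¹ * (b⁻¹ * a) = a := by group
    rw [e] at h3; exact h3
  have hphi : ∀ s : G, s ∈ SigmaSet z H a → s * z * s⁻¹ ∈ DeltaSet z H a := by
    intro s hs
    obtain ⟨hs1, hs2⟩ := mem_SigmaSet.mp hs
    refine mem_DeltaSet.mpr ⟨isConj_iff.mpr ⟨s, rfl⟩, ?_⟩
    have e : a⁻¹ * (s * z * s⁻¹) * a = (a⁻¹ * s) * z * (a⁻¹ * s)⁻¹ := by group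
    rw [e]
    exact H.mul_mem (H.mul_mem hs2 hzH) (H.inv_mem hs2)
  have hpsi : ∀ t : G, t ∈ DeltaSet z H a →
      psi z t ∈ SigmaSet z H a ∧ psi z t * z * (psi z t)⁻¹ = t := by
    intro t ht
    obtain ⟨ht1, ht2⟩ := mem_DeltaSet.mp ht
    have htH := hD_notH t ht1 ht2
    have hodd := hB t ht1 htH
    obtain ⟨k, hk⟩ := hodd
    have hw : (t * z) ^ (2 * k + 1) = 1 := by rw [← hk]; exact pow_orderOf_eq_one _
    obtain ⟨d, hd1, hd2⟩ := dihedral_mid hzz (hinv t ht1) k hw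
    have hpsi_eq : psi z t = (t * z) ^ (k + 1) * z := by
      unfold psi
      rw [hk]
      have h : (2 * k + 1 + 1) / 2 = k + 1 := by omega
      rw [h]
    rw [hpsi_eq]
    refine ⟨mem_SigmaSet.mpr ⟨?_, ?_⟩, hd2⟩
    · rw [hd1]; exact isConj_iff.mpr ⟨d, rfl⟩
    · obtain ⟨s, hsdef⟩ : ∃ s : G, s = (t * z) ^ (k + 1) * z := ⟨_, rfl⟩
      rw [← hsdef] at hd2 ⊢
      have h := h0' (s⁻¹ * a)
      have e : (s⁻¹ * a)⁻¹ * z * (s⁻¹ * a) = a⁻¹ * (s * z * s⁻¹) * a := by group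
      rw [e, hd2] at h
      have h2 := H.inv_mem (h.mp ht2)
      have e2 : (s⁻¹ * a)⁻¹ = a⁻¹ * s := by group
      rw [e2] at h2; exact h2
  have hpsiphi : ∀ s : G, s ∈ SigmaSet z H a → psi z (s * z * s⁻¹) = s := by
    intro s hs
    obtain ⟨hs1, hs2⟩ := mem_SigmaSet.mp hs
    exact dihedral_rec hzz (hinv s hs1) (hB s hs1 (hS_notH s hs2))
  have hcard : Nat.card ↥(SigmaSet z H a) = Nat.card ↥(DeltaSet z H a) := by
    apply Nat.card_eq_of_bijective
      (fun s : ↥(SigmaSet z H a) => (⟨s.1 * z * s.1⁻¹, hphi s.1 s.2⟩ : ↥(DeltaSet z H a)))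
    constructor
    · intro s₁ s₂ h
      have h' : s₁.1 * z * s₁.1⁻¹ = s₂.1 * z * s₂.1⁻¹ := congrArg Subtype.val h
      apply Subtype.ext
      calc s₁.1 = psi z (s₁.1 * z * s₁.1⁻¹) := (hpsiphi s₁.1 s₁.2).symm
        _ = psi z (s₂.1 * z * s₂.1⁻¹) := by rw [h']
        _ = s₂.1 := hpsiphi s₂.1 s₂.2
    · intro t
      obtain ⟨h1, h2⟩ := hpsi t.1 t.2
      exact ⟨⟨psi z t.1, h1⟩, Subtype.ext h2⟩
  have hoddS : ¬ 2 ∣ Nat.card ↥(SigmaSet z H a) := by
    have ht0 : a * z * a⁻¹ ∈ DeltaSet z H a := by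
      refine mem_DeltaSet.mpr ⟨isConj_iff.mpr ⟨a, rfl⟩, ?_⟩
      have e : a⁻¹ * (a * z * a⁻¹) * a = z := by group
      rw [e]; exact hzH
    obtain ⟨hs0, -⟩ := hpsi _ ht0
    obtain ⟨s0, hs0def⟩ : ∃ s0 : G, s0 = psi z (a * z * a⁻¹) := ⟨_, rfl⟩
    rw [← hs0def] at hs0
    obtain ⟨hs01, hs02⟩ := mem_SigmaSet.mp hs0
    have hs0s0 : s0 * s0 = 1 := hinv s0 hs01
    have hs0i : s0⁻¹ = s0 := inv_eq_of_mul_eq_one_right hs0s0
    have hclosed : ∀ s : G, s ∈ SigmaSet z H a → s0 * s * s0⁻¹ ∈ SigmaSet z H a := by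
      intro s hs
      obtain ⟨hs1, hs2⟩ := mem_SigmaSet.mp hs
      have hsi : s⁻¹ = s := inv_eq_of_mul_eq_one_right (hinv s hs1)
      refine mem_SigmaSet.mpr ⟨hs1.trans (isConj_iff.mpr ⟨s0, rfl⟩), ?_⟩
      have e : a⁻¹ * (s0 * s * s0⁻¹) = (a⁻¹ * s0) * (a⁻¹ * s)⁻¹ * (a⁻¹ * s0) := by
        rw [hs0i, mul_inv_rev, inv_inv, hsi]
        group
      rw [e]
      exact H.mul_mem (H.mul_mem hs02 (H.inv_mem hs2)) hs02
    refine not_two_dvd_card_of_involution
      (fun s : ↥(SigmaSet z H a) => (⟨s0 * s.1 * s0⁻¹, hclosed s.1 s.2⟩ : ↥(SigmaSet z H a)))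
      ?_ ⟨s0, hs0⟩ ?_ ?_
    · intro s
      apply Subtype.ext
      show s0 * (s0 * s.1 * s0⁻¹) * s0⁻¹ = s.1
      rw [hs0i]
      calc s0 * (s0 * s.1 * s0) * s0 = (s0 * s0) * s.1 * (s0 * s0) := by simp only [mul_assoc]
        _ = s.1 := by rw [hs0s0, one_mul, mul_one]
    · apply Subtype.ext
      show s0 * s0 * s0⁻¹ = s0
      rw [mul_inv_cancel_right]
    · intro s hfix
      have hfix' : s0 * s.1 * s0⁻¹ = s.1 := congrArg Subtype.val hfix
      apply Subtype.ext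
      show s.1 = s0
      by_contra hne
      obtain ⟨hs1, hs2⟩ := mem_SigmaSet.mp s.2
      obtain ⟨b, hb⟩ := isConj_iff.mp hs01
      have hcomm : s.1 * s0 = s0 * s.1 := by
        have h : s0 * s.1 * s0⁻¹ * s0 = s.1 * s0 := by rw [hfix']
        rw [← h]; group
      have hA' := hA b s0 s.1 hb hs1 hne hcomm
      have hsi : s.1⁻¹ = s.1 := inv_eq_of_mul_eq_one_right (hinv s.1 hs1)
      have hm1 : s0 * s.1 ∈ H := by
        have h := H.mul_mem (H.inv_mem hs02) hs2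
        have e : (a⁻¹ * s0)⁻¹ * (a⁻¹ * s.1) = s0 * s.1 := by
          rw [mul_inv_rev, inv_inv, hs0i]; group
        rw [e] at h; exact h
      have hm2 : a⁻¹ * (s0 * s.1) * a ∈ H := by
        have h := H.mul_mem hs02 (H.inv_mem hs2)
        have e : (a⁻¹ * s0) * (a⁻¹ * s.1)⁻¹ = a⁻¹ * (s0 * s.1) * a := by
          rw [mul_inv_rev, inv_inv, hsi]; group
        rw [e] at h; exact h
      have h1 : b⁻¹ * 1 ∈ H := (hA' 1).mp (by simpa using hm1)
      have h2 : b⁻¹ * a ∈ H := (hA' a).mp hm2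
      apply haH
      have h3 := H.mul_mem (H.inv_mem h1) h2
      have e : (b⁻¹ * 1)⁻¹ * (b⁻¹ * a) = a := by group
      rw [e] at h3; exact h3
  have hidx : ¬ 2 ∣ H.index := by
    have h : ¬ 2 ∣ Nat.card (G ⧸ H) := by
      refine not_two_dvd_card_of_involution (fun q : G ⧸ H => z • q) ?_ ((1 : G) : G ⧸ H) ?_ ?_
      · intro q
        show z • (z • q) = q
        rw [smul_smul, hzz, one_smul]
      · show z • ((1 : G) : G ⧸ H) = ((1 : G) : G ⧸ H)
        rw [MulAction.Quotient.smul_mk, QuotientGroup.eq, smul_eq_mul]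
        simpa using hzH
      · intro q hq
        obtain ⟨g, rfl⟩ := QuotientGroup.mk_surjective q
        have hq' : z • ((g : G) : G ⧸ H) = ((g : G) : G ⧸ H) := hq
        rw [MulAction.Quotient.smul_mk, QuotientGroup.eq, smul_eq_mul] at hq'
        rw [QuotientGroup.eq]
        have hg : g ∈ H := by
          apply (h0' g).mp
          have e : g⁻¹ * z * g = (z * g)⁻¹ * g := by rw [mul_inv_rev, hzi]
          rw [e]; exact hq'
        rw [mul_one]; exact H.inv_mem hg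
    exact h
  have hoddD : ¬ 2 ∣ Nat.card ↥(DeltaSet z H a) := by rw [← hcard]; exact hoddS
  obtain ⟨P, hPH⟩ := Cfsg.Agent.Helper23.exists_sylow_le_of_not_dvd_index H hidx
  have hKS : ∀ k ∈ (P : Subgroup G).map (MulAut.conj a).toMonoidHom,
      ∀ t ∈ DeltaSet z H a, k * t * k⁻¹ ∈ DeltaSet z H a := by
    rintro _ ⟨p, hp, rfl⟩ t ht
    obtain ⟨ht1, ht2⟩ := mem_DeltaSet.mp ht
    refine mem_DeltaSet.mpr ⟨ht1.trans (isConj_iff.mpr ⟨_, rfl⟩), ?_⟩
    show a⁻¹ * ((a * p * a⁻¹) * t * (a * p * a⁻¹)⁻¹) * a ∈ H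
    have e : a⁻¹ * ((a * p * a⁻¹) * t * (a * p * a⁻¹)⁻¹) * a = p * (a⁻¹ * t * a) * p⁻¹ := by
      group
    rw [e]
    exact H.mul_mem (H.mul_mem (hPH hp) ht2) (H.inv_mem (hPH hp))
  have hKp : IsPGroup 2 ↥((P : Subgroup G).map (MulAut.conj a).toMonoidHom) :=
    P.isPGroup'.map _
  letI := conjSetAction ((P : Subgroup G).map (MulAut.conj a).toMonoidHom) (DeltaSet z H a) hKS
  obtain ⟨t, ht⟩ := hKp.nonempty_fixed_point_of_prime_not_dvd_card ↥(DeltaSet z H a) hoddD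
  have htfix : ∀ p ∈ (P : Subgroup G), (a * p * a⁻¹) * t.1 * (a * p * a⁻¹)⁻¹ = t.1 := by
    intro p hp
    have h := (MulAction.mem_fixedPoints.mp ht)
      ⟨(MulAut.conj a).toMonoidHom p, Subgroup.mem_map_of_mem _ hp⟩
    exact congrArg Subtype.val h
  obtain ⟨ht1, ht2⟩ := mem_DeltaSet.mp t.2
  obtain ⟨b, hb⟩ := isConj_iff.mp ht1
  have hQz : ∀ q ∈ (P : Subgroup G).map (MulAut.conj (b⁻¹ * a)).toMonoidHom,
      q * z = z * q := by
    rintro _ ⟨p, hp, rfl⟩
    show (b⁻¹ * a) * p * (b⁻¹ * a)⁻¹ * z = z * ((b⁻¹ * a) * p * (b⁻¹ * a)⁻¹)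
    have h := htfix p hp
    rw [← hb] at h
    calc (b⁻¹ * a) * p * (b⁻¹ * a)⁻¹ * z
        = b⁻¹ * ((a * p * a⁻¹) * (b * z * b⁻¹) * (a * p * a⁻¹)⁻¹) * b *
            ((b⁻¹ * a) * p * (b⁻¹ * a)⁻¹) := by group
      _ = b⁻¹ * (b * z * b⁻¹) * b * ((b⁻¹ * a) * p * (b⁻¹ * a)⁻¹) := by rw [h]
      _ = z * ((b⁻¹ * a) * p * (b⁻¹ * a)⁻¹) := by group
  have hQp : IsPGroup 2 ↥((P : Subgroup G).map (MulAut.conj (b⁻¹ * a)).toMonoidHom) :=
    P.isPGroup'.map _
  obtain ⟨P2, hP2⟩ := hQp.exists_le_sylow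
  have hcP : ∀ R : Sylow 2 G, Nat.card ↥(R : Subgroup G) = 2 ^ (Nat.card G).factorization 2 :=
    fun R => R.card_eq_multiplicity
  have hc : Nat.card ↥((P : Subgroup G).map (MulAut.conj (b⁻¹ * a)).toMonoidHom) =
      Nat.card ↥(P : Subgroup G) :=
    Subgroup.card_map_of_injective (MulAut.conj (b⁻¹ * a)).injective
  have hQP2 : (P : Subgroup G).map (MulAut.conj (b⁻¹ * a)).toMonoidHom = (P2 : Subgroup G) := by
    apply Subgroup.eq_of_le_of_card_ge hP2
    rw [hc, hcP P2, hcP P]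
  have hP2z : ∀ q ∈ (P2 : Subgroup G), q * z = z * q := by
    intro q hq
    rw [← hQP2] at hq
    exact hQz q hq
  have hzP2 : z ∈ (P2 : Subgroup G) := by
    have hzp : IsPGroup 2 ↥(Subgroup.zpowers z) := isPGroup_zpowers_of_sq hzz
    have h : Subgroup.zpowers z ⊓ Subgroup.normalizer ((P2 : Subgroup G) : Set G) =
        Subgroup.zpowers z ⊓ (P2 : Subgroup G) := hzp.inf_normalizer_sylow P2
    have hzN : z ∈ Subgroup.zpowers z ⊓ Subgroup.normalizer ((P2 : Subgroup G) : Set G) := by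
      refine ⟨Subgroup.mem_zpowers z, ?_⟩
      apply Cfsg.Agent.Helper7.mem_normalizer_of_conj_mem_finite
      intro x hx
      have hx' := hP2z x hx
      have e : z * x * z⁻¹ = x := by rw [← hx', mul_assoc, mul_inv_cancel, mul_one]
      rw [e]; exact hx
    rw [h] at hzN
    exact hzN.2
  refine ⟨P2, ⟨⟨z, hzP2⟩, Subgroup.mem_center_iff.mpr ?_, rfl⟩⟩
  intro g
  apply Subtype.ext
  exact hP2z g.1 g.2


/-- Let z be an involution of a finite group G and H a proper subgroup such that z lies in gHg⁻¹ exactly when g ∈ H. Then the following are equivalent: (1) for every conjugate t ≠ z of z commuting with z, the product zt lies in gHg⁻¹ exactly when g ∈ H; (2) z lies in the centre of some Sylow 2-subgroup of G, and for every conjugate t ≠ z of z commuting with z, the centralizer of zt is contained in H. -/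
theorem result {G : Type*} [Group G] [Finite G] (z : G) (hz : orderOf z = 2) (H : Subgroup G) (hH : H ≠ ⊤)
    (h0 : ∀ g : G, z ∈ H.map (MulAut.conj g).toMonoidHom ↔ g ∈ H) :
    (∀ t : G, IsConj z t → t ≠ z → t * z = z * t → ∀ g : G, z * t ∈ H.map (MulAut.conj g).toMonoidHom ↔ g ∈ H) ↔
      ((∃ P : Sylow 2 G, z ∈ (Subgroup.center ↥(P : Subgroup G)).map (P : Subgroup G).subtype) ∧
        ∀ t : G, IsConj z t → t ≠ z → t * z = z * t → Subgroup.centralizer ({z * t} : Set G) ≤ H) := by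
  have hzz : z * z = 1 := by
    have h := pow_orderOf_eq_one z
    rw [hz, pow_two] at h
    exact h
  have h0' : ∀ g : G, g⁻¹ * z * g ∈ H ↔ g ∈ H := by
    intro g
    rw [← mem_conj_iff]
    exact h0 g
  have hzH : z ∈ H := by
    have h := (h0' 1).mpr H.one_mem
    simpa using h
  have hCz : ∀ c : G, c * z = z * c → c ∈ H := by
    intro c hc
    apply (h0' c).mp
    have h : c⁻¹ * z * c = z := by
      rw [mul_assoc, ← hc, ← mul_assoc, inv_mul_cancel, one_mul]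
    rw [h]; exact hzH
  have hinv : ∀ t : G, IsConj z t → t * t = 1 := by
    intro t ht
    obtain ⟨c, rfl⟩ := isConj_iff.mp ht
    have h : c * z * c⁻¹ * (c * z * c⁻¹) = c * (z * z) * c⁻¹ := by group
    rw [h, hzz, mul_one, mul_inv_cancel]
  constructor
  · intro h1
    have h1' : ∀ t : G, IsConj z t → t ≠ z → t * z = z * t →
        ∀ g : G, g⁻¹ * (z * t) * g ∈ H ↔ g ∈ H := by
      intro t ht htz hc g
      rw [← mem_conj_iff]
      exact h1 t ht htz hc g
    refine ⟨?_, ?_⟩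
    · exact two_central z hzz H hH h0' h1'
    · intro t ht htz hc c hcm
      have hztH : z * t ∈ H := by
        have h := (h1' t ht htz hc 1).mpr H.one_mem
        simpa using h
      apply (h1' t ht htz hc c).mp
      have hcm' : (z * t) * c = c * (z * t) :=
        (Subgroup.mem_centralizer_iff.mp hcm) (z * t) (Set.mem_singleton _)
      have h : c⁻¹ * (z * t) * c = z * t := by
        rw [mul_assoc, hcm', ← mul_assoc, inv_mul_cancel, one_mul]
      rw [h]; exact hztH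
  · rintro ⟨⟨P, hzP⟩, hC⟩ t ht htz hc g
    rw [mem_conj_iff]
    have htH : t ∈ H := hCz t hc
    have hztH : z * t ∈ H := H.mul_mem hzH htH
    constructor
    · intro hy
      obtain ⟨zc, hzc, hzc'⟩ := hzP
      have hPz : ∀ x ∈ (P : Subgroup G), x * z = z * x := by
        intro x hx
        have h := Subgroup.mem_center_iff.mp hzc ⟨x, hx⟩
        have h' := congrArg Subtype.val h
        rw [← hzc']
        exact h'
      have hPH : (P : Subgroup G) ≤ H := fun x hx => hCz x (hPz x hx)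
      have hPp : IsPGroup 2 ↥((P : Subgroup G).subgroupOf H) := P.isPGroup'.comap_subtype
      obtain ⟨T, hT⟩ := hPp.exists_le_sylow
      have hTP : (T : Subgroup ↥H).map H.subtype = (P : Subgroup G) := by
        apply P.is_maximal' (T.isPGroup'.map H.subtype)
        intro x hx
        exact ⟨⟨x, hPH hx⟩, hT (Subgroup.mem_subgroupOf.mpr hx), rfl⟩
      have hyy : (g⁻¹ * (z * t) * g) * (g⁻¹ * (z * t) * g) = 1 := by
        have h : (g⁻¹ * (z * t) * g) * (g⁻¹ * (z * t) * g) =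
            g⁻¹ * ((z * t) * (z * t)) * g := by group
        have h2 : (z * t) * (z * t) = 1 := by
          calc (z * t) * (z * t) = z * (t * z) * t := by simp only [mul_assoc]
            _ = z * (z * t) * t := by rw [hc]
            _ = (z * z) * (t * t) := by simp only [mul_assoc]
            _ = 1 := by rw [hzz, hinv t ht, one_mul]
        rw [h, h2, mul_one, inv_mul_cancel]
      obtain ⟨y', hy'⟩ : ∃ y' : ↥H, (y' : G) = g⁻¹ * (z * t) * g := ⟨⟨_, hy⟩, rfl⟩
      have hy2 : y' * y' = 1 := by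
        apply Subtype.ext
        rw [Subgroup.coe_mul, Subgroup.coe_one, hy']
        exact hyy
      obtain ⟨h, hh⟩ := Cfsg.Agent.Helper7.exists_conj_le_sylow (Subgroup.zpowers y')
        (isPGroup_zpowers_of_sq hy2) T
      have hmem : (h * y' * h⁻¹ : ↥H) ∈ (T : Subgroup ↥H) :=
        hh ⟨y', Subgroup.mem_zpowers y', rfl⟩
      have hmemP : (h : G) * (g⁻¹ * (z * t) * g) * (h : G)⁻¹ ∈ (P : Subgroup G) := by
        rw [← hTP, ← hy']
        exact ⟨h * y' * h⁻¹, hmem, rfl⟩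
      have hcomm := hPz _ hmemP
      have hz3 : g * (h : G)⁻¹ * z * (h : G) * g⁻¹ ∈
          Subgroup.centralizer ({z * t} : Set G) := by
        rw [Subgroup.mem_centralizer_iff]
        intro x hx
        rw [Set.mem_singleton_iff] at hx
        rw [hx]
        calc z * t * (g * (h : G)⁻¹ * z * (h : G) * g⁻¹)
            = g * (h : G)⁻¹ * (((h : G) * (g⁻¹ * (z * t) * g) * (h : G)⁻¹) * z) *
                (h : G) * g⁻¹ := by group
          _ = g * (h : G)⁻¹ * (z * ((h : G) * (g⁻¹ * (z * t) * g) * (h : G)⁻¹)) *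
                (h : G) * g⁻¹ := by rw [hcomm]
          _ = g * (h : G)⁻¹ * z * (h : G) * g⁻¹ * (z * t) := by group
      have hz3H := hC t ht htz hc hz3
      have hhg : (h : G) * g⁻¹ ∈ H := by
        apply (h0' ((h : G) * g⁻¹)).mp
        have e : ((h : G) * g⁻¹)⁻¹ * z * ((h : G) * g⁻¹) =
            g * (h : G)⁻¹ * z * (h : G) * g⁻¹ := by group
        rw [e]; exact hz3H
      have hgi : g⁻¹ ∈ H := by
        have h5 := H.mul_mem (H.inv_mem h.2) hhg
        have e : (h : G)⁻¹ * ((h : G) * g⁻¹) = g⁻¹ := by group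
        rw [e] at h5; exact h5
      have h6 := H.inv_mem hgi
      rw [inv_inv] at h6
      exact h6
    · intro hg
      exact H.mul_mem (H.mul_mem (H.inv_mem hg) hztH) hg

end Cfsg.Agent.S1922
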