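-- S1941: proof by helper9 (cocycle averaging over a Sylow subgroup)
import Mathlib
import Cfsg.Statements.S1941
import Cfsg.Agent.Helper9.Layer
import Cfsg.Agent.Helper9.PPrimeCore
import Cfsg.Agent.Helper1.Fitting
import Cfsg.Agent.Helper14.Conj
import Cfsg.Agent.S1265

set_option autoImplicit false
open Cfsg

namespace Cfsg.Agent.S1941

/-- Abstract averaging: a crossed map `F : G → A` constant on left cosets of `T`. -/
theorem avgAbs {G A : Type*} [Group G] [CommGroup A] (T : Subgroup G) [Finite (G ⧸ T)]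
    (c : G →* MulAut A) (F : G → A) (hFT : ∀ g, ∀ t ∈ T, F (g * t) = F g)
    (hFmul : ∀ x g, F (x * g) = F x * c x (F g)) :
    ∃ s : A, ∀ x : G, s = F x ^ T.index * c x s := by
  classical
  haveI : Fintype (G ⧸ T) := Fintype.ofFinite _
  have hn : Fintype.card (G ⧸ T) = T.index := by
    rw [Subgroup.index_eq_card, Nat.card_eq_fintype_card]
  refine ⟨∏ q : G ⧸ T, F q.out, fun x => ?_⟩
  have h2 : ∀ q : G ⧸ T, F (x * q.out) = F ((x • q).out) := by
    intro q
    have h3 : ((x • q).out : G)⁻¹ * (x * q.out) ∈ T := by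
      rw [← QuotientGroup.eq, QuotientGroup.out_eq']
      have h := QuotientGroup.out_eq' q
      calc x • q = x • ((q.out : G) : G ⧸ T) := by rw [h]
        _ = _ := rfl
    have h4 : x * q.out = (x • q).out * ((x • q).out⁻¹ * (x * q.out)) := by group
    rw [h4, hFT _ _ h3]
  have h1 : ∏ q : G ⧸ T, F (x * q.out) = ∏ q : G ⧸ T, F q.out := by
    rw [Finset.prod_congr rfl (fun q _ => h2 q)]
    exact Equiv.prod_comp (MulAction.toPerm x) (fun q : G ⧸ T => F q.out)
  have h5 : ∏ q : G ⧸ T, F (x * q.out) = ∏ q : G ⧸ T, (F x * c x (F q.out)) :=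
    Finset.prod_congr rfl (fun q _ => hFmul x q.out)
  have h6 : ∏ q : G ⧸ T, (F x * c x (F q.out)) = F x ^ T.index * c x (∏ q : G ⧸ T, F q.out) := by
    rw [Finset.prod_mul_distrib, Finset.prod_const, Finset.card_univ, map_prod, hn]
  exact h1.symm.trans (h5.trans h6)

/-- Averaging a crossed map `δ : G → Z` which is trivial on `T`. -/
theorem avg {G : Type*} [Group G] (T Z : Subgroup G) [Finite (G ⧸ T)] [hZn : Z.Normal]
    (hZc : ∀ a ∈ Z, ∀ b ∈ Z, a * b = b * a) (δ : G → G) (hδZ : ∀ g, δ g ∈ Z)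
    (hδmul : ∀ g h, δ (g * h) = h⁻¹ * δ g * h * δ h) (hδT : ∀ t ∈ T, δ t = 1) :
    ∃ s ∈ Z, ∀ x : G, (δ x) ^ T.index = x⁻¹ * s * x * s⁻¹ := by
  letI : CommGroup ↥Z := { (inferInstance : Group ↥Z) with
    mul_comm := fun a b => Subtype.ext (hZc a a.2 b b.2) }
  let F : G → ↥Z := fun g => ⟨g * δ g * g⁻¹, hZn.conj_mem _ (hδZ g) g⟩
  have hFT : ∀ g, ∀ t ∈ T, F (g * t) = F g := by
    intro g t ht
    apply Subtype.ext
    show g * t * δ (g * t) * (g * t)⁻¹ = g * δ g * g⁻¹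
    rw [hδmul, hδT t ht]; group
  have hFmul : ∀ x g, F (x * g) = F x * (MulAut.conjNormal x : MulAut ↥Z) (F g) := by
    intro x g
    apply Subtype.ext
    show x * g * δ (x * g) * (x * g)⁻¹ = x * δ x * x⁻¹ * (x * (g * δ g * g⁻¹) * x⁻¹)
    rw [hδmul]; group
  obtain ⟨s, hs⟩ := avgAbs T (MulAut.conjNormal : G →* MulAut ↥Z) F hFT hFmul
  refine ⟨s, s.2, fun x => ?_⟩
  have h := congrArg Subtype.val (hs x)
  have h' : (s : G) = (x * δ x * x⁻¹) ^ T.index * (x * s * x⁻¹) := h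
  rw [conj_pow] at h'
  have h'' : ∀ d : G, (s : G) = x * d * x⁻¹ * (x * ↑s * x⁻¹) → d = x⁻¹ * ↑s * x * (↑s)⁻¹ := by
    intro d hd
    have h7 : d = x⁻¹ * (x * d * x⁻¹ * (x * ↑s * x⁻¹)) * x * (↑s)⁻¹ := by group
    rw [← hd] at h7
    exact h7
  exact h'' _ h'

/-- If `O_{p'}(G) = 1` then `F(G)` is a `p`-group. -/
theorem fitting_isPGroup {G : Type*} [Group G] [Finite G] {p : ℕ} [Fact p.Prime]
    (hcore : Cfsg.pPrimeCore p G = ⊥) : IsPGroup p (Cfsg.fittingSubgroup G) := by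
  haveI hFn : (Cfsg.fittingSubgroup G).Normal := Helper9.fittingSubgroup_normal G
  haveI hnil : Group.IsNilpotent (Cfsg.fittingSubgroup G) := Helper1.fitting_isNilpotent
  have hp : p.Prime := Fact.out
  have hq : ∀ {q : ℕ}, q.Prime → q ∣ Nat.card (Cfsg.fittingSubgroup G) → q = p := by
    intro q hqp hqd
    by_contra hne
    haveI : Fact q.Prime := ⟨hqp⟩
    obtain ⟨Q⟩ : Nonempty (Sylow q (Cfsg.fittingSubgroup G)) := inferInstance
    haveI hQn : (Q : Subgroup (Cfsg.fittingSubgroup G)).Normal := inferInstance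
    haveI hQc : (Q : Subgroup (Cfsg.fittingSubgroup G)).Characteristic :=
      Sylow.characteristic_of_normal Q hQn
    have hQG : ((Q : Subgroup (Cfsg.fittingSubgroup G)).map
        (Cfsg.fittingSubgroup G).subtype).Normal := inferInstance
    have hcard : Nat.card ((Q : Subgroup (Cfsg.fittingSubgroup G)).map
        (Cfsg.fittingSubgroup G).subtype) = Nat.card (Q : Subgroup (Cfsg.fittingSubgroup G)) :=
      Subgroup.card_map_of_injective (Subgroup.subtype_injective _)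
    have hQp : IsPGroup q (Q : Subgroup (Cfsg.fittingSubgroup G)) := Q.isPGroup'
    obtain ⟨k, hk⟩ := IsPGroup.iff_card.1 hQp
    have hcop : (Nat.card ((Q : Subgroup (Cfsg.fittingSubgroup G)).map
        (Cfsg.fittingSubgroup G).subtype)).Coprime p := by
      rw [hcard, hk]
      exact Nat.Coprime.pow_left k ((Nat.coprime_primes hqp hp).2 hne)
    have hle := Helper9.le_pPrimeCore_of_normal _ hQG hcop
    rw [hcore] at hle
    have hQbot : (Q : Subgroup (Cfsg.fittingSubgroup G)) = ⊥ := by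
      rw [eq_bot_iff]
      intro x hx
      have h1 : (Cfsg.fittingSubgroup G).subtype x ∈ (⊥ : Subgroup G) := hle ⟨x, hx, rfl⟩
      rw [Subgroup.mem_bot] at h1 ⊢
      exact Subtype.ext h1
    have h2 : q ∣ Nat.card (Q : Subgroup (Cfsg.fittingSubgroup G)) := Q.dvd_card_of_dvd_card hqd
    rw [hQbot, Subgroup.card_bot] at h2
    exact hqp.one_lt.ne' (Nat.dvd_one.1 h2)
  have hcard := Nat.eq_prime_pow_of_unique_prime_dvd (p := p) (Nat.card_pos (α := ↥(Cfsg.fittingSubgroup G))).ne' hq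
  exact IsPGroup.of_card hcard

/-- If `O_{p'}(G) = 1` then `F(G)` lies in every Sylow `p`-subgroup. -/
theorem fitting_le_sylow {G : Type*} [Group G] [Finite G] {p : ℕ} [Fact p.Prime]
    (hcore : Cfsg.pPrimeCore p G = ⊥) (T : Sylow p G) :
    Cfsg.fittingSubgroup G ≤ (T : Subgroup G) := by
  have hFn : (Cfsg.fittingSubgroup G).Normal := Helper9.fittingSubgroup_normal G
  obtain ⟨g, hg⟩ := Helper14.exists_le_sylow_conj T _ (fitting_isPGroup hcore)
  intro x hx
  have h1 : g * x * g⁻¹ ∈ Cfsg.fittingSubgroup G := hFn.conj_mem x hx g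
  have h2 := hg h1
  rw [Helper14.mem_map_conj] at h2
  have h3 : g⁻¹ * (g * x * g⁻¹) * g = x := by group
  rw [h3] at h2
  exact h2

/-- Let G be a finite group with no nontrivial normal subgroup of order prime to p, T a Sylow p-subgroup of G and E(G) the layer of G (the subgroup generated by its components). An automorphism of G of p-power order that fixes T and E(G) elementwise is inner. -/
theorem result {G : Type*} [Group G] [Finite G] {p : ℕ} [Fact p.Prime] (hcore : Cfsg.pPrimeCore p G = ⊥)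
    (T : Sylow p G) (α : MulAut G) (hα : ∃ j : ℕ, orderOf α = p ^ j) (hfixT : ∀ x ∈ (T : Subgroup G), α x = x)
    (hfixE : ∀ x ∈ Cfsg.layer G, α x = x) : ∃ g : G, ∀ x : G, α x = g * x * g⁻¹ := by
  have hp : p.Prime := Fact.out
  haveI hFsn : (Cfsg.generalizedFittingSubgroup G).Normal :=
    Helper9.generalizedFittingSubgroup_normal G
  have hFp : IsPGroup p (Cfsg.fittingSubgroup G) := fitting_isPGroup hcore
  have hFT : Cfsg.fittingSubgroup G ≤ (T : Subgroup G) := fitting_le_sylow hcore T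
  have hfixFs : ∀ x ∈ Cfsg.generalizedFittingSubgroup G, α x = x := by
    have hle : Cfsg.generalizedFittingSubgroup G ≤
        MonoidHom.eqLocus α.toMonoidHom (MonoidHom.id G) := by
      unfold Cfsg.generalizedFittingSubgroup
      exact sup_le (fun x hx => show α.toMonoidHom x = MonoidHom.id G x from hfixE x hx)
        (fun x hx => show α.toMonoidHom x = MonoidHom.id G x from hfixT x (hFT hx))
    intro x hx
    exact hle hx
  obtain ⟨Z, hZdef⟩ : ∃ Z : Subgroup G,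
      Z = Subgroup.centralizer (Cfsg.generalizedFittingSubgroup G : Set G) := ⟨_, rfl⟩
  have hZle : Z ≤ Cfsg.generalizedFittingSubgroup G := by
    rw [hZdef]; exact Cfsg.Agent.S1265.result
  haveI hZn : Z.Normal := by
    rw [hZdef]; exact Subgroup.normal_centralizer
  have hZc : ∀ a ∈ Z, ∀ b ∈ Z, a * b = b * a := by
    intro a ha b hb
    rw [hZdef] at hb
    exact Subgroup.mem_centralizer_iff.1 hb a (hZle ha)
  have hZF : Z ≤ Cfsg.fittingSubgroup G :=
    Helper9.le_fittingSubgroup_of_normal_of_comm Z hZn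
      ⟨⟨fun a b => Subtype.ext (hZc a a.2 b b.2)⟩⟩
  have hZp : IsPGroup p Z := hFp.to_le hZF
  have hδZ : ∀ x : G, x⁻¹ * α x ∈ Z := by
    intro x
    rw [hZdef, Subgroup.mem_centralizer_iff]
    intro n hn
    have h1 : α (x * n * x⁻¹) = x * n * x⁻¹ := hfixFs _ (hFsn.conj_mem n hn x)
    have h2 : α n = n := hfixFs n hn
    rw [map_mul, map_mul, h2, map_inv] at h1
    have h3 : n = x⁻¹ * (α x * n * (α x)⁻¹) * x := by rw [h1]; group
    calc n * (x⁻¹ * α x) = (x⁻¹ * (α x * n * (α x)⁻¹) * x) * (x⁻¹ * α x) := by rw [← h3]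
      _ = x⁻¹ * α x * n := by group
  have hδmul : ∀ g h : G, (g * h)⁻¹ * α (g * h) = h⁻¹ * (g⁻¹ * α g) * h * (h⁻¹ * α h) := by
    intro g h
    rw [map_mul]; group
  have hδT : ∀ t ∈ (T : Subgroup G), t⁻¹ * α t = 1 := by
    intro t ht
    rw [hfixT t ht]; group
  obtain ⟨s, hsZ, hs⟩ := avg (T : Subgroup G) Z hZc (fun x => x⁻¹ * α x) hδZ hδmul hδT
  obtain ⟨n, hn⟩ : ∃ n : ℕ, n = (T : Subgroup G).index := ⟨_, rfl⟩
  have hnp : ¬ p ∣ n := by rw [hn]; exact T.not_dvd_index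
  obtain ⟨k, hk⟩ := IsPGroup.iff_card.1 hZp
  have hcop : Nat.Coprime n (p ^ k) :=
    Nat.Coprime.pow_right k (Nat.Coprime.symm ((Nat.Prime.coprime_iff_not_dvd hp).2 hnp))
  obtain ⟨a, ha⟩ : ∃ a : ℤ, a = Nat.gcdA n (p ^ k) := ⟨_, rfl⟩
  have h3 : (1 : ℤ) = n * a + ((p ^ k : ℕ) : ℤ) * Nat.gcdB n (p ^ k) := by
    have h4 := Nat.gcd_eq_gcd_ab n (p ^ k)
    rw [Nat.Coprime.gcd_eq_one hcop] at h4
    rw [ha]
    exact_mod_cast h4
  have hpow : ∀ z ∈ Z, z = (z ^ n) ^ a := by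
    intro z hz
    have h1 : z ^ (p ^ k) = 1 := by
      have h2 : (⟨z, hz⟩ : ↥Z) ^ Nat.card ↥Z = 1 := pow_card_eq_one'
      rw [hk] at h2
      exact congrArg Subtype.val h2
    calc z = z ^ (1 : ℤ) := (zpow_one z).symm
      _ = z ^ ((n : ℤ) * a + ((p ^ k : ℕ) : ℤ) * Nat.gcdB n (p ^ k)) := by rw [← h3]
      _ = (z ^ n) ^ a := by
        rw [zpow_add, zpow_mul, zpow_mul, zpow_natCast, zpow_natCast, h1, one_zpow, mul_one]
  obtain ⟨w, hw⟩ : ∃ w : G, w = s ^ a := ⟨_, rfl⟩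
  refine ⟨w, fun x => ?_⟩
  have h1 : x⁻¹ * α x = ((x⁻¹ * α x) ^ n) ^ a := hpow _ (hδZ x)
  have h1' : (x⁻¹ * α x) ^ n = x⁻¹ * s * x * s⁻¹ := by rw [hn]; exact hs x
  rw [h1'] at h1
  have hc : Commute (x⁻¹ * s * x) s⁻¹ := by
    have h2 : x⁻¹ * s * x ∈ Z := by
      have h5 := hZn.conj_mem s hsZ x⁻¹
      rwa [inv_inv] at h5
    exact hZc _ h2 _ (Z.inv_mem hsZ)
  rw [hc.mul_zpow] at h1
  have h4 : (x⁻¹ * s * x) ^ a = x⁻¹ * s ^ a * x := by
    have h5 := conj_zpow (a := x⁻¹) (b := s) (i := a)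
    rwa [inv_inv] at h5
  rw [h4, inv_zpow, ← hw] at h1
  calc α x = x * (x⁻¹ * α x) := by group
    _ = x * (x⁻¹ * w * x * w⁻¹) := by rw [h1]
    _ = w * x * w⁻¹ := by group

end Cfsg.Agent.S1941
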