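import Cfsg.Statements.S1944
import Mathlib
import Cfsg.Agent.Helper10.Trace
import Cfsg.Agent.Helper10.PPrimeP
import Cfsg.Agent.Helper10.PCore
import Cfsg.Agent.Helper10.SylowRel
import Cfsg.Agent.Helper23.PSolv

set_option autoImplicit false
open Cfsg

namespace Cfsg.Agent.S1944

/-- Let S be a Sylow p-subgroup of the finite group G and suppose that the centre Z(S) lies in O_{p',p}(G). The elements of S each of which is its only G-conjugate in S form a subgroup W of Z(S); W is then a direct factor of Z(S): there is a subgroup K of Z(S) with W ∩ K = 1 and WK = Z(S). -/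
theorem result {G : Type*} [Group G] [Finite G] {p : ℕ} [Fact p.Prime] (S : Sylow p G)
    (hZ : ((S : Subgroup G) ⊓ Subgroup.centralizer ((S : Subgroup G) : Set G)) ≤ Cfsg.pPrimePCore p G) :
    ∃ W K : Subgroup G, (∀ x : G, x ∈ W ↔ (x ∈ (S : Subgroup G) ∧ ∀ g : G, g * x * g⁻¹ ∈ (S : Subgroup G) → g * x * g⁻¹ = x)) ∧
      K ≤ ((S : Subgroup G) ⊓ Subgroup.centralizer ((S : Subgroup G) : Set G)) ∧ W ⊓ K = ⊥ ∧ W ⊔ K = ((S : Subgroup G) ⊓ Subgroup.centralizer ((S : Subgroup G) : Set G)) := by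
  classical
  have hKn : (Cfsg.pPrimeCore p G).Normal := Cfsg.pPrimeCore_normal p G
  have hKco : (Nat.card (Cfsg.pPrimeCore p G)).Coprime p := Cfsg.Agent.Helper23.pPrimeCore_coprime p
  have hsurj : Function.Surjective (QuotientGroup.mk' (Cfsg.pPrimeCore p G)) :=
    QuotientGroup.mk'_surjective _
  have hPn : (Cfsg.pCore p (G ⧸ Cfsg.pPrimeCore p G)).Normal := Cfsg.pCore_normal p _
  have hSK : ∀ x ∈ (S : Subgroup G), x ∈ Cfsg.pPrimeCore p G → x = 1 := by
    obtain ⟨n, hn⟩ := IsPGroup.iff_card.1 S.isPGroup'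
    have hdis : Disjoint (S : Subgroup G) (Cfsg.pPrimeCore p G) := by
      apply Subgroup.disjoint_of_coprime_natCard
      rw [hn]
      exact Nat.Coprime.pow_left n hKco.symm
    intro x hx hxK
    exact Subgroup.disjoint_def.1 hdis hx hxK
  have hmkinj : ∀ x ∈ (S : Subgroup G), ∀ y ∈ (S : Subgroup G),
      QuotientGroup.mk' (Cfsg.pPrimeCore p G) x = QuotientGroup.mk' (Cfsg.pPrimeCore p G) y →
      x = y := by
    intro x hx y hy hxy
    have h1 : x⁻¹ * y ∈ Cfsg.pPrimeCore p G := QuotientGroup.eq.1 hxy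
    have h2 := hSK _ (Subgroup.mul_mem _ (Subgroup.inv_mem _ hx) hy) h1
    exact inv_mul_eq_one.1 h2
  have hPS : ∀ y ∈ Cfsg.pCore p (G ⧸ Cfsg.pPrimeCore p G), ∃ s ∈ (S : Subgroup G),
      QuotientGroup.mk' (Cfsg.pPrimeCore p G) s = y := by
    intro y hy
    have h1 := Cfsg.Agent.Helper10.pCore_le_sylow (S.mapSurjective hsurj) hy
    rw [Sylow.coe_mapSurjective] at h1
    exact h1
  obtain ⟨Asub, hAdef⟩ : ∃ Asub : Subgroup (G ⧸ Cfsg.pPrimeCore p G),
      Asub = Cfsg.pCore p (G ⧸ Cfsg.pPrimeCore p G) ⊓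
        Subgroup.centralizer ((Cfsg.pCore p (G ⧸ Cfsg.pPrimeCore p G) :
          Subgroup (G ⧸ Cfsg.pPrimeCore p G)) : Set (G ⧸ Cfsg.pPrimeCore p G)) := ⟨_, rfl⟩
  have hAn : Asub.Normal := by rw [hAdef]; infer_instance
  have hZA : ∀ z ∈ (S : Subgroup G) ⊓ Subgroup.centralizer ((S : Subgroup G) : Set G),
      QuotientGroup.mk' (Cfsg.pPrimeCore p G) z ∈ Asub := by
    intro z hz
    rw [hAdef]
    refine Subgroup.mem_inf.2 ⟨hZ hz, ?_⟩
    rw [Subgroup.mem_centralizer_iff]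
    intro y hy
    obtain ⟨s, hs, rfl⟩ := hPS y hy
    have h1 : s * z = z * s := (Subgroup.mem_centralizer_iff.1 (Subgroup.mem_inf.1 hz).2) s hs
    rw [← map_mul, ← map_mul, h1]
  have hAP : Asub ≤ Cfsg.pCore p (G ⧸ Cfsg.pPrimeCore p G) := by
    rw [hAdef]; exact inf_le_left
  have hAcen : ∀ a ∈ Asub, ∀ y ∈ Cfsg.pCore p (G ⧸ Cfsg.pPrimeCore p G), y * a = a * y := by
    intro a ha y hy
    rw [hAdef] at ha
    exact (Subgroup.mem_centralizer_iff.1 (Subgroup.mem_inf.1 ha).2) y hy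
  have hAcomm : ∀ a b : ↥Asub, a * b = b * a := by
    intro a b
    apply Subtype.ext
    exact hAcen b b.2 a (hAP a.2)
  have hAp : IsPGroup p ↥Asub := (Cfsg.Agent.Helper10.pCore_isPGroup p _).to_le hAP
  obtain ⟨C, hC1, hC2, hC3⟩ := Cfsg.Agent.Helper10.trace_decomp_comm
    (iA := { (inferInstance : Group ↥Asub) with mul_comm := hAcomm }) hAp
    ((MulAut.conjNormal (H := Asub)).comp (QuotientGroup.mk' (Cfsg.pPrimeCore p G)))
    (S : Subgroup G) S.not_dvd_index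
  -- weakly closed elements are central in S
  have hwcZ : ∀ x : G, x ∈ (S : Subgroup G) →
      (∀ g : G, g * x * g⁻¹ ∈ (S : Subgroup G) → g * x * g⁻¹ = x) →
      x ∈ (S : Subgroup G) ⊓ Subgroup.centralizer ((S : Subgroup G) : Set G) := by
    intro x hxS hwc
    refine Subgroup.mem_inf.2 ⟨hxS, ?_⟩
    rw [Subgroup.mem_centralizer_iff]
    intro s hs
    have h1 := hwc s (Subgroup.mul_mem _ (Subgroup.mul_mem _ hs hxS) (Subgroup.inv_mem _ hs))
    calc s * x = s * x * s⁻¹ * s := by group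
      _ = x * s := by rw [h1]
  have hWchar : ∀ x : G, x ∈ (S : Subgroup G) ⊓ (Subgroup.center (G ⧸ Cfsg.pPrimeCore p G)).comap
      (QuotientGroup.mk' (Cfsg.pPrimeCore p G)) ↔
      (x ∈ (S : Subgroup G) ∧ ∀ g : G, g * x * g⁻¹ ∈ (S : Subgroup G) → g * x * g⁻¹ = x) := by
    intro x
    constructor
    · rintro ⟨hxS, hxc⟩
      refine ⟨hxS, fun g hg => hmkinj _ hg _ hxS ?_⟩
      have h1 : QuotientGroup.mk' (Cfsg.pPrimeCore p G) x ∈
          Subgroup.center (G ⧸ Cfsg.pPrimeCore p G) := hxc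
      have h2 := Subgroup.mem_center_iff.1 h1 (QuotientGroup.mk' (Cfsg.pPrimeCore p G) g)
      rw [map_mul, map_mul, map_inv, h2, mul_inv_cancel_right]
    · rintro ⟨hxS, hwc⟩
      refine Subgroup.mem_inf.2 ⟨hxS, ?_⟩
      have hxZ := hwcZ x hxS hwc
      have hxA := hZA x hxZ
      show QuotientGroup.mk' (Cfsg.pPrimeCore p G) x ∈ Subgroup.center (G ⧸ Cfsg.pPrimeCore p G)
      rw [Subgroup.mem_center_iff]
      intro gbar
      obtain ⟨g, rfl⟩ := hsurj gbar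
      have hLn : (Cfsg.pPrimePCore p G).Normal := Cfsg.Agent.Helper10.pPrimePCore_normal p G
      have hxL : x ∈ Cfsg.pPrimePCore p G := hZ hxZ
      have hSLp : IsPGroup p ((S : Subgroup G) ⊓ Cfsg.pPrimePCore p G : Subgroup G) :=
        S.isPGroup'.to_le inf_le_left
      have hle : ((S : Subgroup G) ⊓ Cfsg.pPrimePCore p G).map (MulAut.conj g).toMonoidHom ≤
          Cfsg.pPrimePCore p G := by
        rintro _ ⟨y, hy, rfl⟩
        exact hLn.conj_mem y (Subgroup.mem_inf.1 hy).2 g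
      obtain ⟨l, hl, hlS⟩ := Cfsg.Agent.Helper10.exists_conj_into_of_relIndex
        (Cfsg.pPrimePCore p G) _ hSLp (Cfsg.Agent.Helper10.not_dvd_relIndex_pPrimePCore S)
        _ (hSLp.map _) hle
      have h1 : l * (g * x * g⁻¹) * l⁻¹ ∈ (S : Subgroup G) :=
        (Subgroup.mem_inf.1 (hlS _ ⟨x, Subgroup.mem_inf.2 ⟨hxS, hxL⟩, rfl⟩)).1
      have e1 : l * (g * x * g⁻¹) * l⁻¹ = (l * g) * x * (l * g)⁻¹ := by group
      rw [e1] at h1
      have h2 := congrArg (QuotientGroup.mk' (Cfsg.pPrimeCore p G)) (hwc _ h1)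
      simp only [map_mul, map_inv, mul_inv_rev] at h2
      have hlP : QuotientGroup.mk' (Cfsg.pPrimeCore p G) l ∈
          Cfsg.pCore p (G ⧸ Cfsg.pPrimeCore p G) := hl
      have hac := hAcen _ hxA _ hlP
      generalize QuotientGroup.mk' (Cfsg.pPrimeCore p G) l = a at h2 hac
      generalize QuotientGroup.mk' (Cfsg.pPrimeCore p G) g = b at h2
      generalize QuotientGroup.mk' (Cfsg.pPrimeCore p G) x = c at h2 hac
      calc b * c = a⁻¹ * (a * b * c * (b⁻¹ * a⁻¹)) * a * b := by group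
        _ = a⁻¹ * c * a * b := by rw [h2]
        _ = a⁻¹ * (c * a) * b := by group
        _ = a⁻¹ * (a * c) * b := by rw [hac]
        _ = c * b := by group
  have hWZ : (S : Subgroup G) ⊓ (Subgroup.center (G ⧸ Cfsg.pPrimeCore p G)).comap
      (QuotientGroup.mk' (Cfsg.pPrimeCore p G)) ≤
      (S : Subgroup G) ⊓ Subgroup.centralizer ((S : Subgroup G) : Set G) := by
    intro x hx
    obtain ⟨hxS, hwc⟩ := (hWchar x).1 hx
    exact hwcZ x hxS hwc
  refine ⟨(S : Subgroup G) ⊓ (Subgroup.center (G ⧸ Cfsg.pPrimeCore p G)).comap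
      (QuotientGroup.mk' (Cfsg.pPrimeCore p G)),
    ((S : Subgroup G) ⊓ Subgroup.centralizer ((S : Subgroup G) : Set G)) ⊓
      (C.map Asub.subtype).comap (QuotientGroup.mk' (Cfsg.pPrimeCore p G)), hWchar, inf_le_left,
    ?_, ?_⟩
  · rw [eq_bot_iff]
    rintro x ⟨⟨hxS, hxc⟩, -, hxC⟩
    have h1 : QuotientGroup.mk' (Cfsg.pPrimeCore p G) x ∈
        Subgroup.center (G ⧸ Cfsg.pPrimeCore p G) := hxc
    obtain ⟨c, hc, hcx⟩ : ∃ c ∈ C, Asub.subtype c = QuotientGroup.mk' (Cfsg.pPrimeCore p G) x := hxC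
    have hc1 : c = 1 := by
      apply hC2 c hc
      intro g
      apply Subtype.ext
      have hcx' : (c : G ⧸ Cfsg.pPrimeCore p G) = QuotientGroup.mk' (Cfsg.pPrimeCore p G) x := hcx
      show QuotientGroup.mk' (Cfsg.pPrimeCore p G) g * (c : G ⧸ Cfsg.pPrimeCore p G) *
        (QuotientGroup.mk' (Cfsg.pPrimeCore p G) g)⁻¹ = (c : G ⧸ Cfsg.pPrimeCore p G)
      rw [hcx', Subgroup.mem_center_iff.1 h1, mul_inv_cancel_right]
    rw [hc1, map_one] at hcx
    rw [Subgroup.mem_bot]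
    exact hSK x hxS ((QuotientGroup.eq_one_iff x).1 hcx.symm)
  · apply le_antisymm (sup_le hWZ inf_le_left)
    intro z hz
    have hzS := (Subgroup.mem_inf.1 hz).1
    have hzc := Subgroup.mem_centralizer_iff.1 (Subgroup.mem_inf.1 hz).2
    obtain ⟨w, c, hw, hc, hac⟩ := hC3 ⟨QuotientGroup.mk' (Cfsg.pPrimeCore p G) z, hZA z hz⟩ (by
      intro σ hσ
      apply Subtype.ext
      show QuotientGroup.mk' (Cfsg.pPrimeCore p G) σ * QuotientGroup.mk' (Cfsg.pPrimeCore p G) z *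
        (QuotientGroup.mk' (Cfsg.pPrimeCore p G) σ)⁻¹ = QuotientGroup.mk' (Cfsg.pPrimeCore p G) z
      rw [← map_mul, hzc σ hσ, map_mul, mul_inv_cancel_right])
    have hac' : QuotientGroup.mk' (Cfsg.pPrimeCore p G) z =
        (w : G ⧸ Cfsg.pPrimeCore p G) * (c : G ⧸ Cfsg.pPrimeCore p G) := congrArg Subtype.val hac
    obtain ⟨s₁, hs₁, hs₁w⟩ := hPS _ (hAP w.2)
    have hs₁W : s₁ ∈ (S : Subgroup G) ⊓ (Subgroup.center (G ⧸ Cfsg.pPrimeCore p G)).comap
        (QuotientGroup.mk' (Cfsg.pPrimeCore p G)) := by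
      refine Subgroup.mem_inf.2 ⟨hs₁, ?_⟩
      show QuotientGroup.mk' (Cfsg.pPrimeCore p G) s₁ ∈ Subgroup.center (G ⧸ Cfsg.pPrimeCore p G)
      rw [hs₁w, Subgroup.mem_center_iff]
      intro gbar
      obtain ⟨g, rfl⟩ := hsurj gbar
      have h3 : QuotientGroup.mk' (Cfsg.pPrimeCore p G) g * (w : G ⧸ Cfsg.pPrimeCore p G) *
          (QuotientGroup.mk' (Cfsg.pPrimeCore p G) g)⁻¹ = (w : G ⧸ Cfsg.pPrimeCore p G) :=
        congrArg Subtype.val (hw g)
      calc QuotientGroup.mk' (Cfsg.pPrimeCore p G) g * (w : G ⧸ Cfsg.pPrimeCore p G)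
          = QuotientGroup.mk' (Cfsg.pPrimeCore p G) g * (w : G ⧸ Cfsg.pPrimeCore p G) *
            (QuotientGroup.mk' (Cfsg.pPrimeCore p G) g)⁻¹ *
            QuotientGroup.mk' (Cfsg.pPrimeCore p G) g := by group
        _ = (w : G ⧸ Cfsg.pPrimeCore p G) * QuotientGroup.mk' (Cfsg.pPrimeCore p G) g := by rw [h3]
    have hK' : s₁⁻¹ * z ∈ ((S : Subgroup G) ⊓ Subgroup.centralizer ((S : Subgroup G) : Set G)) ⊓
        (C.map Asub.subtype).comap (QuotientGroup.mk' (Cfsg.pPrimeCore p G)) := by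
      refine Subgroup.mem_inf.2 ⟨Subgroup.mul_mem _ (Subgroup.inv_mem _ (hWZ hs₁W)) hz, ?_⟩
      show QuotientGroup.mk' (Cfsg.pPrimeCore p G) (s₁⁻¹ * z) ∈ C.map Asub.subtype
      refine ⟨c, hc, ?_⟩
      rw [map_mul, map_inv, hs₁w, hac', inv_mul_cancel_left]
      rfl
    have e : z = s₁ * (s₁⁻¹ * z) := by group
    rw [e]
    exact Subgroup.mul_mem_sup hs₁W hK' 

end Cfsg.Agent.S1944
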