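import Cfsg.Statements.S1947
import Cfsg.Agent.Helper14.CoprimeAut2
import Cfsg.Agent.Helper1.Frobenius

set_option autoImplicit false
open Cfsg

namespace Cfsg.Agent.S1947

open Cfsg.Agent.Helper14

/-- Let G be a finite group and p a prime. If every element of G of order dividing p (dividing 4 when p = 2) lies in some fixed term Z_n(G) of the upper central series, then G has a normal p-complement. -/
theorem result {G : Type*} [Group G] [Finite G] {p : ℕ} [Fact p.Prime] (n : ℕ)
    (h : ∀ a : G, (a ^ p = 1 ∨ (p = 2 ∧ a ^ 4 = 1)) → a ∈ Subgroup.upperCentralSeries G n) : Cfsg.HasNormalPComplement p G := by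
  have hL : Cfsg.Agent.Helper1.LocalP p G := by
    intro Q hQ g hg hgp
    rw [Subgroup.mem_centralizer_iff]
    intro x hx
    have hk : (MulAut.conj g) ^ orderOf g = 1 := by
      rw [← map_pow, pow_orderOf_eq_one, map_one]
    have hinv : ∀ x ∈ Q, (MulAut.conj g) x ∈ Q := by
      intro x hx
      rw [MulAut.conj_apply]
      exact (Subgroup.mem_normalizer_iff.mp hg x).mp hx
    have hfix : ∀ x ∈ Q, (x ^ p = 1 ∨ (p = 2 ∧ x ^ 4 = 1)) → (MulAut.conj g) x = x := by
      intro x _ hx
      rw [MulAut.conj_apply]
      have hxn := h x hx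
      have hxr : x ^ (p ^ 2) = 1 := by
        rcases hx with hx | ⟨h2, hx⟩
        · rw [pow_two, pow_mul, hx, one_pow]
        · rw [h2]
          exact hx
      have hc := commute_of_mem_ucs n x g (p ^ 2) (orderOf g)
        (Nat.Coprime.pow_left 2 hgp.symm) hxr (pow_orderOf_eq_one g) hxn
      rw [hc, mul_inv_cancel_right]
    have key := aut_fix_of_fix_omega (MulAut.conj g) (orderOf g) hk hgp Q hQ hinv hfix x hx
    rw [MulAut.conj_apply] at key
    calc x * g = g * x * g⁻¹ * g := by rw [key]
      _ = g * x := by group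
  exact Cfsg.Agent.Helper1.npc_of_local hL

end Cfsg.Agent.S1947
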