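import Cfsg.Statements.S1948
import Mathlib
import Cfsg.Agent.Helper10.PPrimeP
import Cfsg.Agent.Helper10.NormalPComp

set_option autoImplicit false
open Cfsg

namespace Cfsg.Agent.S1948

/-- Let S be a Sylow p-subgroup of the finite group G. Then G = N_G(S)·O_{p'}(G) if and only if G is p-constrained and N_G(S) controls fusion in S, in the sense that whenever a subgroup Q of S has a conjugate g Q g⁻¹ inside S, the element g is a product n c with n normalizing S and c centralizing Q. -/
theorem result {G : Type*} [Group G] [Finite G] {p : ℕ} [Fact p.Prime] (S : Sylow p G) :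
    Subgroup.normalizer ((S : Subgroup G) : Set G) ⊔ Cfsg.pPrimeCore p G = ⊤ ↔
      (Cfsg.IsPConstrained p G ∧
        ∀ Q : Subgroup G, Q ≤ (S : Subgroup G) → ∀ g : G, Q.map (MulAut.conj g).toMonoidHom ≤ (S : Subgroup G) →
          ∃ n ∈ Subgroup.normalizer ((S : Subgroup G) : Set G), ∃ c ∈ Subgroup.centralizer (Q : Set G), g = n * c) := by
  classical
  have hDn : (Cfsg.pPrimeCore p G).Normal := Cfsg.Agent.Helper10.pPrimeCore_normal p G
  have hDc : (Nat.card (Cfsg.pPrimeCore p G)).Coprime p := Cfsg.Agent.Helper23.pPrimeCore_coprime p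
  have hKn : (Cfsg.pPrimePCore p G).Normal := Cfsg.Agent.Helper10.pPrimePCore_normal p G
  have hDK := Cfsg.Agent.Helper10.pPrimeCore_le_pPrimePCore p G
  constructor
  · intro htop
    have hdec : ∀ g : G, ∃ n ∈ Subgroup.normalizer ((S : Subgroup G) : Set G),
        ∃ d ∈ Cfsg.pPrimeCore p G, g = n * d := by
      intro g
      have hg : g ∈ ((Subgroup.normalizer ((S : Subgroup G) : Set G) ⊔ Cfsg.pPrimeCore p G :
          Subgroup G) : Set G) := by
        rw [htop]; exact Subgroup.mem_top g
      rw [Subgroup.mul_normal] at hg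
      obtain ⟨n, hn, d, hd, rfl⟩ := Set.mem_mul.1 hg
      exact ⟨n, hn, d, hd, rfl⟩
    -- S ≤ K
    have hSK : (S : Subgroup G) ≤ Cfsg.pPrimePCore p G := by
      have hSbn : ((S : Subgroup G).map (QuotientGroup.mk' (Cfsg.pPrimeCore p G))).Normal := by
        constructor
        rintro _ ⟨s, hs, rfl⟩ gbar
        obtain ⟨g, rfl⟩ := QuotientGroup.mk'_surjective _ gbar
        obtain ⟨n, hn, d, hd, rfl⟩ := hdec g
        have h1 : (QuotientGroup.mk' (Cfsg.pPrimeCore p G)) d = 1 := (QuotientGroup.eq_one_iff d).2 hd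
        rw [map_mul, h1, mul_one, ← map_inv, ← map_mul, ← map_mul]
        exact Subgroup.mem_map_of_mem _ ((Subgroup.mem_normalizer_iff.1 hn s).1 hs)
      have hle := @Cfsg.Agent.Helper10.le_pCore p (G ⧸ Cfsg.pPrimeCore p G) _ _ hSbn
        (S.isPGroup'.map (QuotientGroup.mk' (Cfsg.pPrimeCore p G)))
      intro s hs
      exact hle (Subgroup.mem_map_of_mem _ hs)
    -- C_G(S) ≤ K
    have hCS : Subgroup.centralizer ((S : Subgroup G) : Set G) ≤ Cfsg.pPrimePCore p G := by
      have hcen : ∀ x : Subgroup.centralizer ((S : Subgroup G) : Set G),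
          (∃ k : ℕ, orderOf x = p ^ k) →
          x ∈ Subgroup.center (Subgroup.centralizer ((S : Subgroup G) : Set G)) := by
        rintro x ⟨k, hk⟩
        have hxS : (x : G) ∈ (S : Subgroup G) :=
          Cfsg.Agent.Helper10.mem_sylow_of_mem_centralizer S x x.2 k
            (by rw [Subgroup.orderOf_coe]; exact hk)
        rw [Subgroup.mem_center_iff]
        intro y
        apply Subtype.ext
        have := y.2
        rw [Subgroup.mem_centralizer_iff] at this
        exact (this x hxS).symm
      obtain ⟨T, hTn, hTc, hTall⟩ := Cfsg.Agent.Helper10.exists_normal_pprime_of_central hcen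
      have hT'c : (Nat.card (T.map (Subgroup.centralizer ((S : Subgroup G) : Set G)).subtype)).Coprime p := by
        rw [Subgroup.card_map_of_injective (Subgroup.subtype_injective _)]; exact hTc
      have hLc : (Nat.card (T.map (Subgroup.centralizer ((S : Subgroup G) : Set G)).subtype ⊔
          Cfsg.pPrimeCore p G : Subgroup G)).Coprime p :=
        Cfsg.Agent.Helper23.coprime_card_sup p _ _ hT'c hDc
      have hNT : Subgroup.normalizer ((S : Subgroup G) : Set G) ≤ Subgroup.normalizer
          ((T.map (Subgroup.centralizer ((S : Subgroup G) : Set G)).subtype : Subgroup G) : Set G) := by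
        intro n hn
        apply Cfsg.Agent.Helper9.mem_normalizer_of_conj_le
        rintro _ ⟨t, ht, rfl⟩
        have hmem : n * (t : G) * n⁻¹ ∈ Subgroup.centralizer ((S : Subgroup G) : Set G) := by
          rw [Subgroup.mem_centralizer_iff]
          intro s hs
          have hs' : n⁻¹ * s * n ∈ (S : Subgroup G) := by
            have := (Subgroup.mem_normalizer_iff.1 (Subgroup.inv_mem _ hn) s).1 hs
            simpa using this
          have ht2 := t.2
          rw [Subgroup.mem_centralizer_iff] at ht2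
          have h3 := ht2 _ hs'
          calc s * (n * ↑t * n⁻¹) = n * ((n⁻¹ * s * n) * ↑t) * n⁻¹ := by group
            _ = n * (↑t * (n⁻¹ * s * n)) * n⁻¹ := by rw [h3]
            _ = n * ↑t * n⁻¹ * s := by group
        refine ⟨⟨n * (t : G) * n⁻¹, hmem⟩, ?_, rfl⟩
        apply hTall
        have ho : orderOf (⟨n * (t : G) * n⁻¹, hmem⟩ :
            Subgroup.centralizer ((S : Subgroup G) : Set G)) = orderOf t := by
          rw [Subgroup.orderOf_mk, ← Subgroup.orderOf_coe t]
          have := (MulAut.conj n).orderOf_eq (t : G)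
          rw [MulAut.conj_apply] at this
          exact this
        rw [ho]
        have : orderOf (⟨t, ht⟩ : T) ∣ Nat.card T := orderOf_dvd_natCard _
        rw [Subgroup.orderOf_mk] at this
        exact Nat.Coprime.coprime_dvd_left this hTc
      have hLn : (T.map (Subgroup.centralizer ((S : Subgroup G) : Set G)).subtype ⊔
          Cfsg.pPrimeCore p G : Subgroup G).Normal := by
        rw [← Subgroup.normalizer_eq_top_iff, eq_top_iff, ← htop]
        apply sup_le
        · intro n hn
          apply Subgroup.normalizer_inf_normalizer_le_normalizer_sup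
          refine Subgroup.mem_inf.2 ⟨hNT hn, ?_⟩
          rw [Subgroup.normalizer_eq_top]; exact Subgroup.mem_top n
        · exact le_trans le_sup_right Subgroup.le_normalizer
      have hLD : T.map (Subgroup.centralizer ((S : Subgroup G) : Set G)).subtype ⊔
          Cfsg.pPrimeCore p G ≤ Cfsg.pPrimeCore p G :=
        Cfsg.Agent.Helper23.le_pPrimeCore hLn hLc
      intro c hc
      obtain ⟨e, m, hm, hord⟩ := Nat.exists_eq_pow_mul_and_not_dvd (orderOf_pos c).ne' p
        (Fact.out : p.Prime).ne_one
      have hmc : m.Coprime p := ((Nat.Prime.coprime_iff_not_dvd Fact.out).2 hm).symm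
      apply Cfsg.Agent.Helper23.mem_of_pow_mem_of_coprime (a := p ^ e) (b := m)
        (Nat.Coprime.pow_left e hmc.symm)
      · apply hDK; apply hLD
        apply le_sup_left (b := Cfsg.pPrimeCore p G)
        refine ⟨⟨c, hc⟩ ^ (p ^ e), ?_, rfl⟩
        apply hTall
        have hdvd : orderOf ((⟨c, hc⟩ : Subgroup.centralizer ((S : Subgroup G) : Set G)) ^ (p ^ e)) ∣ m := by
          apply orderOf_dvd_of_pow_eq_one
          apply Subtype.ext
          rw [← pow_mul]
          show c ^ (p ^ e * m) = 1
          rw [← hord]; exact pow_orderOf_eq_one c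
        exact Nat.Coprime.coprime_dvd_left hdvd hmc
      · apply hSK
        have hdvd : orderOf (c ^ m) ∣ p ^ e := by
          apply orderOf_dvd_of_pow_eq_one
          rw [← pow_mul, mul_comm, ← hord]; exact pow_orderOf_eq_one c
        obtain ⟨j, -, hj⟩ := (Nat.dvd_prime_pow Fact.out).1 hdvd
        exact Cfsg.Agent.Helper10.mem_sylow_of_mem_centralizer S _ (Subgroup.pow_mem _ hc m) j hj
    refine ⟨?_, ?_⟩
    · intro P
      have hP'p : IsPGroup p ((P : Subgroup (Cfsg.pPrimePCore p G)).map (Cfsg.pPrimePCore p G).subtype) :=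
        P.isPGroup'.map _
      have hrel : ¬ p ∣ ((P : Subgroup (Cfsg.pPrimePCore p G)).map
          (Cfsg.pPrimePCore p G).subtype).relIndex (Cfsg.pPrimePCore p G) := by
        have : ((P : Subgroup (Cfsg.pPrimePCore p G)).map
            (Cfsg.pPrimePCore p G).subtype).subgroupOf (Cfsg.pPrimePCore p G) = P :=
          Subgroup.comap_map_eq_self_of_injective (Subgroup.subtype_injective _) _
        show ¬ p ∣ (((P : Subgroup (Cfsg.pPrimePCore p G)).map
          (Cfsg.pPrimePCore p G).subtype).subgroupOf (Cfsg.pPrimePCore p G)).index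
        rw [this]
        exact P.not_dvd_index
      obtain ⟨k, hk, hkS⟩ := Cfsg.Agent.Helper10.exists_conj_into_of_relIndex _ _ hP'p hrel
        (S : Subgroup G) S.isPGroup' hSK
      intro z hz
      rw [Subgroup.mem_centralizer_iff] at hz
      have hz' : k⁻¹ * z * k ∈ Subgroup.centralizer ((S : Subgroup G) : Set G) := by
        rw [Subgroup.mem_centralizer_iff]
        intro s hs
        have h3 := hz _ (hkS s hs)
        calc s * (k⁻¹ * z * k) = k⁻¹ * ((k * s * k⁻¹) * z) * k := by group
          _ = k⁻¹ * (z * (k * s * k⁻¹)) * k := by rw [h3]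
          _ = k⁻¹ * z * k * s := by group
      have h4 := hCS hz'
      have h5 := Subgroup.mul_mem _ (Subgroup.mul_mem _ hk h4) (Subgroup.inv_mem _ hk)
      have e : k * (k⁻¹ * z * k) * k⁻¹ = z := by group
      rw [e] at h5
      exact h5
    · intro Q hQS g hQg
      obtain ⟨n, hn, d, hd, rfl⟩ := hdec g
      refine ⟨n, hn, d, ?_, rfl⟩
      rw [Subgroup.mem_centralizer_iff]
      intro x hx
      have h1 : n * d * x * (n * d)⁻¹ ∈ (S : Subgroup G) := hQg ⟨x, hx, rfl⟩
      have h2 : d * x * d⁻¹ ∈ (S : Subgroup G) := by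
        apply (Subgroup.mem_normalizer_iff.1 hn _).2
        have e : n * (d * x * d⁻¹) * n⁻¹ = n * d * x * (n * d)⁻¹ := by group
        rw [e]; exact h1
      have hwS : d * x * d⁻¹ * x⁻¹ ∈ (S : Subgroup G) :=
        Subgroup.mul_mem _ h2 (Subgroup.inv_mem _ (hQS hx))
      have hwD : d * x * d⁻¹ * x⁻¹ ∈ Cfsg.pPrimeCore p G := by
        have h3 : x * d⁻¹ * x⁻¹ ∈ Cfsg.pPrimeCore p G := hDn.conj_mem _ (Subgroup.inv_mem _ hd) x
        have h4 := Subgroup.mul_mem _ hd h3
        have e : d * (x * d⁻¹ * x⁻¹) = d * x * d⁻¹ * x⁻¹ := by group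
        rw [e] at h4; exact h4
      obtain ⟨j, hj⟩ := S.isPGroup' ⟨_, hwS⟩
      have hw1 := Cfsg.Agent.S1907.triv_aux _ hDc _ hwD j (congrArg Subtype.val hj)
      have h6 := congrArg (· * (x * d)) hw1
      simp only [one_mul] at h6
      rw [← h6]; group
  · rintro ⟨hPC, hctl⟩
    rw [eq_top_iff]
    intro g _
    obtain ⟨d, hd, hm⟩ := Cfsg.Agent.Helper10.frattini_pPrimePCore S g
    have hHS : (S : Subgroup G) ⊓ Cfsg.pPrimePCore p G ≤ (S : Subgroup G) := inf_le_left
    have hmap : ((S : Subgroup G) ⊓ Cfsg.pPrimePCore p G).map (MulAut.conj (d * g)).toMonoidHom ≤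
        (S : Subgroup G) := by
      rintro _ ⟨h, hh, rfl⟩
      exact hHS ((Subgroup.mem_normalizer_iff.1 hm h).1 hh)
    obtain ⟨n, hn, c, hc, hnc⟩ := hctl _ hHS (d * g) hmap
    have hHp : IsPGroup p ((S : Subgroup G) ⊓ Cfsg.pPrimePCore p G : Subgroup G) :=
      S.isPGroup'.to_le inf_le_left
    have hidx : ¬ p ∣ (((S : Subgroup G) ⊓ Cfsg.pPrimePCore p G).subgroupOf
        (Cfsg.pPrimePCore p G)).index :=
      Cfsg.Agent.Helper10.not_dvd_relIndex_pPrimePCore S
    have hP0 : Subgroup.centralizer (((((S : Subgroup G) ⊓ Cfsg.pPrimePCore p G).subgroupOf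
        (Cfsg.pPrimePCore p G)).map (Cfsg.pPrimePCore p G).subtype : Subgroup G) : Set G) ≤
        Cfsg.pPrimePCore p G := hPC (hHp.comap_subtype.toSylow hidx)
    rw [Subgroup.subgroupOf_map_subtype, inf_assoc, inf_idem] at hP0
    have hcK := hP0 hc
    have hcN : c ∈ Subgroup.normalizer ((S : Subgroup G) : Set G) ⊔ Cfsg.pPrimeCore p G := by
      have := Cfsg.Agent.Helper10.pPrimePCore_le_sup S hcK
      exact (sup_le_sup_right (le_trans inf_le_left Subgroup.le_normalizer) _) this
    have e : g = d⁻¹ * (n * c) := by rw [← hnc]; group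
    rw [e]
    exact Subgroup.mul_mem _ (le_sup_right (a := Subgroup.normalizer ((S : Subgroup G) : Set G))
      (Subgroup.inv_mem _ hd)) (Subgroup.mul_mem _ (le_sup_left (b := Cfsg.pPrimeCore p G) hn) hcN)

end Cfsg.Agent.S1948
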