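import Cfsg.Statements.S1953
import Mathlib
import Cfsg.Agent.Helper23.Cr1
import Cfsg.Agent.Helper23.Cr2
import Cfsg.Agent.S1978

set_option autoImplicit false
open Cfsg

namespace Cfsg.Agent.S1953

/-- Let p be an odd prime and P a Sylow p-subgroup of the finite group G, and suppose that for no p-subgroup Q of G does N_G(Q)/C_G(Q) have a section isomorphic to SL₂(p). Call a subgroup Q of P centric-radical when Z(Q) is a Sylow p-subgroup of C_G(Q) and the only normal subgroup X of N_G(Q) containing Q·C_G(Q) such that the index of Q·C_G(Q) in X is a power of p is Q·C_G(Q) itself (that is, N_G(Q)/Q·C_G(Q) has no nontrivial normal p-subgroup). Then there is a centric-radical subgroup Q of P contained in every centric-radical subgroup of P; it is normal in P, and N_G(Q) controls strong fusion in P: whenever a subgroup A of P has g A g⁻¹ ≤ P, the element g is a product h c with h in N_G(Q) and c centralizing A. -/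
theorem result {G : Type*} [Group G] [Finite G] {p : ℕ} [Fact p.Prime] (hp : p ≠ 2) (P : Sylow p G)
    (hfree : ∀ Q : Subgroup G, IsPGroup p ↥Q → ¬ ∃ (H K : Subgroup G) (_ : (K.subgroupOf H).Normal),
      Subgroup.centralizer (Q : Set G) ≤ K ∧ K ≤ H ∧ H ≤ Subgroup.normalizer (Q : Set G) ∧
      Nonempty ((↥H ⧸ K.subgroupOf H) ≃* Matrix.SpecialLinearGroup (Fin 2) (ZMod p)))
    (cr : Subgroup G → Prop)
    (hcr : ∀ Q : Subgroup G, cr Q ↔ (Q ≤ (P : Subgroup G) ∧
      (∃ R : Sylow p ↥(Subgroup.centralizer (Q : Set G)),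
        (R : Subgroup ↥(Subgroup.centralizer (Q : Set G))).map (Subgroup.centralizer (Q : Set G)).subtype = Q ⊓ Subgroup.centralizer (Q : Set G)) ∧
      ∀ X : Subgroup G, X ≤ Subgroup.normalizer (Q : Set G) →
        (∀ n ∈ Subgroup.normalizer (Q : Set G), X.map (MulAut.conj n).toMonoidHom = X) →
        Q ⊔ Subgroup.centralizer (Q : Set G) ≤ X → (∃ k : ℕ, (Q ⊔ Subgroup.centralizer (Q : Set G)).relIndex X = p ^ k) →
        X = Q ⊔ Subgroup.centralizer (Q : Set G))) :
    ∃ Q : Subgroup G, cr Q ∧ (∀ R : Subgroup G, cr R → Q ≤ R) ∧ (∀ x ∈ (P : Subgroup G), Q.map (MulAut.conj x).toMonoidHom = Q) ∧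
      ∀ A : Subgroup G, A ≤ (P : Subgroup G) → ∀ g : G, A.map (MulAut.conj g).toMonoidHom ≤ (P : Subgroup G) →
        ∃ h ∈ Subgroup.normalizer (Q : Set G), ∃ c ∈ Subgroup.centralizer (A : Set G), g = h * c := by
  classical
  have hst : ∀ (K R : Subgroup G) [hR : (R.subgroupOf K).Normal],
      Cfsg.IsNormalizerPStable p (↥K ⧸ R.subgroupOf K) :=
    fun K R _ => Cfsg.Agent.Helper23.Cr.nps_sections_of_hfree hp hfree K R
  have hW := Cfsg.Agent.Helper10.isCharPFunctor_kInfLower (p := p)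
  have hKP : Cfsg.inducedFunctor Cfsg.kInfLower (P : Subgroup G) ≤ (P : Subgroup G) :=
    Cfsg.Agent.Helper10.ind_le (fun (Q : Type _) [Group Q] => Cfsg.kInfLower Q) _
  have hPK : (P : Subgroup G) ≤ Subgroup.normalizer
      ((Cfsg.inducedFunctor Cfsg.kInfLower (P : Subgroup G) : Subgroup G) : Set G) :=
    Subgroup.le_normalizer.trans
      (Cfsg.Agent.Helper10.normalizer_le_normalizer_ind
        (fun (Q : Type _) [Group Q] => Cfsg.kInfLower Q) hW (P : Subgroup G) P.2)
  have hcenK : (P : Subgroup G) ⊓ Subgroup.centralizer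
      ((Cfsg.inducedFunctor Cfsg.kInfLower (P : Subgroup G) : Subgroup G) : Set G) ≤
      Cfsg.inducedFunctor Cfsg.kInfLower (P : Subgroup G) := by
    rintro x ⟨hxS, hxc⟩
    have hxc' : x ∈ Subgroup.centralizer
        ((Cfsg.inducedFunctor Cfsg.kInfLower (P : Subgroup G) : Subgroup G) : Set G) := hxc
    rw [Subgroup.mem_centralizer_iff] at hxc'
    have h1 : (⟨x, hxS⟩ : ↥(P : Subgroup G)) ∈
        Subgroup.centralizer (Cfsg.kInfLower ↥(P : Subgroup G) : Set ↥(P : Subgroup G)) := by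
      rw [Subgroup.mem_centralizer_iff]
      intro y hy
      apply Subtype.ext
      exact hxc' (y : G) ⟨y, hy, rfl⟩
    exact ⟨⟨x, hxS⟩, (Cfsg.Agent.S1978.result P.2).1 h1, rfl⟩
  have hctlK : Cfsg.Agent.Helper23.Cr.CtlS (P : Subgroup G)
      (Cfsg.inducedFunctor Cfsg.kInfLower (P : Subgroup G)) := by
    intro A hAP g hg
    obtain ⟨c, hc, e⟩ := Cfsg.Agent.Helper23.Cr.kinf_ctl hst P (A : Set G) g hAP (by
      rintro _ ⟨a, ha, rfl⟩
      exact hg ⟨a, ha, rfl⟩)
    refine ⟨c, hc, c⁻¹ * g, ?_, by group⟩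
    rw [Subgroup.mem_centralizer_iff]
    intro a ha
    have h1 := e a ha
    calc a * (c⁻¹ * g) = c⁻¹ * (c * a * c⁻¹) * g := by group
      _ = c⁻¹ * (g * a * g⁻¹) * g := by rw [h1]
      _ = c⁻¹ * g * a := by group
  obtain ⟨Q, hcrQ, hleast, hinv, hctl⟩ :=
    Cfsg.Agent.Helper23.Cr.exists_least_cr P _ hKP hPK hcenK hctlK
  exact ⟨Q, (hcr Q).2 hcrQ, fun R hR => hleast R ((hcr R).1 hR), hinv, hctl⟩

end Cfsg.Agent.S1953
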