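import Cfsg.Statements.S2064
import Cfsg.Agent.S0374
import Cfsg.Agent.Helper28.OutM24

set_option autoImplicit false
open Cfsg

namespace Cfsg.Agent.S2064

open Cfsg.Agent.Helper28.Golay

theorem hgen : Subgroup.closure {permOf shT, permOf pjT, permOf twT} = M24 := by
  have e0 : Equiv.optionCongr (Equiv.addRight (1 : ZMod 23)) = permOf shT :=
    eq_permOf_of_table _ shT sh_perm Cfsg.Agent.S0374.h0
  have e1 : projInv = permOf pjT := eq_permOf_of_table _ pjT pj_perm Cfsg.Agent.S0374.h1
  have e2 : cubeTwist = permOf twT := eq_permOf_of_table _ twT tw_perm Cfsg.Agent.S0374.h2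
  rw [← e0, ← e1, ← e2]
  exact Cfsg.Agent.S0374.result

/-- The outer automorphism group of the Mathieu group M₂₄ (the automorphism group of the length-24 binary code) is trivial: every automorphism is inner. -/
theorem result : Nat.card (Cfsg.Out ↥Cfsg.M24) = 1 := by
  have h : Inn ↥M24 = ⊤ := by
    rw [eq_top_iff]
    intro α _
    exact aut_inner hgen α
  exact Subgroup.index_eq_one.2 h

end Cfsg.Agent.S2064
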