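import Cfsg.Statements.S2271
import Cfsg.Agent.Helper2.ClsProd

set_option autoImplicit false
open Cfsg

namespace Cfsg.Agent.S2271

/-- Let n ≥ 5 and let a, b be non-identity permutations in the symmetric group S_n. Then the number of fixed points is not constant on the set of products a′b′ with a′ conjugate to a and b′ conjugate to b under the alternating group: there are even permutations g₁, h₁, g₂, h₂ such that (g₁ a g₁⁻¹)(h₁ b h₁⁻¹) and (g₂ a g₂⁻¹)(h₂ b h₂⁻¹) have different numbers of fixed points. -/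
theorem result (n : ℕ) (hn : 5 ≤ n) (a b : Equiv.Perm (Fin n)) (ha : a ≠ 1) (hb : b ≠ 1) :
    ∃ g₁ h₁ g₂ h₂ : Equiv.Perm (Fin n), g₁ ∈ alternatingGroup (Fin n) ∧ h₁ ∈ alternatingGroup (Fin n) ∧ g₂ ∈ alternatingGroup (Fin n) ∧ h₂ ∈ alternatingGroup (Fin n) ∧
      Nat.card (Function.fixedPoints ⇑(g₁ * a * g₁⁻¹ * (h₁ * b * h₁⁻¹))) ≠
        Nat.card (Function.fixedPoints ⇑(g₂ * a * g₂⁻¹ * (h₂ * b * h₂⁻¹))) := by
  by_cases h4 : ∃ u, b u ≠ u ∧ b (b u) ≠ u ∧ b (b (b u)) ≠ u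
  · obtain ⟨u, h1, h2, h3⟩ := h4
    obtain ⟨σ1, σ2, m1, m2, hne⟩ := Helper2.ClsProd.wrap_three hn a b ha u h1 h2 h3
    refine ⟨1, σ1, 1, σ2, one_mem _, m1, one_mem _, m2, ?_⟩
    rw [one_mul, inv_one, mul_one]
    exact hne
  · have hno4 : ∀ u, b u = u ∨ b (b u) = u ∨ b (b (b u)) = u := by
      intro u
      by_contra hcon
      exact h4 ⟨u, fun e => hcon (Or.inl e), fun e => hcon (Or.inr (Or.inl e)),
        fun e => hcon (Or.inr (Or.inr e))⟩
    obtain ⟨ρ, hρ, hc⟩ := Helper2.ClsProd.exists_odd_comm hn b hb hno4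
    obtain ⟨σ1, σ2, m1, m2, hne⟩ := Helper2.ClsProd.wrap_swap hn a b ρ ha hb hρ hc
    refine ⟨1, σ1, 1, σ2, one_mem _, m1, one_mem _, m2, ?_⟩
    rw [one_mul, inv_one, mul_one]
    exact hne

end Cfsg.Agent.S2271
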