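import Cfsg.Statements.S2277
import Mathlib
import Cfsg.Agent.Helper1.CoprimeGen

set_option autoImplicit false

open Cfsg

namespace Cfsg.Agent.S2277

open Cfsg.Agent.Helper1.CoprimeGen

theorem mem_sup_of_normalizes' {G : Type*} [Group G] (A N : Subgroup G)
    (h : ∀ a ∈ A, ∀ n ∈ N, a * n * a⁻¹ ∈ N) : ∀ g ∈ N ⊔ A, ∃ n ∈ N, ∃ a ∈ A, g = n * a := by
  intro g hg
  rw [Subgroup.sup_eq_closure] at hg
  induction hg using Subgroup.closure_induction with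
  | mem x hx =>
    rcases hx with hx | hx
    · exact ⟨x, hx, 1, one_mem _, by simp⟩
    · exact ⟨1, one_mem _, x, hx, by simp⟩
  | one => exact ⟨1, one_mem _, 1, one_mem _, by simp⟩
  | mul x y _ _ hx hy =>
    obtain ⟨n₁, hn₁, a₁, ha₁, rfl⟩ := hx
    obtain ⟨n₂, hn₂, a₂, ha₂, rfl⟩ := hy
    exact ⟨n₁ * (a₁ * n₂ * a₁⁻¹), mul_mem hn₁ (h a₁ ha₁ n₂ hn₂), a₁ * a₂, mul_mem ha₁ ha₂, by group⟩
  | inv x _ hx =>
    obtain ⟨n, hn, a, ha, rfl⟩ := hx
    exact ⟨a⁻¹ * n⁻¹ * a⁻¹⁻¹, h a⁻¹ (inv_mem ha) n⁻¹ (inv_mem hn), a⁻¹, inv_mem ha, by group⟩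

/-- a `p`-subgroup of `K P` (`P` Sylow normalizing `K`) is conjugate into `P` by an element of
`K`. -/
theorem conj_into_sylow {G : Type*} [Group G] [Finite G] (p : ℕ) [Fact p.Prime] (P : Sylow p G)
    (K : Subgroup G) (hK : ∀ g ∈ (P : Subgroup G), ∀ k ∈ K, g * k * g⁻¹ ∈ K)
    (H : Subgroup G) (hH : IsPGroup p H) (hHL : H ≤ K ⊔ (P : Subgroup G)) :
    ∃ y ∈ K, ∀ h ∈ H, y * h * y⁻¹ ∈ (P : Subgroup G) := by
  have hPL : (P : Subgroup G) ≤ K ⊔ (P : Subgroup G) := le_sup_right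
  have hH' : IsPGroup p (H.subgroupOf (K ⊔ (P : Subgroup G))) := hH.comap_subtype
  obtain ⟨Q, hQ⟩ := hH'.exists_le_sylow
  obtain ⟨g, hg⟩ := MulAction.exists_smul_eq (↥(K ⊔ (P : Subgroup G))) Q (P.subtype hPL)
  obtain ⟨n, hn, a, ha, hgna⟩ :=
    mem_sup_of_normalizes' (P : Subgroup G) K hK (g : G)⁻¹ (inv_mem g.2)
  refine ⟨n⁻¹, inv_mem hn, fun h hh => ?_⟩
  have h1 : (⟨h, hHL hh⟩ : ↥(K ⊔ (P : Subgroup G))) ∈ (Q : Subgroup _) :=
    hQ (Subgroup.mem_subgroupOf.2 hh)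
  have h2 : g * ⟨h, hHL hh⟩ * g⁻¹ ∈ ((g • Q : Sylow p _) : Subgroup _) :=
    Subgroup.smul_mem_pointwise_smul _ (MulAut.conj g) _ h1
  rw [hg, Sylow.coe_subtype, Subgroup.mem_subgroupOf] at h2
  have h3 : (g : G) * h * (g : G)⁻¹ ∈ (P : Subgroup G) := h2
  have hg' : (g : G) = a⁻¹ * n⁻¹ := by
    have : (g : G) = ((g : G)⁻¹)⁻¹ := by simp
    rw [this, hgna]; group
  rw [hg'] at h3
  have h4 : n⁻¹ * h * n⁻¹⁻¹ = a * (a⁻¹ * n⁻¹ * h * (a⁻¹ * n⁻¹)⁻¹) * a⁻¹ := by group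
  rw [h4]
  exact mul_mem (mul_mem ha h3) (inv_mem ha)

theorem comm_of_conj_mem {G : Type*} [Group G] (N P : Subgroup G) [N.Normal] (hNP : N ⊓ P = ⊥)
    (w g : G) (hw : w ∈ N) (hg : g ∈ P) (h : w * g * w⁻¹ ∈ P) : g * w * g⁻¹ = w := by
  have h1 : w * g * w⁻¹ * g⁻¹ ∈ P := mul_mem h (inv_mem hg)
  have h2 : w * g * w⁻¹ * g⁻¹ ∈ N := by
    have : w * g * w⁻¹ * g⁻¹ = w * (g * w⁻¹ * g⁻¹) := by group
    rw [this]; exact mul_mem hw (Subgroup.Normal.conj_mem inferInstance _ (inv_mem hw) g)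
  have h3 : w * g * w⁻¹ * g⁻¹ ∈ N ⊓ P := ⟨h2, h1⟩
  rw [hNP, Subgroup.mem_bot] at h3
  have : g * w * g⁻¹ = (w * g * w⁻¹ * g⁻¹)⁻¹ * w := by group
  rw [this, h3]; simp

theorem closure_preimage_top {G : Type*} [Group G] (H : Subgroup G) (C : Set G)
    (h : Subgroup.closure C = H) : Subgroup.closure (H.subtype ⁻¹' C) = ⊤ := by
  subst h; exact Subgroup.closure_closure_coe_preimage

/-- Let p ≥ 3 be prime and G a finite group with a Sylow p-subgroup P and a normal p-complement N (N normal, of order prime to p, with NP = G). Suppose P is generated by a subset C and also by a subset D, and that ⟨x c x⁻¹, d⟩ is a p-group for all x ∈ N, c ∈ C, d ∈ D. Then P centralizes N, so that G = N × P. -/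
theorem result {G : Type*} [Group G] [Finite G] (p : ℕ) [Fact p.Prime] (hp3 : 3 ≤ p) (P : Sylow p G)
    (N : Subgroup G) [N.Normal] (hN : (Nat.card N).Coprime p) (hNP : N ⊔ (P : Subgroup G) = ⊤)
    (C D : Set G) (hC : Subgroup.closure C = (P : Subgroup G)) (hD : Subgroup.closure D = (P : Subgroup G))
    (h : ∀ x ∈ N, ∀ c ∈ C, ∀ d ∈ D, IsPGroup p ↥(Subgroup.closure ({x * c * x⁻¹, d} : Set G))) :
    ⁅(P : Subgroup G), N⁆ = ⊥ := by
  rw [Subgroup.commutator_eq_bot_iff_le_centralizer]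
  obtain ⟨φ, hφ⟩ : ∃ φ : (P : Subgroup G) →* MulAut N,
      ∀ (g : (P : Subgroup G)) (v : N), ((φ g v : N) : G) = g * v * (g : G)⁻¹ :=
    ⟨(MulAut.conjNormal (H := N)).comp (P : Subgroup G).subtype, fun g v => rfl⟩
  have hC' := closure_preimage_top _ C hC
  have hD' := closure_preimage_top _ D hD
  have hNP0 : N ⊓ (P : Subgroup G) = ⊥ :=
    Subgroup.inf_eq_bot_of_coprime (by
      rw [P.card_eq_multiplicity]; exact Nat.Coprime.pow_right _ hN)
  have hyp : Hyp φ ((P : Subgroup G).subtype ⁻¹' C) ((P : Subgroup G).subtype ⁻¹' D) := by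
    intro W hW c hc d hd v hv
    have key : ∀ v ∈ W, ∃ y ∈ W, φ d y = y ∧ φ c (y * v) = y * v := by
      intro v hv
      have hK : ∀ g ∈ (P : Subgroup G), ∀ k ∈ W.map N.subtype, g * k * g⁻¹ ∈ W.map N.subtype := by
        rintro g hg _ ⟨w, hw, rfl⟩
        exact ⟨φ ⟨g, hg⟩ w, hW ⟨g, hg⟩ w hw, hφ ⟨g, hg⟩ w⟩
      have hH := h (v : G) v.2 (c : G) hc (d : G) hd
      have hHL : Subgroup.closure ({(v : G) * c * (v : G)⁻¹, (d : G)} : Set G)
          ≤ W.map N.subtype ⊔ (P : Subgroup G) := by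
        rw [Subgroup.closure_le]
        rintro x (rfl | rfl)
        · have hvK : (v : G) ∈ W.map N.subtype ⊔ (P : Subgroup G) :=
            Subgroup.mem_sup_left ⟨v, hv, rfl⟩
          exact mul_mem (mul_mem hvK (Subgroup.mem_sup_right c.2)) (inv_mem hvK)
        · exact Subgroup.mem_sup_right d.2
      obtain ⟨y, hyK, hy⟩ := conj_into_sylow p P (W.map N.subtype) hK _ hH hHL
      obtain ⟨y', hy', rfl⟩ := hyK
      refine ⟨y', hy', ?_, ?_⟩
      · apply Subtype.ext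
        rw [hφ]
        exact comm_of_conj_mem N (P : Subgroup G) hNP0 _ _ y'.2 d.2
          (hy _ (Subgroup.subset_closure (by simp)))
      · apply Subtype.ext
        rw [hφ]
        have h1 := hy _ (Subgroup.subset_closure
          (show (v : G) * c * (v : G)⁻¹ ∈ ({(v : G) * c * (v : G)⁻¹, (d : G)} : Set G) by simp))
        have h2 : ((y' * v : N) : G) * c * ((y' * v : N) : G)⁻¹
            = N.subtype y' * ((v : G) * c * (v : G)⁻¹) * (N.subtype y')⁻¹ := by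
          simp only [Subgroup.coe_mul, Subgroup.coe_subtype]; group
        exact comm_of_conj_mem N (P : Subgroup G) hNP0 _ _ (y' * v).2 c.2 (by rw [h2]; exact h1)
    obtain ⟨y, hy, hy1, hy2⟩ := key v⁻¹ (inv_mem hv)
    refine ⟨(y * v⁻¹)⁻¹, inv_mem (mul_mem hy (inv_mem hv)), y, hy, by group, ?_, hy1⟩
    rw [map_inv, hy2]
  have hmain := main p hp3 P.isPGroup' _ _ hC' hD' (Nat.card N) N φ rfl hN hyp
  intro g hg
  rw [Subgroup.mem_centralizer_iff]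
  intro n hn
  have h1 := hmain ⟨g, hg⟩ ⟨n, hn⟩
  have h2 : g * n * g⁻¹ = n := by
    have := congrArg Subtype.val h1
    rw [hφ] at this
    exact this
  calc n * g = (g * n * g⁻¹) * g := by rw [h2]
    _ = g * n := by group

end Cfsg.Agent.S2277
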