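import Cfsg.Statements.S2364
import Mathlib
import Cfsg.Agent.S2904
import Cfsg.Agent.S5947
import Cfsg.Agent.Helper2.SLCard

set_option autoImplicit false
open Cfsg

namespace Cfsg.Agent.S2364

theorem dvd_card_SL {F : Type*} [Field F] [Fintype F] (m : ℕ) (hm : 2 ≤ m) (s : ℕ) (hs : s.Prime)
    (h : s ∣ Fintype.card F ∨ (∃ d, 1 ≤ d ∧ d ≤ m ∧ s ∣ Fintype.card F ^ d - 1)) :
    s ∣ Nat.card (Matrix.SpecialLinearGroup (Fin m) F) := by
  obtain ⟨q, hq⟩ : ∃ q, q = Fintype.card F := ⟨_, rfl⟩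
  have hq2 : 2 ≤ q := by rw [hq]; exact Fintype.one_lt_card
  have hcard : Nat.card (Matrix.SpecialLinearGroup (Fin m) F) * (q - 1)
      = ∏ i : Fin m, (q ^ m - q ^ (i : ℕ)) := by
    rw [hq, Cfsg.Agent.Helper2.SLCard.card_SL_mul F m (by omega), Matrix.card_GL_field]
  rw [← hq] at h
  obtain ⟨S, hS⟩ : ∃ S, S = Nat.card (Matrix.SpecialLinearGroup (Fin m) F) := ⟨_, rfl⟩
  rw [← hS] at hcard ⊢
  have hfac : ∀ i : Fin m, (q ^ m - q ^ (i : ℕ)) ∣ S * (q - 1) := fun i => by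
    rw [hcard]; exact Finset.dvd_prod_of_mem _ (Finset.mem_univ i)
  have hsplit : ∀ j, j ≤ m → q ^ m - q ^ (m - j) = q ^ (m - j) * (q ^ j - 1) := by
    intro j hj
    rw [Nat.mul_sub, mul_one, ← pow_add, Nat.sub_add_cancel hj]
  have key : ¬ s ∣ q - 1 → ∀ j, 1 ≤ j → j ≤ m → s ∣ q ^ j - 1 → s ∣ S := by
    intro hsq j hj1 hjm hdvd
    have h1 := hfac ⟨m - j, by omega⟩
    simp only at h1
    rw [hsplit j hjm] at h1
    have h2 : s ∣ S * (q - 1) := (hdvd.trans (dvd_mul_left _ _)).trans h1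
    rcases (Nat.Prime.dvd_mul hs).mp h2 with h3 | h3
    · exact h3
    · exact absurd h3 hsq
  rcases h with h | ⟨d, hd1, hdm, hdvd⟩
  · have hsq : ¬ s ∣ q - 1 := by
      intro h'
      have : s ∣ 1 := by
        have h3 := Nat.dvd_sub h h'
        rwa [Nat.sub_sub_self (by omega)] at h3
      exact hs.one_lt.ne' (Nat.dvd_one.mp this)
    have h1 := hfac ⟨1, by omega⟩
    simp only at h1
    have h2 : s ∣ q ^ m - q ^ 1 := by
      have : q ^ m - q ^ 1 = q * (q ^ (m - 1) - 1) := by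
        rw [Nat.mul_sub, mul_one, pow_one, ← pow_succ', Nat.sub_add_cancel (by omega)]
      rw [this]; exact h.trans (dvd_mul_right _ _)
    have h3 := h2.trans h1
    rcases (Nat.Prime.dvd_mul hs).mp h3 with h4 | h4
    · exact h4
    · exact absurd h4 hsq
  · by_cases hsq : s ∣ q - 1
    · have hp : (q ^ m - q ^ (m - 1)) * (q ^ m - q ^ (m - 2)) ∣ S * (q - 1) := by
        rw [hcard]
        have hne : (⟨m - 1, by omega⟩ : Fin m) ≠ ⟨m - 2, by omega⟩ := by
          intro h'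
          have := congrArg Fin.val h'
          simp only at this
          omega
        have := Finset.prod_dvd_prod_of_subset
          ({⟨m - 1, by omega⟩, ⟨m - 2, by omega⟩} : Finset (Fin m)) Finset.univ
          (fun i : Fin m => q ^ m - q ^ (i : ℕ)) (Finset.subset_univ _)
        rwa [Finset.prod_pair hne] at this
      rw [hsplit 1 (by omega), hsplit 2 (by omega), pow_one] at hp
      have hp2 : (q ^ 2 - 1) * (q - 1) ∣ S * (q - 1) := by
        refine Dvd.dvd.trans ?_ hp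
        exact ⟨q ^ (m - 1) * q ^ (m - 2), by ring⟩
      have hp3 : q ^ 2 - 1 ∣ S := Nat.dvd_of_mul_dvd_mul_right (by omega) hp2
      have hq1 : q - 1 ∣ q ^ 2 - 1 := Nat.sub_one_dvd_pow_sub_one q 2
      exact (hsq.trans hq1).trans hp3
    · exact key hsq d hd1 hdm hdvd

theorem lin {F V : Type*} [Field F] [Fintype F] [AddCommGroup V] [Module F V] [Finite V]
    (s : ℕ) [Fact s.Prime] (hsq : ¬ s ∣ Fintype.card F) (n : ℕ) (hn : 4 ≤ n)
    (hdim : Module.finrank F V = n)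
    (hd : n - 1 ≤ orderOf ((Fintype.card F : ℕ) : ZMod s))
    (X Nl : Module.End F V) (hXs : X ^ s = 1) (hX1 : X ≠ 1) (hN0 : Nl ≠ 0) (j : ℕ)
    (hNj : Nl ^ j = 0) (hcomm : X * Nl = Nl * X) : False := by
  classical
  obtain ⟨d, hdd⟩ : ∃ d, d = orderOf ((Fintype.card F : ℕ) : ZMod s) := ⟨_, rfl⟩
  rw [← hdd] at hd
  obtain ⟨E, hE⟩ : ∃ E : Submodule F V, E = LinearMap.ker (X - 1) := ⟨_, rfl⟩
  have hq0 : ((Fintype.card F : ℕ) : ZMod s) ≠ 0 := by
    rw [Ne, ZMod.natCast_eq_zero_iff]; exact hsq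
  have key : ∀ W : Submodule F V, (∀ w ∈ W, X w ∈ W) →
      d ∣ Module.finrank F W - Module.finrank F ↥(W ⊓ E) := by
    intro W hW
    have h := S5947.fix_count s X hXs W hW
    rw [S5947.card_sub, S5947.card_sub, ← hE] at h
    have hle : Module.finrank F ↥(W ⊓ E) ≤ Module.finrank F W :=
      Submodule.finrank_mono inf_le_left
    have h2 : ((Fintype.card F : ℕ) : ZMod s) ^ Module.finrank F W
        = ((Fintype.card F : ℕ) : ZMod s) ^ Module.finrank F ↥(W ⊓ E) := by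
      have := (ZMod.natCast_eq_natCast_iff _ _ _).mpr h
      push_cast at this
      exact this
    have h3 : ((Fintype.card F : ℕ) : ZMod s)
        ^ (Module.finrank F W - Module.finrank F ↥(W ⊓ E)) = 1 := by
      have h4 : ((Fintype.card F : ℕ) : ZMod s) ^ Module.finrank F ↥(W ⊓ E)
          * ((Fintype.card F : ℕ) : ZMod s) ^ (Module.finrank F W - Module.finrank F ↥(W ⊓ E))
          = ((Fintype.card F : ℕ) : ZMod s) ^ Module.finrank F ↥(W ⊓ E) * 1 := by
        rw [← pow_add, Nat.add_sub_cancel' hle, mul_one, h2]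
      exact mul_left_cancel₀ (pow_ne_zero _ hq0) h4
    rw [hdd]
    exact orderOf_dvd_of_pow_eq_one h3
  have hEtop : E ≠ ⊤ := by
    intro h
    apply hX1
    apply LinearMap.ext
    intro v
    have : v ∈ E := by rw [h]; exact Submodule.mem_top
    rw [hE, LinearMap.mem_ker, LinearMap.sub_apply, sub_eq_zero] at this
    exact this
  have hc0lt : Module.finrank F E < n := hdim ▸ Submodule.finrank_lt hEtop
  have h1 := key ⊤ (fun _ _ => Submodule.mem_top)
  rw [top_inf_eq, finrank_top, hdim] at h1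
  have hc0 : Module.finrank F E ≤ 1 := by
    have := Nat.le_of_dvd (by omega) h1
    omega
  have hex : ∃ j, Nl ^ (j + 1) = 0 := ⟨j, by rw [pow_succ, hNj, zero_mul]⟩
  obtain ⟨j₀, hj₀, hj₀'⟩ : ∃ j₀, Nl ^ (j₀ + 1) = 0 ∧ Nl ^ j₀ ≠ 0 := by
    refine ⟨Nat.find hex, Nat.find_spec hex, ?_⟩
    intro h
    rcases Nat.eq_zero_or_pos (Nat.find hex) with h0 | hpos
    · have := Nat.find_spec hex
      rw [h0, zero_add, pow_one] at this
      exact hN0 this
    · have := Nat.find_min hex (m := Nat.find hex - 1) (by omega)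
      apply this
      rw [Nat.sub_add_cancel hpos]; exact h
  have hj₀pos : 0 < j₀ := by
    rcases Nat.eq_zero_or_pos j₀ with h0 | h
    · rw [h0, zero_add, pow_one] at hj₀; exact absurd hj₀ hN0
    · exact h
  obtain ⟨v, hv⟩ : ∃ v, (Nl ^ j₀) v ≠ 0 := by
    by_contra hcon
    push_neg at hcon
    exact hj₀' (LinearMap.ext hcon)
  obtain ⟨w, hw⟩ : ∃ w, w = (Nl ^ j₀) v := ⟨_, rfl⟩
  have hwI : w ∈ LinearMap.range Nl := by
    obtain ⟨i, rfl⟩ : ∃ i, j₀ = i + 1 := ⟨j₀ - 1, by omega⟩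
    refine ⟨(Nl ^ i) v, ?_⟩
    rw [hw, pow_succ']; rfl
  have hwK : w ∈ LinearMap.ker Nl := by
    rw [LinearMap.mem_ker, hw]
    have : Nl ((Nl ^ j₀) v) = (Nl ^ (j₀ + 1)) v := by rw [pow_succ']; rfl
    rw [this, hj₀]; rfl
  have hw0 : w ≠ 0 := by rw [hw]; exact hv
  have hXN : ∀ v, X (Nl v) = Nl (X v) := fun v => congrArg (fun f : Module.End F V => f v) hcomm
  have hKinv : ∀ u ∈ LinearMap.ker Nl, X u ∈ LinearMap.ker Nl := by
    intro u hu
    rw [LinearMap.mem_ker] at hu ⊢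
    rw [← hXN, hu, map_zero]
  have hIinv : ∀ u ∈ LinearMap.range Nl, X u ∈ LinearMap.range Nl := by
    rintro u ⟨u', rfl⟩
    exact ⟨X u', (hXN u').symm⟩
  have h2 := key _ hKinv
  have h3 := key _ hIinv
  have hsum := LinearMap.finrank_range_add_finrank_ker Nl
  rw [hdim] at hsum
  have hKpos : 0 < Module.finrank F (LinearMap.ker Nl) := by
    rw [Module.finrank_pos_iff_exists_ne_zero]
    exact ⟨⟨w, hwK⟩, fun h => hw0 (congrArg Subtype.val h)⟩
  have hIpos : 0 < Module.finrank F (LinearMap.range Nl) := by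
    rw [Module.finrank_pos_iff_exists_ne_zero]
    exact ⟨⟨w, hwI⟩, fun h => hw0 (congrArg Subtype.val h)⟩
  have hc1 : Module.finrank F ↥(LinearMap.ker Nl ⊓ E) ≤ Module.finrank F E :=
    Submodule.finrank_mono inf_le_right
  have hc2 : Module.finrank F ↥(LinearMap.range Nl ⊓ E) ≤ Module.finrank F E :=
    Submodule.finrank_mono inf_le_right
  have hc1' : Module.finrank F ↥(LinearMap.ker Nl ⊓ E) ≤ Module.finrank F (LinearMap.ker Nl) :=
    Submodule.finrank_mono inf_le_left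
  have hc2' : Module.finrank F ↥(LinearMap.range Nl ⊓ E)
      ≤ Module.finrank F (LinearMap.range Nl) := Submodule.finrank_mono inf_le_left
  obtain ⟨k, hk⟩ : ∃ k, k = Module.finrank F (LinearMap.ker Nl) := ⟨_, rfl⟩
  obtain ⟨i, hi⟩ : ∃ i, i = Module.finrank F (LinearMap.range Nl) := ⟨_, rfl⟩
  obtain ⟨c₁, hc₁⟩ : ∃ c, c = Module.finrank F ↥(LinearMap.ker Nl ⊓ E) := ⟨_, rfl⟩
  obtain ⟨c₂, hc₂⟩ : ∃ c, c = Module.finrank F ↥(LinearMap.range Nl ⊓ E) := ⟨_, rfl⟩
  rw [← hk, ← hc₁] at h2 hc1'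
  rw [← hc₁] at hc1
  rw [← hi, ← hc₂] at h3 hc2'
  rw [← hc₂] at hc2
  rw [← hk, ← hi] at hsum
  rw [← hk] at hKpos
  rw [← hi] at hIpos
  have hA : k - c₁ = 0 ∨ k - c₁ = d := by
    rcases Nat.eq_zero_or_pos (k - c₁) with h | h
    · exact Or.inl h
    · right
      have := Nat.le_of_dvd h h2
      omega
  have hB : i - c₂ = 0 ∨ i - c₂ = d := by
    rcases Nat.eq_zero_or_pos (i - c₂) with h | h
    · exact Or.inl h
    · right
      have := Nat.le_of_dvd h h3
      omega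
  have hcases : (k = c₁ ∧ c₂ = 0) ∨ (i = c₂ ∧ c₁ = 0) := by omega
  rcases hcases with ⟨h4, h5⟩ | ⟨h4, h5⟩
  · have hKE : LinearMap.ker Nl ⊓ E = LinearMap.ker Nl :=
      Submodule.eq_of_le_of_finrank_eq inf_le_left (by rw [← hc₁, ← hk, h4])
    have hIE : LinearMap.range Nl ⊓ E = ⊥ := Submodule.finrank_eq_zero.mp (by rw [← hc₂, h5])
    have hwE : w ∈ E := by
      have : w ∈ LinearMap.ker Nl ⊓ E := by rw [hKE]; exact hwK
      exact (Submodule.mem_inf.mp this).2
    have : w ∈ LinearMap.range Nl ⊓ E := Submodule.mem_inf.mpr ⟨hwI, hwE⟩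
    rw [hIE] at this
    exact hw0 ((Submodule.mem_bot F).mp this)
  · have hIE : LinearMap.range Nl ⊓ E = LinearMap.range Nl :=
      Submodule.eq_of_le_of_finrank_eq inf_le_left (by rw [← hc₂, ← hi, h4])
    have hKE : LinearMap.ker Nl ⊓ E = ⊥ := Submodule.finrank_eq_zero.mp (by rw [← hc₁, h5])
    have hwE : w ∈ E := by
      have : w ∈ LinearMap.range Nl ⊓ E := by rw [hIE]; exact hwI
      exact (Submodule.mem_inf.mp this).2
    have : w ∈ LinearMap.ker Nl ⊓ E := Submodule.mem_inf.mpr ⟨hwK, hwE⟩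
    rw [hKE] at this
    exact hw0 ((Submodule.mem_bot F).mp this)

theorem core {F : Type*} [Field F] [Fintype F] (p : ℕ) [Fact p.Prime] [CharP F p] (n : ℕ)
    (hn : 4 ≤ n) (s : ℕ) [Fact s.Prime] (hsp : s ≠ p)
    (hd : n - 1 ≤ orderOf ((Fintype.card F : ℕ) : ZMod s))
    (A B : Matrix (Fin n) (Fin n) F) (lam nu zeta : F) (hlam : lam ≠ 0) (hnu : nu ≠ 0)
    (hA : A ^ p = lam • (1 : Matrix (Fin n) (Fin n) F))
    (hAs : ∀ c : F, A ≠ c • (1 : Matrix (Fin n) (Fin n) F))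
    (hB : B ^ s = nu • (1 : Matrix (Fin n) (Fin n) F))
    (hBs : ∀ c : F, B ≠ c • (1 : Matrix (Fin n) (Fin n) F))
    (hAB : A * B = zeta • (B * A)) : False := by
  classical
  haveI : NeZero n := ⟨by omega⟩
  have hpp : p.Prime := Fact.out
  have hsp' : s.Prime := Fact.out
  obtain ⟨f, -, hq⟩ := FiniteField.card F p
  have hsq : ¬ s ∣ Fintype.card F := by
    rw [hq]
    intro h
    exact hsp ((Nat.prime_dvd_prime_iff_eq hsp' hpp).mp (hsp'.dvd_of_dvd_pow h))
  obtain ⟨mu, hmu⟩ : ∃ mu : F, mu ^ p = lam := by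
    refine ⟨lam ^ (p ^ ((f : ℕ) - 1)), ?_⟩
    rw [← pow_mul, ← pow_succ, Nat.sub_add_cancel f.pos, ← hq, FiniteField.pow_card]
  have hmu0 : mu ≠ 0 := by
    rintro rfl
    rw [zero_pow hpp.ne_zero] at hmu
    exact hlam hmu.symm
  obtain ⟨u, hu⟩ : ∃ u : Matrix (Fin n) (Fin n) F, u = mu⁻¹ • A := ⟨_, rfl⟩
  have hup : u ^ p = 1 := by
    rw [hu, smul_pow, hA, smul_smul, inv_pow, hmu, inv_mul_cancel₀ hlam, one_smul]
  obtain ⟨N, hN⟩ : ∃ N : Matrix (Fin n) (Fin n) F, N = u - 1 := ⟨_, rfl⟩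
  have hNp : N ^ p = 0 := by
    rw [hN, sub_pow_char_of_commute p (Commute.one_right u), hup, one_pow, sub_self]
  have hN0 : N ≠ 0 := by
    intro h
    have h1 : u = 1 := by rw [hN] at h; exact sub_eq_zero.mp h
    apply hAs mu
    rw [hu] at h1
    have : A = mu • (mu⁻¹ • A) := by rw [smul_smul, mul_inv_cancel₀ hmu0, one_smul]
    rw [this, h1]
  have hs1 : ¬ s ∣ Fintype.card F - 1 := by
    intro h
    have h1 : ((Fintype.card F : ℕ) : ZMod s) = 1 := by
      have h2 : (((Fintype.card F - 1 : ℕ)) : ZMod s) = 0 := (ZMod.natCast_eq_zero_iff _ _).mpr h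
      rw [Nat.cast_sub (Nat.succ_le_of_lt Fintype.card_pos), Nat.cast_one, sub_eq_zero] at h2
      exact h2
    rw [h1, orderOf_one] at hd
    omega
  have hcop : (Nat.card Fˣ).Coprime s := by
    rw [Nat.card_units, Nat.card_eq_fintype_card, Nat.coprime_comm]
    exact (Nat.Prime.coprime_iff_not_dvd hsp').mpr hs1
  obtain ⟨rho, hrho⟩ : ∃ rho : Fˣ, rho ^ s = Units.mk0 nu hnu :=
    ⟨(powCoprime hcop).symm (Units.mk0 nu hnu), by
      have := (powCoprime hcop).apply_symm_apply (Units.mk0 nu hnu)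
      simpa using this⟩
  have hrho' : (rho : F) ^ s = nu := by
    have := congrArg (fun x : Fˣ => (x : F)) hrho
    simpa using this
  obtain ⟨B', hB'⟩ : ∃ B' : Matrix (Fin n) (Fin n) F, B' = (rho : F)⁻¹ • B := ⟨_, rfl⟩
  have hB's : B' ^ s = 1 := by
    rw [hB', smul_pow, hB, smul_smul, inv_pow, hrho', inv_mul_cancel₀ hnu, one_smul]
  have hB'1 : B' ≠ 1 := by
    intro h
    apply hBs (rho : F)
    have : B = (rho : F) • ((rho : F)⁻¹ • B) := by
      rw [smul_smul, mul_inv_cancel₀ rho.ne_zero, one_smul]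
    rw [this, ← hB', h]
  have hB'0 : B' ≠ 0 := by
    intro h
    rw [h, zero_pow hsp'.ne_zero] at hB's
    exact zero_ne_one hB's
  have hcz : u * B' = zeta • (B' * u) := by
    rw [hu, hB', smul_mul_smul_comm, smul_mul_smul_comm, hAB, smul_smul, smul_smul]
    congr 1
    ring
  have hpowk : ∀ k : ℕ, u ^ k * B' = zeta ^ k • (B' * u ^ k) := by
    intro k
    induction k with
    | zero => simp
    | succ k ih =>
      rw [pow_succ u, mul_assoc, hcz, mul_smul_comm, ← mul_assoc, ih, smul_mul_assoc, smul_smul,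
        mul_assoc, pow_succ zeta, mul_comm (zeta ^ k) zeta]
  have hz : zeta ^ p = 1 := by
    have h1 := hpowk p
    rw [hup, one_mul, mul_one] at h1
    by_contra hne
    have h2 : (1 - zeta ^ p) • B' = 0 := by rw [sub_smul, one_smul, ← h1, sub_self]
    rcases smul_eq_zero.mp h2 with h3 | h3
    · exact hne (sub_eq_zero.mp h3).symm
    · exact hB'0 h3
  have hz1 : zeta = 1 := by
    have h1 : (zeta - 1) ^ p = 0 := by rw [sub_pow_char, hz, one_pow, sub_self]
    exact sub_eq_zero.mp ((pow_eq_zero_iff hpp.ne_zero).mp h1)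
  rw [hz1, one_smul] at hcz
  have hNB : B' * N = N * B' := by rw [hN, mul_sub, sub_mul, mul_one, one_mul, hcz]
  obtain ⟨φ, hφ⟩ : ∃ φ : Matrix (Fin n) (Fin n) F ≃ₐ[F] Module.End F (Fin n → F),
      φ = Matrix.toLinAlgEquiv' := ⟨_, rfl⟩
  refine lin s hsq n hn (Module.finrank_fin_fun F) hd (φ B') (φ N) ?_ ?_ ?_ p ?_ ?_
  · rw [← map_pow, hB's, map_one]
  · intro h; rw [← map_one φ] at h; exact hB'1 (φ.injective h)
  · intro h; rw [← map_zero φ] at h; exact hN0 (φ.injective h)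
  · rw [← map_pow, hNp, map_zero]
  · rw [← map_mul, ← map_mul, hNB]


/-- Let F be a finite field of characteristic p, n ≥ 4, and let a, b be commuting elements of PSL(n, F) with a of order p. Then every prime divisor of the order of b divides the order of SL(n − 2, F). -/
theorem result {F : Type*} [Field F] [Fintype F] (p : ℕ) [Fact p.Prime] [CharP F p] (n : ℕ) (hn : 4 ≤ n)
    (a b : Matrix.ProjectiveSpecialLinearGroup (Fin n) F) (ha : orderOf a = p) (hab : Commute a b) :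
    (orderOf b).primeFactors ⊆ (Nat.card (Matrix.SpecialLinearGroup (Fin (n - 2)) F)).primeFactors := by
  classical
  intro s hs
  rw [Nat.mem_primeFactors] at hs ⊢
  obtain ⟨hsp, hsdvd, hb0⟩ := hs
  haveI := Fact.mk hsp
  have hpp : p.Prime := Fact.out
  have hcardne : Nat.card (Matrix.SpecialLinearGroup (Fin (n - 2)) F) ≠ 0 := Nat.card_pos.ne'
  refine ⟨hsp, ?_, hcardne⟩
  obtain ⟨f, -, hq⟩ := FiniteField.card F p
  by_cases hsp' : s = p
  · apply dvd_card_SL (n - 2) (by omega) s hsp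
    left
    rw [hsp', hq]
    exact dvd_pow_self p f.pos.ne'
  have hsq : ¬ s ∣ Fintype.card F := by
    rw [hq]
    intro h
    exact hsp' ((Nat.prime_dvd_prime_iff_eq hsp hpp).mp (hsp.dvd_of_dvd_pow h))
  obtain ⟨d, hd⟩ : ∃ d, d = orderOf ((Fintype.card F : ℕ) : ZMod s) := ⟨_, rfl⟩
  have hq0 : ((Fintype.card F : ℕ) : ZMod s) ≠ 0 := by
    rw [Ne, ZMod.natCast_eq_zero_iff]; exact hsq
  have hd1 : 1 ≤ d := by
    rw [hd]
    have hs2 := hsp.two_le
    exact orderOf_pos_iff.mpr (isOfFinOrder_iff_pow_eq_one.mpr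
      ⟨s - 1, by omega, ZMod.pow_card_sub_one_eq_one hq0⟩)
  by_cases hdn : d ≤ n - 2
  · apply dvd_card_SL (n - 2) (by omega) s hsp
    right
    refine ⟨d, hd1, hdn, ?_⟩
    apply S2904.dvd_of_pow_eq_one _ s d Fintype.one_lt_card
    rw [hd]; exact pow_orderOf_eq_one _
  · exfalso
    have hdge : n - 1 ≤ orderOf ((Fintype.card F : ℕ) : ZMod s) := by rw [← hd]; omega
    obtain ⟨b₁, hb₁⟩ : ∃ b₁, b₁ = b ^ (orderOf b / s) := ⟨_, rfl⟩
    have hb₁o : orderOf b₁ = s := by rw [hb₁]; exact orderOf_pow_orderOf_div hb0 hsdvd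
    have hab₁ : a * b₁ = b₁ * a := by rw [hb₁]; exact (hab.pow_right _).eq
    obtain ⟨A, hA⟩ := QuotientGroup.mk_surjective a
    obtain ⟨B, hB⟩ := QuotientGroup.mk_surjective b₁
    have hcenter : ∀ M : Matrix.SpecialLinearGroup (Fin n) F,
        M ∈ Subgroup.center (Matrix.SpecialLinearGroup (Fin n) F) ↔
        ∃ r : F, r ^ n = 1 ∧ (M : Matrix (Fin n) (Fin n) F) = r • 1 := by
      intro M
      rw [Matrix.SpecialLinearGroup.mem_center_iff, Fintype.card_fin]
      constructor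
      · rintro ⟨r, hr, hM⟩
        exact ⟨r, hr, by rw [← hM, Matrix.smul_one_eq_diagonal]; rfl⟩
      · rintro ⟨r, hr, hM⟩
        exact ⟨r, hr, by rw [hM, Matrix.smul_one_eq_diagonal]; rfl⟩
    have hnotc : ∀ M : Matrix.SpecialLinearGroup (Fin n) F,
        M ∉ Subgroup.center (Matrix.SpecialLinearGroup (Fin n) F) →
        ∀ c : F, (M : Matrix (Fin n) (Fin n) F) ≠ c • 1 := by
      intro M hM c hc
      apply hM
      rw [hcenter]
      refine ⟨c, ?_, hc⟩
      have h1 := M.det_coe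
      rw [hc, Matrix.det_smul, Matrix.det_one, mul_one, Fintype.card_fin] at h1
      exact h1
    have hAp : A ^ p ∈ Subgroup.center (Matrix.SpecialLinearGroup (Fin n) F) := by
      rw [← QuotientGroup.eq_one_iff, QuotientGroup.mk_pow, hA, ← ha, pow_orderOf_eq_one]
    have hAnc : A ∉ Subgroup.center (Matrix.SpecialLinearGroup (Fin n) F) := by
      intro h
      have h1 : a = 1 := by rw [← hA]; exact (QuotientGroup.eq_one_iff A).mpr h
      rw [h1, orderOf_one] at ha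
      exact hpp.one_lt.ne ha
    have hBs : B ^ s ∈ Subgroup.center (Matrix.SpecialLinearGroup (Fin n) F) := by
      rw [← QuotientGroup.eq_one_iff, QuotientGroup.mk_pow, hB, ← hb₁o, pow_orderOf_eq_one]
    have hBnc : B ∉ Subgroup.center (Matrix.SpecialLinearGroup (Fin n) F) := by
      intro h
      have h1 : b₁ = 1 := by rw [← hB]; exact (QuotientGroup.eq_one_iff B).mpr h
      rw [h1, orderOf_one] at hb₁o
      exact hsp.one_lt.ne hb₁o
    obtain ⟨lam, hlam, hAl⟩ := (hcenter _).mp hAp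
    obtain ⟨nu, hnu, hBn⟩ := (hcenter _).mp hBs
    obtain ⟨Z, hZdef⟩ : ∃ Z, Z = (B * A)⁻¹ * (A * B) := ⟨_, rfl⟩
    have hZ : Z ∈ Subgroup.center (Matrix.SpecialLinearGroup (Fin n) F) := by
      rw [hZdef, ← QuotientGroup.eq, QuotientGroup.mk_mul, QuotientGroup.mk_mul, hA, hB, hab₁]
    obtain ⟨zeta, hzeta, hZz⟩ := (hcenter _).mp hZ
    have hABz : (A : Matrix (Fin n) (Fin n) F) * (B : Matrix (Fin n) (Fin n) F)
        = zeta • ((B : Matrix (Fin n) (Fin n) F) * (A : Matrix (Fin n) (Fin n) F)) := by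
      have h1 : (B * A) * Z = A * B := by rw [hZdef]; group
      have h2 := congrArg
        (fun M : Matrix.SpecialLinearGroup (Fin n) F => (M : Matrix (Fin n) (Fin n) F)) h1
      simp only [Matrix.SpecialLinearGroup.coe_mul] at h2
      rw [hZz, mul_smul_comm, mul_one] at h2
      exact h2.symm
    have hn0 : n ≠ 0 := by omega
    have hlam0 : lam ≠ 0 := by
      rintro rfl; rw [zero_pow hn0] at hlam; exact zero_ne_one hlam
    have hnu0 : nu ≠ 0 := by
      rintro rfl; rw [zero_pow hn0] at hnu; exact zero_ne_one hnu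
    exact core p n hn s hsp' hdge (A : Matrix (Fin n) (Fin n) F) (B : Matrix (Fin n) (Fin n) F)
      lam nu zeta hlam0 hnu0 (by rw [← Matrix.SpecialLinearGroup.coe_pow]; exact hAl)
      (hnotc A hAnc) (by rw [← Matrix.SpecialLinearGroup.coe_pow]; exact hBn) (hnotc B hBnc) hABz

end Cfsg.Agent.S2364
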