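import Cfsg.Statements.S2366
import Cfsg.Agent.Helper14.Psu3a
import Cfsg.Agent.Helper14.Psu3b
import Cfsg.Agent.Helper19.Psu3x
import Cfsg.Agent.Helper23.Psu3x
import Cfsg.Agent.Helper3.Psu3x
import Cfsg.Agent.Helper7.Psu3x
import Cfsg.Agent.Helper3.Psu3c
import Cfsg.Agent.Helper14.Psu3d

set_option autoImplicit false
open Cfsg

namespace Cfsg.Agent.S2366

open Matrix Polynomial Cfsg.Agent.Helper14.Psu3a


/-- The set of element orders of PSU(3, q) for an odd prime power q = p^n: writing d = gcd(3, q + 1), a positive integer is the order of some element exactly when it divides one of q + 1, p(q + 1)/d, (q² − 1)/d, (q² − q + 1)/d. -/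
theorem result {F : Type*} [Field F] [Fintype F] (p : ℕ) [Fact p.Prime] [CharP F p] (hp : p ≠ 2) (q : ℕ) (hF : Fintype.card F = q ^ 2) :
    Set.range (orderOf : Cfsg.PSU 3 F q → ℕ) =
      {s : ℕ | s ∣ q + 1} ∪ {s : ℕ | s ∣ p * (q + 1) / Nat.gcd 3 (q + 1)} ∪
        {s : ℕ | s ∣ (q ^ 2 - 1) / Nat.gcd 3 (q + 1)} ∪ {s : ℕ | s ∣ (q ^ 2 - q + 1) / Nat.gcd 3 (q + 1)} := by
  classical
  have hpp : p.Prime := Fact.out
  have hq2 : 2 ≤ q := by
    by_contra h
    have h1 : 1 < Fintype.card F := Fintype.one_lt_card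
    rw [hF] at h1
    have h2 : q ≤ 1 := by omega
    interval_cases q <;> simp at h1
  have hd0 : 0 < Nat.gcd 3 (q + 1) := Nat.gcd_pos_of_pos_left _ (by norm_num)
  have hd3 : Nat.gcd 3 (q + 1) ≤ 3 := Nat.le_of_dvd (by norm_num) (Nat.gcd_dvd_left _ _)
  have hN1 : 0 < q + 1 := by omega
  have hN2 : 0 < p * (q + 1) / Nat.gcd 3 (q + 1) := by
    apply Nat.div_pos _ hd0
    have hp2 : 2 ≤ p := hpp.two_le
    nlinarith
  have hqq : q * 2 ≤ q ^ 2 := by nlinarith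
  have hN3 : 0 < (q ^ 2 - 1) / Nat.gcd 3 (q + 1) := Nat.div_pos (by omega) hd0
  have hN4 : 0 < (q ^ 2 - q + 1) / Nat.gcd 3 (q + 1) := Nat.div_pos (by omega) hd0
  ext m
  simp only [Set.mem_union, Set.mem_setOf_eq]
  constructor
  · rintro ⟨g, rfl⟩
    rcases sub hF (q + 1) (p * (q + 1) / Nat.gcd 3 (q + 1)) ((q ^ 2 - 1) / Nat.gcd 3 (q + 1))
      ((q ^ 2 - q + 1) / Nat.gcd 3 (q + 1))
      (fun M hdet hU hirr => Cfsg.Agent.Helper14.Psu3b.case_irred p q hF M hdet hU hirr)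
      (fun M hdet hU lam ψ h1 h2 h3 h4 =>
        Cfsg.Agent.Helper19.Psu3x.case_quad p q hF M hdet hU lam ψ h1 h2 h3 h4)
      (fun M hdet hU lam mu nu h =>
        Cfsg.Agent.Helper23.Psu3x.case_split p q hF hp M hdet hU lam mu nu h) g with h | h | h | h
    · exact Or.inl (Or.inl (Or.inl h))
    · exact Or.inl (Or.inl (Or.inr h))
    · exact Or.inl (Or.inr h)
    · exact Or.inr h
  · rintro (((h | h) | h) | h)
    · exact sup hF _ hN1 (Cfsg.Agent.Helper3.Psu3x.ex_a p q hF hp) m h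
    · exact sup hF _ hN2 (Cfsg.Agent.Helper7.Psu3x.ex_b p q hF hp) m h
    · exact sup hF _ hN3 (Cfsg.Agent.Helper3.Psu3c.ex_c p q hF hp) m h
    · exact sup hF _ hN4 (Cfsg.Agent.Helper14.Psu3d.ex_d p q hF hp) m h

end Cfsg.Agent.S2366
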