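import Cfsg.Statements.S2381
import Mathlib
import Cfsg.Agent.Helper14.SylTorusSp

set_option autoImplicit false
open Cfsg

namespace Cfsg.Agent.S2381
open Cfsg.Agent.Helper14.SylTorus

/-- Sylow subgroups of `Sp_{2n}(q)` for large primes. Let `F` be a field with `q` elements and `r` an odd prime with `r > n` and `r ∤ q` (so `r` does not divide the order `2^n n!` of the Weyl group). Let `d` be the multiplicative order of `q` modulo `r`, `a` the number of `i` with `1 ≤ i ≤ n` and `d ∣ 2i` (the degrees being `2, 4, …, 2n`), and `m` the `r`-part of the value at `q` of the `d`-th cyclotomic polynomial. Then every Sylow `r`-subgroup of the symplectic group `Sp_{2n}(q)` is a direct product of `a` cyclic groups of order `m`. -/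
theorem result {F : Type*} [Field F] [Fintype F] {q : ℕ} (hq : Fintype.card F = q) (n : ℕ)
    (r : ℕ) [Fact r.Prime] (hr2 : r ≠ 2) (hrn : n < r) (hrq : ¬ r ∣ q) (P : Sylow r ↥(Matrix.symplecticGroup (Fin n) F)) :
    Nonempty (↥(P : Subgroup ↥(Matrix.symplecticGroup (Fin n) F)) ≃*
      (Fin ((Finset.Icc 1 n).filter (fun i => orderOf (q : ZMod r) ∣ 2 * i)).card →
        Multiplicative (ZMod (r ^ padicValNat r ((Polynomial.cyclotomic (orderOf (q : ZMod r)) ℤ).eval (q : ℤ)).natAbs)))) := by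
  classical
  subst hq
  obtain ⟨d, hd⟩ : ∃ d, d = orderOf ((Fintype.card F : ℕ) : ZMod r) := ⟨_, rfl⟩
  obtain ⟨k, hk⟩ : ∃ k, k = padicValNat r
      ((Polynomial.cyclotomic d ℤ).eval ((Fintype.card F : ℕ) : ℤ)).natAbs := ⟨_, rfl⟩
  rw [← hd, ← hk]
  have hq2 : 2 ≤ Fintype.card F := Fintype.one_lt_card
  have hd0 : 0 < d := by rw [hd]; exact ord_pos r _ hrq
  obtain ⟨c, hc⟩ : ∃ c, c = ((Finset.Icc 1 n).filter (fun i => d ∣ 2 * i)).card := ⟨_, rfl⟩
  rw [← hc]
  have hr : r.Prime := Fact.out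
  suffices hex : ∃ Φ : (Fin c → Multiplicative (ZMod (r ^ k))) →*
      ↥(Matrix.symplecticGroup (Fin n) F), Function.Injective Φ by
    obtain ⟨Φ, hΦ⟩ := hex
    refine sylow_of_torus r c k Φ hΦ ?_ P
    rw [val_Sp n r hrq]
    rw [Finset.sum_congr rfl (fun j hj => val_pow r _ hq2 hrq (2 * j) (by
      rw [Finset.mem_Ico] at hj
      intro h'
      rcases (Nat.Prime.dvd_mul hr).mp h' with h2 | h2
      · have h3 := Nat.le_of_dvd (by omega) h2
        have h4 := hr.two_le
        omega
      · have h3 := Nat.le_of_dvd (by omega) h2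
        omega))]
    rw [← hd, ← hk, sum_ite_count, hc]
    congr 1
  rcases Nat.even_or_odd d with hev | hodd
  · obtain ⟨e, he⟩ := hev
    have hce : c = n / e := by
      rw [hc, ← Nat.Ioc_filter_dvd_card_eq_div n e]
      congr 1
      ext j
      simp only [Finset.mem_filter, Finset.mem_Icc, Finset.mem_Ioc]
      have h1 : d ∣ 2 * j ↔ e ∣ j := by
        rw [he, ← two_mul]
        exact Nat.mul_dvd_mul_iff_left (by norm_num)
      rw [h1]
      constructor <;> rintro ⟨⟨h1, h2⟩, h3⟩ <;> exact ⟨⟨by omega, h2⟩, h3⟩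
    rw [hce]
    exact sp_torus_even n r hrq d k (n / e) e hd hk he (Nat.div_mul_le_self n e)
  · have hcd : c = n / d := by
      rw [hc, ← Nat.Ioc_filter_dvd_card_eq_div n d]
      congr 1
      ext j
      simp only [Finset.mem_filter, Finset.mem_Icc, Finset.mem_Ioc]
      have h1 : d ∣ 2 * j ↔ d ∣ j := Nat.Coprime.dvd_mul_left hodd.coprime_two_right
      rw [h1]
      constructor <;> rintro ⟨⟨h1, h2⟩, h3⟩ <;> exact ⟨⟨by omega, h2⟩, h3⟩
    rw [hcd]
    exact sp_torus_odd n r hrq d k (n / d) hd hk (Nat.div_mul_le_self n d)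

end Cfsg.Agent.S2381
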