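import Mathlib
import Cfsg.Statements.S2418
import Cfsg.Agent.Helper17.CoxCentre
import Cfsg.Agent.Helper17.CoxDataB2
import Cfsg.Agent.Helper17.CoxDataG2
import Cfsg.Agent.Helper17.CoxDataD4
import Cfsg.Agent.Helper17.CoxDataF4
import Cfsg.Agent.Helper17.CoxDataE6
import Cfsg.Agent.Helper17.CoxDataE7
import Cfsg.Agent.Helper17.CoxDataE8

set_option autoImplicit false
open Cfsg

namespace Cfsg.Agent.S2418

open Cfsg.Agent.Helper17 Cfsg.Agent.Helper17.Cox

set_option maxHeartbeats 0 in
theorem centreB2 : Nat.card (Subgroup.center CoxDataB2.CM.Group) = 2 ∧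
    Subgroup.center CoxDataB2.CM.Group ≤
      Subgroup.zpowers (((List.finRange 2).map CoxDataB2.CM.simple).prod) :=
  centre_two CoxDataB2.CM CoxDataB2.A CoxDataB2.hA CoxDataB2.Ls CoxDataB2.hchk
    (by decide +kernel) 0 1 (by decide +kernel) 2 (by decide +kernel)

set_option maxHeartbeats 0 in
theorem centreG2 : Nat.card (Subgroup.center CoxDataG2.CM.Group) = 2 ∧
    Subgroup.center CoxDataG2.CM.Group ≤
      Subgroup.zpowers (((List.finRange 2).map CoxDataG2.CM.simple).prod) :=
  centre_two CoxDataG2.CM CoxDataG2.A CoxDataG2.hA CoxDataG2.Ls CoxDataG2.hchk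
    (by decide +kernel) 0 1 (by decide +kernel) 3 (by decide +kernel)

set_option maxHeartbeats 0 in
theorem centreD4 : Nat.card (Subgroup.center CoxDataD4.CM.Group) = 2 ∧
    Subgroup.center CoxDataD4.CM.Group ≤
      Subgroup.zpowers (((List.finRange 4).map CoxDataD4.CM.simple).prod) :=
  centre_two CoxDataD4.CM CoxDataD4.A CoxDataD4.hA CoxDataD4.Ls CoxDataD4.hchk
    (by decide +kernel) 0 2 (by decide +kernel) 3 (by decide +kernel)

set_option maxHeartbeats 0 in
theorem centreF4 : Nat.card (Subgroup.center CoxDataF4.CM.Group) = 2 ∧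
    Subgroup.center CoxDataF4.CM.Group ≤
      Subgroup.zpowers (((List.finRange 4).map CoxDataF4.CM.simple).prod) :=
  centre_two CoxDataF4.CM CoxDataF4.A CoxDataF4.hA CoxDataF4.Ls CoxDataF4.hchk
    (by decide +kernel) 0 3 (by decide +kernel) 6 (by decide +kernel)

set_option maxHeartbeats 0 in
theorem centreE6 : Nat.card (Subgroup.center CoxDataE6.CM.Group) = 1 ∧
    Subgroup.center CoxDataE6.CM.Group ≤
      Subgroup.zpowers (((List.finRange 6).map CoxDataE6.CM.simple).prod) :=
  centre_one CoxDataE6.CM CoxDataE6.A CoxDataE6.hA CoxDataE6.Ls CoxDataE6.hchk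
    (by decide +kernel) 0 4 (by decide +kernel) ![1, 0, 2, 0, 1, 2] (by decide +kernel) 0
    (by decide +kernel) _

set_option maxHeartbeats 0 in
theorem centreE7 : Nat.card (Subgroup.center CoxDataE7.CM.Group) = 2 ∧
    Subgroup.center CoxDataE7.CM.Group ≤
      Subgroup.zpowers (((List.finRange 7).map CoxDataE7.CM.simple).prod) :=
  centre_two CoxDataE7.CM CoxDataE7.A CoxDataE7.hA CoxDataE7.Ls CoxDataE7.hchk
    (by decide +kernel) 0 5 (by decide +kernel) 9 (by decide +kernel)

set_option maxHeartbeats 0 in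
theorem centreE8 : Nat.card (Subgroup.center CoxDataE8.CM.Group) = 2 ∧
    Subgroup.center CoxDataE8.CM.Group ≤
      Subgroup.zpowers (((List.finRange 8).map CoxDataE8.CM.simple).prod) :=
  centre_two CoxDataE8.CM CoxDataE8.A CoxDataE8.hA CoxDataE8.Ls CoxDataE8.hchk
    (by decide +kernel) 0 6 (by decide +kernel) 15 (by decide +kernel)

/-- For the Coxeter groups of types B₂, G₂, D₄, F₄, E₇, E₈ the centre has order 2 (the element acting as −1 on the root system) and is generated by a power of the Coxeter element `s₁ s₂ ⋯ s_l`; the Coxeter group of type E₆ has trivial centre. -/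
theorem result (c : (Σ n : ℕ, CoxeterMatrix (Fin n)) × ℕ)
    (hc : c ∈ [(⟨2, CoxeterMatrix.B 2⟩, 2), (⟨2, CoxeterMatrix.G₂⟩, 2), (⟨4, Cfsg.Lie.coxeterD4⟩, 2), (⟨4, CoxeterMatrix.F₄⟩, 2),
      (⟨6, CoxeterMatrix.E₆⟩, 1), (⟨7, CoxeterMatrix.E₇⟩, 2), (⟨8, CoxeterMatrix.E₈⟩, 2)]) :
    Nat.card (Subgroup.center c.1.2.Group) = c.2 ∧
      Subgroup.center c.1.2.Group ≤ Subgroup.zpowers ((List.finRange c.1.1).map c.1.2.simple).prod := by
  simp only [List.mem_cons, List.not_mem_nil, or_false] at hc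
  rcases hc with rfl | rfl | rfl | rfl | rfl | rfl | rfl
  · exact centreB2
  · exact centreG2
  · exact centreD4
  · exact centreF4
  · exact centreE6
  · exact centreE7
  · exact centreE8

end Cfsg.Agent.S2418
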