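import Mathlib
import Cfsg.Statements.S2419
import Cfsg.Agent.Helper17.CoxGen
import Cfsg.Agent.Helper17.CoxDataB2
import Cfsg.Agent.Helper17.CoxDataG2
import Cfsg.Agent.Helper17.CoxDataD4
import Cfsg.Agent.Helper17.CoxDataF4
import Cfsg.Agent.Helper17.CoxDataE6
import Cfsg.Agent.Helper17.CoxDataE7
import Cfsg.Agent.Helper17.CoxDataE8

set_option autoImplicit false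
open Cfsg

namespace Cfsg.Agent.S2419

open Cfsg.Agent.Helper17 Cfsg.Agent.Helper17.Cox

def matsB2 : List (Matrix (Fin 2) (Fin 2) ℤ) := [!![-1, -1; 2, 1], !![-1, 0; 2, 1], !![1, 1; 0, -1]]
def progB2 : List (ℕ × ℕ) := [(1, 0)]
def finB2 : List ℕ := [1, 2]

set_option maxHeartbeats 0 in
theorem genB2 : ∃ T : Finset CoxDataB2.CM.Group, T.card = 1 ∧
    (∀ t ∈ T, ∃ (g : CoxDataB2.CM.Group) (i : Fin 2), t = g * CoxDataB2.CM.simple i * g⁻¹) ∧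
    Subgroup.closure (({((List.finRange 2).map CoxDataB2.CM.simple).prod} : Set CoxDataB2.CM.Group) ∪ ↑T) = ⊤ :=
  gen_one CoxDataB2.CM CoxDataB2.A CoxDataB2.hA CoxDataB2.Ls CoxDataB2.hchk [] 0 matsB2 progB2 finB2
    (by decide +kernel) (by decide +kernel) (by decide +kernel) (by decide +kernel)

def matsG2 : List (Matrix (Fin 2) (Fin 2) ℤ) := [!![-1, -1; 3, 2], !![-1, 0; 3, 1], !![1, 1; 0, -1]]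
def progG2 : List (ℕ × ℕ) := [(1, 0)]
def finG2 : List ℕ := [1, 2]

set_option maxHeartbeats 0 in
theorem genG2 : ∃ T : Finset CoxDataG2.CM.Group, T.card = 1 ∧
    (∀ t ∈ T, ∃ (g : CoxDataG2.CM.Group) (i : Fin 2), t = g * CoxDataG2.CM.simple i * g⁻¹) ∧
    Subgroup.closure (({((List.finRange 2).map CoxDataG2.CM.simple).prod} : Set CoxDataG2.CM.Group) ∪ ↑T) = ⊤ :=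
  gen_one CoxDataG2.CM CoxDataG2.A CoxDataG2.hA CoxDataG2.Ls CoxDataG2.hchk [] 0 matsG2 progG2 finG2
    (by decide +kernel) (by decide +kernel) (by decide +kernel) (by decide +kernel)

def matsD4 : List (Matrix (Fin 4) (Fin 4) ℤ) := [!![-1, -1, -1, -1; 1, 0, 0, 0; 0, 1, 0, 1; 0, 1, 1, 0], !![-1, 0, 0, 0; 1, 1, 0, 0; 0, 0, 1, 0; 0, 0, 0, 1], !![1, 0, 0, 0; 0, 1, 1, 0; 0, 0, -1, 0; 0, 0, 0, 1], !![0, -1, -1, -1; -1, 0, 0, 0; 1, 1, 0, 1; 1, 1, 1, 0], !![0, -1, 0, 0; -1, -1, -1, -1; 1, 1, 1, 0; 1, 1, 0, 1], !![-1, 0, 0, 0; 0, -1, 0, 0; 0, 0, -1, 0; 0, 0, 0, -1], !![1, 1, 1, 1; -1, 0, 0, 0; 0, -1, 0, -1; 0, -1, -1, 0], !![0, 1, 0, 0; 1, 1, 1, 1; -1, -1, -1, 0; -1, -1, 0, -1], !![1, 1, 0, 0; 0, -1,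 0, 0; 0, 1, 1, 0; 0, 1, 0, 1], !![0, -1, -1, 0; -1, -1, 0, -1; 1, 1, 0, 0; 1, 1, 1, 1], !![1, 1, 0, 1; 0, 0, 0, -1; 0, 1, 1, 1; 0, -1, 0, 0], !![1, 1, 0, 0; 0, 0, 0, 1; 0, 1, 1, 0; 0, -1, 0, -1], !![1, 0, 0, 0; 0, 1, 0, 1; 0, 0, 1, 0; 0, 0, 0, -1]]
def progD4 : List (ℕ × ℕ) := [(0, 1), (0, 0), (4, 0), (5, 0), (6, 0), (3, 7), (4, 2), (9, 6), (8, 10), (11, 8)]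
def finD4 : List ℕ := [1, 8, 2, 12]

set_option maxHeartbeats 0 in
theorem genD4 : ∃ T : Finset CoxDataD4.CM.Group, T.card = 2 ∧
    (∀ t ∈ T, ∃ (g : CoxDataD4.CM.Group) (i : Fin 4), t = g * CoxDataD4.CM.simple i * g⁻¹) ∧
    Subgroup.closure (({((List.finRange 4).map CoxDataD4.CM.simple).prod} : Set CoxDataD4.CM.Group) ∪ ↑T) = ⊤ :=
  gen_two CoxDataD4.CM CoxDataD4.A CoxDataD4.hA CoxDataD4.Ls CoxDataD4.hchk [] 0 [] 2 matsD4 progD4 finD4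
    (by decide +kernel) (by decide +kernel) (by decide +kernel) (by decide +kernel) (by decide +kernel)

def matsF4 : List (Matrix (Fin 4) (Fin 4) ℤ) := [!![-1, -1, -1, -1; 1, 0, 0, 0; 0, 2, 1, 1; 0, 0, 1, 0], !![-1, 0, 0, 0; 1, 1, 0, 0; 0, 0, 1, 0; 0, 0, 0, 1], !![1, 0, 0, 0; 0, 1, 1, 0; 0, 0, -1, 0; 0, 0, 1, 1], !![0, -1, -1, -1; -1, 0, 0, 0; 2, 2, 1, 1; 0, 0, 1, 0], !![0, -1, -1, 0; -1, -1, -1, -1; 2, 2, 2, 1; 0, 2, 1, 1], !![-1, -2, -1, -1; 0, -1, -1, 0; 0, 2, 1, 0; 2, 2, 2, 1], !![-1, -1, -1, 0; -1, -2, -1, -1; 2, 2, 1, 1; 0, 2, 1, 0], !![0, -1, 0, 0; -1, -1, -1, 0; 0, 0, 0, -1; 2, 2, 1, 1], !![-1, 0, 0, 0; 0, -1, 0, 0; 0, 0, -1, 0; 0, 0, 0, -1], !![1, 1, 1, 1; -1, 0, 0, 0; 0, -2, -1, -1;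 0, 0, -1, 0], !![0, 1, 1, 0; 1, 1, 1, 1; -2, -2, -2, -1; 0, -2, -1, -1], !![1, 2, 1, 1; 0, 1, 1, 0; 0, -2, -1, 0; -2, -2, -2, -1], !![1, 1, 1, 0; 1, 2, 1, 1; -2, -2, -1, -1; 0, -2, -1, 0], !![0, 1, 0, 0; 1, 1, 1, 0; 0, 0, 0, 1; -2, -2, -1, -1], !![1, 1, 0, 0; 0, -1, 0, 0; 0, 2, 1, 0; 0, 0, 0, 1], !![-1, -1, -1, -1; 1, 0, 0, 0; 0, 2, 2, 1; 0, 0, -1, 0], !![1, 0, 0, 0; 0, 1, 0, 0; 0, 0, 1, 1; 0, 0, 0, -1]]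
def progF4 : List (ℕ × ℕ) := [(0, 1), (0, 0), (4, 0), (5, 0), (6, 0), (7, 0), (8, 0), (9, 0), (10, 0), (11, 0), (12, 0), (3, 13), (0, 2), (15, 13)]
def finF4 : List ℕ := [1, 14, 2, 16]

set_option maxHeartbeats 0 in
theorem genF4 : ∃ T : Finset CoxDataF4.CM.Group, T.card = 2 ∧
    (∀ t ∈ T, ∃ (g : CoxDataF4.CM.Group) (i : Fin 4), t = g * CoxDataF4.CM.simple i * g⁻¹) ∧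
    Subgroup.closure (({((List.finRange 4).map CoxDataF4.CM.simple).prod} : Set CoxDataF4.CM.Group) ∪ ↑T) = ⊤ :=
  gen_two CoxDataF4.CM CoxDataF4.A CoxDataF4.hA CoxDataF4.Ls CoxDataF4.hchk [] 0 [] 2 matsF4 progF4 finF4
    (by decide +kernel) (by decide +kernel) (by decide +kernel) (by decide +kernel) (by decide +kernel)

def matsE6_0 : List (Matrix (Fin 6) (Fin 6) ℤ) := [!![-1, 0, -1, -1, -1, -1; 0, -1, 0, -1, -1, -1; 1, 0, 0, 0, 0, 0; 0, 1, 1, 1, 1, 1; 0, 0, 0, 1, 0, 0; 0, 0, 0, 0, 1, 0], !![-1, 0, 0, 0, 0, 0; 0, 1, 0, 0, 0, 0; 1, 0, 1, 0, 0, 0; 0, 0, 0, 1, 0, 0; 0, 0, 0, 0, 1, 0; 0, 0, 0, 0, 0, 1], !![0, -1, 0, -1, -1, 0; 0, 0, -1, -1, -1, 0; -1, 0, -1, -1, -1, -1; 1, 0, 1, 1, 1, 0; 0, 1, 1,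 1, 1, 1; 0, 0, 0, 1, 0, 0], !![0, -1, 0, -1, -1, 0; -1, 0, -1, -1, -1, 0; 0, 0, -1, -1, -1, -1; 0, 0, 1, 1, 1, 0; 1, 1, 1, 1, 1, 1; 0, 0, 0, 1, 0, 0], !![0, 0, -1, -1, 0, 0; -1, -1, -1, -2, -1, -1; 0, -1, 0, -1, -1, 0; 0, 1, 0, 1, 0, 0; 1, 0, 1, 1, 1, 0; 0, 1, 1, 1, 1, 1], !![-1, -1, -1, -1, -1, -1; 0, -1, -1, -1, -1, 0; 0, 0, -1, -1, 0, 0; 0, 0, 1, 0, 0, 0; 0, 1, 0, 1, 0, 0; 1, 0, 1, 1, 1, 0], !![0, 0, 0, 0, 0, 1; -1, 0, -1, -1, 0, 0; -1, -1, -1, -1, -1, -1; 1, 0, 0, 0, 0, 0; 0, 0, 1, 0, 0, 0; 0, 1, 0, 1, 0, 0], !![0, 0, 0, 0, 1, 0; 0, -1, 0, 0, 0, 0; 0, 0, 0, 0, 0, 1; -1, 0, -1, -1, -1, -1; 1, 0, 0, 0, 0, 0; 0, 0, 1, 0, 0, 0], !![0, 0, 0, 1, 0, 0; 0, 1, 0, 1, 1, 1; 0, 0, 0, 0, 1, 0; 0, -1, 0,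 -1, -1, 0; -1, 0, -1, -1, -1, -1; 1, 0, 0, 0, 0, 0], !![0, 1, 1, 1, 1, 1; 0, 0, 1, 1, 1, 0; 0, 0, 0, 1, 0, 0; 0, 0, -1, -1, 0, 0; 0, -1, 0, -1, -1, 0; -1, 0, -1, -1, -1, -1], !![1, 0, 1, 1, 1, 0; 1, 1, 1, 2, 1, 1; 0, 1, 1, 1, 1, 1; -1, -1, -1, -1, -1, -1; 0, 0, -1, -1, 0, 0; 0, -1, 0, -1, -1, 0], !![0, 1, 0, 1, 0, 0; 0, 1, 1, 1, 1, 0; 1, 0, 1, 1, 1, 0; 0, 0, 0, 0, 0, 1; -1, -1, -1, -1, -1, -1; 0, 0, -1, -1, 0, 0], !![1, 0, 0, 0, 0, 0; 0, 0, 0, -1, 0, 0; 0, 1, 1, 1, 0, 0; 0, -1, 0, 0, 0, 0; 0, 1, 0, 1, 1, 0; 0, 0, 0, 0, 0, 1], !![0, 0, 0, 0, 0, 1; 0, 0, -1, -1, 0, 0; 0, -1, -1, -1, -1, -1; -1, 0, 0, 0, 0, 0; 1, 0, 1, 0, 0, 0; 0, 1, 0, 1, 0, 0], !![1, 0, 0, 0, 0, 0; 0, 1, 0, 1, 0, 0; 0, 0, 1, 1,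 0, 0; 0, 0, 0, -1, 0, 0; 0, 0, 0, 1, 1, 0; 0, 0, 0, 0, 0, 1], !![1, 0, 0, 0, 0, 0; 0, 0, 0, 1, 0, 0; 0, 1, 1, 1, 0, 0; 0, -1, 0, -1, 0, 0; 0, 1, 0, 1, 1, 0; 0, 0, 0, 0, 0, 1], !![1, 0, 0, 0, 0, 0; 0, -1, 0, 0, 0, 0; 0, 0, 1, 0, 0, 0; 0, 1, 0, 1, 0, 0; 0, 0, 0, 0, 1, 0; 0, 0, 0, 0, 0, 1], !![0, 0, -1, -1, -1, -1; 0, -1, 0, -1, -1, -1; -1, 0, 0, 0, 0, 0; 1, 1, 1, 1, 1, 1; 0, 0, 0, 1, 0, 0; 0, 0, 0, 0, 1, 0], !![0, 0, 1, 0, 0, 0; 1, 0, 1, 1, 0, 0; 0, 1, 0, 1, 0, 0; 0, 0, 0, 0, 1, 0; 0, 0, 0, 0, 0, 1; -1, -1, -1, -1, -1, -1], !![1, 0, 1, 0, 0, 0; 0, 1, 0, 0, 0, 0; 0, 0, -1, 0, 0, 0; 0, 0, 1, 1, 0, 0; 0, 0, 0, 0, 1, 0; 0, 0, 0, 0, 0, 1]]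
def matsE6_1 : List (Matrix (Fin 6) (Fin 6) ℤ) := [!![0, 0, 0, 0, 1, 0; 0, -1, 0, 0, 0, 0; 0, 0, 0, 0, 0, 1; 0, 0, -1, -1, -1, -1; -1, 0, 0, 0, 0, 0; 1, 0, 1, 0, 0, 0], !![1, 0, 0, 0, 0, 0; 0, 1, 0, 0, 0, 0; 0, 0, 1, 0, 0, 0; 0, 0, 0, 1, 1, 0; 0, 0, 0, 0, -1, 0; 0, 0, 0, 0, 1, 1], !![0, 0, 0, 1, 0, 0; 0, 1, 0, 1, 1, 1; 0, 0, 0, 0, 1, 0; 0, -1, 0, -1, -1, 0; 0, 0, -1, -1, -1, -1; -1, 0, 0, 0, 0, 0], !![1, 0, 0, 0, 0, 0; 0, 1, 0, 0, 0, 0; 0, 0, 1, 0, 0, 0; 0, 0, 0, 1, 0, 0; 0, 0, 0, 0, 1, 1; 0, 0, 0, 0, 0, -1]]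
def matsE6 : List (Matrix (Fin 6) (Fin 6) ℤ) := matsE6_0 ++ matsE6_1
def progE6_0 : List (ℕ × ℕ) := [(0, 0), (2, 1), (2, 0), (4, 0), (5, 0), (6, 0), (7, 0), (8, 0), (9, 0), (10, 0), (3, 11), (6, 1), (13, 8), (12, 14), (15, 12), (0, 1), (11, 0), (17, 18), (7, 1), (20, 7)]
def progE6_1 : List (ℕ × ℕ) := [(8, 1), (22, 6)]
def progE6 : List (ℕ × ℕ) := progE6_0 ++ progE6_1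
def finE6 : List ℕ := [1, 16, 19, 14, 21, 23]

set_option maxHeartbeats 0 in
theorem genE6 : ∃ T : Finset CoxDataE6.CM.Group, T.card = 1 ∧
    (∀ t ∈ T, ∃ (g : CoxDataE6.CM.Group) (i : Fin 6), t = g * CoxDataE6.CM.simple i * g⁻¹) ∧
    Subgroup.closure (({((List.finRange 6).map CoxDataE6.CM.simple).prod} : Set CoxDataE6.CM.Group) ∪ ↑T) = ⊤ :=
  gen_one CoxDataE6.CM CoxDataE6.A CoxDataE6.hA CoxDataE6.Ls CoxDataE6.hchk [] 0 matsE6 progE6 finE6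
    (by decide +kernel) (by decide +kernel) (by decide +kernel) (by decide +kernel)

def matsE7_0 : List (Matrix (Fin 7) (Fin 7) ℤ) := [!![-1, 0, -1, -1, -1, -1, -1; 0, -1, 0, -1, -1, -1, -1; 1, 0, 0, 0, 0, 0, 0; 0, 1, 1, 1, 1, 1, 1; 0, 0, 0, 1, 0, 0, 0; 0, 0, 0, 0, 1, 0, 0; 0, 0, 0, 0, 0, 1, 0], !![1, 0, 0, 0, 0, 0, 0; 0, -1, 0, 0, 0, 0, 0; 0, 0, 1, 0, 0, 0, 0; 0, 1, 0, 1, 0, 0, 0; 0, 0, 0, 0, 1, 0, 0; 0, 0, 0, 0, 0, 1, 0; 0, 0, 0, 0, 0, 0, 1], !![0, -1, 0, -1, -1, -1, 0; 0, 0, -1, -1, -1, -1, 0; -1, 0, -1, -1, -1, -1, -1; 1, 0, 1, 1, 1, 1, 0; 0, 1, 1, 1, 1, 1, 1; 0, 0, 0, 1, 0, 0, 0; 0, 0, 0, 0, 1, 0, 0], !![0, 0, -1, -1, -1, 0, 0; -1, -1, -1, -2, -2, -1, -1; 0, -1, 0, -1, -1, -1, 0; 0, 1, 0,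 1, 1, 0, 0; 1, 0, 1, 1, 1, 1, 0; 0, 1, 1, 1, 1, 1, 1; 0, 0, 0, 1, 0, 0, 0], !![0, -1, -1, -1, -1, 0, 0; -1, -1, -1, -2, -2, -1, -1; 0, 0, 0, -1, -1, -1, 0; 0, 0, 0, 1, 1, 0, 0; 1, 1, 1, 1, 1, 1, 0; 0, 0, 1, 1, 1, 1, 1; 0, 1, 0, 1, 0, 0, 0], !![-1, -1, -1, -2, -1, -1, -1; 0, -1, -1, -2, -1, -1, 0; 0, 0, -1, -1, -1, 0, 0; 0, 0, 1, 1, 0, 0, 0; 0, 1, 0, 1, 1, 0, 0; 1, 0, 1, 1, 1, 1, 0; 0, 1, 1, 1, 1, 1, 1], !![0, -1, -1, -1, -1, -1, 0; -1, -1, -2, -2, -2, -1, -1; -1, -1, -1, -2, -1, -1, -1; 1, 1, 1, 1, 1, 1, 1; 0, 0, 1, 1, 0, 0, 0; 0, 1, 0, 1, 1, 0, 0; 1, 0, 1, 1, 1, 1, 0], !![-1, 0, -1, -1, -1, 0, 0; -1, -1, -1, -2, -1, -1, 0; 0, -1, -1, -1, -1, -1, 0; 0, 0, 0, 0, 0, 0, -1; 1, 1, 1, 1, 1, 1, 1; 0,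 0, 1, 1, 0, 0, 0; 0, 1, 0, 1, 1, 0, 0], !![0, -1, 0, -1, 0, 0, 0; 0, -1, -1, -1, -1, 0, 0; -1, 0, -1, -1, -1, 0, 0; 0, 0, 0, 0, 0, -1, 0; 0, 0, 0, 0, 0, 0, -1; 1, 1, 1, 1, 1, 1, 1; 0, 0, 1, 1, 0, 0, 0], !![0, 0, -1, 0, 0, 0, 0; -1, 0, -1, -1, 0, 0, 0; 0, -1, 0, -1, 0, 0, 0; 0, 0, 0, 0, -1, 0, 0; 0, 0, 0, 0, 0, -1, 0; 0, 0, 0, 0, 0, 0, -1; 1, 1, 1, 1, 1, 1, 1], !![-1, 0, 0, 0, 0, 0, 0; 0, -1, 0, 0, 0, 0, 0; 0, 0, -1, 0, 0, 0, 0; 0, 0, 0, -1, 0, 0, 0; 0, 0, 0, 0, -1, 0, 0; 0, 0, 0, 0, 0, -1, 0; 0, 0, 0, 0, 0, 0, -1], !![1, 0, 1, 1, 1, 1, 1; 0, 1, 0, 1, 1, 1, 1; -1, 0, 0, 0, 0, 0, 0; 0, -1, -1, -1, -1, -1, -1; 0, 0, 0, -1, 0, 0, 0; 0, 0, 0, 0, -1, 0, 0; 0, 0, 0, 0, 0, -1, 0], !![0, 1, 0, 1, 1, 1,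 0; 0, 0, 1, 1, 1, 1, 0; 1, 0, 1, 1, 1, 1, 1; -1, 0, -1, -1, -1, -1, 0; 0, -1, -1, -1, -1, -1, -1; 0, 0, 0, -1, 0, 0, 0; 0, 0, 0, 0, -1, 0, 0], !![0, 0, 1, 1, 1, 0, 0; 1, 1, 1, 2, 2, 1, 1; 0, 1, 0, 1, 1, 1, 0; 0, -1, 0, -1, -1, 0, 0; -1, 0, -1, -1, -1, -1, 0; 0, -1, -1, -1, -1, -1, -1; 0, 0, 0, -1, 0, 0, 0], !![1, 1, 1, 2, 1, 1, 1; 0, 1, 1, 2, 1, 1, 0; 0, 0, 1, 1, 1, 0, 0; 0, 0, -1, -1, 0, 0, 0; 0, -1, 0, -1, -1, 0, 0; -1, 0, -1, -1, -1, -1, 0; 0, -1, -1, -1, -1, -1, -1], !![0, 1, 1, 1, 1, 1, 0; 1, 1, 2, 2, 2, 1, 1; 1, 1, 1, 2, 1, 1, 1; -1, -1, -1, -1, -1, -1, -1; 0, 0, -1, -1, 0, 0, 0; 0, -1, 0, -1, -1, 0, 0; -1, 0, -1, -1, -1, -1, 0], !![1, 0, 1, 1, 1, 0, 0; 1, 1, 1, 2, 1, 1, 0; 0, 1, 1, 1, 1,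 1, 0; 0, 0, 0, 0, 0, 0, 1; -1, -1, -1, -1, -1, -1, -1; 0, 0, -1, -1, 0, 0, 0; 0, -1, 0, -1, -1, 0, 0], !![0, -1, -1, -2, -1, -1, 0; 0, 1, 0, 0, 0, 0, 0; 1, 1, 2, 2, 1, 1, 0; -1, -1, -1, -1, -1, -1, 0; 1, 1, 1, 2, 2, 1, 0; -1, -1, -1, -2, -1, 0, 0; 1, 1, 1, 2, 1, 1, 1], !![0, 0, -1, -1, -1, -1, 0; -1, -1, -2, -2, -2, -1, -1; -1, -1, -1, -2, -1, -1, -1; 1, 0, 1, 1, 1, 1, 1; 0, 1, 1, 1, 0, 0, 0; 0, 0, 0, 1, 1, 0, 0; 1, 1, 1, 1, 1, 1, 0], !![1, 1, 1, 2, 1, 1, 0; 0, 1, 0, 0, 0, 0, 0; 0, 0, 1, 0, 0, 0, 0; 0, -1, -1, -1, -1, -1, 0; 0, 1, 1, 2, 2, 1, 0; 0, -1, -1, -2, -1, 0, 0; 0, 1, 1, 2, 1, 1, 1]]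
def matsE7_1 : List (Matrix (Fin 7) (Fin 7) ℤ) := [!![0, 1, 1, 2, 1, 1, 0; 0, 1, 0, 0, 0, 0, 0; 1, 0, 1, 0, 0, 0, 0; -1, -1, -1, -1, -1, -1, 0; 1, 1, 1, 2, 2, 1, 0; -1, -1, -1, -2, -1, 0, 0; 1, 1, 1, 2, 1, 1, 1], !![-1, 0, 0, 0, 0, 0, 0; 0, 1, 0, 0, 0, 0, 0; 1, 0, 1, 0, 0, 0, 0; 0, 0, 0, 1, 0, 0, 0; 0, 0, 0, 0, 1, 0, 0; 0, 0, 0, 0, 0, 1, 0; 0, 0, 0, 0, 0, 0, 1], !![-1, -1, -1, -2, -1, -1, -1; 0, -1, -1, -2, -1, -1, 0; 0, -1, -1, -1, -1, 0, 0; 0, 1, 1, 1, 0, 0, 0; 0, 0, 0, 1, 1, 0, 0; 1, 1, 1, 1, 1, 1, 0; 0, 0, 1, 1, 1, 1, 1], !![1, 0, 0, 0, 0, 0, 0; 0, 1, 0, 0, 0, 0, 0; -1, -1, -1, -2, -2, -1, -1; 1, 1, 2, 3, 2, 1, 1; -1, -1, -2, -2, -1, -1, -1; 1, 1, 2, 2, 2, 2, 1; -1, -1, -2, -2, -2, -1, 0],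 !![-1, -1, -1, -1, -1, 0, 0; -1, -1, -1, -2, -1, -1, 0; 0, 0, -1, -1, -1, -1, 0; 0, 0, 0, 0, 0, 0, -1; 1, 0, 1, 1, 1, 1, 1; 0, 1, 1, 1, 0, 0, 0; 0, 0, 0, 1, 1, 0, 0], !![0, -1, -1, -2, -2, -1, -1; 0, 1, 0, 0, 0, 0, 0; 1, 1, 2, 2, 2, 1, 1; 0, 0, 0, 1, 0, 0, 0; -1, -1, -1, -2, -1, -1, -1; 1, 1, 1, 2, 2, 2, 1; -1, -1, -1, -2, -2, -1, 0], !![0, -1, -1, -2, -2, -1, -1; 0, 1, 0, 0, 0, 0, 0; 1, 1, 1, 2, 2, 1, 1; 0, 0, 1, 1, 0, 0, 0; -1, -1, -2, -2, -1, -1, -1; 1, 1, 2, 2, 2, 2, 1; -1, -1, -2, -2, -2, -1, 0], !![1, 0, 1, 0, 0, 0, 0; 0, 1, 0, 0, 0, 0, 0; 0, 0, -1, 0, 0, 0, 0; 0, 0, 1, 1, 0, 0, 0; 0, 0, 0, 0, 1, 0, 0; 0, 0, 0, 0, 0, 1, 0; 0, 0, 0, 0, 0, 0, 1], !![0, 0, 0, -1, 0, 0, 0; 0, 0, -1, -1, -1,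 0, 0; -1, -1, -1, -1, -1, 0, 0; 0, 0, 0, 0, 0, -1, 0; 0, 0, 0, 0, 0, 0, -1; 1, 0, 1, 1, 1, 1, 1; 0, 1, 1, 1, 0, 0, 0], !![1, 0, 1, 1, 1, 1, 0; 0, 1, 1, 1, 1, 1, 0; 0, 0, 0, -1, -1, -1, 0; 0, 0, 0, 1, 0, 0, 0; 0, 0, 0, 0, 1, 0, 0; 0, 0, -1, -1, -1, 0, 0; 0, 0, 1, 1, 1, 1, 1], !![1, 1, 1, 2, 1, 1, 0; 0, 1, 1, 1, 1, 1, 0; 0, 0, 0, -1, -1, -1, 0; 0, -1, 0, 0, 0, 0, 0; 0, 1, 0, 1, 1, 0, 0; 0, -1, -1, -2, -1, 0, 0; 0, 1, 1, 2, 1, 1, 1], !![1, 0, 0, 0, 0, 0, 0; 0, 0, 0, -1, 0, 0, 0; 0, 1, 1, 1, 0, 0, 0; 0, -1, 0, 0, 0, 0, 0; 0, 1, 0, 1, 1, 0, 0; 0, 0, 0, 0, 0, 1, 0; 0, 0, 0, 0, 0, 0, 1], !![1, 0, 0, 0, 0, 0, 0; 0, 0, 0, 1, 0, 0, 0; 0, 1, 1, 1, 0, 0, 0; 0, -1, 0, -1, 0, 0, 0; 0, 1, 0, 1, 1, 0, 0; 0, 0,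 0, 0, 0, 1, 0; 0, 0, 0, 0, 0, 0, 1], !![1, 0, 0, 0, 0, 0, 0; 0, 1, 0, 1, 0, 0, 0; 0, 0, 1, 1, 0, 0, 0; 0, 0, 0, -1, 0, 0, 0; 0, 0, 0, 1, 1, 0, 0; 0, 0, 0, 0, 0, 1, 0; 0, 0, 0, 0, 0, 0, 1], !![-1, -1, -1, -1, -1, -1, -1; 0, 0, 0, -1, -1, -1, -1; 1, 0, 0, 0, 0, 0, 0; 0, 0, 1, 1, 1, 1, 1; 0, 1, 0, 1, 0, 0, 0; 0, 0, 0, 0, 1, 0, 0; 0, 0, 0, 0, 0, 1, 0], !![0, 1, 0, 1, 0, 0, 0; 0, 1, 1, 1, 1, 0, 0; 1, 0, 1, 1, 1, 0, 0; 0, 0, 0, 0, 0, 1, 0; 0, 0, 0, 0, 0, 0, 1; -1, -1, -1, -1, -1, -1, -1; 0, 0, -1, -1, 0, 0, 0], !![0, 0, 1, 0, 0, 0, 0; 1, 0, 1, 1, 0, 0, 0; 0, 1, 0, 1, 0, 0, 0; 0, 0, 0, 0, 1, 0, 0; 0, 0, 0, 0, 0, 1, 0; 0, 0, 0, 0, 0, 0, 1; -1, -1, -1, -1, -1, -1, -1], !![0, 0, -1, -1, 0, 0, 0; 1, 1, 1,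 1, 0, 0, 0; 0, 0, 1, 0, 0, 0, 0; -1, 0, -1, 0, 0, 0, 0; 1, 0, 1, 1, 1, 0, 0; 0, 0, 0, 0, 0, 1, 0; 0, 0, 0, 0, 0, 0, 1], !![0, 0, -1, 0, 0, 0, 0; -1, -1, -1, -1, 0, 0, 0; 0, 0, 0, -1, 0, 0, 0; 0, 0, 0, 0, -1, 0, 0; 0, 0, 0, 0, 0, -1, 0; 0, 0, 0, 0, 0, 0, -1; 1, 0, 1, 1, 1, 1, 1], !![1, 0, 0, 0, 0, 0, 0; 0, 0, 0, -1, -1, -1, -1; 0, 1, 1, 1, 1, 1, 1; 0, 0, 0, 1, 0, 0, 0; 0, 0, 0, 0, 1, 0, 0; 0, 0, 0, 0, 0, 1, 0; 0, -1, 0, -1, -1, -1, 0]]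
def matsE7_2 : List (Matrix (Fin 7) (Fin 7) ℤ) := [!![0, 0, -1, -1, -1, 0, 0; 0, 0, 0, -1, -1, -1, -1; 1, 1, 2, 2, 2, 1, 1; 0, 0, 0, 1, 0, 0, 0; -1, 0, -1, -1, 0, 0, 0; 1, 0, 1, 1, 1, 1, 0; -1, -1, -1, -2, -2, -1, 0], !![0, 0, -1, -1, -1, 0, 0; 1, 1, 1, 1, 1, 0, 0; 0, 0, 1, 0, 0, 0, 0; 0, 0, 0, 1, 0, 0, 0; -1, 0, -1, -1, 0, 0, 0; 1, 0, 1, 1, 1, 1, 0; 0, 0, 0, 0, 0, 0, 1], !![0, 0, -1, -1, 0, 0, 0; 1, 1, 1, 1, 0, 0, 0; 0, 0, 1, 0, 0, 0, 0; 0, 0, 0, 1, 1, 0, 0; -1, 0, -1, -1, -1, 0, 0; 1, 0, 1, 1, 1, 1, 0; 0, 0, 0, 0, 0, 0, 1], !![1, 0, 0, 0, 0, 0, 0; 0, 1, 0, 0, 0, 0, 0; 0, 0, 1, 0, 0, 0, 0; 0, 0, 0, 1, 1, 0, 0; 0, 0, 0, 0, -1, 0, 0; 0, 0, 0, 0, 1, 1, 0; 0, 0, 0, 0, 0, 0, 1], !![0, 0, 0, -1, -1,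 -1, 0; 0, -1, -1, -1, -1, -1, 0; -1, -1, -1, -1, -1, -1, -1; 1, 1, 1, 1, 1, 1, 0; 0, 0, 1, 1, 1, 1, 1; 0, 1, 0, 1, 0, 0, 0; 0, 0, 0, 0, 1, 0, 0], !![1, 1, 1, 1, 1, 0, 0; 0, 0, -1, -1, -1, 0, 0; 0, -1, 0, -1, -1, 0, 0; 0, 1, 1, 2, 1, 0, 0; 0, -1, -1, -1, 0, 0, 0; 0, 1, 1, 1, 1, 1, 0; 0, 0, 0, 0, 0, 0, 1], !![1, 0, 1, 1, 1, 1, 0; 0, -1, -1, -1, -1, -1, 0; 0, 0, 0, -1, -1, -1, 0; 0, 1, 1, 2, 1, 1, 0; 0, 0, 0, 0, 1, 0, 0; 0, 0, -1, -1, -1, 0, 0; 0, 0, 1, 1, 1, 1, 1], !![1, 1, 1, 1, 1, 1, 0; 0, 0, -1, -1, -1, -1, 0; 0, -1, 0, -1, -1, -1, 0; 0, 1, 1, 2, 1, 1, 0; 0, 0, 0, 0, 1, 0, 0; 0, -1, -1, -1, -1, 0, 0; 0, 1, 1, 1, 1, 1, 1], !![1, 1, 1, 1, 1, 0, 0; 0, 0, -1, -1, -1, 0, 0; 0, -1, 0, -1, -1, 0, 0;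 0, 1, 1, 2, 1, 0, 0; 0, 0, 0, 0, 1, 1, 0; 0, -1, -1, -1, -1, -1, 0; 0, 1, 1, 1, 1, 1, 1], !![1, 0, 0, 0, 0, 0, 0; 0, 1, 0, 0, 0, 0, 0; 0, 0, 1, 0, 0, 0, 0; 0, 0, 0, 1, 0, 0, 0; 0, 0, 0, 0, 1, 1, 0; 0, 0, 0, 0, 0, -1, 0; 0, 0, 0, 0, 0, 1, 1], !![0, -1, -1, -2, -1, -1, -1; 1, 1, 1, 1, 0, 0, 0; 0, 1, 1, 1, 1, 1, 1; -1, -1, -1, -1, -1, -1, -1; 1, 1, 1, 2, 2, 1, 1; 0, 0, 0, 0, 0, 1, 0; 0, -1, 0, -1, -1, -1, 0], !![0, -1, -1, -2, -1, -1, -1; 0, 1, 0, 0, 0, 0, 0; 1, 1, 2, 2, 1, 1, 1; -1, -1, -1, -1, -1, -1, -1; 1, 1, 1, 2, 2, 1, 1; 0, 0, 0, 0, 0, 1, 0; -1, -1, -1, -2, -1, -1, 0], !![0, -1, -1, -2, -1, -1, 0; 0, 1, 0, 0, 0, 0, 0; 1, 1, 2, 2, 1, 1, 0; -1, -1, -1, -1, -1, -1, 0; 1, 1, 1, 2, 2, 1, 0; 0,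 0, 0, 0, 0, 1, 1; -1, -1, -1, -2, -1, -1, -1], !![1, 0, 0, 0, 0, 0, 0; 0, 1, 0, 0, 0, 0, 0; 0, 0, 1, 0, 0, 0, 0; 0, 0, 0, 1, 0, 0, 0; 0, 0, 0, 0, 1, 0, 0; 0, 0, 0, 0, 0, 1, 1; 0, 0, 0, 0, 0, 0, -1]]
def matsE7 : List (Matrix (Fin 7) (Fin 7) ℤ) := matsE7_0 ++ matsE7_1 ++ matsE7_2
def progE7_0 : List (ℕ × ℕ) := [(0, 0), (2, 0), (3, 1), (3, 0), (5, 0), (6, 0), (7, 0), (8, 0), (9, 0), (10, 0), (11, 0), (12, 0), (13, 0), (14, 0), (15, 0), (4, 16), (6, 1), (18, 14), (17, 19), (20, 17)]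
def progE7_1 : List (ℕ × ℕ) := [(5, 1), (22, 15), (7, 1), (24, 13), (23, 25), (26, 23), (8, 1), (28, 12), (19, 29), (30, 19), (1, 31), (32, 1), (0, 1), (16, 0), (35, 0), (34, 36), (9, 1), (38, 11), (25, 39), (40, 25)]
def progE7_2 : List (ℕ × ℕ) := [(37, 41), (42, 37), (2, 1), (44, 35), (1, 29), (46, 1), (45, 47), (48, 45), (37, 39), (50, 37), (17, 51), (52, 17)]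
def progE7 : List (ℕ × ℕ) := progE7_0 ++ progE7_1 ++ progE7_2
def finE7 : List ℕ := [21, 1, 27, 33, 43, 49, 53]

set_option maxHeartbeats 0 in
theorem genE7 : ∃ T : Finset CoxDataE7.CM.Group, T.card = 1 ∧
    (∀ t ∈ T, ∃ (g : CoxDataE7.CM.Group) (i : Fin 7), t = g * CoxDataE7.CM.simple i * g⁻¹) ∧
    Subgroup.closure (({((List.finRange 7).map CoxDataE7.CM.simple).prod} : Set CoxDataE7.CM.Group) ∪ ↑T) = ⊤ :=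
  gen_one CoxDataE7.CM CoxDataE7.A CoxDataE7.hA CoxDataE7.Ls CoxDataE7.hchk [] 1 matsE7 progE7 finE7
    (by decide +kernel) (by decide +kernel) (by decide +kernel) (by decide +kernel)

def matsE8_0 : List (Matrix (Fin 8) (Fin 8) ℤ) := [!![-1, 0, -1, -1, -1, -1, -1, -1; 0, -1, 0, -1, -1, -1, -1, -1; 1, 0, 0, 0, 0, 0, 0, 0; 0, 1, 1, 1, 1, 1, 1, 1; 0, 0, 0, 1, 0, 0, 0, 0; 0, 0, 0, 0, 1, 0, 0, 0; 0, 0, 0, 0, 0, 1, 0, 0; 0, 0, 0, 0, 0, 0, 1, 0], !![-1, 0, 0, 0, 0, 0, 0, 0; 0, 1, 0, 0, 0, 0, 0, 0; 1, 0, 1, 0, 0, 0, 0, 0; 0, 0, 0, 1, 0, 0, 0, 0; 0, 0, 0, 0, 1, 0, 0, 0; 0, 0, 0, 0, 0, 1, 0, 0; 0, 0, 0, 0, 0, 0, 1, 0; 0, 0, 0, 0, 0, 0, 0, 1], !![0, -1, 0, -1, -1, -1, -1, 0; 0, 0, -1, -1, -1, -1, -1, 0;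 -1, 0, -1, -1, -1, -1, -1, -1; 1, 0, 1, 1, 1, 1, 1, 0; 0, 1, 1, 1, 1, 1, 1, 1; 0, 0, 0, 1, 0, 0, 0, 0; 0, 0, 0, 0, 1, 0, 0, 0; 0, 0, 0, 0, 0, 1, 0, 0], !![0, 0, -1, -1, -1, -1, 0, 0; -1, -1, -1, -2, -2, -2, -1, -1; 0, -1, 0, -1, -1, -1, -1, 0; 0, 1, 0, 1, 1, 1, 0, 0; 1, 0, 1, 1, 1, 1, 1, 0; 0, 1, 1, 1, 1, 1, 1, 1; 0, 0, 0, 1, 0, 0, 0, 0; 0, 0, 0, 0, 1, 0, 0, 0], !![-1, -1, -1, -2, -2, -1, -1, -1; 0, -1, -1, -2, -2, -1, -1, 0; 0, 0, -1, -1, -1, -1, 0, 0; 0, 0, 1, 1, 1, 0, 0, 0; 0, 1, 0, 1, 1, 1, 0, 0; 1, 0, 1, 1, 1, 1, 1, 0; 0, 1, 1, 1, 1, 1, 1, 1; 0, 0, 0, 1, 0, 0, 0, 0], !![0, -1, -1, -2, -2, -1, -1, -1; -1, -1, -1, -2, -2, -1, -1, 0; -1, 0, -1, -1, -1, -1, 0, 0; 1, 0, 1, 1, 1, 0, 0, 0; 0, 1,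 0, 1, 1, 1, 0, 0; 0, 0, 1, 1, 1, 1, 1, 0; 1, 1, 1, 1, 1, 1, 1, 1; 0, 0, 0, 1, 0, 0, 0, 0], !![0, -1, -1, -2, -1, -1, -1, 0; -1, -1, -2, -3, -2, -2, -1, -1; -1, -1, -1, -2, -2, -1, -1, -1; 1, 1, 1, 2, 1, 1, 1, 1; 0, 0, 1, 1, 1, 0, 0, 0; 0, 1, 0, 1, 1, 1, 0, 0; 1, 0, 1, 1, 1, 1, 1, 0; 0, 1, 1, 1, 1, 1, 1, 1], !![-1, -1, -2, -2, -2, -2, -1, -1; -1, -2, -2, -3, -3, -2, -2, -1; 0, -1, -1, -2, -1, -1, -1, 0; 0, 1, 1, 1, 1, 1, 1, 0; 1, 1, 1, 2, 1, 1, 1, 1; 0, 0, 1, 1, 1, 0, 0, 0; 0, 1, 0, 1, 1, 1, 0, 0; 1, 0, 1, 1, 1, 1, 1, 0], !![-1, -1, -1, -2, -2, -1, -1, 0; -1, -1, -2, -3, -2, -2, -1, 0; -1, -1, -2, -2, -2, -2, -1, -1; 1, 0, 1, 1, 1, 1, 0, 0; 0, 1, 1, 1, 1, 1, 1, 0; 1, 1, 1, 2, 1, 1, 1, 1; 0, 0,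 1, 1, 1, 0, 0, 0; 0, 1, 0, 1, 1, 1, 0, 0], !![0, -1, -1, -2, -1, -1, 0, 0; -1, -2, -2, -3, -3, -2, -1, -1; -1, -1, -1, -2, -2, -1, -1, 0; 0, 1, 0, 1, 1, 0, 0, 0; 1, 0, 1, 1, 1, 1, 0, 0; 0, 1, 1, 1, 1, 1, 1, 0; 1, 1, 1, 2, 1, 1, 1, 1; 0, 0, 1, 1, 1, 0, 0, 0], !![-1, -1, -2, -2, -2, -1, -1, -1; -1, -1, -2, -3, -2, -1, -1, 0; 0, -1, -1, -2, -1, -1, 0, 0; 0, 0, 1, 1, 0, 0, 0, 0; 0, 1, 0, 1, 1, 0, 0, 0; 1, 0, 1, 1, 1, 1, 0, 0; 0, 1, 1, 1, 1, 1, 1, 0; 1, 1, 1, 2, 1, 1, 1, 1], !![-1, -1, -1, -2, -1, -1, -1, 0; -1, -2, -2, -3, -2, -2, -1, -1; -1, -1, -2, -2, -2, -1, -1, -1; 1, 1, 1, 1, 1, 1, 1, 1; 0, 0, 1, 1, 0, 0, 0, 0; 0, 1, 0, 1, 1, 0, 0, 0; 1, 0, 1, 1, 1, 1, 0, 0; 0, 1, 1, 1, 1, 1, 1, 0], !![0, -1,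 -1, -1, -1, -1, 0, 0; -1, -1, -2, -2, -2, -1, -1, 0; -1, -1, -1, -2, -1, -1, -1, 0; 0, 0, 0, 0, 0, 0, 0, -1; 1, 1, 1, 1, 1, 1, 1, 1; 0, 0, 1, 1, 0, 0, 0, 0; 0, 1, 0, 1, 1, 0, 0, 0; 1, 0, 1, 1, 1, 1, 0, 0], !![-1, 0, -1, -1, -1, 0, 0, 0; -1, -1, -1, -2, -1, -1, 0, 0; 0, -1, -1, -1, -1, -1, 0, 0; 0, 0, 0, 0, 0, 0, -1, 0; 0, 0, 0, 0, 0, 0, 0, -1; 1, 1, 1, 1, 1, 1, 1, 1; 0, 0, 1, 1, 0, 0, 0, 0; 0, 1, 0, 1, 1, 0, 0, 0], !![0, -1, 0, -1, 0, 0, 0, 0; 0, -1, -1, -1, -1, 0, 0, 0; -1, 0, -1, -1, -1, 0, 0, 0; 0, 0, 0, 0, 0, -1, 0, 0; 0, 0, 0, 0, 0, 0, -1, 0; 0, 0, 0, 0, 0, 0, 0, -1; 1, 1, 1, 1, 1, 1, 1, 1; 0, 0, 1, 1, 0, 0, 0, 0], !![0, 0, -1, 0, 0, 0, 0, 0; -1, 0, -1, -1, 0, 0, 0, 0; 0, -1, 0, -1, 0, 0,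 0, 0; 0, 0, 0, 0, -1, 0, 0, 0; 0, 0, 0, 0, 0, -1, 0, 0; 0, 0, 0, 0, 0, 0, -1, 0; 0, 0, 0, 0, 0, 0, 0, -1; 1, 1, 1, 1, 1, 1, 1, 1], !![-1, 0, 0, 0, 0, 0, 0, 0; 0, -1, 0, 0, 0, 0, 0, 0; 0, 0, -1, 0, 0, 0, 0, 0; 0, 0, 0, -1, 0, 0, 0, 0; 0, 0, 0, 0, -1, 0, 0, 0; 0, 0, 0, 0, 0, -1, 0, 0; 0, 0, 0, 0, 0, 0, -1, 0; 0, 0, 0, 0, 0, 0, 0, -1], !![1, 0, 1, 1, 1, 1, 1, 1; 0, 1, 0, 1, 1, 1, 1, 1; -1, 0, 0, 0, 0, 0, 0, 0; 0, -1, -1, -1, -1, -1, -1, -1; 0, 0, 0, -1, 0, 0, 0, 0; 0, 0, 0, 0, -1, 0, 0, 0; 0, 0, 0, 0, 0, -1, 0, 0; 0, 0, 0, 0, 0, 0, -1, 0], !![0, 1, 0, 1, 1, 1, 1, 0; 0, 0, 1, 1, 1, 1, 1, 0; 1, 0, 1, 1, 1, 1, 1, 1; -1, 0, -1, -1, -1, -1, -1, 0; 0, -1, -1, -1, -1, -1, -1, -1; 0, 0, 0, -1, 0, 0, 0, 0;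 0, 0, 0, 0, -1, 0, 0, 0; 0, 0, 0, 0, 0, -1, 0, 0], !![0, 0, 1, 1, 1, 1, 0, 0; 1, 1, 1, 2, 2, 2, 1, 1; 0, 1, 0, 1, 1, 1, 1, 0; 0, -1, 0, -1, -1, -1, 0, 0; -1, 0, -1, -1, -1, -1, -1, 0; 0, -1, -1, -1, -1, -1, -1, -1; 0, 0, 0, -1, 0, 0, 0, 0; 0, 0, 0, 0, -1, 0, 0, 0]]
def matsE8_1 : List (Matrix (Fin 8) (Fin 8) ℤ) := [!![1, 1, 1, 2, 2, 1, 1, 1; 0, 1, 1, 2, 2, 1, 1, 0; 0, 0, 1, 1, 1, 1, 0, 0; 0, 0, -1, -1, -1, 0, 0, 0; 0, -1, 0, -1, -1, -1, 0, 0; -1, 0, -1, -1, -1, -1, -1, 0; 0, -1, -1, -1, -1, -1, -1, -1; 0, 0, 0, -1, 0, 0, 0, 0], !![0, 1, 1, 2, 1, 1, 1, 0; 1, 1, 2, 3, 2, 2, 1, 1; 1, 1, 1, 2, 2, 1, 1, 1; -1, -1, -1, -2, -1, -1, -1, -1; 0, 0, -1, -1, -1, 0, 0, 0; 0, -1, 0, -1, -1, -1, 0, 0; -1, 0,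 -1, -1, -1, -1, -1, 0; 0, -1, -1, -1, -1, -1, -1, -1], !![1, 1, 2, 2, 2, 2, 1, 1; 1, 2, 2, 3, 3, 2, 2, 1; 0, 1, 1, 2, 1, 1, 1, 0; 0, -1, -1, -1, -1, -1, -1, 0; -1, -1, -1, -2, -1, -1, -1, -1; 0, 0, -1, -1, -1, 0, 0, 0; 0, -1, 0, -1, -1, -1, 0, 0; -1, 0, -1, -1, -1, -1, -1, 0], !![1, 1, 1, 2, 2, 1, 1, 0; 1, 1, 2, 3, 2, 2, 1, 0; 1, 1, 2, 2, 2, 2, 1, 1; -1, 0, -1, -1, -1, -1, 0, 0; 0, -1, -1, -1, -1, -1, -1, 0; -1, -1, -1, -2, -1, -1, -1, -1; 0, 0, -1, -1, -1, 0, 0, 0; 0, -1, 0, -1, -1, -1, 0, 0], !![0, 1, 1, 2, 1, 1, 0, 0; 1, 2, 2, 3, 3, 2, 1, 1; 1, 1, 1, 2, 2, 1, 1, 0; 0, -1, 0, -1, -1, 0, 0, 0; -1, 0, -1, -1, -1, -1, 0, 0; 0, -1, -1, -1, -1, -1, -1, 0; -1, -1, -1, -2, -1, -1, -1, -1; 0, 0, -1,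 -1, -1, 0, 0, 0], !![1, 1, 2, 2, 2, 1, 1, 1; 1, 1, 2, 3, 2, 1, 1, 0; 0, 1, 1, 2, 1, 1, 0, 0; 0, 0, -1, -1, 0, 0, 0, 0; 0, -1, 0, -1, -1, 0, 0, 0; -1, 0, -1, -1, -1, -1, 0, 0; 0, -1, -1, -1, -1, -1, -1, 0; -1, -1, -1, -2, -1, -1, -1, -1], !![1, 1, 1, 2, 1, 1, 1, 0; 1, 2, 2, 3, 2, 2, 1, 1; 1, 1, 2, 2, 2, 1, 1, 1; -1, -1, -1, -1, -1, -1, -1, -1; 0, 0, -1, -1, 0, 0, 0, 0; 0, -1, 0, -1, -1, 0, 0, 0; -1, 0, -1, -1, -1, -1, 0, 0; 0, -1, -1, -1, -1, -1, -1, 0], !![0, 1, 1, 1, 1, 1, 0, 0; 1, 1, 2, 2, 2, 1, 1, 0; 1, 1, 1, 2, 1, 1, 1, 0; 0, 0, 0, 0, 0, 0, 0, 1; -1, -1, -1, -1, -1, -1, -1, -1; 0, 0, -1, -1, 0, 0, 0, 0; 0, -1, 0, -1, -1, 0, 0, 0; -1, 0, -1, -1, -1, -1, 0, 0], !![1, 1, 1, 1, 1, 1, 0, 0; 0,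 0, -1, -1, -1, -1, 0, 0; 0, -1, 0, -1, -1, -1, 0, 0; 0, 1, 1, 2, 1, 1, 0, 0; 0, 0, 0, 0, 1, 0, 0, 0; 0, -1, -1, -1, -1, 0, 0, 0; 0, 1, 1, 1, 1, 1, 1, 0; 0, 0, 0, 0, 0, 0, 0, 1], !![0, 0, -1, -1, -1, 0, 0, 0; 0, -1, -1, -2, -1, -1, 0, 0; -1, -1, -1, -1, -1, -1, 0, 0; 0, 0, 0, 0, 0, 0, -1, 0; 0, 0, 0, 0, 0, 0, 0, -1; 0, 1, 1, 1, 1, 1, 1, 1; 1, 0, 1, 1, 0, 0, 0, 0; 0, 1, 0, 1, 1, 0, 0, 0], !![1, 0, 1, 1, 1, 1, 0, 0; 0, 1, 1, 1, 1, 1, 0, 0; 0, 0, 0, -1, -1, -1, 0, 0; 0, 0, 0, 1, 0, 0, 0, 0; 0, 0, 0, 0, 1, 0, 0, 0; 0, 0, -1, -1, -1, 0, 0, 0; 0, 0, 1, 1, 1, 1, 1, 0; 0, 0, 0, 0, 0, 0, 0, 1], !![1, 1, 1, 1, 1, 1, 0, 0; 0, 0, 1, 1, 1, 1, 0, 0; 0, -1, 0, -1, -1, -1, 0, 0; 0, 1, 0, 1, 0, 0, 0, 0; 0, 0, 0,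 0, 1, 0, 0, 0; 0, -1, -1, -1, -1, 0, 0, 0; 0, 1, 1, 1, 1, 1, 1, 0; 0, 0, 0, 0, 0, 0, 0, 1], !![1, 0, 0, 0, 0, 0, 0, 0; 0, -1, 0, 0, 0, 0, 0, 0; 0, 0, 1, 0, 0, 0, 0, 0; 0, 1, 0, 1, 0, 0, 0, 0; 0, 0, 0, 0, 1, 0, 0, 0; 0, 0, 0, 0, 0, 1, 0, 0; 0, 0, 0, 0, 0, 0, 1, 0; 0, 0, 0, 0, 0, 0, 0, 1], !![0, 0, -1, -1, -1, -1, -1, -1; 0, -1, 0, -1, -1, -1, -1, -1; -1, 0, 0, 0, 0, 0, 0, 0; 1, 1, 1, 1, 1, 1, 1, 1; 0, 0, 0, 1, 0, 0, 0, 0; 0, 0, 0, 0, 1, 0, 0, 0; 0, 0, 0, 0, 0, 1, 0, 0; 0, 0, 0, 0, 0, 0, 1, 0], !![1, 0, 1, 1, 1, 0, 0, 0; 1, 1, 1, 2, 1, 1, 0, 0; 0, 1, 1, 1, 1, 1, 0, 0; 0, 0, 0, 0, 0, 0, 1, 0; 0, 0, 0, 0, 0, 0, 0, 1; -1, -1, -1, -1, -1, -1, -1, -1; 0, 0, -1, -1, 0, 0, 0, 0; 0, -1, 0, -1, -1, 0, 0,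 0], !![0, 1, 0, 1, 0, 0, 0, 0; 0, 1, 1, 1, 1, 0, 0, 0; 1, 0, 1, 1, 1, 0, 0, 0; 0, 0, 0, 0, 0, 1, 0, 0; 0, 0, 0, 0, 0, 0, 1, 0; 0, 0, 0, 0, 0, 0, 0, 1; -1, -1, -1, -1, -1, -1, -1, -1; 0, 0, -1, -1, 0, 0, 0, 0], !![0, 0, 1, 0, 0, 0, 0, 0; 1, 0, 1, 1, 0, 0, 0, 0; 0, 1, 0, 1, 0, 0, 0, 0; 0, 0, 0, 0, 1, 0, 0, 0; 0, 0, 0, 0, 0, 1, 0, 0; 0, 0, 0, 0, 0, 0, 1, 0; 0, 0, 0, 0, 0, 0, 0, 1; -1, -1, -1, -1, -1, -1, -1, -1], !![1, 0, 1, 0, 0, 0, 0, 0; 0, 1, 0, 0, 0, 0, 0, 0; 0, 0, -1, 0, 0, 0, 0, 0; 0, 0, 1, 1, 0, 0, 0, 0; 0, 0, 0, 0, 1, 0, 0, 0; 0, 0, 0, 0, 0, 1, 0, 0; 0, 0, 0, 0, 0, 0, 1, 0; 0, 0, 0, 0, 0, 0, 0, 1], !![0, -1, -1, -2, -2, -1, -1, 0; -1, -1, -2, -3, -2, -2, -1, 0; -1, -1, -2, -2, -2, -2, -1,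 -1; 0, 0, 1, 1, 1, 1, 0, 0; 1, 1, 1, 1, 1, 1, 1, 0; 0, 1, 1, 2, 1, 1, 1, 1; 1, 0, 1, 1, 1, 0, 0, 0; 0, 1, 0, 1, 1, 1, 0, 0], !![1, 1, 1, 2, 1, 1, 0, 0; 0, 1, 0, 0, 0, 0, 0, 0; 0, 0, 1, 0, 0, 0, 0, 0; 0, -1, -1, -1, -1, -1, 0, 0; 0, 1, 1, 2, 2, 1, 0, 0; 0, -1, -1, -2, -1, 0, 0, 0; 0, 1, 1, 2, 1, 1, 1, 0; 0, 0, 0, 0, 0, 0, 0, 1]]
def matsE8_2 : List (Matrix (Fin 8) (Fin 8) ℤ) := [!![1, 1, 1, 1, 1, 1, 0, 0; 0, 1, 0, 1, 0, 0, 0, 0; 0, 0, 1, 1, 0, 0, 0, 0; 0, -1, -1, -2, -1, -1, 0, 0; 0, 1, 1, 2, 2, 1, 0, 0; 0, -1, -1, -1, -1, 0, 0, 0; 0, 1, 1, 1, 1, 1, 1, 0; 0, 0, 0, 0, 0, 0, 0, 1], !![1, 0, 0, 0, 0, 0, 0, 0; 0, 1, 0, 1, 0, 0, 0, 0; 0, 0, 1, 1, 0, 0, 0, 0; 0, 0, 0, -1, 0, 0, 0, 0; 0, 0, 0, 1, 1, 0,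 0, 0; 0, 0, 0, 0, 0, 1, 0, 0; 0, 0, 0, 0, 0, 0, 1, 0; 0, 0, 0, 0, 0, 0, 0, 1], !![-1, -1, -1, -2, -1, -1, -1, 0; -1, -1, -2, -3, -2, -2, -1, -1; 0, -1, -1, -2, -2, -1, -1, -1; 0, 1, 1, 2, 1, 1, 1, 1; 1, 0, 1, 1, 1, 0, 0, 0; 0, 1, 0, 1, 1, 1, 0, 0; 0, 0, 1, 1, 1, 1, 1, 0; 1, 1, 1, 1, 1, 1, 1, 1], !![0, -1, -1, -2, -1, -1, -1, 0; 0, 1, 0, 0, 0, 0, 0, 0; 1, 1, 2, 2, 1, 1, 1, 0; -1, -1, -1, -1, -1, -1, -1, 0; 1, 1, 1, 2, 2, 1, 1, 0; 0, 0, 0, 0, 0, 1, 0, 0; -1, -1, -1, -2, -1, -1, 0, 0; 1, 1, 1, 2, 1, 1, 1, 1], !![-1, -1, -1, -2, -1, -1, 0, 0; -1, -2, -2, -3, -3, -2, -1, -1; 0, -1, -1, -2, -2, -1, -1, 0; 0, 1, 0, 1, 1, 0, 0, 0; 0, 0, 1, 1, 1, 1, 0, 0; 1, 1, 1, 1, 1, 1, 1, 0; 0, 1, 1, 2, 1, 1, 1, 1;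 1, 0, 1, 1, 1, 0, 0, 0], !![0, -1, -1, -2, -2, -1, -1, 0; 0, 1, 0, 0, 0, 0, 0, 0; 1, 1, 2, 2, 2, 1, 1, 0; 0, 0, 0, 1, 0, 0, 0, 0; -1, -1, -1, -2, -1, -1, -1, 0; 1, 1, 1, 2, 2, 2, 1, 0; -1, -1, -1, -2, -2, -1, 0, 0; 1, 1, 1, 2, 2, 1, 1, 1], !![0, -1, -1, -2, -1, -1, -1, 0; 0, 1, 0, 0, 0, 0, 0, 0; 1, 1, 2, 2, 1, 1, 1, 0; 0, 0, 0, 1, 1, 0, 0, 0; -1, -1, -1, -2, -2, -1, -1, 0; 1, 1, 1, 2, 2, 2, 1, 0; -1, -1, -1, -2, -1, -1, 0, 0; 1, 1, 1, 2, 1, 1, 1, 1], !![1, 0, 0, 0, 0, 0, 0, 0; 0, 1, 0, 0, 0, 0, 0, 0; 0, 0, 1, 0, 0, 0, 0, 0; 0, 0, 0, 1, 1, 0, 0, 0; 0, 0, 0, 0, -1, 0, 0, 0; 0, 0, 0, 0, 1, 1, 0, 0; 0, 0, 0, 0, 0, 0, 1, 0; 0, 0, 0, 0, 0, 0, 0, 1], !![-1, -1, -2, -2, -2, -2, -1, -1; -1, -2, -2, -3,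 -3, -2, -2, -1; -1, -1, -1, -2, -1, -1, -1, 0; 1, 1, 1, 1, 1, 1, 1, 0; 0, 1, 1, 2, 1, 1, 1, 1; 1, 0, 1, 1, 1, 0, 0, 0; 0, 1, 0, 1, 1, 1, 0, 0; 0, 0, 1, 1, 1, 1, 1, 0], !![1, 0, 0, 0, 0, 0, 0, 0; 0, 1, 0, 0, 0, 0, 0, 0; -1, -1, -1, -2, -2, -1, -1, -1; 1, 1, 2, 3, 2, 1, 1, 1; -1, -1, -2, -2, -1, -1, -1, -1; 1, 1, 2, 2, 2, 2, 1, 1; 0, 0, 0, 0, 0, 0, 1, 0; -1, -1, -2, -2, -2, -1, -1, 0], !![-1, -1, -2, -2, -2, -1, -1, -1; -1, -1, -2, -3, -2, -1, -1, 0; -1, -1, -1, -2, -1, -1, 0, 0; 1, 0, 1, 1, 0, 0, 0, 0; 0, 1, 0, 1, 1, 0, 0, 0; 0, 0, 1, 1, 1, 1, 0, 0; 1, 1, 1, 1, 1, 1, 1, 0; 0, 1, 1, 2, 1, 1, 1, 1], !![1, 0, 0, 0, 0, 0, 0, 0; 0, 1, 0, 0, 0, 0, 0, 0; -1, -1, -1, -2, -2, -2, -1, -1; 1, 1, 2, 3, 2,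 2, 1, 1; 0, 0, 0, 0, 1, 0, 0, 0; -1, -1, -2, -2, -2, -1, -1, -1; 1, 1, 2, 2, 2, 2, 2, 1; -1, -1, -2, -2, -2, -2, -1, 0], !![1, 0, 0, 0, 0, 0, 0, 0; 0, 1, 0, 0, 0, 0, 0, 0; -1, -1, -1, -2, -2, -1, -1, -1; 1, 1, 2, 3, 2, 1, 1, 1; 0, 0, 0, 0, 1, 1, 0, 0; -1, -1, -2, -2, -2, -2, -1, -1; 1, 1, 2, 2, 2, 2, 2, 1; -1, -1, -2, -2, -2, -1, -1, 0], !![1, 0, 0, 0, 0, 0, 0, 0; 0, 1, 0, 0, 0, 0, 0, 0; 0, 0, 1, 0, 0, 0, 0, 0; 0, 0, 0, 1, 0, 0, 0, 0; 0, 0, 0, 0, 1, 1, 0, 0; 0, 0, 0, 0, 0, -1, 0, 0; 0, 0, 0, 0, 0, 1, 1, 0; 0, 0, 0, 0, 0, 0, 0, 1], !![0, -1, -1, -2, -1, -1, -1, 0; -1, -2, -2, -3, -2, -2, -1, -1; -1, -1, -2, -2, -2, -1, -1, -1; 0, 1, 1, 1, 1, 1, 1, 1; 1, 0, 1, 1, 0, 0, 0, 0; 0, 1, 0, 1, 1, 0, 0,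 0; 0, 0, 1, 1, 1, 1, 0, 0; 1, 1, 1, 1, 1, 1, 1, 0], !![1, 1, 1, 2, 1, 1, 1, 0; 0, 1, 0, 0, 0, 0, 0, 0; 0, 0, 1, 0, 0, 0, 0, 0; 0, -1, -1, -1, -1, -1, -1, 0; 0, 1, 1, 2, 2, 1, 1, 0; 0, 0, 0, 0, 0, 1, 0, 0; 0, -1, -1, -2, -1, -1, 0, 0; 0, 1, 1, 2, 1, 1, 1, 1], !![1, 1, 1, 2, 1, 1, 0, 0; 0, 1, 0, 0, 0, 0, 0, 0; 0, 0, 1, 0, 0, 0, 0, 0; 0, -1, -1, -1, -1, -1, 0, 0; 0, 1, 1, 2, 2, 1, 0, 0; 0, 0, 0, 0, 0, 1, 1, 0; 0, -1, -1, -2, -1, -1, -1, 0; 0, 1, 1, 2, 1, 1, 1, 1], !![1, 0, 0, 0, 0, 0, 0, 0; 0, 1, 0, 0, 0, 0, 0, 0; 0, 0, 1, 0, 0, 0, 0, 0; 0, 0, 0, 1, 0, 0, 0, 0; 0, 0, 0, 0, 1, 0, 0, 0; 0, 0, 0, 0, 0, 1, 1, 0; 0, 0, 0, 0, 0, 0, -1, 0; 0, 0, 0, 0, 0, 0, 1, 1], !![-1, -1, -1, -1, -1, -1, 0, 0; -1, -1,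 -2, -2, -2, -1, -1, 0; 0, -1, -1, -2, -1, -1, -1, 0; 0, 0, 0, 0, 0, 0, 0, -1; 0, 1, 1, 1, 1, 1, 1, 1; 1, 0, 1, 1, 0, 0, 0, 0; 0, 1, 0, 1, 1, 0, 0, 0; 0, 0, 1, 1, 1, 1, 0, 0], !![0, -1, -1, -2, -2, -1, -1, -1; 0, 1, 0, 0, 0, 0, 0, 0; 1, 1, 2, 2, 2, 1, 1, 1; 0, 0, 0, 1, 0, 0, 0, 0; -1, -1, -1, -2, -1, -1, -1, -1; 1, 1, 1, 2, 2, 2, 1, 1; 0, 0, 0, 0, 0, 0, 1, 0; -1, -1, -1, -2, -2, -1, -1, 0]]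
def matsE8_3 : List (Matrix (Fin 8) (Fin 8) ℤ) := [!![0, -1, -1, -2, -2, -1, -1, 0; 0, 1, 0, 0, 0, 0, 0, 0; 1, 1, 2, 2, 2, 1, 1, 0; 0, 0, 0, 1, 0, 0, 0, 0; -1, -1, -1, -2, -1, -1, -1, 0; 1, 1, 1, 2, 2, 2, 1, 0; 0, 0, 0, 0, 0, 0, 1, 1; -1, -1, -1, -2, -2, -1, -1, -1], !![1, 0, 0, 0, 0, 0, 0, 0; 0, 1, 0, 0, 0, 0, 0, 0; 0, 0, 1, 0, 0, 0, 0, 0; 0, 0, 0, 1, 0, 0, 0, 0; 0, 0, 0, 0, 1, 0, 0, 0; 0, 0, 0, 0, 0, 1, 0, 0; 0, 0, 0, 0, 0, 0, 1, 1; 0, 0, 0, 0, 0, 0, 0, -1]]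
def matsE8 : List (Matrix (Fin 8) (Fin 8) ℤ) := matsE8_0 ++ matsE8_1 ++ matsE8_2 ++ matsE8_3
def progE8_0 : List (ℕ × ℕ) := [(0, 0), (2, 0), (3, 0), (4, 1), (4, 0), (6, 0), (7, 0), (8, 0), (9, 0), (10, 0), (11, 0), (12, 0), (13, 0), (14, 0), (15, 0), (16, 0), (17, 0), (18, 0), (19, 0), (20, 0)]
def progE8_1 : List (ℕ × ℕ) := [(21, 0), (22, 0), (23, 0), (24, 0), (25, 0), (26, 0), (5, 27), (13, 1), (29, 19), (28, 30), (31, 28), (0, 1), (27, 0), (34, 0), (35, 0), (33, 36), (8, 1), (38, 24), (28, 39), (40, 28)]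
def progE8_2 : List (ℕ × ℕ) := [(6, 1), (42, 26), (9, 1), (44, 23), (43, 45), (46, 43), (7, 1), (48, 25), (10, 1), (50, 22), (49, 51), (52, 49), (11, 1), (54, 21), (39, 55), (56, 39), (12, 1), (58, 20), (45, 59), (60, 45)]
def progE8 : List (ℕ × ℕ) := progE8_0 ++ progE8_1 ++ progE8_2
def finE8 : List ℕ := [1, 32, 37, 41, 47, 53, 57, 61]

set_option maxHeartbeats 0 in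
theorem genE8 : ∃ T : Finset CoxDataE8.CM.Group, T.card = 1 ∧
    (∀ t ∈ T, ∃ (g : CoxDataE8.CM.Group) (i : Fin 8), t = g * CoxDataE8.CM.simple i * g⁻¹) ∧
    Subgroup.closure (({((List.finRange 8).map CoxDataE8.CM.simple).prod} : Set CoxDataE8.CM.Group) ∪ ↑T) = ⊤ :=
  gen_one CoxDataE8.CM CoxDataE8.A CoxDataE8.hA CoxDataE8.Ls CoxDataE8.hchk [] 0 matsE8 progE8 finE8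
    (by decide +kernel) (by decide +kernel) (by decide +kernel) (by decide +kernel)

/-- The Coxeter groups of types B₂, G₂, E₆, E₇, E₈ are generated by the Coxeter element `s₁ s₂ ⋯ s_l` together with one suitable reflection (a conjugate of a simple reflection); for types D₄ and F₄ the Coxeter element together with two suitable reflections suffices. -/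
theorem result (c : (Σ n : ℕ, CoxeterMatrix (Fin n)) × ℕ)
    (hc : c ∈ [(⟨2, CoxeterMatrix.B 2⟩, 1), (⟨2, CoxeterMatrix.G₂⟩, 1), (⟨4, Cfsg.Lie.coxeterD4⟩, 2), (⟨4, CoxeterMatrix.F₄⟩, 2),
      (⟨6, CoxeterMatrix.E₆⟩, 1), (⟨7, CoxeterMatrix.E₇⟩, 1), (⟨8, CoxeterMatrix.E₈⟩, 1)]) :
    ∃ T : Finset c.1.2.Group, T.card = c.2 ∧ (∀ t ∈ T, ∃ (g : c.1.2.Group) (i : Fin c.1.1), t = g * c.1.2.simple i * g⁻¹) ∧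
      Subgroup.closure (({((List.finRange c.1.1).map c.1.2.simple).prod} : Set c.1.2.Group) ∪ ↑T) = ⊤ := by
  simp only [List.mem_cons, List.not_mem_nil, or_false] at hc
  rcases hc with rfl | rfl | rfl | rfl | rfl | rfl | rfl
  · exact genB2
  · exact genG2
  · exact genD4
  · exact genF4
  · exact genE6
  · exact genE7
  · exact genE8

end Cfsg.Agent.S2419
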