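import Cfsg.Statements.S2468
import Cfsg.Agent.Helper14.PslAdj
import Cfsg.Agent.Helper14.PslAdj2

set_option autoImplicit false
open Cfsg

namespace Cfsg.Agent.S2468

open Matrix Cfsg.Agent.Helper14.PslAdj Cfsg.Agent.Helper14.PslAdj2


/-- Adjacency of two odd primes in the prime graph of PSL(n,q): let F be a finite field of characteristic p with q elements, n ≥ 2 with PSL(n,F) simple, and let r ≠ s be odd primes different from p dividing the order of PSL(n,F). Let k and l be the multiplicative orders of q modulo r and modulo s, and suppose 2 ≤ k ≤ l. Then PSL(n,F) has NO element of order r·s if and only if k + l > n and k does not divide l. -/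
theorem result {F : Type*} [Field F] [Fintype F] (p : ℕ) [Fact p.Prime] [CharP F p] (n : ℕ) (hn : 2 ≤ n) (hsmall : n = 2 → 4 ≤ Fintype.card F)
    (r s : ℕ) (hr : r.Prime) (hs : s.Prime) (hr2 : r ≠ 2) (hs2 : s ≠ 2) (hrp : r ≠ p) (hsp : s ≠ p) (hrs : r ≠ s)
    (hrG : r ∣ Nat.card (Matrix.ProjectiveSpecialLinearGroup (Fin n) F)) (hsG : s ∣ Nat.card (Matrix.ProjectiveSpecialLinearGroup (Fin n) F))
    (k l : ℕ) (hk : k = orderOf ((Fintype.card F : ℕ) : ZMod r)) (hl : l = orderOf ((Fintype.card F : ℕ) : ZMod s))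
    (h2k : 2 ≤ k) (hkl : k ≤ l) :
    (r * s ∉ Set.range (orderOf : Matrix.ProjectiveSpecialLinearGroup (Fin n) F → ℕ)) ↔ (n < k + l ∧ ¬ k ∣ l) := by
  classical
  have hpp : p.Prime := Fact.out
  haveI := Fact.mk hr
  haveI := Fact.mk hs
  obtain ⟨f, -, hq⟩ := FiniteField.card F p
  have hrq : ¬ r ∣ Fintype.card F := by
    rw [hq]
    intro h
    exact hrp ((Nat.prime_dvd_prime_iff_eq hr hpp).mp (hr.dvd_of_dvd_pow h))
  have hsq : ¬ s ∣ Fintype.card F := by
    rw [hq]
    intro h
    exact hsp ((Nat.prime_dvd_prime_iff_eq hs hpp).mp (hs.dvd_of_dvd_pow h))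
  have hr1 : ¬ r ∣ Fintype.card F - 1 := not_dvd_sub_one r k hk h2k
  have hs1 : ¬ s ∣ Fintype.card F - 1 := not_dvd_sub_one s l hl (by omega)
  have hone : ∀ (d : ℕ) (hd : 1 ≤ d) (c : F),
      (1 : Matrix (Fin d) (Fin d) F) = c • (1 : Matrix (Fin d) (Fin d) F) → c = 1 := by
    intro d hd c h
    have h1 := congrFun (congrFun h ⟨0, by omega⟩) ⟨0, by omega⟩
    rw [Matrix.smul_apply, Matrix.one_apply_eq, smul_eq_mul, mul_one] at h1
    exact h1.symm
  constructor
  · intro hno
    by_contra hcon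
    apply hno
    suffices h : ∃ g : Matrix.ProjectiveSpecialLinearGroup (Fin n) F, orderOf g = r * s by
      obtain ⟨g, hg⟩ := h
      exact ⟨g, hg⟩
    by_cases hkdl : k ∣ l
    · have hln : l ≤ n := by
        rw [hl]
        exact ord_le_of_dvd n (by omega) s hsq hsG
      obtain ⟨C, hCdet, hCrs, hCj⟩ := exists_rs_mat (F := F) l r s hrs hsq k hk hl h2k hkdl (by omega)
      obtain ⟨M, hMdet, hM⟩ := exists_block n l (n - l) (by omega) C
        (1 : Matrix (Fin (n - l)) (Fin (n - l)) F)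
      have hscal : ∀ (j : ℕ) (c : F), C ^ j = c • (1 : Matrix (Fin l) (Fin l) F) →
          r * s ∣ j * (Fintype.card F - 1) := by
        intro j c hc
        have hc0 : c ≠ 0 := by
          intro h0
          rw [h0, zero_smul] at hc
          have h1 : C ^ (j * (r * s)) = 1 := by rw [mul_comm, pow_mul, hCrs, one_pow]
          rw [pow_mul, hc, zero_pow (Nat.mul_pos hr.pos hs.pos).ne'] at h1
          have h01 := congrFun (congrFun h1 ⟨0, by omega⟩) ⟨0, by omega⟩
          rw [Matrix.zero_apply, Matrix.one_apply_eq] at h01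
          exact zero_ne_one h01
        apply hCj
        rw [pow_mul, hc, smul_pow, one_pow, FiniteField.pow_card_sub_one_eq_one c hc0, one_smul]
      refine psl_order n M ?_ r s hr hs hrs ⟨1, ?_⟩ ?_ ?_
      · rw [hMdet, hCdet, Matrix.det_one, mul_one]
      · rw [hM]
        exact ⟨by rw [hCrs, one_smul], by rw [one_pow, one_smul]⟩
      · intro c hc
        obtain ⟨h1, -⟩ := (hM r c).mp hc
        have h2 := hscal r c h1
        exact hs1 (Nat.dvd_of_mul_dvd_mul_left hr.pos h2)
      · intro c hc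
        obtain ⟨h1, -⟩ := (hM s c).mp hc
        have h2 := hscal s c h1
        rw [mul_comm r s] at h2
        exact hr1 (Nat.dvd_of_mul_dvd_mul_left hs.pos h2)
    · have hnkl : k + l ≤ n := by
        by_contra h
        exact hcon ⟨by omega, hkdl⟩
      obtain ⟨Cr, hCrdet, hCrr, hCr1⟩ := exists_prime_mat (F := F) k r hk h2k
      obtain ⟨Cs, hCsdet, hCss, hCs1⟩ := exists_prime_mat (F := F) l s hl (by omega)
      obtain ⟨Y, hYdet, hY⟩ := exists_block (n - k) l (n - k - l) (by omega) Cs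
        (1 : Matrix (Fin (n - k - l)) (Fin (n - k - l)) F)
      obtain ⟨M, hMdet, hM⟩ := exists_block n k (n - k) (by omega) Cr Y
      refine psl_order n M ?_ r s hr hs hrs ⟨1, ?_⟩ ?_ ?_
      · rw [hMdet, hYdet, hCrdet, hCsdet, Matrix.det_one, mul_one, mul_one]
      · rw [hM, hY]
        refine ⟨?_, ?_, ?_⟩
        · rw [pow_mul, hCrr, one_pow, one_smul]
        · rw [mul_comm, pow_mul, hCss, one_pow, one_smul]
        · rw [one_pow, one_smul]
      · intro c hc
        obtain ⟨h1, h2⟩ := (hM r c).mp hc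
        rw [hCrr] at h1
        have hc1 : c = 1 := hone k (by omega) c h1
        rw [hc1] at h2
        obtain ⟨h3, -⟩ := (hY r 1).mp h2
        rw [one_smul] at h3
        have h4 := pow_gcd_eq_one.mpr ⟨h3, hCss⟩
        rw [Nat.Coprime.gcd_eq_one ((Nat.coprime_primes hr hs).mpr hrs), pow_one] at h4
        exact hCs1 h4
      · intro c hc
        obtain ⟨h1, h2⟩ := (hM s c).mp hc
        obtain ⟨h3, -⟩ := (hY s c).mp h2
        rw [hCss] at h3
        have hc1 : c = 1 := hone l (by omega) c h3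
        rw [hc1, one_smul] at h1
        have h5 := pow_gcd_eq_one.mpr ⟨h1, hCrr⟩
        rw [Nat.Coprime.gcd_eq_one ((Nat.coprime_primes hs hr).mpr (Ne.symm hrs)), pow_one] at h5
        exact hCr1 h5
  · rintro ⟨hn', hkdl⟩ ⟨g, hg⟩
    have ha : orderOf (g ^ s) = r := by
      rw [orderOf_pow' g hs.ne_zero, hg, Nat.gcd_eq_right (Dvd.intro_left _ rfl),
        Nat.mul_div_cancel r hs.pos]
    have hb : orderOf (g ^ r) = s := by
      rw [orderOf_pow' g hr.ne_zero, hg, Nat.gcd_eq_right (Dvd.intro _ rfl),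
        Nat.mul_div_cancel_left s hr.pos]
    have hab : g ^ s * g ^ r = g ^ r * g ^ s := (Commute.pow_pow_self g s r).eq
    obtain ⟨A, B, hAr, hA1, hBs, hB1, hAB⟩ :=
      lift_ss n hn r s hr hs hr1 hs1 (g ^ s) (g ^ r) ha hb hab
    obtain ⟨φ, hφ⟩ : ∃ φ : Matrix (Fin n) (Fin n) F ≃ₐ[F] Module.End F (Fin n → F),
        φ = Matrix.toLinAlgEquiv' := ⟨_, rfl⟩
    refine no_rs_lin r s hrq hsq n (Module.finrank_fin_fun F) k l hk hl (by omega) hkl hn' hkdl
      (φ A) (φ B) ?_ ?_ ?_ ?_ ?_
    · rw [← map_pow, hAr, map_one]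
    · intro h; rw [← map_one φ] at h; exact hA1 (φ.injective h)
    · rw [← map_pow, hBs, map_one]
    · intro h; rw [← map_one φ] at h; exact hB1 (φ.injective h)
    · rw [← map_mul, ← map_mul, hAB]

end Cfsg.Agent.S2468
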