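import Cfsg.Statements.S2469
import Cfsg.Agent.Helper14.PrimeOrdSp
import Cfsg.Agent.Helper14.SylTorus
import Cfsg.Agent.Helper2.SpEmbed
import Cfsg.Agent.S0766
import Cfsg.Agent.Helper10.PSpRS
import Cfsg.Agent.Helper20.PSpRS
import Cfsg.Agent.Helper22.PSpRS
import Cfsg.Agent.Helper3.PSpRS
import Cfsg.Agent.Helper29.PSpRS
import Cfsg.Agent.Helper10.PSpRS2
import Cfsg.Agent.Helper16.PSpRS
import Cfsg.Agent.Helper28.PSpRS

set_option autoImplicit false
open Cfsg

namespace Cfsg.Agent.S2469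

/-- Adjacency of two odd primes in the prime graph of PSp(2n,q): let F be a finite field of characteristic p with q elements, n ≥ 2 with PSp(2n,F) simple, and let r ≠ s be odd primes different from p dividing the order of PSp(2n,F). Let k, l be the multiplicative orders of q modulo r and s, put η(m) = m for odd m and η(m) = m/2 for even m, and suppose η(k) ≤ η(l). Then PSp(2n,F) has NO element of order r·s if and only if η(k) + η(l) > n and l/k is not an odd integer. -/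
theorem result {F : Type*} [Field F] [Fintype F] (p : ℕ) [Fact p.Prime] [CharP F p] (n : ℕ) (hn : 2 ≤ n) (hsmall : n = 2 → 3 ≤ Fintype.card F)
    (r s : ℕ) (hr : r.Prime) (hs : s.Prime) (hr2 : r ≠ 2) (hs2 : s ≠ 2) (hrp : r ≠ p) (hsp : s ≠ p) (hrs : r ≠ s)
    (hrG : r ∣ Nat.card (Cfsg.PSp n F)) (hsG : s ∣ Nat.card (Cfsg.PSp n F))
    (k l ηk ηl : ℕ) (hk : k = orderOf ((Fintype.card F : ℕ) : ZMod r)) (hl : l = orderOf ((Fintype.card F : ℕ) : ZMod s))
    (hηk : (Odd k ∧ ηk = k) ∨ (Even k ∧ 2 * ηk = k)) (hηl : (Odd l ∧ ηl = l) ∨ (Even l ∧ 2 * ηl = l)) (hkl : ηk ≤ ηl) :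
    (r * s ∉ Set.range (orderOf : Cfsg.PSp n F → ℕ)) ↔ (n < ηk + ηl ∧ ¬ ∃ t : ℕ, Odd t ∧ l = k * t) := by
  classical
  have hpp : p.Prime := Fact.out
  haveI := Fact.mk hr
  haveI := Fact.mk hs
  obtain ⟨f0, -, hq⟩ := FiniteField.card F p
  have hrq : ¬ r ∣ Fintype.card F := by
    rw [hq]
    intro h
    exact hrp ((Nat.prime_dvd_prime_iff_eq hr hpp).mp (hr.dvd_of_dvd_pow h))
  have hsq : ¬ s ∣ Fintype.card F := by
    rw [hq]
    intro h
    exact hsp ((Nat.prime_dvd_prime_iff_eq hs hpp).mp (hs.dvd_of_dvd_pow h))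
  have hq1 : 1 < Fintype.card F := Fintype.one_lt_card
  have hk0 : 0 < k := by rw [hk]; exact Cfsg.Agent.Helper14.SylTorus.ord_pos r _ hrq
  have hl0 : 0 < l := by rw [hl]; exact Cfsg.Agent.Helper14.SylTorus.ord_pos s _ hsq
  have hηk1 : 1 ≤ ηk := by rcases hηk with ⟨-, h⟩ | ⟨-, h⟩ <;> omega
  have hηl1 : 1 ≤ ηl := by rcases hηl with ⟨-, h⟩ | ⟨-, h⟩ <;> omega
  have hro : Odd r := hr.odd_of_ne_two hr2
  have hso : Odd s := hs.odd_of_ne_two hs2
  have hcop : Nat.Coprime r s := (Nat.coprime_primes hr hs).mpr hrs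
  have hrdvd : ∀ j, k ∣ j → r ∣ Fintype.card F ^ j - 1 := fun j hj =>
    (Cfsg.Agent.Helper14.SylTorus.dvd_iff r _ hq1.le j).mpr (by rw [← hk]; exact hj)
  have hsdvd : ∀ j, l ∣ j → s ∣ Fintype.card F ^ j - 1 := fun j hj =>
    (Cfsg.Agent.Helper14.SylTorus.dvd_iff s _ hq1.le j).mpr (by rw [← hl]; exact hj)
  constructor
  · intro hno
    refine ⟨?_, ?_⟩
    · by_contra hcon
      have hle : ηk + ηl ≤ n := by omega
      have h1 : r ∣ Fintype.card F ^ (2 * ηk) - 1 := hrdvd _ (by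
        rcases hηk with ⟨-, h⟩ | ⟨-, h⟩
        · rw [h]; exact Dvd.intro_left 2 rfl
        · rw [h])
      have h2 : s ∣ Fintype.card F ^ (2 * ηl) - 1 := hsdvd _ (by
        rcases hηl with ⟨-, h⟩ | ⟨-, h⟩
        · rw [h]; exact Dvd.intro_left 2 rfl
        · rw [h])
      obtain ⟨g, hg⟩ := Cfsg.Agent.Helper20.PSpRS.exists_rs_blocks (F := F) p n ηk ηl r s hr hs hr2 hs2 hrs hηk1 hηl1 hle h1 h2
      exact hno ⟨g, hg⟩
    · rintro ⟨t, ht, hlk⟩
      have hln : ηl ≤ n := Cfsg.Agent.Helper3.PSpRS.eta_le_of_dvd (F := F) p n s l ηl hs hsp hsG hl hηl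
      rcases hηl with ⟨hlo, hηl'⟩ | ⟨hle, hηl'⟩
      · have h1 : r ∣ Fintype.card F ^ l - 1 := hrdvd l ⟨t, hlk⟩
        have h2 : s ∣ Fintype.card F ^ l - 1 := hsdvd l dvd_rfl
        have h3 : r * s ∣ Fintype.card F ^ l - 1 := Nat.Coprime.mul_dvd_of_dvd_of_dvd hcop h1 h2
        obtain ⟨x, hx⟩ := Cfsg.Agent.Helper29.PSpRS.sp_of_dvd_sub (F := F) n l (r * s) hl0 (by omega) h3
        refine hno ⟨(QuotientGroup.mk x : Cfsg.PSp n F), ?_⟩
        rw [Cfsg.Agent.Helper22.PSpRS.psp_order n x (by rw [hx]; exact hro.mul hso), hx]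
      · have hke : Even k := by
          rw [hlk] at hle
          exact (Nat.even_mul.mp hle).resolve_right (Nat.not_even_iff_odd.mpr ht)
        have h1 : r ∣ Fintype.card F ^ (k / 2) + 1 :=
          Cfsg.Agent.Helper14.PrimeOrdSp.dvd_pow_half_add_one hr hk hk0 hke
        have h2 : s ∣ Fintype.card F ^ (l / 2) + 1 :=
          Cfsg.Agent.Helper14.PrimeOrdSp.dvd_pow_half_add_one hs hl hl0 hle
        have h3 : l / 2 = ηl := by omega
        rw [h3] at h2
        obtain ⟨c, hc⟩ := hke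
        have hc2 : k / 2 = c := by omega
        rw [hc2] at h1
        have h4 : ηl = c * t := by
          have h := hηl'
          rw [hlk, hc] at h
          have h' : 2 * ηl = 2 * (c * t) := by rw [h]; ring
          omega
        have h5 : Fintype.card F ^ c + 1 ∣ Fintype.card F ^ ηl + 1 := by
          rw [h4, pow_mul]
          have := Odd.nat_add_dvd_pow_add_pow (Fintype.card F ^ c) 1 ht
          simpa using this
        have h6 : r * s ∣ Fintype.card F ^ ηl + 1 :=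
          Nat.Coprime.mul_dvd_of_dvd_of_dvd hcop (h1.trans h5) h2
        obtain ⟨x, hx⟩ := Cfsg.Agent.Helper28.PSpRS.sp_of_dvd_add (F := F) n ηl (r * s) (by omega) hln h6
        refine hno ⟨(QuotientGroup.mk x : Cfsg.PSp n F), ?_⟩
        rw [Cfsg.Agent.Helper22.PSpRS.psp_order n x (by rw [hx]; exact hro.mul hso), hx]
  · rintro ⟨hnlt, hnot⟩ ⟨g, hg⟩
    obtain ⟨X, Y, hXr, hX1, hYs, hY1, hXY⟩ := Cfsg.Agent.Helper22.PSpRS.lift_rs (F := F) n r s hr hs hr2 hs2 hrs g hg
    -- bridge to linear maps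
    obtain ⟨A, hAdef⟩ : ∃ A : Module.End F (Fin n ⊕ Fin n → F),
        A = Matrix.toLinAlgEquiv' (X : Matrix (Fin n ⊕ Fin n) (Fin n ⊕ Fin n) F) := ⟨_, rfl⟩
    obtain ⟨B, hBdef⟩ : ∃ B : Module.End F (Fin n ⊕ Fin n → F),
        B = Matrix.toLinAlgEquiv' (Y : Matrix (Fin n ⊕ Fin n) (Fin n ⊕ Fin n) F) := ⟨_, rfl⟩
    have hAv : ∀ v, A v = (X : Matrix (Fin n ⊕ Fin n) (Fin n ⊕ Fin n) F).mulVec v := fun v => by
      rw [hAdef, Matrix.toLinAlgEquiv'_apply]
    have hBv : ∀ v, B v = (Y : Matrix (Fin n ⊕ Fin n) (Fin n ⊕ Fin n) F).mulVec v := fun v => by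
      rw [hBdef, Matrix.toLinAlgEquiv'_apply]
    have hA : A ^ r = 1 := by
      rw [hAdef, ← map_pow, ← SubmonoidClass.coe_pow, hXr]
      simp
    have hB : B ^ s = 1 := by
      rw [hBdef, ← map_pow, ← SubmonoidClass.coe_pow, hYs]
      simp
    have hA1 : A ≠ 1 := by
      intro h
      apply hX1
      apply Subtype.ext
      apply (Matrix.toLinAlgEquiv' (R := F) (n := Fin n ⊕ Fin n)).injective
      rw [← hAdef, h]
      simp
    have hB1 : B ≠ 1 := by
      intro h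
      apply hY1
      apply Subtype.ext
      apply (Matrix.toLinAlgEquiv' (R := F) (n := Fin n ⊕ Fin n)).injective
      rw [← hBdef, h]
      simp
    have hAB : A * B = B * A := by
      rw [hAdef, hBdef, ← map_mul, ← map_mul]
      congr 1
      have := congrArg (fun z : ↥(Matrix.symplecticGroup (Fin n) F) =>
        (z : Matrix (Fin n ⊕ Fin n) (Fin n ⊕ Fin n) F)) hXY
      simpa using this
    obtain ⟨f, hfdef⟩ : ∃ f : LinearMap.BilinForm F (Fin n ⊕ Fin n → F), f = S0766.sB n F := ⟨_, rfl⟩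
    have halt : ∀ v, f v v = 0 := fun v => by
      rw [hfdef]; exact (S0766.sB_alt n F).self_eq_zero v
    have hnd : ∀ v, (∀ w, f v w = 0) → v = 0 := by
      intro v hv
      have h := S0766.sB_nondeg n F
      rw [hfdef] at hv
      exact h.1 v hv
    have hAf : ∀ u v, f (A u) (A v) = f u v := fun u v => by
      rw [hfdef, hAv, hAv]
      exact Cfsg.Agent.Helper2.SpEmbed.sB_symp n _ X.2 u v
    have hBf : ∀ u v, f (B u) (B v) = f u v := fun u v => by
      rw [hfdef, hBv, hBv]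
      exact Cfsg.Agent.Helper2.SpEmbed.sB_symp n _ Y.2 u v
    have hdimV : Module.finrank F (Fin n ⊕ Fin n → F) = 2 * n := by
      rw [Module.finrank_fintype_fun_eq_card, Fintype.card_sum, Fintype.card_fin]
      ring
    have hrF : (r : F) ≠ 0 := by
      intro h
      rw [CharP.cast_eq_zero_iff F p r] at h
      exact hrp ((Nat.prime_dvd_prime_iff_eq hpp hr).mp h).symm
    have hsF : (s : F) ≠ 0 := by
      intro h
      rw [CharP.cast_eq_zero_iff F p s] at h
      exact hsp ((Nat.prime_dvd_prime_iff_eq hpp hs).mp h).symm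
    have htop : ∀ w ∈ (⊤ : Submodule F (Fin n ⊕ Fin n → F)),
        (∀ w' ∈ (⊤ : Submodule F (Fin n ⊕ Fin n → F)), f w w' = 0) → w = 0 :=
      fun w _ h => hnd w (fun w' => h w' Submodule.mem_top)
    obtain ⟨-, hEA⟩ := Cfsg.Agent.Helper10.PSpRS.even_fix f halt ⊤ htop A hAf (fun _ _ => Submodule.mem_top) r hrF hA
    obtain ⟨hndB, hEB⟩ := Cfsg.Agent.Helper10.PSpRS.even_fix f halt ⊤ htop B hBf (fun _ _ => Submodule.mem_top) s hsF hB
    rw [top_inf_eq] at hEA hEB hndB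
    have hinv : ∀ w ∈ LinearMap.ker (B - 1), A w ∈ LinearMap.ker (B - 1) := by
      intro w hw
      rw [LinearMap.mem_ker, LinearMap.sub_apply, sub_eq_zero] at hw ⊢
      have h1 : B (A w) = A (B w) := by
        have := congrArg (fun T : Module.End F (Fin n ⊕ Fin n → F) => T w) hAB
        exact this.symm
      rw [h1, hw]
      rfl
    obtain ⟨-, hEAB⟩ := Cfsg.Agent.Helper10.PSpRS.even_fix f halt (LinearMap.ker (B - 1)) hndB A hAf hinv r hrF hA
    obtain ⟨hker, hdimE, hdvd⟩ := Cfsg.Agent.Helper10.PSpRS.dim_arg r s hrq hsq A B hA hA1 hB hB1 hAB n k l ηk ηl hdimV hk hl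
      hηk hηl hkl hnlt hEA hEB hEAB
    rcases hηl with ⟨hlo, hηl'⟩ | ⟨hle, hηl'⟩
    · have hkl' : k ∣ l := by
        rw [hk]
        exact Cfsg.Agent.Helper10.PSpRS2.x2 f halt hnd r s hs2 hrq hsq A B hAf hBf hA hB hAB hker l hl hlo
          (by rw [hdimV, ← hηl']; exact hdimE)
      obtain ⟨t, ht⟩ := hkl'
      refine hnot ⟨t, ?_, ht⟩
      rw [ht] at hlo
      exact (Nat.odd_mul.mp hlo).2
    · have h1 : r ∣ Fintype.card F ^ ηl + 1 :=
        Cfsg.Agent.Helper16.PSpRS.x1 f halt hnd r s hrq hsq A B hAf hBf hA hB hAB hker ηl (by omega)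
          (by rw [← hl]; exact hηl'.symm) (by rw [hdimV]; exact hdimE)
      by_cases hkη : k ∣ ηl
      · have h2 : r ∣ Fintype.card F ^ ηl - 1 := hrdvd ηl hkη
        have h3 := Nat.dvd_sub h1 h2
        have h4 : 1 ≤ Fintype.card F ^ ηl := Nat.one_le_pow _ _ (by omega)
        have h5 : Fintype.card F ^ ηl + 1 - (Fintype.card F ^ ηl - 1) = 2 := by omega
        rw [h5] at h3
        exact hr2 ((Nat.prime_dvd_prime_iff_eq hr Nat.prime_two).mp h3)
      · rcases hηk with ⟨hko, hηk'⟩ | ⟨hke, hηk'⟩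
        · exact hkη (hηk' ▸ hdvd)
        · obtain ⟨t, ht⟩ := hdvd
          have hto : Odd t := by
            by_contra hte
            rw [Nat.not_odd_iff_even] at hte
            obtain ⟨c, hc⟩ := hte
            apply hkη
            exact ⟨c, by rw [ht, hc, ← hηk']; ring⟩
          exact hnot ⟨t, hto, by rw [← hηl', ht, ← hηk']; ring⟩

end Cfsg.Agent.S2469
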