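import Cfsg.Statements.S2475
import Cfsg.Agent.Helper12.SL2Orders

set_option autoImplicit false
open Cfsg

namespace Cfsg.Agent.S2475

open Cfsg.Agent.Helper12

/-- The set of element orders of PSL(2,q): let F be a finite field of characteristic p with q ≥ 4 elements and d = gcd(2, q − 1). The orders of elements of PSL(2,F) are exactly the divisors of p, of (q − 1)/d and of (q + 1)/d. -/
theorem result {F : Type*} [Field F] [Fintype F] (p : ℕ) [Fact p.Prime] [CharP F p] (h4 : 4 ≤ Fintype.card F) :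
    Set.range (orderOf : Matrix.ProjectiveSpecialLinearGroup (Fin 2) F → ℕ) =
      {m : ℕ | m ∣ p ∨ m ∣ (Fintype.card F - 1) / Nat.gcd 2 (Fintype.card F - 1) ∨ m ∣ (Fintype.card F + 1) / Nat.gcd 2 (Fintype.card F - 1)} := by
  have hpp : p.Prime := Fact.out
  have hd12 : Nat.gcd 2 (Fintype.card F - 1) = 1 ∨ Nat.gcd 2 (Fintype.card F - 1) = 2 :=
    (Nat.dvd_prime Nat.prime_two).mp (Nat.gcd_dvd_left 2 _)
  have hdm : Nat.gcd 2 (Fintype.card F - 1) ∣ Fintype.card F - 1 := Nat.gcd_dvd_right 2 _
  have hdp : Nat.gcd 2 (Fintype.card F + 1) = Nat.gcd 2 (Fintype.card F - 1) := by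
    have : Fintype.card F + 1 = (Fintype.card F - 1) + 2 := by omega
    rw [this, Nat.gcd_add_self_right]
  have hdp' : Nat.gcd 2 (Fintype.card F - 1) ∣ Fintype.card F + 1 := by
    rw [← hdp]
    exact Nat.gcd_dvd_right 2 _
  have hm2 : (Fintype.card F - 1) ∣ 2 * ((Fintype.card F - 1) / Nat.gcd 2 (Fintype.card F - 1)) := by
    rcases hd12 with h | h
    · rw [h, Nat.div_one]
      exact Dvd.intro_left 2 rfl
    · rw [h] at hdm ⊢
      rw [Nat.mul_div_cancel' hdm]
  have hp2 : (Fintype.card F + 1) ∣ 2 * ((Fintype.card F + 1) / Nat.gcd 2 (Fintype.card F - 1)) := by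
    rcases hd12 with h | h
    · rw [h, Nat.div_one]
      exact Dvd.intro_left 2 rfl
    · rw [h] at hdp' ⊢
      rw [Nat.mul_div_cancel' hdp']
  ext m
  simp only [Set.mem_range, Set.mem_setOf_eq]
  constructor
  · rintro ⟨g, rfl⟩
    obtain ⟨G, rfl⟩ := QuotientGroup.mk_surjective g
    by_cases hroot : ∃ z : F, z ^ 2 - (G : Matrix (Fin 2) (Fin 2) F).trace * z + 1 = 0
    · obtain ⟨lam, hlam⟩ := hroot
      have hprod : lam * ((G : Matrix (Fin 2) (Fin 2) F).trace - lam) = 1 := by linear_combination -hlam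
      have hsum : lam + ((G : Matrix (Fin 2) (Fin 2) F).trace - lam) = (G : Matrix (Fin 2) (Fin 2) F).trace := by
        ring
      by_cases hne : lam = (G : Matrix (Fin 2) (Fin 2) F).trace - lam
      · left
        apply orderOf_dvd_of_pow_eq_one
        have htr : (G : Matrix (Fin 2) (Fin 2) F).trace = 2 * lam := by linear_combination -hne
        have hll : lam * lam = 1 := by
          rw [← hne] at hprod
          exact hprod
        exact psl2_pow_eq_one_of_scalar G p _ (sl2_unip_pow p G lam htr hll)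
      · right; left
        apply orderOf_dvd_of_pow_eq_one
        have hlam0 : lam ≠ 0 := by
          rintro rfl
          simp at hprod
        obtain ⟨k, hk⟩ := hm2
        have hl2 : (lam ^ ((Fintype.card F - 1) / Nat.gcd 2 (Fintype.card F - 1))) ^ 2 = 1 := by
          rw [← pow_mul, mul_comm, hk, pow_mul, FiniteField.pow_card_sub_one_eq_one lam hlam0, one_pow]
        have hlm : lam ^ ((Fintype.card F - 1) / Nat.gcd 2 (Fintype.card F - 1)) *
            ((G : Matrix (Fin 2) (Fin 2) F).trace - lam) ^ ((Fintype.card F - 1) / Nat.gcd 2 (Fintype.card F - 1)) = 1 := by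
          rw [← mul_pow, hprod, one_pow]
        have hmu : ((G : Matrix (Fin 2) (Fin 2) F).trace - lam) ^ ((Fintype.card F - 1) / Nat.gcd 2 (Fintype.card F - 1)) =
            lam ^ ((Fintype.card F - 1) / Nat.gcd 2 (Fintype.card F - 1)) := by
          have hl0 : lam ^ ((Fintype.card F - 1) / Nat.gcd 2 (Fintype.card F - 1)) ≠ 0 := pow_ne_zero _ hlam0
          apply mul_left_cancel₀ hl0
          rw [hlm, ← pow_two, hl2]
        exact psl2_pow_eq_one_of_scalar G _ _ (sl2_split_pow G lam _ _ hsum hprod hne _ rfl hmu)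
    · right; right
      push Not at hroot
      apply orderOf_dvd_of_pow_eq_one
      have hq1 := sl2_elliptic_pow G hroot
      have hq1' : (G : Matrix (Fin 2) (Fin 2) F) ^ (Fintype.card F + 1) = 1 := by
        rw [← Matrix.SpecialLinearGroup.coe_pow, hq1, Matrix.SpecialLinearGroup.coe_one]
      obtain ⟨k, hk⟩ := hp2
      have h2n : (G : Matrix (Fin 2) (Fin 2) F) ^ (2 * ((Fintype.card F + 1) / Nat.gcd 2 (Fintype.card F - 1))) = 1 := by
        rw [hk, pow_mul, hq1', one_pow]
      obtain ⟨eps, heps⟩ := sl2_elliptic_sqrt_one G hroot _ h2n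
      exact psl2_pow_eq_one_of_scalar G _ _ heps
  · rintro (h | h | h)
    · obtain ⟨g, hg⟩ := psl2_exists_orderOf_char (F := F) p
      exact exists_orderOf_of_dvd g m (by rw [hg]; exact hpp.pos) (by rw [hg]; exact h)
    · obtain ⟨u, hu⟩ := sl2_exists_orderOf_card_sub_one (F := F)
      obtain ⟨g, hg⟩ := psl2_exists_orderOf_half (sl2diag u) (by rw [hu]; omega)
      rw [hu] at hg
      refine exists_orderOf_of_dvd g m ?_ (by rw [hg]; exact h)
      rw [hg]
      exact Nat.div_pos (Nat.le_of_dvd (by omega) hdm) (Nat.gcd_pos_of_pos_left _ (by norm_num))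
    · obtain ⟨X, hX⟩ := sl2_exists_orderOf_card_add_one (F := F) p
      obtain ⟨g, hg⟩ := psl2_exists_orderOf_half X (by rw [hX]; omega)
      rw [hX, hdp] at hg
      refine exists_orderOf_of_dvd g m ?_ (by rw [hg]; exact h)
      rw [hg]
      exact Nat.div_pos (Nat.le_of_dvd (by omega) hdp') (Nat.gcd_pos_of_pos_left _ (by norm_num))

end Cfsg.Agent.S2475
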