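import Cfsg.Statements.S2470
import Cfsg.Agent.Helper14.PslAdj
import Cfsg.Agent.S2475
import Cfsg.Agent.S2904

set_option autoImplicit false
open Cfsg

namespace Cfsg.Agent.S2470

open Matrix Cfsg.Agent.Helper14.PslAdj


/-- Adjacency of an odd prime and the characteristic in the prime graph of PSL(n,q): let F be a finite field of characteristic p with q elements, n ≥ 2 with PSL(n,F) simple, and let r ≠ p be an odd prime dividing the order of PSL(n,F), with k the multiplicative order of q modulo r. Then PSL(n,F) has NO element of order r·p if and only if either k > n − 2, or n = 3, r = 3 and 3 divides q − 1 exactly once. -/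
theorem result {F : Type*} [Field F] [Fintype F] (p : ℕ) [Fact p.Prime] [CharP F p] (n : ℕ) (hn : 2 ≤ n) (hsmall : n = 2 → 4 ≤ Fintype.card F)
    (r : ℕ) (hr : r.Prime) (hr2 : r ≠ 2) (hrp : r ≠ p) (hrG : r ∣ Nat.card (Matrix.ProjectiveSpecialLinearGroup (Fin n) F))
    (k : ℕ) (hk : k = orderOf ((Fintype.card F : ℕ) : ZMod r)) :
    (r * p ∉ Set.range (orderOf : Matrix.ProjectiveSpecialLinearGroup (Fin n) F → ℕ)) ↔
      (n - 2 < k ∨ (n = 3 ∧ r = 3 ∧ 3 ∣ Fintype.card F - 1 ∧ ¬ 9 ∣ Fintype.card F - 1)) := by
  classical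
  have hpp : p.Prime := Fact.out
  haveI := Fact.mk hr
  obtain ⟨f, -, hq⟩ := FiniteField.card F p
  have hpq : p ∣ Fintype.card F := by
    rw [hq]
    exact dvd_pow_self p f.pos.ne'
  have hcpos : 1 ≤ Fintype.card F := Fintype.card_pos
  have hrq : ¬ r ∣ Fintype.card F := by
    rw [hq]
    intro h
    exact hrp ((Nat.prime_dvd_prime_iff_eq hr hpp).mp (hr.dvd_of_dvd_pow h))
  have hq0 : ((Fintype.card F : ℕ) : ZMod r) ≠ 0 := by
    rw [Ne, ZMod.natCast_eq_zero_iff]
    exact hrq
  have hk1 : 1 ≤ k := by
    rw [hk]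
    have hs2 := hr.two_le
    exact orderOf_pos_iff.mpr (isOfFinOrder_iff_pow_eq_one.mpr
      ⟨r - 1, by omega, ZMod.pow_card_sub_one_eq_one hq0⟩)
  have hk1iff : k = 1 → r ∣ Fintype.card F - 1 := by
    intro h
    rw [hk, orderOf_eq_one_iff] at h
    rw [← ZMod.natCast_eq_zero_iff, Nat.cast_sub hcpos, h, Nat.cast_one, sub_self]
  have hk2 : 2 ≤ k → ¬ r ∣ Fintype.card F - 1 := by
    intro h hdiv
    have h1 : ((Fintype.card F : ℕ) : ZMod r) = 1 := by
      have h2 : (((Fintype.card F - 1 : ℕ)) : ZMod r) = 0 := (ZMod.natCast_eq_zero_iff _ _).mpr hdiv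
      rw [Nat.cast_sub hcpos, Nat.cast_one, sub_eq_zero] at h2
      exact h2
    rw [hk, h1, orderOf_one] at h
    omega
  constructor
  · intro hno
    by_contra hcon
    have hkn : k ≤ n - 2 := by
      by_contra h
      exact hcon (Or.inl (by omega))
    have hexc : ¬ (n = 3 ∧ r = 3 ∧ 3 ∣ Fintype.card F - 1 ∧ ¬ 9 ∣ Fintype.card F - 1) :=
      fun h => hcon (Or.inr h)
    apply hno
    have hn3 : 3 ≤ n := by omega
    suffices h : ∃ g : Matrix.ProjectiveSpecialLinearGroup (Fin n) F, orderOf g = r * p by
      obtain ⟨g, hg⟩ := h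
      exact ⟨g, hg⟩
    by_cases hk2' : 2 ≤ k
    · haveI : NeZero k := ⟨by omega⟩
      have hrdvd : r ∣ Nat.card (GL (Fin k) F) := by
        rw [Matrix.card_GL_field]
        refine Dvd.dvd.trans ?_ (Finset.dvd_prod_of_mem _ (Finset.mem_univ (0 : Fin k)))
        rw [Fin.val_zero, pow_zero]
        apply S2904.dvd_of_pow_eq_one _ r k Fintype.one_lt_card
        rw [hk]
        exact pow_orderOf_eq_one _
      obtain ⟨x, hx⟩ := exists_prime_orderOf_dvd_card' r hrdvd
      have hxr : x ^ r = 1 := by
        rw [← hx]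
        exact pow_orderOf_eq_one x
      obtain ⟨C, hC⟩ : ∃ C : Matrix (Fin k) (Fin k) F, C = (x : Matrix (Fin k) (Fin k) F) :=
        ⟨_, rfl⟩
      have hCr : C ^ r = 1 := by
        have := congrArg (fun y : GL (Fin k) F => (y : Matrix (Fin k) (Fin k) F)) hxr
        simp only [Units.val_pow_eq_pow_val, Units.val_one] at this
        rw [hC]
        exact this
      have hC1 : C ≠ 1 := by
        intro h
        have hx1 : x = 1 := Units.ext (by rw [← hC, h]; rfl)
        rw [hx1, orderOf_one] at hx
        exact hr.one_lt.ne hx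
      have hCdet : C.det = 1 := by
        obtain ⟨δ, hδ⟩ : ∃ δ : Fˣ, δ = Matrix.GeneralLinearGroup.det x := ⟨_, rfl⟩
        have hδr : δ ^ r = 1 := by rw [hδ, ← map_pow, hxr, map_one]
        have hδq : δ ^ (Fintype.card F - 1) = 1 := by
          rw [← Fintype.card_units]
          exact pow_card_eq_one
        have h4 := pow_gcd_eq_one.mpr ⟨hδr, hδq⟩
        rw [Nat.Coprime.gcd_eq_one ((Nat.Prime.coprime_iff_not_dvd hr).mpr (hk2 hk2')),
          pow_one] at h4
        have h5 : ((Matrix.GeneralLinearGroup.det x : Fˣ) : F) = 1 := by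
          rw [← hδ, h4]
          rfl
        rw [hC]
        exact h5
      exact exists_rp p n k (by omega) (by omega) r hr hrp C hCdet hCr hC1
    · have hk1' : k = 1 := by omega
      have hrq1 := hk1iff hk1'
      by_cases hn4 : 4 ≤ n
      · obtain ⟨ζ, hζ⟩ := exists_order r hrq1
        have hζr : ζ ^ r = 1 := by
          rw [← hζ]
          exact pow_orderOf_eq_one ζ
        have hζ0 : ζ ≠ 0 := by
          rintro rfl
          rw [zero_pow hr.ne_zero] at hζr
          exact zero_ne_one hζr
        have hζ1 : ζ ≠ 1 := by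
          rintro rfl
          rw [orderOf_one] at hζ
          exact hr.one_lt.ne hζ
        refine exists_rp p n 2 (by omega) (by omega) r hr hrp (Matrix.diagonal ![ζ, ζ⁻¹]) ?_ ?_ ?_
        · rw [Matrix.det_diagonal, Fin.prod_univ_two]
          simp [hζ0]
        · rw [Matrix.diagonal_pow, ← Matrix.diagonal_one]
          congr 1
          funext i
          fin_cases i
          · simp [hζr]
          · simp [hζr]
        · intro h
          have := congrFun (congrFun h 0) 0
          rw [Matrix.diagonal_apply_eq, Matrix.one_apply_eq] at this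
          exact hζ1 (by simpa using this)
      · have hn3' : n = 3 := by omega
        subst hn3'
        by_cases hr3 : r = 3
        · have h9 : 9 ∣ Fintype.card F - 1 := by
            by_contra h9
            exact hexc ⟨rfl, hr3, hr3 ▸ hrq1, h9⟩
          obtain ⟨ζ, hζ⟩ := exists_order 9 h9
          have hζ9 : ζ ^ 9 = 1 := by
            rw [← hζ]
            exact pow_orderOf_eq_one ζ
          have hζ0 : ζ ≠ 0 := by
            rintro rfl
            rw [zero_pow (by norm_num)] at hζ9
            exact zero_ne_one hζ9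
          refine exists_rp3 p r hr hrp ζ hζ0 (by rw [hr3]; exact hζ9) ?_
          intro h
          have h1 : 9 ∣ 3 * p := by
            rw [← hζ]
            exact orderOf_dvd_of_pow_eq_one h
          have h2 : 3 ∣ p := by omega
          have h3 : p = 3 := ((Nat.prime_dvd_prime_iff_eq Nat.prime_three hpp).mp h2).symm
          rw [h3] at hpq
          have h4 : 3 ∣ Fintype.card F - 1 := hr3 ▸ hrq1
          omega
        · obtain ⟨ζ, hζ⟩ := exists_order r hrq1
          have hζr : ζ ^ r = 1 := by
            rw [← hζ]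
            exact pow_orderOf_eq_one ζ
          have hζ0 : ζ ≠ 0 := by
            rintro rfl
            rw [zero_pow hr.ne_zero] at hζr
            exact zero_ne_one hζr
          refine exists_rp3 p r hr hrp ζ hζ0 (by rw [mul_comm, pow_mul, hζr, one_pow]) ?_
          intro h
          have h1 : r ∣ 3 * p := by
            rw [← hζ]
            exact orderOf_dvd_of_pow_eq_one h
          rcases (Nat.Prime.dvd_mul hr).mp h1 with h2 | h2
          · exact hr3 ((Nat.prime_dvd_prime_iff_eq hr Nat.prime_three).mp h2)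
          · exact hrp ((Nat.prime_dvd_prime_iff_eq hr hpp).mp h2)
  · rintro hcond ⟨g, hg⟩
    have ha : orderOf (g ^ r) = p := by
      rw [orderOf_pow' g hr.ne_zero, hg, Nat.gcd_eq_right (Dvd.intro _ rfl),
        Nat.mul_div_cancel_left p hr.pos]
    have hb : orderOf (g ^ p) = r := by
      rw [orderOf_pow' g hpp.ne_zero, hg, Nat.gcd_eq_right (Dvd.intro_left _ rfl),
        Nat.mul_div_cancel r hpp.pos]
    have hab : g ^ r * g ^ p = g ^ p * g ^ r := (Commute.pow_pow_self g r p).eq
    rcases hcond with hlt | ⟨hn3, hr3, h3, h9⟩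
    · by_cases hn2 : n = 2
      · subst hn2
        have h4 := hsmall rfl
        have hspec := Cfsg.Agent.S2475.result (F := F) p h4
        have hmem : r * p ∈ Set.range
            (orderOf : Matrix.ProjectiveSpecialLinearGroup (Fin 2) F → ℕ) := ⟨g, hg⟩
        rw [hspec] at hmem
        rcases hmem with h | h | h
        · have h5 := Nat.le_of_dvd hpp.pos h
          have h6 := hr.two_le
          have h7 := hpp.pos
          nlinarith
        · have h1 : p ∣ Fintype.card F - 1 :=
            (Dvd.intro_left r rfl).trans (h.trans (Nat.div_dvd_of_dvd (Nat.gcd_dvd_right _ _)))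
          have h3 : p ∣ 1 := by
            have := Nat.dvd_sub hpq h1
            rwa [show Fintype.card F - (Fintype.card F - 1) = 1 by omega] at this
          exact hpp.one_lt.ne' (Nat.dvd_one.mp h3)
        · have hgd : Nat.gcd 2 (Fintype.card F - 1) ∣ Fintype.card F + 1 := by
            have e : Fintype.card F + 1 = (Fintype.card F - 1) + 2 := by omega
            rw [e]
            exact dvd_add (Nat.gcd_dvd_right _ _) (Nat.gcd_dvd_left _ _)
          have h1 : p ∣ Fintype.card F + 1 :=
            (Dvd.intro_left r rfl).trans (h.trans (Nat.div_dvd_of_dvd hgd))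
          have h3 : p ∣ 1 := by
            have := Nat.dvd_sub h1 hpq
            rwa [Nat.add_sub_cancel_left] at this
          exact hpp.one_lt.ne' (Nat.dvd_one.mp h3)
      · have hn3 : 3 ≤ n := by omega
        obtain ⟨u, B, nu, hup, hu1, hdet, hBr, hnu, hBs, hcz⟩ :=
          lift_pair p n hn r hr (g ^ r) (g ^ p) ha hb hab
        have hnu0 : nu ≠ 0 := by
          rintro rfl
          rw [zero_pow (by omega)] at hnu
          exact zero_ne_one hnu
        exact core3 p n hn3 r hrp (by rw [← hk]; omega) u B nu hnu0 hup hu1 hBr hBs hcz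
    · subst hn3
      subst hr3
      obtain ⟨u, B, nu, hup, hu1, hdet, hBr, hnu, hBs, hcz⟩ :=
        lift_pair p 3 hn 3 hr (g ^ 3) (g ^ p) ha hb hab
      exact exc3 p h3 h9 u B nu hnu hup hu1 hdet hBr hBs hcz

end Cfsg.Agent.S2470
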