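import Cfsg.Statements.S2472
import Cfsg.Agent.Helper27.SpE2
import Cfsg.Agent.Helper20.PSpRP
-- import your own Cfsg.Agent.* helpers here

set_option autoImplicit false
open Cfsg

namespace Cfsg.Agent.S2472

/-- Adjacency of a prime and the characteristic in the prime graph of PSp(2n,q): let F be a finite field of characteristic p with q elements, n ≥ 2 with PSp(2n,F) simple, and let r ≠ p be an odd prime dividing the order of PSp(2n,F), with k the multiplicative order of q modulo r and η(k) = k for odd k, k/2 for even k. Then PSp(2n,F) has NO element of order r·p if and only if η(k) > n − 1. -/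
theorem result {F : Type*} [Field F] [Fintype F] (p : ℕ) [Fact p.Prime] [CharP F p] (n : ℕ) (hn : 2 ≤ n) (hsmall : n = 2 → 3 ≤ Fintype.card F)
    (r : ℕ) (hr : r.Prime) (hr2 : r ≠ 2) (hrp : r ≠ p) (hrG : r ∣ Nat.card (Cfsg.PSp n F))
    (k ηk : ℕ) (hk : k = orderOf ((Fintype.card F : ℕ) : ZMod r)) (hηk : (Odd k ∧ ηk = k) ∨ (Even k ∧ 2 * ηk = k)) :
    (r * p ∉ Set.range (orderOf : Cfsg.PSp n F → ℕ)) ↔ n - 1 < ηk := by
  classical
  have : Fact r.Prime := ⟨hr⟩
  have hpP : p.Prime := Fact.out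
  have hrF : (r : F) ≠ 0 := by
    intro h
    have h1 := (CharP.cast_eq_zero_iff F p r).1 h
    exact hrp ((Nat.prime_dvd_prime_iff_eq hpP hr).1 h1).symm
  have hq0 : ((Fintype.card F : ℕ) : ZMod r) ≠ 0 := by
    intro h
    have h1 := (ZMod.natCast_eq_zero_iff (Fintype.card F) r).1 h
    obtain ⟨f, -, hcard⟩ := FiniteField.card F p
    rw [hcard] at h1
    exact hrp ((Nat.prime_dvd_prime_iff_eq hr hpP).1 (hr.dvd_of_dvd_pow h1))
  have hkpos : 0 < k := by
    rw [hk]
    apply orderOf_pos_iff.2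
    rw [isOfFinOrder_iff_pow_eq_one]
    exact ⟨r - 1, Nat.sub_pos_of_lt hr.one_lt, ZMod.pow_card_sub_one_eq_one hq0⟩
  constructor
  · intro hnot
    by_contra hle
    push Not at hle
    apply hnot
    have hm1 : 1 ≤ ηk := by
      rcases hηk with ⟨-, h⟩ | ⟨-, h⟩ <;> omega
    have hkdvd : k ∣ 2 * ηk := by
      rcases hηk with ⟨-, h⟩ | ⟨-, h⟩
      · rw [h]
        exact Dvd.intro_left 2 rfl
      · rw [h]
    have hpow : ((Fintype.card F : ℕ) : ZMod r) ^ (2 * ηk) = 1 := by
      rw [hk] at hkdvd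
      exact orderOf_dvd_iff_pow_eq_one.1 hkdvd
    have hdiv : r ∣ Fintype.card F ^ (2 * ηk) - 1 := by
      apply (ZMod.natCast_eq_zero_iff _ r).1
      rw [Nat.cast_sub (Nat.one_le_pow _ _ Fintype.card_pos), Nat.cast_pow, Nat.cast_one, hpow,
        sub_self]
    obtain ⟨g, hg⟩ := Helper20.PSpRP.exists_rp (F := F) p n ηk r hr hrp hm1 (by omega) hdiv
    exact ⟨g, hg⟩
  · rintro hlt ⟨g, hg⟩
    obtain ⟨x, rfl⟩ := QuotientGroup.mk_surjective g
    have hdvd : r * p ∣ orderOf x := by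
      have h1 := orderOf_map_dvd (QuotientGroup.mk' (Subgroup.center
        (Matrix.symplecticGroup (Fin n) F))) x
      rw [QuotientGroup.mk'_apply, hg] at h1
      exact h1
    have hx0 : orderOf x ≠ 0 := (orderOf_pos x).ne'
    have hao : orderOf (x ^ (orderOf x / r)) = r :=
      orderOf_pow_orderOf_div hx0 (Dvd.dvd.trans (Dvd.intro _ rfl) hdvd)
    have hbo : orderOf (x ^ (orderOf x / p)) = p :=
      orderOf_pow_orderOf_div hx0 (Dvd.dvd.trans (Dvd.intro_left _ rfl) hdvd)
    have hcomm : x ^ (orderOf x / r) * x ^ (orderOf x / p) =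
        x ^ (orderOf x / p) * x ^ (orderOf x / r) := by
      rw [← pow_add, ← pow_add, Nat.add_comm]
    have hAr : ((x ^ (orderOf x / r) : ↥(Matrix.symplecticGroup (Fin n) F)) :
        Matrix (Fin n ⊕ Fin n) (Fin n ⊕ Fin n) F) ^ r = 1 := by
      have h1 : (x ^ (orderOf x / r)) ^ r = 1 := by
        have h2 := pow_orderOf_eq_one (x ^ (orderOf x / r))
        rw [hao] at h2
        exact h2
      exact congrArg Subtype.val h1
    have hBp : ((x ^ (orderOf x / p) : ↥(Matrix.symplecticGroup (Fin n) F)) :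
        Matrix (Fin n ⊕ Fin n) (Fin n ⊕ Fin n) F) ^ p = 1 := by
      have h1 : (x ^ (orderOf x / p)) ^ p = 1 := by
        have h2 := pow_orderOf_eq_one (x ^ (orderOf x / p))
        rw [hbo] at h2
        exact h2
      exact congrArg Subtype.val h1
    have hA1 : ((x ^ (orderOf x / r) : ↥(Matrix.symplecticGroup (Fin n) F)) :
        Matrix (Fin n ⊕ Fin n) (Fin n ⊕ Fin n) F) ≠ 1 := by
      intro h
      have h1 : x ^ (orderOf x / r) = 1 := Subtype.ext h
      rw [h1, orderOf_one] at hao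
      exact hr.one_lt.ne hao
    have hB1 : ((x ^ (orderOf x / p) : ↥(Matrix.symplecticGroup (Fin n) F)) :
        Matrix (Fin n ⊕ Fin n) (Fin n ⊕ Fin n) F) ≠ 1 := by
      intro h
      have h1 : x ^ (orderOf x / p) = 1 := Subtype.ext h
      rw [h1, orderOf_one] at hbo
      exact hpP.one_lt.ne hbo
    have hAB : ((x ^ (orderOf x / r) : ↥(Matrix.symplecticGroup (Fin n) F)) :
        Matrix (Fin n ⊕ Fin n) (Fin n ⊕ Fin n) F) *
        ((x ^ (orderOf x / p) : ↥(Matrix.symplecticGroup (Fin n) F)) :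
        Matrix (Fin n ⊕ Fin n) (Fin n ⊕ Fin n) F) =
        ((x ^ (orderOf x / p) : ↥(Matrix.symplecticGroup (Fin n) F)) :
        Matrix (Fin n ⊕ Fin n) (Fin n ⊕ Fin n) F) *
        ((x ^ (orderOf x / r) : ↥(Matrix.symplecticGroup (Fin n) F)) :
        Matrix (Fin n ⊕ Fin n) (Fin n ⊕ Fin n) F) := congrArg Subtype.val hcomm
    have hmain := Helper27.SpE2.main n p hn _ _
      (Helper16.SympInv.symp_inv n (x ^ (orderOf x / r)))
      (Helper16.SympInv.symp_inv n (x ^ (orderOf x / p))) hAB r hr2 hrF hAr hA1 hBp hB1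
    rw [← hk] at hmain
    rcases hηk with ⟨h1, h2⟩ | ⟨h1, h2⟩
    · have h3 := hmain.1 h1
      omega
    · have h3 := hmain.2 h1
      omega

end Cfsg.Agent.S2472
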