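import Mathlib
import Cfsg.Statements.S2477

set_option autoImplicit false
open Cfsg

namespace Cfsg.Agent.S2477

def S : List ℕ := [1, 2, 3, 4, 5, 6, 7, 8, 9, 10, 12, 15, 21]

def chk : ℕ → ℕ → ℕ → Bool → Bool
  | 0, _, L, par => !par || decide (L ∈ S)
  | fuel + 1, budget, L, par =>
      (!par || decide (L ∈ S)) &&
      (List.range (budget + 1)).all fun x =>
        decide (x < 2) || chk fuel (budget - x) (Nat.lcm L x) (xor par (decide (x % 2 = 0)))

theorem sg_flip (par : Bool) (Q : ℤˣ) (h : -1 * Q = (if par then 1 else -1)) :
    Q = (if (xor par true) then 1 else -1) := by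
  calc Q = -1 * (-1 * Q) := by simp
    _ = -1 * (if par then 1 else -1) := by rw [h]
    _ = _ := by cases par <;> decide

theorem chk_sound (m : Multiset ℕ) : ∀ (fuel budget L : ℕ) (par : Bool), budget ≤ fuel →
    (∀ x ∈ m, 2 ≤ x) → m.sum ≤ budget → chk fuel budget L par = true →
    (m.map fun n => -(-1 : ℤˣ) ^ n).prod = (if par then 1 else -1) →
    Nat.lcm L m.lcm ∈ S := by
  induction m using Multiset.induction_on with
  | empty =>
    intro fuel budget L par _ _ _ hchk hpar
    cases par with
    | false => exact absurd hpar (by decide)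
    | true =>
      have hL : L ∈ S := by
        cases fuel with
        | zero =>
          rw [chk] at hchk
          simpa using hchk
        | succ f =>
          rw [chk, Bool.and_eq_true] at hchk
          simpa using hchk.1
      rw [Multiset.lcm_zero, Nat.lcm_one_right]
      exact hL
  | cons a s ih =>
    intro fuel budget L par hfb h2 hsum hchk hpar
    have ha2 : 2 ≤ a := h2 a (Multiset.mem_cons_self a s)
    rw [Multiset.sum_cons] at hsum
    cases fuel with
    | zero => omega
    | succ f =>
      rw [chk, Bool.and_eq_true] at hchk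
      obtain ⟨-, hall⟩ := hchk
      rw [List.all_eq_true] at hall
      have hx := hall a (List.mem_range.mpr (by omega))
      rw [Bool.or_eq_true] at hx
      rcases hx with hx | hx
      · have := of_decide_eq_true hx
        omega
      · have hpar' : (s.map fun n => -(-1 : ℤˣ) ^ n).prod =
            (if (xor par (decide (a % 2 = 0))) then 1 else -1) := by
          rw [Multiset.map_cons, Multiset.prod_cons] at hpar
          rcases Nat.even_or_odd a with hae | hao
          · have h0 : a % 2 = 0 := Nat.even_iff.mp hae
            rw [hae.neg_one_pow] at hpar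
            rw [h0]
            exact sg_flip par _ hpar
          · have h1 : a % 2 = 1 := Nat.odd_iff.mp hao
            rw [hao.neg_one_pow, neg_neg, one_mul] at hpar
            rw [h1]
            simpa using hpar
        have key := ih f (budget - a) (Nat.lcm L a) (xor par (decide (a % 2 = 0))) (by omega)
          (fun x hx => h2 x (Multiset.mem_cons_of_mem hx)) (by omega) hx hpar'
        rw [Multiset.lcm_cons, lcm_eq_nat_lcm, ← Nat.lcm_assoc]
        exact key

theorem exists_of_type (m : Multiset ℕ) (hsum : m.sum ≤ 10) (h2 : ∀ a ∈ m, 2 ≤ a)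
    (hsg : (m.map fun n => -(-1 : ℤˣ) ^ n).prod = 1) :
    m.lcm ∈ Set.range (orderOf : alternatingGroup (Fin 10) → ℕ) := by
  obtain ⟨σ, hσ⟩ := (Equiv.Perm.exists_with_cycleType_iff (Fin 10)).mpr
    ⟨by rw [Fintype.card_fin]; exact hsum, h2⟩
  have hsign : Equiv.Perm.sign σ = 1 := by
    rw [Equiv.Perm.sign_of_cycleType', hσ]; exact hsg
  exact ⟨⟨σ, Equiv.Perm.mem_alternatingGroup.mpr hsign⟩,
    by rw [Subgroup.orderOf_mk, ← Equiv.Perm.lcm_cycleType, hσ]⟩

theorem mem_of (k : ℕ) (m : Multiset ℕ) (hk : m.lcm = k) (hsum : m.sum ≤ 10)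
    (h2 : ∀ a ∈ m, 2 ≤ a) (hsg : (m.map fun n => -(-1 : ℤˣ) ^ n).prod = 1) :
    k ∈ Set.range (orderOf : alternatingGroup (Fin 10) → ℕ) :=
  hk ▸ exists_of_type m hsum h2 hsg

/-- The set of element orders of the alternating group of degree 10 is {1, 2, 3, 4, 5, 6, 7, 8, 9, 10, 12, 15, 21}. -/
theorem result : Set.range (orderOf : alternatingGroup (Fin 10) → ℕ) = {1, 2, 3, 4, 5, 6, 7, 8, 9, 10, 12, 15, 21} := by
  apply Set.eq_of_subset_of_subset
  · rintro _ ⟨⟨σ, hσ⟩, rfl⟩
    rw [Subgroup.orderOf_mk, ← Equiv.Perm.lcm_cycleType]
    have hsum : σ.cycleType.sum ≤ 10 := by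
      have := σ.sum_cycleType_le
      rwa [Fintype.card_fin] at this
    have hsign : (σ.cycleType.map fun n => -(-1 : ℤˣ) ^ n).prod = 1 := by
      rw [← Equiv.Perm.sign_of_cycleType']; exact Equiv.Perm.mem_alternatingGroup.mp hσ
    have key := chk_sound σ.cycleType 10 10 1 true le_rfl
      (fun x hx => Equiv.Perm.two_le_of_mem_cycleType hx) hsum (by decide +kernel)
      (by rw [hsign]; rfl)
    rw [Nat.lcm_one_left] at key
    simp only [S, List.mem_cons, List.mem_singleton, List.not_mem_nil, or_false] at key
    simp only [Set.mem_insert_iff, Set.mem_singleton_iff]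
    exact key
  · intro k hk
    simp only [Set.mem_insert_iff, Set.mem_singleton_iff] at hk
    rcases hk with rfl | rfl | rfl | rfl | rfl | rfl | rfl | rfl | rfl | rfl | rfl | rfl | rfl
    · exact mem_of 1 0 (by decide +kernel) (by decide +kernel) (by decide +kernel) (by decide +kernel)
    · exact mem_of 2 {2, 2} (by decide +kernel) (by decide +kernel) (by decide +kernel) (by decide +kernel)
    · exact mem_of 3 {3} (by decide +kernel) (by decide +kernel) (by decide +kernel) (by decide +kernel)
    · exact mem_of 4 {4, 2} (by decide +kernel) (by decide +kernel) (by decide +kernel) (by decide +kernel)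
    · exact mem_of 5 {5} (by decide +kernel) (by decide +kernel) (by decide +kernel) (by decide +kernel)
    · exact mem_of 6 {3, 2, 2} (by decide +kernel) (by decide +kernel) (by decide +kernel) (by decide +kernel)
    · exact mem_of 7 {7} (by decide +kernel) (by decide +kernel) (by decide +kernel) (by decide +kernel)
    · exact mem_of 8 {8, 2} (by decide +kernel) (by decide +kernel) (by decide +kernel) (by decide +kernel)
    · exact mem_of 9 {9} (by decide +kernel) (by decide +kernel) (by decide +kernel) (by decide +kernel)
    · exact mem_of 10 {5, 2, 2} (by decide +kernel) (by decide +kernel) (by decide +kernel) (by decide +kernel)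
    · exact mem_of 12 {4, 3, 2} (by decide +kernel) (by decide +kernel) (by decide +kernel) (by decide +kernel)
    · exact mem_of 15 {5, 3} (by decide +kernel) (by decide +kernel) (by decide +kernel) (by decide +kernel)
    · exact mem_of 21 {7, 3} (by decide +kernel) (by decide +kernel) (by decide +kernel) (by decide +kernel)

end Cfsg.Agent.S2477
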