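import Cfsg.Statements.S2542
import Mathlib
import Cfsg.Agent.S0804
import Cfsg.Agent.S0675

set_option autoImplicit false
open Cfsg

namespace Cfsg.Agent.S2542
open Cfsg.Agent.Helper12

theorem a5_not_solvable : ¬ Group.IsSolvable (alternatingGroup (Fin 5)) := by
  intro h
  haveI := alternatingGroup.isSimpleGroup_five
  have hc := IsSimpleGroup.comm_iff_isSolvable.mpr h
  have h1 := hc Cfsg.Agent.S3377.a Cfsg.Agent.S3377.b
  revert h1
  decide +kernel

/-- Let F be a field with 11 elements. PSL_2(F) has a subgroup H of index 11 isomorphic to the alternating group A_5, and the action of PSL_2(F) on the cosets of H is 2-transitive (of degree 11). -/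
theorem result {F : Type*} [Field F] [Fintype F] (hF : Fintype.card F = 11) : ∃ H : Subgroup (Matrix.ProjectiveSpecialLinearGroup (Fin 2) F), H.index = 11 ∧ Nonempty (H ≃* alternatingGroup (Fin 5)) ∧ MulAction.IsMultiplyPretransitive (Matrix.ProjectiveSpecialLinearGroup (Fin 2) F) ((Matrix.ProjectiveSpecialLinearGroup (Fin 2) F) ⧸ H) 2 := by
  classical
  have h2 : (2 : F) ≠ 0 := by
    intro h
    have h11 : ((Fintype.card F : ℕ) : F) = 0 := FiniteField.cast_card_eq_zero F
    rw [hF] at h11
    have e : ((11 : ℕ) : F) = 5 * 2 + 1 := by norm_num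
    rw [e, h] at h11
    simp at h11
  have hG : Nat.card (Matrix.ProjectiveSpecialLinearGroup (Fin 2) F) = 660 := by
    have := psl2_card_odd (F := F) h2
    rw [hF] at this
    omega
  have hS : Nat.card (Matrix.SpecialLinearGroup (Fin 2) F) = 1320 := by
    rw [sl2_card, hF]
    norm_num
  obtain ⟨H, ⟨e⟩⟩ := Cfsg.Agent.S0804.exists_A5 (F := F) (by rw [hS]; norm_num)
  have h60 : Nat.card H = 60 := by
    rw [Nat.card_congr e.toEquiv, Cfsg.Agent.S3377.card_A5]
  have hidx : H.index = 11 := by
    have := H.card_mul_index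
    rw [h60, hG] at this
    omega
  refine ⟨H, hidx, ⟨e⟩, ?_⟩
  haveI hsimple : IsSimpleGroup (Matrix.ProjectiveSpecialLinearGroup (Fin 2) F) :=
    Matrix.ProjectiveSpecialLinearGroup.rank_two_simple (by rw [Nat.card_eq_fintype_card, hF]; norm_num)
  haveI : Finite (Matrix.ProjectiveSpecialLinearGroup (Fin 2) F) :=
    Nat.finite_of_card_ne_zero (by rw [hG]; norm_num)
  haveI : Fintype ((Matrix.ProjectiveSpecialLinearGroup (Fin 2) F) ⧸ H) := Fintype.ofFinite _
  have hα : Fintype.card ((Matrix.ProjectiveSpecialLinearGroup (Fin 2) F) ⧸ H) = 11 := by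
    rw [← Nat.card_eq_fintype_card]
    exact hidx
  obtain ⟨φ, hφ⟩ : ∃ φ : Matrix.ProjectiveSpecialLinearGroup (Fin 2) F →*
      Equiv.Perm ((Matrix.ProjectiveSpecialLinearGroup (Fin 2) F) ⧸ H),
      ∀ g x, φ g x = g • x := ⟨MulAction.toPermHom _ _, fun g x => rfl⟩
  haveI : MulAction.IsPretransitive φ.range
      ((Matrix.ProjectiveSpecialLinearGroup (Fin 2) F) ⧸ H) := ⟨fun x y => by
    obtain ⟨g, hg⟩ := MulAction.exists_smul_eq (Matrix.ProjectiveSpecialLinearGroup (Fin 2) F) x y
    refine ⟨⟨φ g, g, rfl⟩, ?_⟩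
    show φ g x = y
    rw [hφ, hg]⟩
  rcases Cfsg.Agent.S0675.result (by rw [hα]; norm_num) φ.range with hs | h2t
  · exfalso
    have hker : φ.ker = ⊥ := by
      rcases Subgroup.Normal.eq_bot_or_eq_top (H := φ.ker) inferInstance with h | h
      · exact h
      · exfalso
        have hall : ∀ g : Matrix.ProjectiveSpecialLinearGroup (Fin 2) F, g ∈ H := by
          intro g
          have hg : g ∈ φ.ker := by rw [h]; trivial
          rw [MonoidHom.mem_ker] at hg
          have h1 := hφ g ((1 : Matrix.ProjectiveSpecialLinearGroup (Fin 2) F) :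
            (Matrix.ProjectiveSpecialLinearGroup (Fin 2) F) ⧸ H)
          rw [hg] at h1
          have h3 : ((g * 1 : Matrix.ProjectiveSpecialLinearGroup (Fin 2) F) :
            (Matrix.ProjectiveSpecialLinearGroup (Fin 2) F) ⧸ H) =
            ((1 : Matrix.ProjectiveSpecialLinearGroup (Fin 2) F) :
            (Matrix.ProjectiveSpecialLinearGroup (Fin 2) F) ⧸ H) := h1.symm
          rw [QuotientGroup.eq] at h3
          simpa using h3
        have htop : H = ⊤ := (Subgroup.eq_top_iff' H).mpr hall
        rw [htop, Subgroup.index_top] at hidx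
        omega
    have hinj : Function.Injective φ := (MonoidHom.ker_eq_bot_iff φ).mp hker
    let ψ : alternatingGroup (Fin 5) →* φ.range :=
      (φ.rangeRestrict.comp H.subtype).comp e.symm.toMonoidHom
    have hψ : Function.Injective ψ := by
      intro x y hxy
      have h1 : φ ((e.symm x : H) : Matrix.ProjectiveSpecialLinearGroup (Fin 2) F) =
          φ ((e.symm y : H) : Matrix.ProjectiveSpecialLinearGroup (Fin 2) F) :=
        congrArg Subtype.val hxy
      exact e.symm.injective (Subtype.ext (hinj h1))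
    exact a5_not_solvable (solvable_of_solvable_injective hψ)
  · rw [MulAction.isMultiplyPretransitive_iff] at h2t ⊢
    intro x y
    obtain ⟨⟨g', g, rfl⟩, hg⟩ := h2t x y
    refine ⟨g, ?_⟩
    ext i
    have := congrFun (congrArg DFunLike.coe hg) i
    rw [Function.Embedding.smul_apply] at this ⊢
    rw [← this]
    exact (hφ g (x i)).symm

end Cfsg.Agent.S2542
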