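import Cfsg.Statements.S2638
import Mathlib
import Cfsg.Agent.S2904
import Cfsg.Agent.S5947

set_option autoImplicit false
open Cfsg

namespace Cfsg.Agent.S2638


/-- If an element x of GL_n(q), n ≥ 1, has prime order r and the multiplicative order of q modulo r is n (r is a primitive prime divisor of q^n − 1, so x acts irreducibly), then the centraliser of x in GL_n(q) is cyclic of order q^n − 1 (the multiplicative group of the field with q^n elements, a Singer cycle). -/
theorem result {F : Type*} [Field F] [Fintype F] {p q : ℕ} [Fact p.Prime] [CharP F p] (hF : Fintype.card F = q) {n r : ℕ} (hn : 1 ≤ n) (hr : r.Prime) (hrp : r ≠ p) (hi : orderOf (q : ZMod r) = n) (x : GL (Fin n) F) (hx : orderOf x = r) : IsCyclic ↥(Subgroup.centralizer ({x} : Set (GL (Fin n) F))) ∧ Nat.card ↥(Subgroup.centralizer ({x} : Set (GL (Fin n) F))) = q ^ n - 1 := by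
  classical
  subst hF
  haveI := Fact.mk hr
  have hq1 : 1 < Fintype.card F := Fintype.one_lt_card
  have hn0 : 0 < n := hn
  have hpow : ((Fintype.card F : ℕ) : ZMod r) ^ n = 1 := by rw [← hi]; exact pow_orderOf_eq_one _
  have hrdvd : r ∣ Fintype.card F ^ n - 1 := S2904.dvd_of_pow_eq_one _ r n hq1 hpow
  have hrprim : ∀ k, 0 < k → k < n → ¬ r ∣ Fintype.card F ^ k - 1 := by
    intro k hk hkn hd
    have h1 := S2904.pow_eq_one_of_dvd _ r k hq1 hd
    have h2 := orderOf_dvd_of_pow_eq_one h1
    rw [hi] at h2
    exact absurd (Nat.le_of_dvd hk h2) (by omega)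
  obtain ⟨e, he⟩ : ∃ e : GL (Fin n) F ≃* (Module.End F (Fin n → F))ˣ,
      e = Matrix.GeneralLinearGroup.toLin := ⟨_, rfl⟩
  obtain ⟨g0, hg0⟩ : ∃ g0 : Module.End F (Fin n → F),
      g0 = ((e x : (Module.End F (Fin n → F))ˣ) : Module.End F (Fin n → F)) := ⟨_, rfl⟩
  have hg0r : g0 ^ r = 1 := by
    rw [hg0, ← Units.val_pow_eq_pow_val, ← map_pow, ← hx, pow_orderOf_eq_one, map_one]; rfl
  have hg01 : g0 ≠ 1 := by
    intro h
    have h1 : e x = 1 := Units.ext (by rw [← hg0, h]; rfl)
    have h2 : x = 1 := by rw [← map_one e] at h1; exact e.injective h1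
    rw [h2, orderOf_one] at hx
    exact hr.one_lt.ne hx
  have hdim : Module.finrank F (Fin n → F) = n := Module.finrank_fin_fun F
  have hinj : ∀ d : Module.End F (Fin n → F), g0 * d = d * g0 → d ≠ 0 → Function.Injective d :=
    fun d hd hd0 => S5947.inj_of_comm n r hn0 hdim hrdvd hrprim g0 hg0r hg01 d hd hd0
  obtain ⟨D, hD⟩ : ∃ D : Subalgebra F (Module.End F (Fin n → F)),
      D = Subalgebra.centralizer F {g0} := ⟨_, rfl⟩
  have hDmem : ∀ d : Module.End F (Fin n → F), d ∈ D ↔ g0 * d = d * g0 := by
    intro d; rw [hD, Subalgebra.mem_centralizer_iff]; simp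
  -- units
  have hunit : ∀ d : Module.End F (Fin n → F), d ∈ D → d ≠ 0 →
      ∃ u : (Module.End F (Fin n → F))ˣ, (u : Module.End F (Fin n → F)) = d := by
    intro d hd hd0
    have h1 : IsUnit d := by
      rw [LinearMap.isUnit_iff_ker_eq_bot, LinearMap.ker_eq_bot]
      exact hinj d ((hDmem d).mp hd) hd0
    obtain ⟨u, hu⟩ := h1
    exact ⟨u, hu⟩
  have hinvmem : ∀ u : (Module.End F (Fin n → F))ˣ, (u : Module.End F (Fin n → F)) ∈ D →
      ((u⁻¹ : (Module.End F (Fin n → F))ˣ) : Module.End F (Fin n → F)) ∈ D := by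
    intro u hu
    rw [hDmem] at hu ⊢
    calc g0 * ((u⁻¹ : (Module.End F (Fin n → F))ˣ) : Module.End F (Fin n → F))
        = ((u⁻¹ : (Module.End F (Fin n → F))ˣ) : Module.End F (Fin n → F)) *
            ((u : Module.End F (Fin n → F)) * g0) *
            ((u⁻¹ : (Module.End F (Fin n → F))ˣ) : Module.End F (Fin n → F)) := by
          rw [← mul_assoc, Units.inv_mul, one_mul]
      _ = ((u⁻¹ : (Module.End F (Fin n → F))ˣ) : Module.End F (Fin n → F)) *
            (g0 * (u : Module.End F (Fin n → F))) *
            ((u⁻¹ : (Module.End F (Fin n → F))ˣ) : Module.End F (Fin n → F)) := by rw [hu]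
      _ = ((u⁻¹ : (Module.End F (Fin n → F))ˣ) : Module.End F (Fin n → F)) * g0 := by
          rw [mul_assoc, mul_assoc, Units.mul_inv, mul_one]
  -- a nonzero vector
  obtain ⟨v₀, hv₀⟩ : ∃ v₀ : Fin n → F, v₀ ≠ 0 :=
    ⟨fun _ => 1, fun h => one_ne_zero (congrFun h ⟨0, hn0⟩)⟩
  have h01 : (0 : Module.End F (Fin n → F)) ≠ 1 := by
    intro h
    have := congrArg (fun f : Module.End F (Fin n → F) => f v₀) h
    exact hv₀ this.symm
  haveI : Nontrivial (Module.End F (Fin n → F)) := ⟨⟨0, 1, h01⟩⟩
  have hev : Function.Injective (fun d : D => (d : Module.End F (Fin n → F)) v₀) := by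
    intro d d' h
    by_contra hne
    have hsub : ((d - d' : D) : Module.End F (Fin n → F)) ≠ 0 := by
      intro h0
      apply hne
      apply Subtype.ext
      have : (d : Module.End F (Fin n → F)) - (d' : Module.End F (Fin n → F)) = 0 := h0
      exact sub_eq_zero.mp this
    have hi' := hinj _ ((hDmem _).mp (d - d').2) hsub
    have h1 : ((d - d' : D) : Module.End F (Fin n → F)) v₀
        = ((d - d' : D) : Module.End F (Fin n → F)) 0 := by
      rw [map_zero]
      show ((d : Module.End F (Fin n → F)) - (d' : Module.End F (Fin n → F))) v₀ = 0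
      rw [LinearMap.sub_apply, sub_eq_zero]; exact h
    exact hv₀ (hi' h1)
  haveI : Finite (Module.End F (Fin n → F)) :=
    Finite.of_injective (fun f : Module.End F (Fin n → F) => (f : (Fin n → F) → (Fin n → F)))
      DFunLike.coe_injective
  have hDle : Nat.card D ≤ Nat.card (Fin n → F) := Nat.card_le_card_of_injective _ hev
  have hVcard : Nat.card (Fin n → F) = Fintype.card F ^ n := by
    rw [Nat.card_eq_fintype_card, Fintype.card_fun, Fintype.card_fin]
  obtain ⟨t, ht⟩ : ∃ t, t = Module.finrank F D := ⟨_, rfl⟩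
  have hDcard : Nat.card D = Fintype.card F ^ t := by
    rw [ht, Module.natCard_eq_pow_finrank (K := F) (V := D), Nat.card_eq_fintype_card]
  -- centralizer membership
  have hCD : ∀ c : GL (Fin n) F, c ∈ Subgroup.centralizer ({x} : Set (GL (Fin n) F)) ↔
      ((e c : (Module.End F (Fin n → F))ˣ) : Module.End F (Fin n → F)) ∈ D := by
    intro c
    rw [Subgroup.mem_centralizer_singleton_iff, hDmem, hg0, ← Units.val_mul, ← Units.val_mul,
      ← map_mul, ← map_mul]
    constructor
    · intro h; rw [h]
    · intro h; exact (e.injective (Units.ext h)).symm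
  -- the bijection with Option
  let ι : Option ↥(Subgroup.centralizer ({x} : Set (GL (Fin n) F))) → D := fun o =>
    match o with
    | none => 0
    | some c => ⟨((e c.1 : (Module.End F (Fin n → F))ˣ) : Module.End F (Fin n → F)),
        (hCD c.1).mp c.2⟩
  have hι : Function.Bijective ι := by
    constructor
    · intro a b hab
      cases a with
      | none =>
        cases b with
        | none => rfl
        | some u =>
          exfalso
          have h1 : (0 : Module.End F (Fin n → F)) = ((e u.1 : (Module.End F (Fin n → F))ˣ) :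
              Module.End F (Fin n → F)) := congrArg Subtype.val hab
          exact Units.ne_zero (e u.1) h1.symm
      | some u =>
        cases b with
        | none =>
          exfalso
          have h1 : ((e u.1 : (Module.End F (Fin n → F))ˣ) :
              Module.End F (Fin n → F)) = 0 := congrArg Subtype.val hab
          exact Units.ne_zero (e u.1) h1
        | some u' =>
          have h1 : ((e u.1 : (Module.End F (Fin n → F))ˣ) : Module.End F (Fin n → F))
              = ((e u'.1 : (Module.End F (Fin n → F))ˣ) : Module.End F (Fin n → F)) :=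
            congrArg Subtype.val hab
          exact congrArg some (Subtype.ext (e.injective (Units.ext h1)))
    · intro d
      by_cases hd0 : d = 0
      · exact ⟨none, hd0.symm⟩
      · have hd0' : (d : Module.End F (Fin n → F)) ≠ 0 := fun h => hd0 (Subtype.ext h)
        obtain ⟨u, hu⟩ := hunit d.1 d.2 hd0'
        have hmem : e.symm u ∈ Subgroup.centralizer ({x} : Set (GL (Fin n) F)) := by
          rw [hCD, MulEquiv.apply_symm_apply, hu]; exact d.2
        refine ⟨some ⟨e.symm u, hmem⟩, ?_⟩
        apply Subtype.ext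
        show ((e (e.symm u) : (Module.End F (Fin n → F))ˣ) : Module.End F (Fin n → F)) = d.1
        rw [MulEquiv.apply_symm_apply, hu]
  have hcard1 : Nat.card D = Nat.card ↥(Subgroup.centralizer ({x} : Set (GL (Fin n) F))) + 1 := by
    rw [← Finite.card_option]
    exact (Nat.card_congr (Equiv.ofBijective ι hι)).symm
  -- r divides the order of the centralizer
  have hxC : x ∈ Subgroup.centralizer ({x} : Set (GL (Fin n) F)) := by
    rw [Subgroup.mem_centralizer_singleton_iff]
  have hrC : r ∣ Nat.card ↥(Subgroup.centralizer ({x} : Set (GL (Fin n) F))) := by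
    have h1 := orderOf_dvd_natCard (⟨x, hxC⟩ : ↥(Subgroup.centralizer ({x} : Set (GL (Fin n) F))))
    rwa [Subgroup.orderOf_mk, hx] at h1
  have hqt : 1 ≤ Fintype.card F ^ t := Nat.one_le_pow _ _ (by omega)
  have hrt : r ∣ Fintype.card F ^ t - 1 := by
    have h2 : Nat.card ↥(Subgroup.centralizer ({x} : Set (GL (Fin n) F)))
        = Fintype.card F ^ t - 1 := by omega
    rwa [h2] at hrC
  have hnt : n ∣ t := by
    have h1 := S2904.pow_eq_one_of_dvd _ r t hq1 hrt
    have h2 := orderOf_dvd_of_pow_eq_one h1
    rwa [hi] at h2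
  have ht0 : t ≠ 0 := by
    intro h0
    rw [h0, pow_zero] at hDcard
    have : Nat.card D = Nat.card ↥(Subgroup.centralizer ({x} : Set (GL (Fin n) F))) + 1 := hcard1
    have hpos : 0 < Nat.card ↥(Subgroup.centralizer ({x} : Set (GL (Fin n) F))) := Nat.card_pos
    omega
  have htn : t ≤ n := by
    rw [hDcard, hVcard] at hDle
    exact (Nat.pow_le_pow_iff_right hq1).mp hDle
  have hteq : t = n := le_antisymm htn (Nat.le_of_dvd (Nat.pos_of_ne_zero ht0) hnt)
  refine ⟨?_, by rw [hDcard, hteq] at hcard1; omega⟩
  -- cyclic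
  have hDunit : ∀ a : D, IsUnit a ∨ a = 0 := by
    intro a
    by_cases ha : a = 0
    · exact Or.inr ha
    · left
      have ha' : (a : Module.End F (Fin n → F)) ≠ 0 := fun h => ha (Subtype.ext h)
      obtain ⟨u, hu⟩ := hunit a.1 a.2 ha'
      have hmem := hinvmem u (by rw [hu]; exact a.2)
      refine ⟨⟨a, ⟨_, hmem⟩, ?_, ?_⟩, rfl⟩
      · apply Subtype.ext
        show (a : Module.End F (Fin n → F)) *
          ((u⁻¹ : (Module.End F (Fin n → F))ˣ) : Module.End F (Fin n → F)) = 1
        rw [← hu, Units.mul_inv]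
      · apply Subtype.ext
        show ((u⁻¹ : (Module.End F (Fin n → F))ˣ) : Module.End F (Fin n → F)) *
          (a : Module.End F (Fin n → F)) = 1
        rw [← hu, Units.inv_mul]
  haveI : Nontrivial D := ⟨⟨0, 1, fun h => h01 (congrArg Subtype.val h)⟩⟩
  letI : DivisionRing D := DivisionRing.ofIsUnitOrEqZero hDunit
  letI : Field D := littleWedderburn D
  let f : ↥(Subgroup.centralizer ({x} : Set (GL (Fin n) F))) →* D :=
    { toFun := fun c => ⟨((e c.1 : (Module.End F (Fin n → F))ˣ) : Module.End F (Fin n → F)),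
        (hCD c.1).mp c.2⟩
      map_one' := by
        apply Subtype.ext
        show ((e (1 : GL (Fin n) F) : (Module.End F (Fin n → F))ˣ) :
          Module.End F (Fin n → F)) = 1
        rw [map_one]; rfl
      map_mul' := fun a b => by
        apply Subtype.ext
        show ((e (a.1 * b.1) : (Module.End F (Fin n → F))ˣ) : Module.End F (Fin n → F))
          = ((e a.1 : (Module.End F (Fin n → F))ˣ) : Module.End F (Fin n → F)) *
            ((e b.1 : (Module.End F (Fin n → F))ˣ) : Module.End F (Fin n → F))
        rw [map_mul]; rfl }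
  have hf : Function.Injective f := by
    intro a b hab
    have h1 : ((e a.1 : (Module.End F (Fin n → F))ˣ) : Module.End F (Fin n → F))
        = ((e b.1 : (Module.End F (Fin n → F))ˣ) : Module.End F (Fin n → F)) :=
      congrArg Subtype.val hab
    exact Subtype.ext (e.injective (Units.ext h1))
  exact isCyclic_of_injective_ringHom f hf

end Cfsg.Agent.S2638
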