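import Mathlib
import Cfsg.Statements.S2758
import Cfsg.Agent.Helper19.HH3
import Cfsg.Agent.S0444

set_option autoImplicit false
open Cfsg

namespace Cfsg.Agent.S2758

theorem involves_dp_of_inverted {G : Type*} [Group G] (p : ℕ) [Fact p.Prime] (hp2 : p ≠ 2)
    (t y : G) (ht : t * t = 1) (hyp : y ^ p = 1) (hy1 : y ≠ 1) (hinv : t * y * t⁻¹ = y⁻¹) :
    Cfsg.Involves (DihedralGroup p) G := by
  have hpp := (Fact.out : p.Prime)
  have htinv : t⁻¹ = t := inv_eq_of_mul_eq_one_left ht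
  rw [htinv] at hinv
  have hoy : orderOf y = p := orderOf_eq_prime hyp hy1
  have hy2 : y * y ≠ 1 := by
    intro h
    have h1 : orderOf y ∣ 2 := orderOf_dvd_of_pow_eq_one (by rw [pow_two]; exact h)
    rw [hoy] at h1
    exact hp2 ((Nat.prime_dvd_prime_iff_eq hpp Nat.prime_two).mp h1)
  have ht1 : t ≠ 1 := by
    intro h
    apply hy2
    rw [h, one_mul, mul_one] at hinv
    have h4 := mul_inv_cancel y
    rwa [← hinv] at h4
  have hty : (t * y) * (t * y) = 1 := by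
    calc t * y * (t * y) = (t * y * t) * y := by group
      _ = 1 := by rw [hinv, inv_mul_cancel]
  have hty1 : t * y ≠ 1 := by
    intro h
    have h5 : y = t := by rw [← htinv]; exact eq_inv_of_mul_eq_one_right h
    apply hy2
    rw [h5]; exact ht
  have hne : t ≠ t * y := by
    intro h
    exact hy1 (mul_eq_left.mp h.symm)
  have hoa : orderOf t = 2 := orderOf_eq_prime (by rw [pow_two]; exact ht) ht1
  have hob : orderOf (t * y) = 2 := orderOf_eq_prime (by rw [pow_two]; exact hty) hty1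
  have hprod : t * (t * y) = y := by rw [← mul_assoc, ht, one_mul]
  have ho3 : orderOf (t * (t * y)) = p := by rw [hprod]; exact hoy
  haveI : NeZero (orderOf (t * (t * y))) := ⟨by rw [ho3]; exact hpp.ne_zero⟩
  obtain ⟨e⟩ := Cfsg.Agent.S0444.dihedral_of_involutions t (t * y) hoa hob hne
  have key : ∀ m : ℕ, orderOf (t * (t * y)) = m →
      Nonempty (↥(Subgroup.closure ({t, t * y} : Set G)) ≃* DihedralGroup m) := by
    intro m hm
    subst hm
    exact ⟨e⟩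
  obtain ⟨e'⟩ := key p ho3
  exact Cfsg.Agent.Helper26.involves_of_surj (Subgroup.closure ({t, t * y} : Set G))
    e'.toMonoidHom e'.surjective

theorem involves_dp_of_inv_elt {G : Type*} [Group G] (p : ℕ) [Fact p.Prime] (hp2 : p ≠ 2)
    (x y : G) (hyp : y ^ p = 1) (hy1 : y ≠ 1) (hinv : x * y * x⁻¹ = y⁻¹) :
    Cfsg.Involves (DihedralGroup p) G := by
  have hpp := (Fact.out : p.Prime)
  have hoy : orderOf y = p := orderOf_eq_prime hyp hy1
  have hy2 : y * y ≠ 1 := by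
    intro h
    have h1 : orderOf y ∣ 2 := orderOf_dvd_of_pow_eq_one (by rw [pow_two]; exact h)
    rw [hoy] at h1
    exact hp2 ((Nat.prime_dvd_prime_iff_eq hpp Nat.prime_two).mp h1)
  obtain ⟨K, hK⟩ : ∃ K : Subgroup G, K = Subgroup.centralizer ({x * x} : Set G) := ⟨_, rfl⟩
  have hmemK : ∀ g : G, g ∈ K ↔ (x * x) * g = g * (x * x) := by
    intro g
    rw [hK, Subgroup.mem_centralizer_iff]
    constructor
    · intro h; exact h _ (Set.mem_singleton _)
    · intro h z hz; rw [Set.mem_singleton_iff] at hz; rw [hz]; exact h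
  have hxK : x ∈ K := (hmemK x).2 (by group)
  have hyK : y ∈ K := by
    rw [hmemK]
    have h1 : x * y = y⁻¹ * x := by rw [← hinv]; group
    have h2 : x * y⁻¹ = y * x := by
      calc x * y⁻¹ = (y * (x * y)) * y⁻¹ := by rw [h1]; group
        _ = y * x := by group
    calc x * x * y = x * (x * y) := by group
      _ = x * (y⁻¹ * x) := by rw [h1]
      _ = (x * y⁻¹) * x := by group
      _ = y * x * x := by rw [h2]
      _ = y * (x * x) := by group
  have hxxK : x * x ∈ K := K.mul_mem hxK hxK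
  obtain ⟨N, hN⟩ : ∃ N : Subgroup ↥K, N = Subgroup.zpowers (⟨x * x, hxxK⟩ : ↥K) := ⟨_, rfl⟩
  have hNc : ∀ n ∈ N, ∀ g : ↥K, g * n = n * g := by
    intro n hn g
    rw [hN, Subgroup.mem_zpowers_iff] at hn
    obtain ⟨k, rfl⟩ := hn
    have h1 : Commute g (⟨x * x, hxxK⟩ : ↥K) := by
      apply Subtype.ext
      have h2 := (hmemK g).1 g.2
      simp only [Subgroup.coe_mul]
      exact h2.symm
    exact (h1.zpow_right k)
  haveI hNn : N.Normal := ⟨fun n hn g => by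
    have h1 : g * n * g⁻¹ = n := by rw [hNc n hn g]; group
    rw [h1]; exact hn⟩
  obtain ⟨a, ha⟩ : ∃ a : ↥K ⧸ N, a = QuotientGroup.mk' N ⟨x, hxK⟩ := ⟨_, rfl⟩
  obtain ⟨b, hb⟩ : ∃ b : ↥K ⧸ N, b = QuotientGroup.mk' N ⟨y, hyK⟩ := ⟨_, rfl⟩
  have haa : a * a = 1 := by
    rw [ha, ← map_mul]
    apply (QuotientGroup.eq_one_iff _).2
    rw [hN]
    exact Subgroup.mem_zpowers _
  have hbp : b ^ p = 1 := by
    rw [hb, ← map_pow]
    have h1 : (⟨y, hyK⟩ : ↥K) ^ p = 1 := by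
      apply Subtype.ext
      simp only [Subgroup.coe_pow, Subgroup.coe_one]
      exact hyp
    rw [h1, map_one]
  have hb1 : b ≠ 1 := by
    intro h
    rw [hb] at h
    have h1 : (⟨y, hyK⟩ : ↥K) ∈ N := (QuotientGroup.eq_one_iff _).1 h
    have h2 := hNc _ h1 ⟨x, hxK⟩
    have h3 : x * y = y * x := congrArg Subtype.val h2
    apply hy2
    have h4 : y⁻¹ = y := by
      rw [← hinv, h3]; group
    calc y * y = y * y⁻¹ := by rw [h4]
      _ = 1 := mul_inv_cancel y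
  have hab : a * b * a⁻¹ = b⁻¹ := by
    rw [ha, hb, ← map_inv, ← map_inv, ← map_mul, ← map_mul]
    congr 1
    apply Subtype.ext
    simp only [Subgroup.coe_mul, Subgroup.coe_inv]
    exact hinv
  have h1 : Cfsg.Involves (DihedralGroup p) (↥K ⧸ N) :=
    involves_dp_of_inverted p hp2 a b haa hbp hb1 hab
  have h2 : Cfsg.Involves (DihedralGroup p) ↥K := Cfsg.Agent.Helper19.HH.involves_of_quot N h1
  obtain ⟨K', f, hf⟩ := Cfsg.Agent.Helper26.exists_surj_of_involves h2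
  exact Cfsg.Agent.Helper26.involves_of_span (K.subtype.comp K'.subtype)
    ((Subgroup.subtype_injective K).comp (Subgroup.subtype_injective K')) f hf

theorem exists_norm_of_surj {K : Type*} [Group K] [Finite K] (p : ℕ) [Fact p.Prime] (hp2 : p ≠ 2)
    (f : K →* DihedralGroup p) (hf : Function.Surjective f) :
    ∃ (x : K) (P : Subgroup K), (∃ k : ℕ, orderOf x = 2 ^ k) ∧ IsPGroup p ↥P ∧
      x ∈ Subgroup.normalizer (P : Set K) ∧ x ∉ Subgroup.centralizer (P : Set K) := by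
  classical
  have hpp := (Fact.out : p.Prime)
  haveI : NeZero p := ⟨hpp.ne_zero⟩
  obtain ⟨K₀, hK₀mem⟩ : ∃ K₀ : Subgroup K, ∀ k : K, k ∈ K₀ ↔ ∃ i, f k = DihedralGroup.r i :=
    ⟨{ carrier := {k | ∃ i, f k = DihedralGroup.r i}
       mul_mem' := by
         rintro a b ⟨i, hi⟩ ⟨j, hj⟩
         exact ⟨i + j, by rw [map_mul, hi, hj, DihedralGroup.r_mul_r]⟩
       one_mem' := ⟨0, by rw [map_one, DihedralGroup.one_def]⟩
       inv_mem' := by
         rintro a ⟨i, hi⟩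
         refine ⟨-i, ?_⟩
         rw [map_inv, hi]
         apply inv_eq_of_mul_eq_one_right
         rw [DihedralGroup.r_mul_r, add_neg_cancel, DihedralGroup.one_def] }, fun k => Iff.rfl⟩
  haveI hK₀n : K₀.Normal := ⟨by
    intro n hn g
    rw [hK₀mem] at hn ⊢
    obtain ⟨i, hi⟩ := hn
    rw [map_mul, map_mul, map_inv, hi]
    rcases hfg : f g with j | j
    · refine ⟨i, ?_⟩
      rw [mul_inv_eq_iff_eq_mul, DihedralGroup.r_mul_r, DihedralGroup.r_mul_r, add_comm]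
    · refine ⟨-i, ?_⟩
      rw [mul_inv_eq_iff_eq_mul, DihedralGroup.sr_mul_r, DihedralGroup.r_mul_sr]
      congr 1
      ring⟩
  obtain ⟨k₁, hk₁⟩ := hf (DihedralGroup.r 1)
  have hn0 : orderOf k₁ ≠ 0 := (orderOf_pos k₁).ne'
  obtain ⟨e, b, hb, hn⟩ := Nat.exists_eq_pow_mul_and_not_dvd hn0 p hpp.ne_one
  obtain ⟨y₁, hy₁⟩ : ∃ y₁ : K, y₁ = k₁ ^ b := ⟨_, rfl⟩
  have hy₁p : y₁ ^ p ^ e = 1 := by
    rw [hy₁, ← pow_mul, mul_comm, ← hn, pow_orderOf_eq_one]
  have hfy₁ : f y₁ = DihedralGroup.r (b : ZMod p) := by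
    rw [hy₁, map_pow, hk₁, DihedralGroup.r_one_pow]
  have hb0 : (b : ZMod p) ≠ 0 := by
    rw [Ne, ZMod.natCast_eq_zero_iff]
    exact hb
  have hy₁K₀ : y₁ ∈ K₀ := (hK₀mem y₁).2 ⟨_, hfy₁⟩
  have hzp : IsPGroup p (Subgroup.zpowers (⟨y₁, hy₁K₀⟩ : ↥K₀)) := by
    intro g
    refine ⟨e, ?_⟩
    obtain ⟨g, hg⟩ := g
    rw [Subgroup.mem_zpowers_iff] at hg
    obtain ⟨i, rfl⟩ := hg
    apply Subtype.ext
    apply Subtype.ext
    simp only [Subgroup.coe_pow, Subgroup.coe_zpow, Subgroup.coe_one]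
    rw [← zpow_natCast, ← zpow_mul, mul_comm, zpow_mul, zpow_natCast, hy₁p, one_zpow]
  obtain ⟨P₀, hP₀⟩ := hzp.exists_le_sylow
  obtain ⟨P, hP⟩ : ∃ P : Subgroup K, P = (P₀ : Subgroup ↥K₀).map K₀.subtype := ⟨_, rfl⟩
  have hPp : IsPGroup p P := by rw [hP]; exact P₀.isPGroup'.map _
  have hy₁P : y₁ ∈ P := by
    rw [hP]
    exact ⟨⟨y₁, hy₁K₀⟩, hP₀ (Subgroup.mem_zpowers _), rfl⟩
  have hfrat : Subgroup.normalizer (P : Set K) ⊔ K₀ = ⊤ := by
    rw [hP]; exact Sylow.normalizer_sup_eq_top P₀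
  obtain ⟨m, hmN, hmK₀⟩ : ∃ m ∈ Subgroup.normalizer (P : Set K), m ∉ K₀ := by
    by_contra hcon
    push Not at hcon
    have h1 : Subgroup.normalizer (P : Set K) ≤ K₀ := hcon
    rw [sup_eq_right.mpr h1] at hfrat
    obtain ⟨k₂, hk₂⟩ := hf (DihedralGroup.sr 0)
    have h2 : k₂ ∈ K₀ := by rw [hfrat]; exact Subgroup.mem_top _
    obtain ⟨i, hi⟩ := (hK₀mem k₂).1 h2
    rw [hk₂] at hi
    exact absurd hi (by simp)
  obtain ⟨i, hi⟩ : ∃ i, f m = DihedralGroup.sr i := by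
    rcases hfm : f m with j | j
    · exact absurd ((hK₀mem m).2 ⟨j, hfm⟩) hmK₀
    · exact ⟨j, rfl⟩
  have hm0 : orderOf m ≠ 0 := (orderOf_pos m).ne'
  obtain ⟨e', a, ha, hm⟩ := Nat.exists_eq_pow_mul_and_not_dvd hm0 2 (by norm_num)
  obtain ⟨x, hx⟩ : ∃ x : K, x = m ^ a := ⟨_, rfl⟩
  have hx2 : x ^ 2 ^ e' = 1 := by
    rw [hx, ← pow_mul, mul_comm, ← hm, pow_orderOf_eq_one]
  have hfx : f x = DihedralGroup.sr i := by
    rw [hx, map_pow, hi]
    obtain ⟨c, hc⟩ : Odd a := Nat.odd_iff.mpr (by omega)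
    rw [hc, pow_succ, pow_mul, pow_two, DihedralGroup.sr_mul_self, one_pow, one_mul]
  refine ⟨x, P, ?_, hPp, ?_, ?_⟩
  · obtain ⟨j, -, hj⟩ := (Nat.dvd_prime_pow Nat.prime_two).1 (orderOf_dvd_of_pow_eq_one hx2)
    exact ⟨j, hj⟩
  · rw [hx]; exact Subgroup.pow_mem _ hmN a
  · intro hxC
    have h1 := Subgroup.mem_centralizer_iff.mp hxC y₁ hy₁P
    have h2 := congrArg f h1
    rw [map_mul, map_mul, hfx, hfy₁, DihedralGroup.r_mul_sr, DihedralGroup.sr_mul_r] at h2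
    have h3 : i - (b : ZMod p) = i + (b : ZMod p) := by
      injection h2
    have h4 : (2 : ZMod p) * (b : ZMod p) = 0 := by
      linear_combination (-1 : ZMod p) * h3
    rcases mul_eq_zero.mp h4 with h5 | h5
    · have h6 : ((2 : ℕ) : ZMod p) = 0 := by rw [Nat.cast_ofNat]; exact h5
      rw [ZMod.natCast_eq_zero_iff] at h6
      exact hp2 ((Nat.prime_dvd_prime_iff_eq hpp Nat.prime_two).mp h6)
    · exact hb0 h5

theorem exists_inv_of_norm {G : Type*} [Group G] (p : ℕ) [Fact p.Prime] (x : G) (P : Subgroup G)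
    (hx : ∃ k : ℕ, orderOf x = 2 ^ k) (hP : IsPGroup p ↥P)
    (hxN : x ∈ Subgroup.normalizer (P : Set G)) (hxC : x ∉ Subgroup.centralizer (P : Set G)) :
    ∃ x' y : G, (∃ k : ℕ, orderOf x' = 2 ^ k) ∧ (∃ k : ℕ, orderOf y = p ^ k) ∧ y ≠ 1 ∧
      x' * y * x'⁻¹ = y⁻¹ := by
  classical
  have hpp := (Fact.out : p.Prime)
  obtain ⟨k, hk⟩ := hx
  have hex : ∃ j : ℕ, x ^ 2 ^ j ∈ Subgroup.centralizer (P : Set G) :=
    ⟨k, by rw [← hk, pow_orderOf_eq_one]; exact one_mem _⟩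
  obtain ⟨j, hj⟩ : ∃ j : ℕ, j = Nat.find hex := ⟨_, rfl⟩
  have hjspec : x ^ 2 ^ j ∈ Subgroup.centralizer (P : Set G) := by rw [hj]; exact Nat.find_spec hex
  have hjmin : ∀ i : ℕ, i < j → x ^ 2 ^ i ∉ Subgroup.centralizer (P : Set G) := by
    intro i hi
    rw [hj] at hi
    exact Nat.find_min hex hi
  have hj0 : j ≠ 0 := by
    intro h
    rw [h, pow_zero, pow_one] at hjspec
    exact hxC hjspec
  obtain ⟨j', rfl⟩ := Nat.exists_eq_succ_of_ne_zero hj0
  obtain ⟨x', hx'⟩ : ∃ x' : G, x' = x ^ 2 ^ j' := ⟨_, rfl⟩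
  have hx'C : x' ∉ Subgroup.centralizer (P : Set G) := by
    rw [hx']
    exact hjmin j' (Nat.lt_succ_self j')
  have hx'2 : x' * x' ∈ Subgroup.centralizer (P : Set G) := by
    have h2 : x ^ 2 ^ (j' + 1) = x' * x' := by rw [hx', pow_succ, pow_mul, pow_two]
    rw [← h2]
    exact hjspec
  have hx'N : x' ∈ Subgroup.normalizer (P : Set G) := by
    rw [hx']; exact Subgroup.pow_mem _ hxN _
  have hx'o : ∃ k : ℕ, orderOf x' = 2 ^ k := by
    have h1 : x' ^ 2 ^ k = 1 := by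
      rw [hx', ← pow_mul, mul_comm, pow_mul, ← hk, pow_orderOf_eq_one, one_pow]
    obtain ⟨i, -, hi⟩ := (Nat.dvd_prime_pow Nat.prime_two).1 (orderOf_dvd_of_pow_eq_one h1)
    exact ⟨i, hi⟩
  obtain ⟨z, hzP, hz⟩ : ∃ z ∈ P, x' * z * x'⁻¹ ≠ z := by
    by_contra hcon
    push Not at hcon
    apply hx'C
    rw [Subgroup.mem_centralizer_iff]
    intro h hh
    have h1 := hcon h hh
    calc h * x' = (x' * h * x'⁻¹) * x' := by rw [h1]
      _ = x' * h := by group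
  have hzx : x' * z * x'⁻¹ ∈ P := (Subgroup.mem_normalizer_iff.mp hx'N z).mp hzP
  have hcomm : z * (x' * x') = (x' * x') * z := Subgroup.mem_centralizer_iff.mp hx'2 z hzP
  refine ⟨x', z⁻¹ * (x' * z * x'⁻¹), hx'o, ?_, ?_, ?_⟩
  · have hyP : z⁻¹ * (x' * z * x'⁻¹) ∈ P := P.mul_mem (P.inv_mem hzP) hzx
    obtain ⟨i, hi⟩ := hP ⟨_, hyP⟩
    have h1 : (z⁻¹ * (x' * z * x'⁻¹)) ^ p ^ i = 1 := by
      have h2 := congrArg (fun w : ↥P => (w : G)) hi
      simpa using h2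
    obtain ⟨j, -, hj⟩ := (Nat.dvd_prime_pow hpp).1 (orderOf_dvd_of_pow_eq_one h1)
    exact ⟨j, hj⟩
  · intro h
    apply hz
    exact (inv_mul_eq_one.mp h).symm
  · have h1 : x' * x' * z * x'⁻¹ * x'⁻¹ = z := by
      rw [← hcomm]; group
    calc x' * (z⁻¹ * (x' * z * x'⁻¹)) * x'⁻¹
        = (x' * z * x'⁻¹)⁻¹ * (x' * x' * z * x'⁻¹ * x'⁻¹) := by group
      _ = (x' * z * x'⁻¹)⁻¹ * z := by rw [h1]
      _ = (z⁻¹ * (x' * z * x'⁻¹))⁻¹ := by group

/-- For an odd prime p and a finite group G the following are equivalent: the dihedral group of order 2p is involved in G; some element of 2-power order normalizes but does not centralize some p-subgroup of G; some element of 2-power order inverts some nonidentity element of p-power order. -/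
theorem result {G : Type*} [Group G] [Finite G] {p : ℕ} [Fact p.Prime] (hp : p ≠ 2) : (Cfsg.Involves (DihedralGroup p) G ↔ ∃ (x : G) (P : Subgroup G), (∃ k : ℕ, orderOf x = 2 ^ k) ∧ IsPGroup p ↥P ∧ x ∈ Subgroup.normalizer (P : Set G) ∧ x ∉ Subgroup.centralizer (P : Set G)) ∧ (Cfsg.Involves (DihedralGroup p) G ↔ ∃ x y : G, (∃ k : ℕ, orderOf x = 2 ^ k) ∧ (∃ k : ℕ, orderOf y = p ^ k) ∧ y ≠ 1 ∧ x * y * x⁻¹ = y⁻¹) := by
  have hpp := (Fact.out : p.Prime)
  have hab : Cfsg.Involves (DihedralGroup p) G → ∃ (x : G) (P : Subgroup G),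
      (∃ k : ℕ, orderOf x = 2 ^ k) ∧ IsPGroup p ↥P ∧ x ∈ Subgroup.normalizer (P : Set G) ∧
      x ∉ Subgroup.centralizer (P : Set G) := by
    intro h
    obtain ⟨K, f, hf⟩ := Cfsg.Agent.Helper26.exists_surj_of_involves h
    obtain ⟨x, P, ⟨k, hk⟩, hP, hxN, hxC⟩ := exists_norm_of_surj p hp f hf
    refine ⟨(x : G), P.map K.subtype, ⟨k, by rw [Subgroup.orderOf_coe]; exact hk⟩, hP.map _,
      ?_, ?_⟩
    · rw [Subgroup.mem_normalizer_iff]
      intro h
      constructor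
      · rintro ⟨h', hh', rfl⟩
        exact ⟨x * h' * x⁻¹, (Subgroup.mem_normalizer_iff.mp hxN h').mp hh', rfl⟩
      · rintro ⟨h'', hh'', he⟩
        have h1 := (Subgroup.mem_normalizer_iff.mp (inv_mem hxN) h'').mp hh''
        refine ⟨x⁻¹ * h'' * x⁻¹⁻¹, h1, ?_⟩
        simp only [Subgroup.coe_subtype, Subgroup.coe_mul, Subgroup.coe_inv] at he ⊢
        rw [he]; group
    · intro hC
      apply hxC
      rw [Subgroup.mem_centralizer_iff]
      intro h' hh'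
      have h1 := Subgroup.mem_centralizer_iff.mp hC (h' : G) ⟨h', hh', rfl⟩
      exact Subtype.ext h1
  have hbc : (∃ (x : G) (P : Subgroup G),
      (∃ k : ℕ, orderOf x = 2 ^ k) ∧ IsPGroup p ↥P ∧ x ∈ Subgroup.normalizer (P : Set G) ∧
      x ∉ Subgroup.centralizer (P : Set G)) → ∃ x y : G, (∃ k : ℕ, orderOf x = 2 ^ k) ∧
      (∃ k : ℕ, orderOf y = p ^ k) ∧ y ≠ 1 ∧ x * y * x⁻¹ = y⁻¹ := by
    rintro ⟨x, P, hx, hP, hxN, hxC⟩
    exact exists_inv_of_norm p x P hx hP hxN hxC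
  have hca : (∃ x y : G, (∃ k : ℕ, orderOf x = 2 ^ k) ∧
      (∃ k : ℕ, orderOf y = p ^ k) ∧ y ≠ 1 ∧ x * y * x⁻¹ = y⁻¹) →
      Cfsg.Involves (DihedralGroup p) G := by
    rintro ⟨x, y, -, ⟨k, hk⟩, hy1, hinv⟩
    have hk0 : k ≠ 0 := by
      intro h
      rw [h, pow_zero, orderOf_eq_one_iff] at hk
      exact hy1 hk
    obtain ⟨k', rfl⟩ := Nat.exists_eq_succ_of_ne_zero hk0
    apply involves_dp_of_inv_elt p hp x (y ^ p ^ k')
    · rw [← pow_mul, ← pow_succ, ← hk, pow_orderOf_eq_one]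
    · intro h
      have h1 := orderOf_dvd_of_pow_eq_one h
      rw [hk] at h1
      have h2 := (Nat.pow_dvd_pow_iff_le_right hpp.one_lt).mp h1
      omega
    · rw [← conj_pow, hinv, inv_pow]
  have hcb : (∃ x y : G, (∃ k : ℕ, orderOf x = 2 ^ k) ∧
      (∃ k : ℕ, orderOf y = p ^ k) ∧ y ≠ 1 ∧ x * y * x⁻¹ = y⁻¹) → ∃ (x : G) (P : Subgroup G),
      (∃ k : ℕ, orderOf x = 2 ^ k) ∧ IsPGroup p ↥P ∧ x ∈ Subgroup.normalizer (P : Set G) ∧
      x ∉ Subgroup.centralizer (P : Set G) := by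
    rintro ⟨x, y, hx, ⟨k, hk⟩, hy1, hinv⟩
    refine ⟨x, Subgroup.zpowers y, hx,
      IsPGroup.of_card (n := k) (by rw [Nat.card_zpowers, hk]), ?_, ?_⟩
    · have hinv' : x⁻¹ * y * x⁻¹⁻¹ = y⁻¹ := by
        have h3 : (x * y * x⁻¹)⁻¹ = y := by rw [hinv, inv_inv]
        calc x⁻¹ * y * x⁻¹⁻¹ = x⁻¹ * (x * y * x⁻¹)⁻¹ * x⁻¹⁻¹ := by rw [h3]
          _ = y⁻¹ := by group
      rw [Subgroup.mem_normalizer_iff]
      intro h
      constructor
      · intro hh
        rw [Subgroup.mem_zpowers_iff] at hh ⊢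
        obtain ⟨i, rfl⟩ := hh
        refine ⟨-i, ?_⟩
        rw [← conj_zpow, hinv, inv_zpow, zpow_neg]
      · intro hh
        rw [Subgroup.mem_zpowers_iff] at hh ⊢
        obtain ⟨i, hi⟩ := hh
        refine ⟨-i, ?_⟩
        have h4 : h = x⁻¹ * y ^ i * x⁻¹⁻¹ := by rw [hi]; group
        rw [h4, ← conj_zpow, hinv', inv_zpow, zpow_neg]
    · intro hC
      have h1 := Subgroup.mem_centralizer_iff.mp hC y (Subgroup.mem_zpowers y)
      have h4 : y⁻¹ = y := by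
        rw [← hinv, ← h1]; group
      have h5 : y ^ 2 = 1 := by
        rw [pow_two]
        calc y * y = y * y⁻¹ := by rw [h4]
          _ = 1 := mul_inv_cancel y
      have h6 := orderOf_dvd_of_pow_eq_one h5
      rw [hk] at h6
      have hk0 : k ≠ 0 := by
        intro h
        rw [h, pow_zero, orderOf_eq_one_iff] at hk
        exact hy1 hk
      have h7 : p ∣ 2 := (dvd_pow_self p hk0).trans h6
      exact hp ((Nat.prime_dvd_prime_iff_eq hpp Nat.prime_two).mp h7)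
  exact ⟨⟨hab, fun h => hca (hbc h)⟩, ⟨fun h => hbc (hab h), hca⟩⟩

end Cfsg.Agent.S2758
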