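import Mathlib
import Cfsg.Statements.S2759
import Cfsg.Agent.Helper19.HH3
import Cfsg.Agent.S0444

set_option autoImplicit false
open Cfsg

namespace Cfsg.Agent.S2759

/-- A self-map of `p`-power order on a finite set of size prime to `p` has a fixed point. -/
theorem exists_fixed_of_not_dvd {α : Type*} [Finite α] (p : ℕ) [Fact p.Prime] (τ : α → α) (n : ℕ)
    (hτ : ∀ a, τ^[p ^ n] a = a) (hcard : ¬ p ∣ Nat.card α) : ∃ a, τ a = a := by
  classical
  haveI := Fintype.ofFinite α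
  obtain ⟨f, hf0⟩ : ∃ f : Function.End α, ∀ a, f a = τ a := ⟨τ, fun _ => rfl⟩
  have key : ∀ k (a : α), (f ^ k) a = τ^[k] a := by
    intro k
    induction k with
    | zero => intro a; rfl
    | succ k ih =>
      intro a
      rw [pow_succ]
      show (f ^ k) (f a) = _
      rw [ih, hf0, Function.iterate_succ_apply]
  have hf : f ^ p ^ n = 1 := by
    funext a
    rw [key]; exact hτ a
  have h1 := Equiv.Perm.card_fixedPoints_modEq (f := f) (p := p) (n := n) hf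
  by_contra hcon
  push Not at hcon
  have h2 : Fintype.card (Function.fixedPoints f) = 0 := by
    rw [Fintype.card_eq_zero_iff]
    exact ⟨fun ⟨a, ha⟩ => hcon a ((hf0 a).symm.trans ha)⟩
  have h3 : Fintype.card α ≡ 0 [MOD p] :=
    h1.trans (show Fintype.card (Function.fixedPoints f) ≡ 0 [MOD p] by rw [h2])
  apply hcard
  rw [Nat.card_eq_fintype_card]
  exact (Nat.modEq_zero_iff_dvd).mp h3

/-- A self-map of `p`-power order on a finite set of size divisible by `p` with a fixed point has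
another one. -/
theorem exists_fixed_ne {α : Type*} [Finite α] (p : ℕ) [Fact p.Prime] (τ : α → α) (n : ℕ)
    (hτ : ∀ a, τ^[p ^ n] a = a) (hcard : p ∣ Nat.card α) (a₀ : α) (ha₀ : τ a₀ = a₀) :
    ∃ a, a ≠ a₀ ∧ τ a = a := by
  classical
  haveI := Fintype.ofFinite α
  obtain ⟨f, hf0⟩ : ∃ f : Function.End α, ∀ a, f a = τ a := ⟨τ, fun _ => rfl⟩
  have key : ∀ k (a : α), (f ^ k) a = τ^[k] a := by
    intro k
    induction k with
    | zero => intro a; rfl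
    | succ k ih =>
      intro a
      rw [pow_succ]
      show (f ^ k) (f a) = _
      rw [ih, hf0, Function.iterate_succ_apply]
  have hf : f ^ p ^ n = 1 := by
    funext a
    rw [key]; exact hτ a
  have h1 := Equiv.Perm.card_fixedPoints_modEq (f := f) (p := p) (n := n) hf
  have h2 : p ∣ Fintype.card (Function.fixedPoints f) := by
    rw [Nat.card_eq_fintype_card] at hcard
    exact (Nat.modEq_zero_iff_dvd).mp (h1.symm.trans ((Nat.modEq_zero_iff_dvd).mpr hcard))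
  have h3 : 1 < Fintype.card (Function.fixedPoints f) := by
    have hpos : 0 < Fintype.card (Function.fixedPoints f) :=
      Fintype.card_pos_iff.mpr ⟨⟨a₀, (hf0 a₀).trans ha₀⟩⟩
    have h4 := Nat.le_of_dvd hpos h2
    have h5 := (Fact.out : p.Prime).two_le
    omega
  obtain ⟨⟨a, ha⟩, hne⟩ := Fintype.exists_ne_of_one_lt_card h3 ⟨a₀, (hf0 a₀).trans ha₀⟩
  exact ⟨a, fun h => hne (Subtype.ext h), (hf0 a).symm.trans ha⟩

/-- An element of `p`-power order normalizing a finite subgroup of order divisible by `p`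
centralizes a non-identity element of it. -/
theorem conj_fixed_ne {X : Type*} [Group X] (W : Subgroup X) [Finite ↥W] (p : ℕ) [Fact p.Prime]
    (x : X) (n : ℕ) (hx : x ^ p ^ n = 1) (hxW : ∀ w ∈ W, x * w * x⁻¹ ∈ W)
    (hcard : p ∣ Nat.card W) : ∃ a ∈ W, a ≠ 1 ∧ x * a * x⁻¹ = a := by
  obtain ⟨τ, hτ0⟩ : ∃ τ : ↥W → ↥W, ∀ w : ↥W, ((τ w : ↥W) : X) = x * w * x⁻¹ :=
    ⟨fun w => ⟨x * w * x⁻¹, hxW w w.2⟩, fun _ => rfl⟩
  have key : ∀ k (w : ↥W), ((τ^[k] w : ↥W) : X) = x ^ k * w * (x ^ k)⁻¹ := by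
    intro k
    induction k with
    | zero => intro w; simp
    | succ k ih =>
      intro w
      rw [Function.iterate_succ_apply', hτ0, ih, pow_succ']
      group
  obtain ⟨a, ha1, ha⟩ := exists_fixed_ne p τ n (fun w => Subtype.ext (by rw [key, hx]; simp))
    hcard 1 (Subtype.ext (by rw [hτ0]; simp))
  refine ⟨a, a.2, fun h => ha1 (Subtype.ext h), ?_⟩
  rw [← hτ0, ha]

/-- Coprime action on a coset: a fixed point. -/
theorem coset_fixed {X : Type*} [Group X] (Z : Subgroup X) [Finite ↥Z] (p : ℕ) [Fact p.Prime]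
    (g : X) (n : ℕ) (hg : g ^ p ^ n = 1) (hgZ : ∀ z ∈ Z, g * z * g⁻¹ ∈ Z)
    (hcard : ¬ p ∣ Nat.card Z) (u : X) (hu : u⁻¹ * (g * u * g⁻¹) ∈ Z) :
    ∃ z ∈ Z, g * (u * z) * g⁻¹ = u * z := by
  obtain ⟨τ, hτ0⟩ : ∃ τ : ↥Z → ↥Z, ∀ z : ↥Z, ((τ z : ↥Z) : X) = u⁻¹ * (g * (u * z) * g⁻¹) := by
    refine ⟨fun z => ⟨u⁻¹ * (g * (u * z) * g⁻¹), ?_⟩, fun _ => rfl⟩
    have h1 := Z.mul_mem hu (hgZ z z.2)
    have h2 : u⁻¹ * (g * (u * z) * g⁻¹) = u⁻¹ * (g * u * g⁻¹) * (g * z * g⁻¹) := by group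
    rw [h2]; exact h1
  have key : ∀ k (z : ↥Z), ((τ^[k] z : ↥Z) : X) = u⁻¹ * (g ^ k * (u * z) * (g ^ k)⁻¹) := by
    intro k
    induction k with
    | zero => intro z; simp
    | succ k ih =>
      intro z
      rw [Function.iterate_succ_apply', hτ0, ih, pow_succ']
      group
  obtain ⟨z, hz⟩ := exists_fixed_of_not_dvd p τ n (fun w => Subtype.ext (by rw [key, hg]; simp))
    hcard
  refine ⟨z, z.2, ?_⟩
  have h1 := hτ0 z
  rw [hz] at h1
  calc g * (u * z) * g⁻¹ = u * (u⁻¹ * (g * (u * z) * g⁻¹)) := by group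
    _ = u * z := by rw [← h1]

/-- An elementary abelian `2`-subgroup normalized by a `2`-element `x` and a `3`-element `y`
inverted by `x`, with `y` acting nontrivially: `S₄` is involved. -/
theorem s4_of_elemab {H : Type*} [Group H] [Finite H] (V : Subgroup H)
    (hVc : ∀ u ∈ V, ∀ v ∈ V, u * v = v * u) (hV2 : ∀ u ∈ V, u * u = 1)
    (x y : H) (hxV : ∀ v ∈ V, x * v * x⁻¹ ∈ V) (hyV : ∀ v ∈ V, y * v * y⁻¹ ∈ V)
    (f : ℕ) (hx : x ^ 2 ^ f = 1) (e : ℕ) (hy : y ^ 3 ^ e = 1) (hinv : x * y * x⁻¹ = y⁻¹)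
    (hyC : ∃ v ∈ V, y * v * y⁻¹ ≠ v) : Cfsg.Involves (Equiv.Perm (Fin 4)) H := by
  classical
  have hypow : ∀ m : ℕ, ∀ v ∈ V, y ^ m * v * (y ^ m)⁻¹ ∈ V := by
    intro m
    induction m with
    | zero => intro v hv; simpa using hv
    | succ m ih =>
      intro v hv
      have h1 := hyV _ (ih v hv)
      have h2 : y ^ (m + 1) * v * (y ^ (m + 1))⁻¹ = y * (y ^ m * v * (y ^ m)⁻¹) * y⁻¹ := by
        rw [pow_succ']; group
      rw [h2]; exact h1
  have hex : ∃ j : ℕ, ∀ v ∈ V, y ^ 3 ^ j * v * (y ^ 3 ^ j)⁻¹ = v :=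
    ⟨e, fun v _ => by rw [hy]; simp⟩
  obtain ⟨j, hj⟩ : ∃ j : ℕ, j = Nat.find hex := ⟨_, rfl⟩
  have hjspec : ∀ v ∈ V, y ^ 3 ^ j * v * (y ^ 3 ^ j)⁻¹ = v := by
    rw [hj]; exact Nat.find_spec hex
  have hjmin : ∀ i : ℕ, i < j → ¬ ∀ v ∈ V, y ^ 3 ^ i * v * (y ^ 3 ^ i)⁻¹ = v := by
    intro i hi
    rw [hj] at hi
    exact Nat.find_min hex hi
  have hj0 : j ≠ 0 := by
    intro h
    rw [h, pow_zero, pow_one] at hjspec
    obtain ⟨v, hv, hne⟩ := hyC
    exact hne (hjspec v hv)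
  obtain ⟨j', rfl⟩ := Nat.exists_eq_succ_of_ne_zero hj0
  obtain ⟨k, hk⟩ : ∃ k : H, k = y ^ 3 ^ j' := ⟨_, rfl⟩
  have hkV : ∀ v ∈ V, k * v * k⁻¹ ∈ V := by rw [hk]; exact hypow _
  have hk3 : ∀ v ∈ V, k * (k * (k * v * k⁻¹) * k⁻¹) * k⁻¹ = v := by
    intro v hv
    have h1 := hjspec v hv
    have h2 : y ^ 3 ^ (j' + 1) = k * k * k := by
      rw [hk, pow_succ, pow_mul, pow_succ, pow_two]
    rw [h2] at h1
    calc k * (k * (k * v * k⁻¹) * k⁻¹) * k⁻¹ = k * k * k * v * (k * k * k)⁻¹ := by group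
      _ = v := h1
  obtain ⟨u, huV, hu⟩ : ∃ u ∈ V, k * u * k⁻¹ ≠ u := by
    have h1 := hjmin j' (Nat.lt_succ_self j')
    push Not at h1
    rw [hk]
    exact h1
  have hinvk : x * k * x⁻¹ = k⁻¹ := by rw [hk, ← conj_pow, hinv, inv_pow]
  have hkx : k * x = x * k⁻¹ := by
    calc k * x = k * (x * k * x⁻¹) * x * k⁻¹ := by group
      _ = x * k⁻¹ := by rw [hinvk]; group
  obtain ⟨W, hW⟩ : ∃ W : Subgroup H, ∀ v, v ∈ W ↔
      v ∈ V ∧ v * (k * v * k⁻¹) * (k * (k * v * k⁻¹) * k⁻¹) = 1 := by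
    refine ⟨{ carrier := {v | v ∈ V ∧ v * (k * v * k⁻¹) * (k * (k * v * k⁻¹) * k⁻¹) = 1}
              one_mem' := ⟨V.one_mem, by group⟩
              mul_mem' := ?_
              inv_mem' := ?_ }, fun v => Iff.rfl⟩
    · rintro a b ⟨haV, ha⟩ ⟨hbV, hb⟩
      refine ⟨V.mul_mem haV hbV, ?_⟩
      obtain ⟨a1, ea1⟩ : ∃ a1, a1 = k * a * k⁻¹ := ⟨_, rfl⟩
      obtain ⟨a2, ea2⟩ : ∃ a2, a2 = k * a1 * k⁻¹ := ⟨_, rfl⟩
      obtain ⟨b1, eb1⟩ : ∃ b1, b1 = k * b * k⁻¹ := ⟨_, rfl⟩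
      obtain ⟨b2, eb2⟩ : ∃ b2, b2 = k * b1 * k⁻¹ := ⟨_, rfl⟩
      rw [← ea1, ← ea2] at ha
      rw [← eb1, ← eb2] at hb
      have ha1V : a1 ∈ V := ea1 ▸ hkV a haV
      have ha2V : a2 ∈ V := ea2 ▸ hkV a1 ha1V
      have hb1V : b1 ∈ V := eb1 ▸ hkV b hbV
      have e1 : k * (a * b) * k⁻¹ = a1 * b1 := by rw [ea1, eb1]; group
      have e2 : k * (a1 * b1) * k⁻¹ = a2 * b2 := by rw [ea2, eb2]; group
      rw [e1, e2]
      have c1 : b * a1 = a1 * b := hVc b hbV a1 ha1V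
      have c2 : (b * b1) * a2 = a2 * (b * b1) := hVc _ (V.mul_mem hbV hb1V) a2 ha2V
      calc a * b * (a1 * b1) * (a2 * b2) = a * (b * a1) * b1 * a2 * b2 := by
            simp only [mul_assoc]
        _ = a * (a1 * b) * b1 * a2 * b2 := by rw [c1]
        _ = a * a1 * ((b * b1) * a2) * b2 := by simp only [mul_assoc]
        _ = a * a1 * (a2 * (b * b1)) * b2 := by rw [c2]
        _ = (a * a1 * a2) * (b * b1 * b2) := by simp only [mul_assoc]
        _ = 1 := by rw [ha, hb, one_mul]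
    · rintro a ⟨haV, ha⟩
      have h1 : a⁻¹ = a := inv_eq_of_mul_eq_one_left (hV2 a haV)
      rw [h1]
      exact ⟨haV, ha⟩
  obtain ⟨u1, eu1⟩ : ∃ u1, u1 = k * u * k⁻¹ := ⟨_, rfl⟩
  obtain ⟨u2, eu2⟩ : ∃ u2, u2 = k * u1 * k⁻¹ := ⟨_, rfl⟩
  have hu1V : u1 ∈ V := eu1 ▸ hkV u huV
  have hu2V : u2 ∈ V := eu2 ▸ hkV u1 hu1V
  have hu3 : k * u2 * k⁻¹ = u := by rw [eu2, eu1]; exact hk3 u huV
  have hwW : u * u1 ∈ W := by
    rw [hW]
    refine ⟨V.mul_mem huV hu1V, ?_⟩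
    have e1 : k * (u * u1) * k⁻¹ = u1 * u2 := by rw [eu2, eu1]; group
    have e2 : k * (u1 * u2) * k⁻¹ = u2 * u := by
      have h1 : k * (u1 * u2) * k⁻¹ = (k * u1 * k⁻¹) * (k * u2 * k⁻¹) := by group
      rw [h1, hu3, ← eu2]
    rw [e1, e2]
    calc u * u1 * (u1 * u2) * (u2 * u) = u * ((u1 * u1) * ((u2 * u2) * u)) := by
          simp only [mul_assoc]
      _ = 1 := by rw [hV2 u1 hu1V, hV2 u2 hu2V, one_mul, one_mul, hV2 u huV]
  have hw1 : u * u1 ≠ 1 := by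
    intro h
    apply hu
    rw [← eu1]
    have h1 : u1 = u⁻¹ := eq_inv_of_mul_eq_one_right h
    rw [h1]; exact inv_eq_of_mul_eq_one_left (hV2 u huV)
  have hxW : ∀ w ∈ W, x * w * x⁻¹ ∈ W := by
    intro v hv
    rw [hW] at hv ⊢
    obtain ⟨hvV, hv1⟩ := hv
    obtain ⟨c1, ec1⟩ : ∃ c1, c1 = k * v * k⁻¹ := ⟨_, rfl⟩
    obtain ⟨c2, ec2⟩ : ∃ c2, c2 = k * c1 * k⁻¹ := ⟨_, rfl⟩
    rw [← ec1, ← ec2] at hv1
    have hc1V : c1 ∈ V := ec1 ▸ hkV v hvV
    have hc2V : c2 ∈ V := ec2 ▸ hkV c1 hc1V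
    have hc3 : k * c2 * k⁻¹ = v := by rw [ec2, ec1]; exact hk3 v hvV
    refine ⟨hxV v hvV, ?_⟩
    have key : ∀ z : H, k * (x * z * x⁻¹) * k⁻¹ = x * (k⁻¹ * z * k) * x⁻¹ := by
      intro z
      have h1 : x⁻¹ * k⁻¹ = k * x⁻¹ := by
        have h2 : (k * x)⁻¹ = (x * k⁻¹)⁻¹ := by rw [hkx]
        rw [mul_inv_rev, mul_inv_rev, inv_inv] at h2
        exact h2
      calc k * (x * z * x⁻¹) * k⁻¹ = (k * x) * z * (x⁻¹ * k⁻¹) := by group
        _ = (x * k⁻¹) * z * (k * x⁻¹) := by rw [hkx, h1]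
        _ = x * (k⁻¹ * z * k) * x⁻¹ := by group
    have e1 : k⁻¹ * v * k = c2 := by rw [← hc3]; group
    have e2 : k⁻¹ * c2 * k = c1 := by rw [ec2]; group
    rw [key v, e1, key c2, e2]
    have c12 : c1 * c2 = c2 * c1 := hVc c1 hc1V c2 hc2V
    calc x * v * x⁻¹ * (x * c2 * x⁻¹) * (x * c1 * x⁻¹) = x * (v * (c2 * c1)) * x⁻¹ := by group
      _ = x * (v * c1 * c2) * x⁻¹ := by rw [← c12]; simp only [mul_assoc]
      _ = 1 := by rw [hv1]; group
  have hcardW : 2 ∣ Nat.card W := by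
    have h1 : orderOf (⟨u * u1, hwW⟩ : ↥W) = 2 := by
      apply orderOf_eq_prime
      · apply Subtype.ext
        simp only [Subgroup.coe_pow, Subgroup.coe_one]
        rw [pow_two]; exact hV2 _ (V.mul_mem huV hu1V)
      · intro h; exact hw1 (congrArg Subtype.val h)
    rw [← h1]; exact orderOf_dvd_natCard _
  obtain ⟨a, haW, ha1, hxa⟩ := conj_fixed_ne W 2 x f hx hxW hcardW
  rw [hW] at haW
  obtain ⟨haV, hanorm⟩ := haW
  obtain ⟨b, eb⟩ : ∃ b, b = k * a * k⁻¹ := ⟨_, rfl⟩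
  obtain ⟨c, ec⟩ : ∃ c, c = k * b * k⁻¹ := ⟨_, rfl⟩
  rw [← eb, ← ec] at hanorm
  have hbV : b ∈ V := eb ▸ hkV a haV
  have hab : a * b = b * a := hVc a haV b hbV
  have hc : c = a * b := by
    have h1 : c = (a * b)⁻¹ := eq_inv_of_mul_eq_one_right hanorm
    rw [h1]
    exact inv_eq_of_mul_eq_one_left (by
      calc a * b * (a * b) = a * (b * a) * b := by group
        _ = a * (a * b) * b := by rw [← hab]
        _ = (a * a) * (b * b) := by group
        _ = 1 := by rw [hV2 a haV, hV2 b hbV, one_mul])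
  refine Cfsg.Agent.Helper23.involves_s4_of_rel a b k (k * x) (hV2 a haV) (hV2 b hbV) hab ha1
    ?_ ?_ eb.symm ?_ ?_ ?_ ?_
  · intro h
    apply ha1
    rw [eb] at h
    have h1 : a = k⁻¹ * (k * a * k⁻¹) * k := by group
    rw [h1, h]; group
  · intro h
    apply ha1
    have hc' : c = a := by rw [ec, ← h, ← eb]; exact h.symm
    rw [← h, hc', hV2 a haV, one_mul] at hanorm
    exact hanorm
  · rw [← ec]; exact hc
  · calc k * x * a * (k * x)⁻¹ = k * (x * a * x⁻¹) * k⁻¹ := by group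
      _ = b := by rw [hxa, eb]
  · have h1 : x * b * x⁻¹ = k⁻¹ * a * k := by
      calc x * b * x⁻¹ = (x * k * x⁻¹) * (x * a * x⁻¹) * (x * k * x⁻¹)⁻¹ := by rw [eb]; group
        _ = k⁻¹ * a * k := by rw [hinvk, hxa, inv_inv]
    calc k * x * b * (k * x)⁻¹ = k * (x * b * x⁻¹) * k⁻¹ := by group
      _ = a := by rw [h1]; group
  · calc k * x * k * (k * x)⁻¹ = k * (x * k * x⁻¹) * k⁻¹ := by group
      _ = k⁻¹ := by rw [hinvk]; group

theorem involves_of_subgroup {G : Type*} [Group G] {X : Type*} [Group X] (M : Subgroup G)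
    (h : Cfsg.Involves X ↥M) : Cfsg.Involves X G := by
  obtain ⟨K', f, hf⟩ := Cfsg.Agent.Helper26.exists_surj_of_involves h
  exact Cfsg.Agent.Helper26.involves_of_span (M.subtype.comp K'.subtype)
    ((Subgroup.subtype_injective M).comp (Subgroup.subtype_injective K')) f hf

theorem frat_conj {H : Type*} [Group H] (T : Subgroup H) (g : H)
    (hg : g ∈ Subgroup.normalizer (T : Set H)) (w : H)
    (hw : w ∈ (frattini ↥T).map T.subtype) : g * w * g⁻¹ ∈ (frattini ↥T).map T.subtype := by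
  obtain ⟨t, ht, rfl⟩ := hw
  have hmem : ∀ s : ↥T, g * s * g⁻¹ ∈ T := fun s =>
    (Subgroup.mem_normalizer_iff.mp hg s).mp s.2
  have hmem' : ∀ s : ↥T, g⁻¹ * s * g ∈ T := fun s => by
    have h1 := (Subgroup.mem_normalizer_iff.mp (inv_mem hg) s).mp s.2
    rwa [inv_inv] at h1
  obtain ⟨φ, hφ⟩ : ∃ φ : ↥T ≃* ↥T, ∀ s : ↥T, ((φ s : ↥T) : H) = g * s * g⁻¹ :=
    ⟨{ toFun := fun s => ⟨g * s * g⁻¹, hmem s⟩
       invFun := fun s => ⟨g⁻¹ * s * g, hmem' s⟩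
       left_inv := fun s => Subtype.ext (by simp [mul_assoc])
       right_inv := fun s => Subtype.ext (by simp [mul_assoc])
       map_mul' := fun s s' => Subtype.ext (by simp [mul_assoc]) }, fun _ => rfl⟩
  have hchar := Subgroup.characteristic_iff_map_eq.mp
    (inferInstance : (frattini ↥T).Characteristic) φ
  refine ⟨φ t, ?_, hφ t⟩
  rw [← hchar]
  exact Subgroup.mem_map_of_mem _ ht

/-- A `2`-subgroup normalized by a `2`-element `x` and a `3`-element `y` inverted by `x`, with `y`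
acting nontrivially: `S₄` is involved. -/
theorem s4_of_two_group {H : Type*} [Group H] [Finite H] :
    ∀ (n : ℕ) (T : Subgroup H), Nat.card T = n → IsPGroup 2 T →
    ∀ (x y : H), x ∈ Subgroup.normalizer (T : Set H) → y ∈ Subgroup.normalizer (T : Set H) →
    (∃ f : ℕ, x ^ 2 ^ f = 1) → (∃ e : ℕ, y ^ 3 ^ e = 1) → x * y * x⁻¹ = y⁻¹ →
    y ∉ Subgroup.centralizer (T : Set H) → Cfsg.Involves (Equiv.Perm (Fin 4)) H := by
  intro n
  induction n using Nat.strong_induction_on with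
  | _ n ih =>
  intro T hTn hT2 x y hxT hyT hx hy hinv hyC
  obtain ⟨W, hWdef⟩ : ∃ W : Subgroup H, W = (frattini ↥T).map T.subtype := ⟨_, rfl⟩
  have hWT : W ≤ T := by rw [hWdef]; exact Subgroup.map_subtype_le _
  have hconj : ∀ g ∈ Subgroup.normalizer (T : Set H), ∀ w ∈ W, g * w * g⁻¹ ∈ W := by
    intro g hg w hw
    rw [hWdef] at hw ⊢
    exact frat_conj T g hg w hw
  have hnorm : ∀ g ∈ Subgroup.normalizer (T : Set H), g ∈ Subgroup.normalizer (W : Set H) := by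
    intro g hg
    rw [Subgroup.mem_normalizer_iff]
    intro w
    constructor
    · exact hconj g hg w
    · intro hw
      have h1 := hconj g⁻¹ (inv_mem hg) _ hw
      have h2 : g⁻¹ * (g * w * g⁻¹) * g⁻¹⁻¹ = w := by group
      rwa [h2] at h1
  have hW2 : IsPGroup 2 W := hT2.to_le hWT
  by_cases hyW : y ∈ Subgroup.centralizer (W : Set H)
  swap
  · have hT1 : T ≠ ⊥ := by
      intro h
      apply hyC
      rw [h, Subgroup.mem_centralizer_iff]
      intro t ht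
      rw [Subgroup.coe_bot, Set.mem_singleton_iff] at ht
      rw [ht, one_mul, mul_one]
    have hlt : Nat.card W < n := by
      rw [← hTn]
      have hfne : frattini ↥T ≠ ⊤ := by
        intro h
        have h1 : (⊥ : Subgroup ↥T) = ⊤ := frattini_nongenerating (by rw [h, bot_sup_eq])
        apply hT1
        rw [Subgroup.eq_bot_iff_forall]
        intro t ht
        have h2 : (⟨t, ht⟩ : ↥T) ∈ (⊥ : Subgroup ↥T) := by rw [h1]; exact Subgroup.mem_top _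
        rw [Subgroup.mem_bot] at h2
        exact congrArg Subtype.val h2
      have hcard : Nat.card W = Nat.card (frattini ↥T) := by
        rw [hWdef]
        exact Subgroup.card_map_of_injective (Subgroup.subtype_injective T)
      rw [hcard]
      have hle : Nat.card (frattini ↥T) ≤ Nat.card ↥T := Subgroup.card_le_card_group _
      rcases Nat.lt_or_ge (Nat.card (frattini ↥T)) (Nat.card ↥T) with h | h
      · exact h
      · exact absurd (Subgroup.eq_top_of_card_eq _ (le_antisymm hle h)) hfne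
    exact ih (Nat.card W) hlt W rfl hW2 x y (hnorm x hxT) (hnorm y hyT) hx hy hinv hyW
  · obtain ⟨f, hxf⟩ := hx
    obtain ⟨e, hye⟩ := hy
    obtain ⟨M, hM⟩ : ∃ M : Subgroup H, M = Subgroup.normalizer (W : Set H) := ⟨_, rfl⟩
    have hxM : x ∈ M := hM ▸ hnorm x hxT
    have hyM : y ∈ M := hM ▸ hnorm y hyT
    have hTM : T ≤ M := by
      intro t ht
      rw [hM]
      exact hnorm t (Subgroup.le_normalizer ht)
    haveI hWn : (W.subgroupOf M).Normal := by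
      rw [hM]; exact Subgroup.normal_in_normalizer
    obtain ⟨π, hπ⟩ : ∃ π : ↥M →* ↥M ⧸ W.subgroupOf M, π = QuotientGroup.mk' (W.subgroupOf M) :=
      ⟨_, rfl⟩
    have hπ1 : ∀ m : ↥M, π m = 1 ↔ (m : H) ∈ W := by
      intro m; rw [hπ]; exact (QuotientGroup.eq_one_iff m).trans Subgroup.mem_subgroupOf
    have hsq : ∀ t ∈ T, t * t ∈ W := by
      intro t ht
      have h1 := Cfsg.Agent.Helper23.QP.pow_mem_frattini hT2 (⟨t, ht⟩ : ↥T)
      rw [hWdef]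
      refine ⟨_, h1, ?_⟩
      simp [pow_two]
    have hcomm : ∀ t ∈ T, ∀ s ∈ T, t * s * t⁻¹ * s⁻¹ ∈ W := by
      intro t ht s hs
      have h1 := Cfsg.Agent.Helper23.QP.commutator_mem_frattini hT2 (⟨t, ht⟩ : ↥T) ⟨s, hs⟩
      rw [hWdef]
      refine ⟨_, h1, ?_⟩
      simp [commutatorElement_def]
    obtain ⟨V, hV⟩ : ∃ V : Subgroup (↥M ⧸ W.subgroupOf M), V = (T.subgroupOf M).map π :=
      ⟨_, rfl⟩
    have hVmem : ∀ v ∈ V, ∃ t : ↥M, (t : H) ∈ T ∧ π t = v := by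
      intro v hv
      rw [hV] at hv
      obtain ⟨t, ht, rfl⟩ := hv
      exact ⟨t, Subgroup.mem_subgroupOf.mp ht, rfl⟩
    have hmemV : ∀ t : ↥M, (t : H) ∈ T → π t ∈ V := by
      intro t ht
      rw [hV]
      exact Subgroup.mem_map_of_mem π (Subgroup.mem_subgroupOf.mpr ht)
    apply involves_of_subgroup M
    apply Cfsg.Agent.Helper19.HH.involves_of_quot (W.subgroupOf M)
    refine s4_of_elemab V ?_ ?_ (π ⟨x, hxM⟩) (π ⟨y, hyM⟩) ?_ ?_ f ?_ e ?_ ?_ ?_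
    · intro u hu v hv
      obtain ⟨t, ht, rfl⟩ := hVmem u hu
      obtain ⟨s, hs, rfl⟩ := hVmem v hv
      rw [← map_mul, ← map_mul]
      have h1 : π ((t * s) * (s * t)⁻¹) = 1 := by
        rw [hπ1]
        have h2 := hcomm t ht s hs
        have h3 : ((t * s * (s * t)⁻¹ : ↥M) : H) = (t : H) * s * (t : H)⁻¹ * (s : H)⁻¹ := by
          simp only [Subgroup.coe_mul, Subgroup.coe_inv]; group
        rw [h3]; exact h2
      rw [map_mul, map_inv, mul_inv_eq_one] at h1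
      exact h1
    · intro u hu
      obtain ⟨t, ht, rfl⟩ := hVmem u hu
      rw [← map_mul, hπ1]
      exact hsq t ht
    · intro v hv
      obtain ⟨t, ht, rfl⟩ := hVmem v hv
      rw [← map_inv, ← map_mul, ← map_mul]
      apply hmemV
      exact (Subgroup.mem_normalizer_iff.mp hxT t).mp ht
    · intro v hv
      obtain ⟨t, ht, rfl⟩ := hVmem v hv
      rw [← map_inv, ← map_mul, ← map_mul]
      apply hmemV
      exact (Subgroup.mem_normalizer_iff.mp hyT t).mp ht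
    · rw [← map_pow]
      have h1 : (⟨x, hxM⟩ : ↥M) ^ 2 ^ f = 1 := Subtype.ext (by simp [hxf])
      rw [h1, map_one]
    · rw [← map_pow]
      have h1 : (⟨y, hyM⟩ : ↥M) ^ 3 ^ e = 1 := Subtype.ext (by simp [hye])
      rw [h1, map_one]
    · rw [← map_inv, ← map_mul, ← map_mul, ← map_inv]
      congr 1
      exact Subtype.ext (by simp [hinv])
    · by_contra hcon
      push Not at hcon
      apply hyC
      rw [Subgroup.mem_centralizer_iff]
      intro t ht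
      have h1 := hcon (π ⟨t, hTM ht⟩) (hmemV _ ht)
      have h2 : π ((⟨t, hTM ht⟩ : ↥M)⁻¹ *
          (⟨y, hyM⟩ * ⟨t, hTM ht⟩ * (⟨y, hyM⟩ : ↥M)⁻¹)) = 1 := by
        rw [map_mul, map_mul, map_mul, map_inv, map_inv, h1, inv_mul_cancel]
      rw [hπ1] at h2
      have h3 : t⁻¹ * (y * t * y⁻¹) ∈ W := h2
      obtain ⟨k, hk⟩ := hW2 ⟨_, h3⟩
      have h4 : (t⁻¹ * (y * t * y⁻¹)) ^ 2 ^ k = 1 := by
        have h5 := congrArg Subtype.val hk
        simpa using h5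
      have h5 : y * (t⁻¹ * (y * t * y⁻¹)) = (t⁻¹ * (y * t * y⁻¹)) * y :=
        (Subgroup.mem_centralizer_iff.mp hyW _ h3).symm
      have h6 := Cfsg.Agent.Helper19.HH.fix_of_comm_coprime y t (3 ^ e) (2 ^ k)
        (Nat.Coprime.pow _ _ (by norm_num)) hye h4 h5
      calc t * y = (y * t * y⁻¹) * y := by rw [h6]
        _ = y * t := by group

theorem exists_norm_of_surj' {K : Type*} [Group K] [Finite K] (p : ℕ) [Fact p.Prime] (hp2 : p ≠ 2)
    (f : K →* DihedralGroup p) (hf : Function.Surjective f) :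
    ∃ (x : K) (P : Subgroup K) (y₁ : K) (i b : ZMod p), (∃ n : ℕ, x ^ 2 ^ n = 1) ∧ IsPGroup p ↥P ∧
      x ∈ Subgroup.normalizer (P : Set K) ∧ y₁ ∈ P ∧ f x = DihedralGroup.sr i ∧
      f y₁ = DihedralGroup.r b ∧ b ≠ 0 := by
  classical
  have hpp := (Fact.out : p.Prime)
  haveI : NeZero p := ⟨hpp.ne_zero⟩
  obtain ⟨K₀, hK₀mem⟩ : ∃ K₀ : Subgroup K, ∀ k : K, k ∈ K₀ ↔ ∃ i, f k = DihedralGroup.r i :=
    ⟨{ carrier := {k | ∃ i, f k = DihedralGroup.r i}
       mul_mem' := by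
         rintro a b ⟨i, hi⟩ ⟨j, hj⟩
         exact ⟨i + j, by rw [map_mul, hi, hj, DihedralGroup.r_mul_r]⟩
       one_mem' := ⟨0, by rw [map_one, DihedralGroup.one_def]⟩
       inv_mem' := by
         rintro a ⟨i, hi⟩
         refine ⟨-i, ?_⟩
         rw [map_inv, hi]
         apply inv_eq_of_mul_eq_one_right
         rw [DihedralGroup.r_mul_r, add_neg_cancel, DihedralGroup.one_def] }, fun k => Iff.rfl⟩
  haveI hK₀n : K₀.Normal := ⟨by
    intro n hn g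
    rw [hK₀mem] at hn ⊢
    obtain ⟨i, hi⟩ := hn
    rw [map_mul, map_mul, map_inv, hi]
    rcases hfg : f g with j | j
    · refine ⟨i, ?_⟩
      rw [mul_inv_eq_iff_eq_mul, DihedralGroup.r_mul_r, DihedralGroup.r_mul_r, add_comm]
    · refine ⟨-i, ?_⟩
      rw [mul_inv_eq_iff_eq_mul, DihedralGroup.sr_mul_r, DihedralGroup.r_mul_sr]
      congr 1
      ring⟩
  obtain ⟨k₁, hk₁⟩ := hf (DihedralGroup.r 1)
  have hn0 : orderOf k₁ ≠ 0 := (orderOf_pos k₁).ne'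
  obtain ⟨e, b, hb, hn⟩ := Nat.exists_eq_pow_mul_and_not_dvd hn0 p hpp.ne_one
  obtain ⟨y₁, hy₁⟩ : ∃ y₁ : K, y₁ = k₁ ^ b := ⟨_, rfl⟩
  have hy₁p : y₁ ^ p ^ e = 1 := by
    rw [hy₁, ← pow_mul, mul_comm, ← hn, pow_orderOf_eq_one]
  have hfy₁ : f y₁ = DihedralGroup.r (b : ZMod p) := by
    rw [hy₁, map_pow, hk₁, DihedralGroup.r_one_pow]
  have hb0 : (b : ZMod p) ≠ 0 := by
    rw [Ne, ZMod.natCast_eq_zero_iff]
    exact hb
  have hy₁K₀ : y₁ ∈ K₀ := (hK₀mem y₁).2 ⟨_, hfy₁⟩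
  have hzp : IsPGroup p (Subgroup.zpowers (⟨y₁, hy₁K₀⟩ : ↥K₀)) := by
    intro g
    refine ⟨e, ?_⟩
    obtain ⟨g, hg⟩ := g
    rw [Subgroup.mem_zpowers_iff] at hg
    obtain ⟨i, rfl⟩ := hg
    apply Subtype.ext
    apply Subtype.ext
    simp only [Subgroup.coe_pow, Subgroup.coe_zpow, Subgroup.coe_one]
    rw [← zpow_natCast, ← zpow_mul, mul_comm, zpow_mul, zpow_natCast, hy₁p, one_zpow]
  obtain ⟨P₀, hP₀⟩ := hzp.exists_le_sylow
  obtain ⟨P, hP⟩ : ∃ P : Subgroup K, P = (P₀ : Subgroup ↥K₀).map K₀.subtype := ⟨_, rfl⟩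
  have hPp : IsPGroup p P := by rw [hP]; exact P₀.isPGroup'.map _
  have hy₁P : y₁ ∈ P := by
    rw [hP]
    exact ⟨⟨y₁, hy₁K₀⟩, hP₀ (Subgroup.mem_zpowers _), rfl⟩
  have hfrat : Subgroup.normalizer (P : Set K) ⊔ K₀ = ⊤ := by
    rw [hP]; exact Sylow.normalizer_sup_eq_top P₀
  obtain ⟨m, hmN, hmK₀⟩ : ∃ m ∈ Subgroup.normalizer (P : Set K), m ∉ K₀ := by
    by_contra hcon
    push Not at hcon
    have h1 : Subgroup.normalizer (P : Set K) ≤ K₀ := hcon
    rw [sup_eq_right.mpr h1] at hfrat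
    obtain ⟨k₂, hk₂⟩ := hf (DihedralGroup.sr 0)
    have h2 : k₂ ∈ K₀ := by rw [hfrat]; exact Subgroup.mem_top _
    obtain ⟨i, hi⟩ := (hK₀mem k₂).1 h2
    rw [hk₂] at hi
    exact absurd hi (by simp)
  obtain ⟨i, hi⟩ : ∃ i, f m = DihedralGroup.sr i := by
    rcases hfm : f m with j | j
    · exact absurd ((hK₀mem m).2 ⟨j, hfm⟩) hmK₀
    · exact ⟨j, rfl⟩
  have hm0 : orderOf m ≠ 0 := (orderOf_pos m).ne'
  obtain ⟨e', a, ha, hm⟩ := Nat.exists_eq_pow_mul_and_not_dvd hm0 2 (by norm_num)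
  obtain ⟨x, hx⟩ : ∃ x : K, x = m ^ a := ⟨_, rfl⟩
  have hx2 : x ^ 2 ^ e' = 1 := by
    rw [hx, ← pow_mul, mul_comm, ← hm, pow_orderOf_eq_one]
  have hfx : f x = DihedralGroup.sr i := by
    rw [hx, map_pow, hi]
    obtain ⟨c, hc⟩ : Odd a := Nat.odd_iff.mpr (by omega)
    rw [hc, pow_succ, pow_mul, pow_two, DihedralGroup.sr_mul_self, one_pow, one_mul]
  exact ⟨x, P, y₁, i, (b : ZMod p), ⟨e', hx2⟩, hPp, by rw [hx]; exact Subgroup.pow_mem _ hmN a,
    hy₁P, hfx, hfy₁, hb0⟩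

theorem exists_inv_of_surj {K : Type*} [Group K] [Finite K] (p : ℕ) [Fact p.Prime] (hp2 : p ≠ 2)
    (f : K →* DihedralGroup p) (hf : Function.Surjective f) :
    ∃ x y : K, (∃ n : ℕ, x ^ 2 ^ n = 1) ∧ (∃ e : ℕ, y ^ p ^ e = 1) ∧ x * y * x⁻¹ = y⁻¹ ∧
      f y ≠ 1 := by
  have hpp := (Fact.out : p.Prime)
  haveI : NeZero p := ⟨hpp.ne_zero⟩
  obtain ⟨x, P, y₁, i, b, ⟨n, hxn⟩, hPp, hxP, hy₁P, hfx, hfy₁, hb0⟩ :=
    exists_norm_of_surj' p hp2 f hf
  obtain ⟨Z, hZ⟩ : ∃ Z : Subgroup K, Z = P ⊓ f.ker := ⟨_, rfl⟩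
  have hfxx : f (x * x) = 1 := by rw [map_mul, hfx, DihedralGroup.sr_mul_self]
  have hxxP : ∀ z ∈ P, (x * x) * z * (x * x)⁻¹ ∈ P := by
    intro z hz
    exact (Subgroup.mem_normalizer_iff.mp (Subgroup.mul_mem _ hxP hxP) z).mp hz
  have hxxZ : ∀ z ∈ Z, (x * x) * z * (x * x)⁻¹ ∈ Z := by
    intro z hz
    rw [hZ] at hz ⊢
    refine Subgroup.mem_inf.mpr ⟨hxxP z hz.1, ?_⟩
    rw [MonoidHom.mem_ker, map_mul, map_mul, map_inv, hfxx, one_mul, inv_one, mul_one]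
    exact MonoidHom.mem_ker.mp hz.2
  have hxx2 : (x * x) ^ 2 ^ n = 1 := by
    rw [← pow_two, ← pow_mul, mul_comm, pow_mul, hxn, one_pow]
  have hZcard : ¬ 2 ∣ Nat.card Z := by
    have hZp : IsPGroup p Z := hPp.to_le (by rw [hZ]; exact inf_le_left)
    obtain ⟨k, hk⟩ := IsPGroup.iff_card.mp hZp
    rw [hk]
    intro h
    have h1 := Nat.Prime.dvd_of_dvd_pow Nat.prime_two h
    exact hp2 ((Nat.prime_dvd_prime_iff_eq Nat.prime_two hpp).mp h1).symm
  have hu : y₁⁻¹ * ((x * x) * y₁ * (x * x)⁻¹) ∈ Z := by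
    rw [hZ]
    refine Subgroup.mem_inf.mpr ⟨P.mul_mem (P.inv_mem hy₁P) (hxxP y₁ hy₁P), ?_⟩
    rw [MonoidHom.mem_ker, map_mul, map_mul, map_mul, map_inv, map_inv, hfxx, one_mul, inv_one,
      mul_one, inv_mul_cancel]
  obtain ⟨z, hzZ, hfix⟩ := coset_fixed Z 2 (x * x) n hxx2 hxxZ hZcard y₁ hu
  obtain ⟨u, hudef⟩ : ∃ u : K, u = y₁ * z := ⟨_, rfl⟩
  rw [← hudef] at hfix
  have hzP : z ∈ P := by rw [hZ] at hzZ; exact hzZ.1
  have hfz : f z = 1 := by rw [hZ] at hzZ; exact MonoidHom.mem_ker.mp hzZ.2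
  have huP : u ∈ P := by rw [hudef]; exact P.mul_mem hy₁P hzP
  have hfu : f u = DihedralGroup.r b := by rw [hudef, map_mul, hfz, mul_one, hfy₁]
  have hxuP : x * u * x⁻¹ ∈ P := (Subgroup.mem_normalizer_iff.mp hxP u).mp huP
  refine ⟨x, u⁻¹ * (x * u * x⁻¹), ⟨n, hxn⟩, ?_, ?_, ?_⟩
  · obtain ⟨e, he⟩ := hPp ⟨_, P.mul_mem (P.inv_mem huP) hxuP⟩
    refine ⟨e, ?_⟩
    have h1 := congrArg Subtype.val he
    simpa using h1
  · have h1 : x * x * u * x⁻¹ * x⁻¹ = u := by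
      calc x * x * u * x⁻¹ * x⁻¹ = (x * x) * u * (x * x)⁻¹ := by group
        _ = u := hfix
    calc x * (u⁻¹ * (x * u * x⁻¹)) * x⁻¹ = (x * u * x⁻¹)⁻¹ * (x * x * u * x⁻¹ * x⁻¹) := by group
      _ = (x * u * x⁻¹)⁻¹ * u := by rw [h1]
      _ = (u⁻¹ * (x * u * x⁻¹))⁻¹ := by group
  · have h1 : f (x * u * x⁻¹) = DihedralGroup.r (-b) := by
      rw [map_mul, map_mul, map_inv, hfx, hfu, mul_inv_eq_iff_eq_mul, DihedralGroup.sr_mul_r,
        DihedralGroup.r_mul_sr]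
      congr 1
      ring
    have h2 : (DihedralGroup.r b : DihedralGroup p)⁻¹ = DihedralGroup.r (-b) := by
      apply inv_eq_of_mul_eq_one_right
      rw [DihedralGroup.r_mul_r, add_neg_cancel, DihedralGroup.one_def]
    rw [map_mul, map_inv, hfu, h1, h2, DihedralGroup.r_mul_r, DihedralGroup.one_def]
    intro h
    have h3 : -b + -b = 0 := by injection h
    have h4 : (2 : ZMod p) * b = 0 := by linear_combination (-1 : ZMod p) * h3
    rcases mul_eq_zero.mp h4 with h5 | h5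
    · have h6 : ((2 : ℕ) : ZMod p) = 0 := by rw [Nat.cast_ofNat]; exact h5
      rw [ZMod.natCast_eq_zero_iff] at h6
      exact hp2 ((Nat.prime_dvd_prime_iff_eq hpp Nat.prime_two).mp h6)
    · exact hb0 h5

theorem exists_inverting {G : Type*} [Group G] [Finite G] (T : Subgroup G)
    (h : Cfsg.Involves (Equiv.Perm (Fin 3)) (↥(Subgroup.normalizer (T : Set G)) ⧸
      (Subgroup.centralizer (T : Set G)).subgroupOf (Subgroup.normalizer (T : Set G)))) :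
    ∃ x y : G, x ∈ Subgroup.normalizer (T : Set G) ∧ y ∈ Subgroup.normalizer (T : Set G) ∧
      (∃ f : ℕ, x ^ 2 ^ f = 1) ∧ (∃ e : ℕ, y ^ 3 ^ e = 1) ∧ x * y * x⁻¹ = y⁻¹ ∧
      y ∉ Subgroup.centralizer (T : Set G) := by
  obtain ⟨Kb, fb, hfb⟩ := Cfsg.Agent.Helper26.exists_surj_of_involves h
  obtain ⟨π, hπ⟩ : ∃ π : ↥(Subgroup.normalizer (T : Set G)) →*
      (↥(Subgroup.normalizer (T : Set G)) ⧸
        (Subgroup.centralizer (T : Set G)).subgroupOf (Subgroup.normalizer (T : Set G))),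
      π = QuotientGroup.mk' _ := ⟨_, rfl⟩
  have hπs : Function.Surjective π := hπ ▸ QuotientGroup.mk'_surjective _
  obtain ⟨f₂, hf₂⟩ : ∃ f₂ : ↥(Kb.comap π) →* DihedralGroup 3,
      f₂ = (Cfsg.Agent.S0444.d3Iso.symm.toMonoidHom.comp fb).comp (π.subgroupComap Kb) :=
    ⟨_, rfl⟩
  have hf₂s : Function.Surjective f₂ := by
    rw [hf₂]
    exact (Cfsg.Agent.S0444.d3Iso.symm.surjective.comp hfb).comp
      (π.subgroupComap_surjective_of_surjective Kb hπs)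
  obtain ⟨x, y, ⟨n, hxn⟩, ⟨e, hye⟩, hinv, hfy⟩ := exists_inv_of_surj 3 (by norm_num) f₂ hf₂s
  refine ⟨((x : ↥(Subgroup.normalizer (T : Set G))) : G),
    ((y : ↥(Subgroup.normalizer (T : Set G))) : G),
    (x : ↥(Subgroup.normalizer (T : Set G))).2, (y : ↥(Subgroup.normalizer (T : Set G))).2,
    ⟨n, ?_⟩, ⟨e, ?_⟩, ?_, ?_⟩
  · have h1 := congrArg (fun z : ↥(Kb.comap π) =>
      ((z : ↥(Subgroup.normalizer (T : Set G))) : G)) hxn
    simpa using h1
  · have h1 := congrArg (fun z : ↥(Kb.comap π) =>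
      ((z : ↥(Subgroup.normalizer (T : Set G))) : G)) hye
    simpa using h1
  · have h1 := congrArg (fun z : ↥(Kb.comap π) =>
      ((z : ↥(Subgroup.normalizer (T : Set G))) : G)) hinv
    simpa using h1
  · intro hC
    apply hfy
    rw [hf₂]
    have hπ1 : ∀ m : ↥(Subgroup.normalizer (T : Set G)), (m : G) ∈ Subgroup.centralizer (T : Set G) →
        π m = 1 := by
      intro m hm
      rw [hπ]
      exact (QuotientGroup.eq_one_iff _).mpr (Subgroup.mem_subgroupOf.mpr hm)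
    have h1 : π (y : ↥(Subgroup.normalizer (T : Set G))) = 1 := hπ1 _ hC
    have h2 : (π.subgroupComap Kb) y = 1 := Subtype.ext h1
    rw [MonoidHom.comp_apply, h2, map_one]

theorem involves_trans {X : Type*} [Group X] {Y : Type*} [Group Y] {Z : Type*} [Group Z]
    (h1 : Cfsg.Involves X Y) (h2 : Cfsg.Involves Y Z) : Cfsg.Involves X Z := by
  obtain ⟨K₁, f₁, hf₁⟩ := Cfsg.Agent.Helper26.exists_surj_of_involves h1
  obtain ⟨K₂, f₂, hf₂⟩ := Cfsg.Agent.Helper26.exists_surj_of_involves h2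
  exact Cfsg.Agent.Helper26.involves_of_span (K₂.subtype.comp (K₁.comap f₂).subtype)
    ((Subgroup.subtype_injective K₂).comp (Subgroup.subtype_injective _))
    (f₁.comp (f₂.subgroupComap K₁))
    (hf₁.comp (f₂.subgroupComap_surjective_of_surjective K₁ hf₂))

theorem involves_of_ker_le {A : Type*} [Group A] {Q : Type*} [Group Q] {X : Type*} [Group X]
    (j : A →* Q) (g : A →* X) (hg : Function.Surjective g) (hker : j.ker ≤ g.ker) :
    Cfsg.Involves X Q :=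
  Cfsg.Agent.Helper26.involves_of_span (QuotientGroup.kerLift j) (QuotientGroup.kerLift_injective j)
    (QuotientGroup.lift j.ker g hker) (QuotientGroup.lift_surjective_of_surjective _ _ hg hker)

/-- the three double transpositions. -/
def v0 : Equiv.Perm (Fin 4) := Equiv.swap 0 1 * Equiv.swap 2 3
/-- second double transposition. -/
def v1 : Equiv.Perm (Fin 4) := Equiv.swap 0 2 * Equiv.swap 1 3
/-- third double transposition. -/
def v2 : Equiv.Perm (Fin 4) := Equiv.swap 0 3 * Equiv.swap 1 2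

theorem mul_closed : ∀ a b : Equiv.Perm (Fin 4), (a = 1 ∨ a = v0 ∨ a = v1 ∨ a = v2) →
    (b = 1 ∨ b = v0 ∨ b = v1 ∨ b = v2) →
    (a * b = 1 ∨ a * b = v0 ∨ a * b = v1 ∨ a * b = v2) := by decide

theorem inv_closed : ∀ a : Equiv.Perm (Fin 4), (a = 1 ∨ a = v0 ∨ a = v1 ∨ a = v2) →
    (a⁻¹ = 1 ∨ a⁻¹ = v0 ∨ a⁻¹ = v1 ∨ a⁻¹ = v2) := by decide

theorem conj_closed : ∀ σ v : Equiv.Perm (Fin 4), (v = 1 ∨ v = v0 ∨ v = v1 ∨ v = v2) →
    (σ * v * σ⁻¹ = 1 ∨ σ * v * σ⁻¹ = v0 ∨ σ * v * σ⁻¹ = v1 ∨ σ * v * σ⁻¹ = v2) := by decide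

theorem cent_closed : ∀ σ : Equiv.Perm (Fin 4), σ * v0 = v0 * σ → σ * v1 = v1 * σ →
    (σ = 1 ∨ σ = v0 ∨ σ = v1 ∨ σ = v2) := by decide

theorem sq_closed : ∀ a : Equiv.Perm (Fin 4), (a = 1 ∨ a = v0 ∨ a = v1 ∨ a = v2) → a * a = 1 := by
  decide

/-- the normal four-subgroup of `S₄`. -/
def V4 : Subgroup (Equiv.Perm (Fin 4)) where
  carrier := {σ | σ = 1 ∨ σ = v0 ∨ σ = v1 ∨ σ = v2}
  mul_mem' := fun {a b} ha hb => mul_closed a b ha hb
  one_mem' := Or.inl rfl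
  inv_mem' := fun {a} ha => inv_closed a ha

theorem mem_V4 (σ : Equiv.Perm (Fin 4)) : σ ∈ V4 ↔ (σ = 1 ∨ σ = v0 ∨ σ = v1 ∨ σ = v2) := Iff.rfl

instance V4_normal : V4.Normal := ⟨fun v hv σ => conj_closed σ v hv⟩

theorem V4_pgroup : IsPGroup 2 ↥V4 := by
  rintro ⟨v, hv⟩
  refine ⟨1, ?_⟩
  apply Subtype.ext
  simp only [pow_one, Subgroup.coe_pow, Subgroup.coe_one]
  rw [pow_two]
  exact sq_closed v hv

theorem s3_in_quot : Cfsg.Involves (Equiv.Perm (Fin 3)) (Equiv.Perm (Fin 4) ⧸ V4) := by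
  have e1 : (Equiv.swap (0 : Fin 4) 1) * (Equiv.swap (0 : Fin 4) 1) = 1 := by decide
  have e2 : (Equiv.swap (0 : Fin 4) 1 * Equiv.swap (1 : Fin 4) 2) ^ 3 = 1 := by decide
  have e3 : ¬ (Equiv.swap (0 : Fin 4) 1 * Equiv.swap (1 : Fin 4) 2 ∈ V4) := by
    rw [mem_V4]; decide
  have e4 : (Equiv.swap (0 : Fin 4) 1) * (Equiv.swap (0 : Fin 4) 1 * Equiv.swap (1 : Fin 4) 2) *
      (Equiv.swap (0 : Fin 4) 1)⁻¹ = (Equiv.swap (0 : Fin 4) 1 * Equiv.swap (1 : Fin 4) 2)⁻¹ := by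
    decide
  refine Cfsg.Agent.Helper19.HH.involves_s3_of_inverted
    (QuotientGroup.mk' V4 (Equiv.swap (0 : Fin 4) 1))
    (QuotientGroup.mk' V4 (Equiv.swap (0 : Fin 4) 1 * Equiv.swap (1 : Fin 4) 2)) ?_ ?_ ?_ ?_
  · rw [← map_mul, e1, map_one]
  · rw [← map_pow, e2, map_one]
  · intro h
    exact e3 ((QuotientGroup.eq_one_iff _).mp h)
  · rw [← map_inv, ← map_mul, ← map_mul, e4, map_inv]

theorem forward {G : Type*} [Group G] [Finite G] (h : Cfsg.Involves (Equiv.Perm (Fin 4)) G) :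
    ∃ T : Subgroup G, IsPGroup 2 ↥T ∧ Cfsg.Involves (Equiv.Perm (Fin 3))
      (↥(Subgroup.normalizer (T : Set G)) ⧸
        (Subgroup.centralizer (T : Set G)).subgroupOf (Subgroup.normalizer (T : Set G))) := by
  classical
  obtain ⟨K, f, hf⟩ := Cfsg.Agent.Helper26.exists_surj_of_involves h
  haveI hLn : (V4.comap f).Normal := Subgroup.Normal.comap inferInstance f
  obtain ⟨P₀⟩ : Nonempty (Sylow 2 ↥(V4.comap f)) := Sylow.nonempty
  obtain ⟨T', hT'⟩ : ∃ T' : Subgroup ↥K, T' = (P₀ : Subgroup ↥(V4.comap f)).map (V4.comap f).subtype :=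
    ⟨_, rfl⟩
  have hT'2 : IsPGroup 2 T' := by rw [hT']; exact P₀.isPGroup'.map _
  have hfT' : ∀ v ∈ V4, ∃ t ∈ T', f t = v := by
    intro v hv
    have hsurj : Function.Surjective (f.subgroupComap V4) :=
      f.subgroupComap_surjective_of_surjective V4 hf
    have h1 := Cfsg.Agent.Helper26.surjective_on_sylow (f.subgroupComap V4) hsurj V4_pgroup P₀
    obtain ⟨s, hs⟩ := h1 ⟨v, hv⟩
    refine ⟨((s : ↥(V4.comap f)) : ↥K), ?_, ?_⟩
    · rw [hT']
      exact ⟨s.1, s.2, rfl⟩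
    · exact congrArg Subtype.val hs
  have hfrat : Subgroup.normalizer (T' : Set ↥K) ⊔ (V4.comap f) = ⊤ := by
    rw [hT']; exact Sylow.normalizer_sup_eq_top P₀
  have hfA : ∀ σ : Equiv.Perm (Fin 4), ∃ a ∈ Subgroup.normalizer (T' : Set ↥K), f a = σ := by
    intro σ
    obtain ⟨k, rfl⟩ := hf σ
    have hk : k ∈ Subgroup.normalizer (T' : Set ↥K) ⊔ (V4.comap f) := by
      rw [hfrat]; exact Subgroup.mem_top k
    rw [Subgroup.mem_sup_of_normal_right] at hk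
    obtain ⟨n, hn, l, hl, rfl⟩ := hk
    obtain ⟨t, ht, hft⟩ := hfT' (f l) hl
    refine ⟨n * t, Subgroup.mul_mem _ hn (Subgroup.le_normalizer ht), ?_⟩
    rw [map_mul, map_mul, hft]
  refine ⟨T'.map K.subtype, hT'2.map _, ?_⟩
  obtain ⟨A, hA⟩ : ∃ A : Subgroup ↥K, A = Subgroup.normalizer (T' : Set ↥K) := ⟨_, rfl⟩
  rw [← hA] at hfA
  have hAN : ∀ a : ↥A, (K.subtype.comp A.subtype) a ∈
      Subgroup.normalizer ((T'.map K.subtype : Subgroup G) : Set G) := by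
    intro a
    have ha : (a : ↥K) ∈ Subgroup.normalizer (T' : Set ↥K) := hA ▸ a.2
    rw [Subgroup.mem_normalizer_iff]
    intro h
    constructor
    · rintro ⟨t, ht, rfl⟩
      exact ⟨(a : ↥K) * t * (a : ↥K)⁻¹, (Subgroup.mem_normalizer_iff.mp ha t).mp ht, rfl⟩
    · rintro ⟨t, ht, he⟩
      have h1 := (Subgroup.mem_normalizer_iff.mp (inv_mem ha) t).mp ht
      refine ⟨(a : ↥K)⁻¹ * t * (a : ↥K)⁻¹⁻¹, h1, ?_⟩
      simp only [Subgroup.coe_subtype, Subgroup.coe_mul, Subgroup.coe_inv, MonoidHom.coe_comp,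
        Function.comp_apply] at he ⊢
      rw [he]; group
  obtain ⟨ι, hι⟩ : ∃ ι : ↥A →* ↥(Subgroup.normalizer ((T'.map K.subtype : Subgroup G) : Set G)),
      ∀ a : ↥A, ((ι a : ↥(Subgroup.normalizer ((T'.map K.subtype : Subgroup G) : Set G))) : G) =
        ((a : ↥K) : G) :=
    ⟨(K.subtype.comp A.subtype).codRestrict _ hAN, fun _ => rfl⟩
  obtain ⟨j, hj⟩ : ∃ j : ↥A →* (↥(Subgroup.normalizer ((T'.map K.subtype : Subgroup G) : Set G)) ⧸
      (Subgroup.centralizer ((T'.map K.subtype : Subgroup G) : Set G)).subgroupOf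
        (Subgroup.normalizer ((T'.map K.subtype : Subgroup G) : Set G))),
      j = (QuotientGroup.mk' _).comp ι := ⟨_, rfl⟩
  obtain ⟨g, hg0⟩ : ∃ g : ↥A →* (Equiv.Perm (Fin 4) ⧸ V4),
      g = (QuotientGroup.mk' V4).comp (f.comp A.subtype) := ⟨_, rfl⟩
  have hg : Function.Surjective g := by
    intro q
    obtain ⟨σ, rfl⟩ := QuotientGroup.mk'_surjective V4 q
    obtain ⟨a, ha, rfl⟩ := hfA σ
    exact ⟨⟨a, ha⟩, by rw [hg0]; rfl⟩
  have hker : j.ker ≤ g.ker := by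
    intro a ha
    rw [MonoidHom.mem_ker] at ha ⊢
    rw [hj, MonoidHom.comp_apply] at ha
    have h1 : ((a : ↥K) : G) ∈ Subgroup.centralizer ((T'.map K.subtype : Subgroup G) : Set G) := by
      have h2 := (QuotientGroup.eq_one_iff _).mp ha
      rw [Subgroup.mem_subgroupOf, hι] at h2
      exact h2
    have hcomm : ∀ v ∈ V4, f (a : ↥K) * v = v * f (a : ↥K) := by
      intro v hv
      obtain ⟨t, ht, rfl⟩ := hfT' v hv
      have h2 := Subgroup.mem_centralizer_iff.mp h1 (t : G) ⟨t, ht, rfl⟩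
      have h3 : t * (a : ↥K) = (a : ↥K) * t := Subtype.ext h2
      rw [← map_mul, ← map_mul, h3]
    have h4 : f (a : ↥K) ∈ V4 :=
      cent_closed _ (hcomm v0 (Or.inr (Or.inl rfl))) (hcomm v1 (Or.inr (Or.inr (Or.inl rfl))))
    rw [hg0]
    exact (QuotientGroup.eq_one_iff _).mpr h4
  exact involves_trans s3_in_quot (involves_of_ker_le j g hg hker)

/-- For a finite group G, the symmetric group of degree 4 is involved in G if and only if there is a 2-subgroup T of G such that the symmetric group of degree 3 is involved in N(T)/C(T). -/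
theorem result {G : Type*} [Group G] [Finite G] : Cfsg.Involves (Equiv.Perm (Fin 4)) G ↔ ∃ T : Subgroup G, IsPGroup 2 ↥T ∧ Cfsg.Involves (Equiv.Perm (Fin 3)) (↥(Subgroup.normalizer (T : Set G)) ⧸ (Subgroup.centralizer (T : Set G)).subgroupOf (Subgroup.normalizer (T : Set G))) := by
  constructor
  · exact forward
  · rintro ⟨T, hT2, hinv⟩
    obtain ⟨x, y, hxT, hyT, hx, hy, hxy, hyC⟩ := exists_inverting T hinv
    exact s4_of_two_group (Nat.card T) T rfl hT2 x y hxT hyT hx hy hxy hyC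

end Cfsg.Agent.S2759
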