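-- S2804: [V, O^p(K)] is a p-reduced normal subgroup of the subnormal subgroup K.
import Mathlib
import Cfsg.Statements.S2804
import Cfsg.Agent.Helper9.PReduced2

set_option autoImplicit false
open Cfsg

namespace Cfsg.Agent.S2804

open Cfsg.Agent.Helper9 in
/-- Let L be a finite group and p a prime with C_L(O_p(L)) ≤ O_p(L), V a p-reduced normal subgroup of L and K a subnormal subgroup of L. Then [V, O^p(K)] is contained in K and is a p-reduced normal subgroup of K, where O^p(K) is the subgroup of K generated by its elements of order prime to p. -/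
theorem result {L : Type*} [Group L] [Finite L] {p : ℕ} [Fact p.Prime] (hchar : Subgroup.centralizer (Cfsg.pCore p L : Set L) ≤ Cfsg.pCore p L) (V : Subgroup L) (hV : Cfsg.IsPReducedNormal p V) (K : Subgroup L) (hK : K.IsSubnormal) : ⁅V, (Cfsg.pResidual p ↥K).map K.subtype⁆ ≤ K ∧ Cfsg.IsPReducedNormal p ((⁅V, (Cfsg.pResidual p ↥K).map K.subtype⁆).subgroupOf K) := by
  obtain ⟨hVn, hVe, hCn, hVcore⟩ := hV
  haveI := hVn
  haveI := hCn
  have hVc : ∀ a ∈ V, ∀ b ∈ V, a * b = b * a := by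
    intro a ha b hb
    have h := congrArg Subtype.val (hVe.1.is_comm.comm (⟨a, ha⟩ : ↥V) ⟨b, hb⟩)
    exact h
  have hVp : ∀ a ∈ V, a ^ p = 1 := hVe.2
  have hWK := commutator_pResidual_le (p := p) V hVc hVp K hK
  refine ⟨hWK, ?_⟩
  obtain ⟨A, hAdef⟩ : ∃ A : Subgroup L, A = (Cfsg.pResidual p ↥K).map K.subtype := ⟨_, rfl⟩
  rw [← hAdef] at hWK ⊢
  obtain ⟨W, hWdef⟩ : ∃ W : Subgroup L, W = ⁅V, A⁆ := ⟨_, rfl⟩
  rw [← hWdef] at hWK ⊢
  have hWV : W ≤ V := by rw [hWdef]; exact Subgroup.commutator_le_left V A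
  have hKW : ∀ k ∈ K, ∀ w ∈ W, k * w * k⁻¹ ∈ W := by
    intro k hk w hw
    have h1 : (MulAut.conj k).toMonoidHom w ∈ W.map (MulAut.conj k).toMonoidHom := ⟨w, hw, rfl⟩
    rw [hWdef, Subgroup.map_commutator] at h1
    have h2 : V.map (MulAut.conj k).toMonoidHom ≤ V := by
      rintro _ ⟨y, hy, rfl⟩
      exact hVn.conj_mem y hy k
    have h3 : A.map (MulAut.conj k).toMonoidHom ≤ A := by
      rintro _ ⟨y, hy, rfl⟩
      rw [hAdef] at hy ⊢
      obtain ⟨y', hy', rfl⟩ := hy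
      have hn := Cfsg.Agent.Helper6.pResidual_normal p ↥K
      exact ⟨(⟨k, hk⟩ : ↥K) * y' * (⟨k, hk⟩ : ↥K)⁻¹, hn.conj_mem y' hy' ⟨k, hk⟩, rfl⟩
    have h4 := Subgroup.commutator_mono h2 h3 h1
    rw [hWdef]
    exact h4
  have hXn : (W.subgroupOf K).Normal := by
    constructor
    intro n hn g
    exact hKW g.1 g.2 n.1 hn
  have hXe : Cfsg.IsElementaryAbelian p (W.subgroupOf K) := by
    refine ⟨⟨⟨fun a b => Subtype.ext (Subtype.ext ?_)⟩⟩, fun a ha => Subtype.ext ?_⟩
    · exact hVc a.1.1 (hWV a.2) b.1.1 (hWV b.2)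
    · exact hVp a.1 (hWV ha)
  haveI := hXn
  have hXCn : (Subgroup.centralizer ((W.subgroupOf K : Subgroup ↥K) : Set ↥K)).Normal := inferInstance
  refine ⟨hXn, hXe, hXCn, ?_⟩
  rw [Cfsg.Agent.Helper9.pCore_quotient_eq_bot_iff]
  intro D hDn hDp
  have hD0 : (D.map K.subtype).IsSubnormal := hDn.isSubnormal.trans' hK
  have hD0V : D.map K.subtype ≤ Subgroup.centralizer (V : Set L) := by
    apply le_of_subnormal_of_pCore_quotient (p := p) _ hVcore _ hD0
    rintro d ⟨d', hd', rfl⟩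
    obtain ⟨e, m, hm, hn⟩ := Nat.exists_eq_pow_mul_and_not_dvd (orderOf_pos (d' : L)).ne' p
      (Fact.out : p.Prime).ne_one
    refine ⟨e, ?_⟩
    show (d' : L) ^ (p ^ e) ∈ Subgroup.centralizer (V : Set L)
    obtain ⟨x, hxdef⟩ : ∃ x : L, x = (d' : L) ^ (p ^ e) := ⟨_, rfl⟩
    rw [← hxdef]
    have hxm : x ^ m = 1 := by
      rw [hxdef, ← pow_mul, ← hn, pow_orderOf_eq_one]
    have hmp : Nat.Coprime m p := ((Nat.Prime.coprime_iff_not_dvd Fact.out).mpr hm).symm
    have hxK : x ∈ K := by rw [hxdef]; exact pow_mem d'.2 _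
    have hxA : x ∈ A := by
      rw [hAdef]
      refine ⟨⟨x, hxK⟩, ?_, rfl⟩
      apply Cfsg.Agent.Helper6.mem_pResidual_of_pow_eq_one p hmp.symm
      exact Subtype.ext hxm
    obtain ⟨k, hk⟩ := hDp d' hd'
    have hxW : x ∈ Subgroup.centralizer (W : Set L) := by
      have h1 : (d' : L) ^ (p ^ k) ∈ Subgroup.centralizer (W : Set L) := by
        rw [Subgroup.mem_centralizer_iff]
        intro w hw
        have h2 := Subgroup.mem_centralizer_iff.mp hk ⟨w, hWK hw⟩ hw
        have h3 := congrArg Subtype.val h2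
        exact h3
      have h4 : x ^ (p ^ k) ∈ Subgroup.centralizer (W : Set L) := by
        rw [hxdef, ← pow_mul, mul_comm (p ^ e) (p ^ k), pow_mul]
        exact pow_mem h1 _
      have h5 : x ^ m ∈ Subgroup.centralizer (W : Set L) := by rw [hxm]; exact one_mem _
      have h6 := pow_gcd_mem _ x (p ^ k) m h4 h5
      have h7 : Nat.gcd (p ^ k) m = 1 := Nat.Coprime.pow_left k hmp.symm
      rw [h7, pow_one] at h6
      exact h6
    rw [Subgroup.mem_centralizer_iff]
    intro v hv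
    have hc : v * x * v⁻¹ * x⁻¹ ∈ (⊥ : Subgroup L) := by
      apply coprime_comm_mem V hVc hVp x (fun w hw => hVn.conj_mem w hw x) m hxm hmp v hv ⊥
      intro i
      have hcW : v * x * v⁻¹ * x⁻¹ ∈ W := by
        rw [hWdef]
        exact Subgroup.commutator_mem_commutator hv hxA
      have hxi : x ^ i ∈ Subgroup.centralizer (W : Set L) := pow_mem hxW i
      have h8 := Subgroup.mem_centralizer_iff.mp hxi _ hcW
      rw [Subgroup.mem_bot, h8]
      group
    have hc' := Subgroup.mem_bot.mp hc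
    calc v * x = (v * x * v⁻¹ * x⁻¹) * (x * v) := by group
      _ = x * v := by rw [hc', one_mul]
  intro d hd
  rw [Subgroup.mem_centralizer_iff]
  intro w hw
  have h1 : (d : L) ∈ Subgroup.centralizer (V : Set L) := hD0V ⟨d, hd, rfl⟩
  have h2 := Subgroup.mem_centralizer_iff.mp h1 (w : L) (hWV hw)
  exact Subtype.ext h2

end Cfsg.Agent.S2804
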