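import Cfsg.Statements.S2809
import Cfsg.Agent.Helper14.Coprime

set_option autoImplicit false
open Cfsg

namespace Cfsg.Agent.S2809

/-- Let H be a finite group, p a prime, R a p-subgroup of H with C_H(R) ≤ R, and L a subgroup of N_H(R) acting nilpotently on R (some iterated commutator [R, L, …, L] is trivial). Then L is a p-group. -/
theorem result {H : Type*} [Group H] [Finite H] {p : ℕ} [Fact p.Prime] (R : Subgroup H) (hR : IsPGroup p ↥R) (hC : Subgroup.centralizer (R : Set H) ≤ R) (L : Subgroup H) (hL : L ≤ Subgroup.normalizer (R : Set H)) (hnil : ∃ n : ℕ, Cfsg.iterCommutator R L n = ⊥) : IsPGroup p ↥L := by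
  obtain ⟨n, hn⟩ := hnil
  apply Helper14.isPGroup_of_coprime_trivial
  intro x hxL m hm hx
  have hcent : ∀ r ∈ R, r * x = x * r := by
    intro r hr
    exact Helper14.centralizes_of_nilpotent_action R hR L hL x hxL m hm hx n 0 (by rw [Nat.zero_add]; exact hn) r hr
  have hxC : x ∈ Subgroup.centralizer (R : Set H) := by
    rw [Subgroup.mem_centralizer_iff]
    intro r hr
    exact hcent r hr
  have hxR : x ∈ R := hC hxC
  obtain ⟨k, hk⟩ := hR ⟨x, hxR⟩
  have hk' : x ^ p ^ k = 1 := by
    have := congrArg (Subtype.val) hk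
    simpa using this
  exact Helper14.eq_one_of_pow_coprime (p := p) x m k hm hx hk'

end Cfsg.Agent.S2809
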