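import Cfsg.Statements.S2810
import Cfsg.Agent.Helper14.Coprime

set_option autoImplicit false
open Cfsg

namespace Cfsg.Agent.S2810

open scoped commutatorElement

/-- The stability group of a chain of normal subgroups. -/
def chainStab {H : Type*} [Group H] {n : ℕ} (A : Fin (n + 1) → Subgroup H)
    (hnorm : ∀ i, (A i).Normal) : Subgroup H where
  carrier := {g | ∀ i : Fin n, ∀ a ∈ A i.succ, a * g * a⁻¹ * g⁻¹ ∈ A i.castSucc}
  one_mem' := by
    intro i a _
    have : a * 1 * a⁻¹ * (1 : H)⁻¹ = 1 := by group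
    rw [this]; exact (A i.castSucc).one_mem
  mul_mem' := by
    intro g h hg hh i a ha
    have e : a * (g * h) * a⁻¹ * (g * h)⁻¹ =
        (a * g * a⁻¹ * g⁻¹) * (g * (a * h * a⁻¹ * h⁻¹) * g⁻¹) := by group
    rw [e]
    exact (A i.castSucc).mul_mem (hg i a ha) ((hnorm i.castSucc).conj_mem _ (hh i a ha) g)
  inv_mem' := by
    intro g hg i a ha
    have e : a * g⁻¹ * a⁻¹ * g⁻¹⁻¹ = g⁻¹ * (a * g * a⁻¹ * g⁻¹)⁻¹ * g⁻¹⁻¹ := by group
    rw [e]
    exact (hnorm i.castSucc).conj_mem _ ((A i.castSucc).inv_mem (hg i a ha)) g⁻¹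

theorem chainStab_normal {H : Type*} [Group H] {n : ℕ} (A : Fin (n + 1) → Subgroup H)
    (hnorm : ∀ i, (A i).Normal) : (chainStab A hnorm).Normal := by
  constructor
  intro g hg h i a ha
  have e : a * (h * g * h⁻¹) * a⁻¹ * (h * g * h⁻¹)⁻¹ =
      h * ((h⁻¹ * a * h⁻¹⁻¹) * g * (h⁻¹ * a * h⁻¹⁻¹)⁻¹ * g⁻¹) * h⁻¹ := by group
  rw [e]
  exact (hnorm i.castSucc).conj_mem _ (hg i _ ((hnorm i.succ).conj_mem a ha h⁻¹)) h

/-- Let H be a finite group of characteristic p and L a subgroup of H centralizing every factor of some H-invariant chain 1 = A₀ ≤ A₁ ≤ … ≤ Aₙ = O_p(H) of normal subgroups (that is, [A_{i+1}, L] ≤ Aᵢ for each i). Then L ≤ O_p(H). -/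
theorem result {H : Type*} [Group H] [Finite H] {p : ℕ} [Fact p.Prime] (hchar : Subgroup.centralizer (Cfsg.pCore p H : Set H) ≤ Cfsg.pCore p H) (L : Subgroup H) (n : ℕ) (A : Fin (n + 1) → Subgroup H) (h0 : A 0 = ⊥) (hn : A (Fin.last n) = Cfsg.pCore p H) (hmono : Monotone A) (hnorm : ∀ i, (A i).Normal) (hcent : ∀ i : Fin n, ⁅A i.succ, L⁆ ≤ A i.castSucc) : L ≤ Cfsg.pCore p H := by
  have hCn := chainStab_normal A hnorm
  have hCp : IsPGroup p (chainStab A hnorm) := by
    apply Helper14.isPGroup_of_coprime_trivial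
    intro x hxC m hm hx
    have hle : ∀ i : Fin (n + 1), A i ≤ Cfsg.pCore p H := by
      intro i
      rw [← hn]
      exact hmono (Fin.le_last i)
    have hcl : ∀ i : Fin (n + 1), ∀ a ∈ A i, a * x = x * a := by
      intro i
      induction i using Fin.induction with
      | zero =>
        intro a ha
        rw [h0, Subgroup.mem_bot] at ha
        rw [ha, one_mul, mul_one]
      | succ i ih =>
        intro a ha
        have hmem := hxC i a ha
        exact Helper14.commute_of_coprime_of_comm_central (Cfsg.pCore p H)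
          (Helper14.pCore_isPGroup p H) x m hm hx a (hle _ ha) (hle _ hmem) (ih _ hmem)
    have hxC' : x ∈ Subgroup.centralizer (Cfsg.pCore p H : Set H) := by
      rw [Subgroup.mem_centralizer_iff]
      intro r hr
      rw [← hn] at hr
      exact hcl _ r hr
    have hxR := hchar hxC'
    obtain ⟨k, hk⟩ := (Helper14.pCore_isPGroup p H) ⟨x, hxR⟩
    have hk' : x ^ p ^ k = 1 := by
      have := congrArg (Subtype.val) hk
      simpa using this
    exact Helper14.eq_one_of_pow_coprime (p := p) x m k hm hx hk'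
  refine le_trans ?_ (Helper14.le_pCore hCn hCp)
  intro l hl i a ha
  have := Subgroup.commutator_mem_commutator ha hl
  exact hcent i this

end Cfsg.Agent.S2810
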