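import Cfsg.Statements.S2813
import Cfsg.Agent.Helper14.Coprime

set_option autoImplicit false
open Cfsg

namespace Cfsg.Agent.S2813

open scoped commutatorElement

/-- Let K be a subgroup of the finite group H with O_p(K) = 1 and Y a p-subgroup of N_H(K) with [K, Y, Y] = 1. Then [K, Y] = 1. -/
theorem result {H : Type*} [Group H] [Finite H] {p : ℕ} [Fact p.Prime] (K : Subgroup H) (hO : Cfsg.pCore p ↥K = ⊥) (Y : Subgroup H) (hY : IsPGroup p ↥Y) (hYK : Y ≤ Subgroup.normalizer (K : Set H)) (hq : ⁅⁅K, Y⁆, Y⁆ = ⊥) : ⁅K, Y⁆ = ⊥ := by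
  -- (a) N ≤ K
  have hNK : ⁅K, Y⁆ ≤ K := by
    rw [Subgroup.commutator_le]
    intro k hk y hy
    have : y * k⁻¹ * y⁻¹ ∈ K := (Subgroup.mem_normalizer_iff.mp (hYK hy) k⁻¹).mp (K.inv_mem hk)
    have e : ⁅k, y⁆ = k * (y * k⁻¹ * y⁻¹) := by
      rw [commutatorElement_def]; group
    rw [e]
    exact K.mul_mem hk this
  -- (b) K normalizes N
  have hKN : K ≤ Subgroup.normalizer ((⁅K, Y⁆ : Subgroup H) : Set H) := by
    rw [Subgroup.commutator_def, Subgroup.le_normalizer_closure_iff]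
    rintro k' hk' g ⟨k, hk, y, hy, rfl⟩
    have e : k' * ⁅k, y⁆ * k'⁻¹ = ⁅k' * k, y⁆ * ⁅k', y⁆⁻¹ := by
      simp only [commutatorElement_def]; group
    rw [e, ← Subgroup.commutator_def]
    exact Subgroup.mul_mem _ (Subgroup.commutator_mem_commutator (K.mul_mem hk' hk) hy)
      (Subgroup.inv_mem _ (Subgroup.commutator_mem_commutator hk' hy))
  -- (c) N abelian
  have hNN : ⁅⁅K, Y⁆, ⁅K, Y⁆⁆ = ⊥ := by
    apply Subgroup.commutator_commutator_eq_bot_of_rotate
    · rw [Subgroup.commutator_comm Y, hq, Subgroup.commutator_bot_left]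
    · rw [eq_bot_iff, ← hq]
      apply Subgroup.commutator_mono _ (le_refl _)
      rw [Subgroup.commutator_le]
      intro n hn k hk
      have : k * n⁻¹ * k⁻¹ ∈ ⁅K, Y⁆ :=
        (Subgroup.mem_normalizer_iff.mp (hKN hk) n⁻¹).mp (Subgroup.inv_mem _ hn)
      have e : ⁅n, k⁆ = n * (k * n⁻¹ * k⁻¹) := by
        rw [commutatorElement_def]; group
      rw [e]
      exact Subgroup.mul_mem _ hn this
  have hcomm : ∀ a ∈ ⁅K, Y⁆, ∀ b ∈ ⁅K, Y⁆, a * b = b * a := by
    intro a ha b hb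
    have h1 : ⁅a, b⁆ ∈ ⁅⁅K, Y⁆, ⁅K, Y⁆⁆ := Subgroup.commutator_mem_commutator ha hb
    rw [hNN, Subgroup.mem_bot] at h1
    exact commutatorElement_eq_one_iff_mul_comm.mp h1
  -- (e) N is a p-group
  have hNp : ∀ g ∈ ⁅K, Y⁆, ∃ j : ℕ, g ^ p ^ j = 1 := by
    intro g hg
    have hg' := hg
    rw [Subgroup.commutator_def] at hg'
    induction hg' using Subgroup.closure_induction with
    | mem g hgS =>
      obtain ⟨k, hk, y, hy, rfl⟩ := hgS
      obtain ⟨j, hj⟩ := hY ⟨y, hy⟩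
      have hj' : y ^ p ^ j = 1 := by
        have := congrArg (Subtype.val) hj
        simpa using this
      refine ⟨j, ?_⟩
      have hc : ⁅⁅k, y⁆, y⁆ ∈ ⁅⁅K, Y⁆, Y⁆ :=
        Subgroup.commutator_mem_commutator (Subgroup.commutator_mem_commutator hk hy) hy
      rw [hq, Subgroup.mem_bot] at hc
      have hc' := commutatorElement_eq_one_iff_mul_comm.mp hc
      exact Helper14.comm_pow_eq_one k y (p ^ j) hj' hc'
    | one => exact ⟨0, by simp⟩
    | mul x y hx hy ihx ihy =>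
      rw [← Subgroup.commutator_def] at hx hy
      obtain ⟨a, ha⟩ := ihx hx
      obtain ⟨b, hb⟩ := ihy hy
      refine ⟨a + b, ?_⟩
      have hc : Commute x y := hcomm x hx y hy
      rw [hc.mul_pow, pow_add, pow_mul, ha, one_pow, one_mul, mul_comm (p ^ a), pow_mul, hb, one_pow]
    | inv x hx ihx =>
      rw [← Subgroup.commutator_def] at hx
      obtain ⟨a, ha⟩ := ihx hx
      exact ⟨a, by rw [inv_pow, ha, inv_one]⟩
  -- (f)
  have hn : ((⁅K, Y⁆ : Subgroup H).subgroupOf K).Normal :=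
    (Subgroup.normal_subgroupOf_iff_le_normalizer hNK).mpr hKN
  have hp : IsPGroup p ((⁅K, Y⁆ : Subgroup H).subgroupOf K) := by
    intro g
    obtain ⟨j, hj⟩ := hNp (g : K) (Subgroup.mem_subgroupOf.mp g.2)
    refine ⟨j, ?_⟩
    apply Subtype.ext
    apply Subtype.ext
    simpa using hj
  have hle := Helper14.le_pCore hn hp
  rw [hO] at hle
  rw [eq_bot_iff]
  intro n hn'
  have : (⟨n, hNK hn'⟩ : K) ∈ (⁅K, Y⁆ : Subgroup H).subgroupOf K := Subgroup.mem_subgroupOf.mpr hn'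
  have := hle this
  rw [Subgroup.mem_bot] at this ⊢
  exact congrArg Subtype.val this

end Cfsg.Agent.S2813
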