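-- S2814: proof by helper7
import Cfsg.Statements.S2814
import Mathlib
import Cfsg.Agent.Helper7.Components
import Cfsg.Agent.Helper7.PLocal
import Cfsg.Agent.Helper7.PLayer
import Cfsg.Agent.Helper6.PResidual
import Cfsg.Agent.Helper14.PIrred
import Cfsg.Agent.Helper14.Conj

set_option autoImplicit false
open Cfsg

namespace Cfsg.Agent.S2814

open scoped commutatorElement

theorem subnormalClosure_spec {H : Type*} [Group H] [Finite H] (A : Subgroup H) :
    A ≤ Cfsg.subnormalClosure A ∧ (Cfsg.subnormalClosure A).IsSubnormal ∧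
      ∀ B : Subgroup H, A ≤ B → B.IsSubnormal → Cfsg.subnormalClosure A ≤ B := by
  unfold Cfsg.subnormalClosure
  refine ⟨le_sInf fun K' hK' => hK'.1, ?_, fun B h1 h2 => sInf_le ⟨h1, h2⟩⟩
  classical
  have hne : ∃ n, ∃ K' : Subgroup H, (A ≤ K' ∧ K'.IsSubnormal) ∧ Nat.card K' = n :=
    ⟨_, ⊤, ⟨le_top, Subgroup.IsSubnormal.top⟩, rfl⟩
  obtain ⟨K₀, ⟨hAK₀, hK₀sub⟩, hcard⟩ := Nat.find_spec hne
  have hmin : ∀ K' : Subgroup H, A ≤ K' → K'.IsSubnormal → K₀ ≤ K' := by
    intro K' h1 h2
    have h3 : Nat.find hne ≤ Nat.card ↥(K₀ ⊓ K') :=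
      Nat.find_min' hne ⟨K₀ ⊓ K', ⟨le_inf hAK₀ h1, hK₀sub.inf h2⟩, rfl⟩
    rw [← hcard] at h3
    have h4 : K₀ ⊓ K' = K₀ := Subgroup.eq_of_le_of_card_ge inf_le_left h3
    rw [← h4]; exact inf_le_right
  have heq : sInf {K : Subgroup H | A ≤ K ∧ K.IsSubnormal} = K₀ :=
    le_antisymm (sInf_le ⟨hAK₀, hK₀sub⟩) (le_sInf fun K' hK' => hmin K' hK'.1 hK'.2)
  rw [heq]; exact hK₀sub

theorem isSubnormal_of_isNilpotent {G : Type*} [Group G] [Finite G] [hn : Group.IsNilpotent G] :
    ∀ (m : ℕ) (B : Subgroup G), Nat.card G - Nat.card B = m → B.IsSubnormal := by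
  intro m
  induction m using Nat.strong_induction_on with
  | _ m ih =>
    intro B hB
    by_cases htop : B = ⊤
    · rw [htop]; exact Subgroup.IsSubnormal.top
    · have hlt : B < ⊤ := lt_top_iff_ne_top.mpr htop
      have h2 := Group.normalizerCondition_of_isNilpotent (G := G) B hlt
      have hcard : Nat.card B < Nat.card (Subgroup.normalizer (B : Set G)) := by
        by_contra hnot
        exact h2.ne (Subgroup.eq_of_le_of_card_ge h2.le (not_lt.mp hnot))
      have hle : Nat.card (Subgroup.normalizer (B : Set G)) ≤ Nat.card G :=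
        Subgroup.card_le_card_group _
      have hsub : (Subgroup.normalizer (B : Set G)).IsSubnormal :=
        ih (Nat.card G - Nat.card (Subgroup.normalizer (B : Set G))) (by omega) _ rfl
      exact Subgroup.IsSubnormal.step B _ h2.le hsub Subgroup.normal_in_normalizer


/-- Let A be a subgroup of the finite group H and K the subnormal closure of A (intersection of the subnormal subgroups containing A). Then K is the normal closure of A inside K and N_H(A) ≤ N_H(K); K = A·O^p(K), O^p(K) being generated by the elements of K of order prime to p; and if A is a p-group, O^p(K) = [O^p(K), A]. -/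
theorem result {H : Type*} [Group H] [Finite H] {p : ℕ} [Fact p.Prime] (A : Subgroup H) (K : Subgroup H) (hK : K = Cfsg.subnormalClosure A) : (Subgroup.normalClosure ((A.subgroupOf K : Subgroup ↥K) : Set ↥K)).map K.subtype = K ∧ Subgroup.normalizer (A : Set H) ≤ Subgroup.normalizer (K : Set H) ∧ A ⊔ (Cfsg.pResidual p ↥K).map K.subtype = K ∧ (IsPGroup p ↥A → ⁅(Cfsg.pResidual p ↥K).map K.subtype, A⁆ = (Cfsg.pResidual p ↥K).map K.subtype) := by
  obtain ⟨hAK0, hKsub0, hmin0⟩ := subnormalClosure_spec A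
  rw [← hK] at hAK0 hKsub0 hmin0
  have hF3 : ∀ B : Subgroup H, A ≤ B → B ≤ K → (B.subgroupOf K).IsSubnormal → B = K :=
    fun B h1 h2 h3 => le_antisymm h2 (hmin0 B h1 (Subgroup.IsSubnormal.trans h2 h3 hKsub0))
  have hRn : (Cfsg.pResidual p ↥K).Normal := Cfsg.Agent.Helper6.pResidual_normal p ↥K
  have hpg : IsPGroup p (↥K ⧸ Cfsg.pResidual p ↥K) :=
    Cfsg.Agent.Helper6.isPGroup_quotient_pResidual p _ le_rfl
  have hnil : Group.IsNilpotent (↥K ⧸ Cfsg.pResidual p ↥K) := hpg.isNilpotent
  have hRK : (Cfsg.pResidual p ↥K).map K.subtype ≤ K := Subgroup.map_subtype_le _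
  have h3 : A ⊔ (Cfsg.pResidual p ↥K).map K.subtype = K := by
    apply hF3 _ le_sup_left (sup_le hAK0 hRK)
    have hker : (QuotientGroup.mk' (Cfsg.pResidual p ↥K)).ker ≤
        (A ⊔ (Cfsg.pResidual p ↥K).map K.subtype).subgroupOf K := by
      rw [QuotientGroup.ker_mk']
      intro r hr
      rw [Subgroup.mem_subgroupOf]
      exact Subgroup.mem_sup_right (Subgroup.mem_map_of_mem _ hr)
    rw [← Subgroup.comap_map_eq_self hker]
    exact Subgroup.IsSubnormal.comap _ (isSubnormal_of_isNilpotent _ _ rfl)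
  refine ⟨?_, ?_, h3, ?_⟩
  · apply hF3
    · intro a ha
      exact Subgroup.mem_map.mpr ⟨⟨a, hAK0 ha⟩,
        Subgroup.subset_normalClosure (Subgroup.mem_subgroupOf.mpr ha), rfl⟩
    · exact Subgroup.map_subtype_le _
    · have h1 : ((Subgroup.normalClosure ((A.subgroupOf K : Subgroup ↥K) : Set ↥K)).map
          K.subtype).subgroupOf K =
          Subgroup.normalClosure ((A.subgroupOf K : Subgroup ↥K) : Set ↥K) :=
        Subgroup.comap_map_eq_self_of_injective K.subtype_injective _
      rw [h1]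
      exact Subgroup.Normal.isSubnormal Subgroup.normalClosure_normal
  · intro g hg
    apply Cfsg.Agent.Helper7.mem_normalizer_of_conj_mem_finite
    have hsub' : (K.map (MulAut.conj g⁻¹).toMonoidHom).IsSubnormal :=
      hKsub0.map (MulAut.conj g⁻¹).surjective
    have hA' : A ≤ K.map (MulAut.conj g⁻¹).toMonoidHom := by
      intro a ha
      rw [Cfsg.Agent.Helper14.mem_map_conj, inv_inv]
      exact hAK0 ((Subgroup.mem_normalizer_iff.mp hg a).mp ha)
    have hle := hmin0 _ hA' hsub'
    intro x hx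
    have h1 := hle hx
    rw [Cfsg.Agent.Helper14.mem_map_conj, inv_inv] at h1
    exact h1
  · intro hAp
    have hAR : ∀ r ∈ (Cfsg.pResidual p ↥K).map K.subtype, ∀ a ∈ A,
        a * r * a⁻¹ ∈ (Cfsg.pResidual p ↥K).map K.subtype := by
      intro r hr a ha
      obtain ⟨r', hr', rfl⟩ := Subgroup.mem_map.mp hr
      exact Subgroup.mem_map.mpr ⟨⟨a, hAK0 ha⟩ * r' * ⟨a, hAK0 ha⟩⁻¹,
        hRn.conj_mem r' hr' ⟨a, hAK0 ha⟩, rfl⟩
    have hle : ⁅(Cfsg.pResidual p ↥K).map K.subtype, A⁆ ≤ (Cfsg.pResidual p ↥K).map K.subtype := by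
      rw [Subgroup.commutator_le]
      intro r hr a ha
      have h1 : ⁅r, a⁆ = r * (a * r⁻¹ * a⁻¹) := by
        rw [commutatorElement_def]; group
      rw [h1]
      exact Subgroup.mul_mem _ hr (hAR _ (Subgroup.inv_mem _ hr) a ha)
    apply le_antisymm hle
    have hRN : (Cfsg.pResidual p ↥K).map K.subtype ≤ Subgroup.normalizer
        ((⁅(Cfsg.pResidual p ↥K).map K.subtype, A⁆ : Subgroup H) : Set H) :=
      Cfsg.Agent.Helper7.le_normalizer_commutator _ _
    have hAN : A ≤ Subgroup.normalizer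
        ((⁅(Cfsg.pResidual p ↥K).map K.subtype, A⁆ : Subgroup H) : Set H) := by
      rw [Subgroup.commutator_comm]
      exact Cfsg.Agent.Helper7.le_normalizer_commutator _ _
    have hKN : K ≤ Subgroup.normalizer
        ((⁅(Cfsg.pResidual p ↥K).map K.subtype, A⁆ : Subgroup H) : Set H) := by
      have h := sup_le hAN hRN
      rw [h3] at h
      exact h
    have hR0K : ⁅(Cfsg.pResidual p ↥K).map K.subtype, A⁆ ≤ K := hle.trans hRK
    -- B = A ⊔ R₀ is normal in K
    have hBK : A ⊔ ⁅(Cfsg.pResidual p ↥K).map K.subtype, A⁆ ≤ K := sup_le hAK0 hR0K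
    have hconjA : ∀ r ∈ (Cfsg.pResidual p ↥K).map K.subtype, ∀ x ∈ A,
        r * x * r⁻¹ ∈ A ⊔ ⁅(Cfsg.pResidual p ↥K).map K.subtype, A⁆ := by
      intro r hr x hx
      have h1 : r * x * r⁻¹ = ⁅r, x⁆ * x := by
        rw [commutatorElement_def]; group
      rw [h1]
      exact Subgroup.mul_mem _ (Subgroup.mem_sup_right (Subgroup.commutator_mem_commutator hr hx))
        (Subgroup.mem_sup_left hx)
    have hRNB : (Cfsg.pResidual p ↥K).map K.subtype ≤ Subgroup.normalizer
        ((A ⊔ ⁅(Cfsg.pResidual p ↥K).map K.subtype, A⁆ : Subgroup H) : Set H) := by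
      apply Cfsg.Agent.Helper7.le_normalizer_of_conj_mem
      intro r hr x hx
      have hx' : x ∈ (A ⊔ ⁅(Cfsg.pResidual p ↥K).map K.subtype, A⁆ : Subgroup H).comap
          (MulAut.conj r).toMonoidHom := by
        have hsup : A ⊔ ⁅(Cfsg.pResidual p ↥K).map K.subtype, A⁆ ≤
            (A ⊔ ⁅(Cfsg.pResidual p ↥K).map K.subtype, A⁆ : Subgroup H).comap
              (MulAut.conj r).toMonoidHom := by
          apply sup_le
          · intro y hy
            exact hconjA r hr y hy
          · intro y hy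
            have h2 : r * y * r⁻¹ ∈ ⁅(Cfsg.pResidual p ↥K).map K.subtype, A⁆ :=
              (Subgroup.mem_normalizer_iff.mp (hRN hr) y).mp hy
            exact Subgroup.mem_sup_right h2
        exact hsup hx
      exact hx'
    have hANB : A ≤ Subgroup.normalizer
        ((A ⊔ ⁅(Cfsg.pResidual p ↥K).map K.subtype, A⁆ : Subgroup H) : Set H) := by
      apply Cfsg.Agent.Helper7.le_normalizer_of_conj_mem
      intro a ha x hx
      have hx' : x ∈ (A ⊔ ⁅(Cfsg.pResidual p ↥K).map K.subtype, A⁆ : Subgroup H).comap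
          (MulAut.conj a).toMonoidHom := by
        have hsup : A ⊔ ⁅(Cfsg.pResidual p ↥K).map K.subtype, A⁆ ≤
            (A ⊔ ⁅(Cfsg.pResidual p ↥K).map K.subtype, A⁆ : Subgroup H).comap
              (MulAut.conj a).toMonoidHom := by
          apply sup_le
          · intro y hy
            exact Subgroup.mem_sup_left (A.mul_mem (A.mul_mem ha hy) (A.inv_mem ha))
          · intro y hy
            have h2 : a * y * a⁻¹ ∈ ⁅(Cfsg.pResidual p ↥K).map K.subtype, A⁆ :=
              (Subgroup.mem_normalizer_iff.mp (hAN ha) y).mp hy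
            exact Subgroup.mem_sup_right h2
        exact hsup hx
      exact hx'
    have hKNB : K ≤ Subgroup.normalizer
        ((A ⊔ ⁅(Cfsg.pResidual p ↥K).map K.subtype, A⁆ : Subgroup H) : Set H) := by
      have h := sup_le hANB hRNB
      rw [h3] at h
      exact h
    have hBeq : A ⊔ ⁅(Cfsg.pResidual p ↥K).map K.subtype, A⁆ = K :=
      hF3 _ le_sup_left hBK
        (((Subgroup.normal_subgroupOf_iff_le_normalizer hBK).mpr hKNB).isSubnormal)
    have hR0n : ((⁅(Cfsg.pResidual p ↥K).map K.subtype, A⁆).subgroupOf K).Normal :=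
      (Subgroup.normal_subgroupOf_iff_le_normalizer hR0K).mpr hKN
    have hsupK : (⁅(Cfsg.pResidual p ↥K).map K.subtype, A⁆).subgroupOf K ⊔ A.subgroupOf K = ⊤ := by
      rw [← Subgroup.subgroupOf_sup hR0K hAK0, sup_comm, hBeq]
      exact Subgroup.subgroupOf_self K
    have hres := Cfsg.Agent.Helper14.pResidual_le_of_sup_eq_top
      ((⁅(Cfsg.pResidual p ↥K).map K.subtype, A⁆).subgroupOf K) (A.subgroupOf K)
      hAp.comap_subtype hsupK
    rw [Subgroup.map_le_iff_le_comap]
    exact hres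

end Cfsg.Agent.S2814
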