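-- S2815: proof by helper7
import Cfsg.Statements.S2815
import Mathlib
import Cfsg.Agent.Helper7.Components
import Cfsg.Agent.Helper7.Bender
import Cfsg.Agent.Helper7.PLocal
import Cfsg.Agent.Helper7.CharP
import Cfsg.Agent.Helper6.PResidual
import Cfsg.Agent.Helper14.Subnormal
import Cfsg.Agent.Helper1.Fitting

set_option autoImplicit false
open Cfsg

namespace Cfsg.Agent.S2815

universe u

open scoped commutatorElement

theorem core {H : Type u} [Group H] [Finite H] {p : ℕ} [Fact p.Prime] (K : Subgroup H)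
    [hKn : K.Normal] (hKq : IsPGroup p (H ⧸ K)) (hO : Cfsg.pCore p H = ⊥)
    (hq : Cfsg.IsQuasisimple ↥K) :
    K = Cfsg.generalizedFittingSubgroup H ∧
    (∀ Y : Subgroup H, IsPGroup p ↥Y → Y ≠ ⊥ → ⁅K, Y⁆ = K ∧
      K ≤ ⨆ k : ↥K, Y.map (MulAut.conj (k : H)).toMonoidHom) ∧
    (∀ C : Subgroup H, C.Normal → ¬ K ≤ C → (Nat.card ↥C).Coprime p) := by
  have hKc : Cfsg.IsComponent K := ⟨hKn.isSubnormal, hq⟩
  have hperf : ⁅K, K⁆ = K := Cfsg.Agent.Helper7.IsComponent.perfect hKc
  have hlayer : Cfsg.layer H = K := by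
    apply le_antisymm _ (Cfsg.Agent.Helper7.le_layer hKc)
    unfold Cfsg.layer
    apply sSup_le
    intro L hL
    exact Cfsg.Agent.Helper7.perfect_le_of_quotient_isPGroup p K hKq L
      (Cfsg.Agent.Helper7.IsComponent.perfect hL)
  have hfit : Cfsg.fittingSubgroup H ≤ K := by
    rw [Cfsg.Agent.Helper1.fitting_eq_iSup]
    apply iSup_le
    intro q
    have hqp' : (q : ℕ).Prime := Nat.prime_of_mem_primeFactors q.2
    have : Fact (q : ℕ).Prime := ⟨hqp'⟩
    by_cases hqp : (q : ℕ) = p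
    · rw [hqp, hO]; exact bot_le
    · exact Cfsg.Agent.Helper7.qgroup_le_of_quotient_isPGroup p (q : ℕ) hqp K hKq _
        (Cfsg.Agent.Helper1.pCore_isPGroup (q : ℕ) H)
  have hF : K = Cfsg.generalizedFittingSubgroup H := by
    unfold Cfsg.generalizedFittingSubgroup
    rw [hlayer]
    exact (sup_eq_left.mpr hfit).symm
  have hCK : Subgroup.centralizer (K : Set H) ≤ K := by
    have h := Cfsg.Agent.Helper7.bender (G := H)
    rw [← hF] at h
    exact h
  have hnc : ∀ Y : Subgroup H, IsPGroup p ↥Y → Y ≤ Subgroup.centralizer (K : Set H) → Y = ⊥ := by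
    intro Y hY hYC
    have hYK : Y ≤ K := hYC.trans hCK
    have hKN : K ≤ Subgroup.normalizer (Y : Set H) :=
      (Subgroup.le_centralizer_iff.mp hYC).trans (Subgroup.centralizer_le_normalizer _)
    have hsub : Y.IsSubnormal :=
      Subgroup.IsSubnormal.trans hYK
        ((Subgroup.normal_subgroupOf_iff_le_normalizer hYK).mpr hKN).isSubnormal hKn.isSubnormal
    have h1 := Cfsg.Agent.Helper14.subnormal_pgroup_le_pCore Y hsub hY
    rw [hO] at h1
    exact le_bot_iff.mp h1
  have hii : ∀ Y : Subgroup H, IsPGroup p ↥Y → Y ≠ ⊥ → ⁅K, Y⁆ = K := by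
    intro Y hY hY1
    have hle : ⁅K, Y⁆ ≤ K := Subgroup.commutator_le_left K Y
    have hKN : K ≤ Subgroup.normalizer ((⁅K, Y⁆ : Subgroup H) : Set H) :=
      Cfsg.Agent.Helper7.le_normalizer_commutator K Y
    have hn : ((⁅K, Y⁆).subgroupOf K).Normal :=
      (Subgroup.normal_subgroupOf_iff_le_normalizer hle).mpr hKN
    rcases Cfsg.Agent.Helper7.quasisimple_subnormal hq _ hn.isSubnormal with h | h
    · exact le_antisymm hle (Subgroup.subgroupOf_eq_top.mp h)
    · exfalso
      apply hY1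
      apply hnc Y hY
      have h1 : ⁅⁅Y, K⁆, K⁆ = ⊥ := by
        rw [Subgroup.commutator_comm Y K, eq_bot_iff, Subgroup.commutator_le]
        intro z hz k hk
        rw [Subgroup.mem_bot, commutatorElement_eq_one_iff_mul_comm]
        have hzK : z ∈ K := hle hz
        have h2 : (⟨z, hzK⟩ : ↥K) ∈ Subgroup.center ↥K := h (Subgroup.mem_subgroupOf.mpr hz)
        have h3 := Subgroup.mem_center_iff.mp h2 ⟨k, hk⟩
        exact (congrArg Subtype.val h3).symm
      have h4 := Cfsg.Agent.Helper7.commutator_eq_bot_of_perfect_stable K Y hperf h1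
      exact Subgroup.commutator_eq_bot_iff_le_centralizer.mp h4
  refine ⟨hF, ?_, ?_⟩
  · intro Y hY hY1
    refine ⟨hii Y hY hY1, ?_⟩
    have h1 : ⁅K, Y⁆ ≤ ⨆ k : ↥K, Y.map (MulAut.conj (k : H)).toMonoidHom := by
      rw [Subgroup.commutator_le]
      intro k hk y hy
      have h2 : k * y * k⁻¹ ∈ ⨆ k : ↥K, Y.map (MulAut.conj (k : H)).toMonoidHom :=
        (le_iSup (fun k : ↥K => Y.map (MulAut.conj (k : H)).toMonoidHom) ⟨k, hk⟩)
          (Subgroup.mem_map.mpr ⟨y, hy, rfl⟩)
      have h3 : y⁻¹ ∈ ⨆ k : ↥K, Y.map (MulAut.conj (k : H)).toMonoidHom :=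
        (le_iSup (fun k : ↥K => Y.map (MulAut.conj (k : H)).toMonoidHom) ⟨1, K.one_mem⟩)
          (Subgroup.mem_map.mpr ⟨y⁻¹, Y.inv_mem hy, by
            show (1 : H) * y⁻¹ * (1 : H)⁻¹ = y⁻¹
            group⟩)
      exact Subgroup.mul_mem _ h2 h3
    rw [hii Y hY hY1] at h1
    exact h1
  · intro C hCn hKC
    have hCK' : ⁅C, K⁆ = ⊥ := by
      apply Cfsg.Agent.Helper7.commutator_eq_bot_of_perfect_stable K C hperf
      have hle : ⁅C, K⁆ ≤ C ⊓ K := Subgroup.commutator_le_inf C K
      have hn : ((C ⊓ K).subgroupOf K).Normal := inferInstance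
      rcases Cfsg.Agent.Helper7.quasisimple_subnormal hq _ hn.isSubnormal with h | h
      · exfalso
        apply hKC
        exact (Subgroup.subgroupOf_eq_top.mp h).trans inf_le_left
      · rw [eq_bot_iff, Subgroup.commutator_le]
        intro z hz k hk
        rw [Subgroup.mem_bot, commutatorElement_eq_one_iff_mul_comm]
        have hz' : z ∈ C ⊓ K := hle hz
        have h2 : (⟨z, hz'.2⟩ : ↥K) ∈ Subgroup.center ↥K := h (Subgroup.mem_subgroupOf.mpr hz')
        have h3 := Subgroup.mem_center_iff.mp h2 ⟨k, hk⟩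
        exact (congrArg Subtype.val h3).symm
    have hCcent : C ≤ Subgroup.centralizer (K : Set H) :=
      Subgroup.commutator_eq_bot_iff_le_centralizer.mp hCK'
    rw [Nat.coprime_comm, Nat.Prime.coprime_iff_not_dvd (Fact.out : p.Prime)]
    intro hdvd
    obtain ⟨c, hc⟩ := exists_prime_orderOf_dvd_card' p hdvd
    have hY : IsPGroup p ↥(Subgroup.zpowers (c : H)) := by
      apply IsPGroup.of_card (n := 1)
      rw [Nat.card_zpowers, Subgroup.orderOf_coe, hc, pow_one]
    have hbot := hnc _ hY ((Subgroup.zpowers_le.mpr c.2).trans hCcent)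
    have hc1 : (c : H) = 1 := by
      have h5 : (c : H) ∈ Subgroup.zpowers (c : H) := Subgroup.mem_zpowers _
      rw [hbot, Subgroup.mem_bot] at h5
      exact h5
    have h6 : orderOf (c : H) = 1 := by rw [hc1]; exact orderOf_one
    rw [Subgroup.orderOf_coe, hc] at h6
    exact (Fact.out : p.Prime).one_lt.ne' h6


/-- Let H be a finite group and p a prime dividing its order with O_p(H) = 1, and suppose K = O^p(H) (generated by the elements of order prime to p) is quasisimple. Then K = F*(H); for every nontrivial p-subgroup Y of H, K = [K, Y] and K lies in the subgroup generated by the K-conjugates of Y; every normal subgroup of H not containing K has order prime to p; and H is p-irreducible. -/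
theorem result {H : Type*} [Group H] [Finite H] {p : ℕ} [Fact p.Prime] (hp : p ∣ Nat.card H) (hO : Cfsg.pCore p H = ⊥) (hq : Cfsg.IsQuasisimple ↥(Cfsg.pResidual p H)) : Cfsg.pResidual p H = Cfsg.generalizedFittingSubgroup H ∧ (∀ Y : Subgroup H, IsPGroup p ↥Y → Y ≠ ⊥ → ⁅Cfsg.pResidual p H, Y⁆ = Cfsg.pResidual p H ∧ Cfsg.pResidual p H ≤ ⨆ k : ↥(Cfsg.pResidual p H), Y.map (MulAut.conj (k : H)).toMonoidHom) ∧ (∀ C : Subgroup H, C.Normal → ¬ Cfsg.pResidual p H ≤ C → (Nat.card ↥C).Coprime p) ∧ Cfsg.IsPIrreducible p H := by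
  have hKn := Cfsg.Agent.Helper6.pResidual_normal p H
  have hKq : IsPGroup p (H ⧸ Cfsg.pResidual p H) :=
    Cfsg.Agent.Helper6.isPGroup_quotient_pResidual p _ le_rfl
  obtain ⟨h1, h2, h3⟩ := core (Cfsg.pResidual p H) hKq hO hq
  refine ⟨h1, h2, h3, ?_, ?_⟩
  · intro hcl
    obtain ⟨P⟩ : Nonempty (Sylow p H) := inferInstance
    have hPn := hcl P
    have h4 : (P : Subgroup H) ≤ Cfsg.pCore p H := Cfsg.Agent.Helper1.le_pCore hPn P.isPGroup'
    rw [hO] at h4
    exact Sylow.ne_bot_of_dvd_card P hp (le_bot_iff.mp h4)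
  · intro N hNn hNcl
    by_contra hKN
    apply hNcl
    have hcop := h3 N hNn hKN
    intro P
    have hPbot : (P : Subgroup ↥N) = ⊥ := by
      rcases P.isPGroup'.card_eq_or_dvd with h | h
      · exact Subgroup.eq_bot_of_card_eq _ h
      · exfalso
        have h5 : p ∣ Nat.card ↥N := h.trans (Subgroup.card_subgroup_dvd_card _)
        exact (Nat.Prime.coprime_iff_not_dvd (Fact.out : p.Prime)).mp hcop.symm h5
    rw [hPbot]
    exact Subgroup.normal_bot

end Cfsg.Agent.S2815
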