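-- S2816: [F*(H),Y] = [F*(K),Y] = [F*(K),Y,Y] for subnormal K ≥ Y, O_p(H) = 1, Y a p-group; faithfulness.
import Mathlib
import Cfsg.Statements.S2816
import Cfsg.Agent.Helper9.FStar

set_option autoImplicit false
open Cfsg
open Cfsg.Agent.Helper9.FStar

namespace Cfsg.Agent.S2816

/-- `F*(X) = [F*(X), Y] C_{F*(X)}(Y)` for a `p`-subgroup `Y` when `O_p(X) = 1`. -/
theorem fstar_top {X : Type*} [Group X] [Finite X] {p : ℕ} [Fact p.Prime]
    (hO : Cfsg.pCore p X = ⊥) (Y : Subgroup X) (hY : IsPGroup p ↥Y) :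
    Cfsg.generalizedFittingSubgroup X ≤ ⁅Cfsg.generalizedFittingSubgroup X, Y⁆ ⊔
      (Cfsg.generalizedFittingSubgroup X ⊓ Subgroup.centralizer (Y : Set X)) := by
  have h := fstar_sub hO Y hY ⊤ Subgroup.IsSubnormal.top le_top
  have e := fstar_inf_subnormal (⊤ : Subgroup X) Subgroup.IsSubnormal.top
  rw [inf_top_eq] at e
  rw [← e] at h
  exact h

/-- If `V = [V, Y]` and `Y ≤ K` with `K` subnormal, then `V ≤ K`. -/
theorem comm_le_of_subnormal {X : Type*} [Group X] (V Y : Subgroup X) (hV : V = ⁅V, Y⁆)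
    (K : Subgroup X) (hK : K.IsSubnormal) (hYK : Y ≤ K) : V ≤ K := by
  induction hK with
  | top => exact le_top
  | step H₁ K₁ h_le hSubn hN ih =>
    have h1 : V ≤ K₁ := ih (hYK.trans h_le)
    refine hV.le.trans ?_
    rw [Subgroup.commutator_le]
    intro v hv y hy
    rw [commutatorElement_def]
    have hyH : y ∈ H₁ := hYK hy
    have h2 : (⟨v, h1 hv⟩ : ↥K₁) * ⟨y, h_le hyH⟩ * (⟨v, h1 hv⟩ : ↥K₁)⁻¹ ∈ H₁.subgroupOf K₁ :=
      hN.conj_mem _ (Subgroup.mem_subgroupOf.mpr hyH) _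
    have h3 : v * y * v⁻¹ ∈ H₁ := Subgroup.mem_subgroupOf.mp h2
    exact mul_mem h3 (inv_mem hyH)

/-- A `p`-subgroup centralizing `F*(X)` is trivial when `O_p(X) = 1`. -/
theorem eq_bot_of_le_centralizer_fstar {X : Type*} [Group X] [Finite X] {p : ℕ} [Fact p.Prime]
    (hO : Cfsg.pCore p X = ⊥) (Y₀ : Subgroup X) (hY₀ : IsPGroup p ↥Y₀)
    (h4 : Y₀ ≤ Subgroup.centralizer (Cfsg.generalizedFittingSubgroup X : Set X)) : Y₀ = ⊥ := by
  obtain ⟨Fs, hFs⟩ : ∃ Fs : Subgroup X, Fs = Cfsg.generalizedFittingSubgroup X := ⟨_, rfl⟩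
  rw [← hFs] at h4
  have hFsn : Fs.Normal := by
    rw [hFs]; exact Cfsg.Agent.Helper9.generalizedFittingSubgroup_normal X
  have h5 : Y₀ ≤ Fs := by
    have h := Cfsg.Agent.Helper7.bender (G := X)
    rw [← hFs] at h
    exact h4.trans h
  obtain ⟨Z, hZ⟩ : ∃ Z : Subgroup X, Z = Fs ⊓ Subgroup.centralizer (Fs : Set X) := ⟨_, rfl⟩
  have hY₀Z : Y₀ ≤ Z := by rw [hZ]; exact le_inf h5 h4
  have hZn : Z.Normal := by rw [hZ]; haveI := hFsn; exact inferInstance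
  have hZc : ∀ a ∈ Z, ∀ b ∈ Z, a * b = b * a := by
    intro a ha b hb
    rw [hZ] at ha hb
    exact Subgroup.mem_centralizer_iff.mp (Subgroup.mem_inf.mp hb).2 a (Subgroup.mem_inf.mp ha).1
  have hY₀n : (Y₀.subgroupOf Z).Normal := by
    constructor
    intro n hn g
    have e : g * n * g⁻¹ = n := by
      apply Subtype.ext
      show (g : X) * (n : X) * (g : X)⁻¹ = (n : X)
      rw [hZc g g.2 n n.2]; group
    rw [e]; exact hn
  have hY₀sn : Y₀.IsSubnormal :=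
    Subgroup.IsSubnormal.trans hY₀Z hY₀n.isSubnormal hZn.isSubnormal
  have h6 := Cfsg.Agent.Helper9.subnormal_pgroup_le_pCore Y₀ hY₀sn hY₀
  rw [hO] at h6
  exact le_bot_iff.mp h6

/-- Let H be a finite group and p a prime with O_p(H) = 1, and Y a p-subgroup of H. Then for every subnormal subgroup K of H containing Y, [F*(H), Y] = [F*(K), Y] = [F*(K), Y, Y]; and if Y₀ ≤ Y with [F*(H), Y, Y₀] = 1 then Y₀ = 1 (in particular [F*(H), Y] = 1 forces Y = 1). -/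
theorem result {H : Type*} [Group H] [Finite H] {p : ℕ} [Fact p.Prime] (hO : Cfsg.pCore p H = ⊥) (Y : Subgroup H) (hY : IsPGroup p ↥Y) : (∀ K : Subgroup H, K.IsSubnormal → Y ≤ K → ⁅Cfsg.generalizedFittingSubgroup H, Y⁆ = ⁅(Cfsg.generalizedFittingSubgroup ↥K).map K.subtype, Y⁆ ∧ ⁅(Cfsg.generalizedFittingSubgroup ↥K).map K.subtype, Y⁆ = ⁅⁅(Cfsg.generalizedFittingSubgroup ↥K).map K.subtype, Y⁆, Y⁆) ∧ (∀ Y₀ : Subgroup H, Y₀ ≤ Y → ⁅⁅Cfsg.generalizedFittingSubgroup H, Y⁆, Y₀⁆ = ⊥ → Y₀ = ⊥) := by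
  classical
  have htop0 := fstar_top hO Y hY
  have hFsn0 := Cfsg.Agent.Helper9.generalizedFittingSubgroup_normal H
  have hben := eq_bot_of_le_centralizer_fstar (X := H) (p := p) hO
  have hinf0 := fun (K : Subgroup H) (hK : K.IsSubnormal) => fstar_inf_subnormal K hK
  obtain ⟨Fs, hFs⟩ : ∃ Fs : Subgroup H, Fs = Cfsg.generalizedFittingSubgroup H := ⟨_, rfl⟩
  rw [← hFs] at htop0 hFsn0 hben hinf0 ⊢
  have hYFs : Y ≤ Subgroup.normalizer (Fs : Set H) := by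
    rw [Subgroup.normalizer_eq_top_iff.mpr hFsn0]; exact le_top
  have hVFs : ⁅Fs, Y⁆ ≤ Fs := Cfsg.Agent.Helper14.commutator_le_left_of_le_normalizer Fs Y hYFs
  have hVV : ⁅Fs, Y⁆ = ⁅⁅Fs, Y⁆, Y⁆ :=
    le_antisymm (comm_le_comm_comm Fs Y htop0) (Subgroup.commutator_mono hVFs le_rfl)
  constructor
  · intro K hK hYK
    have hsub0 := fstar_sub hO Y hY K hK hYK
    have hinf := hinf0 K hK
    obtain ⟨FK, hFK⟩ : ∃ FK : Subgroup H,
        FK = (Cfsg.generalizedFittingSubgroup ↥K).map K.subtype := ⟨_, rfl⟩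
    rw [← hFK] at hsub0 hinf ⊢
    have hFKFs : FK ≤ Fs := by rw [← hinf]; exact inf_le_left
    have hYFK : Y ≤ Subgroup.normalizer (FK : Set H) := by
      intro y hy
      apply Cfsg.Agent.Helper9.mem_normalizer_of_conj_le
      intro u hu
      rw [← hinf] at hu ⊢
      obtain ⟨hu1, hu2⟩ := Subgroup.mem_inf.mp hu
      exact Subgroup.mem_inf.mpr ⟨hFsn0.conj_mem u hu1 y,
        mul_mem (mul_mem (hYK hy) hu2) (inv_mem (hYK hy))⟩
    have hVK : ⁅Fs, Y⁆ ≤ K := comm_le_of_subnormal _ Y hVV K hK hYK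
    have hVFK : ⁅Fs, Y⁆ ≤ FK := by rw [← hinf]; exact le_inf hVFs hVK
    refine ⟨le_antisymm ?_ (Subgroup.commutator_mono hFKFs le_rfl),
      le_antisymm (comm_le_comm_comm FK Y hsub0) (Subgroup.commutator_mono
        (Cfsg.Agent.Helper14.commutator_le_left_of_le_normalizer FK Y hYFK) le_rfl)⟩
    exact hVV.le.trans (Subgroup.commutator_mono hVFK le_rfl)
  · intro Y₀ hY₀ hcomm
    have h1 : ⁅Fs, Y⁆ ≤ Subgroup.centralizer (Y₀ : Set H) :=
      Subgroup.commutator_eq_bot_iff_le_centralizer.mp hcomm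
    have h2 : Fs ⊓ Subgroup.centralizer (Y : Set H) ≤ Subgroup.centralizer (Y₀ : Set H) :=
      inf_le_right.trans (Subgroup.centralizer_le hY₀)
    have h3 : Fs ≤ Subgroup.centralizer (Y₀ : Set H) := htop0.trans (sup_le h1 h2)
    have h4 : Y₀ ≤ Subgroup.centralizer (Fs : Set H) := Subgroup.le_centralizer_iff.mp h3
    exact hben Y₀ (hY.to_le hY₀) h4

end Cfsg.Agent.S2816
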