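-- S2817: L = [F*(H),Q], F = largest normal subgroup of F*(H) centralized by Q (O_p(H) = 1, Q a p-group).
import Mathlib
import Cfsg.Statements.S2817
import Cfsg.Agent.Helper9.FStar2
import Cfsg.Agent.S2816

set_option autoImplicit false
open Cfsg
open Cfsg.Agent.Helper9.FStar
open scoped commutatorElement

namespace Cfsg.Agent.S2817

/-- Let H be a finite group and p a prime with O_p(H) = 1, Q a p-subgroup of H, L = [F*(H), Q], and F the largest normal subgroup of F*(H) centralized by Q (a normal subgroup of F*(H) centralized by Q and containing every such). Then F = C_{F*(H)}(LQ); L = [L, Q]; L ∩ F ≤ Φ(L); every p-subgroup B of N_H(Q) with [L, B] ≤ F satisfies [L, B] = 1; and C_H(FL) has order prime to p. -/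
theorem result {H : Type*} [Group H] [Finite H] {p : ℕ} [Fact p.Prime] (hO : Cfsg.pCore p H = ⊥) (Q : Subgroup H) (hQ : IsPGroup p ↥Q) (L : Subgroup H) (hL : L = ⁅Cfsg.generalizedFittingSubgroup H, Q⁆) (F : Subgroup H) (hF : F ≤ Cfsg.generalizedFittingSubgroup H ∧ Cfsg.generalizedFittingSubgroup H ≤ Subgroup.normalizer (F : Set H) ∧ Q ≤ Subgroup.centralizer (F : Set H) ∧ ∀ N : Subgroup H, N ≤ Cfsg.generalizedFittingSubgroup H → Cfsg.generalizedFittingSubgroup H ≤ Subgroup.normalizer (N : Set H) → Q ≤ Subgroup.centralizer (N : Set H) → N ≤ F) : F = Cfsg.generalizedFittingSubgroup H ⊓ Subgroup.centralizer ((L ⊔ Q : Subgroup H) : Set H) ∧ ⁅L, Q⁆ = L ∧ L ⊓ F ≤ (frattini ↥L).map L.subtype ∧ (∀ B : Subgroup H, IsPGroup p ↥B → B ≤ Subgroup.normalizer (Q : Set H) → ⁅L, B⁆ ≤ F → ⁅L, B⁆ = ⊥) ∧ (Nat.card ↥(Subgroup.centralizer ((F ⊔ L : Subgroup H) : Set H))).Coprime p := by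
  classical
  have hp : p.Prime := Fact.out
  obtain ⟨hF1, hF2, hF3, hF4⟩ := hF
  obtain ⟨Fs, hFs⟩ : ∃ Fs : Subgroup H, Fs = Cfsg.generalizedFittingSubgroup H := ⟨_, rfl⟩
  rw [← hFs] at hL hF1 hF2 hF4 ⊢
  have htopX : ∀ Y : Subgroup H, IsPGroup p ↥Y →
      Fs ≤ ⁅Fs, Y⁆ ⊔ (Fs ⊓ Subgroup.centralizer (Y : Set H)) := by
    rw [hFs]; exact fun Y hY => Cfsg.Agent.S2816.fstar_top hO Y hY
  have hFsn0 : Fs.Normal := by
    rw [hFs]; exact Cfsg.Agent.Helper9.generalizedFittingSubgroup_normal H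
  have hben : ∀ Y₀ : Subgroup H, IsPGroup p ↥Y₀ →
      Y₀ ≤ Subgroup.centralizer (Fs : Set H) → Y₀ = ⊥ := by
    rw [hFs]; exact fun Y₀ h1 h2 => Cfsg.Agent.S2816.eq_bot_of_le_centralizer_fstar hO Y₀ h1 h2
  have hsn0 : ∀ (Y : Subgroup H), IsPGroup p ↥Y → ∀ L₀ : Subgroup H, L₀ ≤ Fs →
      L₀.IsSubnormal → Y ≤ Subgroup.normalizer (L₀ : Set H) →
      L₀ ≤ ⁅L₀, Y⁆ ⊔ (L₀ ⊓ Subgroup.centralizer (Y : Set H)) := by
    rw [hFs]; exact fun Y hY L₀ h1 h2 h3 => fstar_sn hO Y hY L₀ h1 h2 h3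
  have hZ0 : ∀ L₀ : Subgroup H, L₀ ≤ Fs → L₀.IsSubnormal →
      Q ≤ Subgroup.normalizer (L₀ : Set H) → ⁅L₀, Q⁆ = L₀ →
      L₀ ⊓ Subgroup.centralizer (Q : Set H) ≤ ⁅L₀, L₀⁆ := by
    rw [hFs]; exact fun L₀ h1 h2 h3 h4 => cent_le_comm hO Q hQ L₀ h1 h2 h3 h4
  have htop0 := htopX Q hQ
  have hnormAll : ∀ g : H, g ∈ Subgroup.normalizer (Fs : Set H) := by
    intro g; rw [Subgroup.normalizer_eq_top_iff.mpr hFsn0]; exact Subgroup.mem_top g
  have hLFs : L ≤ Fs := by
    rw [hL]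
    exact Cfsg.Agent.Helper14.commutator_le_left_of_le_normalizer Fs Q (fun q _ => hnormAll q)
  have hFsL : Fs ≤ Subgroup.normalizer (L : Set H) := by
    rw [hL]; exact Cfsg.Agent.Helper14.le_normalizer_commutator_left Fs Q
  have hQL : Q ≤ Subgroup.normalizer (L : Set H) := by
    rw [hL, Subgroup.commutator_comm]
    exact Cfsg.Agent.Helper14.le_normalizer_commutator_left Q Fs
  have hLQ : ⁅L, Q⁆ = L := by
    have h1 := comm_le_comm_comm Fs Q htop0
    rw [← hL] at h1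
    exact le_antisymm (Cfsg.Agent.Helper14.commutator_le_left_of_le_normalizer L Q hQL) h1
  have htop : Fs ≤ L ⊔ (Fs ⊓ Subgroup.centralizer (Q : Set H)) := by rw [hL]; exact htop0
  have hLsn : L.IsSubnormal :=
    Subgroup.IsSubnormal.trans hLFs
      (Subgroup.normal_subgroupOf_of_le_normalizer hFsL).isSubnormal hFsn0.isSubnormal
  have hFQ : F ≤ Subgroup.centralizer (Q : Set H) := Subgroup.le_centralizer_iff.mp hF3
  have hLF : L ≤ Subgroup.centralizer (F : Set H) := by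
    rw [← Subgroup.commutator_eq_bot_iff_le_centralizer, hL]
    apply Subgroup.commutator_commutator_eq_bot_of_rotate
    · have h1 : ⁅Q, F⁆ = ⊥ := Subgroup.commutator_eq_bot_iff_le_centralizer.mpr hF3
      rw [h1, Subgroup.commutator_bot_left]
    · have h1 : ⁅F, Fs⁆ ≤ F :=
        Cfsg.Agent.Helper14.commutator_le_left_of_le_normalizer F Fs hF2
      have h2 : ⁅F, Q⁆ = ⊥ := Subgroup.commutator_eq_bot_iff_le_centralizer.mpr hFQ
      rw [eq_bot_iff, ← h2]
      exact Subgroup.commutator_mono h1 le_rfl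
  have hFL : F ≤ Subgroup.centralizer (L : Set H) := Subgroup.le_centralizer_iff.mp hLF
  -- part 1
  have hpart1 : F = Fs ⊓ Subgroup.centralizer ((L ⊔ Q : Subgroup H) : Set H) := by
    apply le_antisymm
    · apply le_inf hF1
      rw [Subgroup.le_centralizer_iff]
      exact sup_le hLF hF3
    · obtain ⟨C₁, hC₁⟩ : ∃ C₁ : Subgroup H,
          C₁ = Fs ⊓ Subgroup.centralizer ((L ⊔ Q : Subgroup H) : Set H) := ⟨_, rfl⟩
      rw [← hC₁]
      have hC₁Fs : C₁ ≤ Fs := by rw [hC₁]; exact inf_le_left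
      have hC₁L : C₁ ≤ Subgroup.centralizer (L : Set H) := by
        have hs : L ≤ L ⊔ Q := le_sup_left
        rw [hC₁]; exact inf_le_right.trans (Subgroup.centralizer_le hs)
      have hC₁Q : C₁ ≤ Subgroup.centralizer (Q : Set H) := by
        have hs : Q ≤ L ⊔ Q := le_sup_right
        rw [hC₁]; exact inf_le_right.trans (Subgroup.centralizer_le hs)
      apply hF4 C₁ hC₁Fs _ (Subgroup.le_centralizer_iff.mp hC₁Q)
      refine htop.trans (sup_le ?_ ?_)
      · exact (Subgroup.le_centralizer_iff.mp hC₁L).trans (Subgroup.centralizer_le_normalizer _)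
      · intro d hd
        obtain ⟨hdFs, hdQ⟩ := Subgroup.mem_inf.mp hd
        apply Cfsg.Agent.Helper9.mem_normalizer_of_conj_le
        intro c hc
        rw [hC₁]
        refine Subgroup.mem_inf.mpr ⟨mul_mem (mul_mem hdFs (hC₁Fs hc)) (inv_mem hdFs), ?_⟩
        apply Cfsg.Agent.Helper14.mem_centralizer_sup
        · exact Cfsg.Agent.Helper14.conj_mem_centralizer_of_mem_normalizer L d (hFsL hdFs) c
            (hC₁L hc)
        · exact mul_mem (mul_mem hdQ (hC₁Q hc)) (inv_mem hdQ)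
  have hZL : L ⊓ Subgroup.centralizer (Q : Set H) ≤ ⁅L, L⁆ := hZ0 L hLFs hLsn hQL hLQ
  -- part 3
  have hpart3 : L ⊓ F ≤ (frattini ↥L).map L.subtype := by
    intro x hx
    obtain ⟨hxL, hxF⟩ := Subgroup.mem_inf.mp hx
    refine ⟨⟨x, hxL⟩, ?_, rfl⟩
    have hxcomm : (⟨x, hxL⟩ : ↥L) ∈ commutator ↥L := by
      have h1 : x ∈ ⁅L, L⁆ := hZL (Subgroup.mem_inf.mpr ⟨hxL, hFQ hxF⟩)
      have h7 : (commutator ↥L).map L.subtype = ⁅L, L⁆ := by
        rw [commutator_def, Subgroup.map_commutator, ← MonoidHom.range_eq_map,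
          Subgroup.range_subtype]
      rw [← h7] at h1
      obtain ⟨y, hy, hyx⟩ := h1
      have e : y = ⟨x, hxL⟩ := Subtype.ext hyx
      rw [← e]; exact hy
    have hxcen : ∀ g : ↥L, g * ⟨x, hxL⟩ = ⟨x, hxL⟩ * g := by
      intro g
      apply Subtype.ext
      exact Subgroup.mem_centralizer_iff.mp (hFL hxF) g g.2
    have hcen : Subgroup.zpowers (⟨x, hxL⟩ : ↥L) ≤ Subgroup.center ↥L := by
      rw [Subgroup.zpowers_le]; exact Subgroup.mem_center_iff.mpr hxcen
    show (⟨x, hxL⟩ : ↥L) ∈ frattini ↥L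
    rw [frattini, Order.radical]
    simp only [Subgroup.mem_iInf]
    intro M hM
    have hM' : IsCoatom M := hM
    by_contra hxM
    have hMlt : M < M ⊔ Subgroup.zpowers (⟨x, hxL⟩ : ↥L) := by
      refine lt_of_le_of_ne le_sup_left (fun h => hxM ?_)
      rw [h]; exact Subgroup.mem_sup_right (Subgroup.mem_zpowers _)
    have hMtop : M ⊔ Subgroup.zpowers (⟨x, hxL⟩ : ↥L) = ⊤ := hM'.2 _ hMlt
    have hcomm0 : ⁅M, Subgroup.zpowers (⟨x, hxL⟩ : ↥L)⁆ = ⊥ := by
      rw [Subgroup.commutator_eq_bot_iff_le_centralizer]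
      intro m _
      rw [Subgroup.mem_centralizer_iff]
      intro z hz
      exact (Subgroup.mem_center_iff.mp (hcen hz) m).symm
    have hcommM : commutator ↥L ≤ M := by
      rw [commutator_def, Subgroup.commutator_le]
      intro a _ b _
      have ha : a ∈ M ⊔ Subgroup.zpowers (⟨x, hxL⟩ : ↥L) := by
        rw [hMtop]; exact Subgroup.mem_top a
      have hb : b ∈ M ⊔ Subgroup.zpowers (⟨x, hxL⟩ : ↥L) := by
        rw [hMtop]; exact Subgroup.mem_top b
      obtain ⟨m₁, hm₁, z₁, hz₁, rfl⟩ := Cfsg.Agent.Helper7.mem_sup_of_commutator_eq_bot hcomm0 ha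
      obtain ⟨m₂, hm₂, z₂, hz₂, rfl⟩ := Cfsg.Agent.Helper7.mem_sup_of_commutator_eq_bot hcomm0 hb
      rw [Cfsg.Agent.Helper7.commutatorElement_mul_center_left _ _ _ (hcen hz₁),
        Cfsg.Agent.Helper7.commutatorElement_mul_center_right _ _ _ (hcen hz₂),
        commutatorElement_def]
      exact M.mul_mem (M.mul_mem (M.mul_mem hm₁ hm₂) (M.inv_mem hm₁)) (M.inv_mem hm₂)
    exact hxM (hcommM hxcomm)
  -- part 4
  have hpart4 : ∀ B : Subgroup H, IsPGroup p ↥B → B ≤ Subgroup.normalizer (Q : Set H) →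
      ⁅L, B⁆ ≤ F → ⁅L, B⁆ = ⊥ := by
    intro B hB hBQ hLBF
    have hBL : B ≤ Subgroup.normalizer (L : Set H) := by
      intro b hb
      apply Cfsg.Agent.Helper9.mem_normalizer_of_conj_le
      intro l hl
      have h1 : (MulAut.conj b).toMonoidHom l ∈ L.map (MulAut.conj b).toMonoidHom := ⟨l, hl, rfl⟩
      rw [hL, Subgroup.map_commutator] at h1
      have h2 : Fs.map (MulAut.conj b).toMonoidHom ≤ Fs := by
        rintro _ ⟨u, hu, rfl⟩
        exact hFsn0.conj_mem u hu b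
      have h3 : Q.map (MulAut.conj b).toMonoidHom ≤ Q := by
        rintro _ ⟨u, hu, rfl⟩
        exact (Subgroup.mem_normalizer_iff.mp (hBQ hb) u).mp hu
      have h4 := Subgroup.commutator_mono h2 h3 h1
      rw [hL]
      exact h4
    have hLBL : ⁅L, B⁆ ≤ L := Cfsg.Agent.Helper14.commutator_le_left_of_le_normalizer L B hBL
    have h4 : ⁅⁅L, B⁆, L⁆ = ⊥ := by
      rw [Subgroup.commutator_eq_bot_iff_le_centralizer]
      exact hLBF.trans hFL
    have h5 : ⁅⁅B, L⁆, L⁆ = ⊥ := by rw [Subgroup.commutator_comm B L]; exact h4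
    have h6 : ⁅⁅L, L⁆, B⁆ = ⊥ := Subgroup.commutator_commutator_eq_bot_of_rotate h4 h5
    rw [Subgroup.commutator_eq_bot_iff_le_centralizer] at h6
    obtain ⟨Z, hZ⟩ : ∃ Z : Subgroup H, Z = L ⊓ Subgroup.centralizer (L : Set H) := ⟨_, rfl⟩
    have hZFs : Z ≤ Fs := by rw [hZ]; exact inf_le_left.trans hLFs
    have hZn : (Z.subgroupOf Fs).Normal := by
      apply Subgroup.normal_subgroupOf_of_le_normalizer
      intro g hg
      apply Cfsg.Agent.Helper9.mem_normalizer_of_conj_le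
      intro z hz
      rw [hZ] at hz ⊢
      obtain ⟨hz1, hz2⟩ := Subgroup.mem_inf.mp hz
      exact Subgroup.mem_inf.mpr ⟨(Subgroup.mem_normalizer_iff.mp (hFsL hg) z).mp hz1,
        Cfsg.Agent.Helper14.conj_mem_centralizer_of_mem_normalizer L g (hFsL hg) z hz2⟩
    have hZsn : Z.IsSubnormal :=
      Subgroup.IsSubnormal.trans hZFs hZn.isSubnormal hFsn0.isSubnormal
    have hZc : ∀ a ∈ Z, ∀ b ∈ Z, a * b = b * a := by
      intro a ha b hb
      rw [hZ] at ha hb
      exact Subgroup.mem_centralizer_iff.mp (Subgroup.mem_inf.mp hb).2 a (Subgroup.mem_inf.mp ha).1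
    rw [eq_bot_iff, Subgroup.commutator_le]
    intro l hl b hb
    rw [Subgroup.mem_bot]
    obtain ⟨c, hcdef⟩ : ∃ c : H, c = ⁅l, b⁆ := ⟨_, rfl⟩
    rw [← hcdef]
    have hcLB : c ∈ ⁅L, B⁆ := by rw [hcdef]; exact Subgroup.commutator_mem_commutator hl hb
    have hcF : c ∈ F := hLBF hcLB
    have hcL : c ∈ L := hLBL hcLB
    have hcLL : c ∈ ⁅L, L⁆ := hZL (Subgroup.mem_inf.mpr ⟨hcL, hFQ hcF⟩)
    have hcb : b * c = c * b := Subgroup.mem_centralizer_iff.mp (h6 hcLL) b hb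
    have hcZ : c ∈ Z := by rw [hZ]; exact Subgroup.mem_inf.mpr ⟨hcL, hFL hcF⟩
    obtain ⟨k, hk⟩ := hB ⟨b, hb⟩
    have hbk : b ^ p ^ k = 1 := by
      have h0 := congrArg Subtype.val hk
      exact h0
    have hc1 : c = l * b * l⁻¹ * b⁻¹ := by rw [hcdef, commutatorElement_def]
    have hpow : ∀ n : ℕ, l * b ^ n * l⁻¹ * (b ^ n)⁻¹ = c ^ n := by
      intro n
      induction n with
      | zero => simp
      | succ n ih =>
        have hcn : b * c ^ n = c ^ n * b := by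
          have hc' : Commute b c := hcb
          exact (hc'.pow_right n).eq
        calc l * b ^ (n + 1) * l⁻¹ * (b ^ (n + 1))⁻¹
            = (l * b * l⁻¹ * b⁻¹) * (b * (l * b ^ n * l⁻¹ * (b ^ n)⁻¹)) * b⁻¹ := by group
          _ = c * (b * c ^ n) * b⁻¹ := by rw [ih, ← hc1]
          _ = c * (c ^ n * b) * b⁻¹ := by rw [hcn]
          _ = c ^ (n + 1) := by group
    have hck : c ^ p ^ k = 1 := by
      rw [← hpow (p ^ k), hbk]; group
    exact eq_one_of_abelian_subnormal hO Z hZsn hZc c hcZ k hck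
  -- part 5
  have hpart5 : (Nat.card ↥(Subgroup.centralizer ((F ⊔ L : Subgroup H) : Set H))).Coprime p := by
    apply Nat.Coprime.symm
    rw [Nat.Prime.coprime_iff_not_dvd hp]
    intro hdvd
    obtain ⟨x, hx⟩ := exists_prime_orderOf_dvd_card'
      (G := ↥(Subgroup.centralizer ((F ⊔ L : Subgroup H) : Set H))) p hdvd
    obtain ⟨x₀, hx₀⟩ : ∃ x₀ : H, x₀ = (x : H) := ⟨_, rfl⟩
    have hx₀ord : orderOf x₀ = p := by rw [hx₀, Subgroup.orderOf_coe]; exact hx
    have hx₀C : x₀ ∈ Subgroup.centralizer ((F ⊔ L : Subgroup H) : Set H) := by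
      rw [hx₀]; exact x.2
    have hsF : F ≤ F ⊔ L := le_sup_left
    have hsL : L ≤ F ⊔ L := le_sup_right
    have hx₀F : x₀ ∈ Subgroup.centralizer (F : Set H) :=
      Subgroup.centralizer_le hsF hx₀C
    have hx₀L : x₀ ∈ Subgroup.centralizer (L : Set H) :=
      Subgroup.centralizer_le hsL hx₀C
    obtain ⟨Xz, hXz⟩ : ∃ Xz : Subgroup H, Xz = Subgroup.zpowers x₀ := ⟨_, rfl⟩
    have hXp : IsPGroup p ↥Xz := by
      rw [hXz]
      apply IsPGroup.of_card (n := 1)
      rw [Nat.card_zpowers, hx₀ord, pow_one]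
    have hXF : Xz ≤ Subgroup.centralizer (F : Set H) := by
      rw [hXz, Subgroup.zpowers_le]; exact hx₀F
    have hXL : Xz ≤ Subgroup.centralizer (L : Set H) := by
      rw [hXz, Subgroup.zpowers_le]; exact hx₀L
    have hFX : F ≤ Subgroup.centralizer (Xz : Set H) := Subgroup.le_centralizer_iff.mp hXF
    have hLX : L ≤ Subgroup.centralizer (Xz : Set H) := Subgroup.le_centralizer_iff.mp hXL
    obtain ⟨C, hC⟩ : ∃ C : Subgroup H, C = Fs ⊓ Subgroup.centralizer (L : Set H) := ⟨_, rfl⟩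
    have hCFs : C ≤ Fs := by rw [hC]; exact inf_le_left
    have hCconj : ∀ g : H, g ∈ Subgroup.normalizer (L : Set H) → ∀ c ∈ C, g * c * g⁻¹ ∈ C := by
      intro g hg c hc
      rw [hC] at hc ⊢
      obtain ⟨hc1, hc2⟩ := Subgroup.mem_inf.mp hc
      exact Subgroup.mem_inf.mpr ⟨hFsn0.conj_mem c hc1 g,
        Cfsg.Agent.Helper14.conj_mem_centralizer_of_mem_normalizer L g hg c hc2⟩
    have hCn : (C.subgroupOf Fs).Normal := by
      apply Subgroup.normal_subgroupOf_of_le_normalizer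
      intro g hg
      exact Cfsg.Agent.Helper9.mem_normalizer_of_conj_le C g (hCconj g (hFsL hg))
    have hCsn : C.IsSubnormal :=
      Subgroup.IsSubnormal.trans hCFs hCn.isSubnormal hFsn0.isSubnormal
    have hQC : Q ≤ Subgroup.normalizer (C : Set H) := fun q hq =>
      Cfsg.Agent.Helper9.mem_normalizer_of_conj_le C q (hCconj q (hQL hq))
    have hCdec := hsn0 Q hQ C hCFs hCsn hQC
    have hCX : C ≤ Subgroup.centralizer (Xz : Set H) := by
      refine hCdec.trans (sup_le ?_ ?_)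
      · have h1 : ⁅C, Q⁆ ≤ L := by rw [hL]; exact Subgroup.commutator_mono hCFs le_rfl
        exact h1.trans hLX
      · have h1 : C ⊓ Subgroup.centralizer (Q : Set H) ≤ F := by
          rw [hpart1, hC]
          intro u hu
          obtain ⟨hu1, hu2⟩ := Subgroup.mem_inf.mp hu
          obtain ⟨hu3, hu4⟩ := Subgroup.mem_inf.mp hu1
          exact Subgroup.mem_inf.mpr ⟨hu3,
            Cfsg.Agent.Helper14.mem_centralizer_sup L Q u hu4 hu2⟩
        exact h1.trans hFX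
    have hXFs : Xz ≤ Subgroup.normalizer (Fs : Set H) := fun g _ => hnormAll g
    have hFsX : ⁅Fs, Xz⁆ ≤ C := by
      rw [hC]
      apply le_inf (Cfsg.Agent.Helper14.commutator_le_left_of_le_normalizer Fs Xz hXFs)
      rw [← Subgroup.commutator_eq_bot_iff_le_centralizer]
      apply Subgroup.commutator_commutator_eq_bot_of_rotate
      · have h1 : ⁅Xz, L⁆ = ⊥ := Subgroup.commutator_eq_bot_iff_le_centralizer.mpr hXL
        rw [h1, Subgroup.commutator_bot_left]
      · have h1 : ⁅L, Fs⁆ ≤ L :=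
          Cfsg.Agent.Helper14.commutator_le_left_of_le_normalizer L Fs hFsL
        have h2 : ⁅L, Xz⁆ = ⊥ := Subgroup.commutator_eq_bot_iff_le_centralizer.mpr hLX
        rw [eq_bot_iff, ← h2]
        exact Subgroup.commutator_mono h1 le_rfl
    have h7 : ⁅⁅Fs, Xz⁆, Xz⁆ = ⊥ := by
      rw [eq_bot_iff]
      have h8 : ⁅C, Xz⁆ = ⊥ := Subgroup.commutator_eq_bot_iff_le_centralizer.mpr hCX
      rw [← h8]
      exact Subgroup.commutator_mono hFsX le_rfl
    have h9 : ⁅Fs, Xz⁆ = ⊥ := by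
      rw [eq_bot_iff, ← h7]
      exact comm_le_comm_comm Fs Xz (htopX Xz hXp)
    have h10 : Xz ≤ Subgroup.centralizer (Fs : Set H) :=
      Subgroup.le_centralizer_iff.mp (Subgroup.commutator_eq_bot_iff_le_centralizer.mp h9)
    have h11 := hben Xz hXp h10
    have h12 : x₀ ∈ Xz := by rw [hXz]; exact Subgroup.mem_zpowers x₀
    rw [h11, Subgroup.mem_bot] at h12
    rw [h12, orderOf_one] at hx₀ord
    exact hp.one_lt.ne hx₀ord
  exact ⟨hpart1, hLQ, hpart3, hpart4, hpart5⟩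

end Cfsg.Agent.S2817
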