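import Cfsg.Statements.S2818
import Cfsg.Agent.Helper14.Frattini

set_option autoImplicit false
open Cfsg

namespace Cfsg.Agent.S2818

open scoped commutatorElement

theorem omegaOne_center {G : Type*} [Group G] (p : ℕ) (P : Subgroup G) :
    ∀ z ∈ Cfsg.omegaOne p (P ⊓ Subgroup.centralizer (P : Set G)),
      z ∈ P ⊓ Subgroup.centralizer (P : Set G) ∧ z ^ p = 1 := by
  intro z hz
  unfold Cfsg.omegaOne at hz
  induction hz using Subgroup.closure_induction with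
  | mem z hz => exact hz
  | one => exact ⟨Subgroup.one_mem _, one_pow _⟩
  | mul x y _ _ ihx ihy =>
    refine ⟨Subgroup.mul_mem _ ihx.1 ihy.1, ?_⟩
    have hc : Commute x y := Subgroup.mem_centralizer_iff.mp ihy.1.2 x ihx.1.1
    rw [hc.mul_pow, ihx.2, ihy.2, one_mul]
  | inv x _ ihx =>
    exact ⟨Subgroup.inv_mem _ ihx.1, by rw [inv_pow, ihx.2, inv_one]⟩

/-- Let P be a finite p-subgroup of a group G and H a subgroup of N_G(P) with [P, H] ≤ Ω₁(Z(P)) (the elements of order dividing p in the centre of P). Then H centralizes the Frattini subgroup of P. -/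
theorem result {G : Type*} [Group G] [Finite G] {p : ℕ} [Fact p.Prime] (P : Subgroup G) (hP : IsPGroup p ↥P) (H : Subgroup G) (hH : H ≤ Subgroup.normalizer (P : Set G)) (h : ⁅P, H⁆ ≤ Cfsg.omegaOne p (P ⊓ Subgroup.centralizer (P : Set G))) : ⁅(frattini ↥P).map P.subtype, H⁆ = ⊥ := by
  rw [eq_bot_iff, Subgroup.commutator_le]
  rintro g ⟨x, hx, rfl⟩ k hk
  rw [Subgroup.mem_bot]
  have hZ : ∀ a : P, (a : G) * k * (a : G)⁻¹ * k⁻¹ ∈ P ⊓ Subgroup.centralizer (P : Set G) ∧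
      ((a : G) * k * (a : G)⁻¹ * k⁻¹) ^ p = 1 :=
    fun a => omegaOne_center p P _ (h (Subgroup.commutator_mem_commutator a.2 hk))
  have hcc : ∀ a b : P, ((a : G) * k * (a : G)⁻¹ * k⁻¹) * ((b : G) * k * (b : G)⁻¹ * k⁻¹) =
      ((b : G) * k * (b : G)⁻¹ * k⁻¹) * ((a : G) * k * (a : G)⁻¹ * k⁻¹) :=
    fun a b => Subgroup.mem_centralizer_iff.mp (hZ b).1.2 _ (hZ a).1.1
  let θ : P →* P := MonoidHom.mk' (fun a => ⟨(a : G) * k * (a : G)⁻¹ * k⁻¹, (hZ a).1.1⟩) (by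
    intro a b
    apply Subtype.ext
    show ((a : G) * (b : G)) * k * ((a : G) * (b : G))⁻¹ * k⁻¹ =
      ((a : G) * k * (a : G)⁻¹ * k⁻¹) * ((b : G) * k * (b : G)⁻¹ * k⁻¹)
    have hcb : (a : G) * ((b : G) * k * (b : G)⁻¹ * k⁻¹) = ((b : G) * k * (b : G)⁻¹ * k⁻¹) * (a : G) :=
      Subgroup.mem_centralizer_iff.mp (hZ b).1.2 (a : G) a.2
    calc ((a : G) * (b : G)) * k * ((a : G) * (b : G))⁻¹ * k⁻¹
        = ((a : G) * ((b : G) * k * (b : G)⁻¹ * k⁻¹)) * (k * (a : G)⁻¹ * k⁻¹) := by group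
      _ = (((b : G) * k * (b : G)⁻¹ * k⁻¹) * (a : G)) * (k * (a : G)⁻¹ * k⁻¹) := by rw [hcb]
      _ = ((b : G) * k * (b : G)⁻¹ * k⁻¹) * ((a : G) * k * (a : G)⁻¹ * k⁻¹) := by group
      _ = _ := (hcc a b).symm)
  have hker := Helper14.frattini_le_ker_of_elementary (p := p) θ
    (fun a b => Subtype.ext (hcc a b)) (fun a => Subtype.ext (hZ a).2) hx
  exact congrArg Subtype.val (MonoidHom.mem_ker.mp hker)

end Cfsg.Agent.S2818
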