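-- Statement S2819: O^p of the normal closure of Y centralizes the Frattini subgroup of P.
import Cfsg.Statements.S2819
import Cfsg.Agent.Helper14.Frattini
import Cfsg.Agent.Helper14.Coprime
import Cfsg.Agent.Helper14.Conj

set_option autoImplicit false
open Cfsg

namespace Cfsg.Agent.S2819

open Cfsg.Agent.Helper14

theorem comm_aux {A : Type*} [CommGroup A] (u v w : A) : u * v * u⁻¹ * w = w * v := by
  rw [mul_comm u v, mul_assoc v u u⁻¹, mul_inv_cancel, mul_one, mul_comm]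

theorem inv_comm_of_comm {G : Type*} [Group G] (w a : G) (h : w * a = a * w) :
    a⁻¹ * w⁻¹ * a = w⁻¹ := by
  have : w⁻¹ * a = a * w⁻¹ := by
    calc w⁻¹ * a = w⁻¹ * (a * w) * w⁻¹ := by group
      _ = w⁻¹ * (w * a) * w⁻¹ := by rw [h]
      _ = a * w⁻¹ := by group
  rw [mul_assoc, this, ← mul_assoc, inv_mul_cancel, one_mul]

theorem conj_mem_comm {G : Type*} [Group G] (P : Subgroup G) (h : G)
    (hh : h ∈ Subgroup.normalizer (P : Set G)) (c : G) (hc : c ∈ ⁅P, P⁆) :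
    h * c * h⁻¹ ∈ ⁅P, P⁆ := by
  have e0 : P.map (MulAut.conj h).toMonoidHom = P :=
    Subgroup.mem_normalizer_iff_map_conj_eq.mp hh
  have e : (⁅P, P⁆).map (MulAut.conj h).toMonoidHom = ⁅P, P⁆ := by
    rw [Subgroup.map_commutator, e0]
  rw [← e]
  exact conj_mem_map_conj _ h hc

/-- If `y` normalizes `P` and all commutators `[x, y]`, `x ∈ P`, have `p`-th power `1`,
then `[Φ(P), y] ≤ P'`. -/
theorem frattini_comm_le {G : Type*} [Group G] [Finite G] {p : ℕ} [Fact p.Prime] (P : Subgroup G)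
    (y : G) (hy : y ∈ Subgroup.normalizer (P : Set G))
    (hpow : ∀ x ∈ P, (x * y * x⁻¹ * y⁻¹) ^ p = 1) :
    ∀ f ∈ (frattini ↥P).map P.subtype, f * y * f⁻¹ * y⁻¹ ∈ ⁅P, P⁆ := by
  have hmem : ∀ x ∈ P, x * y * x⁻¹ * y⁻¹ ∈ P := by
    intro x hx
    have h1 : y * x⁻¹ * y⁻¹ ∈ P := (Subgroup.mem_normalizer_iff.mp hy x⁻¹).mp (P.inv_mem hx)
    have : x * y * x⁻¹ * y⁻¹ = x * (y * x⁻¹ * y⁻¹) := by group
    rw [this]
    exact P.mul_mem hx h1
  let θ : ↥P →* Abelianization ↥P := MonoidHom.mk'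
    (fun x => Abelianization.of ⟨(x : G) * y * (x : G)⁻¹ * y⁻¹, hmem x x.2⟩) (by
      intro a b
      have e : (⟨((a * b : ↥P) : G) * y * ((a * b : ↥P) : G)⁻¹ * y⁻¹, hmem _ (a * b).2⟩ : ↥P) =
          a * ⟨(b : G) * y * (b : G)⁻¹ * y⁻¹, hmem b b.2⟩ * a⁻¹ *
            ⟨(a : G) * y * (a : G)⁻¹ * y⁻¹, hmem a a.2⟩ := by
        apply Subtype.ext
        show ((a : G) * b) * y * ((a : G) * b)⁻¹ * y⁻¹ =
          (a : G) * ((b : G) * y * (b : G)⁻¹ * y⁻¹) * (a : G)⁻¹ * ((a : G) * y * (a : G)⁻¹ * y⁻¹)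
        group
      show Abelianization.of
          (⟨((a * b : ↥P) : G) * y * ((a * b : ↥P) : G)⁻¹ * y⁻¹, hmem _ (a * b).2⟩ : ↥P) =
        Abelianization.of (⟨(a : G) * y * (a : G)⁻¹ * y⁻¹, hmem a a.2⟩ : ↥P) *
          Abelianization.of (⟨(b : G) * y * (b : G)⁻¹ * y⁻¹, hmem b b.2⟩ : ↥P)
      rw [e, map_mul, map_mul, map_mul, map_inv, comm_aux])
  have hθ : ∀ x : ↥P, θ x = Abelianization.of ⟨(x : G) * y * (x : G)⁻¹ * y⁻¹, hmem x x.2⟩ :=
    fun x => rfl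
  have hker := frattini_le_ker_of_elementary (p := p) θ (fun a b => mul_comm _ _) (by
    intro a
    rw [hθ, ← map_pow]
    have : (⟨(a : G) * y * (a : G)⁻¹ * y⁻¹, hmem a a.2⟩ : ↥P) ^ p = 1 :=
      Subtype.ext (hpow a a.2)
    rw [this, map_one])
  rintro f ⟨f', hf', rfl⟩
  have h1 : θ f' = 1 := MonoidHom.mem_ker.mp (hker hf')
  rw [hθ] at h1
  have h2 : (⟨(f' : G) * y * (f' : G)⁻¹ * y⁻¹, hmem f' f'.2⟩ : ↥P) ∈
      (Abelianization.of : ↥P →* Abelianization ↥P).ker := MonoidHom.mem_ker.mpr h1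
  rw [Abelianization.ker_of] at h2
  rw [← Subgroup.map_subtype_commutator]
  exact ⟨_, h2, rfl⟩

/-- The elements centralizing `P'` and satisfying `[F, g] ≤ P'`. -/
def stab {G : Type*} [Group G] (P F : Subgroup G) : Subgroup G where
  carrier := {g | g ∈ Subgroup.centralizer ((⁅P, P⁆ : Subgroup G) : Set G) ∧
    ∀ f ∈ F, f * g * f⁻¹ * g⁻¹ ∈ ⁅P, P⁆}
  mul_mem' := by
    rintro a b ⟨ha1, ha2⟩ ⟨hb1, hb2⟩
    refine ⟨mul_mem ha1 hb1, fun f hf => ?_⟩
    have h1 := ha2 f hf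
    have h2 := hb2 f hf
    have h3 : (f * b * f⁻¹ * b⁻¹) * a = a * (f * b * f⁻¹ * b⁻¹) :=
      (Subgroup.mem_centralizer_iff.mp ha1) _ h2
    have e : f * (a * b) * f⁻¹ * (a * b)⁻¹ =
        (f * a * f⁻¹ * a⁻¹) * (a * (f * b * f⁻¹ * b⁻¹) * a⁻¹) := by group
    rw [e, ← h3]
    have e2 : f * b * f⁻¹ * b⁻¹ * a * a⁻¹ = f * b * f⁻¹ * b⁻¹ := by group
    rw [e2]
    exact mul_mem h1 h2
  one_mem' := ⟨one_mem _, fun f _ => by
    have : f * 1 * f⁻¹ * (1 : G)⁻¹ = 1 := by group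
    rw [this]; exact one_mem _⟩
  inv_mem' := by
    rintro a ⟨ha1, ha2⟩
    refine ⟨inv_mem ha1, fun f hf => ?_⟩
    have h1 := ha2 f hf
    have h3 : (f * a * f⁻¹ * a⁻¹) * a = a * (f * a * f⁻¹ * a⁻¹) :=
      (Subgroup.mem_centralizer_iff.mp ha1) _ h1
    have e : f * a⁻¹ * f⁻¹ * a⁻¹⁻¹ = a⁻¹ * (f * a * f⁻¹ * a⁻¹)⁻¹ * a := by group
    rw [e, inv_comm_of_comm _ _ h3]
    exact inv_mem h1

theorem mem_stab {G : Type*} [Group G] (P F : Subgroup G) (g : G) :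
    g ∈ stab P F ↔ g ∈ Subgroup.centralizer ((⁅P, P⁆ : Subgroup G) : Set G) ∧
      ∀ f ∈ F, f * g * f⁻¹ * g⁻¹ ∈ ⁅P, P⁆ := Iff.rfl

/-- Let P be a finite p-subgroup of a group G, H a subgroup of N_G(P), and Y a subgroup of H centralizing the derived subgroup P' such that [P, Y] is elementary abelian. Then O^p(⟨Y^H⟩), the subgroup of the normal closure of Y in H generated by its elements of order prime to p, centralizes the Frattini subgroup of P. -/
theorem result {G : Type*} [Group G] [Finite G] {p : ℕ} [Fact p.Prime] (P : Subgroup G) (hP : IsPGroup p ↥P) (H : Subgroup G) (hH : H ≤ Subgroup.normalizer (P : Set G)) (Y : Subgroup G) (hYH : Y ≤ H) (hYc : Y ≤ Subgroup.centralizer ((⁅P, P⁆ : Subgroup G) : Set G)) (hel : Cfsg.IsElementaryAbelian p ⁅P, Y⁆) (NY : Subgroup G) (hNY : NY = (Subgroup.normalClosure ((Y.subgroupOf H : Subgroup ↥H) : Set ↥H)).map H.subtype) : (Cfsg.pResidual p ↥NY).map NY.subtype ≤ Subgroup.centralizer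 (((frattini ↥P).map P.subtype : Subgroup G) : Set G) := by
  have hP'P : ⁅P, P⁆ ≤ P := by
    rw [Subgroup.commutator_le]
    intro a ha b hb
    exact P.mul_mem (P.mul_mem (P.mul_mem ha hb) (P.inv_mem ha)) (P.inv_mem hb)
  have hFP : (frattini ↥P).map P.subtype ≤ P := Subgroup.map_subtype_le _
  -- conjugates of elements of Y lie in stab
  have hconj : ∀ y ∈ Y, ∀ h ∈ H, h * y * h⁻¹ ∈ stab P ((frattini ↥P).map P.subtype) := by
    intro y hy h hh
    have hhN : h ∈ Subgroup.normalizer (P : Set G) := hH hh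
    have hhN' : h⁻¹ ∈ Subgroup.normalizer (P : Set G) := inv_mem hhN
    have hyN : y ∈ Subgroup.normalizer (P : Set G) := hH (hYH hy)
    rw [mem_stab]
    constructor
    · rw [Subgroup.mem_centralizer_iff]
      intro c hc
      have h1 : h⁻¹ * c * h ∈ ⁅P, P⁆ := by
        have := conj_mem_comm P h⁻¹ hhN' c hc
        rwa [inv_inv] at this
      have h2 : (h⁻¹ * c * h) * y = y * (h⁻¹ * c * h) :=
        (Subgroup.mem_centralizer_iff.mp (hYc hy)) _ h1
      calc c * (h * y * h⁻¹) = h * ((h⁻¹ * c * h) * y) * h⁻¹ := by group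
        _ = h * (y * (h⁻¹ * c * h)) * h⁻¹ := by rw [h2]
        _ = h * y * h⁻¹ * c := by group
    · apply frattini_comm_le (p := p) P (h * y * h⁻¹)
        (mul_mem (mul_mem hhN hyN) hhN')
      intro x hx
      have hx0 : h⁻¹ * x * h ∈ P := by
        have := (Subgroup.mem_normalizer_iff.mp hhN' x).mp hx
        rwa [inv_inv] at this
      have hw : (h⁻¹ * x * h) * y * (h⁻¹ * x * h)⁻¹ * y⁻¹ ∈ ⁅P, Y⁆ :=
        Subgroup.commutator_mem_commutator hx0 hy
      have hwp := hel.2 _ hw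
      have e : x * (h * y * h⁻¹) * x⁻¹ * (h * y * h⁻¹)⁻¹ =
          h * ((h⁻¹ * x * h) * y * (h⁻¹ * x * h)⁻¹ * y⁻¹) * h⁻¹ := by group
      rw [e, conj_pow, hwp, mul_one, mul_inv_cancel]
  have hNYle : NY ≤ stab P ((frattini ↥P).map P.subtype) := by
    rw [hNY, Subgroup.map_le_iff_le_comap]
    show Subgroup.closure (Group.conjugatesOfSet _) ≤ _
    rw [Subgroup.closure_le]
    intro g hg
    rw [Group.mem_conjugatesOfSet_iff] at hg
    obtain ⟨y, hy, hc⟩ := hg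
    rw [isConj_iff] at hc
    obtain ⟨c, rfl⟩ := hc
    show ((c : G) * (y : G) * (c : G)⁻¹) ∈ stab P ((frattini ↥P).map P.subtype)
    exact hconj _ (Subgroup.mem_subgroupOf.mp hy) _ c.2
  rw [Subgroup.map_le_iff_le_comap]
  unfold pResidual
  rw [Subgroup.closure_le]
  intro z hz
  have hzc : Nat.Coprime (orderOf z) p := hz
  show (z : G) ∈ Subgroup.centralizer (((frattini ↥P).map P.subtype : Subgroup G) : Set G)
  rw [Subgroup.mem_centralizer_iff]
  intro f hf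
  have hzm : (z : G) ^ orderOf z = 1 := congrArg Subtype.val (pow_orderOf_eq_one z)
  obtain ⟨hz1, hz2⟩ := (mem_stab _ _ _).mp (hNYle z.2)
  have hw := hz2 f hf
  exact commute_of_coprime_of_comm_central P hP (z : G) (orderOf z) hzc hzm f (hFP hf)
    (hP'P hw) ((Subgroup.mem_centralizer_iff.mp hz1) _ hw)

end Cfsg.Agent.S2819
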