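import Cfsg.Statements.S2820
import Cfsg.Agent.Helper14.Subnormal

set_option autoImplicit false
open Cfsg

namespace Cfsg.Agent.S2820

open Cfsg.Agent.Helper14

/-- Let A and B be subnormal subgroups of the finite group H with A a p-group and B = O^p(B) (B generated by its elements of order prime to p). Then A normalizes B and B = O^p(AB), the subgroup of ⟨A, B⟩ generated by its elements of order prime to p. -/
theorem result {H : Type*} [Group H] [Finite H] {p : ℕ} [Fact p.Prime] (A B : Subgroup H) (hA : A.IsSubnormal) (hB : B.IsSubnormal) (hAp : IsPGroup p ↥A) (hBres : (Cfsg.pResidual p ↥B).map B.subtype = B) : A ≤ Subgroup.normalizer (B : Set H) ∧ (Cfsg.pResidual p ↥(A ⊔ B)).map (A ⊔ B).subtype = B := by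
  have hBc : resC p B = B := by rw [resC_eq]; exact hBres
  have h1 : A ≤ Subgroup.normalizer (B : Set H) := by
    have h := (subnormal_pgroup_le_pCore A hA hAp).trans (pCore_le_normalizer_resC p B hB)
    rw [hBc] at h
    exact h
  refine ⟨h1, ?_⟩
  rw [← resC_eq]
  apply le_antisymm
  · unfold resC
    rw [Subgroup.closure_le]
    rintro y ⟨hyAB, hy⟩
    have hy' : y ∈ B ⊔ A := by rw [sup_comm]; exact hyAB
    exact mem_of_coprime_of_mem_sup_normalizer B A h1 hAp y hy' (orderOf y) hy
      (pow_orderOf_eq_one y)
  · calc B = resC p B := hBc.symm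
      _ ≤ resC p (A ⊔ B) := resC_mono p le_sup_right

end Cfsg.Agent.S2820
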