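-- S2823: Z_L = Ω₁(Z(L)) [Z_L, O^p(L)] and [Z_L, L] = [Z_L, O^p(L)] (averaging over L/S).
import Mathlib
import Cfsg.Statements.S2823
import Cfsg.Agent.Helper9.SylowCenter
import Cfsg.Agent.S1941

set_option autoImplicit false
open Cfsg
open scoped commutatorElement

namespace Cfsg.Agent.S2823

/-- Let H be a finite group, p a prime, T a Sylow p-subgroup and L a subgroup of characteristic p containing T; let Z_L be the subgroup generated by the Ω₁(Z(S)) over the Sylow p-subgroups S of L and O^p(L) the subgroup generated by the elements of L of order prime to p. Then Z_L = Ω₁(Z(L))·[Z_L, O^p(L)] and [Z_L, L] = [Z_L, O^p(L)]. -/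
theorem result {H : Type*} [Group H] [Finite H] {p : ℕ} [Fact p.Prime] (T : Sylow p H) (L : Subgroup H) (hTL : (T : Subgroup H) ≤ L) (hL : Subgroup.centralizer (Cfsg.pCore p ↥L : Set ↥L) ≤ Cfsg.pCore p ↥L) : Cfsg.sylowCenterClosure p L = (Cfsg.omegaOne p (L ⊓ Subgroup.centralizer ((L : Subgroup H) : Set H))) ⊔ ⁅Cfsg.sylowCenterClosure p L, (Cfsg.pResidual p ↥L).map L.subtype⁆ ∧ ⁅Cfsg.sylowCenterClosure p L, L⁆ = ⁅Cfsg.sylowCenterClosure p L, (Cfsg.pResidual p ↥L).map L.subtype⁆ := by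
  classical
  have hZY := Cfsg.Agent.Helper9.sylowCenterClosure_le_largestPReducedOf L hL
  have hY := Cfsg.Agent.Helper9.relRed_largestPReducedOf (p := p) L
  have hZconj := Cfsg.Agent.Helper9.sylowCenterClosure_conj (p := p) L
  have hZT := Cfsg.Agent.Helper9.omegaOne_center_sylow_le T L hTL
  have hZgen : ∀ B : Subgroup H, (∀ S : Sylow p ↥L, ∀ z : ↥L, z ∈ (S : Subgroup ↥L) →
      (∀ s ∈ (S : Subgroup ↥L), s * z = z * s) → z ^ p = 1 → (z : H) ∈ B) →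
      Cfsg.sylowCenterClosure p L ≤ B :=
    fun B h => Cfsg.Agent.Helper9.sylowCenterClosure_le_of L B h
  have hZmem : ∀ (S : Sylow p ↥L) (z : ↥L), z ∈ (S : Subgroup ↥L) →
      (∀ s ∈ (S : Subgroup ↥L), s * z = z * s) → z ^ p = 1 →
      (z : H) ∈ Cfsg.sylowCenterClosure p L :=
    fun S z h1 h2 h3 => Cfsg.Agent.Helper9.mem_sylowCenterClosure L S z h1 h2 h3
  generalize Cfsg.sylowCenterClosure p L = Z at hZY hZconj hZT hZgen hZmem ⊢
  have hZL : Z ≤ L := hZY.trans hY.1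
  have hZc : ∀ a ∈ Z, ∀ b ∈ Z, a * b = b * a :=
    fun a ha b hb => hY.2.2.1 a (hZY ha) b (hZY hb)
  have hZp : ∀ a ∈ Z, a ^ p = 1 := fun a ha => hY.2.2.2.1 a (hZY ha)
  obtain ⟨A, hAdef⟩ : ∃ A : Subgroup H, A = (Cfsg.pResidual p ↥L).map L.subtype := ⟨_, rfl⟩
  rw [← hAdef]
  have hAL : A ≤ L := by rw [hAdef]; rintro _ ⟨x, -, rfl⟩; exact x.2
  have hAconj : ∀ l ∈ L, ∀ a ∈ A, l * a * l⁻¹ ∈ A := by
    intro l hl a ha
    rw [hAdef] at ha ⊢
    obtain ⟨a', ha', rfl⟩ := ha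
    have hn := Cfsg.Agent.Helper6.pResidual_normal p ↥L
    exact ⟨(⟨l, hl⟩ : ↥L) * a' * (⟨l, hl⟩ : ↥L)⁻¹, hn.conj_mem a' ha' ⟨l, hl⟩, rfl⟩
  obtain ⟨W, hWdef⟩ : ∃ W : Subgroup H, W = ⁅Z, A⁆ := ⟨_, rfl⟩
  rw [← hWdef]
  have hWZ : W ≤ Z := by
    rw [hWdef, Subgroup.commutator_le]
    intro z hz a ha
    have h1 := hZconj a (hAL ha) z⁻¹ (inv_mem hz)
    have h2 : ⁅z, a⁆ = z * (a * z⁻¹ * a⁻¹) := by rw [commutatorElement_def]; group
    rw [h2]; exact mul_mem hz h1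
  have hWconj : ∀ l ∈ L, ∀ w ∈ W, l * w * l⁻¹ ∈ W := by
    intro l hl w hw
    have h1 : (MulAut.conj l).toMonoidHom w ∈ W.map (MulAut.conj l).toMonoidHom := ⟨w, hw, rfl⟩
    rw [hWdef, Subgroup.map_commutator] at h1
    have h2 : Z.map (MulAut.conj l).toMonoidHom ≤ Z := by
      rintro _ ⟨y, hy, rfl⟩
      exact hZconj l hl y hy
    have h3 : A.map (MulAut.conj l).toMonoidHom ≤ A := by
      rintro _ ⟨y, hy, rfl⟩
      exact hAconj l hl y hy
    have h4 := Subgroup.commutator_mono h2 h3 h1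
    rw [hWdef]
    exact h4
  have hcomm : ∀ z ∈ Z, ∀ l ∈ L, z * l * z⁻¹ * l⁻¹ ∈ W := by
    obtain ⟨B, hB⟩ : ∃ B : Subgroup H, ∀ z, z ∈ B ↔
        (z ∈ Z ∧ ∀ l ∈ L, z * l * z⁻¹ * l⁻¹ ∈ W) := by
      refine ⟨{ carrier := {z | z ∈ Z ∧ ∀ l ∈ L, z * l * z⁻¹ * l⁻¹ ∈ W}
                mul_mem' := ?_
                one_mem' := ⟨one_mem _, fun l _ => by
                  have h : (1 : H) * l * (1 : H)⁻¹ * l⁻¹ = 1 := by group
                  rw [h]; exact one_mem _⟩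
                inv_mem' := ?_ }, fun _ => Iff.rfl⟩
      · rintro a b ⟨ha1, ha2⟩ ⟨hb1, hb2⟩
        refine ⟨mul_mem ha1 hb1, fun l hl => ?_⟩
        have h : a * b * l * (a * b)⁻¹ * l⁻¹
            = (a * (b * l * b⁻¹ * l⁻¹) * a⁻¹) * (a * l * a⁻¹ * l⁻¹) := by group
        rw [h]
        exact mul_mem (hWconj a (hZL ha1) _ (hb2 l hl)) (ha2 l hl)
      · rintro a ⟨ha1, ha2⟩
        refine ⟨inv_mem ha1, fun l hl => ?_⟩
        have h : a⁻¹ * l * a⁻¹⁻¹ * l⁻¹ = a⁻¹ * (a * l * a⁻¹ * l⁻¹)⁻¹ * a⁻¹⁻¹ := by group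
        rw [h]
        exact hWconj a⁻¹ (inv_mem (hZL ha1)) _ (inv_mem (ha2 l hl))
    have hZB : Z ≤ B := by
      apply hZgen
      intro S z hzS hcommS hpow
      rw [hB]
      refine ⟨hZmem S z hzS hcommS hpow, fun l hl => ?_⟩
      obtain ⟨x, hx, y, hy, hxy⟩ :=
        Cfsg.Agent.Helper9.exists_mul_pResidual_sylow S (⟨l, hl⟩ : ↥L)
      have hl0 := congrArg Subtype.val hxy
      have hl' : l = (x : H) * (y : H) := hl0
      have hyz0 := congrArg Subtype.val (hcommS y hy)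
      have hyz : (y : H) * (z : H) = (z : H) * (y : H) := hyz0
      have hxA : (x : H) ∈ A := by rw [hAdef]; exact ⟨x, hx, rfl⟩
      rw [hl']
      have h : (z : H) * ((x : H) * (y : H)) * (z : H)⁻¹ * ((x : H) * (y : H))⁻¹
          = (z : H) * (x : H) * (z : H)⁻¹ * (x : H)⁻¹ := by
        have h1 : (y : H) * (z : H)⁻¹ = (z : H)⁻¹ * (y : H) := by
          calc (y : H) * (z : H)⁻¹ = (z : H)⁻¹ * ((z : H) * (y : H)) * (z : H)⁻¹ := by group
            _ = (z : H)⁻¹ * ((y : H) * (z : H)) * (z : H)⁻¹ := by rw [hyz]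
            _ = (z : H)⁻¹ * (y : H) := by group
        calc (z : H) * ((x : H) * (y : H)) * (z : H)⁻¹ * ((x : H) * (y : H))⁻¹
            = (z : H) * (x : H) * ((y : H) * (z : H)⁻¹) * (y : H)⁻¹ * (x : H)⁻¹ := by group
          _ = (z : H) * (x : H) * ((z : H)⁻¹ * (y : H)) * (y : H)⁻¹ * (x : H)⁻¹ := by rw [h1]
          _ = (z : H) * (x : H) * (z : H)⁻¹ * (x : H)⁻¹ := by group
      rw [h, hWdef]
      exact Subgroup.commutator_mem_commutator (hZmem S z hzS hcommS hpow) hxA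
    intro z hz
    exact ((hB z).mp (hZB hz)).2
  have hiL : ⁅Z, L⁆ = W := by
    apply le_antisymm
    · rw [Subgroup.commutator_le]
      intro z hz l hl
      exact hcomm z hz l hl
    · rw [hWdef]; exact Subgroup.commutator_mono le_rfl hAL
  obtain ⟨Ω, hΩdef⟩ : ∃ Ω : Subgroup H,
      Ω = Cfsg.omegaOne p (L ⊓ Subgroup.centralizer ((L : Subgroup H) : Set H)) := ⟨_, rfl⟩
  rw [← hΩdef]
  have hΩmem : ∀ u : H, u ∈ L → (∀ l ∈ L, l * u = u * l) → u ^ p = 1 → u ∈ Ω := by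
    intro u hu hc hup
    rw [hΩdef]
    unfold Cfsg.omegaOne
    exact Subgroup.subset_closure
      ⟨Subgroup.mem_inf.mpr ⟨hu, Subgroup.mem_centralizer_iff.mpr hc⟩, hup⟩
  have hΩZ : Ω ≤ Z := by
    rw [hΩdef]
    unfold Cfsg.omegaOne
    rw [Subgroup.closure_le]
    intro z hz
    have hz' : z ∈ L ⊓ Subgroup.centralizer ((L : Subgroup H) : Set H) ∧ z ^ p = 1 := hz
    obtain ⟨hz1, hz3⟩ := hz'
    obtain ⟨hzL, hzC⟩ := Subgroup.mem_inf.mp hz1
    have hzcomm : ∀ l ∈ L, l * z = z * l := Subgroup.mem_centralizer_iff.mp hzC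
    have hzpw : Subgroup.zpowers z ≤ (T : Subgroup H) := by
      apply Cfsg.Agent.Helper9.normalized_pgroup_le_sylow T L (Subgroup.zpowers z) hTL
      · rw [Subgroup.zpowers_le]; exact hzL
      · intro l hl v hv
        obtain ⟨k, rfl⟩ := Subgroup.mem_zpowers_iff.mp hv
        have h0 : Commute l z := hzcomm l hl
        have h1 : Commute l (z ^ k) := Commute.zpow_right h0 k
        have h2 : l * z ^ k * l⁻¹ = z ^ k := by rw [h1.eq]; group
        rw [h2]; exact hv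
      · intro v hv
        obtain ⟨k, rfl⟩ := Subgroup.mem_zpowers_iff.mp hv
        refine ⟨1, ?_⟩
        rw [pow_one, ← zpow_natCast, zpow_comm, zpow_natCast, hz3, one_zpow]
    have hzT : z ∈ (T : Subgroup H) := hzpw (Subgroup.mem_zpowers z)
    apply hZT
    unfold Cfsg.omegaOne
    apply Subgroup.subset_closure
    refine ⟨Subgroup.mem_inf.mpr ⟨hzT, ?_⟩, hz3⟩
    rw [Subgroup.mem_centralizer_iff]
    intro t ht
    exact hzcomm t (hTL ht)
  refine ⟨?_, hiL⟩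
  apply le_antisymm
  · apply hZgen
    intro S z hzS hcommS hpow
    have hzZ : (z : H) ∈ Z := hZmem S z hzS hcommS hpow
    haveI hW'n : (W.subgroupOf L).Normal := ⟨fun n hn g => hWconj g.1 g.2 n.1 hn⟩
    letI : CommGroup ↥(W.subgroupOf L) :=
      { (inferInstance : Group ↥(W.subgroupOf L)) with
        mul_comm := fun a b =>
          Subtype.ext (Subtype.ext (hZc a.1.1 (hWZ a.2) b.1.1 (hWZ b.2))) }
    have hFmem : ∀ g : ↥L, g * z * g⁻¹ * z⁻¹ ∈ W.subgroupOf L := by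
      intro g
      show (g : H) * (z : H) * (g : H)⁻¹ * (z : H)⁻¹ ∈ W
      have h1 := hcomm (z : H) hzZ (g : H) g.2
      have h2 : (g : H) * (z : H) * (g : H)⁻¹ * (z : H)⁻¹
          = ((z : H) * (g : H) * (z : H)⁻¹ * (g : H)⁻¹)⁻¹ := by group
      rw [h2]; exact inv_mem h1
    let F : ↥L → ↥(W.subgroupOf L) := fun g => ⟨g * z * g⁻¹ * z⁻¹, hFmem g⟩
    have hFT : ∀ g : ↥L, ∀ t ∈ (S : Subgroup ↥L), F (g * t) = F g := by
      intro g t ht
      apply Subtype.ext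
      show (g * t) * z * (g * t)⁻¹ * z⁻¹ = g * z * g⁻¹ * z⁻¹
      have htz : t * z = z * t := hcommS t ht
      have h1 : (g * t) * z * (g * t)⁻¹ * z⁻¹ = g * (t * z) * t⁻¹ * g⁻¹ * z⁻¹ := by group
      rw [h1, htz]; group
    have hFmul : ∀ x g : ↥L, F (x * g) =
        F x * (MulAut.conjNormal : ↥L →* MulAut ↥(W.subgroupOf L)) x (F g) := by
      intro x g
      apply Subtype.ext
      have ha : ((x * z * x⁻¹ * z⁻¹ : ↥L) : H) ∈ Z := hWZ (hFmem x)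
      have hb : ((x * (g * z * g⁻¹ * z⁻¹) * x⁻¹ : ↥L) : H) ∈ Z :=
        hWZ (hW'n.conj_mem _ (hFmem g) x)
      have hab : (x * z * x⁻¹ * z⁻¹) * (x * (g * z * g⁻¹ * z⁻¹) * x⁻¹)
          = (x * (g * z * g⁻¹ * z⁻¹) * x⁻¹) * (x * z * x⁻¹ * z⁻¹) :=
        Subtype.ext (hZc _ ha _ hb)
      show (x * g) * z * (x * g)⁻¹ * z⁻¹
        = (x * z * x⁻¹ * z⁻¹) * (x * (g * z * g⁻¹ * z⁻¹) * x⁻¹)
      rw [hab]
      group
    obtain ⟨s, hs⟩ := Cfsg.Agent.S1941.avgAbs (S : Subgroup ↥L)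
      (MulAut.conjNormal : ↥L →* MulAut ↥(W.subgroupOf L)) F hFT hFmul
    obtain ⟨n, hn⟩ : ∃ n : ℕ, n = (S : Subgroup ↥L).index := ⟨_, rfl⟩
    rw [← hn] at hs
    have hnp : ¬ p ∣ n := by rw [hn]; exact S.not_dvd_index
    obtain ⟨s0, hs0def⟩ : ∃ s0 : H, s0 = ((s : ↥L) : H) := ⟨_, rfl⟩
    have hs0W : s0 ∈ W := by rw [hs0def]; exact s.2
    have hrel : ∀ x ∈ L, s0 = (x * (z : H) * x⁻¹ * (z : H)⁻¹) ^ n * (x * s0 * x⁻¹) := by
      intro x hx
      have h := congrArg Subtype.val (congrArg Subtype.val (hs ⟨x, hx⟩))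
      rw [hs0def]
      exact h
    have hs0Z : s0 ∈ Z := hWZ hs0W
    have hucent : ∀ x ∈ L, x * ((z : H) ^ n * s0) = ((z : H) ^ n * s0) * x := by
      intro x hx
      have hrel' := hrel x hx
      have haZ : x * (z : H) * x⁻¹ ∈ Z := hZconj x hx _ hzZ
      have hcomm1 : Commute (x * (z : H) * x⁻¹) ((z : H)⁻¹) := hZc _ haZ _ (inv_mem hzZ)
      rw [hcomm1.mul_pow, inv_pow, conj_pow] at hrel'
      have hcomm2 : (x * (z : H) ^ n * x⁻¹) * (z : H) ^ n = (z : H) ^ n * (x * (z : H) ^ n * x⁻¹) :=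
        hZc _ (hZconj x hx _ (pow_mem hzZ n)) _ (pow_mem hzZ n)
      obtain ⟨Zn, hZn⟩ : ∃ Zn : H, Zn = (z : H) ^ n := ⟨_, rfl⟩
      rw [← hZn] at hcomm2 hrel' ⊢
      obtain ⟨An, hAn⟩ : ∃ An : H, An = x * Zn * x⁻¹ := ⟨_, rfl⟩
      rw [← hAn] at hcomm2 hrel'
      obtain ⟨Q, hQ⟩ : ∃ Q : H, Q = x * s0 * x⁻¹ := ⟨_, rfl⟩
      rw [← hQ] at hrel'
      have hQ' : Q = Zn * An⁻¹ * s0 := by
        calc Q = Zn * An⁻¹ * (An * Zn⁻¹ * Q) := by group
          _ = Zn * An⁻¹ * s0 := by rw [← hrel']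
      have h1 : x * (Zn * s0) = An * Q * x := by rw [hAn, hQ]; group
      rw [h1, hQ']
      calc An * (Zn * An⁻¹ * s0) * x = (An * Zn) * An⁻¹ * s0 * x := by group
        _ = (Zn * An) * An⁻¹ * s0 * x := by rw [hcomm2]
        _ = Zn * s0 * x := by group
    have hu : (z : H) ^ n * s0 ∈ Ω := by
      apply hΩmem
      · exact mul_mem (pow_mem (hZL hzZ) n) (hZL hs0Z)
      · exact hucent
      · exact hZp _ (mul_mem (pow_mem hzZ n) hs0Z)
    have hzn : (z : H) ^ n ∈ Ω ⊔ W := by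
      have h1 : (z : H) ^ n = ((z : H) ^ n * s0) * s0⁻¹ := by group
      rw [h1]
      exact Subgroup.mul_mem_sup hu (inv_mem hs0W)
    have hzp : (z : H) ^ p ∈ Ω ⊔ W := by rw [hZp _ hzZ]; exact one_mem _
    have h7 := Cfsg.Agent.Helper9.pow_gcd_mem (Ω ⊔ W) (z : H) n p hzn hzp
    have h8 : Nat.gcd n p = 1 := by
      have h9 : Nat.Coprime p n := (Nat.Prime.coprime_iff_not_dvd Fact.out).mpr hnp
      exact h9.symm
    rw [h8, pow_one] at h7
    exact h7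
  · exact sup_le hΩZ hWZ

end Cfsg.Agent.S2823
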