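-- S2825: Y_H ∩ L for a subnormal subgroup L; C_L(Y_L) = C_L(Y_H) = C_L(Y_H ∩ L).
import Mathlib
import Cfsg.Statements.S2825
import Cfsg.Agent.Helper9.PQ

set_option autoImplicit false
open Cfsg

namespace Cfsg.Agent.S2825

/-- Let L be a subnormal subgroup of the finite group H, p a prime, Y_H and Y_L the largest p-reduced normal subgroups. Then Y_H ∩ L = Y_H ∩ Y_L and this subgroup is a p-reduced normal subgroup of L; C_L(Y_L) = C_L(Y_H) = C_L(Y_H ∩ L); and if O^p(H) ≤ L, then [Y_L, L] = 1 if and only if [Y_H, H] = 1. -/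
theorem result {H : Type*} [Group H] [Finite H] {p : ℕ} [Fact p.Prime] (L : Subgroup H) (hL : L.IsSubnormal) : Cfsg.largestPReduced p H ⊓ L = Cfsg.largestPReduced p H ⊓ (Cfsg.largestPReducedOf p L) ∧ Cfsg.IsPReducedNormal p ((Cfsg.largestPReduced p H ⊓ L).subgroupOf L) ∧ L ⊓ Subgroup.centralizer ((Cfsg.largestPReducedOf p L : Subgroup H) : Set H) = L ⊓ Subgroup.centralizer (Cfsg.largestPReduced p H : Set H) ∧ L ⊓ Subgroup.centralizer (Cfsg.largestPReduced p H : Set H) = L ⊓ Subgroup.centralizer ((Cfsg.largestPReduced p H ⊓ L : Subgroup H) : Set H) ∧ (Cfsg.pResidual p H ≤ L → (⁅(Cfsg.largestPReducedOf p L), L⁆ = ⊥ ↔ ⁅Cfsg.largestPReduced p H, (⊤ : Subgroup H)⁆ = ⊥)) := by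
  have hYH := Cfsg.Agent.Helper9.largestPReduced_isPReducedNormal H p
  have hYL := Cfsg.Agent.Helper9.relRed_largestPReducedOf (p := p) L
  have hYLmax : ∀ V : Subgroup H, Cfsg.Agent.Helper9.RelRed p L V →
      V ≤ Cfsg.largestPReducedOf p L :=
    fun V hV => Cfsg.Agent.Helper9.le_largestPReducedOf L V hV
  have hhard : L ⊓ Subgroup.centralizer (Cfsg.largestPReduced p H : Set H) ≤
      Subgroup.centralizer ((Cfsg.largestPReducedOf p L : Subgroup H) : Set H) :=
    Cfsg.Agent.Helper9.subnormal_inf_centralizer_le L hL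
  generalize Cfsg.largestPReduced p H = YH at hYH hhard ⊢
  generalize Cfsg.largestPReducedOf p L = YL at hYL hYLmax hhard ⊢
  have hYHn : YH.Normal := hYH.1
  have hVc : ∀ a ∈ YH, ∀ b ∈ YH, a * b = b * a := by
    intro a ha b hb
    have h := congrArg Subtype.val (hYH.2.1.1.is_comm.comm (⟨a, ha⟩ : ↥YH) ⟨b, hb⟩)
    exact h
  have hVp : ∀ a ∈ YH, a ^ p = 1 := hYH.2.1.2
  have hcommL : ∀ x ∈ L, ∀ m : ℕ, x ^ m = 1 → Nat.Coprime m p → ∀ v ∈ YH,
      v * x * v⁻¹ * x⁻¹ ∈ YH ⊓ L := by
    intro x hx m hxm hmp v hv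
    haveI := hYHn
    refine Subgroup.mem_inf.mpr ⟨?_,
      Cfsg.Agent.Helper9.comm_mem_of_subnormal YH hVc hVp L hL x hx m hxm hmp v hv⟩
    have h1 := hYHn.conj_mem v⁻¹ (inv_mem hv) x
    have h2 : v * x * v⁻¹ * x⁻¹ = v * (x * v⁻¹ * x⁻¹) := by group
    rw [h2]; exact mul_mem hv h1
  have hsub : ∀ D : Subgroup H, D ≤ L → (∀ k ∈ L, ∀ d ∈ D, k * d * k⁻¹ ∈ D) →
      D.IsSubnormal := by
    intro D hDL hDn
    have hn : (D.subgroupOf L).Normal := ⟨fun n hn' g => hDn g.1 g.2 n.1 hn'⟩
    exact Subgroup.IsSubnormal.trans hDL hn.isSubnormal hL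
  have hWn : ∀ k ∈ L, ∀ w ∈ YH ⊓ L, k * w * k⁻¹ ∈ YH ⊓ L := by
    intro k hk w hw
    obtain ⟨hw1, hw2⟩ := Subgroup.mem_inf.mp hw
    exact Subgroup.mem_inf.mpr ⟨hYHn.conj_mem w hw1 k, mul_mem (mul_mem hk hw2) (inv_mem hk)⟩
  have hWred : Cfsg.Agent.Helper9.RelRed p L (YH ⊓ L) := by
    refine ⟨inf_le_right, hWn,
      fun a ha b hb => hVc a (Subgroup.mem_inf.mp ha).1 b (Subgroup.mem_inf.mp hb).1,
      fun a ha => hVp a (Subgroup.mem_inf.mp ha).1, ?_⟩
    intro D hDL hDn hDp d hd v hv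
    have hDV := Cfsg.Agent.Helper9.subnormal_le_centralizer_of_comm YH hYH (YH ⊓ L) D
      (hsub D hDL hDn) (fun x hx => hcommL x (hDL hx)) hDp
    exact Subgroup.mem_centralizer_iff.mp (hDV hd) v (Subgroup.mem_inf.mp hv).1
  have hWYL : YH ⊓ L ≤ YL := hYLmax _ hWred
  have h4 : L ⊓ Subgroup.centralizer (YH : Set H)
      = L ⊓ Subgroup.centralizer ((YH ⊓ L : Subgroup H) : Set H) := by
    apply le_antisymm
    · exact inf_le_inf_left L (Subgroup.centralizer_le (SetLike.coe_subset_coe.mpr inf_le_left))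
    · apply le_inf inf_le_left
      refine Cfsg.Agent.Helper9.subnormal_le_centralizer_of_comm YH hYH (YH ⊓ L)
        (L ⊓ Subgroup.centralizer ((YH ⊓ L : Subgroup H) : Set H)) ?hD
        (fun x hx => hcommL x (Subgroup.mem_inf.mp hx).1) ?hDp
      case hDp =>
        intro d hd
        refine ⟨0, ?_⟩
        rw [pow_zero, pow_one]
        exact Subgroup.mem_centralizer_iff.mp (Subgroup.mem_inf.mp hd).2
      case hD =>
        apply hsub _ inf_le_left
        intro k hk d hd
        obtain ⟨hd1, hd2⟩ := Subgroup.mem_inf.mp hd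
        refine Subgroup.mem_inf.mpr ⟨mul_mem (mul_mem hk hd1) (inv_mem hk), ?_⟩
        apply Cfsg.Agent.Helper9.conj_mem_centralizer_of_normalizes _ k d _ hd2
        intro w hw
        have h := hWn k⁻¹ (inv_mem hk) w hw
        rwa [inv_inv] at h
  have h3 : L ⊓ Subgroup.centralizer (YL : Set H) = L ⊓ Subgroup.centralizer (YH : Set H) := by
    apply le_antisymm
    · rw [h4]
      exact inf_le_inf_left L (Subgroup.centralizer_le (SetLike.coe_subset_coe.mpr hWYL))
    · exact le_inf inf_le_left hhard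
  refine ⟨?_, ?_, h3, h4, ?_⟩
  · apply le_antisymm
    · exact le_inf inf_le_left hWYL
    · exact le_inf inf_le_left (inf_le_right.trans hYL.1)
  · exact Cfsg.Agent.Helper9.isPReducedNormal_subgroupOf_of_relRed L _ hWred
  · intro hres
    rw [Subgroup.commutator_eq_bot_iff_le_centralizer,
      Subgroup.commutator_eq_bot_iff_le_centralizer]
    constructor
    · intro h
      have hLYL : L ≤ Subgroup.centralizer (YL : Set H) := by
        intro l hl
        rw [Subgroup.mem_centralizer_iff]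
        intro y hy
        exact (Subgroup.mem_centralizer_iff.mp (h hy) l hl).symm
      have hLYH : L ≤ Subgroup.centralizer (YH : Set H) := by
        intro l hl
        have h5 : l ∈ L ⊓ Subgroup.centralizer (YL : Set H) :=
          Subgroup.mem_inf.mpr ⟨hl, hLYL hl⟩
        rw [h3] at h5
        exact (Subgroup.mem_inf.mp h5).2
      obtain ⟨hCn, hcore⟩ := hYH.2.2
      haveI := hCn
      have hpq := Cfsg.Agent.Helper6.isPGroup_quotient_pResidual p
        (Subgroup.centralizer (YH : Set H)) (hres.trans hLYH)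
      have htop : (⊤ : Subgroup H) ≤ Subgroup.centralizer (YH : Set H) := by
        apply (Cfsg.Agent.Helper9.pCore_quotient_eq_bot_iff (p := p)
          (Subgroup.centralizer (YH : Set H))).mp hcore ⊤ inferInstance
        intro d _
        obtain ⟨k, hk⟩ := hpq (QuotientGroup.mk d)
        refine ⟨k, ?_⟩
        rw [← QuotientGroup.mk_pow] at hk
        exact (QuotientGroup.eq_one_iff _).mp hk
      intro y hy
      rw [Subgroup.mem_centralizer_iff]
      intro g _
      exact (Subgroup.mem_centralizer_iff.mp (htop (Subgroup.mem_top g)) y hy).symm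
    · intro h
      have hLYH : L ≤ Subgroup.centralizer (YH : Set H) := by
        intro l hl
        rw [Subgroup.mem_centralizer_iff]
        intro y hy
        exact (Subgroup.mem_centralizer_iff.mp (h hy) l (Subgroup.mem_top l)).symm
      intro y hy
      rw [Subgroup.mem_centralizer_iff]
      intro l hl
      have h5 : l ∈ L ⊓ Subgroup.centralizer (YH : Set H) :=
        Subgroup.mem_inf.mpr ⟨hl, hLYH hl⟩
      rw [← h3] at h5
      exact (Subgroup.mem_centralizer_iff.mp (Subgroup.mem_inf.mp h5).2 y hy).symm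

end Cfsg.Agent.S2825
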