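-- S2826: C_H(Ω₁Z(T)) = C_H([V, O^p(H)] ∩ Ω₁Z(T)) (coset averaging).
import Mathlib
import Cfsg.Statements.S2826
import Cfsg.Agent.Helper9.PReduced
import Cfsg.Agent.S1941

set_option autoImplicit false
open Cfsg

namespace Cfsg.Agent.S2826

theorem key {H : Type*} [Group H] [Finite H] {p : ℕ} [Fact p.Prime] (T : Sylow p H) (V : Subgroup H)
    (hV : Cfsg.IsElementaryAbelian p V) (hVT : V ≤ T) (W : Subgroup H) [hWn : W.Normal] (hWV : W ≤ V)
    (Z : Subgroup H)
    (hZ : ∀ s : H, s ∈ (T : Subgroup H) → s ∈ Subgroup.centralizer ((T : Subgroup H) : Set H) →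
      s ^ p = 1 → s ∈ Z)
    (hZC : Z ≤ Subgroup.centralizer ((T : Subgroup H) : Set H))
    (z : H) (hzC : z ∈ Subgroup.centralizer ((T : Subgroup H) : Set H))
    (hcomm : ∀ g : H, g * z * g⁻¹ * z⁻¹ ∈ W)
    (d : H) (hd : d ∈ Subgroup.centralizer ((W ⊓ Z : Subgroup H) : Set H)) :
    d * z = z * d := by
  classical
  obtain ⟨D, hDdef⟩ : ∃ D : Subgroup H, D = Subgroup.centralizer ((W ⊓ Z : Subgroup H) : Set H) :=
    ⟨_, rfl⟩
  rw [← hDdef] at hd
  have hTD : (T : Subgroup H) ≤ D := by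
    intro t ht
    rw [hDdef, Subgroup.mem_centralizer_iff]
    intro s hs
    exact (Subgroup.mem_centralizer_iff.mp (hZC (Subgroup.mem_inf.mp hs).2) t ht).symm
  letI : CommGroup ↥W :=
    { (inferInstance : Group ↥W) with
      mul_comm := fun a b => by
        have h := hV.1.is_comm.comm (⟨a.1, hWV a.2⟩ : ↥V) ⟨b.1, hWV b.2⟩
        exact Subtype.ext (show (a.1 * b.1 : H) = b.1 * a.1 from congrArg Subtype.val h) }
  let F : ↥D → ↥W := fun g => ⟨(g : H) * z * (g : H)⁻¹ * z⁻¹, hcomm g⟩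
  have hFT : ∀ g : ↥D, ∀ t ∈ (T : Subgroup H).subgroupOf D, F (g * t) = F g := by
    intro g t ht
    apply Subtype.ext
    show ((g : H) * (t : H)) * z * ((g : H) * (t : H))⁻¹ * z⁻¹ = (g : H) * z * (g : H)⁻¹ * z⁻¹
    have htz : (t : H) * z = z * (t : H) := Subgroup.mem_centralizer_iff.mp hzC t ht
    have h1 : ((g : H) * (t : H)) * z * ((g : H) * (t : H))⁻¹ * z⁻¹
        = (g : H) * ((t : H) * z) * (t : H)⁻¹ * (g : H)⁻¹ * z⁻¹ := by group
    rw [h1, htz]; group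
  have hFmul : ∀ x g : ↥D, F (x * g) =
      F x * ((MulAut.conjNormal : H →* MulAut ↥W).comp D.subtype) x (F g) := by
    intro x g
    apply Subtype.ext
    have ha : (x : H) * z * (x : H)⁻¹ * z⁻¹ ∈ V := hWV (hcomm x)
    have hb : (x : H) * ((g : H) * z * (g : H)⁻¹ * z⁻¹) * (x : H)⁻¹ ∈ V :=
      hWV (hWn.conj_mem _ (hcomm g) x)
    have hab := congrArg Subtype.val (hV.1.is_comm.comm (⟨_, ha⟩ : ↥V) ⟨_, hb⟩)
    have hab' : ((x : H) * z * (x : H)⁻¹ * z⁻¹) * ((x : H) * ((g : H) * z * (g : H)⁻¹ * z⁻¹) * (x : H)⁻¹)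
        = ((x : H) * ((g : H) * z * (g : H)⁻¹ * z⁻¹) * (x : H)⁻¹) * ((x : H) * z * (x : H)⁻¹ * z⁻¹) := hab
    show ((x : H) * (g : H)) * z * ((x : H) * (g : H))⁻¹ * z⁻¹
      = ((x : H) * z * (x : H)⁻¹ * z⁻¹) * ((x : H) * ((g : H) * z * (g : H)⁻¹ * z⁻¹) * (x : H)⁻¹)
    rw [hab']
    group
  obtain ⟨s, hs⟩ := Cfsg.Agent.S1941.avgAbs ((T : Subgroup H).subgroupOf D)
    ((MulAut.conjNormal : H →* MulAut ↥W).comp D.subtype) F hFT hFmul
  have hs' : ∀ x (hx : x ∈ D), (s : H) =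
      (x * z * x⁻¹ * z⁻¹) ^ ((T : Subgroup H).subgroupOf D).index * (x * (s : H) * x⁻¹) :=
    fun x hx => congrArg Subtype.val (hs ⟨x, hx⟩)
  obtain ⟨n, hn⟩ : ∃ n : ℕ, n = ((T : Subgroup H).subgroupOf D).index := ⟨_, rfl⟩
  rw [← hn] at hs'
  have hnp : ¬ p ∣ n := by
    intro hdvd
    have h1 : (T : Subgroup H).relIndex D * D.index = (T : Subgroup H).index :=
      Subgroup.relIndex_mul_index hTD
    have h2 : p ∣ (T : Subgroup H).relIndex D := by
      rw [Subgroup.relIndex, ← hn]; exact hdvd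
    apply T.not_dvd_index
    rw [← h1]
    exact Dvd.dvd.mul_right h2 _
  have hsT : ∀ t ∈ (T : Subgroup H), t * (s : H) * t⁻¹ = (s : H) := by
    intro t ht
    have h1 := hs' t (hTD ht)
    have htz : t * z = z * t := Subgroup.mem_centralizer_iff.mp hzC t ht
    have h2 : t * z * t⁻¹ * z⁻¹ = 1 := by rw [htz]; group
    rw [h2, one_pow, one_mul] at h1
    exact h1.symm
  have hsW : (s : H) ∈ W := s.2
  have hsV : (s : H) ∈ V := hWV hsW
  have hsZ : (s : H) ∈ Z := by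
    refine hZ _ (hVT hsV) ?_ (hV.2 _ hsV)
    rw [Subgroup.mem_centralizer_iff]
    intro t ht
    have h1 := hsT t ht
    calc t * (s : H) = t * (s : H) * t⁻¹ * t := by group
      _ = (s : H) * t := by rw [h1]
  have hds : d * (s : H) * d⁻¹ = (s : H) := by
    have h1 : d ∈ Subgroup.centralizer ((W ⊓ Z : Subgroup H) : Set H) := hDdef ▸ hd
    have h2 : (s : H) * d = d * (s : H) :=
      Subgroup.mem_centralizer_iff.mp h1 _ (Subgroup.mem_inf.mpr ⟨hsW, hsZ⟩)
    rw [← h2]; group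
  have h3 := hs' d hd
  rw [hds] at h3
  have hfn : (d * z * d⁻¹ * z⁻¹) ^ n = 1 := right_eq_mul.mp h3
  have hfp : (d * z * d⁻¹ * z⁻¹) ^ p = 1 := hV.2 _ (hWV (hcomm d))
  have hf1 : d * z * d⁻¹ * z⁻¹ = 1 := by
    have h4 : (d * z * d⁻¹ * z⁻¹) ^ Nat.gcd n p = 1 := pow_gcd_eq_one.mpr ⟨hfn, hfp⟩
    have h5 : Nat.gcd n p = 1 := by
      have h6 : Nat.Coprime p n := (Nat.Prime.coprime_iff_not_dvd Fact.out).mpr hnp
      exact h6.symm
    rw [h5, pow_one] at h4
    exact h4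
  calc d * z = (d * z * d⁻¹ * z⁻¹) * (z * d) := by group
    _ = z * d := by rw [hf1, one_mul]

/-- Let H be a finite group of characteristic p, T a Sylow p-subgroup, and V a normal elementary abelian p-subgroup of H containing Ω₁(Z(T)). Then C_H(Ω₁(Z(T))) = C_H([V, O^p(H)] ∩ Ω₁(Z(T))), O^p(H) being generated by the elements of order prime to p. -/
theorem result {H : Type*} [Group H] [Finite H] {p : ℕ} [Fact p.Prime] (hH : Subgroup.centralizer (Cfsg.pCore p H : Set H) ≤ Cfsg.pCore p H) (T : Sylow p H) (V : Subgroup H) [V.Normal] (hV : Cfsg.IsElementaryAbelian p V) (hZV : (Cfsg.omegaOne p ((T : Subgroup H) ⊓ Subgroup.centralizer (((T : Subgroup H) : Subgroup H) : Set H))) ≤ V) : Subgroup.centralizer ((Cfsg.omegaOne p ((T : Subgroup H) ⊓ Subgroup.centralizer (((T : Subgroup H) : Subgroup H) : Set H))) : Set H) = Subgroup.centralizer (((⁅V, Cfsg.pResidual p H⁆ ⊓ (Cfsg.omegaOne p ((T : Subgroup H) ⊓ Subgroup.centralizer (((T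 : Subgroup H) : Subgroup H) : Set H)))) : Subgroup H) : Set H) := by
  haveI hRn := Cfsg.Agent.Helper6.pResidual_normal p H
  obtain ⟨Z, hZdef⟩ : ∃ Z : Subgroup H, Z = Cfsg.omegaOne p ((T : Subgroup H) ⊓
      Subgroup.centralizer ((T : Subgroup H) : Set H)) := ⟨_, rfl⟩
  rw [← hZdef] at hZV ⊢
  obtain ⟨W, hWdef⟩ : ∃ W : Subgroup H, W = ⁅V, Cfsg.pResidual p H⁆ := ⟨_, rfl⟩
  rw [← hWdef]
  haveI hWn : W.Normal := by rw [hWdef]; exact Subgroup.commutator_normal V (Cfsg.pResidual p H)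
  have hWV : W ≤ V := by rw [hWdef]; exact Subgroup.commutator_le_left V (Cfsg.pResidual p H)
  have hVp : IsPGroup p V := by
    intro v
    refine ⟨1, Subtype.ext ?_⟩
    rw [pow_one]
    exact hV.2 v.1 v.2
  have hVT : V ≤ T := Cfsg.Agent.Helper9.normal_pgroup_le_sylow V hVp T
  have hZ : ∀ s : H, s ∈ (T : Subgroup H) → s ∈ Subgroup.centralizer ((T : Subgroup H) : Set H) →
      s ^ p = 1 → s ∈ Z := by
    intro s h1 h2 h3
    rw [hZdef]
    exact Subgroup.subset_closure ⟨⟨h1, h2⟩, h3⟩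
  have hZC : Z ≤ Subgroup.centralizer ((T : Subgroup H) : Set H) := by
    rw [hZdef]
    unfold Cfsg.omegaOne
    rw [Subgroup.closure_le]
    intro x hx
    exact hx.1.2
  apply le_antisymm
  · exact Subgroup.centralizer_le (fun x hx => (Subgroup.mem_inf.mp hx).2)
  · intro d hd
    have h1 : Z ≤ Subgroup.centralizer ({d} : Set H) := by
      rw [hZdef]
      unfold Cfsg.omegaOne
      rw [Subgroup.closure_le]
      intro z hz
      have hz' : z ∈ (T : Subgroup H) ⊓ Subgroup.centralizer ((T : Subgroup H) : Set H) ∧ z ^ p = 1 := hz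
      have hzV : z ∈ V := hZV (hZ z hz'.1.1 hz'.1.2 hz'.2)
      have hcomm : ∀ g : H, g * z * g⁻¹ * z⁻¹ ∈ W := by
        intro g
        obtain ⟨x, hx, y, hy, rfl⟩ := Cfsg.Agent.Helper9.exists_mul_pResidual_sylow T g
        have hyz : y * z = z * y := Subgroup.mem_centralizer_iff.mp hz'.1.2 y hy
        have h1 : x * y * z * (x * y)⁻¹ * z⁻¹ = x * z * x⁻¹ * z⁻¹ := by
          have h2 : x * y * z * (x * y)⁻¹ * z⁻¹ = x * (y * z) * y⁻¹ * x⁻¹ * z⁻¹ := by group
          rw [h2, hyz]; group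
        rw [h1, hWdef, Subgroup.commutator_comm]
        exact Subgroup.commutator_mem_commutator hx hzV
      have hkey := key T V hV hVT W hWV Z hZ hZC z hz'.1.2 hcomm d hd
      show z ∈ Subgroup.centralizer ({d} : Set H)
      rw [Subgroup.mem_centralizer_iff]
      intro h hh
      rw [Set.mem_singleton_iff.mp hh]
      exact hkey
    rw [Subgroup.mem_centralizer_iff]
    intro z hz
    exact (Subgroup.mem_centralizer_iff.mp (h1 hz) d (Set.mem_singleton d)).symm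

end Cfsg.Agent.S2826
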