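-- Statement S2828: p-irreducibility passes to and from quotients by normal p-subgroups.
import Cfsg.Statements.S2828
import Cfsg.Agent.Helper14.PIrred2

set_option autoImplicit false
open Cfsg

namespace Cfsg.Agent.S2828

open Cfsg.Agent.Helper14

theorem pelt_lift {H : Type*} [Group H] {p : ℕ} (D : Subgroup H) [D.Normal] (hD : IsPGroup p ↥D)
    (x : H) (a : ℕ) (h : (QuotientGroup.mk' D x) ^ p ^ a = 1) : ∃ b : ℕ, x ^ p ^ b = 1 := by
  rw [← map_pow] at h
  have hx : x ^ p ^ a ∈ D := (QuotientGroup.eq_one_iff _).mp h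
  obtain ⟨c, hc⟩ := hD ⟨_, hx⟩
  have hc' : (x ^ p ^ a) ^ p ^ c = 1 := congrArg Subtype.val hc
  exact ⟨a + c, by rw [pow_add, pow_mul]; exact hc'⟩

theorem mem_pCore_iff {H : Type*} [Group H] {p : ℕ} (D : Subgroup H) [D.Normal]
    (hD : IsPGroup p ↥D) (x : H) :
    QuotientGroup.mk' D x ∈ pCore p (H ⧸ D) ↔ x ∈ pCore p H := by
  constructor
  · intro h
    have hn : ((pCore p (H ⧸ D)).comap (QuotientGroup.mk' D)).Normal :=
      (pCore_normal p _).comap _
    have hp : IsPGroup p ((pCore p (H ⧸ D)).comap (QuotientGroup.mk' D)) := by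
      rintro ⟨y, hy⟩
      obtain ⟨a, ha⟩ := (pCore_isPGroup p (H ⧸ D)) ⟨_, Subgroup.mem_comap.mp hy⟩
      have ha' : (QuotientGroup.mk' D y) ^ p ^ a = 1 := congrArg Subtype.val ha
      obtain ⟨b, hb⟩ := pelt_lift D hD y a ha'
      exact ⟨b, Subtype.ext hb⟩
    exact le_pCore hn hp (Subgroup.mem_comap.mpr h)
  · intro h
    have hn : ((pCore p H).map (QuotientGroup.mk' D)).Normal :=
      (pCore_normal p H).map _ (QuotientGroup.mk'_surjective D)
    exact le_pCore hn ((pCore_isPGroup p H).map _) (Subgroup.mem_map_of_mem _ h)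

theorem isPClosed_quot_iff {H : Type*} [Group H] [Finite H] {p : ℕ} [Fact p.Prime]
    (D : Subgroup H) [D.Normal] (hD : IsPGroup p ↥D) :
    IsPClosed p (H ⧸ D) ↔ IsPClosed p H := by
  rw [isPClosed_iff, isPClosed_iff]
  constructor
  · rintro h x ⟨a, ha⟩
    rw [← mem_pCore_iff D hD]
    exact h _ ⟨a, by rw [← map_pow, ha, map_one]⟩
  · rintro h xb ⟨a, ha⟩
    obtain ⟨x, rfl⟩ := QuotientGroup.mk'_surjective D xb
    rw [mem_pCore_iff D hD]
    exact h x (pelt_lift D hD x a ha)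

theorem isPClosed_sub_iff {H : Type*} [Group H] [Finite H] {p : ℕ} [Fact p.Prime]
    (D : Subgroup H) [D.Normal] (hD : IsPGroup p ↥D) (N : Subgroup H) [N.Normal]
    (Nb : Subgroup (H ⧸ D)) [Nb.Normal]
    (h1 : ∀ x ∈ N, QuotientGroup.mk' D x ∈ Nb)
    (h2 : ∀ xb ∈ Nb, ∃ x ∈ N, QuotientGroup.mk' D x = xb) :
    IsPClosed p ↥Nb ↔ IsPClosed p ↥N := by
  rw [isPClosed_subgroup_iff, isPClosed_subgroup_iff]
  constructor
  · rintro h x hx ⟨a, ha⟩
    rw [← mem_pCore_iff D hD]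
    exact h _ (h1 x hx) ⟨a, by rw [← map_pow, ha, map_one]⟩
  · rintro h xb hxb ⟨a, ha⟩
    obtain ⟨x, hx, rfl⟩ := h2 xb hxb
    rw [mem_pCore_iff D hD]
    exact h x hx (pelt_lift D hD x a ha)

theorem comm_le_iff {H : Type*} [Group H] {p : ℕ} (D : Subgroup H) [D.Normal]
    (hD : IsPGroup p ↥D) (N : Subgroup H) (Nb : Subgroup (H ⧸ D))
    (hmap : N.map (QuotientGroup.mk' D) = Nb) :
    ⁅Nb, (⊤ : Subgroup (H ⧸ D))⁆ ≤ pCore p (H ⧸ D) ↔ ⁅N, (⊤ : Subgroup H)⁆ ≤ pCore p H := by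
  have e : ⁅Nb, (⊤ : Subgroup (H ⧸ D))⁆ = (⁅N, (⊤ : Subgroup H)⁆).map (QuotientGroup.mk' D) := by
    rw [Subgroup.map_commutator, hmap,
      Subgroup.map_top_of_surjective _ (QuotientGroup.mk'_surjective D)]
  rw [e, Subgroup.map_le_iff_le_comap]
  constructor
  · intro h x hx
    exact (mem_pCore_iff D hD x).mp (Subgroup.mem_comap.mp (h hx))
  · intro h x hx
    exact Subgroup.mem_comap.mpr ((mem_pCore_iff D hD x).mpr (h hx))

theorem res_T1 {H : Type*} [Group H] [Finite H] {p : ℕ} [Fact p.Prime]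
    (D : Subgroup H) [D.Normal] (hD : IsPGroup p ↥D) (Nb : Subgroup (H ⧸ D))
    (h : pResidual p H ≤ Nb.comap (QuotientGroup.mk' D)) : pResidual p (H ⧸ D) ≤ Nb := by
  show Subgroup.closure {g : H ⧸ D | Nat.Coprime (orderOf g) p} ≤ _
  rw [Subgroup.closure_le]
  intro xb hxb
  have hcop : Nat.Coprime (orderOf xb) p := hxb
  obtain ⟨x, rfl⟩ := QuotientGroup.mk'_surjective D xb
  obtain ⟨m, hm⟩ : ∃ m, m = orderOf (QuotientGroup.mk' D x) := ⟨_, rfl⟩
  rw [← hm] at hcop
  have h1 : (QuotientGroup.mk' D x) ^ m = 1 := by rw [hm]; exact pow_orderOf_eq_one _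
  have h1' : QuotientGroup.mk' D (x ^ m) = 1 := by rw [map_pow]; exact h1
  have hxD : x ^ m ∈ D := (QuotientGroup.eq_one_iff _).mp h1'
  obtain ⟨b, hb⟩ := hD ⟨_, hxD⟩
  have hb' : (x ^ m) ^ p ^ b = 1 := congrArg Subtype.val hb
  have hy : (x ^ p ^ b) ^ m = 1 := by rw [← pow_mul, mul_comm, pow_mul]; exact hb'
  have hyR : x ^ p ^ b ∈ pResidual p H :=
    Cfsg.Agent.Helper6.mem_pResidual_of_pow_eq_one p hcop.symm hy
  have hyN : (QuotientGroup.mk' D x) ^ p ^ b ∈ Nb := by
    have := Subgroup.mem_comap.mp (h hyR)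
    rwa [map_pow] at this
  by_cases hm1 : m = 1
  · have : QuotientGroup.mk' D x = 1 := by
      rw [hm1, pow_one] at h1; exact h1
    rw [this]; exact one_mem _
  · have hmpos : 0 < m := by rw [hm]; exact orderOf_pos _
    have hm2 : 1 < m := by omega
    have hcop2 : Nat.Coprime (p ^ b) m := Nat.Coprime.pow_left b hcop.symm
    obtain ⟨u, -, hu⟩ := Nat.exists_mul_mod_eq_one_of_coprime hcop2 hm2
    have e : QuotientGroup.mk' D x = ((QuotientGroup.mk' D x) ^ p ^ b) ^ u := by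
      rw [← pow_mul, pow_eq_pow_mod (p ^ b * u) h1, hu, pow_one]
    rw [e]
    exact Nb.pow_mem hyN u

theorem res_T2 {H : Type*} [Group H] [Finite H] {p : ℕ} [Fact p.Prime]
    (D : Subgroup H) [D.Normal] (hD : IsPGroup p ↥D) (N : Subgroup H) [N.Normal]
    (h : pResidual p (H ⧸ D) ≤ N.map (QuotientGroup.mk' D)) : pResidual p H ≤ N := by
  show Subgroup.closure {g : H | Nat.Coprime (orderOf g) p} ≤ _
  rw [Subgroup.closure_le]
  intro x hx
  have hcop : Nat.Coprime (orderOf x) p := hx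
  have h1 : QuotientGroup.mk' D x ∈ pResidual p (H ⧸ D) := by
    apply Cfsg.Agent.Helper6.mem_pResidual_of_pow_eq_one p hcop.symm
    rw [← map_pow, pow_orderOf_eq_one, map_one]
  have h2 : x ∈ (N.map (QuotientGroup.mk' D)).comap (QuotientGroup.mk' D) :=
    Subgroup.mem_comap.mpr (h h1)
  rw [QuotientGroup.comap_map_mk', sup_comm] at h2
  exact mem_of_coprime_of_mem_sup N D hD x h2 _ hcop (pow_orderOf_eq_one x)

/-- Let H be a finite group, p a prime and D a normal p-subgroup of H. Then H is p-irreducible if and only if H/D is p-irreducible, and H is strongly p-irreducible if and only if H/D is strongly p-irreducible. -/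
theorem result {H : Type*} [Group H] [Finite H] {p : ℕ} [Fact p.Prime] (D : Subgroup H) [D.Normal] (hD : IsPGroup p ↥D) : (Cfsg.IsPIrreducible p H ↔ Cfsg.IsPIrreducible p (H ⧸ D)) ∧ (Cfsg.IsStronglyPIrreducible p H ↔ Cfsg.IsStronglyPIrreducible p (H ⧸ D)) := by
  have hsurj := QuotientGroup.mk'_surjective D
  have hmc : ∀ K : Subgroup (H ⧸ D),
      (K.comap (QuotientGroup.mk' D)).map (QuotientGroup.mk' D) = K :=
    fun K => Subgroup.map_comap_eq_self_of_surjective hsurj K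
  constructor
  · constructor
    · rintro ⟨h1, h2⟩
      refine ⟨fun hc => h1 ((isPClosed_quot_iff D hD).mp hc), ?_⟩
      intro Nb hNb hNbc
      have hNn : (Nb.comap (QuotientGroup.mk' D)).Normal := hNb.comap _
      apply res_T1 D hD
      apply h2 _ hNn
      intro hc
      apply hNbc
      exact (isPClosed_sub_iff D hD (Nb.comap (QuotientGroup.mk' D)) Nb
        (fun x hx => Subgroup.mem_comap.mp hx) (fun xb hxb => by
          obtain ⟨x, rfl⟩ := hsurj xb
          exact ⟨x, Subgroup.mem_comap.mpr hxb, rfl⟩)).mpr hc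
    · rintro ⟨h1, h2⟩
      refine ⟨fun hc => h1 ((isPClosed_quot_iff D hD).mpr hc), ?_⟩
      intro N hN hNc
      have hNn : (N.map (QuotientGroup.mk' D)).Normal := hN.map _ hsurj
      apply res_T2 D hD
      apply h2 _ hNn
      intro hc
      apply hNc
      exact (isPClosed_sub_iff D hD N (N.map (QuotientGroup.mk' D))
        (fun x hx => Subgroup.mem_map_of_mem _ hx) (fun xb hxb => by
          obtain ⟨x, hx, rfl⟩ := Subgroup.mem_map.mp hxb
          exact ⟨x, hx, rfl⟩)).mp hc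
  · constructor
    · rintro ⟨h1, h2⟩
      refine ⟨fun hc => h1 ((isPClosed_quot_iff D hD).mp hc), ?_⟩
      intro Nb hNb hNbc
      apply res_T1 D hD
      apply h2 _ (hNb.comap _)
      intro hc
      apply hNbc
      exact (comm_le_iff D hD (Nb.comap (QuotientGroup.mk' D)) Nb (hmc Nb)).mpr hc
    · rintro ⟨h1, h2⟩
      refine ⟨fun hc => h1 ((isPClosed_quot_iff D hD).mpr hc), ?_⟩
      intro N hN hNc
      apply res_T2 D hD
      apply h2 _ (hN.map _ hsurj)
      intro hc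
      apply hNc
      exact (comm_le_iff D hD N (N.map (QuotientGroup.mk' D)) rfl).mp hc

end Cfsg.Agent.S2828
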