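-- Statement S2830: p-irreducible action on an elementary abelian p-group.
import Cfsg.Statements.S2830
import Cfsg.Agent.Helper14.PIrred2

set_option autoImplicit false
open Cfsg

namespace Cfsg.Agent.S2830

open Cfsg.Agent.Helper14

/-- (E): `p`-elements of a normal subgroup not containing `O^p(K)` lie in `O_p(K)`. -/
theorem pelt_mem_pCore {K : Type*} [Group K] [Finite K] {p : ℕ} [Fact p.Prime]
    (hirr : ∀ N : Subgroup K, N.Normal → ¬ IsPClosed p ↥N → pResidual p K ≤ N)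
    (C : Subgroup K) [hC : C.Normal] (hRC : ¬ pResidual p K ≤ C) :
    ∀ x ∈ C, (∃ a : ℕ, x ^ p ^ a = 1) → x ∈ pCore p K := by
  have hpc : IsPClosed p ↥C := by
    by_contra hc
    exact hRC (hirr _ hC hc)
  rw [isPClosed_subgroup_iff] at hpc
  exact hpc

theorem pCore_quot_eq_bot {K : Type*} [Group K] [Finite K] {p : ℕ} [Fact p.Prime]
    (hirr : ∀ N : Subgroup K, N.Normal → ¬ IsPClosed p ↥N → pResidual p K ≤ N)
    (C : Subgroup K) [hC : C.Normal] (hRC : ¬ pResidual p K ≤ C) (hQC : pCore p K ≤ C) :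
    pCore p (K ⧸ C) = ⊥ := by
  rw [eq_bot_iff]
  intro q hq
  obtain ⟨d, rfl⟩ := QuotientGroup.mk'_surjective _ q
  rw [Subgroup.mem_bot]
  refine (QuotientGroup.eq_one_iff d).mpr ?_
  have hQbp : IsPGroup p (pCore p (K ⧸ C)) := pCore_isPGroup p _
  have hD' : ∀ x : K, QuotientGroup.mk' C x ∈ pCore p (K ⧸ C) → ∀ m : ℕ, Nat.Coprime m p →
      x ^ m = 1 → x ∈ C := by
    intro x hx m hm hxm
    obtain ⟨k, hk⟩ := hQbp ⟨_, hx⟩
    have hk' : (QuotientGroup.mk' C x) ^ p ^ k = 1 := congrArg Subtype.val hk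
    have h3 : (QuotientGroup.mk' C x) ^ m = 1 := by rw [← map_pow, hxm, map_one]
    exact (QuotientGroup.eq_one_iff x).mp (eq_one_of_pow_coprime _ m k hm h3 hk')
  have hDn : ((pCore p (K ⧸ C)).comap (QuotientGroup.mk' C)).Normal :=
    (pCore_normal p _).comap _
  have hDpc : IsPClosed p ↥((pCore p (K ⧸ C)).comap (QuotientGroup.mk' C)) := by
    by_contra hc
    apply hRC
    have hR := hirr _ hDn hc
    show Subgroup.closure {g : K | Nat.Coprime (orderOf g) p} ≤ _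
    rw [Subgroup.closure_le]
    intro x hx
    have hx' : Nat.Coprime (orderOf x) p := hx
    exact hD' x (Subgroup.mem_comap.mp (hR (Subgroup.subset_closure hx))) _ hx'
      (pow_orderOf_eq_one x)
  rw [isPClosed_subgroup_iff] at hDpc
  have hn0 : Nat.card K ≠ 0 := Nat.card_pos.ne'
  obtain ⟨a, m, hm, hnm⟩ := Nat.exists_eq_pow_mul_and_not_dvd hn0 p (Fact.out : p.Prime).ne_one
  have hcop : Nat.Coprime m p := ((Nat.Prime.coprime_iff_not_dvd Fact.out).mpr hm).symm
  have hdD : ∀ j : ℕ, QuotientGroup.mk' C (d ^ j) ∈ pCore p (K ⧸ C) := by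
    intro j; rw [map_pow]; exact Subgroup.pow_mem _ hq j
  have h1 : d ^ p ^ a ∈ C := by
    apply hD' _ (hdD _) m hcop
    rw [← pow_mul, ← hnm]; exact pow_card_eq_one'
  have h2' : d ^ m ∈ C := by
    apply hQC
    apply hDpc (d ^ m) (Subgroup.mem_comap.mpr (hdD m))
    exact ⟨a, by rw [← pow_mul, mul_comm, ← hnm]; exact pow_card_eq_one'⟩
  exact mem_of_pow_mem_of_coprime _ d (p ^ a) m (Nat.Coprime.pow_left a hcop.symm) h1 h2'

/-- Let H act by conjugation on the elementary abelian p-subgroup V of a finite group G (H ≤ N(V)), with H p-irreducible and O^p(H) not centralizing V. Then C_H(V) is p-closed and C_T(V) ≤ O_p(H) for every p-subgroup T of H. If in addition O_p(H) centralizes V, then C_T(V) = T ∩ O_p(H) for every p-subgroup T of H, and V is p-reduced for H: O_p(H/C_H(V)) = 1. -/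
theorem result {G : Type*} [Group G] [Finite G] {p : ℕ} [Fact p.Prime] (V H : Subgroup G) (hV : Cfsg.IsElementaryAbelian p V) (hHV : H ≤ Subgroup.normalizer (V : Set G)) (hH : Cfsg.IsPIrreducible p ↥H) (hnc : ¬ (Cfsg.pResidual p ↥H).map H.subtype ≤ Subgroup.centralizer (V : Set G)) [hn : ((Subgroup.centralizer (V : Set G)).subgroupOf H).Normal] : Cfsg.IsPClosed p ↥(H ⊓ Subgroup.centralizer (V : Set G)) ∧ (∀ T : Subgroup G, T ≤ H → IsPGroup p ↥T → T ⊓ Subgroup.centralizer (V : Set G) ≤ Cfsg.pCoreOf p H) ∧ (Cfsg.pCoreOf p H ≤ Subgroup.centralizer (V : Set G) → (∀ T : Subgroup G, T ≤ H → IsPGroup p ↥T → T ⊓ Subgroup.centralizer (V : Set G) = T ⊓ Cfsg.pCoreOf p H) ∧ Cfsg.pCore p (↥H ⧸ (Subgroup.centralizer (V : Set G)).subgroupOf H) = ⊥) := by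
  obtain ⟨hnpc, hirr⟩ := hH
  have hRC : ¬ pResidual p ↥H ≤ (Subgroup.centralizer (V : Set G)).subgroupOf H := by
    intro h
    apply hnc
    rintro _ ⟨x, hx, rfl⟩
    exact Subgroup.mem_subgroupOf.mp (h hx)
  have hE : ∀ x : ↥H, (x : G) ∈ Subgroup.centralizer (V : Set G) →
      (∃ a : ℕ, x ^ p ^ a = 1) → x ∈ pCore p ↥H := by
    intro x hx hxp
    exact pelt_mem_pCore hirr _ hRC x (Subgroup.mem_subgroupOf.mpr hx) hxp
  have h2 : ∀ T : Subgroup G, T ≤ H → IsPGroup p ↥T →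
      T ⊓ Subgroup.centralizer (V : Set G) ≤ Cfsg.pCoreOf p H := by
    intro T hTH hT t ht
    rw [Subgroup.mem_inf] at ht
    obtain ⟨a, ha⟩ := hT ⟨t, ht.1⟩
    have ha' : t ^ p ^ a = 1 := congrArg Subtype.val ha
    have := hE ⟨t, hTH ht.1⟩ ht.2 ⟨a, Subtype.ext ha'⟩
    exact ⟨_, this, rfl⟩
  refine ⟨?_, h2, ?_⟩
  · rw [isPClosed_iff]
    rintro ⟨x, hx⟩ ⟨a, ha⟩
    have ha' : x ^ p ^ a = 1 := congrArg Subtype.val ha
    have hx' := Subgroup.mem_inf.mp hx
    have hxP := hE ⟨x, hx'.1⟩ hx'.2 ⟨a, Subtype.ext ha'⟩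
    have hP0n : ((pCoreOf p H).subgroupOf (H ⊓ Subgroup.centralizer (V : Set G))).Normal := by
      constructor
      intro y hy k
      rw [Subgroup.mem_subgroupOf] at hy ⊢
      obtain ⟨y', hy', hyy'⟩ := Subgroup.mem_map.mp (show (y : G) ∈ (pCore p ↥H).map H.subtype from hy)
      have hkH : (k : G) ∈ H := (Subgroup.mem_inf.mp k.2).1
      refine Subgroup.mem_map.mpr ⟨⟨(k : G), hkH⟩ * y' * ⟨(k : G), hkH⟩⁻¹,
        (pCore_normal p ↥H).conj_mem y' hy' _, ?_⟩
      show (k : G) * (y' : G) * (k : G)⁻¹ = (k : G) * (y : G) * (k : G)⁻¹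
      rw [show ((y' : ↥H) : G) = (y : G) from hyy']
    have hP0p : IsPGroup p ((pCoreOf p H).subgroupOf (H ⊓ Subgroup.centralizer (V : Set G))) :=
      (pCoreOf_isPGroup p H).comap_of_injective
        (H ⊓ Subgroup.centralizer (V : Set G)).subtype Subtype.coe_injective
    exact le_pCore hP0n hP0p (Subgroup.mem_subgroupOf.mpr
      (show x ∈ pCoreOf p H from ⟨_, hxP, rfl⟩))
  · intro hQC
    constructor
    · intro T hTH hT
      apply le_antisymm
      · exact le_inf inf_le_left (h2 T hTH hT)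
      · exact le_inf inf_le_left (inf_le_right.trans hQC)
    · apply pCore_quot_eq_bot hirr _ hRC
      intro x hx
      rw [Subgroup.mem_subgroupOf]
      exact hQC ⟨_, hx, rfl⟩

end Cfsg.Agent.S2830
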