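-- Statement S2831: T-minimal groups are p-irreducible.
import Cfsg.Statements.S2831
import Cfsg.Agent.Helper14.PIrred

set_option autoImplicit false
open Cfsg

namespace Cfsg.Agent.S2831

open Cfsg.Agent.Helper14

/-- Let H be a finite group with Sylow p-subgroup T such that H is T-minimal (H is generated by the conjugates of T and T lies in exactly one maximal subgroup of H). Then H is p-irreducible: H is not p-closed and O^p(H) lies in every normal subgroup of H that is not p-closed. -/
theorem result {H : Type*} [Group H] [Finite H] {p : ℕ} [Fact p.Prime] (T : Sylow p H) (hmin : Cfsg.IsMinimalOver (T : Subgroup H)) : Cfsg.IsPIrreducible p H := by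
  obtain ⟨hcl, M, ⟨hMco, hTM⟩, hMuniq⟩ := hmin
  constructor
  · intro hpc
    have hTn : (T : Subgroup H).Normal := hpc T
    have hT : (T : Subgroup H) = ⊤ := by
      rw [← hcl]; exact (Subgroup.normalClosure_eq_self (T : Subgroup H)).symm
    apply hMco.1
    rw [eq_top_iff, ← hT]
    exact hTM
  · intro N hN hNpc
    haveI := hN
    apply pResidual_le_of_sup_eq_top N (T : Subgroup H) T.isPGroup'
    by_contra hne
    obtain ⟨M', hM'co, hM'⟩ :=
      (eq_top_or_exists_le_coatom (N ⊔ (T : Subgroup H))).resolve_left hne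
    have hM'M : M' = M := hMuniq M' ⟨hM'co, le_sup_right.trans hM'⟩
    have hNM : N ≤ M := by rw [← hM'M]; exact le_sup_left.trans hM'
    have hfr := frattini_inf_sylow N T
    have hTQ : (T : Subgroup H) ≤
        Subgroup.normalizer ((N ⊓ (T : Subgroup H) : Subgroup H) : Set H) := by
      intro t ht
      apply mem_normalizer_of_forall
      · intro x hx
        rw [Subgroup.mem_inf] at hx ⊢
        exact ⟨hN.conj_mem x hx.1 t, (T : Subgroup H).mul_mem ((T : Subgroup H).mul_mem ht hx.2)
          ((T : Subgroup H).inv_mem ht)⟩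
      · intro x hx
        rw [Subgroup.mem_inf] at hx ⊢
        have := hN.conj_mem x hx.1 t⁻¹
        rw [inv_inv] at this
        exact ⟨this, (T : Subgroup H).mul_mem ((T : Subgroup H).mul_mem
          ((T : Subgroup H).inv_mem ht) hx.2) ht⟩
    have hQtop : Subgroup.normalizer ((N ⊓ (T : Subgroup H) : Subgroup H) : Set H) = ⊤ := by
      by_contra hne2
      obtain ⟨M₂, hM₂co, hM₂⟩ := (eq_top_or_exists_le_coatom _).resolve_left hne2
      have hM₂M : M₂ = M := hMuniq M₂ ⟨hM₂co, hTQ.trans hM₂⟩
      apply hMco.1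
      rw [eq_top_iff, ← hfr]
      refine sup_le hNM ?_
      rw [← hM₂M]; exact hM₂
    have hQn : (N ⊓ (T : Subgroup H)).Normal := Subgroup.normalizer_eq_top_iff.mp hQtop
    have hQle : N ⊓ (T : Subgroup H) ≤ pCore p H :=
      le_pCore hQn (T.isPGroup'.to_le inf_le_right)
    apply hNpc
    rw [isPClosed_subgroup_iff]
    rintro x hxN ⟨a, ha⟩
    obtain ⟨g, hx1⟩ := exists_conj_mem_sylow T x a ha
    have hx2 : g⁻¹ * x * g ∈ N := by
      have := hN.conj_mem x hxN g⁻¹
      rwa [inv_inv] at this
    have hx3 : g⁻¹ * x * g ∈ pCore p H := hQle ⟨hx2, hx1⟩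
    have := (pCore_normal p H).conj_mem _ hx3 g
    have e : g * (g⁻¹ * x * g) * g⁻¹ = x := by group
    rwa [e] at this

end Cfsg.Agent.S2831
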