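-- Statement S2832: quotients of T-minimal groups.
import Cfsg.Statements.S2832
import Cfsg.Agent.Helper14.PIrred

set_option autoImplicit false
open Cfsg

namespace Cfsg.Agent.S2832

open Cfsg.Agent.Helper14

/-- Let H be a finite group with Sylow p-subgroup T such that H is T-minimal (generated by the conjugates of T, with T in exactly one maximal subgroup), and let N be a normal subgroup of H. Then either H/N is a p-group or H/N is minimal over the image of T in the same sense. -/
theorem result {H : Type*} [Group H] [Finite H] {p : ℕ} [Fact p.Prime] (T : Sylow p H) (hmin : Cfsg.IsMinimalOver (T : Subgroup H)) (N : Subgroup H) [N.Normal] : IsPGroup p (H ⧸ N) ∨ Cfsg.IsMinimalOver ((T : Subgroup H).map (QuotientGroup.mk' N)) := by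
  obtain ⟨hcl, M, ⟨hMco, hTM⟩, hMuniq⟩ := hmin
  by_cases hNT : N ⊔ (T : Subgroup H) = ⊤
  · left
    exact isPGroup_quotient_of_sup_eq_top N (T : Subgroup H) T.isPGroup' hNT
  · right
    obtain ⟨M', hM'co, hM'⟩ :=
      (eq_top_or_exists_le_coatom (N ⊔ (T : Subgroup H))).resolve_left hNT
    have hM'M : M' = M := hMuniq M' ⟨hM'co, le_sup_right.trans hM'⟩
    have hNM : N ≤ M := by rw [← hM'M]; exact le_sup_left.trans hM'
    have hsurj : Function.Surjective (QuotientGroup.mk' N) := QuotientGroup.mk'_surjective N
    have hcm : ∀ K : Subgroup H, N ≤ K →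
        (K.map (QuotientGroup.mk' N)).comap (QuotientGroup.mk' N) = K := by
      intro K hK
      rw [QuotientGroup.comap_map_mk', sup_eq_right.mpr hK]
    have hmc : ∀ K : Subgroup (H ⧸ N),
        (K.comap (QuotientGroup.mk' N)).map (QuotientGroup.mk' N) = K :=
      fun K => Subgroup.map_comap_eq_self_of_surjective hsurj K
    have hNle : ∀ K : Subgroup (H ⧸ N), N ≤ K.comap (QuotientGroup.mk' N) := by
      intro K n hn
      rw [Subgroup.mem_comap]
      have : QuotientGroup.mk' N n = 1 := (QuotientGroup.eq_one_iff n).mpr hn
      rw [this]; exact one_mem _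
    have htop : (⊤ : Subgroup H).map (QuotientGroup.mk' N) = ⊤ :=
      Subgroup.map_top_of_surjective _ hsurj
    refine ⟨?_, M.map (QuotientGroup.mk' N), ⟨⟨?_, ?_⟩, Subgroup.map_mono hTM⟩, ?_⟩
    · have := Subgroup.map_normalClosure ((T : Subgroup H) : Set H) (QuotientGroup.mk' N) hsurj
      rw [hcl, htop] at this
      rw [Subgroup.coe_map]
      exact this.symm
    · intro h
      apply hMco.1
      rw [← hcm M hNM, h, Subgroup.comap_top]
    · intro K hK
      have h1 : M ≤ K.comap (QuotientGroup.mk' N) := by
        rw [← hcm M hNM]; exact Subgroup.comap_mono hK.le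
      have h2 : M ≠ K.comap (QuotientGroup.mk' N) := by
        intro h
        apply hK.ne
        rw [h, hmc]
      have h3 := hMco.2 _ (lt_of_le_of_ne h1 h2)
      rw [← hmc K, h3, htop]
    · rintro K ⟨hKco, hTK⟩
      have hM'' : IsCoatom (K.comap (QuotientGroup.mk' N)) := by
        constructor
        · intro h
          apply hKco.1
          rw [← hmc K, h, htop]
        · intro L hL
          have hNL : N ≤ L := (hNle K).trans hL.le
          have h1 : K ≤ L.map (QuotientGroup.mk' N) := by
            rw [← hmc K]; exact Subgroup.map_mono hL.le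
          have h2 : K ≠ L.map (QuotientGroup.mk' N) := by
            intro h
            apply hL.ne
            rw [h, hcm L hNL]
          have h3 := hKco.2 _ (lt_of_le_of_ne h1 h2)
          rw [← hcm L hNL, h3, Subgroup.comap_top]
      have hTK' : (T : Subgroup H) ≤ K.comap (QuotientGroup.mk' N) := by
        rw [← Subgroup.map_le_iff_le_comap]; exact hTK
      have := hMuniq _ ⟨hM'', hTK'⟩
      rw [← hmc K, this]

end Cfsg.Agent.S2832
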