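import Cfsg.Statements.S2833
import Cfsg.Agent.Helper14.Comm

set_option autoImplicit false
open Cfsg

namespace Cfsg.Agent.S2833

open Cfsg.Agent.Helper14

/-- Elements `l` normalizing `W₀` with `[v, l] ∈ W₀` for all `v ∈ V`. -/
def commD {G : Type*} [Group G] (V W₀ : Subgroup G) : Subgroup G where
  carrier := {l | l ∈ Subgroup.normalizer (W₀ : Set G) ∧ ∀ v ∈ V, v * l * v⁻¹ * l⁻¹ ∈ W₀}
  one_mem' := ⟨Subgroup.one_mem _, fun v _ => by simp⟩
  mul_mem' := by
    rintro a b ⟨ha, ha'⟩ ⟨hb, hb'⟩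
    refine ⟨Subgroup.mul_mem _ ha hb, fun v hv => ?_⟩
    have e : v * (a * b) * v⁻¹ * (a * b)⁻¹ =
        (v * a * v⁻¹ * a⁻¹) * (a * (v * b * v⁻¹ * b⁻¹) * a⁻¹) := by group
    rw [e]
    exact W₀.mul_mem (ha' v hv) ((Subgroup.mem_normalizer_iff.mp ha _).mp (hb' v hv))
  inv_mem' := by
    rintro a ⟨ha, ha'⟩
    refine ⟨Subgroup.inv_mem _ ha, fun v hv => ?_⟩
    have e : v * a⁻¹ * v⁻¹ * a⁻¹⁻¹ = a⁻¹ * (v * a * v⁻¹ * a⁻¹)⁻¹ * a⁻¹⁻¹ := by group
    rw [e]
    exact (Subgroup.mem_normalizer_iff.mp (Subgroup.inv_mem _ ha) _).mp (W₀.inv_mem (ha' v hv))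

theorem mem_commD {G : Type*} [Group G] (V W₀ : Subgroup G) (l : G) :
    l ∈ commD V W₀ ↔ (l ∈ Subgroup.normalizer (W₀ : Set G) ∧ ∀ v ∈ V, v * l * v⁻¹ * l⁻¹ ∈ W₀) :=
  Iff.rfl

/-- Let V be a subgroup of a finite group G normalized by the subgroup L, let X ≤ L and g ∈ L with [V, X, X] = 1 and L generated by X and gXg⁻¹. Put W = [V, L]. Then W = [V, X]·[V, gXg⁻¹], C_W(X) = [V, X], and C_W(L) = [V, X] ∩ [V, gXg⁻¹]. -/
theorem result {G : Type*} [Group G] [Finite G] (V L : Subgroup G) (hLV : L ≤ Subgroup.normalizer (V : Set G)) (X : Subgroup G) (hX : X ≤ L) (g : G) (hg : g ∈ L) (hq : ⁅⁅V, X⁆, X⁆ = ⊥) (hgen : X ⊔ X.map (MulAut.conj g).toMonoidHom = L) (W : Subgroup G) (hW : W = ⁅V, L⁆) : ⁅V, X⁆ ⊔ ⁅V, X.map (MulAut.conj g).toMonoidHom⁆ = W ∧ W ⊓ Subgroup.centralizer (X : Set G) = ⁅V, X⁆ ∧ W ⊓ Subgroup.centralizer (L : Set G) = ⁅V, X⁆ ⊓ ⁅V, X.map (MulAut.conj g).toMonoidHom⁆ := by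
  subst hW
  have hXgL : X.map (MulAut.conj g).toMonoidHom ≤ L := by
    rintro _ ⟨x, hx, rfl⟩
    exact L.mul_mem (L.mul_mem hg (hX hx)) (L.inv_mem hg)
  have eV : V.map (MulAut.conj g).toMonoidHom = V :=
    Subgroup.mem_normalizer_iff_map_conj_eq.mp (hLV hg)
  have eC : (⁅V, X⁆).map (MulAut.conj g).toMonoidHom =
      ⁅V, X.map (MulAut.conj g).toMonoidHom⁆ := by
    rw [Subgroup.map_commutator, eV]
  have hq' : ⁅⁅V, X.map (MulAut.conj g).toMonoidHom⁆, X.map (MulAut.conj g).toMonoidHom⁆ = ⊥ := by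
    rw [← eC, ← Subgroup.map_commutator, hq, Subgroup.map_bot]
  have hVX : ⁅V, X⁆ ≤ V := commutator_le_left_of_le_normalizer V X (hX.trans hLV)
  have hVXg : ⁅V, X.map (MulAut.conj g).toMonoidHom⁆ ≤ V :=
    commutator_le_left_of_le_normalizer V _ (hXgL.trans hLV)
  have hcX := Subgroup.commutator_eq_bot_iff_le_centralizer.mp hq
  have hcXg := Subgroup.commutator_eq_bot_iff_le_centralizer.mp hq'
  have c1 : ⁅V, X⁆ ⊔ ⁅V, X.map (MulAut.conj g).toMonoidHom⁆ = ⁅V, L⁆ := by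
    apply le_antisymm
    · exact sup_le (Subgroup.commutator_mono le_rfl hX) (Subgroup.commutator_mono le_rfl hXgL)
    · have hXD : X ≤ commD V (⁅V, X⁆ ⊔ ⁅V, X.map (MulAut.conj g).toMonoidHom⁆) := by
        intro x hx
        refine (mem_commD _ _ _).mpr
          ⟨le_normalizer_of_commutator_le V X _ le_sup_left (sup_le hVX hVXg) hx, fun v hv => ?_⟩
        have := Subgroup.commutator_mem_commutator hv hx
        rw [commutatorElement_def] at this
        exact (le_sup_left : ⁅V, X⁆ ≤ _) this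
      have hXgD : X.map (MulAut.conj g).toMonoidHom ≤
          commD V (⁅V, X⁆ ⊔ ⁅V, X.map (MulAut.conj g).toMonoidHom⁆) := by
        intro x hx
        refine (mem_commD _ _ _).mpr
          ⟨le_normalizer_of_commutator_le V _ _ le_sup_right (sup_le hVX hVXg) hx, fun v hv => ?_⟩
        have := Subgroup.commutator_mem_commutator hv hx
        rw [commutatorElement_def] at this
        exact (le_sup_right : ⁅V, X.map (MulAut.conj g).toMonoidHom⁆ ≤ _) this
      have hLD : L ≤ commD V (⁅V, X⁆ ⊔ ⁅V, X.map (MulAut.conj g).toMonoidHom⁆) := by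
        have h := sup_le hXD hXgD
        rw [hgen] at h
        exact h
      rw [Subgroup.commutator_le]
      intro v hv l hl
      rw [commutatorElement_def]
      exact ((mem_commD _ _ _).mp (hLD hl)).2 v hv
  have c2 : ⁅V, L⁆ ⊓ Subgroup.centralizer (X : Set G) = ⁅V, X⁆ := by
    apply le_antisymm
    · intro w hw
      rw [Subgroup.mem_inf] at hw
      obtain ⟨hwW, hwC⟩ := hw
      have hwW' := c1.ge hwW
      obtain ⟨a, ha, b, hb, rfl⟩ := exists_mul_of_mem_sup_normalizer _ _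
        (hVXg.trans (le_normalizer_commutator_left V X)) hwW'
      have hbX : b ∈ Subgroup.centralizer (X : Set G) := by
        have := Subgroup.mul_mem _ (Subgroup.inv_mem _ (hcX ha)) hwC
        rwa [inv_mul_cancel_left] at this
      have hbXg := hcXg hb
      have hbL : b ∈ Subgroup.centralizer (L : Set G) := by
        have h := mem_centralizer_sup X _ b hbX hbXg
        rw [hgen] at h
        exact h
      have hbg : g * b = b * g := Subgroup.mem_centralizer_iff.mp hbL g hg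
      have hb2 : b ∈ (⁅V, X⁆).map (MulAut.conj g).toMonoidHom := eC.ge hb
      have hb' : g⁻¹ * b * g ∈ ⁅V, X⁆ := (mem_map_conj _ g b).mp hb2
      have e : g⁻¹ * b * g = b := by rw [mul_assoc, ← hbg, inv_mul_cancel_left]
      rw [e] at hb'
      exact Subgroup.mul_mem _ ha hb'
    · exact le_inf (Subgroup.commutator_mono le_rfl hX) hcX
  have c3 : ⁅V, L⁆ ⊓ Subgroup.centralizer (L : Set G) =
      ⁅V, X⁆ ⊓ ⁅V, X.map (MulAut.conj g).toMonoidHom⁆ := by
    apply le_antisymm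
    · intro w hw
      rw [Subgroup.mem_inf] at hw
      obtain ⟨hwW, hwC⟩ := hw
      have hwX : w ∈ Subgroup.centralizer (X : Set G) :=
        Subgroup.mem_centralizer_iff.mpr
          (fun x hx => Subgroup.mem_centralizer_iff.mp hwC x (hX hx))
      have hw1 : w ∈ ⁅V, X⁆ := c2.le (Subgroup.mem_inf.mpr ⟨hwW, hwX⟩)
      have hgw : g * w = w * g := Subgroup.mem_centralizer_iff.mp hwC g hg
      have hw2 : g * w * g⁻¹ ∈ ⁅V, X.map (MulAut.conj g).toMonoidHom⁆ :=
        eC.le (conj_mem_map_conj _ g hw1)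
      have e : g * w * g⁻¹ = w := by rw [hgw, mul_inv_cancel_right]
      rw [e] at hw2
      exact Subgroup.mem_inf.mpr ⟨hw1, hw2⟩
    · intro w hw
      rw [Subgroup.mem_inf] at hw
      refine Subgroup.mem_inf.mpr ⟨Subgroup.commutator_mono le_rfl hX hw.1, ?_⟩
      have h := mem_centralizer_sup X _ w (hcX hw.1) (hcXg hw.2)
      rw [hgen] at h
      exact h
  exact ⟨c1, c2, c3⟩

end Cfsg.Agent.S2833
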