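-- Statement S2835: Y-minimal groups with a maximal subgroup.
import Cfsg.Statements.S2835
import Cfsg.Agent.Helper14.PIrred2

set_option autoImplicit false
open Cfsg

namespace Cfsg.Agent.S2835

open Cfsg.Agent.Helper14

/-- Let L be a finite group, L₀ a maximal subgroup, T a Sylow p-subgroup of L₀ and Y ≤ T, and suppose L is Y-minimal (generated by the conjugates of Y, with Y in exactly one maximal subgroup, necessarily L₀). Then N_L(T) ≤ L₀, O_p(L) ≤ L₀ and T is a Sylow p-subgroup of L; N_L(L₀) = L₀; L = ⟨Y, gYg⁻¹⟩ for each g ∈ L outside L₀; and if Y is abelian then Y ∩ gYg⁻¹ = C_Y(L) for each such g. -/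
theorem result {L : Type*} [Group L] [Finite L] {p : ℕ} [Fact p.Prime] (L₀ : Subgroup L) (hL₀ : IsCoatom L₀) (T : Sylow p ↥L₀) (Y : Subgroup L) (hYT : Y ≤ (T : Subgroup ↥L₀).map L₀.subtype) (hmin : Cfsg.IsMinimalOver Y) : Subgroup.normalizer (((T : Subgroup ↥L₀).map L₀.subtype : Subgroup L) : Set L) ≤ L₀ ∧ Cfsg.pCore p L ≤ L₀ ∧ (∃ P : Sylow p L, (P : Subgroup L) = (T : Subgroup ↥L₀).map L₀.subtype) ∧ Subgroup.normalizer (L₀ : Set L) = L₀ ∧ (∀ g : L, g ∉ L₀ → Y ⊔ Y.map (MulAut.conj g).toMonoidHom = ⊤) ∧ (IsMulCommutative ↥Y → ∀ g : L, g ∉ L₀ → Y ⊓ Y.map (MulAut.conj g).toMonoidHom = Y ⊓ Subgroup.center L) := by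
  obtain ⟨hcl, M, ⟨hMco, hYM⟩, hMuniq⟩ := hmin
  have hT'L₀ : (T : Subgroup ↥L₀).map L₀.subtype ≤ L₀ := Subgroup.map_subtype_le _
  have hT'p : IsPGroup p ((T : Subgroup ↥L₀).map L₀.subtype) := T.isPGroup'.map _
  have hYL₀ : Y ≤ L₀ := hYT.trans hT'L₀
  have hML₀ : L₀ = M := hMuniq L₀ ⟨hL₀, hYL₀⟩
  have huniq : ∀ K : Subgroup L, IsCoatom K → Y ≤ K → K = L₀ := by
    intro K hK hYK
    rw [hML₀]; exact hMuniq K ⟨hK, hYK⟩
  -- (4)
  have h4 : Subgroup.normalizer (L₀ : Set L) = L₀ := by
    by_contra hne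
    have hlt : L₀ < Subgroup.normalizer (L₀ : Set L) :=
      lt_of_le_of_ne Subgroup.le_normalizer (Ne.symm hne)
    have htop := hL₀.2 _ hlt
    have hn : L₀.Normal := Subgroup.normalizer_eq_top_iff.mp htop
    apply hL₀.1
    rw [eq_top_iff, ← hcl]
    exact Subgroup.normalClosure_le_normal (N := L₀) (fun x hx => hYL₀ hx)
  -- (5)
  have h5 : ∀ g : L, g ∉ L₀ → Y ⊔ Y.map (MulAut.conj g).toMonoidHom = ⊤ := by
    intro g hg
    by_contra hne
    obtain ⟨K, hKco, hK⟩ := (eq_top_or_exists_le_coatom _).resolve_left hne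
    have hKL₀ : K = L₀ := huniq K hKco (le_sup_left.trans hK)
    have hYg : Y.map (MulAut.conj g).toMonoidHom ≤ L₀ := by
      rw [← hKL₀]; exact le_sup_right.trans hK
    have hY' : Y ≤ L₀.map (MulAut.conj g⁻¹).toMonoidHom := (map_conj_le_iff Y L₀ g).mp hYg
    have hco := isCoatom_map_conj L₀ g⁻¹ hL₀
    have heq := huniq _ hco hY'
    have hginv : g⁻¹ ∈ Subgroup.normalizer (L₀ : Set L) :=
      Subgroup.mem_normalizer_iff_map_conj_eq.mpr heq
    rw [h4] at hginv
    exact hg (by simpa using L₀.inv_mem hginv)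
  -- (1)
  have h1 : Subgroup.normalizer (((T : Subgroup ↥L₀).map L₀.subtype : Subgroup L) : Set L) ≤ L₀ := by
    intro n hn
    by_contra hnL
    have htop := h5 n hnL
    have hle : Y ⊔ Y.map (MulAut.conj n).toMonoidHom ≤ (T : Subgroup ↥L₀).map L₀.subtype := by
      apply sup_le hYT
      have e : ((T : Subgroup ↥L₀).map L₀.subtype).map (MulAut.conj n).toMonoidHom =
          (T : Subgroup ↥L₀).map L₀.subtype := Subgroup.mem_normalizer_iff_map_conj_eq.mp hn
      rw [← e]
      exact Subgroup.map_mono hYT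
    apply hL₀.1
    rw [eq_top_iff, ← htop]
    exact hle.trans hT'L₀
  -- (3)
  have h3 : ∃ P : Sylow p L, (P : Subgroup L) = (T : Subgroup ↥L₀).map L₀.subtype := by
    obtain ⟨P, hP⟩ := hT'p.exists_le_sylow
    by_cases hPL : (P : Subgroup L) ≤ L₀
    · refine ⟨P, ?_⟩
      have hsub : IsPGroup p ((P : Subgroup L).subgroupOf L₀) :=
        P.isPGroup'.comap_of_injective L₀.subtype Subtype.coe_injective
      have hle : (T : Subgroup ↥L₀) ≤ (P : Subgroup L).subgroupOf L₀ := by
        intro t ht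
        rw [Subgroup.mem_subgroupOf]
        exact hP ⟨t, ht, rfl⟩
      have heq := T.is_maximal' hsub hle
      rw [← heq]
      exact (Subgroup.map_subgroupOf_eq_of_le hPL).symm
    · exfalso
      obtain ⟨g, hgP, hgL⟩ := SetLike.not_le_iff_exists.mp hPL
      have htop := h5 g hgL
      have hle : Y ⊔ Y.map (MulAut.conj g).toMonoidHom ≤ (P : Subgroup L) := by
        apply sup_le (hYT.trans hP)
        rintro _ ⟨y, hy, rfl⟩
        show g * y * g⁻¹ ∈ (P : Subgroup L)
        exact (P : Subgroup L).mul_mem ((P : Subgroup L).mul_mem hgP (hP (hYT hy)))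
          ((P : Subgroup L).inv_mem hgP)
      have hPtop : (P : Subgroup L) = ⊤ := by
        rw [eq_top_iff, ← htop]; exact hle
      have hLp : IsPGroup p L := by
        intro x
        obtain ⟨k, hk⟩ := P.isPGroup' ⟨x, by rw [hPtop]; exact Subgroup.mem_top x⟩
        exact ⟨k, congrArg Subtype.val hk⟩
      haveI : Group.IsNilpotent L := hLp.isNilpotent
      have hnc := normalizerCondition_of_isNilpotent (G := L) L₀ (lt_top_iff_ne_top.mpr hL₀.1)
      rw [h4] at hnc
      exact lt_irrefl _ hnc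
  refine ⟨h1, ?_, h3, h4, h5, ?_⟩
  · obtain ⟨P, hP⟩ := h3
    have := pCore_le_sylow (p := p) P
    rw [hP] at this
    exact this.trans hT'L₀
  · intro hYc g hg
    have htop := h5 g hg
    apply le_antisymm
    · intro x hx
      rw [Subgroup.mem_inf] at hx ⊢
      refine ⟨hx.1, ?_⟩
      rw [Subgroup.mem_center_iff]
      -- centralizer of x contains Y and Y^g
      have hc : Y ⊔ Y.map (MulAut.conj g).toMonoidHom ≤ Subgroup.centralizer ({x} : Set L) := by
        apply sup_le
        · intro y hy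
          rw [Subgroup.mem_centralizer_iff]
          intro h hh
          rw [Set.mem_singleton_iff] at hh
          rw [hh]
          have := hYc.is_comm.comm (⟨x, hx.1⟩ : ↥Y) ⟨y, hy⟩
          exact congrArg Subtype.val this
        · rintro _ ⟨y, hy, rfl⟩
          rw [Subgroup.mem_centralizer_iff]
          intro h hh
          rw [Set.mem_singleton_iff] at hh
          rw [hh]
          obtain ⟨x', hx', hxx'⟩ := hx.2
          have := hYc.is_comm.comm (⟨x', hx'⟩ : ↥Y) ⟨y, hy⟩
          have hxy : x' * y = y * x' := congrArg Subtype.val this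
          show x * (g * y * g⁻¹) = g * y * g⁻¹ * x
          have hx'' : x = g * x' * g⁻¹ := hxx'.symm
          rw [hx'']
          calc g * x' * g⁻¹ * (g * y * g⁻¹) = g * (x' * y) * g⁻¹ := by group
            _ = g * (y * x') * g⁻¹ := by rw [hxy]
            _ = g * y * g⁻¹ * (g * x' * g⁻¹) := by group
      intro z
      have hz : z ∈ Subgroup.centralizer ({x} : Set L) := hc (by rw [htop]; exact Subgroup.mem_top z)
      have := (Subgroup.mem_centralizer_iff.mp hz) x (Set.mem_singleton x)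
      exact this.symm
    · intro x hx
      rw [Subgroup.mem_inf] at hx ⊢
      refine ⟨hx.1, ?_⟩
      have hcomm := (Subgroup.mem_center_iff.mp hx.2) g
      refine ⟨x, hx.1, ?_⟩
      show g * x * g⁻¹ = x
      rw [hcomm]; group

end Cfsg.Agent.S2835
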