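-- S2836: proof by helper7
import Cfsg.Statements.S2836
import Mathlib
import Cfsg.Agent.Helper1.Fitting
import Cfsg.Agent.Helper7.PLocal

set_option autoImplicit false
open Cfsg

namespace Cfsg.Agent.S2836

/-- A `p`-subgroup is conjugate into any subgroup of index prime to `p`. -/
theorem exists_conj_mem_of_not_dvd_index {G : Type*} [Group G] {p : ℕ} [Fact p.Prime]
    (A X : Subgroup G) (hA : IsPGroup p ↥A) (hX : ¬ p ∣ X.index) :
    ∃ g : G, ∀ a ∈ A, g⁻¹ * a * g ∈ X := by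
  obtain ⟨q, hq⟩ := hA.nonempty_fixed_point_of_prime_not_dvd_card (G ⧸ X) hX
  obtain ⟨g, rfl⟩ := QuotientGroup.mk_surjective q
  refine ⟨g, fun a ha => ?_⟩
  have h1 : (⟨a, ha⟩ : ↥A) • (QuotientGroup.mk g : G ⧸ X) = QuotientGroup.mk g := hq ⟨a, ha⟩
  have h2 : (QuotientGroup.mk (a * g) : G ⧸ X) = QuotientGroup.mk g := h1
  have h3 : (a * g)⁻¹ * g ∈ X := QuotientGroup.eq.mp h2
  have h4 := X.inv_mem h3
  have h5 : ((a * g)⁻¹ * g)⁻¹ = g⁻¹ * a * g := by group
  rw [h5] at h4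
  exact h4

theorem isCoatom_comap {G H : Type*} [Group G] [Group H] (f : G →* H)
    (hf : Function.Surjective f) (M : Subgroup H) (hM : IsCoatom M) : IsCoatom (M.comap f) := by
  constructor
  · intro h
    apply hM.1
    rw [← Subgroup.map_comap_eq_self_of_surjective hf M, h, Subgroup.map_top_of_surjective f hf]
  · intro K hK
    have h1 : M ≤ K.map f := by
      rw [← Subgroup.map_comap_eq_self_of_surjective hf M]
      exact Subgroup.map_mono hK.le
    have h2 : K.map f ≠ M := by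
      intro h
      have h' : K ≤ M.comap f := by rw [← h]; exact Subgroup.le_comap_map f K
      exact absurd hK (not_lt_of_ge h')
    have h3 : K.map f = ⊤ := hM.2 _ (lt_of_le_of_ne h1 (Ne.symm h2))
    have hker : f.ker ≤ K := (MonoidHom.ker_le_comap f M).trans hK.le
    rw [← Subgroup.comap_map_eq_self hker, h3, Subgroup.comap_top]

theorem le_of_ne_top {L : Type*} [Group L] [Finite L] (L₀ Y : Subgroup L) (hL₀ : IsCoatom L₀)
    (hY : Y ≤ L₀) (hmin : Cfsg.IsMinimalOver Y) (H : Subgroup L) (hYH : Y ≤ H) (hH : H ≠ ⊤) :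
    H ≤ L₀ := by
  obtain ⟨M, hM, hHM⟩ := (eq_top_or_exists_le_coatom H).resolve_left hH
  have h := hmin.2.unique ⟨hM, hYH.trans hHM⟩ ⟨hL₀, hY⟩
  rw [← h]; exact hHM

theorem exists_conj_le {L : Type*} [Group L] [Finite L] {p : ℕ} [Fact p.Prime]
    (L₀ : Subgroup L) (T : Sylow p ↥L₀) (R : Subgroup L) (hR : R ≤ L₀) (hRp : IsPGroup p ↥R) :
    ∃ h ∈ L₀, ∀ x ∈ R, h * x * h⁻¹ ∈ (T : Subgroup ↥L₀).map L₀.subtype := by
  have hRp' : IsPGroup p ↥(R.subgroupOf L₀) := hRp.comap_subtype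
  obtain ⟨g, hg⟩ := exists_conj_mem_of_not_dvd_index (R.subgroupOf L₀) (T : Subgroup ↥L₀) hRp'
    T.not_dvd_index
  refine ⟨((g⁻¹ : ↥L₀) : L), (g⁻¹ : ↥L₀).2, ?_⟩
  intro x hx
  have h1 := hg ⟨x, hR hx⟩ (Subgroup.mem_subgroupOf.mpr hx)
  refine ⟨g⁻¹ * ⟨x, hR hx⟩ * g, h1, ?_⟩
  show (g : L)⁻¹ * x * (g : L) = ((g⁻¹ : ↥L₀) : L) * x * ((g⁻¹ : ↥L₀) : L)⁻¹
  rw [Subgroup.coe_inv, inv_inv]

theorem mem_normalizer_of_conj_mem {L : Type*} [Group L] [Finite L] (S : Subgroup L) (k : L)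
    (h : ∀ s ∈ S, k * s * k⁻¹ ∈ S) : k ∈ Subgroup.normalizer (S : Set L) := by
  have hz : Subgroup.zpowers k ≤ Subgroup.normalizer (S : Set L) := by
    apply Helper7.le_normalizer_of_conj_mem
    intro x hx s hs
    obtain ⟨n, hn⟩ := (Submonoid.mem_powers_iff _ _).mp
      ((isOfFinOrder_of_finite k).mem_powers_iff_mem_zpowers.mpr hx)
    rw [← hn]
    clear hn hx
    induction n generalizing s with
    | zero => simpa using hs
    | succ m ih =>
      have h1 := ih (k * s * k⁻¹) (h s hs)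
      have e : k ^ (m + 1) * s * (k ^ (m + 1))⁻¹ = k ^ m * (k * s * k⁻¹) * (k ^ m)⁻¹ := by
        rw [pow_succ]; group
      rw [e]; exact h1
  exact hz (Subgroup.mem_zpowers k)

theorem inf_normal {L : Type*} [Group L] [Finite L] {p : ℕ} [Fact p.Prime] (L₀ Y : Subgroup L)
    (hL₀ : IsCoatom L₀) (T : Sylow p ↥L₀) (hYT : Y ≤ (T : Subgroup ↥L₀).map L₀.subtype)
    (hmin : Cfsg.IsMinimalOver Y) (N : Subgroup L) [hN : N.Normal] (hNL : N ≤ L₀) :
    ((T : Subgroup ↥L₀).map L₀.subtype ⊓ N).Normal := by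
  obtain ⟨T', hT'⟩ : ∃ T' : Subgroup L, T' = (T : Subgroup ↥L₀).map L₀.subtype := ⟨_, rfl⟩
  have hex := exists_conj_le L₀ T
  rw [← hT'] at hYT hex ⊢
  have hT'L : T' ≤ L₀ := by rw [hT']; exact Subgroup.map_subtype_le _
  have hT'p : IsPGroup p ↥T' := by rw [hT']; exact T.isPGroup'.map _
  obtain ⟨S, hS⟩ : ∃ S : Subgroup L, S = T' ⊓ N := ⟨_, rfl⟩
  rw [← hS]
  have hSp : IsPGroup p ↥S := by rw [hS]; exact hT'p.to_le inf_le_left
  have hTS : T' ≤ Subgroup.normalizer (S : Set L) := by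
    rw [hS]
    exact Helper7.le_normalizer_inf Subgroup.le_normalizer
      (by rw [Subgroup.normalizer_eq_top_iff.mpr hN]; exact le_top)
  have hsup : L₀ ⊔ Subgroup.normalizer (S : Set L) = ⊤ := by
    rw [eq_top_iff]
    intro g _
    obtain ⟨R, hRdef⟩ : ∃ R : Subgroup L, R = S.map (MulAut.conj g).toMonoidHom := ⟨_, rfl⟩
    have hRN : R ≤ N := by
      rw [hRdef]
      rintro _ ⟨s, hs, rfl⟩
      have hsN : s ∈ N := by rw [hS] at hs; exact hs.2
      exact hN.conj_mem s hsN g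
    have hRp : IsPGroup p ↥R := by rw [hRdef]; exact hSp.map _
    obtain ⟨h, hh, hconj⟩ := hex R (hRN.trans hNL) hRp
    have hk : h * g ∈ Subgroup.normalizer (S : Set L) := by
      apply mem_normalizer_of_conj_mem
      intro s hs
      have h1 : g * s * g⁻¹ ∈ R := by rw [hRdef]; exact ⟨s, hs, rfl⟩
      have h2 := hconj _ h1
      have h3 : h * (g * s * g⁻¹) * h⁻¹ ∈ N := hN.conj_mem _ (hRN h1) h
      have e : h * g * s * (h * g)⁻¹ = h * (g * s * g⁻¹) * h⁻¹ := by group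
      rw [e, hS]
      exact ⟨h2, h3⟩
    have e : g = h⁻¹ * (h * g) := by group
    rw [e]
    exact Subgroup.mul_mem _ (Subgroup.mem_sup_left (L₀.inv_mem hh)) (Subgroup.mem_sup_right hk)
  rw [← Subgroup.normalizer_eq_top_iff]
  by_contra hne
  have hle := le_of_ne_top L₀ Y hL₀ (hYT.trans hT'L) hmin _ (hYT.trans hTS) hne
  have htop : L₀ = ⊤ := by
    rw [eq_top_iff, ← hsup]
    exact sup_le le_rfl hle
  exact hL₀.1 htop

theorem sylow_eq {L : Type*} [Group L] [Finite L] {p : ℕ} [Fact p.Prime] (L₀ : Subgroup L)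
    (T : Sylow p ↥L₀) (N : Subgroup L) [hN : N.Normal] (hNL : N ≤ L₀)
    (hSn : ((T : Subgroup ↥L₀).map L₀.subtype ⊓ N).Normal) (P : Sylow p ↥N) :
    (P : Subgroup ↥N) = ((T : Subgroup ↥L₀).map L₀.subtype ⊓ N).subgroupOf N := by
  have hSp : IsPGroup p ↥(((T : Subgroup ↥L₀).map L₀.subtype ⊓ N).subgroupOf N) :=
    ((T.isPGroup'.map L₀.subtype).to_le inf_le_left).comap_subtype
  have hle : (P : Subgroup ↥N) ≤ ((T : Subgroup ↥L₀).map L₀.subtype ⊓ N).subgroupOf N := by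
    have hP'p : IsPGroup p ↥((P : Subgroup ↥N).map N.subtype) := P.isPGroup'.map _
    have hP'L : (P : Subgroup ↥N).map N.subtype ≤ L₀ := (Subgroup.map_subtype_le _).trans hNL
    obtain ⟨h, hh, hconj⟩ := exists_conj_le L₀ T _ hP'L hP'p
    intro x hx
    rw [Subgroup.mem_subgroupOf]
    have h1 : h * (x : L) * h⁻¹ ∈ (T : Subgroup ↥L₀).map L₀.subtype := hconj _ ⟨x, hx, rfl⟩
    have h2 : h * (x : L) * h⁻¹ ∈ N := hN.conj_mem _ x.2 h
    have h3 := hSn.conj_mem _ (Subgroup.mem_inf.mpr ⟨h1, h2⟩) h⁻¹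
    have e : h⁻¹ * (h * (x : L) * h⁻¹) * h⁻¹⁻¹ = (x : L) := by group
    rw [e] at h3
    exact h3
  exact (P.is_maximal' hSp hle).symm

theorem pCore_eq {L : Type*} [Group L] [Finite L] {p : ℕ} [Fact p.Prime] (L₀ : Subgroup L)
    (T : Sylow p ↥L₀) (N : Subgroup L) [hN : N.Normal] (hNL : N ≤ L₀)
    (hSn : ((T : Subgroup ↥L₀).map L₀.subtype ⊓ N).Normal) :
    Cfsg.pCore p ↥N = ((T : Subgroup ↥L₀).map L₀.subtype ⊓ N).subgroupOf N := by
  apply le_antisymm
  · obtain ⟨Q, hQ⟩ := (Helper1.pCore_isPGroup p ↥N).exists_le_sylow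
    rw [sylow_eq L₀ T N hNL hSn Q] at hQ
    exact hQ
  · exact Helper1.le_pCore (hSn.subgroupOf N)
      (((T.isPGroup'.map L₀.subtype).to_le inf_le_left).comap_subtype)

theorem not_dvd_idx {L : Type*} [Group L] [Finite L] {p : ℕ} [Fact p.Prime] (L₀ : Subgroup L)
    (T : Sylow p ↥L₀) (N : Subgroup L) [hN : N.Normal] (hNL : N ≤ L₀)
    (hSn : ((T : Subgroup ↥L₀).map L₀.subtype ⊓ N).Normal) :
    ¬ p ∣ (((T : Subgroup ↥L₀).map L₀.subtype ⊓ N).subgroupOf N).index := by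
  obtain ⟨P⟩ : Nonempty (Sylow p ↥N) := inferInstance
  rw [← sylow_eq L₀ T N hNL hSn P]
  exact P.not_dvd_index

theorem le_coatom {L : Type*} [Group L] [Finite L] {p : ℕ} [Fact p.Prime] (L₀ Y : Subgroup L)
    (hL₀ : IsCoatom L₀) (T : Sylow p ↥L₀) (hYT : Y ≤ (T : Subgroup ↥L₀).map L₀.subtype)
    (hmin : Cfsg.IsMinimalOver Y) (N : Subgroup L) [hN : N.Normal] (hNL : N ≤ L₀)
    (hSn : ((T : Subgroup ↥L₀).map L₀.subtype ⊓ N).Normal)
    (M : Subgroup L) (hM : IsCoatom M) (hSM : (T : Subgroup ↥L₀).map L₀.subtype ⊓ N ≤ M) :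
    N ≤ M := by
  by_contra hNM
  have hYL : Y ≤ L₀ := hYT.trans (Subgroup.map_subtype_le _)
  have hYp : IsPGroup p ↥Y := (T.isPGroup'.map L₀.subtype).to_le hYT
  have hsup : M ⊔ N = ⊤ := by
    rcases hM.le_iff.mp (le_sup_left : M ≤ M ⊔ N) with h1 | h1
    · exact h1
    · exfalso; apply hNM; rw [← h1]; exact le_sup_right
  have e1 : N.index = N.relIndex M := by
    have h := Subgroup.relIndex_sup_right M N
    rw [hsup, Subgroup.relIndex_top_right] at h
    exact h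
  have e2 : (M ⊓ N).relIndex M * M.index = (M ⊓ N).index :=
    Subgroup.relIndex_mul_index inf_le_left
  have e3 : (M ⊓ N).relIndex N * N.index = (M ⊓ N).index :=
    Subgroup.relIndex_mul_index inf_le_right
  rw [Subgroup.inf_relIndex_left] at e2
  rw [Subgroup.inf_relIndex_right] at e3
  have e4 : M.relIndex N = M.index := by
    have hpos : 0 < N.index := Nat.pos_of_ne_zero Subgroup.index_ne_zero_of_finite
    have h : M.relIndex N * N.index = M.index * N.index := by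
      rw [e3, ← e2, ← e1]
      exact Nat.mul_comm _ _
    exact Nat.eq_of_mul_eq_mul_right hpos h
  have e5 : M.relIndex N ∣ ((T : Subgroup ↥L₀).map L₀.subtype ⊓ N).relIndex N :=
    Subgroup.relIndex_dvd_of_le_left N hSM
  have hidx : ¬ p ∣ M.index := by
    intro hd
    apply not_dvd_idx L₀ T N hNL hSn
    rw [← e4] at hd
    exact hd.trans e5
  obtain ⟨g, hg⟩ := exists_conj_mem_of_not_dvd_index Y M hYp hidx
  obtain ⟨K', hK'⟩ : ∃ K' : Subgroup L, K' = M.map (MulAut.conj g).toMonoidHom := ⟨_, rfl⟩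
  have hYK : Y ≤ K' := by
    intro a ha
    rw [hK']
    refine ⟨g⁻¹ * a * g, hg a ha, ?_⟩
    show g * (g⁻¹ * a * g) * g⁻¹ = a
    group
  have hK'top : K' ≠ ⊤ := by
    intro h
    apply hM.1
    rw [eq_top_iff]
    intro x _
    have hx : g * x * g⁻¹ ∈ K' := by rw [h]; exact Subgroup.mem_top _
    rw [hK'] at hx
    obtain ⟨m, hm, hmx⟩ := hx
    have hmx' : g * m * g⁻¹ = g * x * g⁻¹ := hmx
    have hmx2 : m = x := mul_left_cancel (mul_right_cancel hmx')
    rw [← hmx2]; exact hm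
  have hK'L := le_of_ne_top L₀ Y hL₀ hYL hmin K' hYK hK'top
  obtain ⟨M₂, hM₂⟩ : ∃ M₂ : Subgroup L, M₂ = L₀.comap (MulAut.conj g).toMonoidHom := ⟨_, rfl⟩
  have hMM₂ : M ≤ M₂ := by
    intro m hm
    rw [hM₂, Subgroup.mem_comap]
    apply hK'L
    rw [hK']
    exact ⟨m, hm, rfl⟩
  have hM₂top : M₂ ≠ ⊤ := by
    intro h
    apply hL₀.1
    rw [eq_top_iff]
    intro z _
    have hz : g⁻¹ * z * g ∈ M₂ := by rw [h]; exact Subgroup.mem_top _
    rw [hM₂, Subgroup.mem_comap] at hz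
    have e : (MulAut.conj g).toMonoidHom (g⁻¹ * z * g) = z := by
      show g * (g⁻¹ * z * g) * g⁻¹ = z
      group
    rw [e] at hz
    exact hz
  have hMeq : M₂ = M := by
    rcases hM.le_iff.mp hMM₂ with h1 | h1
    · exact absurd h1 hM₂top
    · exact h1
  apply hNM
  rw [← hMeq]
  intro n hn
  rw [hM₂, Subgroup.mem_comap]
  exact hNL (hN.conj_mem n hn g)

theorem map_le_frattini {L : Type*} [Group L] [Finite L] {p : ℕ} [Fact p.Prime]
    (L₀ Y : Subgroup L) (hL₀ : IsCoatom L₀) (T : Sylow p ↥L₀)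
    (hYT : Y ≤ (T : Subgroup ↥L₀).map L₀.subtype) (hmin : Cfsg.IsMinimalOver Y)
    (N : Subgroup L) [hN : N.Normal] (hNL : N ≤ L₀)
    (hSn : ((T : Subgroup ↥L₀).map L₀.subtype ⊓ N).Normal)
    (S : Subgroup L) [hS : S.Normal] (hTS : (T : Subgroup ↥L₀).map L₀.subtype ⊓ N ≤ S) :
    N.map (QuotientGroup.mk' S) ≤ frattini (L ⧸ S) := by
  unfold frattini Order.radical
  refine le_iInf₂ fun Mb hMb => ?_
  have hMb' : IsCoatom Mb := hMb
  have hc := isCoatom_comap (QuotientGroup.mk' S) (QuotientGroup.mk'_surjective S) Mb hMb'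
  have hSM : S ≤ Mb.comap (QuotientGroup.mk' S) := by
    have h := MonoidHom.ker_le_comap (QuotientGroup.mk' S) Mb
    rw [QuotientGroup.ker_mk'] at h
    exact h
  have hNM := le_coatom L₀ Y hL₀ T hYT hmin N hNL hSn _ hc (hTS.trans hSM)
  exact Subgroup.map_le_iff_le_comap.mpr hNM

theorem nilp_aux {L : Type*} [Group L] [Finite L] (N S : Subgroup L) [hS : S.Normal]
    (K : Subgroup ↥N) [hK : K.Normal] (hKS : K = S.subgroupOf N)
    (hfr : N.map (QuotientGroup.mk' S) ≤ frattini (L ⧸ S)) : Group.IsNilpotent (↥N ⧸ K) := by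
  obtain ⟨φ, hφ⟩ : ∃ φ : ↥N →* L ⧸ S, φ = (QuotientGroup.mk' S).comp N.subtype := ⟨_, rfl⟩
  have hker : φ.ker = K := by
    rw [hKS, hφ]
    ext x
    rw [MonoidHom.mem_ker, Subgroup.mem_subgroupOf]
    exact QuotientGroup.eq_one_iff (x : L)
  have hrange : φ.range ≤ frattini (L ⧸ S) := by
    rintro _ ⟨x, rfl⟩
    apply hfr
    rw [hφ]
    exact ⟨(x : L), x.2, rfl⟩
  haveI hnF : Group.IsNilpotent ↥(frattini (L ⧸ S)) := frattini_nilpotent
  haveI hnR : Group.IsNilpotent ↥(φ.range.subgroupOf (frattini (L ⧸ S))) := inferInstance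
  haveI hnR2 : Group.IsNilpotent ↥φ.range :=
    Group.nilpotent_of_mulEquiv (Subgroup.subgroupOfEquivOfLe hrange)
  haveI hnQ : Group.IsNilpotent (↥N ⧸ φ.ker) :=
    Group.nilpotent_of_mulEquiv (QuotientGroup.quotientKerEquivRange φ).symm
  exact Group.nilpotent_of_mulEquiv (QuotientGroup.quotientMulEquivOfEq hker)


/-- Let L be a finite group, L₀ a maximal subgroup, T a Sylow p-subgroup of L₀, Y ≤ T, and suppose L is Y-minimal. Let D be the intersection of the conjugates of L₀ (the core of L₀). Then D contains O_p(L) and D/O_p(L) is the Frattini subgroup of L/O_p(L), so D is p-closed; and every normal subgroup N of L contained in L₀ is p-closed with N/O_p(N) a nilpotent group of order prime to p. -/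
theorem result {L : Type*} [Group L] [Finite L] {p : ℕ} [Fact p.Prime] (L₀ : Subgroup L) (hL₀ : IsCoatom L₀) (T : Sylow p ↥L₀) (Y : Subgroup L) (hYT : Y ≤ (T : Subgroup ↥L₀).map L₀.subtype) (hmin : Cfsg.IsMinimalOver Y) : (Cfsg.pCore p L ≤ L₀.normalCore ∧ (L₀.normalCore).map (QuotientGroup.mk' (Cfsg.pCore p L)) = frattini (L ⧸ Cfsg.pCore p L) ∧ Cfsg.IsPClosed p ↥(L₀.normalCore)) ∧ ∀ (N : Subgroup L) [N.Normal], N ≤ L₀ → Cfsg.IsPClosed p ↥N ∧ Group.IsNilpotent (↥N ⧸ Cfsg.pCore p ↥N) ∧ (Nat.card (↥N ⧸ Cfsg.pCore p ↥N)).Coprime p := by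
  have hYL : Y ≤ L₀ := hYT.trans (Subgroup.map_subtype_le _)
  have hYp : IsPGroup p ↥Y := (T.isPGroup'.map L₀.subtype).to_le hYT
  have hPL : Cfsg.pCore p L ≤ L₀ := by
    by_contra hcon
    have htop : Y ⊔ Cfsg.pCore p L = ⊤ := by
      by_contra hne
      exact hcon (le_sup_right.trans (le_of_ne_top L₀ Y hL₀ hYL hmin _ le_sup_left hne))
    have hpg : IsPGroup p ↥(Y ⊔ Cfsg.pCore p L) :=
      IsPGroup.to_sup_of_normal_right hYp (Helper1.pCore_isPGroup p L)
    rw [htop] at hpg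
    have hLp : IsPGroup p L := by
      intro g
      obtain ⟨k, hk⟩ := hpg ⟨g, Subgroup.mem_top g⟩
      refine ⟨k, ?_⟩
      have h3 := congrArg Subtype.val hk
      simpa using h3
    have hnil : Group.IsNilpotent L := hLp.isNilpotent
    have htfae := (Group.isNilpotent_of_finite_tfae (G := L)).out 0 2
    haveI hn : L₀.Normal := htfae.mp hnil L₀ hL₀
    have hcl : Subgroup.normalClosure (Y : Set L) ≤ L₀ := Subgroup.normalClosure_le_normal hYL
    rw [hmin.1] at hcl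
    exact hL₀.1 (top_le_iff.mp hcl)
  have hDL : L₀.normalCore ≤ L₀ := Subgroup.normalCore_le L₀
  have hSnD := inf_normal L₀ Y hL₀ T hYT hmin L₀.normalCore hDL
  have hA2 : (L₀.normalCore).map (QuotientGroup.mk' (Cfsg.pCore p L)) =
      frattini (L ⧸ Cfsg.pCore p L) := by
    apply le_antisymm
    · apply map_le_frattini L₀ Y hL₀ T hYT hmin L₀.normalCore hDL hSnD (Cfsg.pCore p L)
      exact Helper1.le_pCore hSnD ((T.isPGroup'.map L₀.subtype).to_le inf_le_left)
    · obtain ⟨K, hK⟩ : ∃ K : Subgroup L, K = (frattini (L ⧸ Cfsg.pCore p L)).comap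
          (QuotientGroup.mk' (Cfsg.pCore p L)) := ⟨_, rfl⟩
      have hmapK : K.map (QuotientGroup.mk' (Cfsg.pCore p L)) =
          frattini (L ⧸ Cfsg.pCore p L) := by
        rw [hK]
        exact Subgroup.map_comap_eq_self_of_surjective (QuotientGroup.mk'_surjective _) _
      haveI hKn : K.Normal := by
        rw [hK]
        exact Subgroup.Normal.comap (inferInstance : (frattini (L ⧸ Cfsg.pCore p L)).Normal) _
      have hKL : K ≤ L₀ := by
        have hne : L₀ ⊔ K ≠ ⊤ := by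
          intro h
          have h2 : (L₀ ⊔ K).map (QuotientGroup.mk' (Cfsg.pCore p L)) = ⊤ := by
            rw [h]; exact Subgroup.map_top_of_surjective _ (QuotientGroup.mk'_surjective _)
          rw [Subgroup.map_sup, hmapK] at h2
          have h3 := frattini_nongenerating h2
          have h4 : (L₀.map (QuotientGroup.mk' (Cfsg.pCore p L))).comap
              (QuotientGroup.mk' (Cfsg.pCore p L)) = ⊤ := by
            rw [h3]; exact Subgroup.comap_top _
          rw [Subgroup.comap_map_eq, QuotientGroup.ker_mk', sup_eq_left.mpr hPL] at h4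
          exact hL₀.1 h4
        rcases hL₀.le_iff.mp (le_sup_left : L₀ ≤ L₀ ⊔ K) with h1 | h1
        · exact absurd h1 hne
        · rw [← h1]; exact le_sup_right
      have hKD : K ≤ L₀.normalCore := Subgroup.normal_le_normalCore.mpr hKL
      rw [← hmapK]
      exact Subgroup.map_mono hKD
  have hA3 : Cfsg.IsPClosed p ↥(L₀.normalCore) := by
    intro P
    rw [sylow_eq L₀ T _ hDL hSnD P]
    exact hSnD.subgroupOf _
  refine ⟨⟨Subgroup.normal_le_normalCore.mpr hPL, hA2, hA3⟩, ?_⟩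
  intro N hN hNL
  have hSn := inf_normal L₀ Y hL₀ T hYT hmin N hNL
  have hpc := pCore_eq L₀ T N hNL hSn
  refine ⟨fun P => ?_, ?_, ?_⟩
  · rw [sylow_eq L₀ T N hNL hSn P]; exact hSn.subgroupOf N
  · haveI := hSn
    have hfr := map_le_frattini L₀ Y hL₀ T hYT hmin N hNL hSn
      ((T : Subgroup ↥L₀).map L₀.subtype ⊓ N) le_rfl
    exact nilp_aux N ((T : Subgroup ↥L₀).map L₀.subtype ⊓ N) (Cfsg.pCore p ↥N) hpc hfr
  · have h1 := not_dvd_idx L₀ T N hNL hSn
    rw [← hpc] at h1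
    show ((Cfsg.pCore p ↥N).index).Coprime p
    exact Nat.Coprime.symm ((Nat.Prime.coprime_iff_not_dvd (Fact.out : p.Prime)).mpr h1)

end Cfsg.Agent.S2836
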