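-- S2837: proof by helper7
import Cfsg.Statements.S2837
import Mathlib
import Cfsg.Agent.Helper1.Fitting
import Cfsg.Agent.Helper23.FixedLift
import Cfsg.Agent.Helper7.PLocal
import Cfsg.Agent.Helper14.Frattini
import Cfsg.Agent.Helper26.OrderP3
import Cfsg.Agent.S2836

set_option autoImplicit false
open Cfsg

namespace Cfsg.Agent.S2837

theorem norm_aux {L : Type*} [Group L] (Q Y₁ Y₂ : Subgroup L) [hQn : Q.Normal]
    (h1c : ∀ a ∈ Y₁, ∀ b ∈ Y₁, a * b = b * a)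
    (hQ1 : ∀ x ∈ Q, ∀ y ∈ Y₁, x * y * x⁻¹ ∈ Y₁) :
    Y₁ ≤ Subgroup.normalizer (((Q ⊓ Y₁) ⊔ (Q ⊓ Y₂) : Subgroup L) : Set L) := by
  have key : ∀ y ∈ Y₁, ∀ b ∈ (Q ⊓ Y₁) ⊔ (Q ⊓ Y₂), y * b * y⁻¹ ∈ (Q ⊓ Y₁) ⊔ (Q ⊓ Y₂) := by
    intro y hy b hb
    have hmap : ((Q ⊓ Y₁) ⊔ (Q ⊓ Y₂)).map (MulAut.conj y).toMonoidHom ≤
        (Q ⊓ Y₁) ⊔ (Q ⊓ Y₂) := by
      rw [Subgroup.map_sup]
      refine sup_le ?_ ?_
      · rintro _ ⟨a, ha, rfl⟩
        obtain ⟨haQ, haY⟩ := Subgroup.mem_inf.mp ha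
        have e : (MulAut.conj y).toMonoidHom a = a := by
          show y * a * y⁻¹ = a
          rw [h1c y hy a haY, mul_assoc, mul_inv_cancel, mul_one]
        rw [e]
        exact Subgroup.mem_sup_left ha
      · rintro _ ⟨a, ha, rfl⟩
        obtain ⟨haQ, haY⟩ := Subgroup.mem_inf.mp ha
        have e : (MulAut.conj y).toMonoidHom a = (y * a * y⁻¹ * a⁻¹) * a := by
          show y * a * y⁻¹ = (y * a * y⁻¹ * a⁻¹) * a
          group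
        rw [e]
        refine Subgroup.mul_mem_sup (Subgroup.mem_inf.mpr ⟨?_, ?_⟩) ha
        · exact Q.mul_mem (hQn.conj_mem a haQ y) (Q.inv_mem haQ)
        · have e2 : y * a * y⁻¹ * a⁻¹ = y * (a * y⁻¹ * a⁻¹) := by group
          rw [e2]
          exact Y₁.mul_mem hy (hQ1 a haQ y⁻¹ (Y₁.inv_mem hy))
    exact hmap ⟨b, hb, rfl⟩
  intro y hy
  rw [Subgroup.mem_normalizer_iff]
  intro b
  constructor
  · exact key y hy b
  · intro hb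
    have h := key y⁻¹ (Y₁.inv_mem hy) _ hb
    have e : y⁻¹ * (y * b * y⁻¹) * y⁻¹⁻¹ = b := by group
    rw [e] at h
    exact h

open scoped commutatorElement in
theorem core {L : Type*} [Group L] [Finite L] {p : ℕ} [Fact p.Prime] (Q Y₁ Y₂ : Subgroup L)
    [hQn : Q.Normal] (hQp : IsPGroup p ↥Q)
    (h1c : ∀ a ∈ Y₁, ∀ b ∈ Y₁, a * b = b * a) (h2c : ∀ a ∈ Y₂, ∀ b ∈ Y₂, a * b = b * a)
    (h1p : ∀ a ∈ Y₁, a ^ p = 1) (h2p : ∀ a ∈ Y₂, a ^ p = 1)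
    (hQ1 : ∀ x ∈ Q, ∀ y ∈ Y₁, x * y * x⁻¹ ∈ Y₁) (hQ2 : ∀ x ∈ Q, ∀ y ∈ Y₂, x * y * x⁻¹ ∈ Y₂)
    (htop : Y₁ ⊔ Y₂ = ⊤) (hZQ : Subgroup.center L ≤ Q)
    (hZ12 : Y₂ ⊓ Subgroup.center L ≤ Y₁) (hZ21 : Y₁ ⊓ Subgroup.center L ≤ Y₂)
    (A : Subgroup L) (hA : A = Subgroup.normalClosure ((Q ⊓ Y₁ : Subgroup L) : Set L))
    (hA2 : Q ⊓ Y₂ ≤ A) :
    (frattini ↥A).map A.subtype = ⁅A, A⁆ ∧ ⁅A, A⁆ = ⁅A ⊓ Y₁, A⁆ ∧
      ⁅A ⊓ Y₁, A⁆ = ⁅A ⊓ Y₁, A ⊓ Y₂⁆ ∧ ⁅A ⊓ Y₁, A⁆ ≤ Y₁ ⊓ Subgroup.center L ∧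
      Y₁ ⊓ Y₂ = Y₁ ⊓ Subgroup.center L ∧ (A ⊓ Y₁) ⊓ (A ⊓ Y₂) = Y₁ ⊓ Subgroup.center L ∧
      A ⊓ Subgroup.center L = Y₁ ⊓ Subgroup.center L := by
  have hcen : ∀ x : L, (∀ a ∈ Y₁, a * x = x * a) → (∀ a ∈ Y₂, a * x = x * a) →
      x ∈ Subgroup.center L := by
    intro x hx1 hx2
    have hle : Y₁ ⊔ Y₂ ≤ Subgroup.centralizer ({x} : Set L) := by
      refine sup_le ?_ ?_
      · intro a ha
        rw [Subgroup.mem_centralizer_iff]
        intro h' hh'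
        rw [Set.mem_singleton_iff] at hh'
        rw [hh']
        exact (hx1 a ha).symm
      · intro a ha
        rw [Subgroup.mem_centralizer_iff]
        intro h' hh'
        rw [Set.mem_singleton_iff] at hh'
        rw [hh']
        exact (hx2 a ha).symm
    rw [htop] at hle
    rw [Subgroup.mem_center_iff]
    intro k
    have hk := hle (Subgroup.mem_top k)
    rw [Subgroup.mem_centralizer_iff] at hk
    exact (hk x (Set.mem_singleton x)).symm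
  have h5 : Y₁ ⊓ Y₂ = Y₁ ⊓ Subgroup.center L := by
    apply le_antisymm
    · intro x hx
      obtain ⟨hx1, hx2⟩ := Subgroup.mem_inf.mp hx
      exact Subgroup.mem_inf.mpr ⟨hx1, hcen x (fun a ha => h1c a ha x hx1)
        (fun a ha => h2c a ha x hx2)⟩
    · intro x hx
      exact Subgroup.mem_inf.mpr ⟨(Subgroup.mem_inf.mp hx).1, hZ21 hx⟩
  have hcomm12 : ∀ a ∈ Q ⊓ Y₁, ∀ b ∈ Q ⊓ Y₂,
      a * b * a⁻¹ * b⁻¹ ∈ Y₁ ⊓ Subgroup.center L := by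
    intro a ha b hb
    obtain ⟨haQ, haY⟩ := Subgroup.mem_inf.mp ha
    obtain ⟨hbQ, hbY⟩ := Subgroup.mem_inf.mp hb
    rw [← h5]
    refine Subgroup.mem_inf.mpr ⟨?_, ?_⟩
    · have e : a * b * a⁻¹ * b⁻¹ = a * (b * a⁻¹ * b⁻¹) := by group
      rw [e]
      exact Y₁.mul_mem haY (hQ1 b hbQ a⁻¹ (Y₁.inv_mem haY))
    · exact Y₂.mul_mem (hQ2 a haQ b hbY) (Y₂.inv_mem hbY)
  have hY01A : Q ⊓ Y₁ ≤ A := by rw [hA]; exact Subgroup.le_normalClosure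
  have hAQ : A ≤ Q := by
    rw [hA]
    exact Subgroup.normalClosure_le_normal (fun x hx => (Subgroup.mem_inf.mp hx).1)
  have hn1 : Y₁ ≤ Subgroup.normalizer (((Q ⊓ Y₁) ⊔ (Q ⊓ Y₂) : Subgroup L) : Set L) :=
    norm_aux Q Y₁ Y₂ h1c hQ1
  have hn2 : Y₂ ≤ Subgroup.normalizer (((Q ⊓ Y₁) ⊔ (Q ⊓ Y₂) : Subgroup L) : Set L) := by
    have h := norm_aux Q Y₂ Y₁ h2c hQ2
    rw [sup_comm] at h
    exact h
  haveI hBn : ((Q ⊓ Y₁) ⊔ (Q ⊓ Y₂)).Normal := by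
    apply Subgroup.normalizer_eq_top_iff.mp
    rw [eq_top_iff, ← htop]
    exact sup_le hn1 hn2
  have hB : A = (Q ⊓ Y₁) ⊔ (Q ⊓ Y₂) := by
    apply le_antisymm
    · rw [hA]
      exact Subgroup.normalClosure_le_normal (SetLike.coe_subset_coe.mpr le_sup_left)
    · exact sup_le hY01A hA2
  have hAY1 : A ⊓ Y₁ = Q ⊓ Y₁ :=
    le_antisymm (le_inf (inf_le_left.trans hAQ) inf_le_right) (le_inf hY01A inf_le_right)
  have hAY2 : A ⊓ Y₂ = Q ⊓ Y₂ :=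
    le_antisymm (le_inf (inf_le_left.trans hAQ) inf_le_right) (le_inf hA2 inf_le_right)
  have hn : Q ⊓ Y₂ ≤ Subgroup.normalizer ((Q ⊓ Y₁ : Subgroup L) : Set L) := by
    apply Cfsg.Agent.Helper7.le_normalizer_of_conj_mem
    intro k hk h hh
    obtain ⟨hkQ, _⟩ := Subgroup.mem_inf.mp hk
    obtain ⟨hhQ, hhY⟩ := Subgroup.mem_inf.mp hh
    exact Subgroup.mem_inf.mpr ⟨hQn.conj_mem h hhQ k, hQ1 k hkQ h hhY⟩
  obtain ⟨C, hCdef⟩ : ∃ C : Subgroup L, C = ⁅Q ⊓ Y₁, Q ⊓ Y₂⁆ := ⟨_, rfl⟩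
  have hC : C ≤ Y₁ ⊓ Subgroup.center L := by
    rw [hCdef, Subgroup.commutator_le]
    intro a ha b hb
    rw [commutatorElement_def]
    exact hcomm12 a ha b hb
  haveI hCn : C.Normal := by
    refine ⟨fun n hn x => ?_⟩
    have h := Subgroup.mem_center_iff.mp (Subgroup.mem_inf.mp (hC hn)).2 x
    rw [h, mul_assoc, mul_inv_cancel, mul_one]
    exact hn
  have hUV : (Q ⊓ Y₁).map (QuotientGroup.mk' C) ≤
      Subgroup.centralizer ((Q ⊓ Y₂).map (QuotientGroup.mk' C) : Set (L ⧸ C)) := by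
    rintro _ ⟨a, ha, rfl⟩
    rw [Subgroup.mem_centralizer_iff]
    rintro _ ⟨b, hb, rfl⟩
    have h1 : (QuotientGroup.mk' C) ⁅a, b⁆ = 1 := by
      rw [QuotientGroup.mk'_apply, QuotientGroup.eq_one_iff, hCdef]
      exact Subgroup.commutator_mem_commutator ha hb
    rw [map_commutatorElement, commutatorElement_eq_one_iff_mul_comm] at h1
    exact h1.symm
  have hUU : (Q ⊓ Y₁).map (QuotientGroup.mk' C) ≤
      Subgroup.centralizer ((Q ⊓ Y₁).map (QuotientGroup.mk' C) : Set (L ⧸ C)) := by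
    rintro _ ⟨a, ha, rfl⟩
    rw [Subgroup.mem_centralizer_iff]
    rintro _ ⟨b, hb, rfl⟩
    rw [← map_mul (QuotientGroup.mk' C), ← map_mul (QuotientGroup.mk' C),
      h1c b (Subgroup.mem_inf.mp hb).2 a (Subgroup.mem_inf.mp ha).2]
  have hVV : (Q ⊓ Y₂).map (QuotientGroup.mk' C) ≤
      Subgroup.centralizer ((Q ⊓ Y₂).map (QuotientGroup.mk' C) : Set (L ⧸ C)) := by
    rintro _ ⟨a, ha, rfl⟩
    rw [Subgroup.mem_centralizer_iff]
    rintro _ ⟨b, hb, rfl⟩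
    rw [← map_mul (QuotientGroup.mk' C), ← map_mul (QuotientGroup.mk' C),
      h2c b (Subgroup.mem_inf.mp hb).2 a (Subgroup.mem_inf.mp ha).2]
  have hVU : (Q ⊓ Y₂).map (QuotientGroup.mk' C) ≤
      Subgroup.centralizer ((Q ⊓ Y₁).map (QuotientGroup.mk' C) : Set (L ⧸ C)) :=
    Subgroup.le_centralizer_iff.mp hUV
  have hcommA : A.map (QuotientGroup.mk' C) ≤
      Subgroup.centralizer (A.map (QuotientGroup.mk' C) : Set (L ⧸ C)) := by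
    rw [hB, Subgroup.map_sup]
    exact sup_le (Subgroup.le_centralizer_iff.mp (sup_le hUU hVU))
      (Subgroup.le_centralizer_iff.mp (sup_le hUV hVV))
  have hcomm_el : ∀ b ∈ A, ∀ c ∈ A, (QuotientGroup.mk' C) b * (QuotientGroup.mk' C) c =
      (QuotientGroup.mk' C) c * (QuotientGroup.mk' C) b := by
    intro b hb c hc
    have h := hcommA (Subgroup.mem_map_of_mem (QuotientGroup.mk' C) hc)
    rw [Subgroup.mem_centralizer_iff] at h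
    exact h _ (Subgroup.mem_map_of_mem (QuotientGroup.mk' C) hb)
  have hAAC : ⁅A, A⁆ ≤ C := by
    rw [Subgroup.commutator_le]
    intro b hb c hc
    have h : (QuotientGroup.mk' C) ⁅b, c⁆ = 1 := by
      rw [map_commutatorElement, commutatorElement_eq_one_iff_mul_comm]
      exact hcomm_el b hb c hc
    rw [QuotientGroup.mk'_apply, QuotientGroup.eq_one_iff] at h
    exact h
  have hC1 : C ≤ ⁅A ⊓ Y₁, A ⊓ Y₂⁆ := by
    rw [hAY1, hAY2]; exact hCdef.le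
  have hC2 : ⁅A ⊓ Y₁, A ⊓ Y₂⁆ ≤ ⁅A ⊓ Y₁, A⁆ := Subgroup.commutator_mono le_rfl inf_le_left
  have hC3 : ⁅A ⊓ Y₁, A⁆ ≤ ⁅A, A⁆ := Subgroup.commutator_mono inf_le_left le_rfl
  have hAp : IsPGroup p ↥A := hQp.to_le hAQ
  have hpow : ∀ a ∈ A, (QuotientGroup.mk' C) a ^ p = 1 := by
    intro a ha
    rw [hB] at ha
    obtain ⟨a₁, ha₁, a₂, ha₂, rfl⟩ := Cfsg.Agent.Helper23.exists_mul_of_mem_sup hn ha
    have hc : Commute ((QuotientGroup.mk' C) a₁) ((QuotientGroup.mk' C) a₂) :=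
      hcomm_el a₁ (hY01A ha₁) a₂ (hA2 ha₂)
    rw [map_mul, hc.mul_pow, ← map_pow (QuotientGroup.mk' C), ← map_pow (QuotientGroup.mk' C),
      h1p a₁ (Subgroup.mem_inf.mp ha₁).2, h2p a₂ (Subgroup.mem_inf.mp ha₂).2, map_one, mul_one]
  have hCle : C ≤ ⁅A, A⁆ := hC1.trans (hC2.trans hC3)
  have h1 : (frattini ↥A).map A.subtype = ⁅A, A⁆ := by
    apply le_antisymm
    · rintro _ ⟨x, hx, rfl⟩
      have hker := Cfsg.Agent.Helper14.frattini_le_ker_of_elementary (p := p)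
        ((QuotientGroup.mk' C).comp A.subtype)
        (fun a b => hcomm_el a a.2 b b.2) (fun a => hpow a a.2)
      have h := hker hx
      rw [MonoidHom.mem_ker] at h
      have h' : (QuotientGroup.mk' C) (x : L) = 1 := h
      rw [QuotientGroup.mk'_apply, QuotientGroup.eq_one_iff] at h'
      exact hCle h'
    · rw [Subgroup.commutator_le]
      intro b hb c hc
      exact ⟨⁅(⟨b, hb⟩ : ↥A), ⟨c, hc⟩⁆,
        Cfsg.Agent.Helper26.p3_commutator_mem_frattini hAp _ _, rfl⟩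
  refine ⟨h1, le_antisymm (hAAC.trans (hC1.trans hC2)) hC3,
    le_antisymm (hC3.trans (hAAC.trans hC1)) hC2, (hC3.trans hAAC).trans hC, h5, ?_, ?_⟩
  · rw [hAY1, hAY2]
    apply le_antisymm
    · intro x hx
      obtain ⟨hx1, hx2⟩ := Subgroup.mem_inf.mp hx
      rw [← h5]
      exact Subgroup.mem_inf.mpr ⟨(Subgroup.mem_inf.mp hx1).2, (Subgroup.mem_inf.mp hx2).2⟩
    · intro x hx
      obtain ⟨hx1, hx2⟩ := Subgroup.mem_inf.mp hx
      exact Subgroup.mem_inf.mpr ⟨Subgroup.mem_inf.mpr ⟨hZQ hx2, hx1⟩,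
        Subgroup.mem_inf.mpr ⟨hZQ hx2, hZ21 hx⟩⟩
  · apply le_antisymm
    · intro z hz
      obtain ⟨hzA, hzc⟩ := Subgroup.mem_inf.mp hz
      rw [hB] at hzA
      obtain ⟨y₁, hy₁, y₂, hy₂, rfl⟩ := Cfsg.Agent.Helper23.exists_mul_of_mem_sup hn hzA
      obtain ⟨_, hy₁Y⟩ := Subgroup.mem_inf.mp hy₁
      obtain ⟨_, hy₂Y⟩ := Subgroup.mem_inf.mp hy₂
      have hy₂c : y₂ ∈ Subgroup.center L := by
        apply hcen y₂
        · intro a ha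
          have e1 := Subgroup.mem_center_iff.mp hzc a
          have e2 := h1c a ha y₁ hy₁Y
          have e3 : y₁ * (a * y₂) = y₁ * (y₂ * a) := by
            rw [← mul_assoc, ← e2, mul_assoc, e1, mul_assoc]
          exact mul_left_cancel e3
        · intro a ha
          exact h2c a ha y₂ hy₂Y
      exact Subgroup.mem_inf.mpr
        ⟨Y₁.mul_mem hy₁Y (hZ12 (Subgroup.mem_inf.mpr ⟨hy₂Y, hy₂c⟩)), hzc⟩
    · intro x hx
      obtain ⟨hx1, hx2⟩ := Subgroup.mem_inf.mp hx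
      exact Subgroup.mem_inf.mpr ⟨hY01A (Subgroup.mem_inf.mpr ⟨hZQ hx2, hx1⟩), hx2⟩


/-- Let L be a finite group of characteristic p, L₀ a maximal subgroup, Y an elementary abelian p-subgroup of L₀ with L Y-minimal and O_p(L) ≤ N_L(Y). Put A = the normal closure of O_p(L) ∩ Y in L. Then for every g ∈ L outside L₀: Φ(A) = A' = [A ∩ Y, A] = [A ∩ Y, A ∩ gYg⁻¹] ≤ C_Y(L), and Y ∩ gYg⁻¹ = (A ∩ Y) ∩ (A ∩ gYg⁻¹) = C_Y(L) = C_A(L). -/
theorem result {L : Type*} [Group L] [Finite L] {p : ℕ} [Fact p.Prime] (hchar : Subgroup.centralizer (Cfsg.pCore p L : Set L) ≤ Cfsg.pCore p L) (L₀ : Subgroup L) (hL₀ : IsCoatom L₀) (Y : Subgroup L) (hYL₀ : Y ≤ L₀) (hYel : Cfsg.IsElementaryAbelian p Y) (hmin : Cfsg.IsMinimalOver Y) (hOY : Cfsg.pCore p L ≤ Subgroup.normalizer (Y : Set L)) (A : Subgroup L) (hA : A = Subgroup.normalClosure (((Cfsg.pCore p L ⊓ Y : Subgroup L)) : Set L)) (g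 : L) (hg : g ∉ L₀) : (frattini ↥A).map A.subtype = ⁅A, A⁆ ∧ ⁅A, A⁆ = ⁅A ⊓ Y, A⁆ ∧ ⁅A ⊓ Y, A⁆ = ⁅A ⊓ Y, A ⊓ Y.map (MulAut.conj g).toMonoidHom⁆ ∧ ⁅A ⊓ Y, A⁆ ≤ Y ⊓ Subgroup.center L ∧ Y ⊓ Y.map (MulAut.conj g).toMonoidHom = Y ⊓ Subgroup.center L ∧ (A ⊓ Y) ⊓ (A ⊓ Y.map (MulAut.conj g).toMonoidHom) = Y ⊓ Subgroup.center L ∧ A ⊓ Subgroup.center L = Y ⊓ Subgroup.center L := by
  have hQn : (Cfsg.pCore p L).Normal := Cfsg.Agent.Helper1.pCore_normal p L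
  have hQp : IsPGroup p ↥(Cfsg.pCore p L) := Cfsg.Agent.Helper1.pCore_isPGroup p L
  have h1c : ∀ a ∈ Y, ∀ b ∈ Y, a * b = b * a := by
    intro a ha b hb
    exact congrArg Subtype.val (hYel.1.is_comm.comm (⟨a, ha⟩ : ↥Y) ⟨b, hb⟩)
  have h1p : ∀ a ∈ Y, a ^ p = 1 := hYel.2
  have h2c : ∀ a ∈ Y.map (MulAut.conj g).toMonoidHom,
      ∀ b ∈ Y.map (MulAut.conj g).toMonoidHom, a * b = b * a := by
    rintro _ ⟨a, ha, rfl⟩ _ ⟨b, hb, rfl⟩
    rw [← map_mul, ← map_mul, h1c a ha b hb]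
  have h2p : ∀ a ∈ Y.map (MulAut.conj g).toMonoidHom, a ^ p = 1 := by
    rintro _ ⟨a, ha, rfl⟩
    rw [← map_pow, h1p a ha, map_one]
  have hQ1 : ∀ x ∈ Cfsg.pCore p L, ∀ y ∈ Y, x * y * x⁻¹ ∈ Y := by
    intro x hx y hy
    exact (Subgroup.mem_normalizer_iff.mp (hOY hx) y).mp hy
  have hQ2 : ∀ x ∈ Cfsg.pCore p L, ∀ y ∈ Y.map (MulAut.conj g).toMonoidHom,
      x * y * x⁻¹ ∈ Y.map (MulAut.conj g).toMonoidHom := by
    rintro x hx _ ⟨y, hy, rfl⟩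
    have hx' : g⁻¹ * x * g ∈ Cfsg.pCore p L := by
      have h := hQn.conj_mem x hx g⁻¹
      rwa [inv_inv] at h
    refine ⟨(g⁻¹ * x * g) * y * (g⁻¹ * x * g)⁻¹, hQ1 _ hx' y hy, ?_⟩
    show g * ((g⁻¹ * x * g) * y * (g⁻¹ * x * g)⁻¹) * g⁻¹ = x * (g * y * g⁻¹) * x⁻¹
    group
  have hZQ : Subgroup.center L ≤ Cfsg.pCore p L :=
    (Subgroup.center_le_centralizer _).trans hchar
  have hZ12 : Y.map (MulAut.conj g).toMonoidHom ⊓ Subgroup.center L ≤ Y := by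
    intro x hx
    obtain ⟨⟨y, hy, rfl⟩, hc⟩ := Subgroup.mem_inf.mp hx
    have e : g⁻¹ * (g * y * g⁻¹) = (g * y * g⁻¹) * g⁻¹ := Subgroup.mem_center_iff.mp hc g⁻¹
    have e' : g * y * g⁻¹ = y := by
      have e2 : g * y * g⁻¹ = (g * y * g⁻¹ * g⁻¹) * g := by group
      rw [e2, ← e]; group
    show g * y * g⁻¹ ∈ Y
    rw [e']; exact hy
  have hZ21 : Y ⊓ Subgroup.center L ≤ Y.map (MulAut.conj g).toMonoidHom := by
    intro x hx
    obtain ⟨hxY, hc⟩ := Subgroup.mem_inf.mp hx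
    refine ⟨x, hxY, ?_⟩
    show g * x * g⁻¹ = x
    rw [Subgroup.mem_center_iff.mp hc g, mul_assoc, mul_inv_cancel, mul_one]
  have hA2 : Cfsg.pCore p L ⊓ Y.map (MulAut.conj g).toMonoidHom ≤ A := by
    intro x hx
    obtain ⟨hxQ, ⟨y, hy, rfl⟩⟩ := Subgroup.mem_inf.mp hx
    have hyQ : y ∈ Cfsg.pCore p L := by
      have h : g⁻¹ * (g * y * g⁻¹) * g⁻¹⁻¹ ∈ Cfsg.pCore p L := hQn.conj_mem _ hxQ g⁻¹
      have e : g⁻¹ * (g * y * g⁻¹) * g⁻¹⁻¹ = y := by group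
      rw [e] at h
      exact h
    rw [hA]
    exact (Subgroup.normalClosure_normal).conj_mem y
      (Subgroup.le_normalClosure (Subgroup.mem_inf.mpr ⟨hyQ, hy⟩)) g
  have htop : Y ⊔ Y.map (MulAut.conj g).toMonoidHom = ⊤ := by
    by_contra hne
    have h1 : Y ⊔ Y.map (MulAut.conj g).toMonoidHom ≤ L₀ :=
      Cfsg.Agent.S2836.le_of_ne_top L₀ Y hL₀ hYL₀ hmin _ le_sup_left hne
    have hco : IsCoatom (L₀.comap (MulAut.conj g).toMonoidHom) :=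
      Cfsg.Agent.S2836.isCoatom_comap _ (MulAut.conj g).surjective L₀ hL₀
    have hYc : Y ≤ L₀.comap (MulAut.conj g).toMonoidHom := by
      intro y hy
      rw [Subgroup.mem_comap]
      exact h1 (Subgroup.mem_sup_right (Subgroup.mem_map_of_mem _ hy))
    have h2 : L₀.comap (MulAut.conj g).toMonoidHom ≤ L₀ :=
      Cfsg.Agent.S2836.le_of_ne_top L₀ Y hL₀ hYL₀ hmin _ hYc hco.1
    have h3 : L₀ = L₀.comap (MulAut.conj g).toMonoidHom := by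
      rcases hco.le_iff.mp h2 with h | h
      · exact absurd h hL₀.1
      · exact h
    have hgn : g ∈ Subgroup.normalizer (L₀ : Set L) := by
      rw [Subgroup.mem_normalizer_iff]
      intro x
      constructor
      · intro hx
        rw [h3] at hx
        exact Subgroup.mem_comap.mp hx
      · intro hx
        rw [h3]
        exact Subgroup.mem_comap.mpr hx
    rcases hL₀.le_iff.mp (Subgroup.le_normalizer (H := L₀)) with h | h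
    · haveI : L₀.Normal := Subgroup.normalizer_eq_top_iff.mp h
      have h4 : Subgroup.normalClosure (Y : Set L) ≤ L₀ :=
        Subgroup.normalClosure_le_normal (SetLike.coe_subset_coe.mpr hYL₀)
      rw [hmin.1] at h4
      exact hL₀.1 (top_le_iff.mp h4)
    · rw [h] at hgn
      exact hg hgn
  haveI := hQn
  exact core (Cfsg.pCore p L) Y (Y.map (MulAut.conj g).toMonoidHom) hQp h1c h2c h1p h2p hQ1 hQ2
    htop hZQ hZ12 hZ21 A hA hA2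

end Cfsg.Agent.S2837
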