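import Cfsg.Statements.S2839
import Cfsg.Agent.Helper14.WeaklyClosed

set_option autoImplicit false
open Cfsg

namespace Cfsg.Agent.S2839

open Cfsg.Agent.Helper14

/-- Let Q be a nontrivial p-subgroup of the finite group H that is a weakly closed subgroup, K a subgroup containing Q and N a normal subgroup of H. Then Q is a weakly closed subgroup of K; every H-conjugate of Q contained in K is a K-conjugate of Q; N_K(Q) contains a Sylow p-subgroup of K; N = N_N(Q)·O^p(N); and QN/N is a weakly closed subgroup of H/N. -/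
theorem result {H : Type*} [Group H] [Finite H] {p : ℕ} [Fact p.Prime] (Q : Subgroup H) (hQp : IsPGroup p ↥Q) (hQ1 : Q ≠ ⊥) (hwc : Cfsg.IsWeaklyClosedSubgroup p Q) (K : Subgroup H) (hQK : Q ≤ K) (N' : Subgroup H) [N'.Normal] : Cfsg.IsWeaklyClosedSubgroup p (Q.subgroupOf K) ∧ (∀ g : H, ((Q : Subgroup H).map (MulAut.conj (g : H)).toMonoidHom) ≤ K → ∃ k ∈ K, ((Q : Subgroup H).map (MulAut.conj (g : H)).toMonoidHom) = ((Q : Subgroup H).map (MulAut.conj (k : H)).toMonoidHom)) ∧ Cfsg.IsParabolic p ((Subgroup.normalizer ((Q : Subgroup H) : Set H)).subgroupOf K) ∧ (N' ⊓ Subgroup.normalizer ((Q : Subgroup H) : Set H)) ⊔ (Cfsg.pResidual p ↥N').map N'.subtype = N' ∧ Cfsg.IsWeaklyClosedSubgroup p (Q.map (QuotientGroup.mk' N')) := by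
  have hwc' := wc'_of_isWeaklyClosedSubgroup hwc
  obtain ⟨T, hQT⟩ := hQp.exists_le_sylow
  have hTN : (T : Subgroup H) ≤ Subgroup.normalizer (Q : Set H) :=
    wc'_le_normalizer hwc' T T.isPGroup' hQT
  refine ⟨wc'_subgroupOf hQp hwc' K hQK,
    fun g hg => wc'_conj_in_subgroup hQp hwc' K hQK g hg, ?_, ?_, ?_⟩
  · obtain ⟨S, hS⟩ := exists_sylow_sub_ge K Q hQK hQp
    have hSN := wc'_le_normalizer hwc' _ (sylow_sub_isPGroup K S) hS
    refine ⟨S, ?_⟩
    intro x hx
    exact Subgroup.mem_subgroupOf.mpr (hSN ⟨x, hx, rfl⟩)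
  · apply le_antisymm
    · exact sup_le inf_le_left (Subgroup.map_subtype_le _)
    · intro n hn
      obtain ⟨r, hr, t, ht, rfl⟩ := normal_eq_residual_mul_sylow N' T n hn
      rw [Subgroup.mem_inf] at ht
      have ht' : t ∈ N' ⊓ Subgroup.normalizer (Q : Set H) :=
        Subgroup.mem_inf.mpr ⟨ht.2, hTN ht.1⟩
      exact Subgroup.mul_mem _ (Subgroup.mem_sup_right hr) (Subgroup.mem_sup_left ht')
  · refine ⟨T.mapSurjective (QuotientGroup.mk'_surjective N'), And.intro ?_ ?_⟩
    · show Q.map (QuotientGroup.mk' N') ≤ (T : Subgroup H).map (QuotientGroup.mk' N')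
      exact Subgroup.map_mono hQT
    · intro gbar hgbar
      have hgbar' : (Q.map (QuotientGroup.mk' N')).map (MulAut.conj gbar).toMonoidHom ≤
          (T : Subgroup H).map (QuotientGroup.mk' N') := hgbar
      obtain ⟨g, rfl⟩ := QuotientGroup.mk'_surjective N' gbar
      rw [← map_conj_map_mk] at hgbar' ⊢
      have hRB : Q.map (MulAut.conj g).toMonoidHom ≤ N' ⊔ (T : Subgroup H) := by
        rw [← QuotientGroup.comap_map_mk']
        exact Subgroup.map_le_iff_le_comap.mp hgbar'
      obtain ⟨n, hn, hn2⟩ :=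
        exists_conj_le_of_le_sup_normal N' T _ (isPGroup_map_conj Q g hQp) hRB
      have h1 : (Q.map (MulAut.conj g).toMonoidHom).map (MulAut.conj n⁻¹).toMonoidHom ≤
          (T : Subgroup H) := by
        rw [map_conj_le_iff, inv_inv]; exact hn2
      rw [map_conj_map_conj] at h1
      have h2 := hwc' T T.isPGroup' hQT (n⁻¹ * g) h1
      have h3 : Q.map (MulAut.conj g).toMonoidHom = Q.map (MulAut.conj n).toMonoidHom := by
        calc Q.map (MulAut.conj g).toMonoidHom
            = (Q.map (MulAut.conj (n⁻¹ * g)).toMonoidHom).map (MulAut.conj n).toMonoidHom := by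
              rw [map_conj_map_conj, mul_inv_cancel_left]
          _ = Q.map (MulAut.conj n).toMonoidHom := by rw [h2]
      rw [h3, map_conj_map_mk]
      have hn1 : (QuotientGroup.mk' N' n) = 1 := (QuotientGroup.eq_one_iff n).mpr hn
      rw [hn1, map_conj_one]

end Cfsg.Agent.S2839
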