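import Cfsg.Statements.S2840
import Cfsg.Agent.Helper14.WeaklyClosed

set_option autoImplicit false
open Cfsg

namespace Cfsg.Agent.S2840

open Cfsg.Agent.Helper14

theorem conj_le_of_subnormal {G : Type*} [Group G] [Finite G] {p : ℕ} [Fact p.Prime]
    {Q : Subgroup G} (hQp : IsPGroup p Q) (h : WC' p Q) (L : Subgroup G) (hL : L.IsSubnormal)
    (hQL : Q ≤ L) (g : G) : Q.map (MulAut.conj g).toMonoidHom ≤ L := by
  induction hL with
  | top => exact le_top
  | step L M hLM hM hN ih =>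
    have hQM := hQL.trans hLM
    obtain ⟨m, hm, he⟩ := wc'_conj_in_subgroup hQp h M hQM g (ih hQM)
    rw [he]
    rintro _ ⟨q, hq, rfl⟩
    have := hN.conj_mem ⟨q, hQM hq⟩ (Subgroup.mem_subgroupOf.mpr (hQL hq)) ⟨m, hm⟩
    exact Subgroup.mem_subgroupOf.mp this

/-- Let Q be a nontrivial p-subgroup of the finite group H that is a weakly closed subgroup and K a subgroup containing Q; let K° be the weak closure of Q in K (generated by the H-conjugates of Q inside K). Then K° is generated by the K-conjugates of Q, and K° is the subnormal closure of Q in K. -/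
theorem result {H : Type*} [Group H] [Finite H] {p : ℕ} [Fact p.Prime] (Q : Subgroup H) (hQp : IsPGroup p ↥Q) (hQ1 : Q ≠ ⊥) (hwc : Cfsg.IsWeaklyClosedSubgroup p Q) (K : Subgroup H) (hQK : Q ≤ K) (Kc : Subgroup H) (hKc : Kc = Cfsg.weakClosure Q K) : Kc = ⨆ k : ↥K, ((Q : Subgroup H).map (MulAut.conj ((k : H) : H)).toMonoidHom) ∧ Kc = (Cfsg.subnormalClosure (Q.subgroupOf K)).map K.subtype := by
  have hwc' := wc'_of_isWeaklyClosedSubgroup hwc
  have hQk : ∀ k : ↥K, Q.map (MulAut.conj (k : H)).toMonoidHom ≤ K := by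
    intro k
    rintro _ ⟨q, hq, rfl⟩
    exact K.mul_mem (K.mul_mem k.2 (hQK hq)) (K.inv_mem k.2)
  have part1 : Kc = ⨆ k : ↥K, Q.map (MulAut.conj (k : H)).toMonoidHom := by
    rw [hKc]
    unfold weakClosure
    apply le_antisymm
    · apply iSup_le
      intro g
      obtain ⟨k, hkK, hk⟩ := wc'_conj_in_subgroup hQp hwc' K hQK g.1 g.2
      rw [hk]
      exact le_iSup (fun k : ↥K => Q.map (MulAut.conj (k : H)).toMonoidHom) ⟨k, hkK⟩
    · apply iSup_le
      intro k
      exact le_iSup (fun g : {g : H // Q.map (MulAut.conj g).toMonoidHom ≤ K} =>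
        Q.map (MulAut.conj (g : H)).toMonoidHom) ⟨(k : H), hQk k⟩
  refine ⟨part1, ?_⟩
  rw [part1]
  obtain ⟨W, hW⟩ : ∃ W : Subgroup H, W = ⨆ k : ↥K, Q.map (MulAut.conj (k : H)).toMonoidHom :=
    ⟨_, rfl⟩
  rw [← hW]
  have hQ₀p : IsPGroup p ↥(Q.subgroupOf K) :=
    hQp.comap_of_injective K.subtype Subtype.coe_injective
  have hQ₀wc : WC' p (Q.subgroupOf K) :=
    wc'_of_isWeaklyClosedSubgroup (wc'_subgroupOf hQp hwc' K hQK)
  apply le_antisymm
  · rw [hW]
    apply iSup_le
    intro k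
    rintro _ ⟨q, hq, rfl⟩
    refine ⟨k * ⟨q, hQK hq⟩ * k⁻¹, ?_, rfl⟩
    unfold subnormalClosure
    rw [SetLike.mem_coe, Subgroup.mem_sInf]
    intro L hL
    exact conj_le_of_subnormal hQ₀p hQ₀wc L hL.2 hL.1 k
      (conj_mem_map_conj (Q.subgroupOf K) k (Subgroup.mem_subgroupOf.mpr hq))
  · have hWnorm : ∀ k ∈ K, W.map (MulAut.conj k).toMonoidHom ≤ W := by
      intro k hk
      rw [hW, Subgroup.map_iSup]
      apply iSup_le
      intro k'
      rw [map_conj_map_conj]
      exact le_iSup (fun k : ↥K => Q.map (MulAut.conj (k : H)).toMonoidHom)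
        ⟨k * k', K.mul_mem hk k'.2⟩
    have hnormal : (W.subgroupOf K).Normal := by
      constructor
      intro x hx k
      exact Subgroup.mem_subgroupOf.mpr
        (hWnorm k k.2 (conj_mem_map_conj W (k : H) (Subgroup.mem_subgroupOf.mp hx)))
    have h1 : Q.map (MulAut.conj ((1 : ↥K) : H)).toMonoidHom = Q := map_conj_one Q
    have hQW : Q ≤ W := by
      rw [hW]
      calc Q = Q.map (MulAut.conj ((1 : ↥K) : H)).toMonoidHom := h1.symm
        _ ≤ _ := le_iSup (fun k : ↥K => Q.map (MulAut.conj (k : H)).toMonoidHom) (1 : ↥K)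
    have hle : subnormalClosure (Q.subgroupOf K) ≤ W.subgroupOf K := by
      unfold subnormalClosure
      apply sInf_le
      exact ⟨fun x hx => Subgroup.mem_subgroupOf.mpr (hQW (Subgroup.mem_subgroupOf.mp hx)),
        hnormal.isSubnormal⟩
    exact (Subgroup.map_mono hle).trans (Subgroup.map_comap_le _ _)

end Cfsg.Agent.S2840
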