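-- helper9: S2842 (weakly closed Q with C(Q) ≤ Q inside L: C_H(O_p(L)) is a p-group, L has characteristic p)
import Mathlib
import Cfsg.Statements.S2842
import Cfsg.Agent.Helper7.Large2
import Cfsg.Agent.Helper9.PPrimeCore

set_option autoImplicit false
open Cfsg

namespace Cfsg.Agent.S2842

theorem eq_one_of_ppow_of_coprime {X : Type*} [Group X] (p : ℕ) (x : X) (k : ℕ)
    (h1 : x ^ (p ^ k) = 1) (hc : (orderOf x).Coprime p) : x = 1 := by
  have h := (pow_gcd_eq_one (a := x) (m := p ^ k) (n := orderOf x)).2 ⟨h1, pow_orderOf_eq_one x⟩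
  have hg : Nat.gcd (p ^ k) (orderOf x) = 1 := Nat.Coprime.pow_left k hc.symm
  rw [hg, pow_one] at h
  exact h

/-- Core of the argument: `Q` a `p`-subgroup with `N(T) ≤ N(Q)` for all `p`-subgroups `T ≥ Q`,
`C(Q) ≤ Q`, `Q ≤ L`, `P = O_p(L)`, `D = C_H(P)` of characteristic `p`.  Then `D` normalizes `Q`,
`[Q, D] ≤ Q ∩ P` and `D` is a `p`-group. -/
theorem key {H : Type*} [Group H] [Finite H] {p : ℕ} [Fact p.Prime] (Q L P D : Subgroup H)
    (hQp : IsPGroup p ↥Q)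
    (hwc : ∀ T : Subgroup H, IsPGroup p ↥T → Q ≤ T →
      Subgroup.normalizer (T : Set H) ≤ Subgroup.normalizer (Q : Set H))
    (hCQ : Subgroup.centralizer (Q : Set H) ≤ Q) (hQL : Q ≤ L)
    (hPL : P = Cfsg.pCoreOf p L)
    (hD : D = Subgroup.centralizer (P : Set H))
    (hDchar : Subgroup.centralizer (Cfsg.pCore p ↥D : Set ↥D) ≤ Cfsg.pCore p ↥D) :
    ⁅Q, D⁆ ≤ Q ⊓ P ∧ IsPGroup p ↥D := by
  classical
  have hp : p.Prime := Fact.out
  haveI : (Cfsg.pCore p ↥L).Normal := Helper1.pCore_normal p ↥L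
  have hLP : L ≤ Subgroup.normalizer (P : Set H) := by
    rw [hPL]; exact Helper7.le_normalizer_map_subtype (Cfsg.pCore p ↥L)
  have hPmax : ∀ X : Subgroup H, IsPGroup p ↥X → X ≤ L →
      L ≤ Subgroup.normalizer (X : Set H) → X ≤ P := by
    intro X hX hXL hLX
    rw [hPL]; exact Helper7.le_pCoreOf_of_normal_pgroup p X L hXL hLX hX
  have hDmem : ∀ d : H, d ∈ D ↔ ∀ h ∈ P, h * d = d * h := by
    intro d; rw [hD]; exact Subgroup.mem_centralizer_iff
  have hNPD : Subgroup.normalizer (P : Set H) ≤ Subgroup.normalizer (D : Set H) := by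
    rw [hD]; exact Helper7.normalizer_le_normalizer_centralizer' P
  -- `D₀ = O_p(D)`
  obtain ⟨D₀, hD₀def⟩ : ∃ D₀ : Subgroup H, D₀ = (Cfsg.pCore p ↥D).map D.subtype := ⟨_, rfl⟩
  have hD₀p : IsPGroup p ↥D₀ := by
    rw [hD₀def]; exact (Helper1.pCore_isPGroup p ↥D).map D.subtype
  have hD₀D : D₀ ≤ D := by rw [hD₀def]; exact Subgroup.map_subtype_le _
  have hD₀max : ∀ X : Subgroup H, IsPGroup p ↥X → X ≤ D →
      D ≤ Subgroup.normalizer (X : Set H) → X ≤ D₀ := by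
    intro X hX hXD hDX
    rw [hD₀def]; exact Helper7.le_pCoreOf_of_normal_pgroup p X D hXD hDX hX
  have hNDD₀ : Subgroup.normalizer (D : Set H) ≤ Subgroup.normalizer (D₀ : Set H) := by
    apply Helper7.le_normalizer_of_conj_mem
    intro n hn w hw
    have hw' : w ∈ (Cfsg.pCore p ↥D).map D.subtype := by rw [hD₀def] at hw; exact hw
    obtain ⟨d, hd, rfl⟩ := hw'
    obtain ⟨d', hd', e⟩ := Helper9.char_conj_mem (Cfsg.pCore p ↥D)
      (Helper7.pCore_characteristic p ↥D) n hn d hd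
    have h1 : n * (D.subtype d) * n⁻¹ ∈ (Cfsg.pCore p ↥D).map D.subtype := ⟨d', hd', e⟩
    rw [hD₀def]; exact h1
  have hQND : Q ≤ Subgroup.normalizer (D : Set H) := hQL.trans (hLP.trans hNPD)
  have hQND₀ : Q ≤ Subgroup.normalizer (D₀ : Set H) := hQND.trans hNDD₀
  have hDND₀ : D ≤ Subgroup.normalizer (D₀ : Set H) := Subgroup.le_normalizer.trans hNDD₀
  have hLND₀ : L ≤ Subgroup.normalizer (D₀ : Set H) := hLP.trans (hNPD.trans hNDD₀)
  -- `T = D₀ Q`
  have hTp : IsPGroup p ↥(D₀ ⊔ Q : Subgroup H) :=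
    IsPGroup.to_sup_of_normal_left' hD₀p hQp hQND₀
  have hTNQ : Subgroup.normalizer ((D₀ ⊔ Q : Subgroup H) : Set H) ≤
      Subgroup.normalizer (Q : Set H) := hwc _ hTp le_sup_right
  have hTNT : (D₀ ⊔ Q : Subgroup H) ≤ Subgroup.normalizer ((D₀ ⊔ Q : Subgroup H) : Set H) :=
    Subgroup.le_normalizer
  have hD₀NQ : D₀ ≤ Subgroup.normalizer (Q : Set H) := le_sup_left.trans (hTNT.trans hTNQ)
  -- `E = D₀ ∩ Q ≤ P`
  have hEP : D₀ ⊓ Q ≤ P := by
    have h1 : D₀ ⊓ L ≤ P :=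
      hPmax (D₀ ⊓ L) (hD₀p.to_le inf_le_left) inf_le_right
        (Helper7.le_normalizer_inf hLND₀ Subgroup.le_normalizer)
    exact (inf_le_inf_left D₀ hQL).trans h1
  have hEc : ∀ e ∈ D₀ ⊓ Q, ∀ d ∈ D, d * e = e * d := by
    intro e he d hd
    exact ((hDmem d).1 hd e (hEP he)).symm
  -- `D₁`: the elements normalizing `D₀` and acting trivially on `D₀ / E`
  obtain ⟨D₁, hD₁⟩ : ∃ D₁ : Subgroup H, ∀ g, g ∈ D₁ ↔
      (g ∈ Subgroup.normalizer (D₀ : Set H) ∧ ∀ w ∈ D₀, g * w * g⁻¹ * w⁻¹ ∈ D₀ ⊓ Q) := by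
    refine ⟨{ carrier := {g | g ∈ Subgroup.normalizer (D₀ : Set H) ∧
                ∀ w ∈ D₀, g * w * g⁻¹ * w⁻¹ ∈ D₀ ⊓ Q}
              mul_mem' := ?_
              one_mem' := ?_
              inv_mem' := ?_ }, fun _ => Iff.rfl⟩
    · rintro g h ⟨hgN, hg⟩ ⟨hhN, hh⟩
      refine ⟨mul_mem hgN hhN, ?_⟩
      intro w hw
      have h1 := hh w hw
      have h2 := hg _ (Subgroup.mem_inf.1 h1).1
      have h3 := hg w hw
      have e : g * h * w * (g * h)⁻¹ * w⁻¹ =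
          (g * (h * w * h⁻¹ * w⁻¹) * g⁻¹ * (h * w * h⁻¹ * w⁻¹)⁻¹) * (h * w * h⁻¹ * w⁻¹) *
            (g * w * g⁻¹ * w⁻¹) := by group
      rw [e]
      exact mul_mem (mul_mem h2 h1) h3
    · refine ⟨one_mem _, ?_⟩
      intro w hw
      have e : (1 : H) * w * 1⁻¹ * w⁻¹ = 1 := by group
      rw [e]; exact one_mem _
    · rintro g ⟨hgN, hg⟩
      refine ⟨inv_mem hgN, ?_⟩
      intro w hw
      have hw' : g⁻¹ * w * g⁻¹⁻¹ ∈ D₀ := Helper7.conj_mem_of_mem_normalizer (inv_mem hgN) hw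
      have h1 := hg _ hw'
      have h2 := inv_mem h1
      have e : (g * (g⁻¹ * w * g⁻¹⁻¹) * g⁻¹ * (g⁻¹ * w * g⁻¹⁻¹)⁻¹)⁻¹ =
          g⁻¹ * w * g⁻¹⁻¹ * w⁻¹ := by group
      rw [e] at h2
      exact h2
  have hQD₁ : Q ≤ D₁ := by
    intro x hx
    rw [hD₁]
    refine ⟨hQND₀ hx, ?_⟩
    intro w hw
    refine Subgroup.mem_inf.2 ⟨?_, ?_⟩
    · exact mul_mem (Helper7.conj_mem_of_mem_normalizer (hQND₀ hx) hw) (inv_mem hw)
    · have h1 : w * x⁻¹ * w⁻¹ ∈ Q := Helper7.conj_mem_of_mem_normalizer (hD₀NQ hw) (inv_mem hx)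
      have e : x * w * x⁻¹ * w⁻¹ = x * (w * x⁻¹ * w⁻¹) := by group
      rw [e]
      exact mul_mem hx h1
  have hDD₁ : ∀ d ∈ D, ∀ g ∈ D₁, d * g * d⁻¹ ∈ D₁ := by
    intro d hd g hg
    rw [hD₁] at hg ⊢
    obtain ⟨hgN, hg⟩ := hg
    have hdN := hDND₀ hd
    refine ⟨mul_mem (mul_mem hdN hgN) (inv_mem hdN), ?_⟩
    intro w hw
    have hw' : d⁻¹ * w * d⁻¹⁻¹ ∈ D₀ := Helper7.conj_mem_of_mem_normalizer (inv_mem hdN) hw
    have h1 := hg _ hw'
    have h2 := hEc _ h1 d hd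
    have e : d * g * d⁻¹ * w * (d * g * d⁻¹)⁻¹ * w⁻¹ =
        d * (g * (d⁻¹ * w * d⁻¹⁻¹) * g⁻¹ * (d⁻¹ * w * d⁻¹⁻¹)⁻¹) * d⁻¹ := by group
    rw [e, h2, mul_inv_cancel_right]
    exact h1
  -- `D ∩ D₁` is a normal `p`-subgroup of `D`
  have hKp : IsPGroup p ↥(D ⊓ D₁ : Subgroup H) := by
    apply Helper7.isPGroup_of_forall_coprime_eq_one p
    intro g hg hcop
    obtain ⟨hgD, hgD₁⟩ := Subgroup.mem_inf.1 hg
    obtain ⟨-, hgE⟩ := (hD₁ g).1 hgD₁
    have hcomm : ∀ w ∈ D₀, w * g = g * w := by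
      intro w hw
      have hc := hgE w hw
      have h1 : g * w * g⁻¹ * w⁻¹ = 1 := by
        apply Helper7.comm_eq_one_of_coprime p g w _ _ hcop
        · exact hEc _ hc g hgD
        · obtain ⟨k, hk⟩ := hD₀p ⟨_, (Subgroup.mem_inf.1 hc).1⟩
          refine ⟨k, ?_⟩
          have h0 := congrArg Subtype.val hk
          exact h0
      have h2 : g * w * g⁻¹ = w := mul_inv_eq_one.1 h1
      have h3 : g * w = w * g := mul_inv_eq_iff_eq_mul.1 h2
      exact h3.symm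
    have hgc : (⟨g, hgD⟩ : ↥D) ∈ Subgroup.centralizer (Cfsg.pCore p ↥D : Set ↥D) := by
      rw [Subgroup.mem_centralizer_iff]
      intro z hz
      apply Subtype.ext
      have hzD₀ : (z : H) ∈ D₀ := by rw [hD₀def]; exact ⟨z, hz, rfl⟩
      exact hcomm _ hzD₀
    have hgp := hDchar hgc
    have hgD₀ : g ∈ D₀ := by rw [hD₀def]; exact ⟨⟨g, hgD⟩, hgp, rfl⟩
    obtain ⟨k, hk⟩ := hD₀p ⟨g, hgD₀⟩
    have hk' : g ^ (p ^ k) = 1 := by
      have h0 := congrArg Subtype.val hk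
      exact h0
    exact eq_one_of_ppow_of_coprime p g k hk' hcop
  have hKD₀ : D ⊓ D₁ ≤ D₀ :=
    hD₀max (D ⊓ D₁) hKp inf_le_left
      (Helper7.le_normalizer_inf Subgroup.le_normalizer (Helper7.le_normalizer_of_conj_mem hDD₁))
  have hcomm : ∀ d ∈ D, ∀ x ∈ Q, d * x * d⁻¹ * x⁻¹ ∈ D₀ := by
    intro d hd x hx
    apply hKD₀
    refine Subgroup.mem_inf.2 ⟨?_, ?_⟩
    · have h1 : x * d⁻¹ * x⁻¹ ∈ D := Helper7.conj_mem_of_mem_normalizer (hQND hx) (inv_mem hd)
      have e : d * x * d⁻¹ * x⁻¹ = d * (x * d⁻¹ * x⁻¹) := by group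
      rw [e]; exact mul_mem hd h1
    · exact mul_mem (hDD₁ d hd x (hQD₁ hx)) (inv_mem (hQD₁ hx))
  -- `D` normalizes `T = D₀ Q`, hence `Q`
  have hDT : D ≤ Subgroup.normalizer ((D₀ ⊔ Q : Subgroup H) : Set H) := by
    apply Helper7.le_normalizer_of_conj_mem
    intro d hd
    have h1 : D₀ ⊔ Q ≤ (D₀ ⊔ Q).comap (MulAut.conj d).toMonoidHom := by
      apply sup_le
      · intro a ha
        exact Subgroup.mem_sup_left (Helper7.conj_mem_of_mem_normalizer (hDND₀ hd) ha)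
      · intro x hx
        show d * x * d⁻¹ ∈ D₀ ⊔ Q
        have e : d * x * d⁻¹ = (d * x * d⁻¹ * x⁻¹) * x := by group
        rw [e]
        exact mul_mem (Subgroup.mem_sup_left (hcomm d hd x hx)) (Subgroup.mem_sup_right hx)
    intro t ht
    exact h1 ht
  have hDNQ : D ≤ Subgroup.normalizer (Q : Set H) := hDT.trans hTNQ
  have hQDP : Q ⊓ D ≤ P := by
    have h1 : Q ⊓ D ≤ D₀ :=
      hD₀max (Q ⊓ D) (hQp.to_le inf_le_left) inf_le_right
        (Helper7.le_normalizer_inf hDNQ Subgroup.le_normalizer)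
    exact (le_inf h1 inf_le_left).trans hEP
  refine ⟨?_, ?_⟩
  · have h1 : ⁅Q, D⁆ ≤ Q := Helper7.commutator_le_of_le_normalizer hDNQ
    have h2 : ⁅Q, D⁆ ≤ D := by
      rw [Subgroup.commutator_comm]
      exact Helper7.commutator_le_of_le_normalizer hQND
    exact le_inf h1 ((le_inf h1 h2).trans hQDP)
  · apply Helper7.isPGroup_of_forall_coprime_eq_one p
    intro g hg hcop
    have hgx : ∀ x ∈ Q, x * g = g * x := by
      intro x hx
      have hcQ : g * x * g⁻¹ * x⁻¹ ∈ Q :=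
        mul_mem (Helper7.conj_mem_of_mem_normalizer (hDNQ hg) hx) (inv_mem hx)
      have hcD : g * x * g⁻¹ * x⁻¹ ∈ D := by
        have h1 : x * g⁻¹ * x⁻¹ ∈ D := Helper7.conj_mem_of_mem_normalizer (hQND hx) (inv_mem hg)
        have e : g * x * g⁻¹ * x⁻¹ = g * (x * g⁻¹ * x⁻¹) := by group
        rw [e]; exact mul_mem hg h1
      have hcP : g * x * g⁻¹ * x⁻¹ ∈ P := hQDP (Subgroup.mem_inf.2 ⟨hcQ, hcD⟩)
      have h1 : g * x * g⁻¹ * x⁻¹ = 1 := by
        apply Helper7.comm_eq_one_of_coprime p g x _ _ hcop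
        · exact ((hDmem g).1 hg _ hcP).symm
        · obtain ⟨k, hk⟩ := hQp ⟨_, hcQ⟩
          refine ⟨k, ?_⟩
          have h0 := congrArg Subtype.val hk
          exact h0
      have h2 : g * x * g⁻¹ = x := mul_inv_eq_one.1 h1
      have h3 : g * x = x * g := mul_inv_eq_iff_eq_mul.1 h2
      exact h3.symm
    have hgCQ : g ∈ Subgroup.centralizer (Q : Set H) := by
      rw [Subgroup.mem_centralizer_iff]
      exact hgx
    have hgQ : g ∈ Q := hCQ hgCQ
    obtain ⟨k, hk⟩ := hQp ⟨g, hgQ⟩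
    have hk' : g ^ (p ^ k) = 1 := by
      have h0 := congrArg Subtype.val hk
      exact h0
    exact eq_one_of_ppow_of_coprime p g k hk' hcop

theorem result {H : Type*} [Group H] [Finite H] {p : ℕ} [Fact p.Prime] (Q : Subgroup H) (hQp : IsPGroup p ↥Q) (hQ1 : Q ≠ ⊥) (hwc : Cfsg.IsWeaklyClosedSubgroup p Q) (hCQ : Subgroup.centralizer ((Q : Subgroup H) : Set H) ≤ Q) (L : Subgroup H) (hQL : Q ≤ L) (hyp : Subgroup.centralizer (Cfsg.pCore p H : Set H) ≤ Cfsg.pCore p H ∨ ∃ y : H, y ≠ 1 ∧ y ∈ (Cfsg.pCoreOf p L) ⊓ Subgroup.centralizer ((Q : Subgroup H) : Set H) ∧ Subgroup.centralizer (Cfsg.pCore p ↥(Subgroup.centralizer ({y} : Set H)) : Set ↥(Subgroup.centralizer ({y} : Set H))) ≤ Cfsg.pCore p ↥(Subgroup.centralizer ({y} : Set H))) : ⁅Q, Subgroup.centralizer (((Cfsg.pCoreOf p L) : Subgroup H) : Set H)⁆ ≤ Q ⊓ (Cfsg.pCoreOf p L) ∧ IsPGroup p ↥(Subgroup.centralizer (((Cfsg.pCoreOf p L) : Subgroup H) : Set H)) ∧ Subgroup.centralizer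 (Cfsg.pCore p ↥L : Set ↥L) ≤ Cfsg.pCore p ↥L := by
  classical
  have hWC := Helper14.wc'_of_isWeaklyClosedSubgroup hwc
  have hwc' : ∀ T : Subgroup H, IsPGroup p ↥T → Q ≤ T →
      Subgroup.normalizer (T : Set H) ≤ Subgroup.normalizer (Q : Set H) := by
    intro T hT hQT n hn
    apply Helper7.mem_normalizer_of_map_conj_eq
    apply hWC T hT hQT
    rintro _ ⟨q, hq, rfl⟩
    exact (Subgroup.mem_normalizer_iff.1 hn q).1 (hQT hq)
  have hPp : IsPGroup p ↥(Cfsg.pCoreOf p L) := (Helper1.pCore_isPGroup p ↥L).map L.subtype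
  -- `D = C_H(O_p(L))` has characteristic `p`
  have hDF : Cfsg.generalizedFittingSubgroup
      ↥(Subgroup.centralizer ((Cfsg.pCoreOf p L : Subgroup H) : Set H)) =
      Cfsg.pCore p ↥(Subgroup.centralizer ((Cfsg.pCoreOf p L : Subgroup H) : Set H)) := by
    rcases hyp with hA | ⟨y, hy1, hy, hCy⟩
    · have hFH := Helper7.generalizedFitting_eq_pCore_of_centralizer_le p hA
      have hall : ∀ h : H, h ∈ Subgroup.centralizer (((⊥ : Subgroup H) : Subgroup H) : Set H) := by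
        intro h
        rw [Subgroup.mem_centralizer_iff]
        intro z hz
        have hz1 : z = 1 := Subgroup.mem_bot.1 hz
        rw [hz1, one_mul, mul_one]
      have hbot := Helper7.generalizedFitting_eq_pCore_of_mulEquiv p
        ({ toFun := fun h => ⟨h, hall h⟩
           invFun := fun h => h.1
           left_inv := fun h => rfl
           right_inv := fun h => rfl
           map_mul' := fun a b => rfl } :
          H ≃* ↥(Subgroup.centralizer (((⊥ : Subgroup H) : Subgroup H) : Set H))) hFH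
      exact Helper7.generalizedFitting_centralizer_mono p _ ⊥ bot_le hPp hbot
    · have hFy := Helper7.generalizedFitting_eq_pCore_of_centralizer_le p hCy
      have hz : Cfsg.generalizedFittingSubgroup
          ↥(Subgroup.centralizer ((Subgroup.zpowers y : Subgroup H) : Set H)) =
          Cfsg.pCore p ↥(Subgroup.centralizer ((Subgroup.zpowers y : Subgroup H) : Set H)) := by
        rw [Helper7.centralizer_zpowers_eq]
        exact hFy
      have hyP : y ∈ Cfsg.pCoreOf p L := (Subgroup.mem_inf.1 hy).1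
      exact Helper7.generalizedFitting_centralizer_mono p _ (Subgroup.zpowers y)
        (Subgroup.zpowers_le.2 hyP) hPp hz
  have hDchar := Helper7.centralizer_pCore_le_of_generalizedFitting_eq p hDF
  obtain ⟨h1, h2⟩ := key Q L (Cfsg.pCoreOf p L) _ hQp hwc' hCQ hQL rfl rfl hDchar
  refine ⟨h1, h2, ?_⟩
  haveI : (Cfsg.pCore p ↥L).Normal := Helper1.pCore_normal p ↥L
  have hXn : (Subgroup.centralizer (Cfsg.pCore p ↥L : Set ↥L)).Normal := inferInstance
  have hXp : IsPGroup p ↥(Subgroup.centralizer (Cfsg.pCore p ↥L : Set ↥L)) := by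
    intro g
    have hgD : ((g : ↥L) : H) ∈
        Subgroup.centralizer ((Cfsg.pCoreOf p L : Subgroup H) : Set H) := by
      rw [Subgroup.mem_centralizer_iff]
      intro h hh
      have hh' : h ∈ (Cfsg.pCore p ↥L).map L.subtype := hh
      obtain ⟨z, hz, rfl⟩ := hh'
      have h3 := Subgroup.mem_centralizer_iff.1 g.2 z hz
      have h0 := congrArg Subtype.val h3
      exact h0
    obtain ⟨k, hk⟩ := h2 ⟨_, hgD⟩
    refine ⟨k, ?_⟩
    have h0 : ((g : ↥L) : H) ^ (p ^ k) = 1 := by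
      have h0 := congrArg Subtype.val hk
      exact h0
    apply Subtype.ext
    apply Subtype.ext
    exact h0
  exact Helper1.le_pCore hXn hXp

end Cfsg.Agent.S2842
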