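-- S2846: large subgroup Q: every L in L_H above a Sylow p-subgroup has M in frak M_H and L* with the basic property, weak closures compatible.
import Mathlib
import Cfsg.Statements.S2846
import Cfsg.Agent.Helper9.FrakM

set_option autoImplicit false
open Cfsg

namespace Cfsg.Agent.S2846

/-- Let Q be a nontrivial large p-subgroup of the finite group H, S a Sylow p-subgroup containing Q, and L a subgroup containing S with O_p(L) ≠ 1 and C_H(O_p(L)) ≤ O_p(L). Then there are a subgroup M containing S having the basic property (M ∈ 𝔐_H, writing Y_X for the largest p-reduced normal subgroup of X and 𝓛_H for the set of subgroups X with O_p(X) ≠ 1 and C_H(O_p(X)) ≤ O_p(X): M ∈ 𝓛_H, M·C_H(Y_M) is the only maximal member of 𝓛_H containing M and its largest p-reduced normal subgroup is again Y_M, C_M(Y_M) is p-closed, and the image of C_M(Y_M) in M/O_p(M) lies in the Frattini subgroup of M/O_p(M)) and a subgroup L* with S ≤ L* ≤ M, O_p(L*) ≠ 1,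 C_H(O_p(L*)) ≤ O_p(L*), such that L·C_H(Y_L) = L*·C_H(Y_L), the weak closures of Q in L and in L* agree and lie in that of M, and Y_L = Y_{L*} ≤ Y_M. If moreover Q is not normal in L, then Q is normal in neither L* nor M. -/
theorem result {H : Type*} [Group H] [Finite H] {p : ℕ} [Fact p.Prime] (Q : Subgroup H) (hQp : IsPGroup p ↥Q) (hQ1 : Q ≠ ⊥) (hLg : Cfsg.IsLarge Q) (S : Sylow p H) (hQS : Q ≤ (S : Subgroup H)) (L : Subgroup H) (hSL : (S : Subgroup H) ≤ L) (hL : L ∈ Cfsg.charPSubgroups p H) : ∃ M Ls : Subgroup H, (S : Subgroup H) ≤ M ∧ Cfsg.IsInFrakM p M ∧ (S : Subgroup H) ≤ Ls ∧ Ls ≤ M ∧ Ls ∈ Cfsg.charPSubgroups p H ∧ L ⊔ Subgroup.centralizer (((Cfsg.largestPReducedOf p L) : Subgroup H) : Set H) = Ls ⊔ Subgroup.centralizer (((Cfsg.largestPReducedOf p L) : Subgroup H) : Set H) ∧ Cfsg.weakClosure Q L = Cfsg.weakClosure Q Ls ∧ Cfsg.weakClosure Q Ls ≤ Cfsg.weakClosure Q M ∧ (Cfsg.largestPReducedOf p L) = (Cfsg.largestPReducedOf p Ls)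 ∧ (Cfsg.largestPReducedOf p Ls) ≤ (Cfsg.largestPReducedOf p M) ∧ (¬ L ≤ Subgroup.normalizer ((Q : Subgroup H) : Set H) → ¬ Ls ≤ Subgroup.normalizer ((Q : Subgroup H) : Set H) ∧ ¬ M ≤ Subgroup.normalizer ((Q : Subgroup H) : Set H)) := by
  have hpar := Cfsg.Agent.Helper7.large_parabolic Q hQp hQ1 hLg
  have hchar : ∀ X : Subgroup H, (S : Subgroup H) ≤ X → Cfsg.pCore p ↥X ≠ ⊥ →
      X ∈ Cfsg.charPSubgroups p H :=
    fun X hSX hne => (Cfsg.Agent.Helper9.FrakM.mem_charP_iff X).mpr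
      ⟨hne, hpar.2.1 X ⟨S, hSX⟩ hne⟩
  obtain ⟨M, Ls, hSM, hFM, hSLs, hLsM, hLsc, hYeq, hYM, hfac⟩ :=
    Cfsg.Agent.Helper9.FrakM.exists_frakM S hchar L hSL hL
  have hLint := Cfsg.Agent.Helper9.FrakM.char_of_mem L hL
  have hYne : Cfsg.largestPReducedOf p L ≠ ⊥ :=
    Cfsg.Agent.Helper9.FrakM.largestPReducedOf_ne_bot S L hSL hLint
      ((Cfsg.Agent.Helper9.FrakM.mem_charP_iff L).mp hL).1
  have hYp : IsPGroup p ↥(Cfsg.largestPReducedOf p L) :=
    Cfsg.Agent.Helper9.FrakM.isPGroup_largestPReducedOf L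
  have hLN : L ≤ Subgroup.normalizer ((Cfsg.largestPReducedOf p L : Subgroup H) : Set H) :=
    Cfsg.Agent.Helper9.FrakM.le_normalizer_largestPReducedOf L
  have hLsN : Ls ≤ Subgroup.normalizer ((Cfsg.largestPReducedOf p L : Subgroup H) : Set H) := by
    rw [hYeq]; exact Cfsg.Agent.Helper9.FrakM.le_normalizer_largestPReducedOf Ls
  have hQL : Q ≤ L := hQS.trans hSL
  have hQLs : Q ≤ Ls := hQS.trans hSLs
  have hw1 := (Cfsg.Agent.Helper7.large_weakClosure Q hQp hQ1 hLg L hQL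
    (Cfsg.largestPReducedOf p L) hYp hYne hLN).1
  have hw2 := (Cfsg.Agent.Helper7.large_weakClosure Q hQp hQ1 hLg Ls hQLs
    (Cfsg.largestPReducedOf p L) hYp hYne hLsN).1
  have hwc : Cfsg.weakClosure Q L = Cfsg.weakClosure Q Ls :=
    hw1.trans ((congrArg (Cfsg.weakClosure Q) hfac).trans hw2.symm)
  have hmono : Cfsg.weakClosure Q Ls ≤ Cfsg.weakClosure Q M := by
    unfold Cfsg.weakClosure
    exact iSup_le (fun g => le_iSup
      (fun g' : {g : H // Q.map (MulAut.conj g).toMonoidHom ≤ M} =>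
        Q.map (MulAut.conj (g' : H)).toMonoidHom) ⟨g.1, g.2.trans hLsM⟩)
  have hconj1 : Q.map (MulAut.conj (1 : H)).toMonoidHom = Q := by
    ext x
    rw [Cfsg.Agent.Helper14.mem_map_conj]
    simp
  have hCN : Subgroup.centralizer ((Cfsg.largestPReducedOf p L : Subgroup H) : Set H) ≤
      Subgroup.normalizer ((Q : Subgroup H) : Set H) := by
    have h := Cfsg.Agent.Helper7.centralizer_le_normalizer_conj_large Q hQp hLg
      (Cfsg.largestPReducedOf p L) hYp hYne 1 (by rw [hconj1]; exact hQL.trans hLN)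
    rw [hconj1] at h
    exact h
  refine ⟨M, Ls, hSM, hFM, hSLs, hLsM, hLsc, hfac, hwc, hmono, hYeq, hYeq.ge.trans hYM, ?_⟩
  intro hLQ
  have hLsQ : ¬ Ls ≤ Subgroup.normalizer ((Q : Subgroup H) : Set H) := by
    intro h
    apply hLQ
    exact (le_sup_left.trans hfac.le).trans (sup_le h hCN)
  exact ⟨hLsQ, fun h => hLsQ (hLsM.trans h)⟩

end Cfsg.Agent.S2846
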