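import Cfsg.Statements.S2848
import Cfsg.Agent.Helper14.PReduced

set_option autoImplicit false
open Cfsg

namespace Cfsg.Agent.S2848

open Cfsg.Agent.Helper14

/-- Standing hypotheses: G a finite group, S a Sylow p-subgroup, Q a nontrivial large p-subgroup of G contained in S (C_G(Q) ≤ Q and N_G(U) ≤ N_G(Q) for all nontrivial U ≤ C_G(Q)), and M a subgroup containing S with the basic property (M ∈ 𝔐_G(S)); Y_M denotes the largest p-reduced normal subgroup of M and M† = M·C_G(Y_M). Then O_p(M) is a weakly closed subgroup of M† (for p): it is the only M†-conjugate of itself inside some Sylow p-subgroup of M† containing it. -/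
theorem result {G : Type*} [Group G] [Finite G] {p : ℕ} [Fact p.Prime] (S : Sylow p G) (Q : Subgroup G) (hQp : IsPGroup p ↥Q) (hQ1 : Q ≠ ⊥) (hQS : Q ≤ (S : Subgroup G)) (hQ : Cfsg.IsLarge Q) (M : Subgroup G) (hSM : (S : Subgroup G) ≤ M) (hM : Cfsg.IsInFrakM p M) : Cfsg.IsWeaklyClosedSubgroup p (((Cfsg.pCoreOf p M)).subgroupOf (M ⊔ Subgroup.centralizer (((Cfsg.largestPReducedOf p M) : Subgroup G) : Set G))) := by
  obtain ⟨-, -, -, -, hcl, -⟩ := hM
  obtain ⟨C, hC⟩ : ∃ C : Subgroup G,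
      C = Subgroup.centralizer ((largestPReducedOf p M : Subgroup G) : Set G) := ⟨_, rfl⟩
  rw [← hC] at hcl ⊢
  have hMC : M ≤ Subgroup.normalizer (C : Set G) := by
    rw [hC]
    exact (le_normalizer_largestPReducedOf p M).trans (normalizer_le_normalizer_centralizer _)
  have hMdC : M ⊔ C ≤ Subgroup.normalizer (C : Set G) := sup_le hMC Subgroup.le_normalizer
  have hOC : pCoreOf p M ≤ C := by
    rw [hC]; exact pCoreOf_le_centralizer_largestPReducedOf p M
  have hOS : pCoreOf p M ≤ (S : Subgroup G) := by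
    rintro _ ⟨x, hx, rfl⟩
    have h1 : x ∈ ((S.subtype hSM : Sylow p ↥M) : Subgroup ↥M) :=
      pCore_le_sylow (S.subtype hSM) hx
    rw [Sylow.coe_subtype] at h1
    exact Subgroup.mem_subgroupOf.mp h1
  have hSCO : (S : Subgroup G) ⊓ C ≤ pCoreOf p M := by
    intro x hx
    rw [Subgroup.mem_inf] at hx
    obtain ⟨a, ha⟩ := S.isPGroup' ⟨x, hx.1⟩
    have ha' : x ^ p ^ a = 1 := congrArg Subtype.val ha
    exact pelement_mem_pCoreOf_of_isPClosed M C hMC hcl x (hSM hx.1) hx.2 a ha'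
  have hSMd : (S : Subgroup G) ≤ M ⊔ C := hSM.trans le_sup_left
  refine ⟨S.subtype hSMd, And.intro ?_ ?_⟩
  · rw [Sylow.coe_subtype]
    intro x hx
    exact Subgroup.mem_subgroupOf.mpr (hOS (Subgroup.mem_subgroupOf.mp hx))
  · intro g hg
    rw [Sylow.coe_subtype] at hg
    have hle : ((pCoreOf p M).subgroupOf (M ⊔ C)).map (MulAut.conj g).toMonoidHom ≤
        (pCoreOf p M).subgroupOf (M ⊔ C) := by
      intro x hx
      have hxS : (x : G) ∈ (S : Subgroup G) := Subgroup.mem_subgroupOf.mp (hg hx)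
      obtain ⟨o, ho, rfl⟩ := hx
      have hoC : (o : G) ∈ C := hOC (Subgroup.mem_subgroupOf.mp ho)
      have hxC : (g : G) * (o : G) * (g : G)⁻¹ ∈ C :=
        (Subgroup.mem_normalizer_iff.mp (hMdC g.2) _).mp hoC
      exact Subgroup.mem_subgroupOf.mpr (hSCO (Subgroup.mem_inf.mpr ⟨hxS, hxC⟩))
    exact Subgroup.eq_of_le_of_card_ge hle (card_map_conj _ g).ge

end Cfsg.Agent.S2848
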