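import Cfsg.Statements.S2849
import Cfsg.Agent.Helper14.PReduced

set_option autoImplicit false
open Cfsg

namespace Cfsg.Agent.S2849

open Cfsg.Agent.Helper14

/-- Standing hypotheses: G a finite group, S a Sylow p-subgroup, Q a nontrivial large p-subgroup of G contained in S (C_G(Q) ≤ Q and N_G(U) ≤ N_G(Q) for all nontrivial U ≤ C_G(Q)), and M a subgroup containing S with the basic property (M ∈ 𝔐_G(S)); Y_M denotes the largest p-reduced normal subgroup of M and M† = M·C_G(Y_M). Suppose Y_M is asymmetric in G. Then for every subgroup R with Y_M ≤ R ≤ M†, the normal closure of Y_M in N_G(R) is elementary abelian. -/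
theorem result {G : Type*} [Group G] [Finite G] {p : ℕ} [Fact p.Prime] (S : Sylow p G) (Q : Subgroup G) (hQp : IsPGroup p ↥Q) (hQ1 : Q ≠ ⊥) (hQS : Q ≤ (S : Subgroup G)) (hQ : Cfsg.IsLarge Q) (M : Subgroup G) (hSM : (S : Subgroup G) ≤ M) (hM : Cfsg.IsInFrakM p M) (hasym : ¬ Cfsg.IsSymmetricIn (Cfsg.largestPReducedOf p M)) (R : Subgroup G) (hYR : (Cfsg.largestPReducedOf p M) ≤ R) (hRM : R ≤ (M ⊔ Subgroup.centralizer (((Cfsg.largestPReducedOf p M) : Subgroup G) : Set G))) : Cfsg.IsElementaryAbelian p ((Subgroup.normalClosure ((((Cfsg.largestPReducedOf p M)).subgroupOf (Subgroup.normalizer ((R : Subgroup G) : Set G)) : Subgroup ↥(Subgroup.normalizer ((R : Subgroup G) : Set G))) : Set ↥(Subgroup.normalizer ((R : Subgroup G) : Set G)))).map (Subgroup.normalizer ((R : Subgroup G) : Set G)).subtype) := by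
  have hYexp0 := largestPReducedOf_pow p M
  have hMY0 := le_normalizer_largestPReducedOf p M
  obtain ⟨Y, hY⟩ : ∃ Y : Subgroup G, Y = largestPReducedOf p M := ⟨_, rfl⟩
  rw [← hY] at hasym hYR hRM hYexp0 hMY0 ⊢
  have hMdY : M ⊔ Subgroup.centralizer (Y : Set G) ≤ Subgroup.normalizer (Y : Set G) :=
    sup_le hMY0 (Subgroup.centralizer_le_normalizer _)
  have hRY : R ≤ Subgroup.normalizer (Y : Set G) := hRM.trans hMdY
  have hk1 : ∀ k ∈ Subgroup.normalizer (R : Set G), ∀ y ∈ Y,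
      k * y * k⁻¹ ∈ Subgroup.normalizer (Y : Set G) := by
    intro k hk y hy
    exact hRY ((Subgroup.mem_normalizer_iff.mp hk y).mp (hYR hy))
  have hcomm : ∀ k ∈ Subgroup.normalizer (R : Set G), ∀ y ∈ Y, ∀ y' ∈ Y,
      y * (k * y' * k⁻¹) = (k * y' * k⁻¹) * y := by
    intro k hk
    have hsym : ⁅Y, Y.map (MulAut.conj k).toMonoidHom⁆ ≤
        Y ⊓ Y.map (MulAut.conj k).toMonoidHom := by
      rw [Subgroup.commutator_le]
      intro y hy z hz
      rw [commutatorElement_def, Subgroup.mem_inf]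
      have hz' : k⁻¹ * z * k ∈ Y := (mem_map_conj Y k z).mp hz
      constructor
      · have hzN : z ∈ Subgroup.normalizer (Y : Set G) := by
          have := hk1 k hk _ hz'
          have e : k * (k⁻¹ * z * k) * k⁻¹ = z := by group
          rwa [e] at this
        have h3 : z * y⁻¹ * z⁻¹ ∈ Y :=
          (Subgroup.mem_normalizer_iff.mp hzN y⁻¹).mp (Y.inv_mem hy)
        have e : y * z * y⁻¹ * z⁻¹ = y * (z * y⁻¹ * z⁻¹) := by group
        rw [e]; exact Y.mul_mem hy h3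
      · rw [mem_map_conj]
        have hn : k⁻¹ * y * k ∈ Subgroup.normalizer (Y : Set G) := by
          have := hk1 k⁻¹ (Subgroup.inv_mem _ hk) y hy
          rwa [inv_inv] at this
        have h3 := (Subgroup.mem_normalizer_iff.mp hn _).mp hz'
        have e : k⁻¹ * (y * z * y⁻¹ * z⁻¹) * k =
            ((k⁻¹ * y * k) * (k⁻¹ * z * k) * (k⁻¹ * y * k)⁻¹) * (k⁻¹ * z * k)⁻¹ := by group
        rw [e]; exact Y.mul_mem h3 (Y.inv_mem hz')
    have hbot : ⁅Y, Y.map (MulAut.conj k).toMonoidHom⁆ = ⊥ := by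
      by_contra hne
      exact hasym (Exists.intro k (And.intro hne hsym))
    have hcent := Subgroup.commutator_eq_bot_iff_le_centralizer.mp hbot
    intro y hy y' hy'
    exact (Subgroup.mem_centralizer_iff.mp (hcent hy) _ (conj_mem_map_conj Y k hy')).symm
  obtain ⟨S₀, hS₀⟩ : ∃ S₀ : Set G, S₀ = {x : G | ∃ g ∈ Subgroup.normalizer (R : Set G),
      ∃ y ∈ Y, x = g * y * g⁻¹} := ⟨_, rfl⟩
  have hS₀comm : ∀ x ∈ S₀, ∀ x' ∈ S₀, x * x' = x' * x := by
    rw [hS₀]
    rintro _ ⟨g, hg, y, hy, rfl⟩ _ ⟨h, hh, y', hy', rfl⟩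
    have hk : g⁻¹ * h ∈ Subgroup.normalizer (R : Set G) :=
      Subgroup.mul_mem _ (Subgroup.inv_mem _ hg) hh
    have hc := hcomm (g⁻¹ * h) hk y hy y' hy'
    calc g * y * g⁻¹ * (h * y' * h⁻¹)
        = g * (y * (g⁻¹ * h * y' * (g⁻¹ * h)⁻¹)) * g⁻¹ := by group
      _ = g * ((g⁻¹ * h * y' * (g⁻¹ * h)⁻¹) * y) * g⁻¹ := by rw [hc]
      _ = h * y' * h⁻¹ * (g * y * g⁻¹) := by group
  have hS₀pow : ∀ x ∈ S₀, x ^ p = 1 := by
    rw [hS₀]
    rintro _ ⟨g, hg, y, hy, rfl⟩
    rw [conj_pow, hYexp0 y hy, mul_one, mul_inv_cancel]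
  have hle : (Subgroup.normalClosure ((Y.subgroupOf (Subgroup.normalizer (R : Set G)) :
      Subgroup ↥(Subgroup.normalizer (R : Set G))) :
        Set ↥(Subgroup.normalizer (R : Set G)))).map
          (Subgroup.normalizer (R : Set G)).subtype ≤ Subgroup.closure S₀ := by
    rw [Subgroup.map_le_iff_le_comap]
    show Subgroup.closure (Group.conjugatesOfSet _) ≤ _
    rw [Subgroup.closure_le]
    intro x hx
    rw [Group.mem_conjugatesOfSet_iff] at hx
    obtain ⟨b, hb, hconj⟩ := hx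
    rw [isConj_iff] at hconj
    obtain ⟨c, rfl⟩ := hconj
    rw [SetLike.mem_coe, Subgroup.mem_comap]
    apply Subgroup.subset_closure
    rw [hS₀]
    exact ⟨(c : G), c.2, (b : G), Subgroup.mem_subgroupOf.mp hb, rfl⟩
  refine And.intro ?_ ?_
  · refine ⟨⟨fun a b => Subtype.ext ?_⟩⟩
    exact closure_comm_of_comm S₀ hS₀comm _ (hle a.2) _ (hle b.2)
  · intro a ha
    exact closure_pow_eq_one_of_comm S₀ p hS₀comm hS₀pow a (hle ha)

end Cfsg.Agent.S2849
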