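-- S2851: Y_M <= Y_H for H of characteristic p containing the F*-preimage, via Helper9.FrakH4
import Mathlib
import Cfsg.Statements.S2851
import Cfsg.Agent.Helper9.FrakH4

set_option autoImplicit false
open Cfsg

namespace Cfsg.Agent.S2851

/-- Standing hypotheses: G a finite group, S a Sylow p-subgroup, Q a nontrivial large p-subgroup of G contained in S, M a subgroup containing S with the basic property (M ∈ 𝔐_G(S)); Y_M the largest p-reduced normal subgroup of M and M† = M·C_G(Y_M). Let F be the preimage in M† of the generalized Fitting subgroup of M†/C_{M†}(Y_M). If Y_M is asymmetric in G and H is a subgroup of characteristic p containing F, then Y_M ≤ Y_H. -/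
theorem result {G : Type*} [Group G] [Finite G] {p : ℕ} [Fact p.Prime] (S : Sylow p G) (Q : Subgroup G) (hQp : IsPGroup p ↥Q) (hQ1 : Q ≠ ⊥) (hQS : Q ≤ (S : Subgroup G)) (hQ : Cfsg.IsLarge Q) (M : Subgroup G) (hSM : (S : Subgroup G) ≤ M) (hM : Cfsg.IsInFrakM p M) (hasym : ¬ Cfsg.IsSymmetricIn (Cfsg.largestPReducedOf p M)) [hn : ((Subgroup.centralizer (((Cfsg.largestPReducedOf p M) : Subgroup G) : Set G)).subgroupOf (M ⊔ Subgroup.centralizer (((Cfsg.largestPReducedOf p M) : Subgroup G) : Set G))).Normal] (F : Subgroup G) (hF : F = ((Cfsg.generalizedFittingSubgroup (↥(M ⊔ Subgroup.centralizer (((Cfsg.largestPReducedOf p M) : Subgroup G) : Set G)) ⧸ (Subgroup.centralizer (((Cfsg.largestPReducedOf p M) : Subgroup G) : Set G)).subgroupOf (M ⊔ Subgroup.centralizer (((Cfsg.largestPReducedOf p M) : Subgroup G) : Set G)))).comap (QuotientGroup.mk' ((Subgroup.centralizer (((Cfsg.largestPReducedOf p M) : Subgroup G) : Set G)).subgroupOf (M ⊔ Subgroup.centralizer (((Cfsg.largestPReducedOf p M)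 : Subgroup G) : Set G))))).map ((M ⊔ Subgroup.centralizer (((Cfsg.largestPReducedOf p M) : Subgroup G) : Set G))).subtype) (H : Subgroup G) (hFH : F ≤ H) (hH : Subgroup.centralizer (Cfsg.pCore p ↥H : Set ↥H) ≤ Cfsg.pCore p ↥H) : (Cfsg.largestPReducedOf p M) ≤ Cfsg.largestPReducedOf p H := by
  obtain ⟨-, -, h3, -⟩ := Cfsg.Agent.Helper9.Asym.main S Q hQp hQ1 hQ M hSM hM hasym
  have hM' := hM
  obtain ⟨-, -, -, hYMd, -, -⟩ := hM'
  have hrel : Cfsg.Agent.Helper9.RelRed p
      (M ⊔ Subgroup.centralizer (((Cfsg.largestPReducedOf p M) : Subgroup G) : Set G))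
      (Cfsg.largestPReducedOf p M) := by
    have h := Cfsg.Agent.Helper9.relRed_largestPReducedOf (p := p)
      (M ⊔ Subgroup.centralizer (((Cfsg.largestPReducedOf p M) : Subgroup G) : Set G))
    rw [← hYMd] at h
    exact h
  have hCF := Cfsg.Agent.Helper9.FrakH.centralizer_le_fstar_preimage
    (M ⊔ Subgroup.centralizer (((Cfsg.largestPReducedOf p M) : Subgroup G) : Set G))
    (Cfsg.largestPReducedOf p M) F le_sup_right hF
  have hOH : Cfsg.pCoreOf p M ≤ H :=
    ((Cfsg.Agent.Helper14.pCoreOf_le_centralizer_largestPReducedOf p M).trans hCF).trans hFH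
  obtain ⟨T, hT⟩ := h3 H hOH
  exact Cfsg.Agent.Helper9.FrakH.le_largestPReducedOf_of_fstar
    (M ⊔ Subgroup.centralizer (((Cfsg.largestPReducedOf p M) : Subgroup G) : Set G))
    (Cfsg.largestPReducedOf p M) F H hrel hF hFH hH T hT

end Cfsg.Agent.S2851
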