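-- S2853: structure of H in frak H_G(O_p(M)), via Helper9.FrakH2
import Mathlib
import Cfsg.Statements.S2853
import Cfsg.Agent.Helper9.FrakH2

set_option autoImplicit false
open Cfsg

namespace Cfsg.Agent.S2853

/-- Standing hypotheses: G a finite group, S a Sylow p-subgroup, Q a nontrivial large p-subgroup of G contained in S, M a subgroup containing S with the basic property (M ∈ 𝔐_G(S)); Y_M the largest p-reduced normal subgroup of M and M† = M·C_G(Y_M). Suppose Y_M is char-p-tall and asymmetric in G and H ∈ ℌ_G(O_p(M)). Then every Sylow p-subgroup of H ∩ M† is a Sylow p-subgroup of H; O_p(H) normalizes O_p(M) and Y_M; O^p(H) = [O^p(H), Y_M] and H = O^p(H)·O_p(M); O^p(H)·Y_M is the normal closure of Y_M in H; and H is the normal closure of O_p(M) in H. Here O^p(H) is the subgroup generated by the elements of H of order prime to p. -/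
theorem result {G : Type*} [Group G] [Finite G] {p : ℕ} [Fact p.Prime] (S : Sylow p G) (Q : Subgroup G) (hQp : IsPGroup p ↥Q) (hQ1 : Q ≠ ⊥) (hQS : Q ≤ (S : Subgroup G)) (hQ : Cfsg.IsLarge Q) (M : Subgroup G) (hSM : (S : Subgroup G) ≤ M) (hM : Cfsg.IsInFrakM p M) (htall : Cfsg.IsCharPTall p (Cfsg.largestPReducedOf p M)) (hasym : ¬ Cfsg.IsSymmetricIn (Cfsg.largestPReducedOf p M)) (H : Subgroup G) (hH : Cfsg.IsInFrakH p M H) (R : Subgroup G) (hR : R = (Cfsg.pResidual p ↥H).map H.subtype) : (∀ T : Sylow p ↥(H ⊓ (M ⊔ Subgroup.centralizer (((Cfsg.largestPReducedOf p M) : Subgroup G) : Set G))), ∃ P : Sylow p ↥H, ((P : Subgroup ↥H).map H.subtype) = (T : Subgroup ↥(H ⊓ (M ⊔ Subgroup.centralizer (((Cfsg.largestPReducedOf p M) : Subgroup G) : Set G)))).map (H ⊓ (M ⊔ Subgroup.centralizer (((Cfsg.largestPReducedOf p M) : Subgroup G) : Set G))).subtype) ∧ Cfsg.pCoreOf p H ≤ Subgroup.normalizer (((Cfsg.pCoreOf p M) : Subgroup G) : Set G) ⊓ Subgroup.normalizer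 (((Cfsg.largestPReducedOf p M) : Subgroup G) : Set G) ∧ ⁅R, (Cfsg.largestPReducedOf p M)⁆ = R ∧ R ⊔ (Cfsg.pCoreOf p M) = H ∧ R ⊔ (Cfsg.largestPReducedOf p M) = (Subgroup.normalClosure ((((Cfsg.largestPReducedOf p M)).subgroupOf H : Subgroup ↥H) : Set ↥H)).map H.subtype ∧ (Subgroup.normalClosure ((((Cfsg.pCoreOf p M)).subgroupOf H : Subgroup ↥H) : Set ↥H)).map H.subtype = H := by
  obtain ⟨h1, hwc, h3, -⟩ := Cfsg.Agent.Helper9.Asym.main S Q hQp hQ1 hQ M hSM hM hasym
  obtain ⟨hHc, hOH, hYH, hmin⟩ := hH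
  have hOp : IsPGroup p ↥(Cfsg.pCoreOf p M) := Cfsg.Agent.Helper14.pCoreOf_isPGroup p M
  have hYp : IsPGroup p ↥(Cfsg.largestPReducedOf p M) :=
    Cfsg.Agent.Helper9.FrakM.isPGroup_largestPReducedOf M
  have hOC := Cfsg.Agent.Helper14.pCoreOf_le_centralizer_largestPReducedOf p M
  have hYO : Cfsg.largestPReducedOf p M ≤ Cfsg.pCoreOf p M :=
    Cfsg.Agent.Helper9.largestPReducedOf_le_pCoreOf M
  have hMdY : (M ⊔ Subgroup.centralizer ((Cfsg.largestPReducedOf p M : Subgroup G) : Set G)) ≤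
      Subgroup.normalizer ((Cfsg.largestPReducedOf p M : Subgroup G) : Set G) :=
    sup_le (Cfsg.Agent.Helper9.FrakM.le_normalizer_largestPReducedOf (p := p) M)
      (Subgroup.centralizer_le_normalizer _)
  have hNO : Subgroup.normalizer ((Cfsg.pCoreOf p M : Subgroup G) : Set G) ≤
      Subgroup.normalizer ((Cfsg.largestPReducedOf p M : Subgroup G) : Set G) :=
    (h1 _ hOp le_rfl).2.trans hMdY
  have hWC := Cfsg.Agent.Helper14.wc'_of_isWeaklyClosedSubgroup hwc
  have hAO := Cfsg.Agent.Helper9.FrakH.pCoreOf_le_normalizer_of_wc H _ hOp hWC hOH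
  have hcore := Cfsg.Agent.Helper9.FrakH.struct_core H (Cfsg.pCoreOf p M)
    (Cfsg.largestPReducedOf p M) R hOp hYp hYO hOH
    (hOC.trans (Subgroup.centralizer_le_normalizer _)) hWC hYH hmin hR
  refine ⟨?_, le_inf hAO (hAO.trans hNO), hcore.1, hcore.2.1, hcore.2.2.1, hcore.2.2.2⟩
  intro T
  exact Cfsg.Agent.Helper9.FrakH.exists_sylow_map_eq H
    (H ⊓ (M ⊔ Subgroup.centralizer (((Cfsg.largestPReducedOf p M) : Subgroup G) : Set G)))
    inf_le_left (h3 H hOH) T

end Cfsg.Agent.S2853
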