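import Cfsg.Statements.S2872
import Cfsg.Agent.S2911
import Cfsg.Agent.Helper22.InvCount
import Cfsg.Agent.Helper16.Conj

set_option autoImplicit false
open Cfsg

namespace Cfsg.Agent.S2872




/-- Let S be a Sylow 2-subgroup of the finite group G. Then G has a proper normal subgroup of 2-power index (O²(G) ≠ G), or Ω₁(Z(S)) is contained in the Frattini subgroup of S, or N_G(S) acts nontrivially on Ω₁(Z(S)) by conjugation. -/
theorem result {G : Type*} [Group G] [Finite G] (S : Sylow 2 G) : Cfsg.pResidual 2 G ≠ ⊤ ∨ Cfsg.omegaOne 2 ((S : Subgroup G) ⊓ Subgroup.centralizer ((S : Subgroup G) : Set G)) ≤ (frattini ↥(S : Subgroup G)).map (S : Subgroup G).subtype ∨ ∃ g ∈ Subgroup.normalizer ((S : Subgroup G) : Set G), ∃ z ∈ Cfsg.omegaOne 2 ((S : Subgroup G) ⊓ Subgroup.centralizer ((S : Subgroup G) : Set G)), g * z * g⁻¹ ≠ z := by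
  classical
  haveI : Fact (Nat.Prime 2) := ⟨Nat.prime_two⟩
  by_contra hcon
  rw [not_or, not_or] at hcon
  obtain ⟨h1, h2, h3⟩ := hcon
  have h1' : Cfsg.pResidual 2 G = ⊤ := not_not.mp h1
  have hgen : ∃ z : G, z ∈ (S : Subgroup G) ⊓ Subgroup.centralizer ((S : Subgroup G) : Set G) ∧
      z ^ 2 = 1 ∧ z ∉ (frattini ↥(S : Subgroup G)).map (S : Subgroup G).subtype := by
    by_contra hno
    apply h2
    unfold Cfsg.omegaOne
    rw [Subgroup.closure_le]
    rintro x ⟨hx1, hx2⟩
    by_contra hx3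
    exact hno ⟨x, hx1, hx2, hx3⟩
  obtain ⟨z, hzZ, hz2, hzF⟩ := hgen
  have hzS : z ∈ (S : Subgroup G) := hzZ.1
  have hzC : z ∈ Subgroup.centralizer ((S : Subgroup G) : Set G) := hzZ.2
  have hzF' : (⟨z, hzS⟩ : ↥(S : Subgroup G)) ∉ frattini ↥(S : Subgroup G) := by
    intro hmem
    exact hzF ⟨⟨z, hzS⟩, hmem, rfl⟩
  obtain ⟨M, hM, hzM⟩ : ∃ M : Subgroup ↥(S : Subgroup G), IsCoatom M ∧
      (⟨z, hzS⟩ : ↥(S : Subgroup G)) ∉ M := by
    by_contra hno
    apply hzF'
    unfold frattini Order.radical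
    rw [Subgroup.mem_iInf]
    intro M
    rw [Subgroup.mem_iInf]
    intro hMc
    by_contra hzM
    exact hno ⟨M, hMc, hzM⟩
  have hMidx : M.index = 2 := Helper22.pgroup_coatom_index S.isPGroup' hM
  obtain ⟨T, hT⟩ : ∃ T : Subgroup G, T = M.map (S : Subgroup G).subtype := ⟨_, rfl⟩
  have hTS : T ≤ (S : Subgroup G) := by
    rw [hT]; exact Subgroup.map_subtype_le M
  have hTsub : T.subgroupOf (S : Subgroup G) = M := by
    rw [hT]
    exact Subgroup.comap_map_eq_self_of_injective (Subgroup.subtype_injective _) M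
  have hidx : T.relIndex (S : Subgroup G) = 2 := by
    show (T.subgroupOf (S : Subgroup G)).index = 2
    rw [hTsub]; exact hMidx
  have hzT : z ∉ T := by
    rw [hT]
    rintro ⟨m, hm, hmz⟩
    apply hzM
    have hmeq : m = ⟨z, hzS⟩ := Subtype.ext hmz
    rw [← hmeq]; exact hm
  have huu : z * z = 1 := by rw [← pow_two]; exact hz2
  have hzΩ : z ∈ Cfsg.omegaOne 2 ((S : Subgroup G) ⊓ Subgroup.centralizer ((S : Subgroup G) : Set G)) :=
    Subgroup.subset_closure (show z ∈ {x : G | x ∈ (S : Subgroup G) ⊓ Subgroup.centralizer ((S : Subgroup G) : Set G) ∧ x ^ 2 = 1} from And.intro hzZ hz2)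
  have hfix : ∀ g ∈ Subgroup.normalizer ((S : Subgroup G) : Set G), g * z * g⁻¹ = z := by
    intro g hg
    by_contra hne
    exact h3 ⟨g, hg, z, hzΩ, hne⟩
  obtain ⟨N, hNidx, hzN⟩ := Cfsg.Agent.S2911.thompson_ext S T hTS hidx z huu (by
    intro x hx
    have hxn : x⁻¹ ∈ Subgroup.normalizer ((S : Subgroup G) : Set G) := by
      apply Helper16.mem_normalizer_of_conj_mem
      intro c hc
      have hcz : c * z = z * c := hzC c hc
      have hmem := hx c hc hcz
      rw [inv_inv]; exact hmem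
    have hfx := hfix x⁻¹ hxn
    rw [inv_inv] at hfx
    rw [hfx]; exact hzT)
  have hle : Cfsg.pResidual 2 G ≤ N := by
    unfold Cfsg.pResidual
    rw [Subgroup.closure_le]
    intro g hg
    have hg' : Nat.Coprime (orderOf g) 2 := hg
    have hodd : orderOf g % 2 = 1 := by
      rcases Nat.mod_two_eq_zero_or_one (orderOf g) with h0 | h1
      · exfalso
        have hd : 2 ∣ orderOf g := Nat.dvd_of_mod_eq_zero h0
        have hd2 : 2 ∣ Nat.gcd (orderOf g) 2 := Nat.dvd_gcd hd (dvd_refl 2)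
        rw [Nat.Coprime.gcd_eq_one hg'] at hd2
        omega
      · exact h1
    have hsq : g ^ 2 ∈ N := Subgroup.sq_mem_of_index_two hNidx g
    have hgk : g = (g ^ 2) ^ (orderOf g / 2 + 1) := by
      rw [← pow_mul]
      have hnum : 2 * (orderOf g / 2 + 1) = orderOf g + 1 := by omega
      rw [hnum, pow_succ, pow_orderOf_eq_one, one_mul]
    show g ∈ N
    rw [hgk]; exact N.pow_mem hsq _
  exact hzN (hle (by rw [h1']; exact Subgroup.mem_top z))

end Cfsg.Agent.S2872
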