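import Cfsg.Statements.S2873
import Cfsg.Agent.Helper1.Fitting

set_option autoImplicit false
open Cfsg

namespace Cfsg.Agent.S2873

theorem zmod_two_ne (r : ℕ) [hr : Fact r.Prime] (h2 : r ≠ 2) : (2 : ZMod r) ≠ 0 := by
  intro h
  have h' : ((2 : ℕ) : ZMod r) = 0 := by exact_mod_cast h
  rw [ZMod.natCast_eq_zero_iff] at h'
  exact h2 ((Nat.prime_dvd_prime_iff_eq hr.out Nat.prime_two).mp h')

theorem refl_of_invol (r : ℕ) [hr : Fact r.Prime] (h2 : r ≠ 2) (d : DihedralGroup r)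
    (hd1 : d ≠ 1) (hdd : d * d = 1) : ∃ j : ZMod r, d = DihedralGroup.sr j := by
  rcases d with i | j
  · exfalso
    rw [DihedralGroup.r_mul_r, DihedralGroup.one_def] at hdd
    have hi : i + i = 0 := DihedralGroup.r.inj hdd
    have hi2 : (2 : ZMod r) * i = 0 := by rw [two_mul]; exact hi
    rcases mul_eq_zero.mp hi2 with h | h
    · exact zmod_two_ne r h2 h
    · apply hd1; rw [h, DihedralGroup.one_def]
  · exact ⟨j, rfl⟩

theorem refl_conj (r : ℕ) [hr : Fact r.Prime] (h2 : r ≠ 2) (j j' : ZMod r) :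
    ∃ d : DihedralGroup r, d * DihedralGroup.sr j * d⁻¹ = DihedralGroup.sr j' := by
  have h20 := zmod_two_ne r h2
  have hc : (2 : ZMod r) * (2 : ZMod r)⁻¹ = 1 := mul_inv_cancel₀ h20
  refine ⟨DihedralGroup.r ((j - j') * (2 : ZMod r)⁻¹), ?_⟩
  rw [DihedralGroup.r_mul_sr, DihedralGroup.inv_r, DihedralGroup.sr_mul_r]
  congr 1
  linear_combination (j' - j) * hc

theorem rot_pow (r : ℕ) (i : ZMod r) : (DihedralGroup.r i) ^ r = 1 := by
  rw [DihedralGroup.r_pow, ZMod.natCast_self, mul_zero, DihedralGroup.one_def]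

theorem mem_cen_single {G : Type*} [Group G] (a g : G) :
    g ∈ Subgroup.centralizer ({a} : Set G) ↔ a * g = g * a := by
  rw [Subgroup.mem_centralizer_iff]
  constructor
  · intro h; exact h a (Set.mem_singleton a)
  · intro h x hx
    rw [Set.mem_singleton_iff.mp hx]; exact h

theorem mem_normalizer_zpowers {G : Type*} [Group G] (t y : G) (h : t * y * t⁻¹ = y⁻¹) :
    t ∈ Subgroup.normalizer ((Subgroup.zpowers y : Subgroup G) : Set G) := by
  have key : ∀ k : ℤ, t * y ^ k * t⁻¹ = (y ^ k)⁻¹ := by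
    intro k
    rw [← conj_zpow, h, inv_zpow]
  have key' : ∀ k : ℤ, t⁻¹ * y ^ k * t = (y ^ k)⁻¹ := by
    intro k
    have h2 : t⁻¹ * (y ^ k)⁻¹ * t = y ^ k := by rw [← key k]; group
    have h3 : t⁻¹ * y ^ k * t = (t⁻¹ * (y ^ k)⁻¹ * t)⁻¹ := by group
    rw [h3, h2]
  rw [Subgroup.mem_normalizer_iff]
  intro z
  constructor
  · intro hz
    obtain ⟨k, rfl⟩ := Subgroup.mem_zpowers_iff.mp (SetLike.mem_coe.mp hz)
    rw [key]
    exact SetLike.mem_coe.mpr (Subgroup.inv_mem _ (Subgroup.zpow_mem_zpowers y k))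
  · intro hz
    obtain ⟨k, hk⟩ := Subgroup.mem_zpowers_iff.mp (SetLike.mem_coe.mp hz)
    have hz' : z = t⁻¹ * y ^ k * t := by rw [hk]; group
    rw [hz', key']
    exact SetLike.mem_coe.mpr (Subgroup.inv_mem _ (Subgroup.zpow_mem_zpowers y k))

theorem inv_conj_left {G : Type*} [Group G] (s t : G) (hs : s * s = 1) (ht : t * t = 1) :
    s * (s * t) * s⁻¹ = (s * t)⁻¹ := by
  have hs' : s⁻¹ = s := inv_eq_of_mul_eq_one_right hs
  have ht' : t⁻¹ = t := inv_eq_of_mul_eq_one_right ht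
  rw [mul_inv_rev, hs', ht', ← mul_assoc, hs, one_mul]

theorem inv_conj_right {G : Type*} [Group G] (s t : G) (hs : s * s = 1) (ht : t * t = 1) :
    t * (s * t) * t⁻¹ = (s * t)⁻¹ := by
  have hs' : s⁻¹ = s := inv_eq_of_mul_eq_one_right hs
  have ht' : t⁻¹ = t := inv_eq_of_mul_eq_one_right ht
  rw [mul_inv_rev, hs', ht', mul_assoc, mul_assoc, ht, mul_one]

theorem sylow_conj {G : Type*} [Group G] [Finite G] {r : ℕ} [hr : Fact r.Prime] (R : Sylow r G)
    (hRcard : Nat.card (R : Subgroup G) = r) (y : G) (hy : orderOf y = r) :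
    ∃ g : G, ∀ t : G, t * y * t⁻¹ = y⁻¹ →
      g⁻¹ * t * g ∈ Subgroup.normalizer ((R : Subgroup G) : Set G) := by
  have hR' : IsPGroup r (Subgroup.zpowers y) :=
    IsPGroup.of_card (n := 1) (by rw [Nat.card_zpowers, hy, pow_one])
  obtain ⟨S, hS⟩ := hR'.exists_le_sylow
  obtain ⟨g, hg⟩ := MulAction.exists_smul_eq G R S
  have hyS : y ∈ (S : Subgroup G) := hS (Subgroup.mem_zpowers y)
  have h1 : ((g • R : Sylow r G) : Subgroup G) = (S : Subgroup G) :=
    congrArg (fun T : Sylow r G => (T : Subgroup G)) hg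
  rw [Sylow.coe_subgroup_smul] at h1
  rw [← h1, Subgroup.mem_smul_pointwise_iff_exists] at hyS
  obtain ⟨y₀, hy₀R, hy₀⟩ := hyS
  have hy₀' : g * y₀ * g⁻¹ = y := hy₀
  have hy₀1 : y₀ ≠ 1 := by
    intro h0
    have hy1 : y = 1 := by rw [← hy₀', h0]; group
    rw [hy1, orderOf_one] at hy
    exact hr.out.one_lt.ne hy
  have hy₀r : y₀ ^ r = 1 := by
    have h := pow_card_eq_one' (x := (⟨y₀, hy₀R⟩ : ↥(R : Subgroup G)))
    have h' := congrArg Subtype.val h
    rw [hRcard] at h'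
    simpa using h'
  have hord : orderOf y₀ = r := orderOf_eq_prime hy₀r hy₀1
  have hRz : (R : Subgroup G) = Subgroup.zpowers y₀ := by
    symm
    apply Subgroup.eq_of_le_of_card_ge (Subgroup.zpowers_le.mpr hy₀R)
    exact le_of_eq (by rw [Nat.card_zpowers, hord, hRcard])
  refine ⟨g, fun t ht => ?_⟩
  rw [hRz]
  apply mem_normalizer_zpowers
  have e1 : g⁻¹ * t * g * y₀ * (g⁻¹ * t * g)⁻¹ = g⁻¹ * (t * (g * y₀ * g⁻¹) * t⁻¹) * g := by group
  rw [e1, hy₀', ht, ← hy₀']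
  group

theorem main {G : Type*} [Group G] [Finite G] {r : ℕ} [hrF : Fact r.Prime] (hr : r ≠ 2)
    (Q : Subgroup G) [hN : Q.Normal] (hQ2 : IsPGroup 2 Q)
    (hQmax : ∀ K : Subgroup G, K.Normal → IsPGroup 2 K → K ≤ Q)
    (e : G ⧸ Q ≃* DihedralGroup r) (R : Sylow r G)
    (hC : Q ⊓ Subgroup.centralizer ((R : Subgroup G) : Set G) = ⊥) :
    Nonempty (↥(Subgroup.normalizer ((R : Subgroup G) : Set G)) ≃* DihedralGroup r) ∧
    ∀ a : G, a ∈ Subgroup.normalizer ((R : Subgroup G) : Set G) → orderOf a = 2 →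
      (∀ b : G, orderOf b = 2 → b ∉ Q → ∃ g : G, g * a * g⁻¹ = b) ∧
      Nat.card ↥(Q ⊓ Subgroup.centralizer ({a} : Set G)) ^ 2 = Nat.card ↥Q := by
  have hrp : r.Prime := hrF.out
  obtain ⟨ψ, hψ⟩ : ∃ ψ : G →* DihedralGroup r, ∀ g, ψ g = e (g : G ⧸ Q) :=
    ⟨e.toMonoidHom.comp (QuotientGroup.mk' Q), fun g => rfl⟩
  have hker : ∀ g : G, ψ g = 1 ↔ g ∈ Q := by
    intro g
    rw [hψ, MulEquiv.map_eq_one_iff, QuotientGroup.eq_one_iff]
  have hsurj : ∀ d : DihedralGroup r, ∃ g : G, ψ g = d := by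
    intro d
    obtain ⟨x, hx⟩ := QuotientGroup.mk_surjective (e.symm d)
    exact ⟨x, by rw [hψ, hx, MulEquiv.apply_symm_apply]⟩
  obtain ⟨k, hQcard⟩ := hQ2.exists_card_eq
  have hGcard : Nat.card G = 2 ^ (k + 1) * r := by
    rw [Subgroup.card_eq_card_quotient_mul_card_subgroup Q, Nat.card_congr e.toEquiv,
      DihedralGroup.nat_card, hQcard]
    ring
  have hr2 : ¬ r ∣ 2 ^ (k + 1) := by
    intro h
    exact hr ((Nat.prime_dvd_prime_iff_eq hrp Nat.prime_two).mp (hrp.dvd_of_dvd_pow h))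
  have hRcard : Nat.card (R : Subgroup G) = r := by
    have h1 : Nat.card (R : Subgroup G) = r ^ (Nat.card G).factorization r :=
      Sylow.card_eq_multiplicity R
    have h2 : (Nat.card G).factorization r = 1 := by
      rw [hGcard, Nat.factorization_mul (pow_ne_zero _ two_ne_zero) hrp.ne_zero]
      have hr2' : ¬ r ∣ 2 := fun h => hr ((Nat.prime_dvd_prime_iff_eq hrp Nat.prime_two).mp h)
      simp [Nat.factorization_eq_zero_of_not_dvd hr2', hrp.factorization_self]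
    rw [h1, h2, pow_one]
  have hRQ : ∀ x : G, x ∈ (R : Subgroup G) → x ∈ Q → x = 1 := by
    intro x hxR hxQ
    have hd := IsPGroup.disjoint_of_ne r 2 hr (R : Subgroup G) Q R.isPGroup' hQ2
    exact Subgroup.disjoint_def.mp hd hxR hxQ
  obtain ⟨N, hNdef⟩ : ∃ N : Subgroup G, N = Subgroup.normalizer ((R : Subgroup G) : Set G) :=
    ⟨_, rfl⟩
  have hRN : (R : Subgroup G) ≤ N := by rw [hNdef]; exact Subgroup.le_normalizer
  have hNQ : ∀ n : G, n ∈ N → n ∈ Q → n = 1 := by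
    intro n hn hnQ
    have hcen : n ∈ Subgroup.centralizer ((R : Subgroup G) : Set G) := by
      rw [Subgroup.mem_centralizer_iff]
      intro x hx
      have hx' : x ∈ (R : Subgroup G) := hx
      rw [hNdef, Subgroup.mem_normalizer_iff] at hn
      have h1 : n * x * n⁻¹ ∈ (R : Subgroup G) := (hn x).mp hx
      have h2 : n * x * n⁻¹ * x⁻¹ ∈ (R : Subgroup G) :=
        (R : Subgroup G).mul_mem h1 ((R : Subgroup G).inv_mem hx')
      have h3 : n * x * n⁻¹ * x⁻¹ ∈ Q := by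
        have h4 : x * n⁻¹ * x⁻¹ ∈ Q := hN.conj_mem _ (Q.inv_mem hnQ) x
        have h5 : n * x * n⁻¹ * x⁻¹ = n * (x * n⁻¹ * x⁻¹) := by group
        rw [h5]; exact Q.mul_mem hnQ h4
      have h6 := hRQ _ h2 h3
      have h7 : x * n = (n * x * n⁻¹ * x⁻¹)⁻¹ * (n * x) := by group
      rw [h7, h6, inv_one, one_mul]
    have hmem : n ∈ Q ⊓ Subgroup.centralizer ((R : Subgroup G) : Set G) :=
      Subgroup.mem_inf.mpr ⟨hnQ, hcen⟩
    rw [hC] at hmem
    exact Subgroup.mem_bot.mp hmem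
  have hNinj : ∀ n₁ n₂ : G, n₁ ∈ N → n₂ ∈ N → ψ n₁ = ψ n₂ → n₁ = n₂ := by
    intro n₁ n₂ h1 h2 h
    have h3 : n₁⁻¹ * n₂ ∈ Q := by
      rw [← hker, map_mul, map_inv, h, inv_mul_cancel]
    have h4 := hNQ _ (N.mul_mem (N.inv_mem h1) h2) h3
    exact inv_mul_eq_one.mp h4
  obtain ⟨φ, hφ⟩ : ∃ φ : ↥N →* DihedralGroup r, ∀ n : ↥N, φ n = ψ (n : G) :=
    ⟨ψ.comp N.subtype, fun n => rfl⟩
  have hφinj : Function.Injective φ := by
    intro n₁ n₂ h
    rw [hφ, hφ] at h
    exact Subtype.ext (hNinj _ _ n₁.2 n₂.2 h)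
  have hNdvd : Nat.card N ∣ 2 * r := by
    have := Subgroup.card_dvd_of_injective φ hφinj
    rwa [DihedralGroup.nat_card] at this
  have hrN : r ∣ Nat.card N := by
    have := Subgroup.card_dvd_of_le hRN
    rwa [hRcard] at this
  have hNne : Nat.card N ≠ r := by
    intro hNr
    have hNR : (R : Subgroup G) = N :=
      Subgroup.eq_of_le_of_card_ge hRN (le_of_eq (by rw [hNr, hRcard]))
    haveI : IsCyclic (R : Subgroup G) := isCyclic_of_prime_card hRcard
    have hP : Subgroup.normalizer ((R : Subgroup G) : Set G) ≤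
        Subgroup.centralizer ((R : Subgroup G) : Set G) := by
      intro n hn
      have hn' : n ∈ (R : Subgroup G) := by rw [hNR, hNdef]; exact hn
      rw [Subgroup.mem_centralizer_iff]
      intro x hx
      have hx' : x ∈ (R : Subgroup G) := hx
      obtain ⟨g, hg⟩ := IsCyclic.exists_generator (α := (R : Subgroup G))
      obtain ⟨i, hi⟩ := Subgroup.mem_zpowers_iff.mp (hg ⟨x, hx'⟩)
      obtain ⟨j, hj⟩ := Subgroup.mem_zpowers_iff.mp (hg ⟨n, hn'⟩)
      have hxi : (g : G) ^ i = x := by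
        have h := congrArg Subtype.val hi
        rwa [Subgroup.coe_zpow] at h
      have hnj : (g : G) ^ j = n := by
        have h := congrArg Subtype.val hj
        rwa [Subgroup.coe_zpow] at h
      rw [← hxi, ← hnj, ← zpow_add, ← zpow_add, add_comm]
    have hcomp := MonoidHom.ker_transferSylow_isComplement' R hP
    have hKcard : Nat.card (MonoidHom.transferSylow R hP).ker * Nat.card (R : Subgroup G) =
        Nat.card G := hcomp.card_mul_card
    rw [hRcard, hGcard] at hKcard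
    have hK2 : Nat.card (MonoidHom.transferSylow R hP).ker = 2 ^ (k + 1) :=
      Nat.eq_of_mul_eq_mul_right hrp.pos hKcard
    have hKle : (MonoidHom.transferSylow R hP).ker ≤ Q :=
      hQmax _ (MonoidHom.normal_ker _) (IsPGroup.of_card hK2)
    have hle := Subgroup.card_le_of_le hKle
    rw [hK2, hQcard] at hle
    exact absurd hle (not_le.mpr (Nat.pow_lt_pow_right (by norm_num) (Nat.lt_succ_self k)))
  have hNcard : Nat.card N = 2 * r := by
    obtain ⟨m, hm⟩ := hrN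
    rw [hm] at hNdvd hNne
    have hm2 : m ∣ 2 := by
      have h1 : r * m ∣ r * 2 := by rw [mul_comm r 2]; exact hNdvd
      exact Nat.dvd_of_mul_dvd_mul_left hrp.pos h1
    rcases (Nat.dvd_prime Nat.prime_two).mp hm2 with h | h
    · exfalso; apply hNne; rw [h, mul_one]
    · rw [hm, h, mul_comm]
  have hφbij : Function.Bijective φ :=
    hφinj.bijective_of_nat_card_le (le_of_eq (by rw [hNcard, DihedralGroup.nat_card]))
  have hNsurj : ∀ d : DihedralGroup r, ∃ n : G, n ∈ N ∧ ψ n = d := by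
    intro d
    obtain ⟨n, hn⟩ := hφbij.2 d
    exact ⟨n, n.2, by rw [← hφ, hn]⟩
  have h20 := zmod_two_ne r hr
  have part2 : ∀ a : G, a ∈ N → orderOf a = 2 →
      (∀ b : G, orderOf b = 2 → b ∉ Q → ∃ g : G, g * a * g⁻¹ = b) ∧
      Nat.card ↥(Q ⊓ Subgroup.centralizer ({a} : Set G)) ^ 2 = Nat.card ↥Q := by
    intro a haN hao
    have haa : a * a = 1 := by
      have h := pow_orderOf_eq_one a
      rwa [hao, pow_two] at h
    have haQ : a ∉ Q := by
      intro h
      have h1 := hNQ a haN h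
      rw [h1, orderOf_one] at hao
      exact absurd hao (by norm_num)
    obtain ⟨j, hj⟩ := refl_of_invol r hr (ψ a) (fun h => haQ ((hker a).mp h))
      (by rw [← map_mul, haa, map_one])
    obtain ⟨n₀, hn₀N, hn₀⟩ := hNsurj (DihedralGroup.r 1)
    obtain ⟨a', ha'def⟩ : ∃ a' : G, a' = n₀ * a * n₀⁻¹ := ⟨_, rfl⟩
    have ha'N : a' ∈ N := by
      rw [ha'def]; exact N.mul_mem (N.mul_mem hn₀N haN) (N.inv_mem hn₀N)
    have ha'a' : a' * a' = 1 := by
      have h1 : a' * a' = n₀ * (a * a) * n₀⁻¹ := by rw [ha'def]; group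
      rw [h1, haa]; group
    have hj' : ψ a' = DihedralGroup.sr (j - 1 + -1) := by
      rw [ha'def, map_mul, map_mul, map_inv, hn₀, hj, DihedralGroup.r_mul_sr, DihedralGroup.inv_r,
        DihedralGroup.sr_mul_r]
    have hjne : j - 1 + -1 ≠ j := by
      intro h
      apply h20
      linear_combination (-1 : ZMod r) * h
    have hi0 : j - 1 + -1 - j ≠ 0 := fun h => hjne (sub_eq_zero.mp h)
    have key : ∀ u : G, u * u = 1 → ψ u = ψ a →
        ∃ q : G, q ∈ Q ∧ a' * q = q * a' ∧ u = q * a * q⁻¹ := by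
      intro u huu hψu
      obtain ⟨w, hwdef⟩ : ∃ w : G, w = u * a' := ⟨_, rfl⟩
      have hψw : ψ w = DihedralGroup.r (j - 1 + -1 - j) := by
        rw [hwdef, map_mul, hψu, hj, hj', DihedralGroup.sr_mul_sr]
      have hwr : w ^ r ∈ Q := by
        rw [← hker, map_pow, hψw, rot_pow]
      obtain ⟨y, hydef⟩ : ∃ y : G, y = w ^ (2 ^ k) := ⟨_, rfl⟩
      have hyr : y ^ r = 1 := by
        have h1 : (⟨w ^ r, hwr⟩ : ↥Q) ^ Nat.card ↥Q = 1 := pow_card_eq_one'
        have h2 := congrArg Subtype.val h1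
        rw [hQcard] at h2
        have h3 : (w ^ r) ^ (2 ^ k) = 1 := by simpa using h2
        rw [hydef, ← pow_mul, mul_comm, pow_mul]
        exact h3
      have hy1 : y ≠ 1 := by
        intro h
        have h1 : (ψ w) ^ (2 ^ k) = 1 := by rw [← map_pow, ← hydef, h, map_one]
        have h2 : (ψ w) ^ r = 1 := by rw [hψw, rot_pow]
        have hcop : Nat.Coprime r (2 ^ k) :=
          Nat.Coprime.pow_right k ((Nat.coprime_primes hrp Nat.prime_two).mpr hr)
        have hd : orderOf (ψ w) ∣ Nat.gcd r (2 ^ k) :=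
          Nat.dvd_gcd (orderOf_dvd_of_pow_eq_one h2) (orderOf_dvd_of_pow_eq_one h1)
        rw [Nat.Coprime.gcd_eq_one hcop, Nat.dvd_one, orderOf_eq_one_iff, hψw,
          DihedralGroup.one_def] at hd
        exact hi0 (DihedralGroup.r.inj hd)
      have hyo : orderOf y = r := orderOf_eq_prime hyr hy1
      obtain ⟨g, hg⟩ := sylow_conj R hRcard y hyo
      have huw : u * w * u⁻¹ = w⁻¹ := by rw [hwdef]; exact inv_conj_left u a' huu ha'a'
      have ha'w : a' * w * a'⁻¹ = w⁻¹ := by rw [hwdef]; exact inv_conj_right u a' huu ha'a'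
      have huy : u * y * u⁻¹ = y⁻¹ := by rw [hydef, ← conj_pow, huw, inv_pow]
      have ha'y : a' * y * a'⁻¹ = y⁻¹ := by rw [hydef, ← conj_pow, ha'w, inv_pow]
      have h1 := hg u huy
      have h2 := hg a' ha'y
      rw [← hNdef] at h1 h2
      obtain ⟨n, hnN, hn⟩ := hNsurj (ψ g)
      obtain ⟨q, hqdef⟩ : ∃ q : G, q = g * n⁻¹ := ⟨_, rfl⟩
      have hqQ : q ∈ Q := by
        rw [← hker, hqdef, map_mul, map_inv, hn, mul_inv_cancel]
      have hψq : ψ q = 1 := (hker q).mpr hqQ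
      have hconj : ∀ t : G, g⁻¹ * t * g ∈ N → q⁻¹ * t * q ∈ N := by
        intro t ht
        have e1 : q⁻¹ * t * q = n * (g⁻¹ * t * g) * n⁻¹ := by rw [hqdef]; group
        rw [e1]; exact N.mul_mem (N.mul_mem hnN ht) (N.inv_mem hnN)
      have hψc : ∀ t : G, ψ (q⁻¹ * t * q) = ψ t := by
        intro t
        rw [map_mul, map_mul, map_inv, hψq, inv_one, one_mul, mul_one]
      have e2 : q⁻¹ * a' * q = a' := hNinj _ _ (hconj a' h2) ha'N (hψc a')
      have e3 : q⁻¹ * u * q = a := hNinj _ _ (hconj u h1) haN ((hψc u).trans hψu)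
      refine ⟨q, hqQ, ?_, ?_⟩
      · have h5 : a' * q = q * (q⁻¹ * a' * q) := by group
        rw [h5, e2]
      · have h5 : u = q * (q⁻¹ * u * q) * q⁻¹ := by group
        rw [h5, e3]
    refine ⟨?_, ?_⟩
    · intro b hbo hbQ
      have hbb : b * b = 1 := by
        have h := pow_orderOf_eq_one b
        rwa [hbo, pow_two] at h
      obtain ⟨jb, hjb⟩ := refl_of_invol r hr (ψ b) (fun h => hbQ ((hker b).mp h))
        (by rw [← map_mul, hbb, map_one])
      obtain ⟨d, hd⟩ := refl_conj r hr j jb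
      obtain ⟨g₁, hg₁⟩ := hsurj d
      have hu1 : (g₁⁻¹ * b * g₁) * (g₁⁻¹ * b * g₁) = 1 := by
        have h1 : (g₁⁻¹ * b * g₁) * (g₁⁻¹ * b * g₁) = g₁⁻¹ * (b * b) * g₁ := by group
        rw [h1, hbb]; group
      have hu2 : ψ (g₁⁻¹ * b * g₁) = ψ a := by
        rw [map_mul, map_mul, map_inv, hg₁, hjb, hj, ← hd]
        group
      obtain ⟨q, -, -, hq⟩ := key _ hu1 hu2
      refine ⟨g₁ * q, ?_⟩
      have h3 : b = g₁ * (g₁⁻¹ * b * g₁) * g₁⁻¹ := by group
      rw [h3, hq]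
      group
    · obtain ⟨A, hAdef⟩ : ∃ A : Subgroup G, A = Q ⊓ Subgroup.centralizer ({a} : Set G) :=
        ⟨_, rfl⟩
      obtain ⟨A', hA'def⟩ : ∃ A' : Subgroup G, A' = Q ⊓ Subgroup.centralizer ({a'} : Set G) :=
        ⟨_, rfl⟩
      have hA : ∀ c : G, c ∈ A ↔ c ∈ Q ∧ a * c = c * a := by
        intro c; rw [hAdef, Subgroup.mem_inf, mem_cen_single]
      have hA' : ∀ c : G, c ∈ A' ↔ c ∈ Q ∧ a' * c = c * a' := by
        intro c; rw [hA'def, Subgroup.mem_inf, mem_cen_single]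
      have hcard : Nat.card A = Nat.card A' := by
        refine Nat.card_congr (Equiv.subtypeEquiv (MulAut.conj n₀).toEquiv ?_)
        intro c
        show c ∈ A ↔ n₀ * c * n₀⁻¹ ∈ A'
        rw [hA, hA']
        have e1 : a' * (n₀ * c * n₀⁻¹) = n₀ * (a * c) * n₀⁻¹ := by rw [ha'def]; group
        have e2 : n₀ * c * n₀⁻¹ * a' = n₀ * (c * a) * n₀⁻¹ := by rw [ha'def]; group
        rw [e1, e2]
        constructor
        · rintro ⟨h1, h2⟩
          exact ⟨hN.conj_mem c h1 n₀, by rw [h2]⟩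
        · rintro ⟨h1, h2⟩
          refine ⟨?_, mul_left_cancel (mul_right_cancel h2)⟩
          have h3 := hN.conj_mem _ h1 n₀⁻¹
          have h4 : n₀⁻¹ * (n₀ * c * n₀⁻¹) * n₀⁻¹⁻¹ = c := by group
          rwa [h4] at h3
      have htriv : ∀ c : G, c ∈ A → c ∈ A' → c = 1 := by
        intro c hc hc'
        obtain ⟨hcQ, hca⟩ := (hA c).mp hc
        obtain ⟨-, hca'⟩ := (hA' c).mp hc'
        obtain ⟨H, hHdef⟩ : ∃ H : Subgroup G, H = N ⊓ Subgroup.centralizer ({c} : Set G) :=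
          ⟨_, rfl⟩
        have hH : ∀ x : G, x ∈ H ↔ x ∈ N ∧ c * x = x * c := by
          intro x; rw [hHdef, Subgroup.mem_inf, mem_cen_single]
        have haH : a ∈ H := (hH a).mpr ⟨haN, hca.symm⟩
        have ha'H : a' ∈ H := (hH a').mpr ⟨ha'N, hca'.symm⟩
        obtain ⟨z, hzdef⟩ : ∃ z : G, z = a * a' := ⟨_, rfl⟩
        have hzH : z ∈ H := by rw [hzdef]; exact H.mul_mem haH ha'H
        have hzN : z ∈ N := ((hH z).mp hzH).1
        have hψz : ψ z = DihedralGroup.r (j - 1 + -1 - j) := by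
          rw [hzdef, map_mul, hj, hj', DihedralGroup.sr_mul_sr]
        have hz1 : z ≠ 1 := by
          intro h
          rw [h, map_one, DihedralGroup.one_def] at hψz
          exact hi0 (DihedralGroup.r.inj hψz).symm
        have hzr : z ^ r = 1 := by
          apply hNQ _ (N.pow_mem hzN r)
          rw [← hker, map_pow, hψz, rot_pow]
        have hzo : orderOf z = r := orderOf_eq_prime hzr hz1
        have h2H : 2 ∣ Nat.card H := by
          have h := Subgroup.card_dvd_of_le (Subgroup.zpowers_le.mpr haH)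
          rwa [Nat.card_zpowers, hao] at h
        have hrH : r ∣ Nat.card H := by
          have h := Subgroup.card_dvd_of_le (Subgroup.zpowers_le.mpr hzH)
          rwa [Nat.card_zpowers, hzo] at h
        have h2r : 2 * r ∣ Nat.card H :=
          Nat.Coprime.mul_dvd_of_dvd_of_dvd
            ((Nat.coprime_primes Nat.prime_two hrp).mpr (Ne.symm hr)) h2H hrH
        have hHN : H ≤ N := fun x hx => ((hH x).mp hx).1
        have hHeq : H = N := by
          apply Subgroup.eq_of_le_of_card_ge hHN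
          rw [hNcard]
          exact Nat.le_of_dvd Nat.card_pos h2r
        have hcen : c ∈ Subgroup.centralizer ((R : Subgroup G) : Set G) := by
          rw [Subgroup.mem_centralizer_iff]
          intro x hx
          have hxH : x ∈ H := by rw [hHeq]; exact hRN hx
          exact ((hH x).mp hxH).2.symm
        have hmem : c ∈ Q ⊓ Subgroup.centralizer ((R : Subgroup G) : Set G) :=
          Subgroup.mem_inf.mpr ⟨hcQ, hcen⟩
        rw [hC] at hmem
        exact Subgroup.mem_bot.mp hmem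
      have hfac : ∀ q₀ : G, q₀ ∈ Q → ∃ q ∈ A', ∃ c ∈ A, q₀ = q * c := by
        intro q₀ hq₀
        have hψq₀ : ψ q₀ = 1 := (hker q₀).mpr hq₀
        have hu1 : (q₀ * a * q₀⁻¹) * (q₀ * a * q₀⁻¹) = 1 := by
          have h1 : (q₀ * a * q₀⁻¹) * (q₀ * a * q₀⁻¹) = q₀ * (a * a) * q₀⁻¹ := by group
          rw [h1, haa]; group
        have hu2 : ψ (q₀ * a * q₀⁻¹) = ψ a := by
          rw [map_mul, map_mul, map_inv, hψq₀, inv_one, one_mul, mul_one]
        obtain ⟨q, hqQ, hqa', hq⟩ := key _ hu1 hu2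
        refine ⟨q, (hA' q).mpr ⟨hqQ, hqa'⟩, q⁻¹ * q₀,
          (hA _).mpr ⟨Q.mul_mem (Q.inv_mem hqQ) hq₀, ?_⟩, by group⟩
        have h1 : q⁻¹ * q₀ * a = q⁻¹ * (q₀ * a * q₀⁻¹) * q₀ := by group
        have h2 : a * (q⁻¹ * q₀) = q⁻¹ * (q * a * q⁻¹) * q₀ := by group
        rw [h1, hq, h2]
      have hbij : Function.Bijective
          (fun p : ↥A' × ↥A => (⟨(p.1 : G) * (p.2 : G),
            Q.mul_mem ((hA' _).mp p.1.2).1 ((hA _).mp p.2.2).1⟩ : ↥Q)) := by
        constructor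
        · rintro ⟨⟨q, hq⟩, ⟨c, hc⟩⟩ ⟨⟨q₁, hq₁⟩, ⟨c₁, hc₁⟩⟩ h
          have h' : q * c = q₁ * c₁ := congrArg Subtype.val h
          have hd1 : q₁⁻¹ * q = c₁ * c⁻¹ := by
            have h1 : q₁⁻¹ * q = q₁⁻¹ * (q * c) * c⁻¹ := by group
            rw [h1, h']; group
          have hdA' : q₁⁻¹ * q ∈ A' := A'.mul_mem (A'.inv_mem hq₁) hq
          have hdA : q₁⁻¹ * q ∈ A := by rw [hd1]; exact A.mul_mem hc₁ (A.inv_mem hc)
          have hd := htriv _ hdA hdA'
          have hqq : q₁ = q := inv_mul_eq_one.mp hd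
          have hcc : c₁ = c := by
            rw [hd1] at hd
            exact mul_inv_eq_one.mp hd
          subst hqq; subst hcc; rfl
        · rintro ⟨q₀, hq₀⟩
          obtain ⟨q, hq, c, hc, h⟩ := hfac q₀ hq₀
          exact ⟨⟨⟨q, hq⟩, ⟨c, hc⟩⟩, Subtype.ext h.symm⟩
      have hprod : Nat.card ↥Q = Nat.card ↥A' * Nat.card ↥A := by
        rw [← Nat.card_prod]
        exact (Nat.card_congr (Equiv.ofBijective _ hbij)).symm
      rw [← hAdef, hprod, ← hcard, sq]
  subst hNdef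
  exact ⟨⟨MulEquiv.ofBijective φ hφbij⟩, part2⟩

/-- Let G be a finite group and r an odd prime such that G ⧸ O₂(G) is dihedral of order 2r, and let R be a Sylow r-subgroup of G with C_{O₂(G)}(R) = 1. Then N_G(R) is dihedral of order 2r; for any involution a of N_G(R), every involution of G outside O₂(G) is conjugate to a; and |C_{O₂(G)}(a)|² = |O₂(G)|. -/
theorem result {G : Type*} [Group G] [Finite G] {r : ℕ} [Fact r.Prime] (hr : r ≠ 2) [hN : (Cfsg.pCore 2 G).Normal] (hquot : Nonempty (G ⧸ Cfsg.pCore 2 G ≃* DihedralGroup r)) (R : Sylow r G) (hC : Cfsg.pCore 2 G ⊓ Subgroup.centralizer ((R : Subgroup G) : Set G) = ⊥) : Nonempty (↥(Subgroup.normalizer ((R : Subgroup G) : Set G)) ≃* DihedralGroup r) ∧ ∀ a : G, a ∈ Subgroup.normalizer ((R : Subgroup G) : Set G) → orderOf a = 2 → (∀ b : G, orderOf b = 2 → b ∉ Cfsg.pCore 2 G → ∃ g : G, g * a * g⁻¹ = b) ∧ Nat.card ↥(Cfsg.pCore 2 G ⊓ Subgroup.centralizer ({a} : Set G)) ^ 2 = Nat.card ↥(Cfsg.pCore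 2 G) := by
  obtain ⟨e⟩ := hquot
  exact main hr (Cfsg.pCore 2 G) (Helper1.pCore_isPGroup 2 G)
    (fun K hK hK2 => Helper1.le_pCore hK hK2) e R hC

end Cfsg.Agent.S2873
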