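import Cfsg.Statements.S2874
import Mathlib

set_option autoImplicit false
set_option linter.style.haveILetI false
open Cfsg

namespace Cfsg.Agent.S2874

/-! ### Decidable facts about `GL₂(𝔽₂)` and `A₄` -/

set_option maxRecDepth 100000 in
theorem dec_mat : ∀ B : Matrix (Fin 2) (Fin 2) (ZMod 2), B * B * B = 1 → B ≠ 1 →
    (B - 1) 0 0 * (B - 1) 1 1 - (B - 1) 0 1 * (B - 1) 1 0 = 1 ∧ B 1 0 = 1 := by decide

set_option maxRecDepth 100000 in
theorem dec_three : (1 + 1 + 1 : Matrix (Fin 2) (Fin 2) (ZMod 2)) = 1 := by decide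

set_option maxRecDepth 100000 in
theorem dec_q1a : ∀ τ b : Equiv.Perm (Fin 4), Equiv.Perm.sign τ = 1 → Equiv.Perm.sign b = 1 →
    τ ≠ 1 → τ * τ * τ = 1 → b * b = 1 →
    b * (τ * b * (τ * τ)) = (τ * b * (τ * τ)) * b := by decide

set_option maxRecDepth 100000 in
theorem dec_q1b : ∀ τ b : Equiv.Perm (Fin 4), Equiv.Perm.sign τ = 1 → Equiv.Perm.sign b = 1 →
    τ ≠ 1 → τ * τ * τ = 1 → b * b = 1 →
      b * (τ * b * (τ * τ)) * (τ * τ * b * τ) = 1 := by decide

theorem dec_q1 (τ b : Equiv.Perm (Fin 4)) (h1 : Equiv.Perm.sign τ = 1)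
    (h2 : Equiv.Perm.sign b = 1) (h3 : τ ≠ 1) (h4 : τ * τ * τ = 1) (h5 : b * b = 1) :
    b * (τ * b * (τ * τ)) = (τ * b * (τ * τ)) * b ∧
      b * (τ * b * (τ * τ)) * (τ * τ * b * τ) = 1 :=
  ⟨dec_q1a τ b h1 h2 h3 h4 h5, dec_q1b τ b h1 h2 h3 h4 h5⟩

set_option maxRecDepth 100000 in
theorem dec_q2 : ∀ τ g : Equiv.Perm (Fin 4), Equiv.Perm.sign τ = 1 → Equiv.Perm.sign g = 1 →
    τ ≠ 1 → τ * τ * τ = 1 →
    (g * g = 1 ∨ (g * τ) * (g * τ) = 1 ∨ (g * τ * τ) * (g * τ * τ) = 1) := by decide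

set_option maxRecDepth 100000 in
theorem dec_q3 : ∃ τ : Equiv.Perm (Fin 4), Equiv.Perm.sign τ = 1 ∧ τ ≠ 1 ∧ τ * τ * τ = 1 := by
  decide

set_option maxRecDepth 100000 in
theorem dec_q4 : ∃ b : Equiv.Perm (Fin 4), Equiv.Perm.sign b = 1 ∧ b ≠ 1 ∧ b * b = 1 := by
  decide

/-! ### Transfer of the `A₄` facts to a subgroup isomorphic to `A₄` -/

theorem a4_hom {Γ : Type*} [Group Γ] (H : Subgroup Γ)
    (e : ↥H ≃* ↥(alternatingGroup (Fin 4))) :
    ∃ φ : ↥H →* Equiv.Perm (Fin 4), Function.Injective φ ∧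
      (∀ x, Equiv.Perm.sign (φ x) = 1) ∧
      ∀ π : Equiv.Perm (Fin 4), Equiv.Perm.sign π = 1 → ∃ x, φ x = π := by
  refine ⟨(alternatingGroup (Fin 4)).subtype.comp e.toMonoidHom, ?_, ?_, ?_⟩
  · intro x y hxy
    have h1 : ((e x : ↥(alternatingGroup (Fin 4))) : Equiv.Perm (Fin 4)) =
        (e y : ↥(alternatingGroup (Fin 4))) := hxy
    exact e.injective (Subtype.ext h1)
  · intro x
    exact Equiv.Perm.mem_alternatingGroup.mp (e x).2
  · intro π hs
    refine ⟨e.symm ⟨π, Equiv.Perm.mem_alternatingGroup.mpr hs⟩, ?_⟩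
    show ((e (e.symm ⟨π, Equiv.Perm.mem_alternatingGroup.mpr hs⟩) :
      ↥(alternatingGroup (Fin 4))) : Equiv.Perm (Fin 4)) = π
    rw [MulEquiv.apply_symm_apply]

theorem a4_facts {Γ : Type*} [Group Γ] (H : Subgroup Γ)
    (e : ↥H ≃* ↥(alternatingGroup (Fin 4))) (t : Γ) (htH : t ∈ H) (ht1 : t ≠ 1)
    (ht3 : t * t * t = 1) :
    (∀ b ∈ H, b * b = 1 →
      b * (t * b * (t * t)) = (t * b * (t * t)) * b ∧
      b * (t * b * (t * t)) * (t * t * b * t) = 1) ∧
    (∀ g ∈ H, g * g = 1 ∨ (g * t) * (g * t) = 1 ∨ (g * t * t) * (g * t * t) = 1) := by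
  obtain ⟨φ, hinj, hsign, -⟩ := a4_hom H e
  obtain ⟨t', ht'⟩ : ∃ t' : ↥H, (t' : Γ) = t := ⟨⟨t, htH⟩, rfl⟩
  have ht'3 : t' * t' * t' = 1 := by
    apply Subtype.ext
    rw [Subgroup.coe_mul, Subgroup.coe_mul, ht', Subgroup.coe_one]
    exact ht3
  have ht'1 : t' ≠ 1 := by
    intro h
    apply ht1
    rw [← ht', h, Subgroup.coe_one]
  have hτ1 : φ t' ≠ 1 := by
    intro h
    exact ht'1 (hinj (h.trans (map_one φ).symm))
  have hτ3 : φ t' * φ t' * φ t' = 1 := by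
    rw [← map_mul, ← map_mul, ht'3, map_one]
  constructor
  · intro b hb hb2
    obtain ⟨b', hb'⟩ : ∃ b' : ↥H, (b' : Γ) = b := ⟨⟨b, hb⟩, rfl⟩
    have hb'2 : b' * b' = 1 := by
      apply Subtype.ext
      rw [Subgroup.coe_mul, hb', Subgroup.coe_one]
      exact hb2
    have hβ2 : φ b' * φ b' = 1 := by rw [← map_mul, hb'2, map_one]
    obtain ⟨h1, h2⟩ := dec_q1 (φ t') (φ b') (hsign t') (hsign b') hτ1 hτ3 hβ2
    have e1 : b' * (t' * b' * (t' * t')) = (t' * b' * (t' * t')) * b' := by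
      apply hinj
      simp only [map_mul]
      exact h1
    have e2 : b' * (t' * b' * (t' * t')) * (t' * t' * b' * t') = 1 := by
      apply hinj
      simp only [map_mul, map_one]
      exact h2
    constructor
    · have h3 := congrArg Subtype.val e1
      simpa only [Subgroup.coe_mul, ht', hb'] using h3
    · have h3 := congrArg Subtype.val e2
      simpa only [Subgroup.coe_mul, Subgroup.coe_one, ht', hb'] using h3
  · intro g hg
    obtain ⟨g', hg'⟩ : ∃ g' : ↥H, (g' : Γ) = g := ⟨⟨g, hg⟩, rfl⟩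
    rcases dec_q2 (φ t') (φ g') (hsign t') (hsign g') hτ1 hτ3 with h | h | h
    · left
      have e1 : g' * g' = 1 := by
        apply hinj
        simp only [map_mul, map_one]
        exact h
      have h3 := congrArg Subtype.val e1
      simpa only [Subgroup.coe_mul, Subgroup.coe_one, hg'] using h3
    · right; left
      have e1 : (g' * t') * (g' * t') = 1 := by
        apply hinj
        simp only [map_mul, map_one]
        exact h
      have h3 := congrArg Subtype.val e1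
      simpa only [Subgroup.coe_mul, Subgroup.coe_one, hg', ht'] using h3
    · right; right
      have e1 : (g' * t' * t') * (g' * t' * t') = 1 := by
        apply hinj
        simp only [map_mul, map_one]
        exact h
      have h3 := congrArg Subtype.val e1
      simpa only [Subgroup.coe_mul, Subgroup.coe_one, hg', ht'] using h3

theorem a4_exists {Γ : Type*} [Group Γ] (H : Subgroup Γ)
    (e : ↥H ≃* ↥(alternatingGroup (Fin 4))) :
    (∃ t ∈ H, t ≠ 1 ∧ t * t * t = 1) ∧ (∃ b ∈ H, b ≠ 1 ∧ b * b = 1) := by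
  obtain ⟨φ, hinj, -, hsurj⟩ := a4_hom H e
  constructor
  · obtain ⟨τ, hs, h1, h3⟩ := dec_q3
    obtain ⟨x, hx⟩ := hsurj τ hs
    refine ⟨(x : Γ), x.2, ?_, ?_⟩
    · intro h
      apply h1
      have hx1 : x = 1 := by
        apply Subtype.ext
        rw [Subgroup.coe_one]
        exact h
      rw [← hx, hx1, map_one]
    · have h4 : x * x * x = 1 := by
        apply hinj
        rw [map_mul, map_mul, hx, map_one]
        exact h3
      have h5 := congrArg Subtype.val h4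
      simpa only [Subgroup.coe_mul, Subgroup.coe_one] using h5
  · obtain ⟨β, hs, h1, h2⟩ := dec_q4
    obtain ⟨x, hx⟩ := hsurj β hs
    refine ⟨(x : Γ), x.2, ?_, ?_⟩
    · intro h
      apply h1
      have hx1 : x = 1 := by
        apply Subtype.ext
        rw [Subgroup.coe_one]
        exact h
      rw [← hx, hx1, map_one]
    · have h4 : x * x = 1 := by
        apply hinj
        rw [map_mul, hx, map_one]
        exact h2
      have h5 := congrArg Subtype.val h4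
      simpa only [Subgroup.coe_mul, Subgroup.coe_one] using h5

/-! ### Arithmetic of `ℤ/2ᵏ` -/

theorem unit_of_odd (k : ℕ) (hk : k ≠ 0) (x : ZMod (2 ^ k))
    (hx : ZMod.castHom (dvd_pow_self 2 hk) (ZMod 2) x = 1) : IsUnit x := by
  haveI : NeZero (2 ^ k) := ⟨by positivity⟩
  have h1 : ((x.val : ℕ) : ZMod (2 ^ k)) = x := ZMod.natCast_zmod_val x
  have h2 : ((x.val : ℕ) : ZMod 2) = 1 := by
    rw [← map_natCast (ZMod.castHom (dvd_pow_self 2 hk) (ZMod 2)), h1]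
    exact hx
  have hodd : Odd x.val := ZMod.natCast_eq_one_iff_odd.mp h2
  have hu : IsUnit ((x.val : ℕ) : ZMod (2 ^ k)) :=
    (ZMod.isUnit_iff_coprime _ _).mpr (Nat.Coprime.pow_right k (Nat.coprime_two_right.mpr hodd))
  rwa [h1] at hu

theorem exists_inv_three (k : ℕ) : ∃ c : ZMod (2 ^ k), c * 3 = 1 := by
  have h3 : IsUnit ((3 : ℕ) : ZMod (2 ^ k)) :=
    (ZMod.isUnit_iff_coprime _ _).mpr (Nat.Coprime.pow_right k (by decide))
  obtain ⟨c, hc⟩ := h3.exists_left_inv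
  have h4 : ((3 : ℕ) : ZMod (2 ^ k)) = 3 := by norm_num
  rw [h4] at hc
  exact ⟨c, hc⟩

theorem exists_half (k : ℕ) (hk : k ≠ 0) :
    ∃ h : ZMod (2 ^ k), 2 * h = 0 ∧ ∀ u : ZMod (2 ^ k), 2 * u = 0 → u = 0 ∨ u = h := by
  obtain ⟨j, rfl⟩ : ∃ j, k = j + 1 := ⟨k - 1, by omega⟩
  haveI : NeZero (2 ^ (j + 1)) := ⟨by positivity⟩
  refine ⟨((2 ^ j : ℕ) : ZMod (2 ^ (j + 1))), ?_, ?_⟩
  · have h1 : (2 : ZMod (2 ^ (j + 1))) * ((2 ^ j : ℕ) : ZMod (2 ^ (j + 1))) =
        ((2 ^ (j + 1) : ℕ) : ZMod (2 ^ (j + 1))) := by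
      push_cast
      ring
    rw [h1]
    exact ZMod.natCast_self _
  · intro u hu
    have h1 : ((u.val : ℕ) : ZMod (2 ^ (j + 1))) = u := ZMod.natCast_zmod_val u
    have h2 : ((2 * u.val : ℕ) : ZMod (2 ^ (j + 1))) = 0 := by
      rw [Nat.cast_mul, h1]
      exact_mod_cast hu
    have h3 : 2 ^ (j + 1) ∣ 2 * u.val := (ZMod.natCast_eq_zero_iff _ _).mp h2
    have h3' : 2 * 2 ^ j ∣ 2 * u.val := by
      rw [← pow_succ']
      exact h3
    have h4 : 2 ^ j ∣ u.val := Nat.dvd_of_mul_dvd_mul_left (by norm_num) h3'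
    obtain ⟨m, hm⟩ := h4
    have h5 : u.val < 2 ^ (j + 1) := ZMod.val_lt u
    have h6 : m < 2 := by
      have h7 : 2 ^ j * m < 2 ^ j * 2 := by
        rw [← hm, ← pow_succ]
        exact h5
      exact Nat.lt_of_mul_lt_mul_left h7
    interval_cases m
    · left
      rw [← h1, hm]
      simp
    · right
      rw [← h1, hm]
      simp

/-! ### The matrices -/

/-- The matrix with "linear part" `x + y ω` and "semilinear part" `(u + v ω) σ` with respect
to the element `T0` of order three. -/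
def mk {R : Type*} [CommRing R] (x y u v : R) : Matrix (Fin 2) (Fin 2) R :=
  !![x + u, -y + v - u; y + v, x - y - u]

/-- The standard matrix of order three. -/
def T0 (R : Type*) [CommRing R] : Matrix (Fin 2) (Fin 2) R := !![0, -1; 1, -1]

theorem mat_eq {R : Type*} (a b c d a' b' c' d' : R)
    (h : !![a, b; c, d] = !![a', b'; c', d']) : a = a' ∧ b = b' ∧ c = c' ∧ d = d' :=
  ⟨congrFun (congrFun h 0) 0, congrFun (congrFun h 0) 1, congrFun (congrFun h 1) 0,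
    congrFun (congrFun h 1) 1⟩

theorem mat_congr {R : Type*} {a b c d a' b' c' d' : R} (h1 : a = a') (h2 : b = b')
    (h3 : c = c') (h4 : d = d') : !![a, b; c, d] = !![a', b'; c', d'] := by
  rw [h1, h2, h3, h4]

theorem mk_congr {R : Type*} [CommRing R] {u v u' v' : R} (h1 : u = u') (h2 : v = v') :
    mk (1 : R) 0 u v = mk 1 0 u' v' := by
  rw [h1, h2]

theorem mk_one {R : Type*} [CommRing R] : mk (1 : R) 0 0 0 = 1 := by
  unfold mk
  rw [Matrix.one_fin_two]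
  apply mat_congr <;> ring

theorem T0_cube (R : Type*) [CommRing R] : T0 R * T0 R * T0 R = 1 := by
  unfold T0
  rw [Matrix.mul_fin_two, Matrix.mul_fin_two, Matrix.one_fin_two]
  apply mat_congr <;> ring

theorem T0_cube' (R : Type*) [CommRing R] : T0 R * (T0 R * T0 R) = 1 := by
  rw [← mul_assoc]
  exact T0_cube R

theorem conj1 {R : Type*} [CommRing R] (x y u v : R) :
    T0 R * mk x y u v * (T0 R * T0 R) = mk x y (v - u) (-u) := by
  unfold T0 mk
  rw [Matrix.mul_fin_two, Matrix.mul_fin_two, Matrix.mul_fin_two]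
  apply mat_congr <;> ring

theorem conj2 {R : Type*} [CommRing R] (x y u v : R) :
    T0 R * T0 R * mk x y u v * T0 R = mk x y (-v) (u - v) := by
  unfold T0 mk
  rw [Matrix.mul_fin_two, Matrix.mul_fin_two, Matrix.mul_fin_two]
  apply mat_congr <;> ring

theorem exists_mk {R : Type*} [CommRing R] (c : R) (hc : c * 3 = 1)
    (A : Matrix (Fin 2) (Fin 2) R) : ∃ x y u v : R, A = mk x y u v := by
  obtain ⟨p, q, r, s, hA⟩ : ∃ p q r s : R, A = !![p, q; r, s] :=
    ⟨_, _, _, _, Matrix.eta_fin_two A⟩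
  refine ⟨p - (r - q - 2 * (c * (2 * (r - q) - (p - s)))), c * (2 * (r - q) - (p - s)),
    r - q - 2 * (c * (2 * (r - q) - (p - s))), r - c * (2 * (r - q) - (p - s)), ?_⟩
  rw [hA]
  unfold mk
  apply mat_congr
  · ring
  · ring
  · ring
  · linear_combination (-(2 * (r - q) - (p - s))) * hc

/-- The algebraic core: an involution `A` commuting with its `T0`-conjugate, the product of the
three conjugates being `1`, is `1 + βσ` with `2β = 0`. -/
theorem core {R : Type*} [CommRing R] (c : R) (hc : c * 3 = 1) (x y u v : R)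
    (h1 : mk x y u v * mk x y u v = 1)
    (h2 : mk x y u v * mk x y (v - u) (-u) = mk x y (v - u) (-u) * mk x y u v)
    (h3 : mk x y u v * mk x y (v - u) (-u) * mk x y (-v) (u - v) = 1) :
    x = 1 ∧ y = 0 ∧ 2 * u = 0 ∧ 2 * v = 0 := by
  unfold mk at h1 h2 h3
  rw [Matrix.mul_fin_two, Matrix.one_fin_two] at h1
  rw [Matrix.mul_fin_two, Matrix.mul_fin_two] at h2
  rw [Matrix.mul_fin_two, Matrix.mul_fin_two, Matrix.one_fin_two] at h3
  obtain ⟨e11, e12, e21, e22⟩ := mat_eq _ _ _ _ _ _ _ _ h1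
  obtain ⟨f11, f12, f21, f22⟩ := mat_eq _ _ _ _ _ _ _ _ h2
  obtain ⟨g11, g12, g21, g22⟩ := mat_eq _ _ _ _ _ _ _ _ h3
  have H1 : x ^ 2 - y ^ 2 + (u ^ 2 - u * v + v ^ 2) = 1 := by
    linear_combination c * (e11 + e21 - e12 + 2 * e22) -
      (x ^ 2 - y ^ 2 + (u ^ 2 - u * v + v ^ 2) - 1) * hc
  have H2 : 2 * x * y - y ^ 2 = 0 := by
    linear_combination c * (2 * e21 - 2 * e12 - e11 + e22) - (2 * x * y - y ^ 2) * hc
  have H3 : (2 * x - y) * u = 0 := by
    linear_combination c * (-e21 + e12 + 2 * e11 - 2 * e22) - ((2 * x - y) * u) * hc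
  have H4 : (2 * x - y) * v = 0 := by
    linear_combination c * (e21 + 2 * e12 + e11 - e22) - ((2 * x - y) * v) * hc
  have H5 : u ^ 2 - u * v + v ^ 2 = 0 := by
    linear_combination c * (f11 + f21 - f12 + 2 * f22) - (u ^ 2 - u * v + v ^ 2) * hc
  have H6 : y * v = 0 := by
    linear_combination c ^ 2 * (-f21 + f12 + 2 * f11 - 2 * f22) - (y * v) * (c * 3 + 1) * hc
  have H7 : y * (u - v) = 0 := by
    linear_combination (-(c ^ 2)) * (f21 + 2 * f12 + f11 - f22) -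
      (y * (u - v)) * (c * 3 + 1) * hc
  have H10 : x ^ 3 - 3 * x * y ^ 2 + y ^ 3 - (u ^ 2 - u * v + v ^ 2) * (x + 2 * y) = 1 := by
    linear_combination c * (g11 + g21 - g12 + 2 * g22) -
      (x ^ 3 - 3 * x * y ^ 2 + y ^ 3 - (u ^ 2 - u * v + v ^ 2) * (x + 2 * y) - 1) * hc
  have H11 : 3 * x ^ 2 * y - 3 * x * y ^ 2 + (u ^ 2 - u * v + v ^ 2) * (x - y) = 0 := by
    linear_combination c * (2 * g21 - 2 * g12 - g11 + g22) -
      (3 * x ^ 2 * y - 3 * x * y ^ 2 + (u ^ 2 - u * v + v ^ 2) * (x - y)) * hc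
  refine ⟨?_, ?_, ?_, ?_⟩
  · linear_combination H10 - x * H1 + y * H2 + (2 * x + 2 * y) * H5
  · linear_combination H11 - y * H1 - (x - y) * H2 + (2 * y - x) * H5
  · linear_combination (-2 * u) * H1 + (2 * u) * H5 + x * H3 + (x - 2 * y) * H6 +
      (x - 2 * y) * H7
  · linear_combination (-2 * v) * H1 + (2 * v) * H5 + x * H4 + (x - 2 * y) * H6

theorem core_mat {R : Type*} [CommRing R] (c : R) (hc : c * 3 = 1)
    (A : Matrix (Fin 2) (Fin 2) R) (h1 : A * A = 1)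
    (h2 : A * (T0 R * A * (T0 R * T0 R)) = (T0 R * A * (T0 R * T0 R)) * A)
    (h3 : A * (T0 R * A * (T0 R * T0 R)) * (T0 R * T0 R * A * T0 R) = 1) :
    ∃ u v : R, 2 * u = 0 ∧ 2 * v = 0 ∧ A = mk 1 0 u v := by
  obtain ⟨x, y, u, v, hA⟩ := exists_mk c hc A
  subst hA
  rw [conj1] at h2
  rw [conj1, conj2] at h3
  obtain ⟨hx, hy, hu, hv⟩ := core c hc x y u v h1 h2 h3
  exact ⟨u, v, hu, hv, by rw [hx, hy]⟩

/-! ### Elements of order three -/

theorem ord3 (k : ℕ) (hk : k ≠ 0) (T : Matrix (Fin 2) (Fin 2) (ZMod (2 ^ k)))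
    (hT3 : T * T * T = 1) (hT1 : T ≠ 1) :
    T * T + T + 1 = 0 ∧ IsUnit (T 1 0) := by
  obtain ⟨ρ, hρ⟩ : ∃ ρ : ZMod (2 ^ k) →+* ZMod 2,
      ρ = ZMod.castHom (dvd_pow_self 2 hk) (ZMod 2) := ⟨_, rfl⟩
  have hunit : ∀ Z : Matrix (Fin 2) (Fin 2) (ZMod (2 ^ k)),
      (ρ.mapMatrix Z).det = 1 → IsUnit Z := by
    intro Z hZ
    rw [Matrix.isUnit_iff_isUnit_det]
    apply unit_of_odd k hk
    rw [← hρ, RingHom.map_det]
    exact hZ
  have hB3 : ρ.mapMatrix T * ρ.mapMatrix T * ρ.mapMatrix T = 1 := by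
    rw [← map_mul, ← map_mul, hT3, map_one]
  have hprod : (T - 1) * (T * T + T + 1) = 0 := by
    have h1 : (T - 1) * (T * T + T + 1) = T * T * T - 1 := by noncomm_ring
    rw [h1, hT3, sub_self]
  by_cases hb : ρ.mapMatrix T = 1
  · exfalso
    have h1 : (ρ.mapMatrix (T * T + T + 1)).det = 1 := by
      rw [map_add, map_add, map_mul, map_one, hb, mul_one, dec_three, Matrix.det_one]
    have h2 := hunit _ h1
    have h3 : T - 1 = 0 := (IsUnit.mul_left_eq_zero h2).mp hprod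
    exact hT1 (sub_eq_zero.mp h3)
  · obtain ⟨hd, h10⟩ := dec_mat (ρ.mapMatrix T) hB3 hb
    have h1 : (ρ.mapMatrix (T - 1)).det = 1 := by
      rw [map_sub, map_one, Matrix.det_fin_two]
      exact hd
    have h2 := hunit _ h1
    refine ⟨(IsUnit.mul_right_eq_zero h2).mp hprod, ?_⟩
    apply unit_of_odd k hk
    rw [← hρ]
    exact h10

/-- The element `t₀` of order three in `GL₂`. -/
def t0u (R : Type*) [CommRing R] : GL (Fin 2) R :=
  ⟨T0 R, T0 R * T0 R, T0_cube' R, T0_cube R⟩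

theorem t0u_val (R : Type*) [CommRing R] :
    ((t0u R : GL (Fin 2) R) : Matrix (Fin 2) (Fin 2) R) = T0 R := rfl

theorem t0u_cube (R : Type*) [CommRing R] : t0u R * t0u R * t0u R = 1 := by
  apply Units.ext
  rw [Units.val_mul, Units.val_mul, t0u_val, Units.val_one]
  exact T0_cube R

theorem conj_to_t0 (k : ℕ) (hk : k ≠ 0) (T : GL (Fin 2) (ZMod (2 ^ k)))
    (hT3 : T * T * T = 1) (hT1 : T ≠ 1) :
    ∃ g : GL (Fin 2) (ZMod (2 ^ k)), g⁻¹ * T * g = t0u (ZMod (2 ^ k)) := by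
  have hm3 : (T : Matrix (Fin 2) (Fin 2) (ZMod (2 ^ k))) * T * T = 1 := by
    have h := congrArg Units.val hT3
    simpa only [Units.val_mul, Units.val_one] using h
  have hm1 : (T : Matrix (Fin 2) (Fin 2) (ZMod (2 ^ k))) ≠ 1 := by
    intro h
    apply hT1
    apply Units.ext
    rw [h, Units.val_one]
  obtain ⟨a, b, c, d, hTm⟩ : ∃ a b c d : ZMod (2 ^ k),
      (T : Matrix (Fin 2) (Fin 2) (ZMod (2 ^ k))) = !![a, b; c, d] :=
    ⟨_, _, _, _, Matrix.eta_fin_two _⟩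
  rw [hTm] at hm3 hm1
  obtain ⟨hN, hu⟩ := ord3 k hk _ hm3 hm1
  have hc : IsUnit c := hu
  rw [Matrix.mul_fin_two] at hN
  have n00 : a * a + b * c + a + 1 = 0 := congrFun (congrFun hN 0) 0
  have n10 : c * a + d * c + c + 0 = 0 := congrFun (congrFun hN 1) 0
  have hdet : IsUnit (!![1, a; 0, c] : Matrix (Fin 2) (Fin 2) (ZMod (2 ^ k))).det := by
    rw [Matrix.det_fin_two_of]
    have h1 : (1 : ZMod (2 ^ k)) * c - a * 0 = c := by ring
    rw [h1]
    exact hc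
  obtain ⟨g, hg⟩ := (Matrix.isUnit_iff_isUnit_det _).mpr hdet
  refine ⟨g, ?_⟩
  have key : T * g = g * t0u (ZMod (2 ^ k)) := by
    apply Units.ext
    rw [Units.val_mul, Units.val_mul, hg, hTm, t0u_val]
    unfold T0
    rw [Matrix.mul_fin_two, Matrix.mul_fin_two]
    apply mat_congr
    · ring
    · linear_combination n00
    · ring
    · linear_combination n10
  rw [mul_assoc, key, ← mul_assoc, inv_mul_cancel, one_mul]

/-! ### Subgroups isomorphic to `A₄` containing `t₀` -/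

theorem inv_form (k : ℕ) (H : Subgroup (GL (Fin 2) (ZMod (2 ^ k))))
    (e : ↥H ≃* ↥(alternatingGroup (Fin 4))) (ht : t0u (ZMod (2 ^ k)) ∈ H)
    (ht1 : t0u (ZMod (2 ^ k)) ≠ 1)
    (a : GL (Fin 2) (ZMod (2 ^ k))) (ha : a ∈ H) (ha2 : a * a = 1) :
    ∃ u v : ZMod (2 ^ k), 2 * u = 0 ∧ 2 * v = 0 ∧
      (a : Matrix (Fin 2) (Fin 2) (ZMod (2 ^ k))) = mk 1 0 u v := by
  obtain ⟨c, hc⟩ := exists_inv_three k
  obtain ⟨hP1, -⟩ := a4_facts H e _ ht ht1 (t0u_cube _)
  obtain ⟨h2, h3⟩ := hP1 a ha ha2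
  apply core_mat c hc
  · have h := congrArg Units.val ha2
    simpa only [Units.val_mul, Units.val_one] using h
  · have h := congrArg Units.val h2
    simpa only [Units.val_mul, t0u_val] using h
  · have h := congrArg Units.val h3
    simpa only [Units.val_mul, Units.val_one, t0u_val] using h

theorem key_le (k : ℕ) (hk : k ≠ 0) (H H' : Subgroup (GL (Fin 2) (ZMod (2 ^ k))))
    (e : ↥H ≃* ↥(alternatingGroup (Fin 4))) (e' : ↥H' ≃* ↥(alternatingGroup (Fin 4)))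
    (ht : t0u (ZMod (2 ^ k)) ∈ H) (ht' : t0u (ZMod (2 ^ k)) ∈ H')
    (ht1 : t0u (ZMod (2 ^ k)) ≠ 1) : H ≤ H' := by
  obtain ⟨h, hh, htors⟩ := exists_half k hk
  obtain ⟨t, htdef⟩ : ∃ t : GL (Fin 2) (ZMod (2 ^ k)), t = t0u (ZMod (2 ^ k)) := ⟨_, rfl⟩
  have htH : t ∈ H := by rw [htdef]; exact ht
  have htH' : t ∈ H' := by rw [htdef]; exact ht'
  have htne : t ≠ 1 := by rw [htdef]; exact ht1
  have htv : (t : Matrix (Fin 2) (Fin 2) (ZMod (2 ^ k))) = T0 (ZMod (2 ^ k)) := by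
    rw [htdef]
    rfl
  have ht3 : t * t * t = 1 := by
    rw [htdef]
    exact t0u_cube _
  have hneg : -h = h := by linear_combination (-1 : ZMod (2 ^ k)) * hh
  -- an element of `H'` with matrix `mk 1 0 h 0`
  have hX : ∃ m ∈ H', (m : Matrix (Fin 2) (Fin 2) (ZMod (2 ^ k))) = mk 1 0 h 0 := by
    obtain ⟨-, b, hb, hb1, hb2⟩ := a4_exists H' e'
    obtain ⟨u, v, hu, hv, hbm⟩ := inv_form k H' e' ht' ht1 b hb hb2
    rcases htors u hu with hu0 | huh
    · rcases htors v hv with hv0 | hvh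
      · exfalso
        apply hb1
        apply Units.ext
        rw [hbm, hu0, hv0, mk_one, Units.val_one]
      · refine ⟨t * b * (t * t), H'.mul_mem (H'.mul_mem htH' hb) (H'.mul_mem htH' htH'), ?_⟩
        simp only [Units.val_mul]
        rw [htv, hbm, hu0, hvh, conj1]
        exact mk_congr (by ring) (by ring)
    · rcases htors v hv with hv0 | hvh
      · refine ⟨b, hb, ?_⟩
        rw [hbm, huh, hv0]
      · refine ⟨t * t * b * t, H'.mul_mem (H'.mul_mem (H'.mul_mem htH' htH') hb) htH', ?_⟩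
        simp only [Units.val_mul]
        rw [htv, hbm, huh, hvh, conj2]
        exact mk_congr hneg (by ring)
  obtain ⟨m, hmH', hmm⟩ := hX
  have hY : ∀ a ∈ H, a * a = 1 → a ∈ H' := by
    intro a ha ha2
    obtain ⟨u, v, hu, hv, ham⟩ := inv_form k H e ht ht1 a ha ha2
    rcases htors u hu with hu0 | huh
    · rcases htors v hv with hv0 | hvh
      · have h1 : a = 1 := by
          apply Units.ext
          rw [ham, hu0, hv0, mk_one, Units.val_one]
        rw [h1]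
        exact H'.one_mem
      · have h1 : a = t * t * m * t := by
          apply Units.ext
          simp only [Units.val_mul]
          rw [ham, htv, hmm, hu0, hvh, conj2]
          exact mk_congr (by ring) (by ring)
        rw [h1]
        exact H'.mul_mem (H'.mul_mem (H'.mul_mem htH' htH') hmH') htH'
    · rcases htors v hv with hv0 | hvh
      · have h1 : a = m := by
          apply Units.ext
          rw [ham, hmm, huh, hv0]
        rw [h1]
        exact hmH'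
      · have h1 : a = t * m * (t * t) := by
          apply Units.ext
          simp only [Units.val_mul]
          rw [ham, htv, hmm, huh, hvh, conj1]
          exact mk_congr (by linear_combination hh) hneg.symm
        rw [h1]
        exact H'.mul_mem (H'.mul_mem htH' hmH') (H'.mul_mem htH' htH')
  intro g hg
  obtain ⟨-, hP2⟩ := a4_facts H e t htH htne ht3
  rcases hP2 g hg with h1 | h1 | h1
  · exact hY g hg h1
  · have h2 := hY (g * t) (H.mul_mem hg htH) h1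
    have h3 : g = g * t * t⁻¹ := by group
    rw [h3]
    exact H'.mul_mem h2 (H'.inv_mem htH')
  · have h2 := hY (g * t * t) (H.mul_mem (H.mul_mem hg htH) htH) h1
    have h3 : g = g * t * t * t⁻¹ * t⁻¹ := by group
    rw [h3]
    exact H'.mul_mem (H'.mul_mem h2 (H'.inv_mem htH')) (H'.inv_mem htH')

theorem reduce (k : ℕ) (hk : k ≠ 0) (H : Subgroup (GL (Fin 2) (ZMod (2 ^ k))))
    (e : ↥H ≃* ↥(alternatingGroup (Fin 4))) :
    ∃ (g : GL (Fin 2) (ZMod (2 ^ k))) (H' : Subgroup (GL (Fin 2) (ZMod (2 ^ k)))),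
      (∀ y, y ∈ H' ↔ g * y * g⁻¹ ∈ H) ∧ Nonempty (↥H' ≃* ↥(alternatingGroup (Fin 4))) ∧
      t0u (ZMod (2 ^ k)) ∈ H' ∧ t0u (ZMod (2 ^ k)) ≠ 1 := by
  obtain ⟨⟨T, hTH, hT1, hT3⟩, -⟩ := a4_exists H e
  obtain ⟨g, hg⟩ := conj_to_t0 k hk T hT3 hT1
  have hmem : ∀ y, y ∈ H.map (MulAut.conj g⁻¹).toMonoidHom ↔ g * y * g⁻¹ ∈ H := by
    intro y
    rw [Subgroup.mem_map_equiv, MulAut.conj_symm_apply, inv_inv]
  refine ⟨g, H.map (MulAut.conj g⁻¹).toMonoidHom, hmem, ?_, ?_, ?_⟩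
  · exact ⟨(Subgroup.equivMapOfInjective H _ (MulAut.conj g⁻¹).injective).symm.trans e⟩
  · rw [hmem, ← hg]
    have h1 : g * (g⁻¹ * T * g) * g⁻¹ = T := by group
    rw [h1]
    exact hTH
  · intro h
    apply hT1
    rw [h] at hg
    have h1 : T = g * (g⁻¹ * T * g) * g⁻¹ := by group
    rw [h1, hg]
    group

/-- For k ≥ 2, any two subgroups of GL₂(ℤ/2ᵏℤ) (the automorphism group of the homocyclic group ℤ/2ᵏ × ℤ/2ᵏ) that are isomorphic to the alternating group of degree 4 are conjugate. -/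
theorem result (k : ℕ) (hk : 2 ≤ k) (H₁ H₂ : Subgroup (GL (Fin 2) (ZMod (2 ^ k)))) (h₁ : Nonempty (↥H₁ ≃* ↥(alternatingGroup (Fin 4)))) (h₂ : Nonempty (↥H₂ ≃* ↥(alternatingGroup (Fin 4)))) : ∃ g : GL (Fin 2) (ZMod (2 ^ k)), H₂ = H₁.map (MulAut.conj g).toMonoidHom := by
  have hk0 : k ≠ 0 := by omega
  obtain ⟨e₁⟩ := h₁
  obtain ⟨e₂⟩ := h₂
  obtain ⟨g₁, H₁', hdef₁, ⟨e₁'⟩, ht₁, hne₁⟩ := reduce k hk0 H₁ e₁
  obtain ⟨g₂, H₂', hdef₂, ⟨e₂'⟩, ht₂, -⟩ := reduce k hk0 H₂ e₂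
  have hEq : H₁' = H₂' :=
    le_antisymm (key_le k hk0 H₁' H₂' e₁' e₂' ht₁ ht₂ hne₁)
      (key_le k hk0 H₂' H₁' e₂' e₁' ht₂ ht₁ hne₁)
  refine ⟨g₂ * g₁⁻¹, ?_⟩
  ext x
  rw [Subgroup.mem_map_equiv, MulAut.conj_symm_apply]
  have e1 : (g₂ * g₁⁻¹)⁻¹ * x * (g₂ * g₁⁻¹) = g₁ * (g₂⁻¹ * x * g₂) * g₁⁻¹ := by group
  have e2 : x = g₂ * (g₂⁻¹ * x * g₂) * g₂⁻¹ := by group
  rw [e1, ← hdef₁, hEq, hdef₂, ← e2]

end Cfsg.Agent.S2874
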