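import Cfsg.Statements.S3215
import Cfsg.Agent.S0040
import Cfsg.Agent.S0044
import Cfsg.Agent.Helper16.OddCore
import Cfsg.Agent.Helper1.Fitting
import Cfsg.Agent.Helper15.Quat
import Cfsg.Agent.Helper15.SE

set_option autoImplicit false
open Cfsg

namespace Cfsg.Agent.S3215

open Cfsg.Agent.Helper15
open scoped commutatorElement

/-- An element of odd order killed by a power of two is trivial. -/
theorem eq_one_of_odd_of_two_pow {M : Type*} [Group M] {g : M} (hodd : Odd (orderOf g)) {k : ℕ}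
    (hk : g ^ 2 ^ k = 1) : g = 1 := by
  have h1 : orderOf g ∣ 2 ^ k := orderOf_dvd_of_pow_eq_one hk
  obtain ⟨j, -, hj⟩ := (Nat.dvd_prime_pow Nat.prime_two).mp h1
  rw [hj] at hodd
  have hj0 : j = 0 := by
    by_contra h
    exact (Nat.not_even_iff_odd.mpr hodd) (Nat.even_pow.mpr ⟨even_two, h⟩)
  rw [hj0, pow_zero] at hj
  exact orderOf_eq_one_iff.mp hj

theorem cyc_comm' {α : Type*} [Group α] [IsCyclic α] (a b : α) : a * b = b * a := by
  obtain ⟨g, hg⟩ := IsCyclic.exists_generator (α := α)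
  obtain ⟨i, rfl⟩ := Subgroup.mem_zpowers_iff.mp (hg a)
  obtain ⟨j, rfl⟩ := Subgroup.mem_zpowers_iff.mp (hg b)
  rw [← zpow_add, ← zpow_add, add_comm]

theorem mulAut_comm_of_cyc {B : Type*} [Group B] [IsCyclic B] (f g : MulAut B) :
    f * g = g * f := by
  apply (IsCyclic.mulAutMulEquiv B).injective
  rw [map_mul, map_mul, mul_comm]

/-- Commutators centralize a cyclic normal subgroup. -/
theorem comm_centralizes_cyc {N : Type*} [Group N] (B : Subgroup N) [B.Normal] [IsCyclic B]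
    (n m : N) (b : N) (hb : b ∈ B) : ⁅n, m⁆ * b = b * ⁅n, m⁆ := by
  have h1 : MulAut.conjNormal (H := B) ⁅n, m⁆ = 1 := by
    rw [commutatorElement_def, map_mul, map_mul, map_mul, map_inv, map_inv]
    have hc := mulAut_comm_of_cyc (MulAut.conjNormal (H := B) n) (MulAut.conjNormal (H := B) m)
    rw [hc]; group
  have h2 : ((MulAut.conjNormal (H := B) ⁅n, m⁆ ⟨b, hb⟩ : B) : N) = b := by rw [h1]; rfl
  rw [MulAut.conjNormal_apply] at h2
  calc ⁅n, m⁆ * b = (⁅n, m⁆ * b * ⁅n, m⁆⁻¹) * ⁅n, m⁆ := by group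
    _ = b * ⁅n, m⁆ := by rw [h2]

/-- In the centralizer of an involution `z` (which has a normal `2`-complement), elements of odd
order commute with the elements of `O₂(H)` centralizing `z`. -/
theorem comm_of_invol {H : Type*} [Group H] [Finite H]
    (hI : ∀ t : H, orderOf t = 2 →
      Cfsg.HasNormalPComplement 2 ↥(Subgroup.centralizer ({t} : Set H)))
    (z x w : H) (hz : orderOf z = 2) (hx : Odd (orderOf x)) (hxz : x * z = z * x)
    (hw : w ∈ Cfsg.pCore 2 H) (hwz : w * z = z * w) : x * w = w * x := by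
  obtain ⟨P, N, hNn, hc⟩ := hI z hz
  have hxC : x ∈ Subgroup.centralizer ({z} : Set H) := by
    rw [Subgroup.mem_centralizer_iff]
    intro h hh
    rw [Set.mem_singleton_iff] at hh
    rw [hh]; exact hxz.symm
  have hwC : w ∈ Subgroup.centralizer ({z} : Set H) := by
    rw [Subgroup.mem_centralizer_iff]
    intro h hh
    rw [Set.mem_singleton_iff] at hh
    rw [hh]; exact hwz.symm
  have hcard := hc.card_mul_card
  obtain ⟨a, ha⟩ := IsPGroup.iff_card.mp P.isPGroup'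
  have hNpos : 0 < Nat.card ↥N := Nat.card_pos
  have hPpos : 0 < Nat.card ↥(P : Subgroup ↥(Subgroup.centralizer ({z} : Set H))) := Nat.card_pos
  have hNidx : N.index = 2 ^ a := by
    have h1 := N.card_mul_index
    rw [← hcard] at h1
    rw [← ha]
    exact Nat.eq_of_mul_eq_mul_left hNpos h1
  have hNodd : ¬ 2 ∣ Nat.card ↥N := by
    have h1 := (P : Subgroup ↥(Subgroup.centralizer ({z} : Set H))).card_mul_index
    rw [← hcard, mul_comm (Nat.card ↥N)] at h1
    have h2 : (P : Subgroup ↥(Subgroup.centralizer ({z} : Set H))).index = Nat.card ↥N :=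
      Nat.eq_of_mul_eq_mul_left hPpos h1
    rw [← h2]
    exact P.not_dvd_index
  -- x lies in N
  have hxN : (⟨x, hxC⟩ : ↥(Subgroup.centralizer ({z} : Set H))) ∈ N := by
    have h1 : (⟨x, hxC⟩ : ↥(Subgroup.centralizer ({z} : Set H))) ^ N.index ∈ N :=
      N.pow_index_mem _
    rw [hNidx] at h1
    have hcop : (2 ^ a).Coprime (orderOf (⟨x, hxC⟩ : ↥(Subgroup.centralizer ({z} : Set H)))) := by
      rw [Subgroup.orderOf_mk]
      exact Nat.Coprime.pow_left a (Nat.coprime_two_left.mpr hx)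
    obtain ⟨m, hm⟩ := exists_pow_eq_self_of_coprime hcop
    rw [← hm]
    exact N.pow_mem h1 m
  have hYn : ((Cfsg.pCore 2 H).comap (Subgroup.centralizer ({z} : Set H)).subtype).Normal :=
    (Helper1.pCore_normal 2 H).comap _
  have hwY : (⟨w, hwC⟩ : ↥(Subgroup.centralizer ({z} : Set H))) ∈
      (Cfsg.pCore 2 H).comap (Subgroup.centralizer ({z} : Set H)).subtype := hw
  obtain ⟨g, hg⟩ : ∃ g : ↥(Subgroup.centralizer ({z} : Set H)),
      g = (⟨x, hxC⟩ : ↥(Subgroup.centralizer ({z} : Set H))) * ⟨w, hwC⟩ *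
        (⟨x, hxC⟩ : ↥(Subgroup.centralizer ({z} : Set H)))⁻¹ *
        (⟨w, hwC⟩ : ↥(Subgroup.centralizer ({z} : Set H)))⁻¹ := ⟨_, rfl⟩
  have hgN : g ∈ N := by
    have h1 := hNn.conj_mem _ (N.inv_mem hxN) (⟨w, hwC⟩ : ↥(Subgroup.centralizer ({z} : Set H)))
    have h2 := N.mul_mem hxN h1
    have e : g = (⟨x, hxC⟩ : ↥(Subgroup.centralizer ({z} : Set H))) *
        ((⟨w, hwC⟩ : ↥(Subgroup.centralizer ({z} : Set H))) *
          (⟨x, hxC⟩ : ↥(Subgroup.centralizer ({z} : Set H)))⁻¹ *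
          (⟨w, hwC⟩ : ↥(Subgroup.centralizer ({z} : Set H)))⁻¹) := by
      rw [hg]; group
    rw [e]; exact h2
  have hgY : (g : H) ∈ Cfsg.pCore 2 H := by
    have h1 := hYn.conj_mem _ hwY (⟨x, hxC⟩ : ↥(Subgroup.centralizer ({z} : Set H)))
    have h2 := Subgroup.mul_mem _ h1 (Subgroup.inv_mem _ hwY)
    rw [← hg] at h2
    exact h2
  have hg1 : g = 1 := by
    obtain ⟨k, hk⟩ := (Helper1.pCore_isPGroup 2 H) ⟨(g : H), hgY⟩
    have hk' : g ^ 2 ^ k = 1 := by
      apply Subtype.ext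
      have := congrArg Subtype.val hk
      simpa using this
    have hodd : Odd (orderOf g) := by
      rw [← Nat.not_even_iff_odd]
      intro he
      exact hNodd ((even_iff_two_dvd.mp he).trans (Subgroup.orderOf_dvd_natCard N hgN))
    exact eq_one_of_odd_of_two_pow hodd hk'
  rw [hg1] at hg
  have h3 := mul_inv_eq_one.mp hg.symm
  have h4 := mul_inv_eq_iff_eq_mul.mp h3
  exact congrArg Subtype.val h4

/-- `C_H(O₂(H)) ≤ O₂(H)` in a solvable group with `O(H) = 1`. -/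
theorem cent_le {H : Type*} [Group H] [Finite H] (hsol : Group.IsSolvable H)
    (hO : Cfsg.oddCore H = ⊥) :
    Subgroup.centralizer (Cfsg.pCore 2 H : Set H) ≤ Cfsg.pCore 2 H := by
  haveI := Helper1.pCore_normal 2 H
  have hn : (Subgroup.centralizer (Cfsg.pCore 2 H : Set H)).Normal := inferInstance
  exact Helper16.normal_le_of_le_centralizer hsol (Cfsg.pCore 2 H)
    (fun N hN hp => Helper1.le_pCore hN hp)
    (fun N hN hc => by
      have := Helper16.le_oddCore hN hc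
      rw [hO] at this
      exact le_bot_iff.mp this) _ _ rfl hn le_rfl

theorem all_one_of_core_bot {H : Type*} [Group H] [Finite H] (hsol : Group.IsSolvable H)
    (hO : Cfsg.oddCore H = ⊥) (hY : Cfsg.pCore 2 H = ⊥) : ∀ h : H, h = 1 := by
  intro h
  have h1 := cent_le hsol hO
  rw [hY] at h1
  have h2 : h ∈ Subgroup.centralizer ((⊥ : Subgroup H) : Set H) := by
    rw [Subgroup.mem_centralizer_iff]
    intro g hg
    have : g = 1 := Subgroup.mem_bot.mp hg
    rw [this, one_mul, mul_one]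
  exact Subgroup.mem_bot.mp (h1 h2)

/-- The key lemma: an element of odd order commuting with a non-identity element of `O₂(H)` is
trivial. -/
theorem key {H : Type*} [Group H] [Finite H] (hsol : Group.IsSolvable H)
    (hO : Cfsg.oddCore H = ⊥)
    (hI : ∀ t : H, orderOf t = 2 →
      Cfsg.HasNormalPComplement 2 ↥(Subgroup.centralizer ({t} : Set H)))
    (x y : H) (hx : Odd (orderOf x)) (hy : y ∈ Cfsg.pCore 2 H) (hy1 : y ≠ 1)
    (hxy : x * y = y * x) : x = 1 := by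
  have hY2 : IsPGroup 2 ↥(Cfsg.pCore 2 H) := Helper1.pCore_isPGroup 2 H
  obtain ⟨k, hk⟩ := hY2 ⟨y, hy⟩
  have hk' : y ^ 2 ^ k = 1 := by
    have := congrArg Subtype.val hk
    simpa using this
  obtain ⟨m, hm1, hm2⟩ := exists_pow_order_p (p := 2) hy1 hk'
  have hz : orderOf (y ^ m) = 2 := orderOf_eq_prime hm2 hm1
  have hzY : y ^ m ∈ Cfsg.pCore 2 H := Subgroup.pow_mem _ hy m
  have hxy' : Commute x y := hxy
  have hxz : x * y ^ m = y ^ m * x := (hxy'.pow_right m).eq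
  haveI : Nontrivial ↥(Cfsg.pCore 2 H) :=
    ⟨⟨⟨y, hy⟩, 1, fun h => hy1 (congrArg Subtype.val h)⟩⟩
  haveI := hY2.center_nontrivial
  obtain ⟨c, hc⟩ := exists_ne (1 : Subgroup.center ↥(Cfsg.pCore 2 H))
  have hc1 : (c : ↥(Cfsg.pCore 2 H)) ≠ 1 := fun h => hc (Subtype.ext h)
  obtain ⟨k2, hk2⟩ := hY2 (c : ↥(Cfsg.pCore 2 H))
  obtain ⟨m2, hm21, hm22⟩ := exists_pow_order_p (p := 2) hc1 hk2
  have hcen : (c : ↥(Cfsg.pCore 2 H)) ^ m2 ∈ Subgroup.center ↥(Cfsg.pCore 2 H) :=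
    Subgroup.pow_mem _ c.2 m2
  obtain ⟨z₀, hz₀Y, hz₀o, hz₀c⟩ : ∃ z₀ : H, z₀ ∈ Cfsg.pCore 2 H ∧ orderOf z₀ = 2 ∧
      ∀ w ∈ Cfsg.pCore 2 H, w * z₀ = z₀ * w := by
    refine ⟨(((c : ↥(Cfsg.pCore 2 H)) ^ m2 : ↥(Cfsg.pCore 2 H)) : H), Subtype.property _, ?_, ?_⟩
    · apply orderOf_eq_prime
      · have := congrArg Subtype.val hm22
        simpa using this
      · intro h; exact hm21 (Subtype.ext h)
    · intro w hw
      have := Subgroup.mem_center_iff.mp hcen ⟨w, hw⟩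
      exact congrArg Subtype.val this
  have hxz₀ : x * z₀ = z₀ * x :=
    comm_of_invol hI (y ^ m) x z₀ hz hx hxz hz₀Y (hz₀c _ hzY).symm
  have hxC : x ∈ Subgroup.centralizer (Cfsg.pCore 2 H : Set H) := by
    rw [Subgroup.mem_centralizer_iff]
    intro w hw
    exact (comm_of_invol hI z₀ x w hz₀o hx hxz₀ hw (hz₀c w hw)).symm
  have hxY := cent_le hsol hO hxC
  obtain ⟨k3, hk3⟩ := hY2 ⟨x, hxY⟩
  have hk3' : x ^ 2 ^ k3 = 1 := by
    have := congrArg Subtype.val hk3
    simpa using this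
  exact eq_one_of_odd_of_two_pow hx hk3'

/-- Centralizers of involutions contain no non-identity element of odd order. -/
theorem invol_cent {H : Type*} [Group H] [Finite H] (hsol : Group.IsSolvable H)
    (hO : Cfsg.oddCore H = ⊥)
    (hI : ∀ t : H, orderOf t = 2 →
      Cfsg.HasNormalPComplement 2 ↥(Subgroup.centralizer ({t} : Set H)))
    (t x : H) (ht : orderOf t = 2) (hx : Odd (orderOf x)) (hxt : x * t = t * x) : x = 1 := by
  haveI hYn : (Cfsg.pCore 2 H).Normal := Helper1.pCore_normal 2 H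
  have hY2 : IsPGroup 2 ↥(Cfsg.pCore 2 H) := Helper1.pCore_isPGroup 2 H
  have ht1 : t ≠ 1 := by
    intro h; rw [h, orderOf_one] at ht; exact absurd ht (by norm_num)
  have hYne : Cfsg.pCore 2 H ≠ ⊥ := fun hb => ht1 (all_one_of_core_bot hsol hO hb t)
  have h2 : 2 ∣ Nat.card ↥(Cfsg.pCore 2 H) := by
    obtain ⟨n, hn⟩ := IsPGroup.iff_card.mp hY2
    have hn0 : n ≠ 0 := by
      rintro rfl
      rw [pow_zero] at hn
      exact hYne (Subgroup.card_eq_one.mp hn)
    rw [hn]; exact dvd_pow_self 2 hn0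
  have htp : IsPGroup 2 ↥(Subgroup.zpowers t) := by
    apply IsPGroup.of_card (n := 1)
    rw [Nat.card_zpowers, ht, pow_one]
  obtain ⟨T, hT⟩ := htp.exists_le_sylow
  obtain ⟨a, haT, haY, ha1, -, hac⟩ := exists_central_order_p T (Cfsg.pCore 2 H) h2
  have hat : a * t = t * a :=
    ((Subgroup.mem_centralizer_iff.mp hac) t (hT (Subgroup.mem_zpowers t))).symm
  have hxa : x * a = a * x := comm_of_invol hI t x a ht hx hxt haY hat
  exact key hsol hO hI x a hx haY ha1 hxa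

/-- The Sylow subgroups of `X` are cyclic. -/
theorem sylow_cyclic {H : Type*} [Group H] [Finite H] (hsol : Group.IsSolvable H)
    (hO : Cfsg.oddCore H = ⊥)
    (hI : ∀ t : H, orderOf t = 2 →
      Cfsg.HasNormalPComplement 2 ↥(Subgroup.centralizer ({t} : Set H)))
    (X : Subgroup H) (hXodd : Odd (Nat.card X)) (p : ℕ) [Fact p.Prime] (P : Sylow p ↥X) :
    IsCyclic ↥(P : Subgroup ↥X) := by
  classical
  haveI hYn : (Cfsg.pCore 2 H).Normal := Helper1.pCore_normal 2 H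
  have hPp : IsPGroup p ↥(P : Subgroup ↥X) := P.isPGroup'
  by_cases hYb : Cfsg.pCore 2 H = ⊥
  · have hall := all_one_of_core_bot hsol hO hYb
    haveI : Subsingleton ↥(P : Subgroup ↥X) :=
      ⟨fun a b => Subtype.ext (Subtype.ext ((hall _).trans (hall _).symm))⟩
    exact isCyclic_of_subsingleton
  by_cases hp2 : p = 2
  · subst hp2
    obtain ⟨n, hn⟩ := IsPGroup.iff_card.mp hPp
    have hdvd : Nat.card ↥(P : Subgroup ↥X) ∣ Nat.card ↥X := Subgroup.card_subgroup_dvd_card _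
    have hn0 : n = 0 := by
      by_contra h
      have h2 : 2 ∣ Nat.card ↥X := by
        refine Dvd.dvd.trans ?_ hdvd
        rw [hn]; exact dvd_pow_self 2 h
      exact (Nat.not_even_iff_odd.mpr hXodd) (even_iff_two_dvd.mpr h2)
    rw [hn0, pow_zero] at hn
    haveI : Subsingleton ↥(P : Subgroup ↥X) := (Nat.card_eq_one_iff_unique.mp hn).1
    exact isCyclic_of_subsingleton
  · have hinj : Function.Injective (X.subtype.comp (P : Subgroup ↥X).subtype) :=
      X.subtype_injective.comp (P : Subgroup ↥X).subtype_injective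
    have hfpf : ∀ h ∈ (P : Subgroup ↥X).map X.subtype, h ≠ 1 →
        Cfsg.pCore 2 H ⊓ Subgroup.centralizer {h} = ⊥ := by
      rintro _ ⟨y, -, rfl⟩ hy1
      rw [Subgroup.eq_bot_iff_forall]
      intro w hw
      obtain ⟨hwY, hwC⟩ := Subgroup.mem_inf.mp hw
      by_contra hw1
      have hcomm : (y : H) * w = w * (y : H) :=
        (Subgroup.mem_centralizer_iff.mp hwC) (y : H) (Set.mem_singleton _)
      have hodd : Odd (orderOf (y : H)) :=
        hXodd.of_dvd_nat (Subgroup.orderOf_dvd_natCard X y.2)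
      exact hy1 (key hsol hO hI (y : H) w hodd hwY hw1 hcomm)
    have huniq : ∀ A B : Subgroup ↥(P : Subgroup ↥X), Nat.card A = p → Nat.card B = p →
        A = B := by
      intro A B hA hB
      have hQ : IsPGroup p ↥((P : Subgroup ↥X).map X.subtype) := hPp.map X.subtype
      have hle : ∀ Z : Subgroup ↥(P : Subgroup ↥X),
          Z.map (X.subtype.comp (P : Subgroup ↥X).subtype) ≤
            (P : Subgroup ↥X).map X.subtype := by
        rintro Z _ ⟨y, -, rfl⟩
        exact ⟨(y : ↥X), y.2, rfl⟩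
      have h := Cfsg.Agent.S0040.core (Cfsg.pCore 2 H) hYb ((P : Subgroup ↥X).map X.subtype) hQ
        hfpf (A.map (X.subtype.comp (P : Subgroup ↥X).subtype))
        (B.map (X.subtype.comp (P : Subgroup ↥X).subtype)) (hle A) (hle B)
        (by rw [Subgroup.card_map_of_injective hinj]; exact hA)
        (by rw [Subgroup.card_map_of_injective hinj]; exact hB)
      exact Subgroup.map_injective hinj h
    exact isCyclic_of_unique_odd hp2 hPp huniq

/-- `O₂(H / O₂(H)) = 1`. -/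
theorem pCore_quot {H : Type*} [Group H] [Finite H] [hYn : (Cfsg.pCore 2 H).Normal] :
    Cfsg.pCore 2 (H ⧸ Cfsg.pCore 2 H) = ⊥ := by
  have hNn : (Cfsg.pCore 2 (H ⧸ Cfsg.pCore 2 H)).Normal := Helper1.pCore_normal 2 _
  have hN2 : IsPGroup 2 ↥(Cfsg.pCore 2 (H ⧸ Cfsg.pCore 2 H)) := Helper1.pCore_isPGroup 2 _
  have hY2 : IsPGroup 2 ↥(Cfsg.pCore 2 H) := Helper1.pCore_isPGroup 2 H
  have hcn : ((Cfsg.pCore 2 (H ⧸ Cfsg.pCore 2 H)).comap
      (QuotientGroup.mk' (Cfsg.pCore 2 H))).Normal := hNn.comap _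
  have hc2 : IsPGroup 2 ↥((Cfsg.pCore 2 (H ⧸ Cfsg.pCore 2 H)).comap
      (QuotientGroup.mk' (Cfsg.pCore 2 H))) := by
    intro g
    have hg : QuotientGroup.mk' (Cfsg.pCore 2 H) (g : H) ∈ Cfsg.pCore 2 (H ⧸ Cfsg.pCore 2 H) :=
      g.2
    obtain ⟨k, hk⟩ := hN2 ⟨_, hg⟩
    have hk' : (QuotientGroup.mk' (Cfsg.pCore 2 H) (g : H)) ^ 2 ^ k = 1 := by
      have := congrArg Subtype.val hk
      simpa using this
    rw [← map_pow] at hk'
    have hmem : (g : H) ^ 2 ^ k ∈ Cfsg.pCore 2 H := by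
      have h1 : (g : H) ^ 2 ^ k ∈ (QuotientGroup.mk' (Cfsg.pCore 2 H)).ker :=
        MonoidHom.mem_ker.mpr hk'
      rw [QuotientGroup.ker_mk'] at h1
      exact h1
    obtain ⟨j, hj⟩ := hY2 ⟨_, hmem⟩
    have hj' : ((g : H) ^ 2 ^ k) ^ 2 ^ j = 1 := by
      have := congrArg Subtype.val hj
      simpa using this
    refine ⟨k + j, Subtype.ext ?_⟩
    rw [Subgroup.coe_pow, pow_add, pow_mul, hj']
    rfl
  have hle := Helper1.le_pCore hcn hc2
  rw [Subgroup.eq_bot_iff_forall]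
  intro n hn
  obtain ⟨g, rfl⟩ := QuotientGroup.mk'_surjective (Cfsg.pCore 2 H) n
  have hgY : g ∈ Cfsg.pCore 2 H := hle hn
  have h1 : g ∈ (QuotientGroup.mk' (Cfsg.pCore 2 H)).ker := by
    rw [QuotientGroup.ker_mk']; exact hgY
  exact MonoidHom.mem_ker.mp h1

/-- No non-identity element of the image of `X` commutes with an involution of the quotient. -/
theorem no_fix {H K : Type*} [Group H] [Finite H] [Group K] (π : H →* K)
    (hπ : Function.Surjective π) (hker : IsPGroup 2 ↥π.ker)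
    (hC : ∀ t x : H, orderOf t = 2 → Odd (orderOf x) → x * t = t * x → x = 1)
    (X : Subgroup H) (hXodd : Odd (Nat.card X))
    (u : K) (hu1 : u ≠ 1) (hu2 : u ^ 2 = 1) (c : K) (hc : c ∈ X.map π)
    (huc : u * c = c * u) : c = 1 := by
  classical
  by_contra hc1
  obtain ⟨x₀, hx₀X, rfl⟩ := hc
  have hord : orderOf (π x₀) ≠ 1 := fun h => hc1 (orderOf_eq_one_iff.mp h)
  obtain ⟨p, hp, hpd⟩ := Nat.exists_prime_and_dvd hord
  haveI : Fact p.Prime := ⟨hp⟩
  have hn0 : orderOf x₀ ≠ 0 := (orderOf_pos x₀).ne'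
  obtain ⟨e, m, hpm, hnm⟩ := Nat.exists_eq_pow_mul_and_not_dvd hn0 p hp.ne_one
  have hxpe : (x₀ ^ m) ^ p ^ e = 1 := by
    rw [← pow_mul, mul_comm, ← hnm, pow_orderOf_eq_one]
  have hπx1 : π (x₀ ^ m) ≠ 1 := by
    intro h
    rw [map_pow] at h
    exact hpm (hpd.trans (orderOf_dvd_of_pow_eq_one h))
  have hxX : x₀ ^ m ∈ X := X.pow_mem hx₀X m
  have hxodd : Odd (orderOf (x₀ ^ m)) :=
    hXodd.of_dvd_nat (Subgroup.orderOf_dvd_natCard X hxX)
  have huc' : Commute u (π x₀) := huc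
  have hux : u * π (x₀ ^ m) = π (x₀ ^ m) * u := by
    rw [map_pow]
    exact (huc'.pow_right m).eq
  have hp2 : p ≠ 2 := by
    rintro rfl
    have h1 : orderOf (π x₀) ∣ orderOf x₀ := orderOf_map_dvd π x₀
    have h2 : 2 ∣ Nat.card ↥X := (hpd.trans h1).trans (Subgroup.orderOf_dvd_natCard X hx₀X)
    exact (Nat.not_even_iff_odd.mpr hXodd) (even_iff_two_dvd.mpr h2)
  obtain ⟨x, hx⟩ : ∃ x : H, x = x₀ ^ m := ⟨_, rfl⟩
  rw [← hx] at hxpe hπx1 hxodd hux
  obtain ⟨u₀, rfl⟩ := hπ u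
  have hxS : ∀ s : H, π s = π u₀ → π (x * s * x⁻¹) = π u₀ := by
    intro s hs
    rw [map_mul, map_mul, map_inv, hs, ← hux, mul_inv_cancel_right]
  have hxS' : ∀ s : H, π s = π u₀ → π (x⁻¹ * s * x) = π u₀ := by
    intro s hs
    rw [map_mul, map_mul, map_inv, hs, mul_assoc, hux, inv_mul_cancel_left]
  let σ : Equiv.Perm {h : H // π h = π u₀} :=
    { toFun := fun s => ⟨x * s.1 * x⁻¹, hxS s.1 s.2⟩
      invFun := fun s => ⟨x⁻¹ * s.1 * x, hxS' s.1 s.2⟩
      left_inv := fun s => Subtype.ext (by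
        show x⁻¹ * (x * s.1 * x⁻¹) * x = s.1
        group)
      right_inv := fun s => Subtype.ext (by
        show x * (x⁻¹ * s.1 * x) * x⁻¹ = s.1
        group) }
  have hσapp : ∀ s : {h : H // π h = π u₀}, ((σ s : {h : H // π h = π u₀}) : H) =
      x * s.1 * x⁻¹ := fun s => rfl
  have hσpow : ∀ (n : ℕ) (s : {h : H // π h = π u₀}),
      (((σ ^ n) s : {h : H // π h = π u₀}) : H) = x ^ n * s.1 * (x ^ n)⁻¹ := by
    intro n
    induction n with
    | zero => intro s; simp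
    | succ n ih =>
      intro s
      rw [pow_succ', Equiv.Perm.mul_apply, hσapp, ih s, pow_succ']
      simp only [mul_inv_rev, mul_assoc]
  have hσ1 : σ ^ p ^ e = 1 := by
    refine Equiv.ext fun s => Subtype.ext ?_
    rw [hσpow, hxpe]
    simp
  have hcardS : Nat.card {h : H // π h = π u₀} = Nat.card ↥π.ker := by
    apply Nat.card_congr
    exact
      { toFun := fun s => ⟨u₀⁻¹ * s.1, MonoidHom.mem_ker.mpr (by
            rw [map_mul, map_inv, s.2, inv_mul_cancel])⟩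
        invFun := fun y => ⟨u₀ * y.1, by
            rw [map_mul, MonoidHom.mem_ker.mp y.2, mul_one]⟩
        left_inv := fun s => Subtype.ext (by simp)
        right_inv := fun y => Subtype.ext (by simp) }
  haveI : Fintype {h : H // π h = π u₀} := Fintype.ofFinite _
  have hndvd : ¬ p ∣ Fintype.card {h : H // π h = π u₀} := by
    rw [← Nat.card_eq_fintype_card, hcardS]
    obtain ⟨j, hj⟩ := IsPGroup.iff_card.mp hker
    rw [hj]
    intro hdvd
    exact hp2 ((Nat.prime_dvd_prime_iff_eq hp Nat.prime_two).mp (hp.dvd_of_dvd_pow hdvd))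
  obtain ⟨s, hs⟩ := Equiv.Perm.exists_fixed_point_of_prime (p := p) (n := e) hndvd hσ1
  have hs' : x * s.1 * x⁻¹ = s.1 := by
    have := congrArg Subtype.val hs
    rw [hσapp] at this
    exact this
  have hcomm : Commute x s.1 := mul_inv_eq_iff_eq_mul.mp hs'
  obtain ⟨k, m', hm', hn'⟩ := Nat.exists_eq_two_pow_mul_odd (orderOf_pos s.1).ne'
  have hpow : (s.1 ^ m') ^ 2 ^ k = 1 := by
    rw [← pow_mul, mul_comm, ← hn', pow_orderOf_eq_one]
  have hπs : π (s.1 ^ m') = π u₀ := by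
    obtain ⟨j, rfl⟩ := hm'
    rw [map_pow, s.2, pow_succ, pow_mul, hu2, one_pow, one_mul]
  have hs1 : s.1 ^ m' ≠ 1 := by
    intro h
    rw [h, map_one] at hπs
    exact hu1 hπs.symm
  obtain ⟨i, hi1, hi2⟩ := exists_pow_order_p (p := 2) hs1 hpow
  have hto : orderOf ((s.1 ^ m') ^ i) = 2 := orderOf_eq_prime hi2 hi1
  have hxt : x * (s.1 ^ m') ^ i = (s.1 ^ m') ^ i * x := ((hcomm.pow_right m').pow_right i).eq
  have hx1 : x = 1 := hC _ x hto hxodd hxt
  rw [hx1, map_one] at hπx1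
  exact hπx1 rfl

/-- The structure of the quotient. -/
theorem quot_main {H K : Type*} [Group H] [Finite H] [Group K] (π : H →* K)
    (hπ : Function.Surjective π) [Group.IsSolvable K]
    (Y : Subgroup H) (hkerY : π.ker = Y) (hY2 : IsPGroup 2 ↥Y)
    (hQ1 : Cfsg.pCore 2 K = ⊥)
    (hC : ∀ t x : H, orderOf t = 2 → Odd (orderOf x) → x * t = t * x → x = 1)
    (X : Subgroup H) (hXodd : Odd (Nat.card X)) (hXidx : ∃ k : ℕ, X.index = 2 ^ k)
    [hZ : IsZGroup ↥X] :
    (X ⊔ Y).Normal ∧ ∀ hN : (X ⊔ Y).Normal,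
      IsCyclic (H ⧸ (X ⊔ Y)) ∧ IsPGroup 2 (H ⧸ (X ⊔ Y)) := by
  classical
  haveI : Finite K := Finite.of_surjective π hπ
  have hker : IsPGroup 2 ↥π.ker := by rw [hkerY]; exact hY2
  obtain ⟨k, hk⟩ := hXidx
  have hXbodd : Odd (Nat.card ↥(X.map π)) := hXodd.of_dvd_nat (Subgroup.card_map_dvd X π)
  have hXbcop : (Nat.card ↥(X.map π)).Coprime 2 :=
    (Nat.coprime_comm.mp (Nat.coprime_two_left.mpr hXbodd))
  have hXbidx : (X.map π).index ∣ 2 ^ k := hk ▸ Subgroup.index_map_dvd X hπ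
  haveI hFn : (Cfsg.fittingSubgroup K).Normal := Helper1.fitting_normal K
  have hFodd : (Nat.card ↥(Cfsg.fittingSubgroup K)).Coprime 2 := by
    have hle : Cfsg.fittingSubgroup K ≤ Cfsg.oddCore K := by
      rw [Helper1.fitting_eq_iSup_primes]
      refine iSup_le fun q => ?_
      by_cases hq2 : (q : ℕ) = 2
      · rw [hq2, hQ1]; exact bot_le
      · haveI : Fact (q : ℕ).Prime := ⟨q.2⟩
        apply Helper16.le_oddCore (Helper1.pCore_normal _ _)
        obtain ⟨n, hn⟩ := IsPGroup.iff_card.mp (Helper1.pCore_isPGroup (q : ℕ) K)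
        rw [hn]
        exact Nat.Coprime.pow_left n ((Nat.coprime_primes q.2 Nat.prime_two).mpr hq2)
    exact Nat.Coprime.coprime_dvd_left (Subgroup.card_dvd_of_le hle) Helper16.oddCore_coprime
  have hFX : Cfsg.fittingSubgroup K ≤ X.map π := by
    have h1 : (Nat.card ↥(X.map π ⊔ Cfsg.fittingSubgroup K)).Coprime 2 :=
      Helper16.coprime_card_sup' 2 (X.map π) (Cfsg.fittingSubgroup K) hXbcop hFodd
    have h2 : (X.map π).relIndex (X.map π ⊔ Cfsg.fittingSubgroup K) ∣ (X.map π).index :=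
      Dvd.intro _ (Subgroup.relIndex_mul_index le_sup_left)
    have h3 : (X.map π).relIndex (X.map π ⊔ Cfsg.fittingSubgroup K) ∣
        Nat.card ↥(X.map π ⊔ Cfsg.fittingSubgroup K) := Subgroup.relIndex_dvd_card _ _
    have h4 : (X.map π).relIndex (X.map π ⊔ Cfsg.fittingSubgroup K) = 1 := by
      obtain ⟨j, -, hj⟩ := (Nat.dvd_prime_pow Nat.prime_two).mp (h2.trans hXbidx)
      have h6 : ((X.map π).relIndex (X.map π ⊔ Cfsg.fittingSubgroup K)).Coprime 2 :=
        Nat.Coprime.coprime_dvd_left h3 h1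
      rw [hj] at h6 ⊢
      by_contra hne
      have hj0 : j ≠ 0 := by
        rintro rfl
        exact hne (pow_zero 2)
      have h7 : (2 : ℕ) ∣ Nat.gcd (2 ^ j) 2 := Nat.dvd_gcd (dvd_pow_self 2 hj0) dvd_rfl
      rw [Nat.Coprime] at h6
      rw [h6] at h7
      exact absurd h7 (by norm_num)
    exact le_sup_right.trans (Subgroup.relIndex_eq_one.mp h4)
  haveI hZXb : IsZGroup ↥(X.map π) :=
    IsZGroup.of_surjective (f := π.subgroupMap X) (π.subgroupMap_surjective X)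
  haveI hZF : IsZGroup ↥(Cfsg.fittingSubgroup K) :=
    IsZGroup.of_injective (f := Subgroup.inclusion hFX) (Subgroup.inclusion_injective hFX)
  haveI hFnil : Group.IsNilpotent ↥(Cfsg.fittingSubgroup K) := Helper1.fitting_isNilpotent
  haveI hFcyc : IsCyclic ↥(Cfsg.fittingSubgroup K) := inferInstance
  have hFcomm : ∀ a ∈ Cfsg.fittingSubgroup K, ∀ b ∈ Cfsg.fittingSubgroup K, a * b = b * a :=
    fun a ha b hb => congrArg Subtype.val
      (cyc_comm' (⟨a, ha⟩ : ↥(Cfsg.fittingSubgroup K)) ⟨b, hb⟩)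
  have hCF : Subgroup.centralizer (Cfsg.fittingSubgroup K : Set K) ≤ Cfsg.fittingSubgroup K :=
    Cfsg.Agent.S0044.result
  have hcomm : ∀ a b : K, ⁅a, b⁆ ∈ Cfsg.fittingSubgroup K := by
    intro a b
    apply hCF
    rw [Subgroup.mem_centralizer_iff]
    intro f hf
    exact (comm_centralizes_cyc (Cfsg.fittingSubgroup K) a b f hf).symm
  have hXbn : (X.map π).Normal := by
    constructor
    intro n hn g
    have h1 : g * n * g⁻¹ = ⁅g, n⁆ * n := by
      rw [commutatorElement_def]; group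
    rw [h1]
    exact (X.map π).mul_mem (hFX (hcomm g n)) hn
  have hW : X ⊔ Y = (X.map π).comap π := by
    rw [Subgroup.comap_map_eq, hkerY]
  have hmemW : ∀ g : H, g ∈ X ⊔ Y ↔ π g ∈ X.map π := fun g => by
    rw [hW, Subgroup.mem_comap]
  have hWn : (X ⊔ Y).Normal := by
    rw [hW]; exact hXbn.comap π
  -- involutions of K invert F
  have hinv : ∀ u : K, u ≠ 1 → u ^ 2 = 1 → ∀ f ∈ Cfsg.fittingSubgroup K,
      u * f * u⁻¹ = f⁻¹ := by
    intro u hu1 hu2 f hf
    have hu2' : u * u = 1 := by rw [← pow_two]; exact hu2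
    have huinv : u⁻¹ = u := inv_eq_of_mul_eq_one_left hu2'
    have hf' : u * f * u⁻¹ ∈ Cfsg.fittingSubgroup K := hFn.conj_mem f hf u
    have hcomm1 : f * (u * f * u⁻¹) = (u * f * u⁻¹) * f := hFcomm f hf _ hf'
    have hfix : u * (f * (u * f * u⁻¹)) = (f * (u * f * u⁻¹)) * u := by
      calc u * (f * (u * f * u⁻¹)) = u * ((u * f * u⁻¹) * f) := by rw [hcomm1]
        _ = (u * u) * f * u⁻¹ * f := by group
        _ = f * u⁻¹ * f := by rw [hu2', one_mul]
        _ = f * u * f := by rw [huinv]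
        _ = f * (u * f * u⁻¹) * u := by group
    have h1 := no_fix π hπ hker hC X hXodd u hu1 hu2 (f * (u * f * u⁻¹))
      (hFX ((Cfsg.fittingSubgroup K).mul_mem hf hf')) hfix
    exact eq_inv_of_mul_eq_one_right h1
  refine ⟨hWn, fun hN => ?_⟩
  have hidx : ∃ j, (X ⊔ Y).index = 2 ^ j := by
    have h1 : (X ⊔ Y).index ∣ 2 ^ k := hk ▸ Subgroup.index_dvd_of_le le_sup_left
    obtain ⟨j, -, hj⟩ := (Nat.dvd_prime_pow Nat.prime_two).mp h1
    exact ⟨j, hj⟩
  have hP2 : IsPGroup 2 (H ⧸ (X ⊔ Y)) := by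
    obtain ⟨j, hj⟩ := hidx
    apply IsPGroup.of_card (n := j)
    rw [← Subgroup.index_eq_card, hj]
  have hcommQ : ∀ a b : H ⧸ (X ⊔ Y), a * b = b * a := by
    intro a b
    obtain ⟨a, rfl⟩ := QuotientGroup.mk_surjective a
    obtain ⟨b, rfl⟩ := QuotientGroup.mk_surjective b
    rw [← QuotientGroup.mk_mul, ← QuotientGroup.mk_mul, QuotientGroup.eq]
    have e : (a * b)⁻¹ * (b * a) = ⁅b⁻¹, a⁻¹⁆ := by
      rw [commutatorElement_def]; group
    rw [e, hmemW, map_commutatorElement]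
    exact hFX (hcomm _ _)
  have hrep : ∀ a : H ⧸ (X ⊔ Y), a ≠ 1 → a ^ 2 = 1 →
      ∃ u : H, (QuotientGroup.mk u : H ⧸ (X ⊔ Y)) = a ∧ π u ≠ 1 ∧ (π u) ^ 2 = 1 := by
    intro a ha1 ha2
    obtain ⟨a₀, rfl⟩ := QuotientGroup.mk_surjective a
    obtain ⟨k', m, hm, hn⟩ := Nat.exists_eq_two_pow_mul_odd (orderOf_pos a₀).ne'
    have hpow : (a₀ ^ m) ^ 2 ^ k' = 1 := by
      rw [← pow_mul, mul_comm, ← hn, pow_orderOf_eq_one]
    have hmk : (QuotientGroup.mk (a₀ ^ m) : H ⧸ (X ⊔ Y)) = QuotientGroup.mk a₀ := by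
      obtain ⟨j, rfl⟩ := hm
      rw [QuotientGroup.mk_pow, pow_succ, pow_mul, ha2, one_pow, one_mul]
    refine ⟨a₀ ^ m, hmk, ?_, ?_⟩
    · intro h
      have hY' : a₀ ^ m ∈ Y := by rw [← hkerY]; exact MonoidHom.mem_ker.mpr h
      have h1 : (QuotientGroup.mk (a₀ ^ m) : H ⧸ (X ⊔ Y)) = 1 :=
        (QuotientGroup.eq_one_iff _).mpr ((le_sup_right : Y ≤ X ⊔ Y) hY')
      rw [hmk] at h1
      exact ha1 h1
    · have h1 : a₀ ^ m * a₀ ^ m ∈ X ⊔ Y := by
        rw [← QuotientGroup.eq_one_iff, QuotientGroup.mk_mul, hmk, ← pow_two]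
        exact ha2
      have h2 : π (a₀ ^ m) ^ 2 ∈ X.map π := by
        rw [pow_two, ← map_mul]; exact (hmemW _).mp h1
      have h3' : π (a₀ ^ m) ^ 2 ^ k' = 1 := by rw [← map_pow, hpow, map_one]
      have h3 : (π (a₀ ^ m) ^ 2) ^ 2 ^ k' = 1 := by
        rw [← pow_mul, mul_comm, pow_mul, h3', one_pow]
      have h4 : Odd (orderOf (π (a₀ ^ m) ^ 2)) :=
        hXbodd.of_dvd_nat (Subgroup.orderOf_dvd_natCard (X.map π) h2)
      exact eq_one_of_odd_of_two_pow h4 h3
  have hinvol : ∀ a b : H ⧸ (X ⊔ Y), a ≠ 1 → a ^ 2 = 1 → b ≠ 1 → b ^ 2 = 1 → a = b := by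
    intro a b ha1 ha2 hb1 hb2
    obtain ⟨u, rfl, hu1, hu2⟩ := hrep a ha1 ha2
    obtain ⟨v, rfl, hv1, hv2⟩ := hrep b hb1 hb2
    have hcz : π u * π v ∈ Subgroup.centralizer (Cfsg.fittingSubgroup K : Set K) := by
      rw [Subgroup.mem_centralizer_iff]
      intro f hf
      have h1 := hinv (π u) hu1 hu2 f hf
      have h2 := hinv (π v) hv1 hv2 f hf
      have h3 : π u * π v * f * (π u * π v)⁻¹ = f := by
        calc π u * π v * f * (π u * π v)⁻¹ = π u * (π v * f * (π v)⁻¹) * (π u)⁻¹ := by group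
          _ = π u * f⁻¹ * (π u)⁻¹ := by rw [h2]
          _ = (π u * f * (π u)⁻¹)⁻¹ := by group
          _ = f := by rw [h1, inv_inv]
      exact (mul_inv_eq_iff_eq_mul.mp h3).symm
    have h5 : π (u * v) ∈ X.map π := by rw [map_mul]; exact hFX (hCF hcz)
    have h6 : (QuotientGroup.mk (u * v) : H ⧸ (X ⊔ Y)) = 1 :=
      (QuotientGroup.eq_one_iff _).mpr ((hmemW _).mpr h5)
    rw [QuotientGroup.mk_mul] at h6
    have h7 : (QuotientGroup.mk u : H ⧸ (X ⊔ Y)) = (QuotientGroup.mk v)⁻¹ :=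
      eq_inv_of_mul_eq_one_left h6
    rw [h7, inv_eq_iff_eq_inv, eq_inv_iff_mul_eq_one, ← pow_two]
    exact hb2
  have huniq : ∀ A B : Subgroup (H ⧸ (X ⊔ Y)), Nat.card A = 2 → Nat.card B = 2 → A = B := by
    have hsub : ∀ A B : Subgroup (H ⧸ (X ⊔ Y)), Nat.card A = 2 → Nat.card B = 2 → A ≤ B := by
      intro A B hA hB g hg
      by_cases hg1 : g = 1
      · rw [hg1]; exact B.one_mem
      · have hg2 : g ^ 2 = 1 := by
          have h1 := pow_card_eq_one' (G := ↥A) (x := ⟨g, hg⟩)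
          rw [hA] at h1
          have := congrArg Subtype.val h1
          simpa using this
        haveI : Nontrivial ↥B := by
          apply (Finite.one_lt_card_iff_nontrivial).mp
          rw [hB]; norm_num
        obtain ⟨b, hb⟩ := exists_ne (1 : ↥B)
        have hb2 : (b : H ⧸ (X ⊔ Y)) ^ 2 = 1 := by
          have h1 := pow_card_eq_one' (G := ↥B) (x := b)
          rw [hB] at h1
          have := congrArg Subtype.val h1
          simpa using this
        have h3 := hinvol g b hg1 hg2 (fun h => hb (Subtype.ext h)) hb2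
        rw [h3]; exact b.2
    intro A B hA hB
    exact le_antisymm (hsub A B hA hB) (hsub B A hB hA)
  exact ⟨isCyclic_of_comm_of_unique hP2 hcommQ huniq, hP2⟩

/-- Let H be a finite solvable group with no nontrivial normal subgroup of odd order in which the centralizer of every involution has a normal 2-complement. Let X be a Hall 2'-subgroup of H (odd order, index a power of 2) and Y = O₂(H). Then no non-identity element of X commutes with a non-identity element of Y (so for X ≠ 1 the group XY is a Frobenius group with kernel Y), every Sylow subgroup of X is cyclic, XY is normal in H, and H/XY is a cyclic 2-group. -/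
theorem result {H : Type*} [Group H] [Finite H] (hsol : Group.IsSolvable H)
    (hO : Cfsg.oddCore H = ⊥)
    (hI : ∀ t : H, orderOf t = 2 → Cfsg.HasNormalPComplement 2 ↥(Subgroup.centralizer ({t} : Set H)))
    (X : Subgroup H) (hXodd : Odd (Nat.card X)) (hXidx : ∃ k : ℕ, X.index = 2 ^ k) :
    (∀ x ∈ X, x ≠ 1 → ∀ y ∈ Cfsg.pCore 2 H, y ≠ 1 → x * y ≠ y * x) ∧
      (∀ (p : ℕ) [Fact p.Prime] (P : Sylow p ↥X), IsCyclic ↥(P : Subgroup ↥X)) ∧
      (X ⊔ Cfsg.pCore 2 H).Normal ∧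
      ∀ hN : (X ⊔ Cfsg.pCore 2 H).Normal, IsCyclic (H ⧸ (X ⊔ Cfsg.pCore 2 H)) ∧ IsPGroup 2 (H ⧸ (X ⊔ Cfsg.pCore 2 H)) := by
  haveI hYn : (Cfsg.pCore 2 H).Normal := Helper1.pCore_normal 2 H
  refine ⟨?_, ?_, ?_⟩
  · intro x hx hx1 y hy hy1 hxy
    exact hx1 (key hsol hO hI x y
      (hXodd.of_dvd_nat (Subgroup.orderOf_dvd_natCard X hx)) hy hy1 hxy)
  · intro p _ P
    exact sylow_cyclic hsol hO hI X hXodd p P
  · haveI : IsZGroup ↥X := ⟨fun p hp P => by
      haveI : Fact p.Prime := ⟨hp⟩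
      exact sylow_cyclic hsol hO hI X hXodd p P⟩
    haveI := hsol
    haveI : Group.IsSolvable (H ⧸ Cfsg.pCore 2 H) := inferInstance
    exact quot_main (QuotientGroup.mk' (Cfsg.pCore 2 H)) (QuotientGroup.mk'_surjective _)
      (Cfsg.pCore 2 H) (QuotientGroup.ker_mk' _) (Helper1.pCore_isPGroup 2 H) pCore_quot
      (fun t x ht hx hxt => invol_cent hsol hO hI t x ht hx hxt) X hXodd hXidx

end Cfsg.Agent.S3215
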