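-- Statement S2879: solvable group with dihedral / semidihedral Sylow 2-subgroup, O(G) = 1,
-- Z(T) normal, G ≠ T  ==>  G has a normal subgroup isomorphic to SL₂(3).
import Cfsg.Statements.S2879
import Mathlib
import Cfsg.Agent.Helper8.TwoLocal
import Cfsg.Agent.Helper6.FusSimple
import Cfsg.Agent.Helper16.SL23
import Cfsg.Agent.Helper16.OddCore
import Cfsg.Agent.S3215

set_option autoImplicit false
open Cfsg

namespace Cfsg.Agent.S2879

theorem ord_conj {G : Type*} [Group G] (g a : G) : orderOf (g * a * g⁻¹) = orderOf a := by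
  have e : g * a * g⁻¹ = MulAut.conj g a := by simp [MulAut.conj_apply]
  rw [e, (MulAut.conj g).orderOf_eq a]

theorem exists_pow_of_mem_zpowers {G : Type*} [Group G] [Finite G] {x y : G}
    (h : y ∈ Subgroup.zpowers x) : ∃ i : ℕ, x ^ i = y :=
  (Submonoid.mem_powers_iff _ _).mp (mem_powers_iff_mem_zpowers.mpr h)

/-- In a subgroup of index at most two, the product of two outside elements is inside. -/
theorem idx2 {G : Type*} [Group G] [Finite G] (Q A : Subgroup G) (hAQ : A ≤ Q)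
    (hcard : Nat.card Q ≤ 2 * Nat.card A) {x y : G} (hx : x ∈ Q) (hy : y ∈ Q)
    (hxA : x ∉ A) (hyA : y ∉ A) : x * y ∈ A := by
  have h1 : Nat.card Q = Nat.card A * A.relIndex Q := Helper8.card_eq_card_mul_relIndex hAQ
  have hpos : 0 < Nat.card A := Nat.card_pos
  have hrel : A.relIndex Q ≤ 2 := by
    by_contra hcon
    push Not at hcon
    have h3 : Nat.card A * 3 ≤ Nat.card A * A.relIndex Q := Nat.mul_le_mul_left _ hcon
    rw [h1] at hcard
    linarith
  have hne1 : (A.subgroupOf Q).index ≠ 1 := by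
    intro h
    rw [Subgroup.index_eq_one] at h
    have h2 : (⟨x, hx⟩ : Q) ∈ A.subgroupOf Q := by rw [h]; exact Subgroup.mem_top _
    exact hxA (Subgroup.mem_subgroupOf.mp h2)
  have hne0 : (A.subgroupOf Q).index ≠ 0 := Subgroup.index_ne_zero_of_finite
  have hidx : (A.subgroupOf Q).index = A.relIndex Q := rfl
  have h2 : (A.subgroupOf Q).index = 2 := by omega
  have h3 : (⟨x, hx⟩ : Q) * ⟨y, hy⟩ ∈ A.subgroupOf Q :=
    (Subgroup.mul_mem_iff_of_index_two h2).mpr
      ⟨fun h => absurd (Subgroup.mem_subgroupOf.mp h) hxA,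
       fun h => absurd (Subgroup.mem_subgroupOf.mp h) hyA⟩
  exact Subgroup.mem_subgroupOf.mp h3

theorem norm2 {G : Type*} [Group G] [Finite G] (Q A : Subgroup G) (hAQ : A ≤ Q)
    (hcard : Nat.card Q ≤ 2 * Nat.card A) {q x : G} (hq : q ∈ Q) (hx : x ∈ A) :
    q * x * q⁻¹ ∈ A := by
  by_cases hqA : q ∈ A
  · exact A.mul_mem (A.mul_mem hqA hx) (A.inv_mem hqA)
  · by_contra hcon
    have h1 : q * x * q⁻¹ * q ∈ A :=
      idx2 Q A hAQ hcard (Q.mul_mem (Q.mul_mem hq (hAQ hx)) (Q.inv_mem hq)) hq hcon hqA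
    have h2 : q * x * q⁻¹ * q = q * x := by group
    rw [h2] at h1
    have h3 : q = q * x * x⁻¹ := by group
    exact hqA (by rw [h3]; exact A.mul_mem h1 (A.inv_mem hx))

theorem par {G : Type*} [Group G] [Finite G] (Q : Subgroup G) {x y : G} (hxQ : x ∈ Q)
    (hyQ : y ∈ Q) (hcard : Nat.card Q ≤ 2 * orderOf y) (hx : x ∉ Subgroup.zpowers y) :
    ∀ i : ℕ, x ^ i ∈ Subgroup.zpowers y ↔ Even i := by
  have hYQ : Subgroup.zpowers y ≤ Q := by rw [Subgroup.zpowers_le]; exact hyQ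
  have hc : Nat.card Q ≤ 2 * Nat.card (Subgroup.zpowers y) := by
    rw [Nat.card_zpowers]; exact hcard
  intro i
  induction i with
  | zero => simp
  | succ i ih =>
    rw [Nat.even_add_one, ← ih, pow_succ]
    constructor
    · intro h1 h2
      apply hx
      have e : x = (x ^ i)⁻¹ * (x ^ i * x) := by group
      rw [e]
      exact Subgroup.mul_mem _ (Subgroup.inv_mem _ h2) h1
    · intro h1
      exact idx2 Q _ hYQ hc (Q.pow_mem hxQ i) hxQ h1 hx

theorem not_mem_symm {G : Type*} [Group G] [Finite G] {x y : G} (ho : orderOf x = orderOf y)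
    (h : y ∉ Subgroup.zpowers x) : x ∉ Subgroup.zpowers y := by
  intro hx
  apply h
  have hle : Subgroup.zpowers x ≤ Subgroup.zpowers y := by rw [Subgroup.zpowers_le]; exact hx
  have heq : Subgroup.zpowers x = Subgroup.zpowers y := by
    apply Subgroup.eq_of_le_of_card_ge hle
    exact le_of_eq (by rw [Nat.card_zpowers, Nat.card_zpowers, ho])
  rw [heq]; exact Subgroup.mem_zpowers y

theorem form {G : Type*} [Group G] [Finite G] (Q : Subgroup G) {a b : G} (haQ : a ∈ Q)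
    (hbQ : b ∈ Q) (hcard : Nat.card Q ≤ 2 * orderOf a) (hbA : b ∉ Subgroup.zpowers a) :
    ∀ q ∈ Q, ∃ j : ℤ, q = a ^ j ∨ q = a ^ j * b := by
  intro q hq
  have hAQ : Subgroup.zpowers a ≤ Q := by rw [Subgroup.zpowers_le]; exact haQ
  have hc : Nat.card Q ≤ 2 * Nat.card (Subgroup.zpowers a) := by
    rw [Nat.card_zpowers]; exact hcard
  by_cases hqA : q ∈ Subgroup.zpowers a
  · obtain ⟨j, hj⟩ := Subgroup.mem_zpowers_iff.mp hqA
    exact ⟨j, Or.inl hj.symm⟩
  · have hbiA : b⁻¹ ∉ Subgroup.zpowers a := fun h => hbA (by simpa using Subgroup.inv_mem _ h)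
    have h1 : q * b⁻¹ ∈ Subgroup.zpowers a := idx2 Q _ hAQ hc hq (Q.inv_mem hbQ) hqA hbiA
    obtain ⟨j, hj⟩ := Subgroup.mem_zpowers_iff.mp h1
    exact ⟨j, Or.inr (by rw [hj]; group)⟩

theorem comm_all {G : Type*} [Group G] [Finite G] (Q : Subgroup G) {a b : G} (haQ : a ∈ Q)
    (hbQ : b ∈ Q) (hcard : Nat.card Q ≤ 2 * orderOf a) (hbA : b ∉ Subgroup.zpowers a) {u : G}
    (hua : Commute u a) (hub : Commute u b) : u ∈ Subgroup.centralizer (Q : Set G) := by
  rw [Subgroup.mem_centralizer_iff]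
  intro q hq
  obtain ⟨j, hj | hj⟩ := form Q haQ hbQ hcard hbA q hq
  · rw [hj]; exact (hua.zpow_right j).eq.symm
  · rw [hj]; exact ((hua.zpow_right j).mul_right hub).eq.symm

theorem pow_cases {G : Type*} [Group G] [Finite G] {x w : G} (hx : orderOf x = 4)
    (hw : orderOf w = 4) (h : w ∈ Subgroup.zpowers x) : w = x ∨ w = x ^ 3 := by
  obtain ⟨i, hi⟩ := exists_pow_of_mem_zpowers h
  have hx4 : x ^ 4 = 1 := by rw [← hx]; exact pow_orderOf_eq_one x
  have h1 : w = x ^ (i % 4) := by rw [← hi, ← hx, pow_mod_orderOf]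
  have h2 : i % 4 = 0 ∨ i % 4 = 1 ∨ i % 4 = 2 ∨ i % 4 = 3 := by omega
  rcases h2 with h | h | h | h
  · exfalso
    rw [h, pow_zero] at h1
    rw [h1, orderOf_one] at hw
    norm_num at hw
  · left; rw [h1, h, pow_one]
  · exfalso
    rw [h] at h1
    have h3 : w ^ 2 = 1 := by
      rw [h1, ← pow_mul]; exact hx4
    have h4 : orderOf w ∣ 2 := orderOf_dvd_of_pow_eq_one h3
    rw [hw] at h4
    norm_num at h4
  · right; rw [h1, h]

/-- An element of odd order cannot normalize a cyclic subgroup of index at most two. -/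
theorem moved {G : Type*} [Group G] [Finite G] (Q : Subgroup G) [hQn : Q.Normal]
    (hQ2 : IsPGroup 2 Q) (hcent : Subgroup.centralizer (Q : Set G) ≤ Q)
    (a : G) (haQ : a ∈ Q) (hcard : Nat.card Q ≤ 2 * orderOf a)
    (g : G) (hg : Odd (orderOf g)) (hg1 : g ≠ 1) : g * a * g⁻¹ ∉ Subgroup.zpowers a := by
  intro hmem
  obtain ⟨m, hm⟩ : ∃ m, orderOf a = 2 ^ m := by
    obtain ⟨m, hm⟩ := IsPGroup.iff_orderOf.mp hQ2 ⟨a, haQ⟩
    exact ⟨m, by rw [← hm, Subgroup.orderOf_mk]⟩
  have hga : g * a * g⁻¹ = a := Helper6.FS.odd_cent_cyclic hg hm hmem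
  have hcomm : Commute g a := by
    show g * a = a * g
    calc g * a = g * a * g⁻¹ * g := by group
      _ = a * g := by rw [hga]
  have hAQ : Subgroup.zpowers a ≤ Q := by rw [Subgroup.zpowers_le]; exact haQ
  have hc : Nat.card Q ≤ 2 * Nat.card (Subgroup.zpowers a) := by
    rw [Nat.card_zpowers]; exact hcard
  have hcA : ∀ d ∈ Subgroup.zpowers a, Commute g d := by
    intro d hd
    obtain ⟨j, hj⟩ := Subgroup.mem_zpowers_iff.mp hd
    rw [← hj]
    exact hcomm.zpow_right j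
  have hgC : g ∈ Subgroup.centralizer (Q : Set G) := by
    rw [Subgroup.mem_centralizer_iff]
    intro q hq
    by_cases hqA : q ∈ Subgroup.zpowers a
    · exact (hcA q hqA).eq.symm
    · have hq'Q : g * q * g⁻¹ ∈ Q := hQn.conj_mem q hq g
      have hq'A : g * q * g⁻¹ ∉ Subgroup.zpowers a := by
        intro h
        apply hqA
        have h1 : Commute g (g * q * g⁻¹) := hcA _ h
        have h2 : g * q * g⁻¹ = q := by
          have h3 : g * (g * q * g⁻¹) = g * q := by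
            rw [h1.eq]; group
          exact mul_left_cancel h3
        rw [← h2]; exact h
      have hd : q⁻¹ * (g * q * g⁻¹) ∈ Subgroup.zpowers a :=
        idx2 Q _ hAQ hc (Q.inv_mem hq) hq'Q
          (fun h => hqA (by simpa using Subgroup.inv_mem _ h)) hq'A
      obtain ⟨d, hd_def⟩ : ∃ d, d = q⁻¹ * (g * q * g⁻¹) := ⟨_, rfl⟩
      rw [← hd_def] at hd
      have hgd : Commute g d := hcA d hd
      have hconj : g * q * g⁻¹ = q * d := by rw [hd_def]; group
      have hit : ∀ j : ℕ, g ^ j * q * (g ^ j)⁻¹ = q * d ^ j := by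
        intro j
        induction j with
        | zero => simp
        | succ j ih =>
          have e : g ^ (j + 1) * q * (g ^ (j + 1))⁻¹ = g * (g ^ j * q * (g ^ j)⁻¹) * g⁻¹ := by
            rw [pow_succ']; group
          rw [e, ih]
          have h5 : g * d ^ j * g⁻¹ = d ^ j := by
            rw [(hgd.pow_right j).eq, mul_inv_cancel_right]
          calc g * (q * d ^ j) * g⁻¹ = (g * q * g⁻¹) * (g * d ^ j * g⁻¹) := by group
            _ = q * d * d ^ j := by rw [hconj, h5]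
            _ = q * d ^ (j + 1) := by rw [pow_succ', mul_assoc]
      have h6 := hit (orderOf g)
      rw [pow_orderOf_eq_one] at h6
      have h7 : d ^ orderOf g = 1 := by
        have h8 : q * d ^ orderOf g = q * 1 := by rw [← h6]; group
        exact mul_left_cancel h8
      obtain ⟨e, he⟩ := hQ2 ⟨d, hAQ hd⟩
      have he' : d ^ 2 ^ e = 1 := by simpa using congrArg Subtype.val he
      have hd1 : d = 1 := by
        have h8 : orderOf d ∣ Nat.gcd (orderOf g) (2 ^ e) :=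
          Nat.dvd_gcd (orderOf_dvd_of_pow_eq_one h7) (orderOf_dvd_of_pow_eq_one he')
        have h9 : Nat.gcd (orderOf g) (2 ^ e) = 1 :=
          Nat.Coprime.pow_right e (Nat.coprime_two_right.2 hg)
        rw [h9] at h8
        exact orderOf_eq_one_iff.mp (Nat.dvd_one.mp h8)
      rw [hd1, mul_one] at hconj
      calc q * g = g * q * g⁻¹ * g := by rw [hconj]
        _ = g * q := by group
  have hgQ : g ∈ Q := hcent hgC
  obtain ⟨e, he⟩ := hQ2 ⟨g, hgQ⟩
  have he' : g ^ 2 ^ e = 1 := by simpa using congrArg Subtype.val he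
  exact hg1 (S3215.eq_one_of_odd_of_two_pow hg he')

/-- The main structural analysis: `Q` is a quaternion group of order 8 on which `g` acts as
an automorphism of order 3. -/
theorem analysis {G : Type*} [Group G] [Finite G] (Q : Subgroup G) [hQn : Q.Normal]
    (hQ2 : IsPGroup 2 Q) (hcent : Subgroup.centralizer (Q : Set G) ≤ Q)
    (a : G) (haQ : a ∈ Q) (hcard : Nat.card Q ≤ 2 * orderOf a)
    (g : G) (hg : Odd (orderOf g)) (hg1 : g ≠ 1)
    (Z : Subgroup G) [hZn : Z.Normal] (hZQ : Z ≤ Q) (hZ1 : Z ≠ ⊥)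
    (hZc : 4 < Nat.card (Subgroup.centralizer (Z : Set G))) :
    orderOf a = 4 ∧ g * a * g⁻¹ ∉ Subgroup.zpowers a ∧
    (g * a * g⁻¹) * (g * a * g⁻¹) = a * a ∧
    (g * a * g⁻¹) * a = a ^ 3 * (g * a * g⁻¹) ∧
    (g * (g * a * g⁻¹) * g⁻¹ = a * (g * a * g⁻¹) ∨
      g * (g * a * g⁻¹) * g⁻¹ = a ^ 3 * (g * a * g⁻¹)) ∧
    (∀ q ∈ Q, q ∈ Subgroup.zpowers a ∨ q ∈ Subgroup.zpowers (g * a * g⁻¹) ∨
        q ∈ Subgroup.zpowers (g * (g * a * g⁻¹) * g⁻¹)) ∧
    g ^ 3 = 1 ∧ g * (g * (g * a * g⁻¹) * g⁻¹) * g⁻¹ = a := by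
  classical
  obtain ⟨b, hb⟩ : ∃ b, b = g * a * g⁻¹ := ⟨_, rfl⟩
  rw [← hb]
  obtain ⟨c, hc⟩ : ∃ c, c = g * b * g⁻¹ := ⟨_, rfl⟩
  rw [← hc]
  have hbQ : b ∈ Q := by rw [hb]; exact hQn.conj_mem a haQ g
  have hcQ : c ∈ Q := by rw [hc]; exact hQn.conj_mem b hbQ g
  have hob : orderOf b = orderOf a := by rw [hb]; exact ord_conj g a
  have hoc : orderOf c = orderOf a := by rw [hc, ord_conj g b, hob]
  have hcardb : Nat.card Q ≤ 2 * orderOf b := by rw [hob]; exact hcard
  have hcardc : Nat.card Q ≤ 2 * orderOf c := by rw [hoc]; exact hcard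
  obtain ⟨m, hm⟩ : ∃ m, orderOf a = 2 ^ m := by
    obtain ⟨m, hm⟩ := IsPGroup.iff_orderOf.mp hQ2 ⟨a, haQ⟩
    exact ⟨m, by rw [← hm, Subgroup.orderOf_mk]⟩
  have hg2o : orderOf (g ^ 2) = orderOf g :=
    Nat.Coprime.orderOf_pow (Nat.coprime_two_right.2 hg)
  have hg2 : Odd (orderOf (g ^ 2)) := by rw [hg2o]; exact hg
  have hg21 : g ^ 2 ≠ 1 := by
    intro h
    have h1 : orderOf (g ^ 2) = 1 := by rw [h, orderOf_one]
    rw [hg2o] at h1
    exact hg1 (orderOf_eq_one_iff.mp h1)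
  have hc2 : c = g ^ 2 * a * (g ^ 2)⁻¹ := by
    rw [hc, hb, pow_two]; simp only [mul_inv_rev, mul_assoc]
  have hbA : b ∉ Subgroup.zpowers a := by
    rw [hb]; exact moved Q hQ2 hcent a haQ hcard g hg hg1
  have hcB : c ∉ Subgroup.zpowers b := by
    rw [hc]; exact moved Q hQ2 hcent b hbQ hcardb g hg hg1
  have hcA : c ∉ Subgroup.zpowers a := by
    rw [hc2]; exact moved Q hQ2 hcent a haQ hcard (g ^ 2) hg2 hg21
  have haB : a ∉ Subgroup.zpowers b := not_mem_symm hob.symm hbA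
  have hbC : b ∉ Subgroup.zpowers c := not_mem_symm (hob.trans hoc.symm) hcB
  have haC : a ∉ Subgroup.zpowers c := not_mem_symm hoc.symm hcA
  have hAQ : Subgroup.zpowers a ≤ Q := by rw [Subgroup.zpowers_le]; exact haQ
  have hBQ : Subgroup.zpowers b ≤ Q := by rw [Subgroup.zpowers_le]; exact hbQ
  have hCQ : Subgroup.zpowers c ≤ Q := by rw [Subgroup.zpowers_le]; exact hcQ
  have hcA' : Nat.card Q ≤ 2 * Nat.card (Subgroup.zpowers a) := by
    rw [Nat.card_zpowers]; exact hcard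
  have hcB' : Nat.card Q ≤ 2 * Nat.card (Subgroup.zpowers b) := by
    rw [Nat.card_zpowers]; exact hcardb
  have paB := par Q haQ hbQ hcardb haB
  have paC := par Q haQ hcQ hcardc haC
  have pbA := par Q hbQ haQ hcard hbA
  have pcA := par Q hcQ haQ hcard hcA
  -- Q is the union of the three cyclic subgroups
  have hun : ∀ q ∈ Q, q ∈ Subgroup.zpowers a ∨ q ∈ Subgroup.zpowers b ∨
      q ∈ Subgroup.zpowers c := by
    intro q hq
    by_cases hqA : q ∈ Subgroup.zpowers a
    · exact Or.inl hqA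
    by_cases hqB : q ∈ Subgroup.zpowers b
    · exact Or.inr (Or.inl hqB)
    right; right
    have hciA : c⁻¹ ∉ Subgroup.zpowers a := fun h => hcA (by simpa using Subgroup.inv_mem _ h)
    have hciB : c⁻¹ ∉ Subgroup.zpowers b := fun h => hcB (by simpa using Subgroup.inv_mem _ h)
    have h1 : c⁻¹ * q ∈ Subgroup.zpowers a := idx2 Q _ hAQ hcA' (Q.inv_mem hcQ) hq hciA hqA
    have h2 : c⁻¹ * q ∈ Subgroup.zpowers b := idx2 Q _ hBQ hcB' (Q.inv_mem hcQ) hq hciB hqB
    obtain ⟨i, hi⟩ := exists_pow_of_mem_zpowers h1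
    rw [← hi] at h2
    have h3 : a ^ i ∈ Subgroup.zpowers c := (paC i).mpr ((paB i).mp h2)
    rw [hi] at h3
    have e1 : q = c * (c⁻¹ * q) := by group
    rw [e1]
    exact Subgroup.mul_mem _ (Subgroup.mem_zpowers c) h3
  have ha1 : a ≠ 1 := by
    intro h
    apply hbA
    rw [hb, h]; simp
  -- b * b = a₁ * a₁ with a₁ a power of a
  have hbbA : b * b ∈ Subgroup.zpowers a := idx2 Q _ hAQ hcA' hbQ hbQ hbA hbA
  obtain ⟨i0, hi0⟩ := exists_pow_of_mem_zpowers hbbA
  have hi0e : Even i0 := by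
    apply (paB i0).mp
    rw [hi0]
    exact Subgroup.mul_mem _ (Subgroup.mem_zpowers b) (Subgroup.mem_zpowers b)
  obtain ⟨t, ht⟩ := hi0e
  obtain ⟨a₁, ha₁⟩ : ∃ a₁, a₁ = a ^ t := ⟨_, rfl⟩
  have ha₁A : a₁ ∈ Subgroup.zpowers a := by
    rw [ha₁]; exact Subgroup.pow_mem _ (Subgroup.mem_zpowers a) t
  have hbb : b * b = a₁ * a₁ := by rw [← hi0, ht, pow_add, ha₁]
  have ha₁Q : a₁ ∈ Q := hAQ ha₁A
  obtain ⟨k, hk⟩ : ∃ k, k = a₁⁻¹ * b * a₁ * b⁻¹ := ⟨_, rfl⟩
  have hkA : k ∈ Subgroup.zpowers a := by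
    have h1 : b * a₁ * b⁻¹ ∈ Subgroup.zpowers a := norm2 Q _ hAQ hcA' hbQ ha₁A
    have e1 : k = a₁⁻¹ * (b * a₁ * b⁻¹) := by rw [hk]; group
    rw [e1]; exact Subgroup.mul_mem _ (Subgroup.inv_mem _ ha₁A) h1
  have hkB : k ∈ Subgroup.zpowers b := by
    have h1 : a₁⁻¹ * b * a₁⁻¹⁻¹ ∈ Subgroup.zpowers b :=
      norm2 Q _ hBQ hcB' (Q.inv_mem ha₁Q) (Subgroup.mem_zpowers b)
    rw [inv_inv] at h1
    rw [hk]; exact Subgroup.mul_mem _ h1 (Subgroup.inv_mem _ (Subgroup.mem_zpowers b))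
  have hkb : Commute k b := by
    obtain ⟨j, hj⟩ := Subgroup.mem_zpowers_iff.mp hkB
    rw [← hj]
    exact (Commute.refl b).zpow_left j
  obtain ⟨ee, hee_def⟩ : ∃ ee, ee = b * a₁⁻¹ := ⟨_, rfl⟩
  have heQ : ee ∈ Q := by rw [hee_def]; exact Q.mul_mem hbQ (Q.inv_mem ha₁Q)
  have heA : ee ∉ Subgroup.zpowers a := by
    intro h
    apply hbA
    have e1 : b = ee * a₁ := by rw [hee_def]; group
    rw [e1]; exact Subgroup.mul_mem _ h ha₁A
  have hee : ee * ee = k := by
    have h1 : ee * ee = b * k * b⁻¹ * ((b * b) * (a₁ * a₁)⁻¹) := by rw [hee_def, hk]; group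
    rw [h1, hbb, mul_inv_cancel, mul_one, ← hkb.eq, mul_inv_cancel_right]
  have hkk : k * k = 1 := by
    have h2 : b⁻¹ * k * b = k := by rw [mul_assoc, hkb.eq, inv_mul_cancel_left]
    have h3 : k * k = a₁⁻¹ * b * a₁ * (b * b)⁻¹ * a₁⁻¹ * b * a₁ := by
      calc k * k = k * (b⁻¹ * k * b) := by rw [h2]
        _ = a₁⁻¹ * b * a₁ * (b * b)⁻¹ * a₁⁻¹ * b * a₁ := by rw [hk]; group
    rw [h3, hbb]
    have h5 : a₁⁻¹ * b * a₁ * (a₁ * a₁)⁻¹ * a₁⁻¹ * b * a₁ =
        a₁⁻¹ * b * (a₁ * a₁)⁻¹ * b * a₁ := by group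
    rw [h5, ← hbb]
    group
  have he4 : ee ^ 4 = 1 := by
    have h1 : ee ^ 4 = (ee * ee) * (ee * ee) := by
      simp only [pow_succ, pow_zero, one_mul, mul_assoc]
    rw [h1, hee, hkk]
  have hdvd4 : orderOf a ∣ 4 := by
    have key : ∀ y : G, orderOf y = orderOf a →
        (∀ j : ℕ, y ^ j ∈ Subgroup.zpowers a ↔ Even j) →
        ee ∈ Subgroup.zpowers y → orderOf a ∣ 4 := by
      intro y hoy hpar hey
      obtain ⟨j, hj⟩ := exists_pow_of_mem_zpowers hey
      have hjodd : ¬ Even j := fun h => heA (by rw [← hj]; exact (hpar j).mpr h)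
      have h1 : y ^ (j * 4) = 1 := by rw [pow_mul, hj, he4]
      have h2 : orderOf y ∣ j * 4 := orderOf_dvd_of_pow_eq_one h1
      rw [hoy, hm] at h2
      rw [hm]
      have hcop : Nat.Coprime (2 ^ m) j := by
        apply Nat.Coprime.pow_left
        rw [Nat.coprime_two_left]
        exact Nat.not_even_iff_odd.mp hjodd
      exact hcop.dvd_of_dvd_mul_left h2
    rcases hun ee heQ with h | h | h
    · exact absurd h heA
    · exact key b hob pbA h
    · exact key c hoc pcA h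
  have hm12 : m = 1 ∨ m = 2 := by
    rw [hm] at hdvd4
    have h1 : m ≤ 2 := by
      by_contra hcon
      push Not at hcon
      have h2 : 2 ^ 3 ∣ 2 ^ m := pow_dvd_pow 2 hcon
      have h3 : (2 : ℕ) ^ 3 ∣ 4 := h2.trans hdvd4
      norm_num at h3
    have h0 : m ≠ 0 := by
      intro h0
      rw [h0, pow_zero] at hm
      exact ha1 (orderOf_eq_one_iff.mp hm)
    omega
  have ho4 : orderOf a = 4 := by
    rcases hm12 with h | h
    · exfalso
      rw [h, pow_one] at hm
      have hel : ∀ y : G, orderOf y = 2 → ∀ z ∈ Subgroup.zpowers y, z = 1 ∨ z = y := by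
        intro y hy z hz
        obtain ⟨j, hj⟩ := exists_pow_of_mem_zpowers hz
        have h1 : z = y ^ (j % 2) := by rw [← hj, ← hy, pow_mod_orderOf]
        have h2 : j % 2 = 0 ∨ j % 2 = 1 := by omega
        rcases h2 with h | h
        · left; rw [h1, h, pow_zero]
        · right; rw [h1, h, pow_one]
      have hex : ∃ z ∈ Z, z ≠ 1 := by
        by_contra hcon
        push Not at hcon
        exact hZ1 ((Subgroup.eq_bot_iff_forall Z).mpr hcon)
      obtain ⟨z, hzZ, hz1⟩ := hex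
      have hconj : ∀ y ∈ Z, g * y * g⁻¹ ∈ Z := fun y hy => hZn.conj_mem y hy g
      have hconj' : ∀ y ∈ Z, g⁻¹ * y * g ∈ Z := fun y hy => by
        have h1 := hZn.conj_mem y hy g⁻¹
        rwa [inv_inv] at h1
      have hab : a = g⁻¹ * b * g := by rw [hb]; group
      have hbc : b = g⁻¹ * c * g := by rw [hc]; group
      have habcZ : a ∈ Z ∧ b ∈ Z ∧ c ∈ Z := by
        rcases hun z (hZQ hzZ) with h | h | h
        · rcases hel a hm z h with h1 | h1
          · exact absurd h1 hz1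
          · have haZ : a ∈ Z := h1 ▸ hzZ
            have hbZ : b ∈ Z := by rw [hb]; exact hconj a haZ
            exact ⟨haZ, hbZ, by rw [hc]; exact hconj b hbZ⟩
        · rcases hel b (hob.trans hm) z h with h1 | h1
          · exact absurd h1 hz1
          · have hbZ : b ∈ Z := h1 ▸ hzZ
            exact ⟨by rw [hab]; exact hconj' b hbZ, hbZ, by rw [hc]; exact hconj b hbZ⟩
        · rcases hel c (hoc.trans hm) z h with h1 | h1
          · exact absurd h1 hz1
          · have hcZ : c ∈ Z := h1 ▸ hzZ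
            have hbZ : b ∈ Z := by rw [hbc]; exact hconj' c hcZ
            exact ⟨by rw [hab]; exact hconj' b hbZ, hbZ, hcZ⟩
      obtain ⟨haZ, hbZ, hcZ⟩ := habcZ
      have hQZ : Q ≤ Z := by
        intro q hq
        rcases hun q hq with h | h | h
        · exact (Subgroup.zpowers_le.mpr haZ) h
        · exact (Subgroup.zpowers_le.mpr hbZ) h
        · exact (Subgroup.zpowers_le.mpr hcZ) h
      have h1 : Subgroup.centralizer (Z : Set G) ≤ Q :=
        (Subgroup.centralizer_le (SetLike.coe_subset_coe.mpr hQZ)).trans hcent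
      have h2 : Nat.card (Subgroup.centralizer (Z : Set G)) ≤ Nat.card Q :=
        Subgroup.card_le_of_le h1
      rw [hm] at hcard
      omega
    · rw [h] at hm; norm_num at hm; exact hm
  have ha4 : a ^ 4 = 1 := by rw [← ho4]; exact pow_orderOf_eq_one a
  have hb4o : orderOf b = 4 := hob.trans ho4
  have hc4o : orderOf c = 4 := hoc.trans ho4
  have hamod : ∀ i : ℕ, a ^ i = a ^ (i % 4) := by
    intro i
    conv_lhs => rw [← pow_mod_orderOf, ho4]
  have hR2 : b * b = a * a := by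
    have h1 : i0 % 4 = 0 ∨ i0 % 4 = 2 := by omega
    have h2 : b * b = a ^ (i0 % 4) := by rw [← hamod, hi0]
    rcases h1 with h | h
    · exfalso
      rw [h, pow_zero] at h2
      have h3 : orderOf b ∣ 2 := orderOf_dvd_of_pow_eq_one (by rw [pow_two]; exact h2)
      rw [hb4o] at h3
      norm_num at h3
    · rw [h2, h, pow_two]
  have hR3 : b * a = a ^ 3 * b := by
    have h1 : b * a * b⁻¹ ∈ Subgroup.zpowers a :=
      norm2 Q _ hAQ hcA' hbQ (Subgroup.mem_zpowers a)
    obtain ⟨i, hi⟩ := exists_pow_of_mem_zpowers h1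
    have hnB : a ^ i ∉ Subgroup.zpowers b := by
      rw [hi]
      intro h
      apply haB
      have e1 : a = b⁻¹ * (b * a * b⁻¹) * b := by group
      rw [e1]
      exact Subgroup.mul_mem _ (Subgroup.mul_mem _
        (Subgroup.inv_mem _ (Subgroup.mem_zpowers b)) h) (Subgroup.mem_zpowers b)
    have hodd : ¬ Even i := fun h => hnB ((paB i).mpr h)
    have h2 : i % 4 = 1 ∨ i % 4 = 3 := by
      obtain ⟨s, hs⟩ := Nat.not_even_iff_odd.mp hodd
      omega
    have h3 : b * a * b⁻¹ = a ^ (i % 4) := by rw [← hamod, hi]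
    rcases h2 with h | h
    · exfalso
      rw [h, pow_one] at h3
      have hcomm : b * a = a * b := by
        calc b * a = b * a * b⁻¹ * b := by group
          _ = a * b := by rw [h3]
      have he2Q : a * b⁻¹ ∈ Q := Q.mul_mem haQ (Q.inv_mem hbQ)
      have he2A : a * b⁻¹ ∉ Subgroup.zpowers a := by
        intro hh
        apply hbA
        have e1 : b = (a * b⁻¹)⁻¹ * a := by group
        rw [e1]; exact Subgroup.mul_mem _ (Subgroup.inv_mem _ hh) (Subgroup.mem_zpowers a)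
      have he2B : a * b⁻¹ ∉ Subgroup.zpowers b := by
        intro hh
        apply haB
        have e1 : a = a * b⁻¹ * b := by group
        rw [e1]; exact Subgroup.mul_mem _ hh (Subgroup.mem_zpowers b)
      have hsq : (a * b⁻¹) * (a * b⁻¹) = 1 := by
        have e1 : (a * b⁻¹) * (a * b⁻¹) = a * (b⁻¹ * a) * b⁻¹ := by group
        have e2 : b⁻¹ * a = a * b⁻¹ := by
          calc b⁻¹ * a = b⁻¹ * (a * b) * b⁻¹ := by group
            _ = b⁻¹ * (b * a) * b⁻¹ := by rw [hcomm]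
            _ = a * b⁻¹ := by group
        rw [e1, e2]
        have e3 : a * (a * b⁻¹) * b⁻¹ = (a * a) * (b * b)⁻¹ := by group
        rw [e3, hR2, mul_inv_cancel]
      rcases hun _ he2Q with hh | hh | hh
      · exact he2A hh
      · exact he2B hh
      · obtain ⟨j, hj⟩ := exists_pow_of_mem_zpowers hh
        have hjodd : ¬ Even j := fun h' => he2A (by rw [← hj]; exact (pcA j).mpr h')
        have h5 : c ^ (j * 2) = 1 := by rw [pow_mul, hj, pow_two, hsq]
        have h6 : orderOf c ∣ j * 2 := orderOf_dvd_of_pow_eq_one h5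
        rw [hc4o] at h6
        apply hjodd
        obtain ⟨s, hs⟩ := h6
        exact ⟨s, by omega⟩
    · rw [h] at h3
      calc b * a = b * a * b⁻¹ * b := by group
        _ = a ^ 3 * b := by rw [h3]
  have hR5 : c = a * b ∨ c = a ^ 3 * b := by
    have hbiA : b⁻¹ ∉ Subgroup.zpowers a := fun h => hbA (by simpa using Subgroup.inv_mem _ h)
    have h1 : c * b⁻¹ ∈ Subgroup.zpowers a := idx2 Q _ hAQ hcA' hcQ (Q.inv_mem hbQ) hcA hbiA
    obtain ⟨i, hi⟩ := exists_pow_of_mem_zpowers h1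
    have h2 : c = a ^ (i % 4) * b := by
      rw [← hamod, hi]; group
    have hnB : ¬ Even i := by
      intro hev
      apply hcB
      have h3 : a ^ i ∈ Subgroup.zpowers b := (paB i).mpr hev
      rw [hi] at h3
      have e1 : c = c * b⁻¹ * b := by group
      rw [e1]; exact Subgroup.mul_mem _ h3 (Subgroup.mem_zpowers b)
    have h4 : i % 4 = 1 ∨ i % 4 = 3 := by
      obtain ⟨s, hs⟩ := Nat.not_even_iff_odd.mp hnB
      omega
    rcases h4 with h | h
    · left; rw [h2, h, pow_one]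
    · right; rw [h2, h]
  have hgc : g * c * g⁻¹ = a := by
    have hmemQ : g * c * g⁻¹ ∈ Q := hQn.conj_mem c hcQ g
    have hnC : g * c * g⁻¹ ∉ Subgroup.zpowers c := moved Q hQ2 hcent c hcQ hcardc g hg hg1
    have hnB : g * c * g⁻¹ ∉ Subgroup.zpowers b := by
      intro h
      obtain ⟨j, hj⟩ := exists_pow_of_mem_zpowers h
      apply hcA
      have e1 : c = g⁻¹ * (g * c * g⁻¹) * g := by group
      have e2 : g⁻¹ * b ^ j * g = a ^ j := by
        rw [hb, conj_pow]; group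
      rw [e1, ← hj, e2]
      exact Subgroup.pow_mem _ (Subgroup.mem_zpowers a) j
    have hA : g * c * g⁻¹ ∈ Subgroup.zpowers a := by
      rcases hun _ hmemQ with h | h | h
      · exact h
      · exact absurd h hnB
      · exact absurd h hnC
    have e3 : g ^ 3 * a * (g ^ 3)⁻¹ = g * c * g⁻¹ := by
        rw [hc, hb]; simp only [pow_succ, pow_zero, one_mul, mul_inv_rev, mul_assoc]
    have hg3odd : Odd (orderOf (g ^ 3)) := Odd.of_dvd_nat hg (orderOf_pow_dvd 3)
    have h5 : g ^ 3 * a * (g ^ 3)⁻¹ ∈ Subgroup.zpowers a := by rw [e3]; exact hA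
    have h6 := Helper6.FS.odd_cent_cyclic hg3odd hm h5
    rw [← e3]; exact h6
  have hg3 : g ^ 3 = 1 := by
    have h3a : g ^ 3 * a * (g ^ 3)⁻¹ = a := by
      have e3 : g ^ 3 * a * (g ^ 3)⁻¹ = g * c * g⁻¹ := by
        rw [hc, hb]; simp only [pow_succ, pow_zero, one_mul, mul_inv_rev, mul_assoc]
      rw [e3, hgc]
    have h3b : g ^ 3 * b * (g ^ 3)⁻¹ = b := by
      have e4 : g ^ 3 * b * (g ^ 3)⁻¹ = g * (g ^ 3 * a * (g ^ 3)⁻¹) * g⁻¹ := by
        rw [hb]; group
      rw [e4, h3a, hb]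
    have hca : Commute (g ^ 3) a := by
      show g ^ 3 * a = a * g ^ 3
      calc g ^ 3 * a = g ^ 3 * a * (g ^ 3)⁻¹ * g ^ 3 := by group
        _ = a * g ^ 3 := by rw [h3a]
    have hcb : Commute (g ^ 3) b := by
      show g ^ 3 * b = b * g ^ 3
      calc g ^ 3 * b = g ^ 3 * b * (g ^ 3)⁻¹ * g ^ 3 := by group
        _ = b * g ^ 3 := by rw [h3b]
    have hQm : g ^ 3 ∈ Q := hcent (comm_all Q haQ hbQ hcard hbA hca hcb)
    obtain ⟨e', he'⟩ := hQ2 ⟨g ^ 3, hQm⟩
    have he'' : (g ^ 3) ^ 2 ^ e' = 1 := by simpa using congrArg Subtype.val he'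
    exact S3215.eq_one_of_odd_of_two_pow (Odd.of_dvd_nat hg (orderOf_pow_dvd 3)) he''
  exact ⟨ho4, hbA, hR2, hR3, hR5, hun, hg3, hgc⟩


theorem conj_mem_zpowers {G : Type*} [Group G] {x y w v : G} (h : w * x * w⁻¹ = y)
    (hv : v ∈ Subgroup.zpowers x) : w * v * w⁻¹ ∈ Subgroup.zpowers y := by
  obtain ⟨i, hi⟩ := Subgroup.mem_zpowers_iff.mp hv
  rw [← hi, ← conj_zpow, h]
  exact Subgroup.zpow_mem _ (Subgroup.mem_zpowers y) i

theorem pow9 {G : Type*} [Group G] {a : G} (h : a ^ 4 = 1) : a ^ 9 = a := by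
  have e : a ^ 9 = a ^ 4 * a ^ 4 * a := by
    simp only [pow_succ, pow_zero, one_mul, mul_assoc]
  rw [e, h, one_mul, one_mul]

/-- If `g` acts on the quaternion group in the "positive" orientation, `Q⟨g⟩ ≅ SL₂(3)` is
normal. -/
theorem good {G : Type*} [Group G] [Finite G] (Q : Subgroup G) [hQn : Q.Normal]
    (hQ2 : IsPGroup 2 Q) (hcent : Subgroup.centralizer (Q : Set G) ≤ Q)
    (a : G) (haQ : a ∈ Q) (hcard : Nat.card Q ≤ 2 * orderOf a)
    (g : G) (hg : Odd (orderOf g)) (hg1 : g ≠ 1)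
    (Z : Subgroup G) [hZn : Z.Normal] (hZQ : Z ≤ Q) (hZ1 : Z ≠ ⊥)
    (hZc : 4 < Nat.card (Subgroup.centralizer (Z : Set G)))
    (hgood : g * (g * a * g⁻¹) * g⁻¹ = a * (g * a * g⁻¹)) :
    ∃ U : Subgroup G, U.Normal ∧
      Nonempty (↥U ≃* Matrix.SpecialLinearGroup (Fin 2) (ZMod 3)) := by
  classical
  obtain ⟨ho4, hbA, hR2, hR3, -, hun, hg3, hgc⟩ :=
    analysis Q hQ2 hcent a haQ hcard g hg hg1 Z hZQ hZ1 hZc
  obtain ⟨b, hb⟩ : ∃ b, b = g * a * g⁻¹ := ⟨_, rfl⟩
  rw [← hb] at hbA hR2 hR3 hun hgc hgood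
  obtain ⟨c, hc⟩ : ∃ c, c = g * b * g⁻¹ := ⟨_, rfl⟩
  rw [← hc] at hun hgc hgood
  have ha4 : a ^ 4 = 1 := by rw [← ho4]; exact pow_orderOf_eq_one a
  have hbQ : b ∈ Q := by rw [hb]; exact hQn.conj_mem a haQ g
  have hcQ : c ∈ Q := by rw [hc]; exact hQn.conj_mem b hbQ g
  have hob : orderOf b = 4 := by rw [hb, ord_conj, ho4]
  have hoc : orderOf c = 4 := by rw [hc, ord_conj, hob]
  have hb4 : b ^ 4 = 1 := by rw [← hob]; exact pow_orderOf_eq_one b
  have hcardb : Nat.card Q ≤ 2 * orderOf b := by rw [hob, ← ho4]; exact hcard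
  have hainv : a⁻¹ = a ^ 3 := by
    apply inv_eq_of_mul_eq_one_right
    rw [← pow_succ']; exact ha4
  have hbinv : b⁻¹ = b ^ 3 := by
    apply inv_eq_of_mul_eq_one_right
    rw [← pow_succ']; exact hb4
  have hbab : b * a * b⁻¹ = a ^ 3 := by rw [hR3, mul_inv_cancel_right]
  have h_i : b * a ^ 3 * b⁻¹ = a := by
    rw [← conj_pow, hbab, ← pow_mul]
    exact pow9 ha4
  have haba : a * b * a⁻¹ = b⁻¹ := by
    have h1 : b * a = a⁻¹ * b := by rw [hR3, hainv]
    have h2 : a * b = b * a⁻¹ := by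
      calc a * b = a * (b * a) * a⁻¹ := by group
        _ = a * (a⁻¹ * b) * a⁻¹ := by rw [h1]
        _ = b * a⁻¹ := by group
    have h3 : a⁻¹ * a⁻¹ = b⁻¹ * b⁻¹ := by
      have h4 : (a * a)⁻¹ = (b * b)⁻¹ := by rw [hR2]
      simpa [mul_inv_rev] using h4
    calc a * b * a⁻¹ = b * a⁻¹ * a⁻¹ := by rw [h2]
      _ = b * (a⁻¹ * a⁻¹) := by rw [mul_assoc]
      _ = b * (b⁻¹ * b⁻¹) := by rw [h3]
      _ = b⁻¹ := by group
  have h_ii : a * b ^ 3 * a⁻¹ = b := by
    rw [← conj_pow, haba, inv_pow, ← hbinv, inv_inv]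
  have hcen : ∀ u : G, u * a * u⁻¹ = a → u * b * u⁻¹ = b → u ∈ Q := by
    intro u h1 h2
    have hca : Commute u a := by
      show u * a = a * u
      calc u * a = u * a * u⁻¹ * u := by group
        _ = a * u := by rw [h1]
    have hcb : Commute u b := by
      show u * b = b * u
      calc u * b = u * b * u⁻¹ * u := by group
        _ = b * u := by rw [h2]
    exact hcent (comm_all Q haQ hbQ hcard hbA hca hcb)
  have hKER : ∀ u : G, u * a * u⁻¹ ∈ Subgroup.zpowers a →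
      u * b * u⁻¹ ∈ Subgroup.zpowers b → u ∈ Q := by
    intro u h1 h2
    have o1 : orderOf (u * a * u⁻¹) = 4 := by rw [ord_conj, ho4]
    have o2 : orderOf (u * b * u⁻¹) = 4 := by rw [ord_conj, hob]
    rcases pow_cases ho4 o1 h1 with e1 | e1 <;> rcases pow_cases hob o2 h2 with e2 | e2
    · exact hcen u e1 e2
    · have h3 : a * u ∈ Q := by
        apply hcen
        · calc a * u * a * (a * u)⁻¹ = a * (u * a * u⁻¹) * a⁻¹ := by group
            _ = a := by rw [e1, mul_inv_cancel_right]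
        · calc a * u * b * (a * u)⁻¹ = a * (u * b * u⁻¹) * a⁻¹ := by group
            _ = b := by rw [e2, h_ii]
      have e : u = a⁻¹ * (a * u) := by group
      rw [e]; exact Q.mul_mem (Q.inv_mem haQ) h3
    · have h3 : b * u ∈ Q := by
        apply hcen
        · calc b * u * a * (b * u)⁻¹ = b * (u * a * u⁻¹) * b⁻¹ := by group
            _ = a := by rw [e1, h_i]
        · calc b * u * b * (b * u)⁻¹ = b * (u * b * u⁻¹) * b⁻¹ := by group
            _ = b := by rw [e2, mul_inv_cancel_right]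
      have e : u = b⁻¹ * (b * u) := by group
      rw [e]; exact Q.mul_mem (Q.inv_mem hbQ) h3
    · have h3 : a * b * u ∈ Q := by
        apply hcen
        · calc a * b * u * a * (a * b * u)⁻¹ = a * (b * (u * a * u⁻¹) * b⁻¹) * a⁻¹ := by group
            _ = a := by rw [e1, h_i, mul_inv_cancel_right]
        · calc a * b * u * b * (a * b * u)⁻¹ = a * (b * (u * b * u⁻¹) * b⁻¹) * a⁻¹ := by group
            _ = b := by
              rw [e2]
              have e5 : b * b ^ 3 * b⁻¹ = b ^ 3 := by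
                rw [(Commute.pow_right (Commute.refl b) 3).eq, mul_inv_cancel_right]
              rw [e5, h_ii]
      have e : u = (a * b)⁻¹ * (a * b * u) := by group
      rw [e]; exact Q.mul_mem (Q.inv_mem (Q.mul_mem haQ hbQ)) h3
  obtain ⟨U, hU⟩ : ∃ U : Subgroup G, U = Subgroup.closure {a, b, g} := ⟨_, rfl⟩
  have haU : a ∈ U := by rw [hU]; exact Subgroup.subset_closure (by simp)
  have hbU : b ∈ U := by rw [hU]; exact Subgroup.subset_closure (by simp)
  have hgU : g ∈ U := by rw [hU]; exact Subgroup.subset_closure (by simp)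
  have hQU : Q ≤ U := by
    intro q hq
    obtain ⟨j, hj | hj⟩ := form Q haQ hbQ hcard hbA q hq
    · rw [hj]; exact U.zpow_mem haU j
    · rw [hj]; exact U.mul_mem (U.zpow_mem haU j) hbU
  have hnorm_g : ∀ h : G, h * g * h⁻¹ ∈ U := by
    intro h
    obtain ⟨g', hg'⟩ : ∃ g', g' = h * g * h⁻¹ := ⟨_, rfl⟩
    rw [← hg']
    have hg'odd : Odd (orderOf g') := by rw [hg', ord_conj]; exact hg
    have hg'1 : g' ≠ 1 := by
      intro h1
      apply hg1
      rw [hg'] at h1
      have e : g = h⁻¹ * (h * g * h⁻¹) * h := by group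
      rw [e, h1]; group
    have hnA : g' * a * g'⁻¹ ∉ Subgroup.zpowers a :=
      moved Q hQ2 hcent a haQ hcard g' hg'odd hg'1
    have hnB : g' * b * g'⁻¹ ∉ Subgroup.zpowers b :=
      moved Q hQ2 hcent b hbQ hcardb g' hg'odd hg'1
    have hmA : g' * a * g'⁻¹ ∈ Q := hQn.conj_mem a haQ g'
    have hmB : g' * b * g'⁻¹ ∈ Q := hQn.conj_mem b hbQ g'
    rcases hun _ hmA with h1 | h1 | h1
    · exact absurd h1 hnA
    · -- `g'` sends `A` to `B`
      have hg2o : orderOf (g' ^ 2) = orderOf g' :=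
        Nat.Coprime.orderOf_pow (Nat.coprime_two_right.2 hg'odd)
      have hg2 : Odd (orderOf (g' ^ 2)) := by rw [hg2o]; exact hg'odd
      have hg21 : g' ^ 2 ≠ 1 := by
        intro h'
        have h2 : orderOf (g' ^ 2) = 1 := by rw [h', orderOf_one]
        rw [hg2o] at h2
        exact hg'1 (orderOf_eq_one_iff.mp h2)
      have hnA2 : g' * b * g'⁻¹ ∉ Subgroup.zpowers a := by
        intro h2
        have h3 : g' * (g' * a * g'⁻¹) * g'⁻¹ ∈ Subgroup.zpowers (g' * b * g'⁻¹) :=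
          conj_mem_zpowers rfl h1
        have h4 : Subgroup.zpowers (g' * b * g'⁻¹) ≤ Subgroup.zpowers a := by
          rw [Subgroup.zpowers_le]; exact h2
        have e : g' ^ 2 * a * (g' ^ 2)⁻¹ = g' * (g' * a * g'⁻¹) * g'⁻¹ := by
          rw [pow_two]; simp only [mul_inv_rev, mul_assoc]
        exact moved Q hQ2 hcent a haQ hcard (g' ^ 2) hg2 hg21 (by rw [e]; exact h4 h3)
      have hC : g' * b * g'⁻¹ ∈ Subgroup.zpowers c := by
        rcases hun _ hmB with h2 | h2 | h2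
        · exact absurd h2 hnA2
        · exact absurd h2 hnB
        · exact h2
      have k1 : g⁻¹ * (g' * a * g'⁻¹) * g⁻¹⁻¹ ∈ Subgroup.zpowers a :=
        conj_mem_zpowers (by rw [hb]; group) h1
      have k2 : g⁻¹ * (g' * b * g'⁻¹) * g⁻¹⁻¹ ∈ Subgroup.zpowers b :=
        conj_mem_zpowers (by rw [hc]; group) hC
      have hu : g⁻¹ * g' ∈ Q := by
        apply hKER
        · have e : g⁻¹ * g' * a * (g⁻¹ * g')⁻¹ = g⁻¹ * (g' * a * g'⁻¹) * g⁻¹⁻¹ := by group
          rw [e]; exact k1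
        · have e : g⁻¹ * g' * b * (g⁻¹ * g')⁻¹ = g⁻¹ * (g' * b * g'⁻¹) * g⁻¹⁻¹ := by group
          rw [e]; exact k2
      have e : g' = g * (g⁻¹ * g') := by group
      rw [e]; exact U.mul_mem hgU (hQU hu)
    · -- `g'` sends `A` to `C`
      have hnC : g' * b * g'⁻¹ ∉ Subgroup.zpowers c := by
        intro h2
        have hle : Subgroup.zpowers (g' * a * g'⁻¹) ≤ Subgroup.zpowers c := by
          rw [Subgroup.zpowers_le]; exact h1
        have heq : Subgroup.zpowers (g' * a * g'⁻¹) = Subgroup.zpowers c := by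
          apply Subgroup.eq_of_le_of_card_ge hle
          exact le_of_eq (by rw [Nat.card_zpowers, Nat.card_zpowers, ord_conj, hoc, ho4])
        rw [← heq] at h2
        have h3 : g'⁻¹ * (g' * b * g'⁻¹) * g'⁻¹⁻¹ ∈ Subgroup.zpowers a :=
          conj_mem_zpowers (by group) h2
        apply hbA
        have e : b = g'⁻¹ * (g' * b * g'⁻¹) * g'⁻¹⁻¹ := by group
        rw [e]; exact h3
      have hA : g' * b * g'⁻¹ ∈ Subgroup.zpowers a := by
        rcases hun _ hmB with h2 | h2 | h2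
        · exact h2
        · exact absurd h2 hnB
        · exact absurd h2 hnC
      have k1 : g * (g' * a * g'⁻¹) * g⁻¹ ∈ Subgroup.zpowers a :=
        conj_mem_zpowers hgc h1
      have k2 : g * (g' * b * g'⁻¹) * g⁻¹ ∈ Subgroup.zpowers b :=
        conj_mem_zpowers hb.symm hA
      have hu : g * g' ∈ Q := by
        apply hKER
        · have e : g * g' * a * (g * g')⁻¹ = g * (g' * a * g'⁻¹) * g⁻¹ := by group
          rw [e]; exact k1
        · have e : g * g' * b * (g * g')⁻¹ = g * (g' * b * g'⁻¹) * g⁻¹ := by group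
          rw [e]; exact k2
      have e : g' = g⁻¹ * (g * g') := by group
      rw [e]; exact U.mul_mem (U.inv_mem hgU) (hQU hu)
  have hconjU : ∀ h u : G, u ∈ U → h * u * h⁻¹ ∈ U := by
    intro h u hu
    rw [hU] at hu
    induction hu using Subgroup.closure_induction with
    | mem x hx =>
      simp only [Set.mem_insert_iff, Set.mem_singleton_iff] at hx
      rcases hx with hx | hx | hx
      · rw [hx]; exact hQU (hQn.conj_mem _ haQ h)
      · rw [hx]; exact hQU (hQn.conj_mem _ hbQ h)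
      · rw [hx]; exact hnorm_g h
    | one =>
      have e : h * 1 * h⁻¹ = 1 := by group
      rw [e]; exact U.one_mem
    | mul x y _ _ ihx ihy =>
      have e : h * (x * y) * h⁻¹ = (h * x * h⁻¹) * (h * y * h⁻¹) := by group
      rw [e]; exact U.mul_mem ihx ihy
    | inv x _ ih =>
      have e : h * x⁻¹ * h⁻¹ = (h * x * h⁻¹)⁻¹ := by group
      rw [e]; exact U.inv_mem ih
  have hUn : U.Normal := ⟨fun u hu h => hconjU h u hu⟩
  refine ⟨U, hUn, ?_⟩
  have hga : g * a = b * g := by rw [hb]; group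
  have hgb' : g * b = a * b * g := by rw [← hgood, hc]; group
  have hRel : Helper16.SL23.Rel (⟨a, haU⟩ : U) ⟨b, hbU⟩ ⟨g, hgU⟩ := by
    refine ⟨?_, ?_, ?_, ?_, ?_, ?_⟩
    · exact Subtype.ext ha4
    · exact Subtype.ext hR2
    · exact Subtype.ext hR3
    · exact Subtype.ext hga
    · exact Subtype.ext hgb'
    · exact Subtype.ext hg3
  have hFaith : Helper16.SL23.Faithful (⟨a, haU⟩ : U) ⟨b, hbU⟩ ⟨g, hgU⟩ := by
    intro i j k hi hj hk h
    have h' : a ^ i * b ^ j * g ^ k = 1 := congrArg Subtype.val h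
    have hgkQ : g ^ k ∈ Q := by
      have e : g ^ k = (a ^ i * b ^ j)⁻¹ := eq_inv_of_mul_eq_one_right h'
      rw [e]; exact Q.inv_mem (Q.mul_mem (Q.pow_mem haQ i) (Q.pow_mem hbQ j))
    have hgk1 : g ^ k = 1 := by
      obtain ⟨e', he'⟩ := hQ2 ⟨g ^ k, hgkQ⟩
      have he'' : (g ^ k) ^ 2 ^ e' = 1 := by simpa using congrArg Subtype.val he'
      exact S3215.eq_one_of_odd_of_two_pow (Odd.of_dvd_nat hg (orderOf_pow_dvd k)) he''
    have hk0 : k = 0 := by
      have h3 : orderOf g ∣ k := orderOf_dvd_of_pow_eq_one hgk1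
      have h4 : orderOf g = 3 := by
        have h5 : orderOf g ∣ 3 := orderOf_dvd_of_pow_eq_one hg3
        rcases (Nat.dvd_prime Nat.prime_three).mp h5 with h6 | h6
        · exact absurd (orderOf_eq_one_iff.mp h6) hg1
        · exact h6
      rw [h4] at h3
      omega
    subst hk0
    rw [pow_zero, mul_one] at h'
    have hj0 : j = 0 := by
      by_contra hj1
      have hj1' : j = 1 := by omega
      subst hj1'
      rw [pow_one] at h'
      apply hbA
      have e : b = (a ^ i)⁻¹ := eq_inv_of_mul_eq_one_right h'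
      rw [e]; exact Subgroup.inv_mem _ (Subgroup.pow_mem _ (Subgroup.mem_zpowers a) i)
    subst hj0
    rw [pow_zero, mul_one] at h'
    have hi0 : i = 0 := by
      have h3 : orderOf a ∣ i := orderOf_dvd_of_pow_eq_one h'
      rw [ho4] at h3
      omega
    exact ⟨hi0, rfl, rfl⟩
  have hgen : Subgroup.closure ({(⟨a, haU⟩ : U), ⟨b, hbU⟩, ⟨g, hgU⟩} : Set U) = ⊤ :=
    Helper16.SL23.closure_triple_top a b g U hU ⟨a, haU⟩ ⟨b, hbU⟩ ⟨g, hgU⟩ rfl rfl rfl
  exact Helper16.SL23.iso hRel hFaith hgen Helper16.SL23.rels0 Helper16.SL23.faithful0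
    Helper16.SL23.gen0

theorem core {G : Type*} [Group G] [Finite G] (Q : Subgroup G) [hQn : Q.Normal]
    (hQ2 : IsPGroup 2 Q) (hcent : Subgroup.centralizer (Q : Set G) ≤ Q)
    (a : G) (haQ : a ∈ Q) (hcard : Nat.card Q ≤ 2 * orderOf a)
    (g : G) (hg : Odd (orderOf g)) (hg1 : g ≠ 1)
    (Z : Subgroup G) [hZn : Z.Normal] (hZQ : Z ≤ Q) (hZ1 : Z ≠ ⊥)
    (hZc : 4 < Nat.card (Subgroup.centralizer (Z : Set G))) :
    ∃ U : Subgroup G, U.Normal ∧
      Nonempty (↥U ≃* Matrix.SpecialLinearGroup (Fin 2) (ZMod 3)) := by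
  obtain ⟨ho4, hbA, hR2, hR3, hR5, hun, hg3, hgc⟩ :=
    analysis Q hQ2 hcent a haQ hcard g hg hg1 Z hZQ hZ1 hZc
  rcases hR5 with h | h
  · exact good Q hQ2 hcent a haQ hcard g hg hg1 Z hZQ hZ1 hZc h
  · have hg2o : orderOf (g ^ 2) = orderOf g :=
      Nat.Coprime.orderOf_pow (Nat.coprime_two_right.2 hg)
    have hg2 : Odd (orderOf (g ^ 2)) := by rw [hg2o]; exact hg
    have hg21 : g ^ 2 ≠ 1 := by
      intro h'
      have h1 : orderOf (g ^ 2) = 1 := by rw [h', orderOf_one]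
      rw [hg2o] at h1
      exact hg1 (orderOf_eq_one_iff.mp h1)
    apply good Q hQ2 hcent a haQ hcard (g ^ 2) hg2 hg21 Z hZQ hZ1 hZc
    have ha4 : a ^ 4 = 1 := by rw [← ho4]; exact pow_orderOf_eq_one a
    have e1 : g ^ 2 * a * (g ^ 2)⁻¹ = g * (g * a * g⁻¹) * g⁻¹ := by
      rw [pow_two]; simp only [mul_inv_rev, mul_assoc]
    have e2 : g ^ 2 * (g * (g * a * g⁻¹) * g⁻¹) * (g ^ 2)⁻¹ =
        g * (g * (g * (g * a * g⁻¹) * g⁻¹) * g⁻¹) * g⁻¹ := by
      rw [pow_two]; simp only [mul_inv_rev, mul_assoc]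
    have e3 : a * (a ^ 3 * (g * a * g⁻¹)) = a ^ 4 * (g * a * g⁻¹) := by
      simp only [pow_succ, pow_zero, one_mul, mul_assoc]
    rw [e1, e2, hgc, h, e3, ha4, one_mul]

/-- Let G be a finite solvable group with O(G) = 1 whose Sylow 2-subgroup T is dihedral of order at least 8 or semidihedral, with G ≠ T and Z(T) normal in G. Then G has a normal subgroup isomorphic to SL₂(3). -/
theorem result {G : Type*} [Group G] [Finite G] (hsol : IsSolvable G) (hO : Cfsg.oddCore G = ⊥) (T : Sylow 2 G) (hT : (∃ n : ℕ, 4 ≤ n ∧ Nonempty (↥(T : Subgroup G) ≃* DihedralGroup n)) ∨ Cfsg.IsQuasiDihedral ↥(T : Subgroup G)) (hne : (T : Subgroup G) ≠ ⊤) (hZ : ((T : Subgroup G) ⊓ Subgroup.centralizer ((T : Subgroup G) : Set G)).Normal) : ∃ U : Subgroup G, U.Normal ∧ Nonempty (↥U ≃* Matrix.SpecialLinearGroup (Fin 2) (ZMod 3)) := by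
  classical
  have : Fact (Nat.Prime 2) := ⟨Nat.prime_two⟩
  have hQn : (Cfsg.pCore 2 G).Normal := Helper1.pCore_normal 2 G
  have hQ2 : IsPGroup 2 (Cfsg.pCore 2 G) := Helper1.pCore_isPGroup 2 G
  have hcent : Subgroup.centralizer (Cfsg.pCore 2 G : Set G) ≤ Cfsg.pCore 2 G :=
    S3215.cent_le hsol hO
  have hQT : Cfsg.pCore 2 G ≤ (T : Subgroup G) := Helper16.normal_pgroup_le_sylow hQn hQ2 T
  -- a cyclic subgroup of index two in `T`
  obtain ⟨t₀, ht₀T, hcardT, h8⟩ : ∃ t₀ : G, t₀ ∈ (T : Subgroup G) ∧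
      Nat.card (T : Subgroup G) = 2 * orderOf t₀ ∧ 8 ≤ Nat.card (T : Subgroup G) := by
    rcases hT with ⟨n, hn, ⟨e⟩⟩ | ⟨n, hn, hcard, x, y, hx, hy, hxy⟩
    · refine ⟨(e.symm (DihedralGroup.r 1) : G), (e.symm (DihedralGroup.r 1)).2, ?_, ?_⟩
      · rw [Subgroup.orderOf_coe, MulEquiv.orderOf_eq, DihedralGroup.orderOf_r_one,
          Nat.card_congr e.toEquiv, DihedralGroup.nat_card]
      · rw [Nat.card_congr e.toEquiv, DihedralGroup.nat_card]; omega
    · refine ⟨(x : G), x.2, ?_, ?_⟩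
      · rw [Subgroup.orderOf_coe, hx, hcard, pow_succ]; ring
      · rw [hcard]
        calc 8 = 2 ^ 3 := by norm_num
          _ ≤ 2 ^ (n + 1) := Nat.pow_le_pow_right (by norm_num) (by omega)
  -- a generator of the intersection of that cyclic subgroup with `O₂(G)`
  obtain ⟨a, haQ, hcard⟩ : ∃ a : G, a ∈ Cfsg.pCore 2 G ∧
      Nat.card (Cfsg.pCore 2 G) ≤ 2 * orderOf a := by
    obtain ⟨D, hD⟩ : ∃ D : Subgroup G, D = Subgroup.zpowers t₀ ⊓ Cfsg.pCore 2 G := ⟨_, rfl⟩
    have hDQ : D ≤ Cfsg.pCore 2 G := by rw [hD]; exact inf_le_right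
    have hDC : D ≤ Subgroup.zpowers t₀ := by rw [hD]; exact inf_le_left
    have hCT : Subgroup.zpowers t₀ ≤ (T : Subgroup G) := by
      rw [Subgroup.zpowers_le]; exact ht₀T
    have h1 : Nat.card (Cfsg.pCore 2 G) = Nat.card D * D.relIndex (Cfsg.pCore 2 G) :=
      Helper8.card_eq_card_mul_relIndex hDQ
    have hrelT : (Subgroup.zpowers t₀).relIndex (T : Subgroup G) = 2 := by
      have h3 := Helper8.card_eq_card_mul_relIndex hCT
      rw [Nat.card_zpowers, hcardT] at h3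
      have hpos : 0 < orderOf t₀ := orderOf_pos t₀
      exact Nat.eq_of_mul_eq_mul_left hpos (by rw [← h3]; ring)
    have h2 : D.relIndex (Cfsg.pCore 2 G) ≤ 2 := by
      rw [hD, Subgroup.inf_relIndex_right]
      have h4 := Subgroup.relIndex_le_of_le_right hQT
        (H := Subgroup.zpowers t₀) (by rw [hrelT]; norm_num)
      rw [hrelT] at h4; exact h4
    have hDcyc : IsCyclic D := by
      have : IsCyclic (D.subgroupOf (Subgroup.zpowers t₀)) := Subgroup.isCyclic _
      exact isCyclic_of_surjective (Subgroup.subgroupOfEquivOfLe hDC)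
        (Subgroup.subgroupOfEquivOfLe hDC).surjective
    obtain ⟨a, ha⟩ := Cfsg.Agent.S3379.exists_zpowers_eq D hDcyc
    have haD : a ∈ D := by rw [ha]; exact Subgroup.mem_zpowers a
    have h3 : Nat.card D = orderOf a := by rw [ha, Nat.card_zpowers]
    refine ⟨a, hDQ haD, ?_⟩
    rw [h1, h3]
    calc orderOf a * D.relIndex (Cfsg.pCore 2 G) ≤ orderOf a * 2 := Nat.mul_le_mul_left _ h2
      _ = 2 * orderOf a := mul_comm _ _
  -- an element of odd order
  obtain ⟨g, hg, hg1⟩ : ∃ g : G, Odd (orderOf g) ∧ g ≠ 1 := by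
    have hidx : (T : Subgroup G).index ≠ 1 := by
      intro h; exact hne (Subgroup.index_eq_one.mp h)
    obtain ⟨r, hr, hrd⟩ := Nat.exists_prime_and_dvd hidx
    have hr2 : r ≠ 2 := by
      intro h; rw [h] at hrd; exact T.not_dvd_index hrd
    have : Fact r.Prime := ⟨hr⟩
    have hrG : r ∣ Nat.card G := hrd.trans (Subgroup.index_dvd_card _)
    obtain ⟨g, hgo⟩ := exists_prime_orderOf_dvd_card' r hrG
    refine ⟨g, ?_, ?_⟩
    · rw [hgo]; exact hr.odd_of_ne_two hr2
    · intro h; rw [h, orderOf_one] at hgo; exact hr.one_lt.ne hgo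
  -- the centre of `T`
  obtain ⟨Z, hZdef⟩ : ∃ Z : Subgroup G,
      Z = (T : Subgroup G) ⊓ Subgroup.centralizer ((T : Subgroup G) : Set G) := ⟨_, rfl⟩
  have hZn : Z.Normal := by rw [hZdef]; exact hZ
  have hZT : Z ≤ (T : Subgroup G) := by rw [hZdef]; exact inf_le_left
  have hZQ : Z ≤ Cfsg.pCore 2 G := Helper1.le_pCore hZn (T.2.to_le hZT)
  have hZ1 : Z ≠ ⊥ := by
    have : Nontrivial (T : Subgroup G) := by
      rw [← Finite.one_lt_card_iff_nontrivial]; omega
    have : Nontrivial (Subgroup.center (T : Subgroup G)) := T.2.center_nontrivial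
    obtain ⟨z, hz⟩ := exists_ne (1 : Subgroup.center (T : Subgroup G))
    intro hbot
    have hzZ : ((z : (T : Subgroup G)) : G) ∈ Z := by
      rw [hZdef]
      refine Subgroup.mem_inf.mpr ⟨(z : (T : Subgroup G)).2, ?_⟩
      rw [Subgroup.mem_centralizer_iff]
      intro t ht
      have h1 := Subgroup.mem_center_iff.mp z.2 ⟨t, ht⟩
      exact congrArg Subtype.val h1
    rw [hbot, Subgroup.mem_bot] at hzZ
    apply hz
    apply Subtype.ext
    apply Subtype.ext
    exact hzZ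
  have hZc : 4 < Nat.card (Subgroup.centralizer (Z : Set G)) := by
    have hTle : (T : Subgroup G) ≤ Subgroup.centralizer (Z : Set G) := by
      intro t ht
      rw [Subgroup.mem_centralizer_iff]
      intro z hz
      have hz' : z ∈ (T : Subgroup G) ⊓ Subgroup.centralizer ((T : Subgroup G) : Set G) := by
        rw [← hZdef]; exact hz
      exact (Subgroup.mem_centralizer_iff.mp (Subgroup.mem_inf.mp hz').2 t ht).symm
    have h5 := Subgroup.card_le_of_le hTle
    omega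
  exact core (Cfsg.pCore 2 G) hQ2 hcent a haQ hcard g hg hg1 Z hZQ hZ1 hZc

end Cfsg.Agent.S2879
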