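import Cfsg.Statements.S2880
import Mathlib

set_option autoImplicit false
open Cfsg

namespace Cfsg.Agent.S2880

open Classical in
/-- `1` at the identity and `-1` elsewhere. -/
noncomputable def eps {G : Type*} [Group G] (w : G) : ℤ := if w = 1 then 1 else -1

theorem eps_one {G : Type*} [Group G] : eps (1 : G) = 1 := by
  unfold eps; rw [if_pos rfl]

theorem eps_ne {G : Type*} [Group G] {w : G} (h : w ≠ 1) : eps w = -1 := by
  unfold eps; rw [if_neg h]

theorem eps_mul {G : Type*} [Group G] (z : G) (hzz : z * z = 1) (a b : G)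
    (ha : a = 1 ∨ a = z) (hb : b = 1 ∨ b = z) : eps (a * b) = eps a * eps b := by
  by_cases hz1 : z = 1
  · subst hz1
    rcases ha with rfl | rfl <;> rcases hb with rfl | rfl <;> simp [eps_one]
  · rcases ha with rfl | rfl <;> rcases hb with rfl | rfl
    · simp [eps_one]
    · simp [eps_one]
    · simp [eps_one]
    · rw [hzz, eps_one, eps_ne hz1]; norm_num

theorem sum_char {H : Type*} [Group H] [Fintype H] (f : H → ℤ)
    (hmul : ∀ a b, f (a * b) = f a * f b) (h0 : H) (h : f h0 = -1) : ∑ x, f x = 0 := by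
  have e : ∑ x, f (h0 * x) = ∑ x, f x := Equiv.sum_comp (Equiv.mulLeft h0) f
  have e2 : ∑ x, f (h0 * x) = - ∑ x, f x := by
    rw [← Finset.sum_neg_distrib]
    refine Finset.sum_congr rfl fun x _ => ?_
    rw [hmul, h]; ring
  linarith

theorem comm_eq_one_iff {G : Type*} [Group G] (a x : G) :
    a * x * a⁻¹ * x⁻¹ = 1 ↔ a * x = x * a := by
  constructor
  · intro h
    calc a * x = (a * x * a⁻¹ * x⁻¹) * (x * a) := by group
      _ = x * a := by rw [h, one_mul]
  · intro h
    calc a * x * a⁻¹ * x⁻¹ = (a * x) * a⁻¹ * x⁻¹ := by group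
      _ = (x * a) * a⁻¹ * x⁻¹ := by rw [h]
      _ = 1 := by group


/-- Let E be an extraspecial 2-group of order 2^(2m+1) of plus type, that is, containing an elementary abelian subgroup of order 2^(m+1) (equivalently, a central product of m dihedral groups of order 8). Then E has exactly 2^(2m) − 2^m elements of order 4. -/
theorem result {E : Type*} [Group E] [Finite E] (m : ℕ) (hm : 1 ≤ m) (hE : Cfsg.IsExtraspecial 2 E) (hcard : Nat.card E = 2 ^ (2 * m + 1)) (hplus : ∃ A : Subgroup E, Cfsg.IsElementaryAbelian 2 A ∧ Nat.card A = 2 ^ (m + 1)) : Nat.card {x : E // orderOf x = 4} = 2 ^ (2 * m) - 2 ^ m := by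
  classical
  have hfin : Fintype E := Fintype.ofFinite E
  obtain ⟨A, ⟨hAc, hA2⟩, hAcard⟩ := hplus
  obtain ⟨⟨hP, hfr, hcomm⟩, hZ⟩ := hE
  obtain ⟨zc, hzc1, hzcu⟩ := (Nat.card_eq_two_iff' (1 : Subgroup.center E)).mp hZ
  obtain ⟨z, hzdef⟩ : ∃ z : E, z = (zc : E) := ⟨_, rfl⟩
  have hz1 : z ≠ 1 := by
    intro h
    apply hzc1
    apply Subtype.ext
    rw [← hzdef, h]; rfl
  have hzcen : z ∈ Subgroup.center E := by rw [hzdef]; exact zc.2
  have hcen : ∀ w : E, w ∈ Subgroup.center E → w = 1 ∨ w = z := by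
    intro w hw
    by_cases h1 : w = 1
    · left; exact h1
    · right
      have h2 := hzcu ⟨w, hw⟩ (fun h => h1 (congrArg Subtype.val h))
      rw [hzdef, ← h2]
  have hzz : z * z = 1 := by
    rcases hcen (z * z) (Subgroup.mul_mem _ hzcen hzcen) with h | h
    · exact h
    · exfalso; apply hz1
      exact mul_left_cancel (a := z) (by rw [h, mul_one])
  -- commutators are central
  have hcc : ∀ a x : E, a * x * a⁻¹ * x⁻¹ ∈ Subgroup.center E := by
    intro a x
    rw [← hcomm]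
    have h := Subgroup.commutator_mem_commutator (Subgroup.mem_top a) (Subgroup.mem_top x)
    rw [commutatorElement_def] at h
    exact h
  have hcv : ∀ a x : E, a * x * a⁻¹ * x⁻¹ = 1 ∨ a * x * a⁻¹ * x⁻¹ = z := fun a x => hcen _ (hcc a x)
  have hck : ∀ a x g : E, g * (a * x * a⁻¹ * x⁻¹) = (a * x * a⁻¹ * x⁻¹) * g :=
    fun a x g => Subgroup.mem_center_iff.mp (hcc a x) g
  have hmulL : ∀ a b x : E, (a * b) * x * (a * b)⁻¹ * x⁻¹ =
      (a * x * a⁻¹ * x⁻¹) * (b * x * b⁻¹ * x⁻¹) := by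
    intro a b x
    have h := hck b x a
    calc (a * b) * x * (a * b)⁻¹ * x⁻¹ = a * (b * x * b⁻¹ * x⁻¹) * x * a⁻¹ * x⁻¹ := by group
      _ = (b * x * b⁻¹ * x⁻¹) * a * x * a⁻¹ * x⁻¹ := by rw [h]
      _ = (b * x * b⁻¹ * x⁻¹) * (a * x * a⁻¹ * x⁻¹) := by group
      _ = (a * x * a⁻¹ * x⁻¹) * (b * x * b⁻¹ * x⁻¹) := hck a x (b * x * b⁻¹ * x⁻¹)
  have hmulR : ∀ a x y : E, a * (x * y) * a⁻¹ * (x * y)⁻¹ =
      (a * x * a⁻¹ * x⁻¹) * (a * y * a⁻¹ * y⁻¹) := by
    intro a x y
    have h := hck a y x⁻¹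
    calc a * (x * y) * a⁻¹ * (x * y)⁻¹ = a * x * a⁻¹ * ((a * y * a⁻¹ * y⁻¹) * x⁻¹) := by group
      _ = a * x * a⁻¹ * (x⁻¹ * (a * y * a⁻¹ * y⁻¹)) := by rw [h]
      _ = (a * x * a⁻¹ * x⁻¹) * (a * y * a⁻¹ * y⁻¹) := by group
  have hsq : ∀ x a : E, a * a = 1 → (x * a) * (x * a) = (a * x * a⁻¹ * x⁻¹) * (x * x) := by
    intro x a ha
    have h := hck a x x
    calc (x * a) * (x * a) = x * (a * x * a⁻¹ * x⁻¹) * x * (a * a) := by group
      _ = (a * x * a⁻¹ * x⁻¹) * x * x * (a * a) := by rw [h]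
      _ = (a * x * a⁻¹ * x⁻¹) * (x * x) := by rw [ha]; group
  have hsqcen : ∀ x : E, x * x ∈ Subgroup.center E := by
    intro x
    rw [Subgroup.mem_center_iff]
    intro g
    obtain ⟨c, hc⟩ : ∃ c : E, c = g * x * g⁻¹ * x⁻¹ := ⟨_, rfl⟩
    have hgx : g * x = c * x * g := by rw [hc]; group
    have hxc : x * c = c * x := by rw [hc]; exact hck g x x
    have hc2 : c * c = 1 := by
      rcases hcv g x with h | h
      · rw [hc, h, mul_one]
      · rw [hc, h, hzz]
    calc g * (x * x) = (g * x) * x := by group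
      _ = c * x * g * x := by rw [hgx]
      _ = c * x * (g * x) := by group
      _ = c * x * (c * x * g) := by rw [hgx]
      _ = c * (x * c) * x * g := by group
      _ = c * (c * x) * x * g := by rw [hxc]
      _ = (c * c) * x * x * g := by group
      _ = x * x * g := by rw [hc2, one_mul]
  have hepsc : ∀ a x : E, a * x = x * a → eps (a * x * a⁻¹ * x⁻¹) = 1 := by
    intro a x h
    rw [(comm_eq_one_iff a x).mpr h, eps_one]
  have hepsn : ∀ a x : E, a * x ≠ x * a → eps (a * x * a⁻¹ * x⁻¹) = -1 := by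
    intro a x h
    exact eps_ne (fun h1 => h ((comm_eq_one_iff a x).mp h1))
  have hAsq : ∀ a : E, a ∈ A → a * a = 1 := by
    intro a ha
    have := hA2 a ha
    rwa [pow_two] at this
  have hAcomm : ∀ a b : E, a ∈ A → b ∈ A → a * b = b * a := by
    intro a b ha hb
    have h := hAc.is_comm.comm (⟨a, ha⟩ : A) ⟨b, hb⟩
    exact congrArg Subtype.val h
  -- the functions
  obtain ⟨F, hFdef⟩ : ∃ F : E → ℤ, F = fun x => eps (x * x) := ⟨_, rfl⟩
  obtain ⟨T, hTdef⟩ : ∃ T : E → ℤ, T = fun x => ∑ a : A, eps ((a : E) * x * (a : E)⁻¹ * x⁻¹) :=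
    ⟨_, rfl⟩
  obtain ⟨C, hCdef⟩ : ∃ C : Subgroup E, C = Subgroup.centralizer (A : Set E) := ⟨_, rfl⟩
  have hF : ∀ x a : E, a ∈ A → F (x * a) = eps (a * x * a⁻¹ * x⁻¹) * F x := by
    intro x a ha
    rw [hFdef]
    show eps ((x * a) * (x * a)) = eps (a * x * a⁻¹ * x⁻¹) * eps (x * x)
    rw [hsq x a (hAsq a ha)]
    exact eps_mul z hzz _ _ (hcv a x) (hcen _ (hsqcen x))
  have hcardA : (Fintype.card A : ℤ) = (Nat.card A : ℤ) := by
    rw [Nat.card_eq_fintype_card]
  have hT1 : ∀ x : E, x ∈ C → T x = (Nat.card A : ℤ) := by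
    intro x hx
    rw [hCdef, Subgroup.mem_centralizer_iff] at hx
    rw [hTdef]
    show ∑ a : A, eps ((a : E) * x * (a : E)⁻¹ * x⁻¹) = (Nat.card A : ℤ)
    rw [Finset.sum_congr rfl (fun (a : A) _ => hepsc (a : E) x (hx (a : E) a.2))]
    rw [Finset.sum_const, Finset.card_univ, nsmul_eq_mul, mul_one, hcardA]
  have hT0 : ∀ x : E, x ∉ C → T x = 0 := by
    intro x hx
    rw [hCdef, Subgroup.mem_centralizer_iff] at hx
    rw [not_forall] at hx
    obtain ⟨a0, ha0⟩ := hx
    rw [Classical.not_imp] at ha0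
    obtain ⟨ha0A, ha0x⟩ := ha0
    rw [hTdef]
    show ∑ a : A, eps ((a : E) * x * (a : E)⁻¹ * x⁻¹) = 0
    apply sum_char (fun a : A => eps ((a : E) * x * (a : E)⁻¹ * x⁻¹)) _ ⟨a0, ha0A⟩
    · exact hepsn a0 x ha0x
    · intro a b
      show eps (((a : E) * (b : E)) * x * ((a : E) * (b : E))⁻¹ * x⁻¹) = _
      rw [hmulL]
      exact eps_mul z hzz _ _ (hcv _ _) (hcv _ _)
  have hcardC : (Finset.univ.filter (fun g : E => g ∈ C)).card = Nat.card C := by
    rw [← Fintype.card_subtype]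
    exact Fintype.card_eq_nat_card
  have hcardA' : (Finset.univ.filter (fun g : E => g ∈ A)).card = Nat.card A := by
    rw [← Fintype.card_subtype]
    exact Fintype.card_eq_nat_card
  -- first double count: |A| * |C| ≤ 2 * |E|
  have hD1 : ∑ g : E, T g = (Nat.card A : ℤ) * (Nat.card C : ℤ) := by
    have h1 : ∀ g : E, T g = if g ∈ C then (Nat.card A : ℤ) else 0 := by
      intro g
      by_cases hg : g ∈ C
      · rw [if_pos hg, hT1 g hg]
      · rw [if_neg hg, hT0 g hg]
    rw [Finset.sum_congr rfl (fun g _ => h1 g), Finset.sum_ite, Finset.sum_const_zero, add_zero,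
      Finset.sum_const, nsmul_eq_mul, hcardC]
    ring
  have hD2 : ∑ g : E, T g ≤ 2 * (Nat.card E : ℤ) := by
    have h1 : ∑ g : E, T g = ∑ a : A, ∑ g : E, eps ((a : E) * g * (a : E)⁻¹ * g⁻¹) := by
      rw [hTdef]
      exact Finset.sum_comm
    have h2 : ∀ a : A, ∑ g : E, eps ((a : E) * g * (a : E)⁻¹ * g⁻¹) =
        if (a : E) ∈ Subgroup.center E then (Nat.card E : ℤ) else 0 := by
      intro a
      by_cases ha : (a : E) ∈ Subgroup.center E
      · rw [if_pos ha]
        rw [Subgroup.mem_center_iff] at ha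
        rw [Finset.sum_congr rfl (fun (g : E) _ => hepsc (a : E) g (ha g).symm)]
        rw [Finset.sum_const, Finset.card_univ, nsmul_eq_mul, mul_one, Nat.card_eq_fintype_card]
      · rw [if_neg ha]
        rw [Subgroup.mem_center_iff, not_forall] at ha
        obtain ⟨g0, hg0⟩ := ha
        apply sum_char (fun g : E => eps ((a : E) * g * (a : E)⁻¹ * g⁻¹)) _ g0
        · exact hepsn (a : E) g0 (fun h => hg0 h.symm)
        · intro x y
          show eps ((a : E) * (x * y) * (a : E)⁻¹ * (x * y)⁻¹) = _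
          rw [hmulR]
          exact eps_mul z hzz _ _ (hcv _ _) (hcv _ _)
    rw [h1, Finset.sum_congr rfl (fun a _ => h2 a), Finset.sum_ite, Finset.sum_const_zero, add_zero,
      Finset.sum_const, nsmul_eq_mul]
    have h3 : (Finset.univ.filter (fun a : A => (a : E) ∈ Subgroup.center E)).card ≤ 2 := by
      refine le_trans (Finset.card_le_card_of_injOn (t := ({1, z} : Finset E))
        (fun a : A => (a : E)) ?_ ?_) Finset.card_le_two
      · intro a ha
        have ha' : (a : E) ∈ Subgroup.center E := (Finset.mem_filter.mp ha).2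
        rcases hcen _ ha' with h | h
        · simp [h]
        · simp [h]
      · intro a _ b _ hab
        exact Subtype.ext hab
    have h4 : ((Finset.univ.filter (fun a : A => (a : E) ∈ Subgroup.center E)).card : ℤ) ≤ 2 := by
      exact_mod_cast h3
    have h5 : (0 : ℤ) ≤ (Nat.card E : ℤ) := Nat.cast_nonneg _
    nlinarith
  have hle : Nat.card C ≤ Nat.card A := by
    have h1 : (Nat.card A : ℤ) * (Nat.card C : ℤ) ≤ 2 * (Nat.card E : ℤ) := hD1 ▸ hD2
    have h2 : Nat.card A * Nat.card C ≤ 2 * Nat.card E := by exact_mod_cast h1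
    rw [hAcard, hcard] at h2
    have h3 : 2 * 2 ^ (2 * m + 1) = 2 ^ (m + 1) * 2 ^ (m + 1) := by ring
    rw [h3] at h2
    rw [hAcard]
    exact Nat.le_of_mul_le_mul_left h2 (by positivity)
  have hAC : A ≤ C := by
    intro a ha
    rw [hCdef, Subgroup.mem_centralizer_iff]
    intro h hh
    exact hAcomm h a hh ha
  have hCA : C = A := (Subgroup.eq_of_le_of_card_ge hAC hle).symm
  -- second count
  obtain ⟨S, hSdef⟩ : ∃ S : ℤ, S = ∑ x : E, F x := ⟨_, rfl⟩
  have h1 : ∑ a : A, ∑ x : E, F (x * (a : E)) = (Nat.card A : ℤ) * S := by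
    have h0 : ∀ a : A, ∑ x : E, F (x * (a : E)) = S := by
      intro a
      rw [hSdef]
      exact Equiv.sum_comp (Equiv.mulRight (a : E)) F
    rw [Finset.sum_congr rfl (fun a _ => h0 a), Finset.sum_const, Finset.card_univ, nsmul_eq_mul,
      hcardA]
  have h2 : ∑ a : A, ∑ x : E, F (x * (a : E)) = ∑ x : E, F x * T x := by
    rw [Finset.sum_comm]
    refine Finset.sum_congr rfl fun x _ => ?_
    rw [hTdef]
    show ∑ a : A, F (x * (a : E)) = F x * ∑ a : A, eps ((a : E) * x * (a : E)⁻¹ * x⁻¹)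
    rw [Finset.mul_sum]
    refine Finset.sum_congr rfl fun a _ => ?_
    rw [hF x (a : E) a.2]; ring
  have h3 : ∑ x : E, F x * T x = (Nat.card A : ℤ) * (Nat.card A : ℤ) := by
    have h0 : ∀ x : E, F x * T x = if x ∈ A then (Nat.card A : ℤ) else 0 := by
      intro x
      by_cases hx : x ∈ A
      · rw [if_pos hx, hT1 x (hCA ▸ hx), hFdef]
        show eps (x * x) * (Nat.card A : ℤ) = _
        rw [hAsq x hx, eps_one, one_mul]
      · rw [if_neg hx, hT0 x (by rw [hCA]; exact hx), mul_zero]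
    rw [Finset.sum_congr rfl (fun x _ => h0 x), Finset.sum_ite, Finset.sum_const_zero, add_zero,
      Finset.sum_const, nsmul_eq_mul, hcardA']
  have hApos : (Nat.card A : ℤ) ≠ 0 := by
    rw [hAcard]; positivity
  have hS : S = (Nat.card A : ℤ) := by
    have h4 : (Nat.card A : ℤ) * S = (Nat.card A : ℤ) * (Nat.card A : ℤ) := by
      rw [← h1, h2, h3]
    exact mul_left_cancel₀ hApos h4
  -- translate to counts
  obtain ⟨n1, hn1⟩ : ∃ n : ℕ, n = (Finset.univ.filter (fun x : E => x * x = 1)).card := ⟨_, rfl⟩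
  obtain ⟨n2, hn2⟩ : ∃ n : ℕ, n = (Finset.univ.filter (fun x : E => ¬ x * x = 1)).card := ⟨_, rfl⟩
  have hsum : n1 + n2 = Nat.card E := by
    rw [hn1, hn2, Finset.card_filter_add_card_filter_not, Finset.card_univ,
      Nat.card_eq_fintype_card]
  have hdiff : (n1 : ℤ) - (n2 : ℤ) = S := by
    rw [hSdef, hFdef]
    have h0 : ∀ x : E, eps (x * x) = if x * x = 1 then (1 : ℤ) else -1 := by
      intro x
      unfold eps
      rfl
    rw [Finset.sum_congr rfl (fun x _ => h0 x), Finset.sum_ite, Finset.sum_const, Finset.sum_const,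
      ← hn1, ← hn2]
    simp
    ring
  have hord : ∀ x : E, orderOf x = 4 ↔ ¬ x * x = 1 := by
    intro x
    constructor
    · intro h hx
      have h2 : x ^ 2 = 1 := by rw [pow_two]; exact hx
      have h3 := orderOf_dvd_of_pow_eq_one h2
      rw [h] at h3
      norm_num at h3
    · intro hx
      have h4 : x ^ 2 ^ (1 + 1) = 1 := by
        have e : x ^ 2 ^ (1 + 1) = (x * x) * (x * x) := by
          show x ^ 4 = _
          rw [show (4 : ℕ) = 2 + 2 from rfl, pow_add, pow_two]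
        rw [e]
        rcases hcen _ (hsqcen x) with h | h
        · exact absurd h hx
        · rw [h, hzz]
      have h5 : ¬ x ^ 2 ^ 1 = 1 := by
        rw [pow_one, pow_two]; exact hx
      have h6 := orderOf_eq_prime_pow h5 h4
      rw [h6]
      norm_num
  have hgoal : Nat.card {x : E // orderOf x = 4} = n2 := by
    rw [Nat.card_eq_fintype_card, Fintype.card_subtype, hn2]
    congr 1
    apply Finset.filter_congr
    intro x _
    exact hord x
  rw [hgoal]
  have hd2 : (n1 : ℤ) = (n2 : ℤ) + (2 ^ (m + 1) : ℕ) := by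
    rw [← hAcard, ← hS, ← hdiff]; ring
  have hd3 : n1 = n2 + 2 ^ (m + 1) := by exact_mod_cast hd2
  rw [hcard] at hsum
  have e1 : 2 ^ (2 * m + 1) = 2 * 2 ^ (2 * m) := by ring
  have e2 : 2 ^ (m + 1) = 2 * 2 ^ m := by ring
  rw [e1] at hsum
  rw [e2] at hd3
  omega

end Cfsg.Agent.S2880
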