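import Cfsg.Statements.S2881
import Mathlib
import Cfsg.Agent.S2880

set_option autoImplicit false
open Cfsg

namespace Cfsg.Agent.S2881

theorem two_ne : (2 : ZMod 5) ≠ 0 := by decide
theorem two_pow_four : (2 : ZMod 5) ^ 4 = 1 := by decide
theorem two_pow_one : ¬ (2 : ZMod 5) ^ 1 = 1 := by decide
theorem two_pow_two : ¬ (2 : ZMod 5) ^ 2 = 1 := by decide
theorem two_pow_three : ¬ (2 : ZMod 5) ^ 3 = 1 := by decide


/-- Let E be an extraspecial 2-group of order 2^(2m+1) of plus type (containing an elementary abelian subgroup of order 2^(m+1)), and let ω be an automorphism of E of order 5 whose fixed points are exactly the centre of E. Then m is divisible by 4. -/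
theorem result {E : Type*} [Group E] [Finite E] (m : ℕ) (hm : 1 ≤ m) (hE : Cfsg.IsExtraspecial 2 E) (hcard : Nat.card E = 2 ^ (2 * m + 1)) (hplus : ∃ A : Subgroup E, Cfsg.IsElementaryAbelian 2 A ∧ Nat.card A = 2 ^ (m + 1)) (ω : E ≃* E) (hω : orderOf ω = 5) (hfix : ∀ x : E, ω x = x ↔ x ∈ Subgroup.center E) : 4 ∣ m := by
  classical
  have hfin : Fintype E := Fintype.ofFinite E
  have hcount := Cfsg.Agent.S2880.result m hm hE hcard hplus
  have hZ : Nat.card (Subgroup.center E) = 2 := hE.2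
  have hω5 : ω ^ 5 = 1 := by rw [← hω]; exact pow_orderOf_eq_one ω
  have h5 : ∀ x : E, ω (ω (ω (ω (ω x)))) = x := by
    intro x
    have h := DFunLike.congr_fun hω5 x
    simpa [pow_succ, MulAut.mul_apply] using h
  obtain ⟨f, hfdef⟩ : ∃ f : Function.End {x : E // orderOf x = 4},
      ∀ y, (f y : E) = ω (y : E) :=
    ⟨fun y => ⟨ω y.1, by rw [MulEquiv.orderOf_eq]; exact y.2⟩, fun y => rfl⟩
  have hp5 : Fact (Nat.Prime 5) := ⟨by norm_num⟩
  have hf : f ^ 5 ^ 1 = 1 := by
    rw [pow_one]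
    simp only [pow_succ, pow_zero, Function.End.mul_def, Function.End.one_def]
    funext y
    apply Subtype.ext
    show ((f (f (f (f (f y))))) : E) = (y : E)
    rw [hfdef, hfdef, hfdef, hfdef, hfdef]
    exact h5 y
  have hmodeq := Equiv.Perm.card_fixedPoints_modEq (f := f) (p := 5) (n := 1) hf
  have hfp : ∀ inst : Fintype (Function.fixedPoints f), @Fintype.card _ inst = 0 := by
    intro inst
    apply (@Fintype.card_eq_zero_iff _ inst).mpr
    refine ⟨fun y => ?_⟩
    obtain ⟨y, hy⟩ := y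
    have hy1 : f y = y := hy
    have hy2 : ω (y : E) = (y : E) := by rw [← hfdef, hy1]
    have hy3 : (y : E) ∈ Subgroup.center E := (hfix _).mp hy2
    have hy4 : orderOf (⟨(y : E), hy3⟩ : Subgroup.center E) ∣ 2 := by
      rw [← hZ]; exact orderOf_dvd_natCard _
    rw [← Subgroup.orderOf_coe] at hy4
    have hy5 : orderOf (y : E) = 4 := y.2
    have hy6 : orderOf (y : E) ∣ 2 := hy4
    rw [hy5] at hy6
    norm_num at hy6
  rw [hfp] at hmodeq
  have hcardY : Fintype.card {x : E // orderOf x = 4} = 2 ^ (2 * m) - 2 ^ m := by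
    rw [← hcount]; exact Fintype.card_eq_nat_card
  rw [hcardY] at hmodeq
  have hdvd : 5 ∣ 2 ^ (2 * m) - 2 ^ m := (Nat.modEq_zero_iff_dvd).mp hmodeq
  have hle : 2 ^ m ≤ 2 ^ (2 * m) := Nat.pow_le_pow_right (by norm_num) (by omega)
  have hz : ((2 ^ (2 * m) - 2 ^ m : ℕ) : ZMod 5) = 0 := (ZMod.natCast_eq_zero_iff _ 5).mpr hdvd
  rw [Nat.cast_sub hle] at hz
  push_cast at hz
  have e2 : (2 : ZMod 5) ^ (2 * m) = (2 : ZMod 5) ^ m * (2 : ZMod 5) ^ m := by
    rw [two_mul, pow_add]
  rw [e2] at hz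
  have hne : (2 : ZMod 5) ^ m ≠ 0 := pow_ne_zero _ two_ne
  have key : (2 : ZMod 5) ^ m = 1 := by
    have h1 : (2 : ZMod 5) ^ m * ((2 : ZMod 5) ^ m - 1) = 0 := by
      rw [mul_sub, mul_one]; exact hz
    rcases mul_eq_zero.mp h1 with h | h
    · exact absurd h hne
    · exact sub_eq_zero.mp h
  have h4 : (2 : ZMod 5) ^ 4 = 1 := two_pow_four
  have hmod : (2 : ZMod 5) ^ (m % 4) = 1 := by
    have e : (2 : ZMod 5) ^ m = (2 : ZMod 5) ^ (4 * (m / 4) + m % 4) := by rw [Nat.div_add_mod]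
    rw [pow_add, pow_mul, h4, one_pow, one_mul] at e
    rw [← e]; exact key
  have hr : m % 4 < 4 := Nat.mod_lt _ (by norm_num)
  have h0 : m % 4 = 0 := by
    generalize m % 4 = r at hmod hr
    interval_cases r
    · rfl
    · exact absurd hmod two_pow_one
    · exact absurd hmod two_pow_two
    · exact absurd hmod two_pow_three
  exact Nat.dvd_of_mod_eq_zero h0

end Cfsg.Agent.S2881
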