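import Cfsg.Statements.S2882
import Cfsg.Agent.Helper28.Syl2
import Cfsg.Agent.Helper28.M24Data

set_option autoImplicit false
open Cfsg

namespace Cfsg.Agent.S2882

open Cfsg.Agent.Helper28 Cfsg.Agent.Helper28.Golay

theorem fac2 : (244823040 : ℕ).factorization 2 = 10 := by
  have e : (244823040 : ℕ) = 2 ^ 10 * 239085 := by norm_num
  rw [e, Nat.factorization_mul (by norm_num) (by norm_num), Finsupp.add_apply,
    Nat.Prime.factorization_pow Nat.prime_two, Finsupp.single_eq_same,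
    Nat.factorization_eq_zero_of_not_dvd (by norm_num)]

theorem normB : Subgroup.normalizer ((SylB.subgroupOf Cfsg.M24 : Subgroup ↥Cfsg.M24) :
    Set ↥Cfsg.M24) = SylB.subgroupOf Cfsg.M24 := by
  have hle : SylB ≤ Cfsg.M24 := fun g hg => hg.1
  refine le_antisymm ?_ Subgroup.le_normalizer
  intro x hx
  rw [Subgroup.mem_set_normalizer_iff] at hx
  rw [Subgroup.mem_subgroupOf]
  have key : ∀ c : ↥Cfsg.M24, (c : Equiv.Perm Cfsg.GolayPt) ∈ SylB ↔
      (x : Equiv.Perm Cfsg.GolayPt) * c * (x : Equiv.Perm Cfsg.GolayPt)⁻¹ ∈ SylB := by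
    intro c
    have h := hx c
    rw [SetLike.mem_coe, SetLike.mem_coe, Subgroup.mem_subgroupOf, Subgroup.mem_subgroupOf,
      Subgroup.coe_mul, Subgroup.coe_mul, Subgroup.coe_inv] at h
    exact h
  refine Syl_norm x.1 x.2 fun b => ?_
  constructor
  · intro hb
    exact (key ⟨b, hle hb⟩).1 hb
  · intro hb
    have hbM : b ∈ Cfsg.M24 := by
      have h1 : (x.1)⁻¹ * (x.1 * b * (x.1)⁻¹) * x.1 ∈ Cfsg.M24 :=
        mul_mem (mul_mem (inv_mem x.2) (hle hb)) x.2
      have e : (x.1)⁻¹ * (x.1 * b * (x.1)⁻¹) * x.1 = b := by group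
      rwa [e] at h1
    exact (key ⟨b, hbM⟩).2 hb

/-- In the Mathieu group of degree 24 (realised as the automorphism group of the extended binary Golay code) every Sylow 2-subgroup is self-normalizing. -/
theorem result (S : Sylow 2 ↥Cfsg.M24) : Subgroup.normalizer ((S : Subgroup ↥Cfsg.M24) : Set ↥Cfsg.M24) = (S : Subgroup ↥Cfsg.M24) := by
  classical
  have : Fact (Nat.Prime 2) := ⟨Nat.prime_two⟩
  have hle : SylB ≤ Cfsg.M24 := fun g hg => hg.1
  have cB : Nat.card ↥(SylB.subgroupOf Cfsg.M24) = 2 ^ (Nat.card ↥Cfsg.M24).factorization 2 := by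
    rw [Nat.card_congr (Subgroup.subgroupOfEquivOfLe hle).toEquiv, card_Syl, card_M24, fac2]
    norm_num
  obtain ⟨P0, hP0⟩ : ∃ P0 : Sylow 2 ↥Cfsg.M24,
      (P0 : Subgroup ↥Cfsg.M24) = SylB.subgroupOf Cfsg.M24 := ⟨Sylow.ofCard _ cB, rfl⟩
  have hN0 : Subgroup.normalizer ((P0 : Subgroup ↥Cfsg.M24) : Set ↥Cfsg.M24) =
      (P0 : Subgroup ↥Cfsg.M24) := by
    rw [hP0]
    exact normB
  have c1 : Nat.card ↥(S : Subgroup ↥Cfsg.M24) = 2 ^ (Nat.card ↥Cfsg.M24).factorization 2 :=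
    Sylow.card_eq_multiplicity S
  have c2 : Nat.card ↥(P0 : Subgroup ↥Cfsg.M24) = 2 ^ (Nat.card ↥Cfsg.M24).factorization 2 :=
    Sylow.card_eq_multiplicity P0
  have k1 := Subgroup.card_mul_index (S : Subgroup ↥Cfsg.M24)
  have k2 := Subgroup.card_mul_index (P0 : Subgroup ↥Cfsg.M24)
  have k3 := Subgroup.card_mul_index
    (Subgroup.normalizer ((S : Subgroup ↥Cfsg.M24) : Set ↥Cfsg.M24))
  have hi : (Subgroup.normalizer ((S : Subgroup ↥Cfsg.M24) : Set ↥Cfsg.M24)).index =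
      (S : Subgroup ↥Cfsg.M24).index := by
    have n1 : Nat.card (Sylow 2 ↥Cfsg.M24) =
        (Subgroup.normalizer ((S : Subgroup ↥Cfsg.M24) : Set ↥Cfsg.M24)).index :=
      Sylow.card_eq_index_normalizer S
    have n2 : Nat.card (Sylow 2 ↥Cfsg.M24) =
        (Subgroup.normalizer ((P0 : Subgroup ↥Cfsg.M24) : Set ↥Cfsg.M24)).index :=
      Sylow.card_eq_index_normalizer P0
    rw [← n1, n2, hN0]
    rw [c2, ← c1, ← k1] at k2
    exact Nat.eq_of_mul_eq_mul_left Nat.card_pos k2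
  have hpos : 0 < (S : Subgroup ↥Cfsg.M24).index := by
    rcases Nat.eq_zero_or_pos (S : Subgroup ↥Cfsg.M24).index with h0 | h0
    · rw [h0, mul_zero, card_M24] at k1
      exact absurd k1 (by norm_num)
    · exact h0
  refine (Subgroup.eq_of_le_of_card_ge Subgroup.le_normalizer ?_).symm
  rw [hi, ← k1] at k3
  exact le_of_eq (Nat.eq_of_mul_eq_mul_right hpos k3)

end Cfsg.Agent.S2882
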