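import Cfsg.Statements.S2910
import Cfsg.Agent.Helper14.CoprimeAut
import Cfsg.Agent.Helper14.PElem
import Cfsg.Agent.Helper1.Frobenius
import Cfsg.Agent.Helper16.NPC
import Cfsg.Agent.Helper16.Basic

set_option autoImplicit false
open Cfsg

namespace Cfsg.Agent.S2910

open Cfsg.Agent.Helper14

/-- Let p be an odd prime dividing the order of the finite group G and P a Sylow p-subgroup of G. If Ω₁(P) (generated by the elements of order dividing p) is contained in the centre of G, then G has a normal p-complement. In particular, if G is quasisimple then Ω₁(P) is not central in G. -/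
theorem result {G : Type*} [Group G] [Finite G] {p : ℕ} [Fact p.Prime] (hp : p ≠ 2) (hdiv : p ∣ Nat.card G) (P : Sylow p G) (hZ : Cfsg.omegaOne p (P : Subgroup G) ≤ Subgroup.center G) : Cfsg.HasNormalPComplement p G ∧ ¬ Cfsg.IsQuasisimple G := by
  have hcen : ∀ x : G, x ^ p = 1 → x ∈ Subgroup.center G := by
    intro x hx
    obtain ⟨k, hk⟩ := Cfsg.Agent.Helper16.exists_conj_le_sylow P
      (isPGroup_zpowers_of_pow (p := p) x 1 (by rw [pow_one]; exact hx))
    have h1 : k * x * k⁻¹ ∈ (P : Subgroup G) := hk x (Subgroup.mem_zpowers x)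
    have h2 : (k * x * k⁻¹) ^ p = 1 := by rw [conj_pow, hx, mul_one, mul_inv_cancel]
    have h3 : k * x * k⁻¹ ∈ Subgroup.center G := hZ (Subgroup.subset_closure ⟨h1, h2⟩)
    rw [Subgroup.mem_center_iff] at h3 ⊢
    intro g
    have h5 := h3 (k * g * k⁻¹)
    calc g * x = k⁻¹ * (k * g * k⁻¹ * (k * x * k⁻¹)) * k := by group
      _ = k⁻¹ * (k * x * k⁻¹ * (k * g * k⁻¹)) * k := by rw [h5]
      _ = x * g := by group
  have hL : Cfsg.Agent.Helper1.LocalP p G := by
    intro Q hQ g hg hgp
    rw [Subgroup.mem_centralizer_iff]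
    intro h hh
    have hk : (MulAut.conj g) ^ orderOf g = 1 := by
      rw [← map_pow, pow_orderOf_eq_one, map_one]
    have hinv : ∀ x ∈ Q, (MulAut.conj g) x ∈ Q := by
      intro x hx
      rw [MulAut.conj_apply]
      exact (Subgroup.mem_normalizer_iff.mp hg x).mp hx
    have hfix : ∀ x ∈ Q, x ^ p = 1 → (MulAut.conj g) x = x := by
      intro x _ hx
      rw [MulAut.conj_apply]
      have h1 := Subgroup.mem_center_iff.mp (hcen x hx) g
      rw [h1, mul_inv_cancel_right]
    have key := aut_fix_of_fix_order_p hp (MulAut.conj g) (orderOf g) hk hgp _ Q rfl hQ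
      hinv hfix h hh
    rw [MulAut.conj_apply] at key
    calc h * g = g * h * g⁻¹ * g := by rw [key]
      _ = g * h := by group
  have hnpc := Cfsg.Agent.Helper1.npc_of_local hL
  refine ⟨hnpc, ?_⟩
  rintro ⟨hperf, -⟩
  obtain ⟨N, k, hN, hNcop, hNidx⟩ := Cfsg.Agent.Helper16.npc_exists hnpc
  have hk0 : k ≠ 0 := by
    rintro rfl
    rw [pow_zero, Subgroup.index_eq_one] at hNidx
    rw [hNidx, Subgroup.card_top] at hNcop
    exact (Fact.out : p.Prime).one_lt.ne' (Nat.Coprime.eq_one_of_dvd hNcop.symm hdiv)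
  have hQp : IsPGroup p (G ⧸ N) :=
    IsPGroup.of_card (n := k) (by rw [← Subgroup.index_eq_card, hNidx])
  haveI : Nontrivial (G ⧸ N) := by
    rw [← Finite.one_lt_card_iff_nontrivial, ← Subgroup.index_eq_card, hNidx]
    exact Nat.one_lt_pow hk0 (Fact.out : p.Prime).one_lt
  haveI := hperf
  exact Group.IsPerfect.not_isNilpotent (G ⧸ N) hQp.isNilpotent

end Cfsg.Agent.S2910
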