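import Cfsg.Statements.S2968
import Cfsg.Agent.Helper15.Iso

set_option autoImplicit false
open Cfsg

namespace Cfsg.Agent.S2968

/-- Let G be a finite group, p a prime, P a Sylow p-subgroup of G and x ∈ P an element of p-power order which is isolated in G (the only conjugate of x commuting with x is x itself). Then x lies in the centre of P, and the subgroup generated by x is both strongly closed and weakly closed in P with respect to G. -/
theorem result {G : Type*} [Group G] [Finite G] {p : ℕ} [Fact p.Prime] (P : Sylow p G) (x : G) (hxP : x ∈ (P : Subgroup G)) (hx : ∃ k : ℕ, orderOf x = p ^ k) (hiso : Cfsg.IsIsolated x) : x ∈ (P : Subgroup G) ⊓ Subgroup.centralizer ((P : Subgroup G) : Set G) ∧ Cfsg.IsStronglyClosed (Subgroup.zpowers x) (P : Subgroup G) ∧ Cfsg.IsWeaklyClosed (Subgroup.zpowers x) (P : Subgroup G) := by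
  have hA := Cfsg.Agent.Helper15.isolated_comm_of_pgroup hiso (P : Subgroup G) P.isPGroup' hxP
  refine ⟨Subgroup.mem_inf.mpr ⟨hxP, ?_⟩, ⟨?_, ?_⟩, ⟨?_, ?_⟩⟩
  · rw [Subgroup.mem_centralizer_iff]
    intro r hr
    have := hA hr
    rw [Subgroup.mem_centralizer_iff] at this
    exact (this x (Set.mem_singleton x)).symm
  · rw [Subgroup.zpowers_le]; exact hxP
  · intro y hy g hg
    rw [Cfsg.Agent.Helper15.isolated_fusion_pow P hxP hx hiso y hy g hg]
    exact hy
  · rw [Subgroup.zpowers_le]; exact hxP
  · intro g hg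
    have h1 : g * x * g⁻¹ ∈ (P : Subgroup G) :=
      hg ⟨x, Subgroup.mem_zpowers x, by simp [MulAut.conj_apply]⟩
    have h2 := Cfsg.Agent.Helper15.isolated_fusion_pow P hxP hx hiso x (Subgroup.mem_zpowers x) g h1
    rw [MonoidHom.map_zpowers]
    simp only [MulEquiv.toMonoidHom_eq_coe, MonoidHom.coe_coe, MulAut.conj_apply]
    rw [h2]

end Cfsg.Agent.S2968
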