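import Cfsg.Statements.S2970
import Cfsg.Agent.Helper23.OddPGroup

set_option autoImplicit false
open Cfsg

namespace Cfsg.Agent.S2970

open Cfsg.Agent.Helper23

/-- An isolated element is central in every `p`-subgroup containing it. -/
theorem commute_of_mem_pgroup {G : Type*} [Group G] [Finite G] {p : ℕ} [Fact p.Prime] {x : G}
    (hiso : Cfsg.IsIsolated x) (S : Subgroup G) (hS : IsPGroup p S) (hxS : x ∈ S) :
    ∀ s ∈ S, s * x = x * s := by
  have hnil : Group.IsNilpotent S := hS.isNilpotent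
  have hNC : NormalizerCondition S := Group.normalizerCondition_of_isNilpotent
  by_cases hCtop : Subgroup.centralizer {(⟨x, hxS⟩ : S)} = ⊤
  · intro s hs
    have h1 : (⟨s, hs⟩ : S) ∈ Subgroup.centralizer {(⟨x, hxS⟩ : S)} := by rw [hCtop]; trivial
    rw [Subgroup.mem_centralizer_singleton_iff] at h1
    exact congrArg Subtype.val h1
  · exfalso
    have hlt : Subgroup.centralizer {(⟨x, hxS⟩ : S)} < ⊤ := lt_top_iff_ne_top.2 hCtop
    have hlt2 := hNC _ hlt
    obtain ⟨s, hsN, hsC⟩ := SetLike.exists_of_lt hlt2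
    apply hsC
    have hx'C : (⟨x, hxS⟩ : S) ∈ Subgroup.centralizer {(⟨x, hxS⟩ : S)} := by
      rw [Subgroup.mem_centralizer_singleton_iff]
    have h1 : s * ⟨x, hxS⟩ * s⁻¹ ∈ Subgroup.centralizer {(⟨x, hxS⟩ : S)} :=
      (Subgroup.mem_normalizer_iff.1 hsN _).1 hx'C
    rw [Subgroup.mem_centralizer_singleton_iff] at h1
    have h2 : Commute x ((s : G) * x * (s : G)⁻¹) := (congrArg Subtype.val h1).symm
    have h3 := hiso (s : G) h2
    rw [Subgroup.mem_centralizer_singleton_iff]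
    apply Subtype.ext
    exact mul_inv_eq_iff_eq_mul.1 h3

theorem isolated_quotient {G : Type*} [Group G] [Finite G] {p : ℕ} [Fact p.Prime] (x : G)
    (hx : ∃ k : ℕ, orderOf x = p ^ k) (hiso : Cfsg.IsIsolated x) (N : Subgroup G) [N.Normal] :
    Cfsg.IsIsolated (QuotientGroup.mk x : G ⧸ N) := by
  intro gb hcomm
  obtain ⟨g, rfl⟩ := QuotientGroup.mk_surjective gb
  obtain ⟨k, hk⟩ := hx
  have hxk : x ^ p ^ k = 1 := by rw [← hk]; exact pow_orderOf_eq_one x
  have hyk : (g * x * g⁻¹) ^ p ^ k = 1 := by rw [conj_pow, hxk, mul_one, mul_inv_cancel]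
  have hmemH : ∀ h : G, h ∈ (Subgroup.centralizer
      {(QuotientGroup.mk' N (g * x * g⁻¹))}).comap (QuotientGroup.mk' N) ↔
      QuotientGroup.mk' N h * QuotientGroup.mk' N (g * x * g⁻¹) =
        QuotientGroup.mk' N (g * x * g⁻¹) * QuotientGroup.mk' N h := by
    intro h
    rw [Subgroup.mem_comap, Subgroup.mem_centralizer_singleton_iff]
  have hxH : x ∈ (Subgroup.centralizer
      {(QuotientGroup.mk' N (g * x * g⁻¹))}).comap (QuotientGroup.mk' N) := by
    rw [hmemH]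
    exact hcomm.eq
  have hyH : g * x * g⁻¹ ∈ (Subgroup.centralizer
      {(QuotientGroup.mk' N (g * x * g⁻¹))}).comap (QuotientGroup.mk' N) := by
    rw [hmemH]
  obtain ⟨H, hH⟩ : ∃ H : Subgroup G, H = (Subgroup.centralizer
      {(QuotientGroup.mk' N (g * x * g⁻¹))}).comap (QuotientGroup.mk' N) := ⟨_, rfl⟩
  rw [← hH] at hxH hyH
  have hxp : IsPGroup p (Subgroup.zpowers (⟨x, hxH⟩ : H)) :=
    isPGroup_zpowers_of_pow _ k (Subtype.ext (by simpa using hxk))
  have hyp : IsPGroup p (Subgroup.zpowers (⟨g * x * g⁻¹, hyH⟩ : H)) :=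
    isPGroup_zpowers_of_pow _ k (Subtype.ext (by simpa using hyk))
  obtain ⟨P, hP⟩ := hxp.exists_le_sylow
  obtain ⟨Q, hQ⟩ := hyp.exists_le_sylow
  obtain ⟨h, hh⟩ := MulAction.exists_smul_eq H Q P
  have hx'P : (⟨x, hxH⟩ : H) ∈ (P : Subgroup H) := hP (Subgroup.mem_zpowers _)
  have hy'Q : (⟨g * x * g⁻¹, hyH⟩ : H) ∈ (Q : Subgroup H) := hQ (Subgroup.mem_zpowers _)
  have hy'P : h * ⟨g * x * g⁻¹, hyH⟩ * h⁻¹ ∈ (P : Subgroup H) := by
    rw [← hh, Sylow.smul_def, Sylow.pointwise_smul_def,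
      Subgroup.mem_pointwise_smul_iff_inv_smul_mem, MulAut.smul_def, MulAut.conj_inv_apply]
    have e : h⁻¹ * (h * ⟨g * x * g⁻¹, hyH⟩ * h⁻¹) * h = ⟨g * x * g⁻¹, hyH⟩ := by group
    rw [e]; exact hy'Q
  have hSp : IsPGroup p ((P : Subgroup H).map H.subtype) := P.isPGroup'.map H.subtype
  have hxS : x ∈ (P : Subgroup H).map H.subtype := ⟨⟨x, hxH⟩, hx'P, rfl⟩
  have hyS : (h : G) * (g * x * g⁻¹) * (h : G)⁻¹ ∈ (P : Subgroup H).map H.subtype :=
    ⟨_, hy'P, by simp⟩
  have hcx := commute_of_mem_pgroup hiso _ hSp hxS _ hyS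
  have e : (h : G) * (g * x * g⁻¹) * (h : G)⁻¹ = ((h : G) * g) * x * ((h : G) * g)⁻¹ := by
    group
  rw [e] at hcx
  have h3 := hiso ((h : G) * g) hcx.symm
  have hhH : QuotientGroup.mk' N (h : G) * QuotientGroup.mk' N (g * x * g⁻¹) =
      QuotientGroup.mk' N (g * x * g⁻¹) * QuotientGroup.mk' N (h : G) := by
    have hHmem : ∀ u : G, u ∈ H → QuotientGroup.mk' N u * QuotientGroup.mk' N (g * x * g⁻¹) =
        QuotientGroup.mk' N (g * x * g⁻¹) * QuotientGroup.mk' N u := by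
      intro u hu
      rw [hH] at hu
      exact (hmemH u).1 hu
    exact hHmem (h : G) h.2
  have h4 : QuotientGroup.mk' N ((h : G) * g * x * ((h : G) * g)⁻¹) =
      QuotientGroup.mk' N (g * x * g⁻¹) := by
    rw [← e, map_mul, map_mul, hhH, map_inv, mul_inv_cancel_right]
  rw [h3] at h4
  exact h4.symm

theorem normalizer_le_centralizer {G : Type*} [Group G] [Finite G] {p : ℕ} [Fact p.Prime]
    (x : G) (hiso : Cfsg.IsIsolated x) (hx1 : x ≠ 1) (P : Sylow p G) (hxP : x ∈ (P : Subgroup G))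
    (hcyc : IsCyclic ↥(P : Subgroup G)) :
    Subgroup.normalizer ((P : Subgroup G) : Set G) ≤
      Subgroup.centralizer ((P : Subgroup G) : Set G) := by
  have hp : p.Prime := Fact.out
  obtain ⟨a', ha'⟩ := hcyc.exists_generator
  have haP : (a' : G) ∈ (P : Subgroup G) := a'.2
  have hgen : ∀ b ∈ (P : Subgroup G), b ∈ Subgroup.zpowers (a' : G) := by
    intro b hb
    obtain ⟨i, hi⟩ := Subgroup.mem_zpowers_iff.1 (ha' ⟨b, hb⟩)
    refine Subgroup.mem_zpowers_iff.2 ⟨i, ?_⟩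
    have := congrArg Subtype.val hi
    simpa using this
  obtain ⟨a, haa⟩ : ∃ a : G, a = (a' : G) := ⟨_, rfl⟩
  rw [← haa] at haP hgen
  have hPa : ∀ b ∈ (P : Subgroup G), Commute b a := by
    intro b hb
    obtain ⟨i, rfl⟩ := Subgroup.mem_zpowers_iff.1 (hgen b hb)
    exact (Commute.refl a).zpow_left i
  have hPP : ∀ b ∈ (P : Subgroup G), ∀ c ∈ (P : Subgroup G), Commute b c := by
    intro b hb c hc
    obtain ⟨i, rfl⟩ := Subgroup.mem_zpowers_iff.1 (hgen b hb)
    obtain ⟨j, rfl⟩ := Subgroup.mem_zpowers_iff.1 (hgen c hc)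
    exact (Commute.refl a).zpow_zpow i j
  -- the order of `a`
  obtain ⟨n, hn⟩ : ∃ n : ℕ, orderOf a = p ^ n := by
    obtain ⟨n, hn⟩ := (IsPGroup.iff_orderOf.1 P.isPGroup') a'
    exact ⟨n, by rw [haa, Subgroup.orderOf_coe]; exact hn⟩
  obtain ⟨i, hi⟩ := (Submonoid.mem_powers_iff _ _).1
    (mem_powers_iff_mem_zpowers.2 (hgen x hxP))
  have hni : ¬ p ^ n ∣ i := by
    intro h
    apply hx1
    rw [← hi]
    exact orderOf_dvd_iff_pow_eq_one.1 (hn ▸ h)
  have hn0 : n ≠ 0 := by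
    rintro rfl
    exact hni (by rw [pow_zero]; exact one_dvd i)
  obtain ⟨k, rfl⟩ := Nat.exists_eq_succ_of_ne_zero hn0
  have key : ∀ g ∈ Subgroup.normalizer ((P : Subgroup G) : Set G),
      g ∈ Subgroup.centralizer ({a} : Set G) := by
    intro g hg
    have hgx : g * x * g⁻¹ = x := by
      have h1 : g * x * g⁻¹ ∈ (P : Subgroup G) := (Subgroup.mem_normalizer_iff.1 hg x).1 hxP
      exact hiso g (hPP x hxP _ h1)
    have hga : g * a * g⁻¹ ∈ (P : Subgroup G) := (Subgroup.mem_normalizer_iff.1 hg a).1 haP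
    obtain ⟨m₀, hm₀⟩ := (Submonoid.mem_powers_iff _ _).1
      (mem_powers_iff_mem_zpowers.2 (hgen _ hga))
    have hm : a ^ (m₀ + p ^ (k + 1)) = g * a * g⁻¹ := by
      rw [pow_add, hm₀, ← hn, pow_orderOf_eq_one, mul_one]
    have hm1 : 1 ≤ m₀ + p ^ (k + 1) := by
      have := pow_pos hp.pos (k + 1)
      omega
    obtain ⟨m, hmm⟩ : ∃ m : ℕ, m = m₀ + p ^ (k + 1) := ⟨_, rfl⟩
    rw [← hmm] at hm hm1
    have h4 : a ^ (m * i) = a ^ i := by
      rw [pow_mul, hm, conj_pow, hi, hgx]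
    have h5 : i ≡ m * i [MOD p ^ (k + 1)] := by
      rw [← hn]; exact (pow_eq_pow_iff_modEq.1 h4).symm
    have h6 : p ^ (k + 1) ∣ (m - 1) * i := by
      have h7 : i ≤ m * i := Nat.le_mul_of_pos_left i hm1
      have h8 := (Nat.modEq_iff_dvd' h7).1 h5
      rwa [← Nat.sub_one_mul] at h8
    have hpm : p ∣ m - 1 := by
      by_contra hpm
      have hcop : Nat.Coprime (p ^ (k + 1)) (m - 1) :=
        Nat.Coprime.pow_left (k + 1) ((Nat.Prime.coprime_iff_not_dvd hp).2 hpm)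
      exact hni (hcop.dvd_of_dvd_mul_left h6)
    have hM : p ^ (k + 1) ∣ m ^ p ^ k - 1 := by
      have h9 : (p : ℤ) ∣ (m : ℤ) - 1 := by
        have h10 : ((m - 1 : ℕ) : ℤ) = (m : ℤ) - 1 := by
          rw [Nat.cast_sub hm1]; simp
        rw [← h10]
        exact Int.natCast_dvd_natCast.2 hpm
      have h11 := dvd_sub_pow_of_dvd_sub h9 k
      rw [one_pow] at h11
      have hM1 : 1 ≤ m ^ p ^ k := Nat.one_le_pow _ _ hm1
      have h12 : ((m ^ p ^ k - 1 : ℕ) : ℤ) = (m : ℤ) ^ p ^ k - 1 := by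
        rw [Nat.cast_sub hM1]; simp
      rw [← h12] at h11
      exact_mod_cast h11
    have hconj : ∀ r : ℕ, g ^ r * a * (g ^ r)⁻¹ = a ^ (m ^ r) := by
      intro r
      induction r with
      | zero => simp
      | succ r ih =>
        have e1 : g ^ (r + 1) * a * (g ^ (r + 1))⁻¹ = g * (g ^ r * a * (g ^ r)⁻¹) * g⁻¹ := by
          rw [pow_succ']; group
        rw [e1, ih, ← conj_pow, ← hm, ← pow_mul, ← pow_succ']
    have h13 : g ^ p ^ k * a * (g ^ p ^ k)⁻¹ = a := by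
      rw [hconj]
      obtain ⟨t, ht⟩ := hM
      have hM1 : 1 ≤ m ^ p ^ k := Nat.one_le_pow _ _ hm1
      have h14 : m ^ p ^ k = 1 + p ^ (k + 1) * t := by omega
      rw [h14, pow_add, pow_one, pow_mul, ← hn, pow_orderOf_eq_one, one_pow, mul_one]
    have h15 : g ^ p ^ k ∈ Subgroup.centralizer ({a} : Set G) := by
      rw [Subgroup.mem_centralizer_singleton_iff]
      exact mul_inv_eq_iff_eq_mul.1 h13
    -- `g ^ s ∈ P`
    have hnn : ((P : Subgroup G).subgroupOf
        (Subgroup.normalizer ((P : Subgroup G) : Set G))).Normal :=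
      Subgroup.normal_in_normalizer
    have h16 := Subgroup.pow_index_mem ((P : Subgroup G).subgroupOf
      (Subgroup.normalizer ((P : Subgroup G) : Set G))) ⟨g, hg⟩
    have h17 : g ^ ((P : Subgroup G).relIndex (Subgroup.normalizer ((P : Subgroup G) : Set G)))
        ∈ (P : Subgroup G) := by
      rw [Subgroup.mem_subgroupOf] at h16
      exact h16
    have h18 : ¬ p ∣ (P : Subgroup G).relIndex (Subgroup.normalizer ((P : Subgroup G) : Set G)) :=
      fun h => P.not_dvd_index (h.trans (Subgroup.relIndex_dvd_index_of_le Subgroup.le_normalizer))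
    have h19 : ((P : Subgroup G).relIndex
        (Subgroup.normalizer ((P : Subgroup G) : Set G))).Coprime (p ^ k) :=
      Nat.Coprime.pow_right k ((Nat.Prime.coprime_iff_not_dvd hp).2 h18).symm
    have h20 : g ^ ((P : Subgroup G).relIndex (Subgroup.normalizer ((P : Subgroup G) : Set G)))
        ∈ Subgroup.centralizer ({a} : Set G) := by
      rw [Subgroup.mem_centralizer_singleton_iff]
      exact (hPa _ h17).eq
    exact mem_of_pow_mem_of_coprime h19 h20 h15
  intro g hg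
  rw [Subgroup.mem_centralizer_iff]
  intro b hb
  obtain ⟨j, rfl⟩ := Subgroup.mem_zpowers_iff.1 (hgen b hb)
  have h1 : Commute g a := Subgroup.mem_centralizer_singleton_iff.1 (key g hg)
  exact (h1.zpow_right j).symm.eq

/-- Let G be a finite group, p a prime and x ∈ G an element of p-power order which is isolated in G. Then the image of x in any quotient G ⧸ N is isolated in G ⧸ N; and if x ≠ 1 and the Sylow p-subgroups of G are cyclic, then G has a normal p-complement. -/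
theorem result {G : Type*} [Group G] [Finite G] {p : ℕ} [Fact p.Prime] (x : G) (hx : ∃ k : ℕ, orderOf x = p ^ k) (hiso : Cfsg.IsIsolated x) : (∀ (N : Subgroup G) [N.Normal], Cfsg.IsIsolated (QuotientGroup.mk x : G ⧸ N)) ∧ (x ≠ 1 → (∀ P : Sylow p G, IsCyclic ↥(P : Subgroup G)) → Cfsg.HasNormalPComplement p G) := by
  refine ⟨fun N _ => isolated_quotient x hx hiso N, fun hx1 hcyc => ?_⟩
  obtain ⟨k, hk⟩ := hx
  have hxk : x ^ p ^ k = 1 := by rw [← hk]; exact pow_orderOf_eq_one x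
  obtain ⟨P, hP⟩ := (isPGroup_zpowers_of_pow x k hxk).exists_le_sylow
  have hxP : x ∈ (P : Subgroup G) := hP (Subgroup.mem_zpowers x)
  have hNC := normalizer_le_centralizer x hiso hx1 P hxP (hcyc P)
  exact ⟨P, (MonoidHom.transferSylow P hNC).ker, MonoidHom.normal_ker _,
    MonoidHom.ker_transferSylow_isComplement' P hNC⟩

end Cfsg.Agent.S2970
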