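import Cfsg.Statements.S2971
import Cfsg.Agent.Helper23.OddPGroup
import Cfsg.Agent.Helper23.PSolv
import Cfsg.Agent.S2970

set_option autoImplicit false
open Cfsg

namespace Cfsg.Agent.S2971

open Cfsg.Agent.Helper23

theorem comm_of_isCyclic {H : Type*} [Group H] [hc : IsCyclic H] (b c : H) : b * c = c * b := by
  obtain ⟨a, ha⟩ := hc.exists_generator
  obtain ⟨i, rfl⟩ := Subgroup.mem_zpowers_iff.1 (ha b)
  obtain ⟨j, rfl⟩ := Subgroup.mem_zpowers_iff.1 (ha c)
  exact ((Commute.refl a).zpow_zpow i j).eq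

/-- If `G` has `p`-rank at most one and `p` is odd, the Sylow `p`-subgroups of `G` are cyclic. -/
theorem isCyclic_sylow_of_pRankLE {G : Type*} [Group G] [Finite G] {p : ℕ} [Fact p.Prime]
    (hp : p ≠ 2) (hrk : Cfsg.PRankLE p 1 G) (P : Sylow p G) : IsCyclic ↥(P : Subgroup G) := by
  apply isCyclic_of_forall_elementary_card_le hp P.isPGroup'
  intro A hA hAp
  have h1 := hrk (A.map (P : Subgroup G).subtype) ?_ ?_
  · rw [pow_one, Subgroup.card_map_of_injective (Subgroup.subtype_injective _)] at h1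
    exact h1
  · refine ⟨⟨?_⟩⟩
    rintro ⟨_, a, ha, rfl⟩ ⟨_, b, hb, rfl⟩
    apply Subtype.ext
    show (P : Subgroup G).subtype a * (P : Subgroup G).subtype b =
      (P : Subgroup G).subtype b * (P : Subgroup G).subtype a
    rw [← map_mul, ← map_mul]
    exact congrArg _ (congrArg Subtype.val (hA.is_comm.comm ⟨a, ha⟩ ⟨b, hb⟩))
  · rintro _ ⟨a, ha, rfl⟩
    rw [← map_pow, hAp a ha, map_one]

/-- Let G be a finite group and p an odd prime such that G has p-rank at most 1 (no elementary abelian subgroup of order p²). If x ∈ G is an isolated element of order p, then x is central modulo the largest normal subgroup of G of order prime to p. -/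
theorem result {G : Type*} [Group G] [Finite G] {p : ℕ} [Fact p.Prime] (hp : p ≠ 2) (hrk : Cfsg.PRankLE p 1 G) (x : G) (hx : orderOf x = p) (hiso : Cfsg.IsIsolated x) : Cfsg.InZStar p x := by
  have hpp : p.Prime := Fact.out
  have hcyc : ∀ P : Sylow p G, IsCyclic ↥(P : Subgroup G) :=
    fun P => isCyclic_sylow_of_pRankLE hp hrk P
  have hx1 : x ≠ 1 := by
    rintro rfl
    rw [orderOf_one] at hx
    exact hpp.one_lt.ne hx
  obtain ⟨P, K, hKn, hKP⟩ :=
    (Cfsg.Agent.S2970.result x ⟨1, by rw [hx, pow_one]⟩ hiso).2 hx1 hcyc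
  have hKcop : (Nat.card K).Coprime p := by
    have h1 : ¬ p ∣ Nat.card K := by
      rw [← hKP.index_eq_card]; exact P.not_dvd_index
    exact ((Nat.Prime.coprime_iff_not_dvd hpp).2 h1).symm
  have hKle : K ≤ pPrimeCore p G := le_pPrimeCore hKn hKcop
  intro g
  apply hKle
  have htop : K ⊔ (P : Subgroup G) = ⊤ := hKP.sup_eq_top
  have hdec : ∀ y : G, ∃ u ∈ (P : Subgroup G),
      QuotientGroup.mk' K y = QuotientGroup.mk' K u := by
    intro y
    have hy : y ∈ K ⊔ (P : Subgroup G) := by rw [htop]; trivial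
    obtain ⟨k, hk, u, hu, rfl⟩ := Subgroup.mem_sup_of_normal_left.1 hy
    refine ⟨u, hu, ?_⟩
    have hk1 : QuotientGroup.mk' K k = 1 := by
      rw [QuotientGroup.mk'_apply, QuotientGroup.eq_one_iff]; exact hk
    rw [map_mul, hk1, one_mul]
  obtain ⟨u₁, hu₁, e₁⟩ := hdec g
  obtain ⟨u₂, hu₂, e₂⟩ := hdec x
  have hcomm : u₁ * u₂ = u₂ * u₁ :=
    congrArg Subtype.val (comm_of_isCyclic (hc := hcyc P) ⟨u₁, hu₁⟩ ⟨u₂, hu₂⟩)
  have h1 : QuotientGroup.mk' K (g * x * g⁻¹ * x⁻¹) = 1 := by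
    rw [map_mul, map_mul, map_mul, map_inv, map_inv, e₁, e₂, ← map_mul, hcomm, map_mul]
    group
  rw [QuotientGroup.mk'_apply, QuotientGroup.eq_one_iff] at h1
  exact h1

end Cfsg.Agent.S2971
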