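-- S2972: proof by helper7
import Cfsg.Statements.S2972
import Mathlib
import Cfsg.Agent.S2970
import Cfsg.Agent.Helper23.PSolv
import Cfsg.Agent.Helper7.PComp
import Cfsg.Agent.Helper7.PLocal
import Cfsg.Agent.Helper7.PLayer
import Cfsg.Agent.Helper7.Large

set_option autoImplicit false
open Cfsg

namespace Cfsg.Agent.S2972

open scoped commutatorElement

theorem isPGroup_zpowers_of_pow {G : Type*} [Group G] {p k : ℕ} {y : G} (h : y ^ p ^ k = 1) :
    IsPGroup p ↥(Subgroup.zpowers y) := by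
  rintro ⟨g, hg⟩
  obtain ⟨i, rfl⟩ := Subgroup.mem_zpowers_iff.mp hg
  refine ⟨k, ?_⟩
  apply Subtype.ext
  rw [Subgroup.coe_pow, Subgroup.coe_one]
  show (y ^ i) ^ p ^ k = 1
  rw [← zpow_natCast, ← zpow_mul, mul_comm i _, zpow_mul, zpow_natCast, h, one_zpow]

theorem central_split {G : Type*} [Group G] [Finite G] {p : ℕ} [Fact p.Prime]
    (hO : Cfsg.pPrimeCore p G = ⊥) (L N₁ : Subgroup G) (hLn : L.Normal) (hNL : N₁ ≤ L)
    (hcent : ∀ n ∈ N₁, ∀ g : G, g * n = n * g) (hcard : Nat.card N₁ = p)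
    (hrel : (N₁.relIndex L).Coprime p) : L ≤ N₁ := by
  have hp : p.Prime := Fact.out
  haveI hN'n : (N₁.subgroupOf L).Normal := by
    refine ⟨fun n hn g => ?_⟩
    have h1 : g * n = n * g := by
      apply Subtype.ext
      rw [Subgroup.coe_mul, Subgroup.coe_mul]
      exact hcent _ (Subgroup.mem_subgroupOf.mp hn) _
    rw [h1, mul_inv_cancel_right]
    exact hn
  have hcN' : Nat.card ↥(N₁.subgroupOf L) = p := by
    rw [← hcard]
    exact Nat.card_congr (Subgroup.subgroupOfEquivOfLe hNL).toEquiv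
  have hcop : (Nat.card ↥(N₁.subgroupOf L)).Coprime (N₁.subgroupOf L).index := by
    rw [hcN']
    exact hrel.symm
  obtain ⟨H₀, hc⟩ := Subgroup.exists_right_complement'_of_coprime hcop
  have hm : (Nat.card ↥H₀).Coprime p := by
    have h1 : (N₁.subgroupOf L).index = Nat.card ↥H₀ := hc.symm.index_eq_card
    rw [← h1]
    exact hrel
  have hpow : ∀ h ∈ H₀, h ^ Nat.card ↥H₀ = 1 := by
    intro h hh
    have h1 : (⟨h, hh⟩ : ↥H₀) ^ Nat.card ↥H₀ = 1 := pow_card_eq_one'
    have h2 := congrArg Subtype.val h1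
    rwa [Subgroup.coe_pow, Subgroup.coe_one] at h2
  have hmem : ∀ y : ↥L, y ^ Nat.card ↥H₀ = 1 → y ∈ H₀ := by
    intro y hy
    obtain ⟨⟨⟨n, hn⟩, ⟨h, hh⟩⟩, hnh⟩ := hc.2 y
    have hnh' : n * h = y := hnh
    have hcomm : Commute n h := by
      show n * h = h * n
      apply Subtype.ext
      rw [Subgroup.coe_mul, Subgroup.coe_mul]
      exact (hcent _ (Subgroup.mem_subgroupOf.mp hn) _).symm
    have h1 : n ^ Nat.card ↥H₀ = 1 := by
      have h2 := hcomm.mul_pow (Nat.card ↥H₀)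
      rw [hnh', hy, hpow h hh, mul_one] at h2
      exact h2.symm
    have h3 : n ^ p = 1 := by
      have h4 : (⟨n, hn⟩ : ↥(N₁.subgroupOf L)) ^ Nat.card ↥(N₁.subgroupOf L) = 1 :=
        pow_card_eq_one'
      have h5 := congrArg Subtype.val h4
      rw [Subgroup.coe_pow, Subgroup.coe_one, hcN'] at h5
      exact h5
    have h6 : n = 1 := by
      have h7 : orderOf n ∣ Nat.gcd (Nat.card ↥H₀) p :=
        Nat.dvd_gcd (orderOf_dvd_of_pow_eq_one h1) (orderOf_dvd_of_pow_eq_one h3)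
      have h8 : Nat.gcd (Nat.card ↥H₀) p = 1 := hm
      rw [h8, Nat.dvd_one] at h7
      exact orderOf_eq_one_iff.mp h7
    rw [← hnh', h6, one_mul]
    exact hh
  have hKn : (H₀.map L.subtype).Normal := by
    refine ⟨fun y hy g => ?_⟩
    obtain ⟨h, hh, rfl⟩ := hy
    have hgL : g * (h : G) * g⁻¹ ∈ L := hLn.conj_mem _ h.2 g
    refine ⟨⟨_, hgL⟩, hmem _ ?_, rfl⟩
    have e := congrArg Subtype.val (hpow h hh)
    rw [Subgroup.coe_pow, Subgroup.coe_one] at e
    apply Subtype.ext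
    rw [Subgroup.coe_pow, Subgroup.coe_one]
    show (g * (h : G) * g⁻¹) ^ Nat.card ↥H₀ = 1
    rw [conj_pow, e, mul_one, mul_inv_cancel]
  have hKle : H₀.map L.subtype ≤ Cfsg.pPrimeCore p G := by
    apply Cfsg.Agent.Helper23.le_pPrimeCore hKn
    have h1 : Nat.card ↥(H₀.map L.subtype) = Nat.card ↥H₀ :=
      Subgroup.card_map_of_injective L.subtype_injective
    rw [h1]
    exact hm
  rw [hO] at hKle
  intro y hy
  obtain ⟨⟨⟨n, hn⟩, ⟨h, hh⟩⟩, hnh⟩ := hc.2 ⟨y, hy⟩
  have hnh' : n * h = ⟨y, hy⟩ := hnh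
  have h1 : (h : G) = 1 := by
    have h2 : (h : G) ∈ H₀.map L.subtype := ⟨h, hh, rfl⟩
    exact Subgroup.mem_bot.mp (hKle h2)
  have h3 : (n : G) * (h : G) = y := by
    have h4 := congrArg Subtype.val hnh'
    rwa [Subgroup.coe_mul] at h4
  rw [h1, mul_one] at h3
  rw [← h3]
  exact Subgroup.mem_subgroupOf.mp hn

theorem core_inf_normal {G : Type*} [Group G] [Finite G] {p : ℕ} [Fact p.Prime]
    (hO : Cfsg.pPrimeCore p G = ⊥) (N H : Subgroup G) (hNn : N.Normal) (hNH : N ≤ H)
    (w : G) (hw : w ∈ (Cfsg.pPrimeCore p ↥H).map H.subtype) (hwN : w ∈ N) : w = 1 := by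
  have hPn : (Cfsg.pPrimeCore p ↥H).Normal := Cfsg.Agent.Helper23.pPrimeCore_normal_fin p
  have hWn : (((Cfsg.pPrimeCore p ↥H).map H.subtype).subgroupOf N).Normal := by
    refine ⟨fun v hv n => ?_⟩
    rw [Subgroup.mem_subgroupOf] at hv ⊢
    obtain ⟨v₀, hv₀, hv₀'⟩ := hv
    have e : (v : G) = (v₀ : G) := hv₀'.symm
    refine ⟨⟨(n : G), hNH n.2⟩ * v₀ * ⟨(n : G), hNH n.2⟩⁻¹, hPn.conj_mem v₀ hv₀ _, ?_⟩
    show ((n : G) * (v₀ : G) * (n : G)⁻¹) = (n : G) * (v : G) * (n : G)⁻¹
    rw [e]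
  have hWc : (Nat.card ↥(((Cfsg.pPrimeCore p ↥H).map H.subtype).subgroupOf N)).Coprime p := by
    have h1 : Nat.card ↥((((Cfsg.pPrimeCore p ↥H).map H.subtype).subgroupOf N).map N.subtype) =
        Nat.card ↥(((Cfsg.pPrimeCore p ↥H).map H.subtype).subgroupOf N) :=
      Subgroup.card_map_of_injective N.subtype_injective
    have h2 : (((Cfsg.pPrimeCore p ↥H).map H.subtype).subgroupOf N).map N.subtype ≤
        (Cfsg.pPrimeCore p ↥H).map H.subtype := by
      rintro _ ⟨v, hv, rfl⟩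
      exact Subgroup.mem_subgroupOf.mp hv
    have h3 : Nat.card ↥((Cfsg.pPrimeCore p ↥H).map H.subtype) =
        Nat.card ↥(Cfsg.pPrimeCore p ↥H) :=
      Subgroup.card_map_of_injective H.subtype_injective
    have h4 : (Nat.card ↥(Cfsg.pPrimeCore p ↥H)).Coprime p :=
      Cfsg.Agent.Helper23.pPrimeCore_coprime p
    rw [← h1]
    exact Nat.Coprime.coprime_dvd_left (Subgroup.card_dvd_of_le h2) (by rw [h3]; exact h4)
  have h5 := Cfsg.Agent.Helper23.le_pPrimeCore hWn hWc
  rw [Cfsg.Agent.Helper7.pPrimeCore_subnormal_eq p hNn.isSubnormal, hO,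
    Subgroup.bot_subgroupOf] at h5
  have h6 : (⟨w, hwN⟩ : ↥N) ∈ ((Cfsg.pPrimeCore p ↥H).map H.subtype).subgroupOf N :=
    Subgroup.mem_subgroupOf.mpr hw
  have h7 := Subgroup.mem_bot.mp (h5 h6)
  exact congrArg Subtype.val h7


/-- Let G be a finite group, p a prime and x ∈ G an isolated element of order p (the only conjugate of x commuting with x is x) which is not central modulo the largest normal subgroup of order prime to p, while x is central modulo the largest normal subgroup of order prime to p in every proper subgroup containing x, and the image of x is so in every quotient of G by a nontrivial normal subgroup (a minimal counterexample to the Z*_p statement). Then the derived subgroup G' is a non-abelian simple group and G = G'⟨x⟩. -/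
theorem result {G : Type*} [Group G] [Finite G] {p : ℕ} [Fact p.Prime] (x : G) (hx : orderOf x = p) (hiso : Cfsg.IsIsolated x) (hnz : ¬ Cfsg.InZStar p x) (hmin : ∀ (H : Subgroup G) (hxH : x ∈ H), H ≠ ⊤ → Cfsg.InZStar p (⟨x, hxH⟩ : ↥H)) (hquot : ∀ (N : Subgroup G) [N.Normal], N ≠ ⊥ → Cfsg.InZStar p (QuotientGroup.mk x : G ⧸ N)) : IsSimpleGroup ↥(commutator G) ∧ ¬ IsMulCommutative ↥(commutator G) ∧ commutator G ⊔ Subgroup.zpowers x = ⊤ := by
  have hp : p.Prime := Fact.out
  have hxp : x ^ p = 1 := by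
    rw [← hx]; exact pow_orderOf_eq_one x
  have hxpg : IsPGroup p ↥(Subgroup.zpowers x) :=
    isPGroup_zpowers_of_pow (k := 1) (by rw [pow_one]; exact hxp)
  -- Step A
  have hO : Cfsg.pPrimeCore p G = ⊥ := by
    by_contra hne
    haveI : (Cfsg.pPrimeCore p G).Normal := Cfsg.Agent.Helper23.pPrimeCore_normal_fin p
    have h1 := hquot (Cfsg.pPrimeCore p G) hne
    apply hnz
    intro g
    have h2 := h1 (QuotientGroup.mk g)
    rw [Cfsg.Agent.Helper23.pPrimeCore_quotient_pPrimeCore p, Subgroup.mem_bot] at h2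
    have h3 : ((g * x * g⁻¹ * x⁻¹ : G) : G ⧸ Cfsg.pPrimeCore p G) = 1 := by
      rw [QuotientGroup.mk_mul, QuotientGroup.mk_mul, QuotientGroup.mk_mul, QuotientGroup.mk_inv,
        QuotientGroup.mk_inv]
      exact h2
    exact (QuotientGroup.eq_one_iff _).mp h3
  -- Step B
  obtain ⟨g₀, hg₀⟩ : ∃ g₀ : G, g₀ * x * g₀⁻¹ ≠ x := by
    by_contra hcon
    push_neg at hcon
    apply hnz
    intro g
    rw [hcon g, mul_inv_cancel]
    exact Subgroup.one_mem _
  -- Step ★
  have hstar : ∀ Y : Subgroup G, Y.Normal → x ∈ Y → Y = ⊤ := by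
    intro Y hYn hxY
    by_contra hYtop
    have h1 := hmin Y hxY hYtop
    have h2 : Cfsg.pPrimeCore p ↥Y = ⊥ := by
      rw [Cfsg.Agent.Helper7.pPrimeCore_subnormal_eq p hYn.isSubnormal, hO,
        Subgroup.bot_subgroupOf]
    have hc : g₀ * x * g₀⁻¹ ∈ Y := hYn.conj_mem x hxY g₀
    have h3 := h1 ⟨_, hc⟩
    rw [h2, Subgroup.mem_bot] at h3
    have h4 := congrArg Subtype.val h3
    have h5 : g₀ * x * g₀⁻¹ * x * (g₀ * x * g₀⁻¹)⁻¹ * x⁻¹ = 1 := h4
    apply hg₀
    apply hiso g₀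
    show x * (g₀ * x * g₀⁻¹) = g₀ * x * g₀⁻¹ * x
    calc x * (g₀ * x * g₀⁻¹)
        = (g₀ * x * g₀⁻¹ * x * (g₀ * x * g₀⁻¹)⁻¹ * x⁻¹)⁻¹ * (g₀ * x * g₀⁻¹ * x) := by group
      _ = g₀ * x * g₀⁻¹ * x := by rw [h5, inv_one, one_mul]
  -- Step D
  have hD : ∀ N : Subgroup G, N.Normal → N ≠ ⊥ → N ⊔ Subgroup.zpowers x = ⊤ := by
    intro N hNn hNbot
    by_contra hHtop
    have hxH : x ∈ N ⊔ Subgroup.zpowers x := Subgroup.mem_sup_right (Subgroup.mem_zpowers x)
    have hNH : N ≤ N ⊔ Subgroup.zpowers x := le_sup_left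
    have h1 := hmin _ hxH hHtop
    have hxN : ∀ n ∈ N, n * x = x * n := by
      intro n hn
      have h2 := h1 ⟨n, hNH hn⟩
      have h3 : n * x * n⁻¹ * x⁻¹ ∈ (Cfsg.pPrimeCore p ↥(N ⊔ Subgroup.zpowers x)).map
          (N ⊔ Subgroup.zpowers x).subtype := ⟨_, h2, rfl⟩
      have h4 : n * x * n⁻¹ * x⁻¹ ∈ N := by
        have h5 : x * n⁻¹ * x⁻¹ ∈ N := hNn.conj_mem _ (N.inv_mem hn) x
        have h6 := N.mul_mem hn h5
        have e : n * (x * n⁻¹ * x⁻¹) = n * x * n⁻¹ * x⁻¹ := by group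
        rwa [e] at h6
      have h7 := core_inf_normal hO N _ hNn hNH _ h3 h4
      calc n * x = (n * x * n⁻¹ * x⁻¹) * x * n := by group
        _ = x * n := by rw [h7, one_mul]
    have hCn : (Subgroup.centralizer (N : Set G)).Normal := by
      refine ⟨fun c hc g => ?_⟩
      rw [Subgroup.mem_centralizer_iff] at hc ⊢
      intro n hn
      have h2 : g⁻¹ * n * g ∈ N := by
        have h3 := hNn.conj_mem n hn g⁻¹
        rwa [inv_inv] at h3
      have h4 := hc _ h2
      calc n * (g * c * g⁻¹) = g * ((g⁻¹ * n * g) * c) * g⁻¹ := by group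
        _ = g * (c * (g⁻¹ * n * g)) * g⁻¹ := by rw [h4]
        _ = g * c * g⁻¹ * n := by group
    have hcen : Subgroup.centralizer (N : Set G) = ⊤ := by
      apply hstar _ hCn
      rw [Subgroup.mem_centralizer_iff]
      intro n hn
      exact hxN n hn
    have hNc : ∀ n ∈ N, ∀ g : G, g * n = n * g := by
      intro n hn g
      have h2 : g ∈ Subgroup.centralizer (N : Set G) := by rw [hcen]; exact Subgroup.mem_top g
      exact (Subgroup.mem_centralizer_iff.mp h2 n hn).symm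
    have hpN : p ∣ Nat.card ↥N := by
      by_contra hnd
      have h2 : (Nat.card ↥N).Coprime p :=
        Nat.Coprime.symm ((Nat.Prime.coprime_iff_not_dvd hp).mpr hnd)
      have h3 := Cfsg.Agent.Helper23.le_pPrimeCore hNn h2
      rw [hO] at h3
      exact hNbot (le_bot_iff.mp h3)
    obtain ⟨z', hz'⟩ := exists_prime_orderOf_dvd_card' p hpN
    obtain ⟨z, hzdef⟩ : ∃ z : G, z = (z' : G) := ⟨_, rfl⟩
    have hzN : z ∈ N := by rw [hzdef]; exact z'.2
    have hzo : orderOf z = p := by rw [hzdef, Subgroup.orderOf_coe]; exact hz'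
    have hZc : ∀ n ∈ Subgroup.zpowers z, ∀ g : G, g * n = n * g := by
      intro n hn g
      exact hNc n ((Subgroup.zpowers_le.mpr hzN) hn) g
    haveI hZn : (Subgroup.zpowers z).Normal := by
      refine ⟨fun n hn g => ?_⟩
      rw [hZc n hn g, mul_inv_cancel_right]
      exact hn
    have hZbot : Subgroup.zpowers z ≠ ⊥ := by
      intro h
      have h2 : z = 1 := Subgroup.zpowers_eq_bot.mp h
      rw [h2, orderOf_one] at hzo
      exact hp.one_lt.ne hzo
    have hZcard : Nat.card ↥(Subgroup.zpowers z) = p := by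
      rw [Nat.card_zpowers, hzo]
    obtain ⟨L, hLdef⟩ : ∃ L : Subgroup G, L = (Cfsg.pPrimeCore p (G ⧸ Subgroup.zpowers z)).comap
        (QuotientGroup.mk' (Subgroup.zpowers z)) := ⟨_, rfl⟩
    have hLn : L.Normal := by
      rw [hLdef]
      exact (Cfsg.Agent.Helper23.pPrimeCore_normal_fin p).comap _
    have hZL : Subgroup.zpowers z ≤ L := by
      intro n hn
      rw [hLdef, Subgroup.mem_comap, QuotientGroup.mk'_apply, (QuotientGroup.eq_one_iff n).mpr hn]
      exact Subgroup.one_mem _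
    have hrel : ((Subgroup.zpowers z).relIndex L).Coprime p := by
      have h2 : (QuotientGroup.mk' (Subgroup.zpowers z)).ker.relIndex L =
          Nat.card ↥(L.map (QuotientGroup.mk' (Subgroup.zpowers z))) := Subgroup.relIndex_ker _ _
      rw [QuotientGroup.ker_mk'] at h2
      rw [h2, hLdef, Subgroup.map_comap_eq_self_of_surjective (QuotientGroup.mk'_surjective _)]
      exact Cfsg.Agent.Helper23.pPrimeCore_coprime p
    have hLZ := central_split hO L (Subgroup.zpowers z) hLn hZL hZc hZcard hrel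
    have h2 := hquot (Subgroup.zpowers z) hZbot (QuotientGroup.mk g₀)
    have hrL : g₀ * x * g₀⁻¹ * x⁻¹ ∈ L := by
      rw [hLdef, Subgroup.mem_comap]
      have e : (QuotientGroup.mk' (Subgroup.zpowers z)) (g₀ * x * g₀⁻¹ * x⁻¹) =
          (QuotientGroup.mk g₀ : G ⧸ Subgroup.zpowers z) * QuotientGroup.mk x *
            (QuotientGroup.mk g₀)⁻¹ * (QuotientGroup.mk x)⁻¹ := by
        rw [map_mul, map_mul, map_mul, map_inv, map_inv]
        rfl
      rw [e]
      exact h2
    have hrc := hZc _ (hLZ hrL)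
    apply hg₀
    apply hiso g₀
    show x * (g₀ * x * g₀⁻¹) = g₀ * x * g₀⁻¹ * x
    have h3 := hrc x
    calc x * (g₀ * x * g₀⁻¹) = x * (g₀ * x * g₀⁻¹ * x⁻¹) * x := by group
      _ = (g₀ * x * g₀⁻¹ * x⁻¹) * x * x := by rw [h3]
      _ = g₀ * x * g₀⁻¹ * x := by group
  -- Step E
  have hG'bot : commutator G ≠ ⊥ := by
    intro h
    apply hg₀
    have h1 : ⁅g₀, x⁆ ∈ commutator G := by
      rw [commutator_def]
      exact Subgroup.commutator_mem_commutator (Subgroup.mem_top _) (Subgroup.mem_top _)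
    rw [h, Subgroup.mem_bot, commutatorElement_def] at h1
    calc g₀ * x * g₀⁻¹ = (g₀ * x * g₀⁻¹ * x⁻¹) * x := by group
      _ = x := by rw [h1, one_mul]
  have hG'n : (commutator G).Normal := inferInstance
  have hDx : commutator G ⊔ Subgroup.zpowers x = ⊤ := hD _ hG'n hG'bot
  -- Step F
  have hDmin : ∀ N : Subgroup G, N.Normal → N ≠ ⊥ → N ≤ commutator G → N = commutator G := by
    intro N hNn hNbot hNle
    apply le_antisymm hNle
    rw [commutator_def, Subgroup.commutator_le]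
    intro g₁ _ g₂ _
    haveI := hNn
    have hdec : ∀ g : G, ∃ i : ℤ, (QuotientGroup.mk g : G ⧸ N) = (QuotientGroup.mk x) ^ i := by
      intro g
      have h1 : g ∈ ((N ⊔ Subgroup.zpowers x : Subgroup G) : Set G) := by
        rw [hD N hNn hNbot]; exact Subgroup.mem_top g
      rw [Subgroup.normal_mul] at h1
      obtain ⟨n, hn, j, hj, hnj⟩ := Set.mem_mul.mp h1
      obtain ⟨i, hi⟩ := Subgroup.mem_zpowers_iff.mp hj
      refine ⟨i, ?_⟩
      rw [← hnj, QuotientGroup.mk_mul, (QuotientGroup.eq_one_iff n).mpr hn, one_mul, ← hi,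
        QuotientGroup.mk_zpow]
    obtain ⟨i, hi⟩ := hdec g₁
    obtain ⟨j, hj⟩ := hdec g₂
    rw [← QuotientGroup.eq_one_iff, commutatorElement_def, QuotientGroup.mk_mul,
      QuotientGroup.mk_mul, QuotientGroup.mk_mul, QuotientGroup.mk_inv, QuotientGroup.mk_inv,
      hi, hj]
    have h2 : (QuotientGroup.mk x : G ⧸ N) ^ i * (QuotientGroup.mk x) ^ j =
        (QuotientGroup.mk x) ^ j * (QuotientGroup.mk x) ^ i := zpow_mul_comm _ _ _
    rw [h2]
    group
  -- Step G
  have hnonab : ¬ IsMulCommutative ↥(commutator G) := by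
    intro hcomm
    obtain ⟨P⟩ : Nonempty (Sylow p ↥(commutator G)) := inferInstance
    have hPn : (P : Subgroup ↥(commutator G)).Normal := by
      refine ⟨fun n hn g => ?_⟩
      rw [hcomm.is_comm.comm g n, mul_inv_cancel_right]
      exact hn
    haveI hPc : (P : Subgroup ↥(commutator G)).Characteristic :=
      Sylow.characteristic_of_normal P hPn
    have hQn : ((P : Subgroup ↥(commutator G)).map (commutator G).subtype).Normal :=
      ConjAct.normal_of_characteristic_of_normal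
    have hQle : (P : Subgroup ↥(commutator G)).map (commutator G).subtype ≤ commutator G :=
      Subgroup.map_subtype_le _
    by_cases hQbot : (P : Subgroup ↥(commutator G)).map (commutator G).subtype = ⊥
    · have hPbot : (P : Subgroup ↥(commutator G)) = ⊥ := by
        rw [eq_bot_iff]
        intro y hy
        have h1 : (y : G) ∈ (P : Subgroup ↥(commutator G)).map (commutator G).subtype :=
          ⟨y, hy, rfl⟩
        rw [hQbot, Subgroup.mem_bot] at h1
        exact Subgroup.mem_bot.mpr (Subtype.ext h1)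
      have hnd : ¬ p ∣ Nat.card ↥(commutator G) := fun hd => P.ne_bot_of_dvd_card hd hPbot
      have h2 : (Nat.card ↥(commutator G)).Coprime p :=
        Nat.Coprime.symm ((Nat.Prime.coprime_iff_not_dvd hp).mpr hnd)
      have h3 := Cfsg.Agent.Helper23.le_pPrimeCore hG'n h2
      rw [hO] at h3
      exact hG'bot (le_bot_iff.mp h3)
    · have h1 := hDmin _ hQn hQbot hQle
      have h2 : IsPGroup p ↥((P : Subgroup ↥(commutator G)).map (commutator G).subtype) :=
        P.isPGroup'.map _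
      rw [h1] at h2
      have h3 : IsPGroup p ↥(commutator G ⊔ Subgroup.zpowers x) :=
        h2.to_sup_of_normal_left hxpg
      rw [hDx] at h3
      have h4 := Cfsg.Agent.S2970.commute_of_mem_pgroup hiso ⊤ h3 (Subgroup.mem_top x) g₀
        (Subgroup.mem_top g₀)
      apply hg₀
      calc g₀ * x * g₀⁻¹ = x * g₀ * g₀⁻¹ := by rw [h4]
        _ = x := by group
  -- Step H
  have hsimple : IsSimpleGroup ↥(commutator G) := by
    haveI : Nontrivial ↥(commutator G) := (Subgroup.nontrivial_iff_ne_bot _).mpr hG'bot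
    refine ⟨fun T hT => ?_⟩
    by_contra hcon
    push_neg at hcon
    obtain ⟨hTbot, hTtop⟩ := hcon
    obtain ⟨F, hFdef⟩ : ∃ F : Set (Subgroup G), F = {Y : Subgroup G | Y ≤ commutator G ∧
        commutator G ≤ Subgroup.normalizer (Y : Set G) ∧ Y ≠ ⊥} := ⟨_, rfl⟩
    have hFmem : ∀ Y : Subgroup G, Y ∈ F ↔ (Y ≤ commutator G ∧
        commutator G ≤ Subgroup.normalizer (Y : Set G) ∧ Y ≠ ⊥) := by
      intro Y; rw [hFdef]; exact Iff.rfl
    have hT₀ : T.map (commutator G).subtype ∈ F := by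
      rw [hFmem]
      refine ⟨Subgroup.map_subtype_le _, ?_, ?_⟩
      · apply Cfsg.Agent.Helper7.le_normalizer_of_conj_mem
        rintro d hd _ ⟨t, ht, rfl⟩
        exact ⟨⟨d, hd⟩ * t * ⟨d, hd⟩⁻¹, hT.conj_mem t ht _, rfl⟩
      · intro h
        apply hTbot
        rw [eq_bot_iff]
        intro t ht
        have h1 : (t : G) ∈ T.map (commutator G).subtype := ⟨t, ht, rfl⟩
        rw [h, Subgroup.mem_bot] at h1
        exact Subgroup.mem_bot.mpr (Subtype.ext h1)
    obtain ⟨T₁, hT₁F, hT₁min⟩ := Set.exists_min_image F (fun Y : Subgroup G => Nat.card ↥Y)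
      (Set.toFinite F) ⟨_, hT₀⟩
    obtain ⟨hT₁le, hT₁norm, hT₁bot⟩ := (hFmem T₁).mp hT₁F
    have hmin' : ∀ Y ∈ F, Nat.card ↥T₁ ≤ Nat.card ↥Y := hT₁min
    have hT₁ne : T₁ ≠ commutator G := by
      intro h
      have h1 := hmin' _ hT₀
      have h2 : Nat.card ↥(T.map (commutator G).subtype) = Nat.card ↥T :=
        Subgroup.card_map_of_injective (commutator G).subtype_injective
      rw [h, h2] at h1
      exact hTtop (Subgroup.eq_top_of_le_card T h1)
    obtain ⟨X₁, hX₁def⟩ : ∃ X₁ : Subgroup G, X₁ = T₁.map (MulAut.conj x).toMonoidHom :=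
      ⟨_, rfl⟩
    have hX₁mem : ∀ t ∈ T₁, x * t * x⁻¹ ∈ X₁ := by
      intro t ht
      rw [hX₁def]
      exact ⟨t, ht, rfl⟩
    have hX₁card : Nat.card ↥X₁ = Nat.card ↥T₁ := by
      rw [hX₁def]
      exact Subgroup.card_map_of_injective (MulAut.conj x).injective
    have hX₁le : X₁ ≤ commutator G := by
      rw [hX₁def]
      rintro _ ⟨t, ht, rfl⟩
      exact hG'n.conj_mem t (hT₁le ht) x
    have hX₁norm : commutator G ≤ Subgroup.normalizer (X₁ : Set G) := by
      apply Cfsg.Agent.Helper7.le_normalizer_of_conj_mem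
      intro d hd y hy
      rw [hX₁def] at hy ⊢
      obtain ⟨t, ht, rfl⟩ := hy
      have hd' : x⁻¹ * d * x ∈ commutator G := by
        have h1 := hG'n.conj_mem d hd x⁻¹
        rwa [inv_inv] at h1
      have h2 : (x⁻¹ * d * x) * t * (x⁻¹ * d * x)⁻¹ ∈ T₁ :=
        (Subgroup.mem_normalizer_iff.mp (hT₁norm hd') t).mp ht
      refine ⟨_, h2, ?_⟩
      show x * ((x⁻¹ * d * x) * t * (x⁻¹ * d * x)⁻¹) * x⁻¹ = d * (x * t * x⁻¹) * d⁻¹
      group
    have hinf : T₁ ⊓ X₁ = ⊥ := by
      by_contra hne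
      have hF' : T₁ ⊓ X₁ ∈ F := by
        rw [hFmem]
        refine ⟨inf_le_left.trans hT₁le, ?_, hne⟩
        intro d hd
        rw [Subgroup.mem_normalizer_iff]
        intro y
        have h1 := Subgroup.mem_normalizer_iff.mp (hT₁norm hd) y
        have h2 := Subgroup.mem_normalizer_iff.mp (hX₁norm hd) y
        constructor
        · intro hy
          exact Subgroup.mem_inf.mpr ⟨h1.mp (Subgroup.mem_inf.mp hy).1,
            h2.mp (Subgroup.mem_inf.mp hy).2⟩
        · intro hy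
          exact Subgroup.mem_inf.mpr ⟨h1.mpr (Subgroup.mem_inf.mp hy).1,
            h2.mpr (Subgroup.mem_inf.mp hy).2⟩
      have h1 := hmin' _ hF'
      have h2 : T₁ ⊓ X₁ = T₁ := Subgroup.eq_of_le_of_card_ge inf_le_left h1
      have h3 : T₁ ≤ X₁ := by rw [← h2]; exact inf_le_right
      have h4 : T₁ = X₁ := Subgroup.eq_of_le_of_card_ge h3 (le_of_eq hX₁card)
      have hxnorm : x ∈ Subgroup.normalizer (T₁ : Set G) := by
        apply Cfsg.Agent.Helper7.mem_normalizer_of_conj_mem_finite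
        intro t ht
        have h5 := hX₁mem t ht
        rw [← h4] at h5
        exact h5
      have hnt : (⊤ : Subgroup G) ≤ Subgroup.normalizer (T₁ : Set G) := by
        rw [← hDx]
        exact sup_le hT₁norm (Subgroup.zpowers_le.mpr hxnorm)
      have hT₁n : T₁.Normal := by
        refine ⟨fun n hn g => ?_⟩
        exact (Subgroup.mem_normalizer_iff.mp (hnt (Subgroup.mem_top g)) n).mp hn
      exact hT₁ne (hDmin T₁ hT₁n hT₁bot hT₁le)
    have hpT : p ∣ Nat.card ↥T₁ := by
      by_contra hnd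
      have h2 : (Nat.card ↥T₁).Coprime p :=
        Nat.Coprime.symm ((Nat.Prime.coprime_iff_not_dvd hp).mpr hnd)
      have hn : (T₁.subgroupOf (commutator G)).Normal :=
        (Subgroup.normal_subgroupOf_iff_le_normalizer hT₁le).mpr hT₁norm
      have hc : (Nat.card ↥(T₁.subgroupOf (commutator G))).Coprime p := by
        rw [Nat.card_congr (Subgroup.subgroupOfEquivOfLe hT₁le).toEquiv]
        exact h2
      have h3 := Cfsg.Agent.Helper23.le_pPrimeCore hn hc
      rw [Cfsg.Agent.Helper7.pPrimeCore_subnormal_eq p hG'n.isSubnormal, hO,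
        Subgroup.bot_subgroupOf] at h3
      apply hT₁bot
      rw [eq_bot_iff]
      intro t ht
      have h4 : (⟨t, hT₁le ht⟩ : ↥(commutator G)) ∈ T₁.subgroupOf (commutator G) :=
        Subgroup.mem_subgroupOf.mpr ht
      have h5 := Subgroup.mem_bot.mp (h3 h4)
      exact Subgroup.mem_bot.mpr (congrArg Subtype.val h5)
    obtain ⟨u', hu'⟩ := exists_prime_orderOf_dvd_card' p hpT
    obtain ⟨u, hudef⟩ : ∃ u : G, u = (u' : G) := ⟨_, rfl⟩
    have huT : u ∈ T₁ := by rw [hudef]; exact u'.2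
    have huo : orderOf u = p := by rw [hudef, Subgroup.orderOf_coe]; exact hu'
    have hu1 : u ≠ 1 := by
      intro h
      rw [h, orderOf_one] at huo
      exact hp.one_lt.ne huo
    have hup : u ^ p = 1 := by rw [← huo]; exact pow_orderOf_eq_one u
    obtain ⟨R, hR⟩ := hxpg.exists_le_sylow
    have hxR : x ∈ (R : Subgroup G) := hR (Subgroup.mem_zpowers x)
    have hRc := Cfsg.Agent.S2970.commute_of_mem_pgroup hiso (R : Subgroup G) R.isPGroup' hxR
    obtain ⟨g, hg⟩ := Cfsg.Agent.Helper7.exists_conj_le_sylow (Subgroup.zpowers u)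
      (isPGroup_zpowers_of_pow (k := 1) (by rw [pow_one]; exact hup)) R
    have hgR : g * u * g⁻¹ ∈ (R : Subgroup G) := hg ⟨u, Subgroup.mem_zpowers u, rfl⟩
    have hg' : g ∈ ((Subgroup.zpowers x ⊔ commutator G : Subgroup G) : Set G) := by
      rw [sup_comm, hDx]; exact Subgroup.mem_top g
    rw [Subgroup.mul_normal] at hg'
    obtain ⟨j, hj, d, hd, hjd⟩ := Set.mem_mul.mp hg'
    have hjx : j * x = x * j := hRc j (hR hj)
    have hjx' : j⁻¹ * x = x * j⁻¹ := by
      calc j⁻¹ * x = j⁻¹ * (x * j) * j⁻¹ := by group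
        _ = j⁻¹ * (j * x) * j⁻¹ := by rw [hjx]
        _ = x * j⁻¹ := by group
    obtain ⟨v, hvdef⟩ : ∃ v : G, v = d * u * d⁻¹ := ⟨_, rfl⟩
    have hvT : v ∈ T₁ := by
      rw [hvdef]
      exact (Subgroup.mem_normalizer_iff.mp (hT₁norm hd) u).mp huT
    have hc0 := hRc _ hgR
    have e : g * u * g⁻¹ = j * v * j⁻¹ := by rw [← hjd, hvdef]; group
    rw [e] at hc0
    have hvx : v * x = x * v := by
      calc v * x = j⁻¹ * (j * v * j⁻¹) * (j * x) := by group
        _ = j⁻¹ * (j * v * j⁻¹) * (x * j) := by rw [hjx]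
        _ = j⁻¹ * ((j * v * j⁻¹) * x) * j := by group
        _ = j⁻¹ * (x * (j * v * j⁻¹)) * j := by rw [hc0]
        _ = (j⁻¹ * x) * (j * v * j⁻¹) * j := by group
        _ = (x * j⁻¹) * (j * v * j⁻¹) * j := by rw [hjx']
        _ = x * v := by group
    have hvX : v ∈ X₁ := by
      have h1 := hX₁mem v hvT
      have e2 : x * v * x⁻¹ = v := by
        calc x * v * x⁻¹ = v * x * x⁻¹ := by rw [hvx]
          _ = v := by group
      rwa [e2] at h1
    have hv1 : v = 1 := by
      have h1 : v ∈ T₁ ⊓ X₁ := Subgroup.mem_inf.mpr ⟨hvT, hvX⟩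
      rw [hinf] at h1
      exact Subgroup.mem_bot.mp h1
    apply hu1
    rw [hvdef] at hv1
    calc u = d⁻¹ * (d * u * d⁻¹) * d := by group
      _ = 1 := by rw [hv1]; group
  exact ⟨hsimple, hnonab, hDx⟩

end Cfsg.Agent.S2972
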