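-- S2975: proof by helper7
import Cfsg.Statements.S2975
import Mathlib
import Cfsg.Agent.S2970
import Cfsg.Agent.S0023
import Cfsg.Agent.Helper23.PSolv
import Cfsg.Agent.Helper7.PLocal
import Cfsg.Agent.Helper7.PLayer
import Cfsg.Agent.Helper7.Large

set_option autoImplicit false
open Cfsg

namespace Cfsg.Agent.S2975

theorem isPGroup_zpowers_of_pow {G : Type*} [Group G] {p k : ℕ} {y : G} (h : y ^ p ^ k = 1) :
    IsPGroup p ↥(Subgroup.zpowers y) := by
  rintro ⟨g, hg⟩
  obtain ⟨i, rfl⟩ := Subgroup.mem_zpowers_iff.mp hg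
  refine ⟨k, ?_⟩
  apply Subtype.ext
  rw [Subgroup.coe_pow, Subgroup.coe_one]
  show (y ^ i) ^ p ^ k = 1
  rw [← zpow_natCast, ← zpow_mul, mul_comm i _, zpow_mul, zpow_natCast, h, one_zpow]

theorem zpowers_comm {G : Type*} [Group G] (x : G) :
    ∀ a b : ↥(Subgroup.zpowers x), a * b = b * a := by
  rintro ⟨a, ha⟩ ⟨b, hb⟩
  obtain ⟨i, rfl⟩ := Subgroup.mem_zpowers_iff.mp ha
  obtain ⟨j, rfl⟩ := Subgroup.mem_zpowers_iff.mp hb
  apply Subtype.ext
  show x ^ i * x ^ j = x ^ j * x ^ i
  exact zpow_mul_comm x i j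

theorem sylow_map_conj_eq {G : Type*} [Group G] [Finite G] {q : ℕ} [Fact q.Prime]
    (S₁ S₂ : Sylow q G) (c : G)
    (h : (S₁ : Subgroup G).map (MulAut.conj c).toMonoidHom ≤ (S₂ : Subgroup G)) :
    (S₁ : Subgroup G).map (MulAut.conj c).toMonoidHom = (S₂ : Subgroup G) := by
  have hc : ∀ R : Sylow q G, Nat.card ↥(R : Subgroup G) = q ^ (Nat.card G).factorization q :=
    fun R => R.card_eq_multiplicity
  have h1 : Nat.card ↥((S₁ : Subgroup G).map (MulAut.conj c).toMonoidHom) =
      Nat.card ↥(S₁ : Subgroup G) :=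
    Subgroup.card_map_of_injective (MulAut.conj c).injective
  apply Subgroup.eq_of_le_of_card_ge h
  rw [h1, hc S₁, hc S₂]

/-- A conjugate of an isolated `p`-element `x` lying in a subgroup `N ∋ x` is `N`-conjugate
to `x`. -/
theorem conj_in_sub {G : Type*} [Group G] [Finite G] {p : ℕ} [Fact p.Prime] {x : G}
    (hiso : Cfsg.IsIsolated x) (hxp : x ^ p = 1) (N : Subgroup G) (hxN : x ∈ N) (g : G)
    (hgN : g * x * g⁻¹ ∈ N) : ∃ n ∈ N, n * (g * x * g⁻¹) * n⁻¹ = x := by
  have hx'p : (⟨x, hxN⟩ : ↥N) ^ p ^ 1 = 1 := by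
    apply Subtype.ext
    rw [pow_one, Subgroup.coe_pow, Subgroup.coe_one]
    exact hxp
  have hy'p : (⟨g * x * g⁻¹, hgN⟩ : ↥N) ^ p ^ 1 = 1 := by
    apply Subtype.ext
    rw [pow_one, Subgroup.coe_pow, Subgroup.coe_one]
    show (g * x * g⁻¹) ^ p = 1
    rw [conj_pow, hxp, mul_one, mul_inv_cancel]
  obtain ⟨P, hP⟩ := (isPGroup_zpowers_of_pow hx'p).exists_le_sylow
  obtain ⟨n, hn⟩ := Cfsg.Agent.Helper7.exists_conj_le_sylow
    (Subgroup.zpowers (⟨g * x * g⁻¹, hgN⟩ : ↥N)) (isPGroup_zpowers_of_pow hy'p) P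
  have hmem : n * (⟨g * x * g⁻¹, hgN⟩ : ↥N) * n⁻¹ ∈ (P : Subgroup ↥N) :=
    hn ⟨_, Subgroup.mem_zpowers _, rfl⟩
  have hxP : (⟨x, hxN⟩ : ↥N) ∈ (P : Subgroup ↥N) := hP (Subgroup.mem_zpowers _)
  have hP' : IsPGroup p ↥((P : Subgroup ↥N).map N.subtype) := P.isPGroup'.map _
  have hxP' : x ∈ (P : Subgroup ↥N).map N.subtype := ⟨_, hxP, rfl⟩
  have hwP' : (n : G) * (g * x * g⁻¹) * (n : G)⁻¹ ∈ (P : Subgroup ↥N).map N.subtype :=
    ⟨_, hmem, rfl⟩
  have hc := Cfsg.Agent.S2970.commute_of_mem_pgroup hiso _ hP' hxP' _ hwP'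
  refine ⟨(n : G), n.2, ?_⟩
  have e : (n : G) * (g * x * g⁻¹) * (n : G)⁻¹ = ((n : G) * g) * x * ((n : G) * g)⁻¹ := by
    group
  rw [e] at hc ⊢
  exact hiso _ hc.symm


/-- Let G be a finite group, p a prime and x ∈ G an isolated element of order p (the only conjugate of x commuting with x is x) which is not central modulo the largest normal subgroup of order prime to p, while x is central modulo the largest normal subgroup of order prime to p in every proper subgroup containing x, and the image of x is so in every quotient of G by a nontrivial normal subgroup (a minimal counterexample to the Z*_p statement). Then for every prime q, every q-subgroup of G that is normalized by x and maximal among the q-subgroups normalized by x is either trivial or a Sylow q-subgroup of G; and C_G(x) permutes the x-invariant Sylow q-subgroups of G transitively by conjugation. -/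
theorem result {G : Type*} [Group G] [Finite G] {p : ℕ} [Fact p.Prime] (x : G) (hx : orderOf x = p) (hiso : Cfsg.IsIsolated x) (hnz : ¬ Cfsg.InZStar p x) (hmin : ∀ (H : Subgroup G) (hxH : x ∈ H), H ≠ ⊤ → Cfsg.InZStar p (⟨x, hxH⟩ : ↥H)) (hquot : ∀ (N : Subgroup G) [N.Normal], N ≠ ⊥ → Cfsg.InZStar p (QuotientGroup.mk x : G ⧸ N)) (q : ℕ) [Fact q.Prime] : (∀ Q : Subgroup G, IsPGroup q ↥Q → x ∈ Subgroup.normalizer (Q : Set G) → (∀ R : Subgroup G, IsPGroup q ↥R → x ∈ Subgroup.normalizer (R : Set G) → Q ≤ R → R = Q) → Q = ⊥ ∨ ∃ S : Sylow q G, (S : Subgroup G) = Q) ∧ (∀ S₁ S₂ : Sylow q G, x ∈ Subgroup.normalizer ((S₁ : Subgroup G) : Set G) → x ∈ Subgroup.normalizer ((S₂ : Subgroup G) : Set G) → ∃ c ∈ Subgroup.centralizer ({x} : Set G), (S₁ : Subgroup G).map (MulAut.conj c).toMonoidHom = (S₂ : Subgroup G)) := by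
  have hp : p.Prime := Fact.out
  have hq : q.Prime := Fact.out
  have hxp : x ^ p = 1 := by
    rw [← hx]; exact pow_orderOf_eq_one x
  have hxpg : IsPGroup p ↥(Subgroup.zpowers x) :=
    isPGroup_zpowers_of_pow (k := 1) (by rw [pow_one]; exact hxp)
  have hO : Cfsg.pPrimeCore p G = ⊥ := by
    by_contra hne
    haveI : (Cfsg.pPrimeCore p G).Normal := Cfsg.Agent.Helper23.pPrimeCore_normal_fin p
    have h1 := hquot (Cfsg.pPrimeCore p G) hne
    apply hnz
    intro g
    have h2 := h1 (QuotientGroup.mk g)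
    rw [Cfsg.Agent.Helper23.pPrimeCore_quotient_pPrimeCore p, Subgroup.mem_bot] at h2
    have h3 : ((g * x * g⁻¹ * x⁻¹ : G) : G ⧸ Cfsg.pPrimeCore p G) = 1 := by
      rw [QuotientGroup.mk_mul, QuotientGroup.mk_mul, QuotientGroup.mk_mul, QuotientGroup.mk_inv,
        QuotientGroup.mk_inv]
      exact h2
    exact (QuotientGroup.eq_one_iff _).mp h3
  have part1 : ∀ Q : Subgroup G, IsPGroup q ↥Q → x ∈ Subgroup.normalizer (Q : Set G) →
      (∀ R : Subgroup G, IsPGroup q ↥R → x ∈ Subgroup.normalizer (R : Set G) → Q ≤ R → R = Q) →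
      Q = ⊥ ∨ ∃ S : Sylow q G, (S : Subgroup G) = Q := by
    intro Q hQp hxQ hmax
    by_cases hQbot : Q = ⊥
    · exact Or.inl hQbot
    right
    have hzQ : Subgroup.zpowers x ≤ Subgroup.normalizer (Q : Set G) :=
      Subgroup.zpowers_le.mpr hxQ
    by_cases hqp : q = p
    · have hxqg : IsPGroup q ↥(Subgroup.zpowers x) := by rw [hqp]; exact hxpg
      have h1 : IsPGroup q ↥(Q ⊔ Subgroup.zpowers x) := hQp.to_sup_of_normal_left' hxqg hzQ
      have h2 : Subgroup.zpowers x ≤
          Subgroup.normalizer ((Q ⊔ Subgroup.zpowers x : Subgroup G) : Set G) :=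
        Cfsg.Agent.Helper7.le_normalizer_sup hzQ Subgroup.le_normalizer
      have h3 := hmax _ h1 (h2 (Subgroup.mem_zpowers x)) le_sup_left
      have hxQ' : x ∈ Q := by
        have h4 : x ∈ Q ⊔ Subgroup.zpowers x := Subgroup.mem_sup_right (Subgroup.mem_zpowers x)
        rw [h3] at h4
        exact h4
      obtain ⟨S, hS⟩ := hQp.exists_le_sylow
      exact ⟨S, hmax _ S.isPGroup' (Subgroup.le_normalizer (hS hxQ')) hS⟩
    · obtain ⟨N, hNdef⟩ : ∃ N : Subgroup G, N = Subgroup.normalizer (Q : Set G) := ⟨_, rfl⟩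
      have hxN : x ∈ N := by rw [hNdef]; exact hxQ
      have hQN : Q ≤ N := by rw [hNdef]; exact Subgroup.le_normalizer
      have hqpc : (q ^ 1).Coprime p := Nat.Coprime.pow_left 1 ((Nat.coprime_primes hq hp).mpr hqp)
      have hcQ : (Nat.card ↥Q).Coprime p := by
        obtain ⟨k, hk⟩ := hQp.exists_card_eq
        rw [hk]
        exact Nat.Coprime.pow_left k ((Nat.coprime_primes hq hp).mpr hqp)
      have hNtop : N ≠ ⊤ := by
        intro h
        have hQn : Q.Normal := by
          refine ⟨fun n hn g => ?_⟩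
          have hg : g ∈ Subgroup.normalizer (Q : Set G) := by
            rw [← hNdef, h]; exact Subgroup.mem_top g
          exact (Subgroup.mem_normalizer_iff.mp hg n).mp hn
        have h3 := Cfsg.Agent.Helper23.le_pPrimeCore hQn hcQ
        rw [hO] at h3
        exact hQbot (le_bot_iff.mp h3)
      have hZ := hmin N hxN hNtop
      obtain ⟨x', hx'def⟩ : ∃ x' : ↥N, x' = ⟨x, hxN⟩ := ⟨_, rfl⟩
      have hx'v : (x' : G) = x := by rw [hx'def]
      obtain ⟨O', hO'def⟩ : ∃ O' : Subgroup ↥N, O' = Cfsg.pPrimeCore p ↥N := ⟨_, rfl⟩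
      have hO'n : O'.Normal := by
        rw [hO'def]; exact Cfsg.Agent.Helper23.pPrimeCore_normal_fin p
      have hO'c : (Nat.card ↥O').Coprime p := by
        rw [hO'def]; exact Cfsg.Agent.Helper23.pPrimeCore_coprime p
      have hZ' : ∀ h : ↥N, h * x' * h⁻¹ * x'⁻¹ ∈ O' := by
        intro h
        rw [hO'def, hx'def]
        exact hZ h
      have hx'p : x' ^ p ^ 1 = 1 := by
        apply Subtype.ext
        rw [pow_one, Subgroup.coe_pow, Subgroup.coe_one, hx'v]
        exact hxp
      have step1 : ∀ R : Subgroup G, IsPGroup q ↥R → Q ≤ R → R ≤ N → R = Q := by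
        intro R hRq hQR hRN
        obtain ⟨R', hR'def⟩ : ∃ R' : Subgroup ↥N, R' = R.subgroupOf N := ⟨_, rfl⟩
        have hcR' : Nat.card ↥R' = Nat.card ↥R := by
          rw [hR'def]
          exact Nat.card_congr (Subgroup.subgroupOfEquivOfLe hRN).toEquiv
        obtain ⟨M', hM'def⟩ : ∃ M' : Subgroup ↥N, M' = O' ⊔ R' := ⟨_, rfl⟩
        have hO'M : O' ≤ M' := by rw [hM'def]; exact le_sup_left
        have hR'M : R' ≤ M' := by rw [hM'def]; exact le_sup_right
        obtain ⟨k, hk⟩ := hRq.exists_card_eq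
        have hcM : (Nat.card ↥M').Coprime p := by
          haveI := hO'n
          have h1 : Nat.card ↥M' = Nat.card ↥O' * O'.relIndex M' :=
            Cfsg.Agent.Helper23.card_eq_card_mul_relIndex hO'M
          have h2 : O'.relIndex M' = O'.relIndex R' := by
            rw [hM'def, Subgroup.relIndex_sup_left]
          have h3 : O'.relIndex R' ∣ Nat.card ↥R' := Subgroup.relIndex_dvd_card O' R'
          rw [hcR', hk] at h3
          rw [h1, h2]
          have h4 : (q ^ k).Coprime p :=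
            Nat.Coprime.pow_left k ((Nat.coprime_primes hq hp).mpr hqp)
          exact Nat.Coprime.mul_left hO'c (Nat.Coprime.coprime_dvd_left h3 h4)
        have hA : O' ≤ M'.comap (MulAut.conj x').toMonoidHom := by
          intro o ho
          rw [Subgroup.mem_comap]
          show x' * o * x'⁻¹ ∈ M'
          exact hO'M (hO'n.conj_mem o ho x')
        have hB : R' ≤ M'.comap (MulAut.conj x').toMonoidHom := by
          intro r hr
          rw [Subgroup.mem_comap]
          show x' * r * x'⁻¹ ∈ M'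
          have h2 := hZ' r⁻¹
          rw [inv_inv] at h2
          have e : x' * r * x'⁻¹ = r * (r⁻¹ * x' * r * x'⁻¹) := by group
          rw [e]
          exact M'.mul_mem (hR'M hr) (hO'M h2)
        have hAB : O' ⊔ R' ≤ M'.comap (MulAut.conj x').toMonoidHom := sup_le hA hB
        rw [← hM'def] at hAB
        have hx'M : x' ∈ Subgroup.normalizer (M' : Set ↥N) := by
          apply Cfsg.Agent.Helper7.mem_normalizer_of_conj_mem_finite
          intro m hm
          exact hAB hm
        have hAM : Subgroup.zpowers x' ≤ Subgroup.normalizer (M' : Set ↥N) :=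
          Subgroup.zpowers_le.mpr hx'M
        have hcop : (Nat.card ↥(Subgroup.zpowers x')).Coprime (Nat.card ↥M') := by
          obtain ⟨j, hj⟩ := (isPGroup_zpowers_of_pow hx'p).exists_card_eq
          rw [hj]
          exact Nat.Coprime.pow_left j hcM.symm
        have hsolv : Group.IsSolvable ↥(Subgroup.zpowers x') :=
          Group.isSolvable_of_comm (zpowers_comm x')
        obtain ⟨P, hP⟩ := Cfsg.Agent.S0023.result (Subgroup.zpowers x') M' hAM hcop
          (Or.inl hsolv) q
        obtain ⟨R₁, hR₁def⟩ : ∃ R₁ : Subgroup G,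
            R₁ = (((P : Subgroup ↥M').map M'.subtype).map N.subtype) := ⟨_, rfl⟩
        have hR₁q : IsPGroup q ↥R₁ := by rw [hR₁def]; exact (P.isPGroup'.map _).map _
        have hR₁N : R₁ ≤ N := by rw [hR₁def]; exact Subgroup.map_subtype_le _
        have hR₁card : Nat.card ↥R₁ = q ^ (Nat.card ↥M').factorization q := by
          have h1 : Nat.card ↥(((P : Subgroup ↥M').map M'.subtype).map N.subtype) =
              Nat.card ↥((P : Subgroup ↥M').map M'.subtype) :=
            Subgroup.card_map_of_injective N.subtype_injective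
          have h2 : Nat.card ↥((P : Subgroup ↥M').map M'.subtype) =
              Nat.card ↥(P : Subgroup ↥M') :=
            Subgroup.card_map_of_injective M'.subtype_injective
          rw [hR₁def, h1, h2]
          exact P.card_eq_multiplicity
        have hxR₁ : x ∈ Subgroup.normalizer (R₁ : Set G) := by
          apply Cfsg.Agent.Helper7.mem_normalizer_of_conj_mem_finite
          intro y hy
          rw [hR₁def] at hy ⊢
          obtain ⟨y₁, hy₁, rfl⟩ := hy
          have h1 : x' ∈ Subgroup.normalizer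
              (((P : Subgroup ↥M').map M'.subtype : Subgroup ↥N) : Set ↥N) :=
            hP (Subgroup.mem_zpowers x')
          have h2 := (Subgroup.mem_normalizer_iff.mp h1 y₁).mp hy₁
          refine ⟨x' * y₁ * x'⁻¹, h2, ?_⟩
          show (x' : G) * (y₁ : G) * (x' : G)⁻¹ = x * (y₁ : G) * x⁻¹
          rw [hx'v]
        have hcardle : Nat.card ↥R ≤ Nat.card ↥R₁ := by
          have h1 : Nat.card ↥R' ∣ Nat.card ↥M' := Subgroup.card_dvd_of_le hR'M
          rw [hcR', hk] at h1
          have hne : Nat.card ↥M' ≠ 0 := Nat.card_pos.ne'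
          have h2 : k ≤ (Nat.card ↥M').factorization q :=
            (Nat.Prime.pow_dvd_iff_le_factorization hq hne).mp h1
          rw [hk, hR₁card]
          exact Nat.pow_le_pow_right hq.pos h2
        have hzR₁ : Subgroup.zpowers x ≤ Subgroup.normalizer (R₁ : Set G) :=
          Subgroup.zpowers_le.mpr hxR₁
        have h5 : IsPGroup q ↥(Q ⊔ R₁) :=
          hQp.to_sup_of_normal_left' hR₁q (by rw [← hNdef]; exact hR₁N)
        have h6 := Cfsg.Agent.Helper7.le_normalizer_sup hzQ hzR₁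
        have h7 := hmax _ h5 (h6 (Subgroup.mem_zpowers x)) le_sup_left
        have hR₁Q : R₁ ≤ Q := by
          have h8 : R₁ ≤ Q ⊔ R₁ := le_sup_right
          rw [h7] at h8
          exact h8
        have h9 : Nat.card ↥R₁ ≤ Nat.card ↥Q := Subgroup.card_le_of_le hR₁Q
        exact (Subgroup.eq_of_le_of_card_ge hQR (hcardle.trans h9)).symm
      obtain ⟨S, hS⟩ := hQp.exists_le_sylow
      refine ⟨S, ?_⟩
      by_contra hne
      haveI : Group.IsNilpotent ↥(S : Subgroup G) := S.isPGroup'.isNilpotent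
      have hlt : Q.subgroupOf (S : Subgroup G) < ⊤ := by
        rw [lt_top_iff_ne_top]
        intro h
        apply hne
        apply le_antisymm _ hS
        intro s hs
        have h1 : (⟨s, hs⟩ : ↥(S : Subgroup G)) ∈ Q.subgroupOf (S : Subgroup G) := by
          rw [h]; exact Subgroup.mem_top _
        exact Subgroup.mem_subgroupOf.mp h1
      have h2 := Group.normalizerCondition_of_isNilpotent (G := ↥(S : Subgroup G)) _ hlt
      obtain ⟨s', hs'n, hs'Q⟩ := SetLike.exists_of_lt h2
      have hsN : (s' : G) ∈ N := by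
        rw [hNdef]
        apply Cfsg.Agent.Helper7.mem_normalizer_of_conj_mem_finite
        intro y hy
        have h3 : (⟨y, hS hy⟩ : ↥(S : Subgroup G)) ∈ Q.subgroupOf (S : Subgroup G) :=
          Subgroup.mem_subgroupOf.mpr hy
        have h4 := (Subgroup.mem_normalizer_iff.mp hs'n _).mp h3
        exact Subgroup.mem_subgroupOf.mp h4
      have h5 := step1 ((S : Subgroup G) ⊓ N) (S.isPGroup'.to_le inf_le_left) (le_inf hS hQN)
        inf_le_right
      apply hs'Q
      rw [Subgroup.mem_subgroupOf, ← h5]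
      exact Subgroup.mem_inf.mpr ⟨s'.2, hsN⟩
  have part2 : ∀ S₁ S₂ : Sylow q G, x ∈ Subgroup.normalizer ((S₁ : Subgroup G) : Set G) →
      x ∈ Subgroup.normalizer ((S₂ : Subgroup G) : Set G) →
      ∃ c ∈ Subgroup.centralizer ({x} : Set G),
        (S₁ : Subgroup G).map (MulAut.conj c).toMonoidHom = (S₂ : Subgroup G) := by
    intro S₁ S₂ hx1 hx2
    obtain ⟨g, hg⟩ := Cfsg.Agent.Helper7.exists_conj_le_sylow (S₁ : Subgroup G) S₁.isPGroup' S₂
    have hgS := sylow_map_conj_eq S₁ S₂ g hg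
    have hgN : g * x * g⁻¹ ∈ Subgroup.normalizer ((S₂ : Subgroup G) : Set G) := by
      apply Cfsg.Agent.Helper7.mem_normalizer_of_conj_mem_finite
      intro s hs
      rw [← hgS] at hs
      obtain ⟨s₁, hs₁, hs₁e⟩ := hs
      have e : s = g * s₁ * g⁻¹ := hs₁e.symm
      have h1 : x * s₁ * x⁻¹ ∈ (S₁ : Subgroup G) :=
        (Subgroup.mem_normalizer_iff.mp hx1 s₁).mp hs₁
      rw [← hgS, e]
      refine ⟨x * s₁ * x⁻¹, h1, ?_⟩
      show g * (x * s₁ * x⁻¹) * g⁻¹ = g * x * g⁻¹ * (g * s₁ * g⁻¹) * (g * x * g⁻¹)⁻¹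
      group
    obtain ⟨n, hnN, hn⟩ := conj_in_sub hiso hxp _ hx2 g hgN
    refine ⟨n * g, ?_, ?_⟩
    · rw [Subgroup.mem_centralizer_iff]
      intro h hh
      rw [Set.mem_singleton_iff] at hh
      rw [hh]
      calc x * (n * g) = (n * (g * x * g⁻¹) * n⁻¹) * (n * g) := by rw [hn]
        _ = n * g * x := by group
    · apply sylow_map_conj_eq
      rintro _ ⟨s₁, hs₁, rfl⟩
      have h1 : g * s₁ * g⁻¹ ∈ (S₂ : Subgroup G) := hg ⟨s₁, hs₁, rfl⟩
      have h2 := (Subgroup.mem_normalizer_iff.mp hnN _).mp h1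
      have e : (MulAut.conj (n * g)).toMonoidHom s₁ = n * (g * s₁ * g⁻¹) * n⁻¹ := by
        show n * g * s₁ * (n * g)⁻¹ = n * (g * s₁ * g⁻¹) * n⁻¹
        group
      rw [e]
      exact h2
  exact ⟨part1, part2⟩

end Cfsg.Agent.S2975
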