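import Cfsg.Statements.S2998
import Cfsg.Agent.Helper15.Iso
import Cfsg.Agent.Helper16.Basic
import Cfsg.Agent.Helper19.Basic
import Cfsg.Agent.S3003
import Cfsg.Agent.S3514

set_option autoImplicit false
open Cfsg

namespace Cfsg.Agent.S2998

theorem part1 {G : Type*} [Group G] [Finite G] {p : ℕ} [Fact p.Prime] (P : Sylow p G) (x : G)
    (hxP : x ∈ (P : Subgroup G))
    (hlc : ∀ R : Subgroup G, R ≤ (P : Subgroup G) → R ≠ ⊥ →
      Subgroup.normalizer (R : Set G) ≤ Subgroup.centralizer ({x} : Set G)) :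
    (P : Subgroup G) ≤ Subgroup.centralizer ({x} : Set G) := by
  by_cases hP : (P : Subgroup G) = ⊥
  · rw [hP] at hxP
    rw [Subgroup.mem_bot] at hxP
    intro y _
    rw [Subgroup.mem_centralizer_iff]
    intro z hz
    rw [Set.mem_singleton_iff] at hz
    rw [hz, hxP, one_mul, mul_one]
  · exact le_trans Subgroup.le_normalizer (hlc _ le_rfl hP)

theorem part2 {G : Type*} [Group G] [Finite G] {p : ℕ} [Fact p.Prime] (P : Sylow p G) (x : G)
    (hlc : ∀ R : Subgroup G, R ≤ (P : Subgroup G) → R ≠ ⊥ →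
      Subgroup.normalizer (R : Set G) ≤ Subgroup.centralizer ({x} : Set G))
    (hP : (P : Subgroup G) ≤ Subgroup.centralizer ({x} : Set G)) :
    ∀ g : G, g * x * g⁻¹ ∈ (P : Subgroup G) → g * x * g⁻¹ = x := by
  intro g hg
  by_cases hx1 : x = 1
  · rw [hx1]; group
  have hx'1 : g * x * g⁻¹ ≠ 1 := by
    intro h1
    apply hx1
    have : x = g⁻¹ * (g * x * g⁻¹) * g := by group
    rw [this, h1]; group
  have hPne : (P : Subgroup G) ≠ ⊥ := by
    intro hb
    rw [hb, Subgroup.mem_bot] at hg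
    exact hx'1 hg
  have hZle : Subgroup.zpowers (g * x * g⁻¹) ≤ (P : Subgroup G) := by
    rw [Subgroup.zpowers_le]; exact hg
  have hZne : Subgroup.zpowers (g * x * g⁻¹) ≠ ⊥ := by
    intro hb
    have : g * x * g⁻¹ ∈ (⊥ : Subgroup G) := by rw [← hb]; exact Subgroup.mem_zpowers _
    exact hx'1 (Subgroup.mem_bot.mp this)
  have hN := hlc _ hZle hZne
  have hCC : Subgroup.centralizer ({g * x * g⁻¹} : Set G) ≤ Subgroup.centralizer ({x} : Set G) := by
    intro c hc
    apply hN
    apply Subgroup.centralizer_le_normalizer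
    exact Cfsg.Agent.S3003.centralizer_singleton_le _ hc
  have hP' : ∀ y ∈ (P : Subgroup G), g * y * g⁻¹ ∈ Subgroup.centralizer ({x} : Set G) := by
    intro y hy
    apply hCC
    rw [Subgroup.mem_centralizer_iff]
    intro z hz
    rw [Set.mem_singleton_iff] at hz
    rw [hz]
    have hyx := hP hy
    rw [Subgroup.mem_centralizer_iff] at hyx
    have h1 : x * y = y * x := hyx x (Set.mem_singleton x)
    calc g * x * g⁻¹ * (g * y * g⁻¹) = g * (x * y) * g⁻¹ := by group
      _ = g * (y * x) * g⁻¹ := by rw [h1]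
      _ = g * y * g⁻¹ * (g * x * g⁻¹) := by group
  have hQp : IsPGroup p ↥(((P : Subgroup G).map (MulAut.conj g).toMonoidHom).subgroupOf
      (Subgroup.centralizer ({x} : Set G))) :=
    (P.isPGroup'.map _).comap_of_injective _ (Subgroup.subtype_injective _)
  obtain ⟨c, hc⟩ := Cfsg.Agent.Helper16.exists_conj_le_sylow (P.subtype hP) hQp
  have hcg : (c : G) * g ∈ Subgroup.normalizer ((P : Subgroup G) : Set G) := by
    apply Cfsg.Agent.Helper16.mem_normalizer_of_conj_mem
    intro y hy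
    have h1 : (⟨g * y * g⁻¹, hP' y hy⟩ : ↥(Subgroup.centralizer ({x} : Set G))) ∈
        ((P : Subgroup G).map (MulAut.conj g).toMonoidHom).subgroupOf
          (Subgroup.centralizer ({x} : Set G)) := by
      rw [Subgroup.mem_subgroupOf]
      exact ⟨y, hy, by simp [MulAut.conj_apply]⟩
    have h2 := hc _ h1
    have h3 := Subgroup.mem_subgroupOf.mp
      (show _ ∈ (P : Subgroup G).subgroupOf (Subgroup.centralizer ({x} : Set G)) from h2)
    have e : (c : G) * g * y * ((c : G) * g)⁻¹ = (c : G) * (g * y * g⁻¹) * (c : G)⁻¹ := by group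
    rw [e]
    simpa using h3
  have h4 := hlc _ le_rfl hPne hcg
  have h5 : g ∈ Subgroup.centralizer ({x} : Set G) := by
    have : g = (c : G)⁻¹ * ((c : G) * g) := by group
    rw [this]
    exact Subgroup.mul_mem _ (Subgroup.inv_mem _ c.2) h4
  exact Cfsg.Agent.Helper15.conj_eq_of_mem_centralizer_singleton h5

theorem part3 {G : Type*} [Group G] [Finite G] {p : ℕ} [Fact p.Prime] (P : Sylow p G) (x : G)
    (hlc : ∀ R : Subgroup G, R ≤ (P : Subgroup G) → R ≠ ⊥ →
      Subgroup.normalizer (R : Set G) ≤ Subgroup.centralizer ({x} : Set G))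
    (hP : (P : Subgroup G) ≤ Subgroup.centralizer ({x} : Set G))
    (N : Subgroup G) [N.Normal] (Rb : Subgroup (G ⧸ N))
    (hRb : Rb ≤ (P : Subgroup G).map (QuotientGroup.mk' N)) (hRb1 : Rb ≠ ⊥) (g : G)
    (hgb : QuotientGroup.mk' N g ∈ Subgroup.normalizer (Rb : Set (G ⧸ N))) :
    QuotientGroup.mk' N g * QuotientGroup.mk' N x = QuotientGroup.mk' N x * QuotientGroup.mk' N g := by
  have hsurj : ∀ rb ∈ Rb, ∃ y ∈ (P : Subgroup G) ⊓ Rb.comap (QuotientGroup.mk' N),
      QuotientGroup.mk' N y = rb := by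
    intro rb hrb
    obtain ⟨y, hy, rfl⟩ := hRb hrb
    exact ⟨y, Subgroup.mem_inf.mpr ⟨hy, Subgroup.mem_comap.mpr hrb⟩, rfl⟩
  have hR₀ne : (P : Subgroup G) ⊓ Rb.comap (QuotientGroup.mk' N) ≠ ⊥ := by
    intro hb
    apply hRb1
    rw [eq_bot_iff]
    intro rb hrb
    obtain ⟨y, hy, rfl⟩ := hsurj rb hrb
    rw [hb, Subgroup.mem_bot] at hy
    rw [hy, map_one]
    exact Subgroup.one_mem _
  have hNL : N ≤ Rb.comap (QuotientGroup.mk' N) := by
    intro n hn
    rw [Subgroup.mem_comap]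
    have : QuotientGroup.mk' N n = 1 := (QuotientGroup.eq_one_iff n).mpr hn
    rw [this]
    exact Subgroup.one_mem _
  have hL : Rb.comap (QuotientGroup.mk' N) =
      N ⊔ ((P : Subgroup G) ⊓ Rb.comap (QuotientGroup.mk' N)) := by
    apply le_antisymm
    · intro l hl
      obtain ⟨y, hy, hyl⟩ := hsurj _ (Subgroup.mem_comap.mp hl)
      have h1 : l * y⁻¹ ∈ N := by
        apply (QuotientGroup.eq_one_iff _).mp
        change QuotientGroup.mk' N (l * y⁻¹) = 1
        rw [map_mul, map_inv, hyl, mul_inv_cancel]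
      have : l = (l * y⁻¹) * y := by group
      rw [this]
      exact Subgroup.mul_mem_sup h1 hy
    · exact sup_le hNL inf_le_right
  have hidx : ¬ p ∣ (((P : Subgroup G) ⊓ Rb.comap (QuotientGroup.mk' N)).subgroupOf
      (Rb.comap (QuotientGroup.mk' N))).index := by
    have h1 : (((P : Subgroup G) ⊓ Rb.comap (QuotientGroup.mk' N)).subgroupOf
        (Rb.comap (QuotientGroup.mk' N))).index =
        ((P : Subgroup G) ⊓ Rb.comap (QuotientGroup.mk' N)).relIndex
          (N ⊔ ((P : Subgroup G) ⊓ Rb.comap (QuotientGroup.mk' N))) := by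
      rw [← hL]; rfl
    have hnorm : (P : Subgroup G) ⊓ Rb.comap (QuotientGroup.mk' N) ≤
        Subgroup.normalizer (N : Set G) := by
      rw [Subgroup.normalizer_eq_top]; exact le_top
    rw [h1, Cfsg.Agent.S3514.relIndex_sup_norm' N _ hnorm, ← Subgroup.inf_relIndex_right]
    have h2 : (P : Subgroup G) ⊓ Rb.comap (QuotientGroup.mk' N) ⊓ N = (P : Subgroup G) ⊓ N := by
      rw [inf_assoc, inf_of_le_right hNL]
    rw [h2, Subgroup.inf_relIndex_right]
    exact (Cfsg.Agent.Helper19.sylowInf P N).not_dvd_index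
  have hgL : ∀ l ∈ Rb.comap (QuotientGroup.mk' N), g * l * g⁻¹ ∈ Rb.comap (QuotientGroup.mk' N) := by
    intro l hl
    rw [Subgroup.mem_comap, map_mul, map_mul, map_inv]
    exact (Subgroup.mem_normalizer_iff.mp hgb _).mp (Subgroup.mem_comap.mp hl)
  have hQp : IsPGroup p ↥((((P : Subgroup G) ⊓ Rb.comap (QuotientGroup.mk' N)).map
      (MulAut.conj g).toMonoidHom).subgroupOf (Rb.comap (QuotientGroup.mk' N))) :=
    ((P.isPGroup'.to_le inf_le_left).map _).comap_of_injective _ (Subgroup.subtype_injective _)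
  obtain ⟨Q, hQ⟩ := hQp.exists_le_sylow
  obtain ⟨l, hl⟩ := Cfsg.Agent.Helper19.exists_conj_le_of_not_dvd_index Q _ hidx
  have hlg : (l : G) * g ∈ Subgroup.normalizer
      (((P : Subgroup G) ⊓ Rb.comap (QuotientGroup.mk' N) : Subgroup G) : Set G) := by
    apply Cfsg.Agent.Helper16.mem_normalizer_of_conj_mem
    intro y hy
    have hyL : g * y * g⁻¹ ∈ Rb.comap (QuotientGroup.mk' N) := hgL y (Subgroup.mem_inf.mp hy).2
    have h1 : (⟨g * y * g⁻¹, hyL⟩ : ↥(Rb.comap (QuotientGroup.mk' N))) ∈ (Q : Subgroup _) := by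
      apply hQ
      rw [Subgroup.mem_subgroupOf]
      exact ⟨y, hy, by simp [MulAut.conj_apply]⟩
    have h2 := Subgroup.mem_subgroupOf.mp (hl _ h1)
    have e : (l : G) * g * y * ((l : G) * g)⁻¹ = (l : G) * (g * y * g⁻¹) * (l : G)⁻¹ := by group
    rw [e]
    simpa using h2
  have h4 := hlc _ inf_le_left hR₀ne hlg
  rw [Subgroup.mem_centralizer_iff] at h4
  have h5 : x * ((l : G) * g) = ((l : G) * g) * x := h4 x (Set.mem_singleton x)
  obtain ⟨y₀, hy₀, hy₀l⟩ := hRb (Subgroup.mem_comap.mp l.2)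
  have h6 := hP hy₀
  rw [Subgroup.mem_centralizer_iff] at h6
  have h7 : x * y₀ = y₀ * x := h6 x (Set.mem_singleton x)
  have h8 : QuotientGroup.mk' N x * QuotientGroup.mk' N (l : G) =
      QuotientGroup.mk' N (l : G) * QuotientGroup.mk' N x := by
    rw [← hy₀l, ← map_mul, ← map_mul, h7]
  have h9 : QuotientGroup.mk' N x * (QuotientGroup.mk' N (l : G) * QuotientGroup.mk' N g) =
      (QuotientGroup.mk' N (l : G) * QuotientGroup.mk' N g) * QuotientGroup.mk' N x := by
    rw [← map_mul, ← map_mul, ← map_mul, h5]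
  have hc1 : Commute (QuotientGroup.mk' N x) (QuotientGroup.mk' N (l : G)) := h8
  have hc2 : Commute (QuotientGroup.mk' N x)
      (QuotientGroup.mk' N (l : G) * QuotientGroup.mk' N g) := h9
  have hc3 : Commute (QuotientGroup.mk' N x)
      ((QuotientGroup.mk' N (l : G))⁻¹ * (QuotientGroup.mk' N (l : G) * QuotientGroup.mk' N g)) :=
    hc1.inv_right.mul_right hc2
  rw [inv_mul_cancel_left] at hc3
  exact hc3.eq.symm

/-- Let G be a finite group, p a prime, P a Sylow p-subgroup of G and x ∈ P an element such that N_G(R) ≤ C_G(x) for every nontrivial subgroup R of P. Then P ≤ C_G(x); every G-conjugate of x lying in P equals x (so g ∈ C_G(x) whenever g x g⁻¹ ∈ P); and for every normal subgroup N of G, the image of x in G ⧸ N has the same property with respect to the image of P: the normalizer of every nontrivial subgroup of the image of P centralizes the image of x. -/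
theorem result {G : Type*} [Group G] [Finite G] {p : ℕ} [Fact p.Prime] (P : Sylow p G) (x : G) (hxP : x ∈ (P : Subgroup G)) (hlc : ∀ R : Subgroup G, R ≤ (P : Subgroup G) → R ≠ ⊥ → Subgroup.normalizer (R : Set G) ≤ Subgroup.centralizer ({x} : Set G)) : (P : Subgroup G) ≤ Subgroup.centralizer ({x} : Set G) ∧ (∀ g : G, g * x * g⁻¹ ∈ (P : Subgroup G) → g * x * g⁻¹ = x) ∧ ∀ (N : Subgroup G) [N.Normal], ∀ R : Subgroup (G ⧸ N), R ≤ (P : Subgroup G).map (QuotientGroup.mk' N) → R ≠ ⊥ → Subgroup.normalizer (R : Set (G ⧸ N)) ≤ Subgroup.centralizer ({(QuotientGroup.mk x : G ⧸ N)} : Set (G ⧸ N)) := by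
  have h1 := part1 P x hxP hlc
  refine ⟨h1, part2 P x hlc h1, ?_⟩
  intro N _ Rb hRb hRb1 gb hgb
  obtain ⟨g, rfl⟩ := QuotientGroup.mk'_surjective N gb
  rw [Subgroup.mem_centralizer_iff]
  intro z hz
  rw [Set.mem_singleton_iff] at hz
  rw [hz]
  exact (part3 P x hlc h1 N Rb hRb hRb1 g hgb).symm

end Cfsg.Agent.S2998
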