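-- S3015: proof by helper7
import Cfsg.Statements.S3015
import Mathlib
import Cfsg.Agent.Helper1.TransferEval
import Cfsg.Agent.Helper7.PLayer
import Cfsg.Agent.Helper7.PLocal

set_option autoImplicit false
open Cfsg

namespace Cfsg.Agent.S3015

theorem conj_inv_pow {G : Type*} [Group G] (x a : G) (k : ℕ) :
    (x⁻¹ * a * x) ^ k = x⁻¹ * a ^ k * x := by
  induction k with
  | zero => simp
  | succ k ih => rw [pow_succ, ih, pow_succ]; group


/-- Let G be a finite non-abelian simple group, M a maximal subgroup of G and H a normal subgroup of M of prime index in M. Then G is generated by H together with one of its conjugates. -/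
theorem result {G : Type*} [Group G] [Finite G] [IsSimpleGroup G] (hG : ¬ IsMulCommutative G) (M H : Subgroup G) (hmaxM : IsCoatom M) (hHM : H ≤ M) (hHn : (H.subgroupOf M).Normal) (hidx : (H.relIndex M).Prime) : ∃ g : G, H ⊔ H.map (MulAut.conj g).toMonoidHom = ⊤ := by
  by_contra hcon
  push_neg at hcon
  have hMN : M ≤ Subgroup.normalizer (H : Set G) :=
    (Subgroup.normal_subgroupOf_iff_le_normalizer hHM).mp hHn
  have hHneM : ¬ M ≤ H := by
    intro h
    have h1 : H.relIndex M = 1 := Subgroup.relIndex_eq_one.mpr h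
    rw [h1] at hidx
    exact Nat.not_prime_one hidx
  have hco : ∀ K : Subgroup G, H ≤ K → K ≤ M → ¬ K ≤ H → M ≤ K := by
    intro K hHK hKM hKH
    have h1 := Subgroup.relIndex_mul_relIndex H K M hHK hKM
    rw [← h1] at hidx
    rcases (Nat.prime_mul_iff.mp hidx) with ⟨_, h2⟩ | ⟨_, h2⟩
    · exact Subgroup.relIndex_eq_one.mp h2
    · exact absurd (Subgroup.relIndex_eq_one.mp h2) hKH
  have hgen : ∀ u : G, u ∈ M → u ∉ H → H ⊔ Subgroup.zpowers u = M := by
    intro u hu huH
    apply le_antisymm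
    · exact sup_le hHM (by rw [Subgroup.zpowers_le]; exact hu)
    · apply hco _ le_sup_left (sup_le hHM (by rw [Subgroup.zpowers_le]; exact hu))
      intro h
      exact huH (h (Subgroup.mem_sup_right (Subgroup.mem_zpowers u)))
  have hMne : M ≠ ⊥ := by
    intro h
    apply hHneM
    rw [h]; exact bot_le
  have hNM : Subgroup.normalizer (M : Set G) ≤ M := by
    by_contra h
    have h1 : M < Subgroup.normalizer (M : Set G) :=
      lt_of_le_of_ne Subgroup.le_normalizer (fun h2 => h (le_of_eq h2.symm))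
    have h2 : Subgroup.normalizer (M : Set G) = ⊤ := hmaxM.2 _ h1
    have h3 : M.Normal := Subgroup.normalizer_eq_top_iff.mp h2
    rcases h3.eq_bot_or_eq_top with h4 | h4
    · exact hMne h4
    · exact hmaxM.1 h4
  have key : ∀ x : G, x ∉ M → ∀ m : G, m ∈ M → m ∉ H → x⁻¹ * m * x ∈ M →
      x⁻¹ * m * x ∉ H → False := by
    intro x hx m hm hmH hu huH
    have hfu : (MulAut.conj x).toMonoidHom (x⁻¹ * m * x) = m := by
      show x * (x⁻¹ * m * x) * x⁻¹ = m
      group
    have hmN : m ∈ Subgroup.normalizer (H : Set G) := hMN hm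
    have huN : x⁻¹ * m * x ∈ Subgroup.normalizer (H : Set G) := hMN hu
    have hmN1 : m ∈ Subgroup.normalizer
        ((H.map (MulAut.conj x).toMonoidHom : Subgroup G) : Set G) := by
      apply Cfsg.Agent.Helper7.mem_normalizer_of_conj_mem_finite
      rintro _ ⟨h, hh, rfl⟩
      refine ⟨(x⁻¹ * m * x) * h * (x⁻¹ * m * x)⁻¹, ?_, ?_⟩
      · exact (Subgroup.mem_normalizer_iff.mp huN h).mp hh
      · show x * ((x⁻¹ * m * x) * h * (x⁻¹ * m * x)⁻¹) * x⁻¹ = m * (x * h * x⁻¹) * m⁻¹
        group
    have hzN : Subgroup.zpowers m ≤ Subgroup.normalizer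
        ((H ⊔ H.map (MulAut.conj x).toMonoidHom : Subgroup G) : Set G) := by
      apply Cfsg.Agent.Helper7.le_normalizer_sup
      · rw [Subgroup.zpowers_le]; exact hmN
      · rw [Subgroup.zpowers_le]; exact hmN1
    have hH1M : H.map (MulAut.conj x).toMonoidHom ≤ M := by
      have hME : M ≤ (H ⊔ H.map (MulAut.conj x).toMonoidHom) ⊔ Subgroup.zpowers m := by
        have h1 : H ⊔ Subgroup.zpowers m ≤
            (H ⊔ H.map (MulAut.conj x).toMonoidHom) ⊔ Subgroup.zpowers m :=
          sup_le (le_sup_left.trans le_sup_left) le_sup_right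
        rwa [hgen m hm hmH] at h1
      rcases eq_or_lt_of_le hME with h | h
      · have h1 : H.map (MulAut.conj x).toMonoidHom ≤
            (H ⊔ H.map (MulAut.conj x).toMonoidHom) ⊔ Subgroup.zpowers m :=
          le_sup_right.trans le_sup_left
        rwa [← h] at h1
      · have hE := hmaxM.2 _ h
        have hDn : (H ⊔ H.map (MulAut.conj x).toMonoidHom).Normal := by
          rw [← Subgroup.normalizer_eq_top_iff, eq_top_iff, ← hE]
          exact sup_le Subgroup.le_normalizer hzN
        rcases hDn.eq_bot_or_eq_top with h4 | h4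
        · have h5 : H.map (MulAut.conj x).toMonoidHom ≤ ⊥ := by
            rw [← h4]; exact le_sup_right
          exact h5.trans bot_le
        · exact absurd h4 (hcon x)
    have hM1 : M.map (MulAut.conj x).toMonoidHom ≤ M := by
      have h1 : (H ⊔ Subgroup.zpowers (x⁻¹ * m * x)).map (MulAut.conj x).toMonoidHom ≤ M := by
        rw [Subgroup.map_sup, MonoidHom.map_zpowers, hfu]
        exact sup_le hH1M (by rw [Subgroup.zpowers_le]; exact hm)
      rwa [hgen _ hu huH] at h1
    have hxN : x ∈ Subgroup.normalizer (M : Set G) := by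
      apply Cfsg.Agent.Helper7.mem_normalizer_of_conj_mem_finite
      intro y hy
      exact hM1 (Subgroup.mem_map_of_mem (MulAut.conj x).toMonoidHom hy)
    exact hx (hNM hxN)
  have hne : ({m : G | m ∈ M ∧ m ∉ H} : Set G).Nonempty := by
    by_contra h
    apply hHneM
    intro m hm
    by_contra hmH
    exact h ⟨m, hm, hmH⟩
  obtain ⟨m, ⟨hm, hmH⟩, hmin⟩ := Set.exists_min_image _ orderOf
    (Set.toFinite {m : G | m ∈ M ∧ m ∉ H}) hne
  have hfac : ∀ x : G, x ∉ M → ∀ (n : ℕ), x⁻¹ * m ^ n * x ∈ M → x⁻¹ * m ^ n * x ∈ H := by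
    intro x hx n hu
    by_contra huH
    have hord : orderOf (x⁻¹ * m ^ n * x) = orderOf (m ^ n) := by
      have := (MulAut.conj x⁻¹).orderOf_eq (m ^ n)
      simpa [MulAut.conj_apply] using this
    have h1 : orderOf m ≤ orderOf (m ^ n) := by
      rw [← hord]; exact hmin _ ⟨hu, huH⟩
    have hpos : 0 < orderOf m := orderOf_pos m
    have hcop : Nat.Coprime n (orderOf m) := by
      rw [orderOf_pow] at h1
      have hgpos : 0 < Nat.gcd (orderOf m) n := Nat.gcd_pos_of_pos_left _ hpos
      have h2 : Nat.gcd (orderOf m) n = 1 := by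
        by_contra h3
        have h4 : 2 ≤ Nat.gcd (orderOf m) n := by omega
        have h5 : orderOf m / Nat.gcd (orderOf m) n < orderOf m := Nat.div_lt_self hpos h4
        omega
      rw [Nat.coprime_comm]; exact h2
    obtain ⟨k, hk⟩ := exists_pow_eq_self_of_coprime hcop
    have h2 : (x⁻¹ * m ^ n * x) ^ k = x⁻¹ * m * x := by rw [conj_inv_pow, hk]
    have hu' : x⁻¹ * m * x ∈ M := by rw [← h2]; exact M.pow_mem hu k
    have hu'H : x⁻¹ * m * x ∉ H := by
      intro h
      apply huH
      have h3 : (x⁻¹ * m * x) ^ n = x⁻¹ * m ^ n * x := conj_inv_pow x m n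
      rw [← h3]; exact H.pow_mem h n
    exact key x hx m hm hmH hu' hu'H
  haveI := hHn
  have hQcard : Nat.card (↥M ⧸ H.subgroupOf M) = H.relIndex M := rfl
  haveI : Fact (H.relIndex M).Prime := ⟨hidx⟩
  haveI hcyc : IsCyclic (↥M ⧸ H.subgroupOf M) := isCyclic_of_prime_card hQcard
  have hcomm : ∀ a b : ↥M ⧸ H.subgroupOf M, a * b = b * a := by
    intro a b
    obtain ⟨g, hg⟩ := IsCyclic.exists_generator (α := ↥M ⧸ H.subgroupOf M)
    obtain ⟨i, rfl⟩ := Subgroup.mem_zpowers_iff.mp (hg a)
    obtain ⟨j, rfl⟩ := Subgroup.mem_zpowers_iff.mp (hg b)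
    rw [← zpow_add, ← zpow_add, add_comm]
  obtain ⟨V, hV1, hV2⟩ := Cfsg.Agent.Helper1.exists_transfer' (G := G) (M := M) hcomm
    (QuotientGroup.mk' (H.subgroupOf M))
  have hVm : V m = QuotientGroup.mk' (H.subgroupOf M) ⟨m, hm⟩ := by
    apply hV2 m hm
    intro x hx n hy
    rw [QuotientGroup.mk'_apply, QuotientGroup.eq_one_iff]
    exact Subgroup.mem_subgroupOf.mpr (hfac x hx n hy)
  have hVm1 : V m ≠ 1 := by
    rw [hVm, QuotientGroup.mk'_apply]
    intro h
    rw [QuotientGroup.eq_one_iff] at h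
    exact hmH (Subgroup.mem_subgroupOf.mp h)
  rcases (MonoidHom.normal_ker V).eq_bot_or_eq_top with h | h
  · apply hG
    have hinj : Function.Injective V := (MonoidHom.ker_eq_bot_iff V).mp h
    have hc : ∀ a b : G, a * b = b * a := by
      intro a b
      apply hinj
      rw [map_mul, map_mul]
      exact hcomm _ _
    exact ⟨⟨hc⟩⟩
  · apply hVm1
    have h1 : m ∈ V.ker := by rw [h]; exact Subgroup.mem_top m
    exact MonoidHom.mem_ker.mp h1

end Cfsg.Agent.S3015
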