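import Cfsg.Statements.S3020
import Cfsg.Agent.Helper19.PGroup
import Cfsg.Agent.Helper16.Conj
import Cfsg.Agent.Helper9.PPrimeCore
import Cfsg.Agent.S3003

set_option autoImplicit false
open Cfsg

namespace Cfsg.Agent.S3020

/-- Let G be a finite group, p a prime and H an abelian p-subgroup of G that is extremely closed (for every g, the subgroup generated by H and g H g⁻¹ meets N_G(H) exactly in H). Then for every g ∈ G, the subgroup T generated by H and g H g⁻¹ is the product of H with O_{p'}(T), and H meets O_{p'}(T) trivially; that is, O_{p'}(T) is a normal p-complement of H in T. -/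
theorem result {G : Type*} [Group G] [Finite G] {p : ℕ} [Fact p.Prime] (H : Subgroup G) (hHp : IsPGroup p H) (hHab : IsMulCommutative H) (hcl : Cfsg.IsExtremelyClosed H) (g : G) (T : Subgroup G) (hT : T = H ⊔ H.map (MulAut.conj g).toMonoidHom) : H ⊔ (Cfsg.pPrimeCore p ↥T).map T.subtype = T ∧ H ⊓ (Cfsg.pPrimeCore p ↥T).map T.subtype = ⊥ := by
  have hp : p.Prime := Fact.out
  have hHT : H ≤ T := by rw [hT]; exact le_sup_left
  -- H' self-normalizing in T
  have hself : Subgroup.normalizer ((H.subgroupOf T : Subgroup ↥T) : Set ↥T) ≤ H.subgroupOf T := by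
    intro t ht
    have h1 : (t : G) ∈ Subgroup.normalizer (H : Set G) := by
      apply Cfsg.Agent.Helper16.mem_normalizer_of_conj_mem
      intro x hx
      have h2 : (⟨x, hHT hx⟩ : ↥T) ∈ H.subgroupOf T := Subgroup.mem_subgroupOf.mpr hx
      have h3 := (Subgroup.mem_normalizer_iff.mp ht _).mp h2
      have h4 := Subgroup.mem_subgroupOf.mp h3
      simpa using h4
    have h5 : (t : G) ∈ (H ⊔ H.map (MulAut.conj g).toMonoidHom) ⊓ Subgroup.normalizer (H : Set G) := by
      apply Subgroup.mem_inf.mpr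
      refine ⟨?_, h1⟩
      rw [← hT]; exact t.2
    rw [hcl g] at h5
    exact Subgroup.mem_subgroupOf.mpr h5
  have hH'p : IsPGroup p ↥(H.subgroupOf T) :=
    hHp.comap_of_injective _ (Subgroup.subtype_injective _)
  obtain ⟨P, hP⟩ := hH'p.exists_le_sylow
  have hPeq : H.subgroupOf T = (P : Subgroup ↥T) := by
    by_contra hne
    have hlt : H.subgroupOf T < (P : Subgroup ↥T) := lt_of_le_of_ne hP hne
    obtain ⟨x, -, hxN, hxH⟩ := Cfsg.Agent.Helper19.exists_mem_normalizer_not_mem P.isPGroup' hlt
    exact hxH (hself hxN)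
  have hNC : Subgroup.normalizer ((P : Subgroup ↥T) : Set ↥T) ≤
      Subgroup.centralizer ((P : Subgroup ↥T) : Set ↥T) := by
    rw [← hPeq]
    refine le_trans hself ?_
    intro t ht
    rw [Subgroup.mem_centralizer_iff]
    intro y hy
    have hy' : (y : G) ∈ H := Subgroup.mem_subgroupOf.mp hy
    have ht' : (t : G) ∈ H := Subgroup.mem_subgroupOf.mp ht
    have hc := (Subgroup.le_centralizer_iff_isMulCommutative.mpr hHab) ht'
    rw [Subgroup.mem_centralizer_iff] at hc
    exact Subtype.ext (hc (y : G) hy')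
  have hcompl := MonoidHom.ker_transferSylow_isComplement' P hNC
  have hKcard : (Nat.card (MonoidHom.transferSylow P hNC).ker).Coprime p := by
    rw [← hcompl.index_eq_card]
    exact ((Nat.Prime.coprime_iff_not_dvd hp).mpr P.not_dvd_index).symm
  have hKle : (MonoidHom.transferSylow P hNC).ker ≤ Cfsg.pPrimeCore p ↥T :=
    Cfsg.Agent.Helper9.le_pPrimeCore_of_normal _ (MonoidHom.normal_ker _) hKcard
  have hOcard : (Nat.card ((Cfsg.pPrimeCore p ↥T).map T.subtype)).Coprime p := by
    rw [Subgroup.card_map_of_injective (Subgroup.subtype_injective _)]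
    exact Cfsg.Agent.Helper9.pPrimeCore_coprime p ↥T
  refine ⟨?_, Cfsg.Agent.S3003.inf_eq_bot_of_pgroup H _ hHp hOcard⟩
  apply le_antisymm (sup_le hHT (Subgroup.map_subtype_le _))
  have h1 : ((MonoidHom.transferSylow P hNC).ker ⊔ (P : Subgroup ↥T)).map T.subtype = T := by
    rw [hcompl.sup_eq_top, ← MonoidHom.range_eq_map, Subgroup.range_subtype]
  have hmapP : (P : Subgroup ↥T).map T.subtype = H := by
    rw [← hPeq, Subgroup.map_subgroupOf_eq_of_le hHT]
  rw [Subgroup.map_sup, hmapP] at h1
  calc T = (MonoidHom.transferSylow P hNC).ker.map T.subtype ⊔ H := h1.symm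
    _ ≤ (Cfsg.pPrimeCore p ↥T).map T.subtype ⊔ H := sup_le_sup_right (Subgroup.map_mono hKle) H
    _ = H ⊔ (Cfsg.pPrimeCore p ↥T).map T.subtype := sup_comm _ _

end Cfsg.Agent.S3020
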