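import Cfsg.Statements.S3025
import Cfsg.Agent.Helper15.Quat
import Cfsg.Agent.Helper16.Conj

set_option autoImplicit false
open Cfsg

namespace Cfsg.Agent.S3025

open Cfsg.Agent.Helper15

/-- the normal closure of `H` is simple and is the unique minimal normal subgroup -/
theorem exists_min {F : Type*} [Group F] [Finite F] (H : Subgroup F) (hH : H ≠ ⊥)
    (hmin : ∀ R : Subgroup F, R ≠ ⊥ → H ≤ Subgroup.normalizer (R : Set F) → H ≤ R) :
    ∃ N : Subgroup F, N.Normal ∧ N ≠ ⊥ ∧ (∀ M : Subgroup F, M.Normal → M ≠ ⊥ → N ≤ M) ∧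
      IsSimpleGroup ↥N ∧ H ≤ N := by
  classical
  have hNn : (Subgroup.normalClosure (H : Set F)).Normal := Subgroup.normalClosure_normal
  have hHN : H ≤ Subgroup.normalClosure (H : Set F) := Subgroup.le_normalClosure
  have hNne : Subgroup.normalClosure (H : Set F) ≠ ⊥ := fun h => hH (le_bot_iff.mp (h ▸ hHN))
  have hNmin : ∀ M : Subgroup F, M.Normal → M ≠ ⊥ → Subgroup.normalClosure (H : Set F) ≤ M := by
    intro M hM hM1
    haveI := hM
    apply Subgroup.normalClosure_le_normal
    exact hmin M hM1 (by rw [Subgroup.normalizer_eq_top]; exact le_top)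
  have hconj : ∀ (g : F) (R : Subgroup F), R ≠ ⊥ →
      (∀ h ∈ H, ∀ r ∈ R, (g * h * g⁻¹) * r * (g * h * g⁻¹)⁻¹ ∈ R) → ∀ h ∈ H, g * h * g⁻¹ ∈ R := by
    intro g R hR hnorm h hh
    have h1 : H ≤ R.map (MulAut.conj g⁻¹).toMonoidHom := by
      apply hmin
      · intro hb
        apply hR
        rwa [Subgroup.map_eq_bot_iff_of_injective _ (MulAut.conj g⁻¹).injective] at hb
      · intro h' hh'
        apply Cfsg.Agent.Helper16.mem_normalizer_of_conj_mem
        rintro _ ⟨r, hr, rfl⟩
        refine ⟨(g * h' * g⁻¹) * r * (g * h' * g⁻¹)⁻¹, hnorm h' hh' r hr, ?_⟩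
        show g⁻¹ * (g * h' * g⁻¹ * r * (g * h' * g⁻¹)⁻¹) * g⁻¹⁻¹ = h' * (g⁻¹ * r * g⁻¹⁻¹) * h'⁻¹
        group
    obtain ⟨r, hr, hrh⟩ := h1 hh
    have hrh' : g⁻¹ * r * g⁻¹⁻¹ = h := hrh
    have h2 : g * h * g⁻¹ = r := by
      rw [← hrh']; group
    rw [h2]; exact hr
  have hNsimple : IsSimpleGroup ↥(Subgroup.normalClosure (H : Set F)) := by
    haveI hnt : Nontrivial ↥(Subgroup.normalClosure (H : Set F)) :=
      (Subgroup.nontrivial_iff_ne_bot _).mpr hNne
    refine { toNontrivial := hnt, eq_bot_or_eq_top_of_normal := fun M hM => ?_ }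
    by_cases hM1 : M = ⊥
    · exact Or.inl hM1
    · right
      rw [eq_top_iff]
      have hM'ne : M.map (Subgroup.normalClosure (H : Set F)).subtype ≠ ⊥ := by
        intro hb
        apply hM1
        rwa [Subgroup.map_eq_bot_iff_of_injective _ (Subgroup.subtype_injective _)] at hb
      have hall : ∀ g : F, ∀ h ∈ H,
          g * h * g⁻¹ ∈ M.map (Subgroup.normalClosure (H : Set F)).subtype := by
        intro g
        apply hconj g _ hM'ne
        rintro h hh _ ⟨m, hm, rfl⟩
        have hgh : g * h * g⁻¹ ∈ Subgroup.normalClosure (H : Set F) := hNn.conj_mem h (hHN hh) g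
        exact ⟨⟨g * h * g⁻¹, hgh⟩ * m * ⟨g * h * g⁻¹, hgh⟩⁻¹, hM.conj_mem m hm _, rfl⟩
      have hle : Subgroup.normalClosure (H : Set F) ≤
          M.map (Subgroup.normalClosure (H : Set F)).subtype := by
        unfold Subgroup.normalClosure
        rw [Subgroup.closure_le]
        intro x hx
        rw [Group.mem_conjugatesOfSet_iff] at hx
        obtain ⟨a, ha, hax⟩ := hx
        obtain ⟨c, hc⟩ := isConj_iff.mp hax
        rw [← hc]; exact hall c a ha
      intro x _
      obtain ⟨m, hm, hmx⟩ := hle x.2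
      have hmx' : m = x := Subtype.ext hmx
      rw [← hmx']; exact hm
  exact ⟨_, hNn, hNne, hNmin, hNsimple, hHN⟩


/-- Let F be a finite group and H a nontrivial subgroup of F that is contained in every nontrivial subgroup of F which H normalizes. Then F has a nontrivial normal subgroup N contained in every nontrivial normal subgroup of F (a unique minimal normal subgroup), N is simple, and one of the following holds: C_F(N) = 1; or H = N has prime order p, C_F(N) is cyclic of order a power of p, and F/C_F(N) is cyclic of order dividing p − 1; or H = N has order 2, N is central in F, and F is a generalized quaternion group. -/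
theorem result {F : Type*} [Group F] [Finite F] (H : Subgroup F) (hH : H ≠ ⊥)
    (hmin : ∀ R : Subgroup F, R ≠ ⊥ → H ≤ Subgroup.normalizer (R : Set F) → H ≤ R) :
    ∃ N : Subgroup F, N.Normal ∧ N ≠ ⊥ ∧ (∀ M : Subgroup F, M.Normal → M ≠ ⊥ → N ≤ M) ∧ IsSimpleGroup ↥N ∧
      (Subgroup.centralizer (N : Set F) = ⊥ ∨
       (H = N ∧ (Nat.card N).Prime ∧ IsCyclic ↥(Subgroup.centralizer (N : Set F)) ∧
          (∃ k : ℕ, 1 ≤ k ∧ Nat.card ↥(Subgroup.centralizer (N : Set F)) = Nat.card N ^ k) ∧
          (∃ g : F, Subgroup.centralizer (N : Set F) ⊔ Subgroup.zpowers g = ⊤) ∧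
          (Subgroup.centralizer (N : Set F)).index ∣ Nat.card N - 1) ∨
       (H = N ∧ Nat.card N = 2 ∧ Subgroup.centralizer (N : Set F) = ⊤ ∧
          ∃ k : ℕ, 1 ≤ k ∧ Nonempty (F ≃* QuaternionGroup (2 ^ k)))) := by

  classical
  obtain ⟨N, hNn, hNne, hNmin, hNsimple, hHN⟩ := exists_min H hH hmin
  refine ⟨N, hNn, hNne, hNmin, hNsimple, ?_⟩
  haveI := hNn
  by_cases hC : Subgroup.centralizer (N : Set F) = ⊥
  · exact Or.inl hC
  right
  have hNC : N ≤ Subgroup.centralizer (N : Set F) := hNmin _ inferInstance hC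
  have hcommN : ∀ a b : ↥N, a * b = b * a := by
    intro a b
    have h1 := (Subgroup.mem_centralizer_iff.mp (hNC a.2)) b b.2
    exact Subtype.ext h1.symm
  have hprime : (Nat.card ↥N).Prime := by
    letI : CommGroup ↥N := { (inferInstance : Group ↥N) with mul_comm := hcommN }
    exact IsSimpleGroup.prime_card
  haveI : Fact (Nat.card ↥N).Prime := ⟨hprime⟩
  have hHeq : H = N := by
    apply Subgroup.eq_of_le_of_card_ge hHN
    have hd : Nat.card H ∣ Nat.card N := Subgroup.card_dvd_of_le hHN
    rcases (Nat.dvd_prime hprime).mp hd with h1 | h1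
    · exact absurd (Subgroup.eq_bot_of_card_eq H h1) hH
    · exact h1.ge
  have hRC : ∀ R : Subgroup F, R ≠ ⊥ → R ≤ Subgroup.centralizer (N : Set F) → N ≤ R := by
    intro R hR hRC
    have h1 : H ≤ R := by
      apply hmin R hR
      intro h hh
      apply Cfsg.Agent.Helper16.mem_normalizer_of_conj_mem
      intro r hr
      have h2 := (Subgroup.mem_centralizer_iff.mp (hRC hr)) h (hHN hh)
      rw [h2, mul_inv_cancel_right]; exact hr
    rw [← hHeq]; exact h1
  have hCp : IsPGroup (Nat.card ↥N) ↥(Subgroup.centralizer (N : Set F)) := by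
    have hprimes : ∀ q : ℕ, q.Prime → q ∣ Nat.card ↥(Subgroup.centralizer (N : Set F)) →
        q = Nat.card ↥N := by
      intro q hq hqd
      haveI : Fact q.Prime := ⟨hq⟩
      obtain ⟨x, hx⟩ := exists_prime_orderOf_dvd_card' q hqd
      have hxF : orderOf (x : F) = q := by rw [Subgroup.orderOf_coe]; exact hx
      have hR : Subgroup.zpowers (x : F) ≠ ⊥ := by
        intro hb
        have h1 : Nat.card (Subgroup.zpowers (x : F)) = 1 := by rw [hb, Subgroup.card_bot]
        rw [Nat.card_zpowers, hxF] at h1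
        exact hq.one_lt.ne' h1
      have hle : N ≤ Subgroup.zpowers (x : F) := hRC _ hR (Subgroup.zpowers_le.mpr x.2)
      have hd : Nat.card ↥N ∣ Nat.card (Subgroup.zpowers (x : F)) := Subgroup.card_dvd_of_le hle
      rw [Nat.card_zpowers, hxF] at hd
      exact ((Nat.prime_dvd_prime_iff_eq hprime hq).mp hd).symm
    have hcard := Nat.eq_prime_pow_of_unique_prime_dvd (Nat.card_pos.ne')
      (fun {d} hd hdd => hprimes d hd hdd)
    exact IsPGroup.of_card hcard
  have huniq : ∀ X Y : Subgroup ↥(Subgroup.centralizer (N : Set F)),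
      Nat.card X = Nat.card ↥N → Nat.card Y = Nat.card ↥N → X = Y := by
    have key : ∀ X : Subgroup ↥(Subgroup.centralizer (N : Set F)), Nat.card X = Nat.card ↥N →
        X.map (Subgroup.centralizer (N : Set F)).subtype = N := by
      intro X hX
      have hXne : X.map (Subgroup.centralizer (N : Set F)).subtype ≠ ⊥ := by
        intro hb
        rw [Subgroup.map_eq_bot_iff_of_injective _ (Subgroup.subtype_injective _)] at hb
        rw [hb, Subgroup.card_bot] at hX
        exact hprime.one_lt.ne hX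
      have hle := hRC _ hXne (Subgroup.map_subtype_le _)
      exact (Subgroup.eq_of_le_of_card_ge hle
        (by rw [Subgroup.card_map_of_injective (Subgroup.subtype_injective _), hX])).symm
    intro X Y hX hY
    exact Subgroup.map_injective (Subgroup.subtype_injective _) ((key X hX).trans (key Y hY).symm)
  have hdich := cyclic_or_quaternion_of_unique (Nat.card ↥N) hCp huniq
  obtain ⟨k, hk⟩ := IsPGroup.iff_card.mp hCp
  have hk1 : 1 ≤ k := by
    by_contra h0
    have hk0 : k = 0 := by omega
    rw [hk0, pow_zero] at hk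
    exact hC (Subgroup.eq_bot_of_card_eq _ hk)
  -- the conjugation action on N
  have hker : ∀ f : F, (MulAut.conjNormal f : MulAut ↥N) = 1 ↔
      f ∈ Subgroup.centralizer (N : Set F) := by
    intro f
    constructor
    · intro h
      rw [Subgroup.mem_centralizer_iff]
      intro n hn
      have h1 : ((MulAut.conjNormal f : MulAut ↥N) ⟨n, hn⟩ : F) = n := by rw [h]; rfl
      rw [MulAut.conjNormal_apply] at h1
      have h2 : f * n * f⁻¹ = n := h1
      calc n * f = (f * n * f⁻¹) * f := by rw [h2]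
        _ = f * n := by group
    · intro h
      apply MulEquiv.ext
      intro n
      apply Subtype.ext
      rw [MulAut.conjNormal_apply]
      have h1 := (Subgroup.mem_centralizer_iff.mp h) n n.2
      show f * (n : F) * f⁻¹ = n
      rw [← h1, mul_inv_cancel_right]
  have hkerEq : (MulAut.conjNormal : F →* MulAut ↥N).ker = Subgroup.centralizer (N : Set F) := by
    ext f
    rw [MonoidHom.mem_ker]
    exact hker f
  haveI hNcyc : IsCyclic ↥N := isCyclic_of_prime_card rfl
  have hindex : (Subgroup.centralizer (N : Set F)).index ∣ Nat.card ↥N - 1 := by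
    rw [← hkerEq, Subgroup.index_ker]
    have h1 : Nat.card ↥(MulAut.conjNormal : F →* MulAut ↥N).range ∣ Nat.card (MulAut ↥N) :=
      Subgroup.card_subgroup_dvd_card _
    rw [IsCyclic.card_mulAut, Nat.totient_prime hprime] at h1
    exact h1
  have hgen : ∃ g : F, Subgroup.centralizer (N : Set F) ⊔ Subgroup.zpowers g = ⊤ := by
    haveI : IsCyclic (MulAut ↥N) :=
      isCyclic_of_surjective (IsCyclic.mulAutMulEquiv ↥N).symm (MulEquiv.surjective _)
    obtain ⟨γ, hγ⟩ :=
      (inferInstance : IsCyclic ↥(MulAut.conjNormal : F →* MulAut ↥N).range).exists_generator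
    obtain ⟨g, hg⟩ := γ.2
    refine ⟨g, ?_⟩
    rw [eq_top_iff]
    intro f _
    obtain ⟨j, hj⟩ := Subgroup.mem_zpowers_iff.mp (hγ ⟨MulAut.conjNormal f, ⟨f, rfl⟩⟩)
    have h2 : (MulAut.conjNormal (f * (g ^ j)⁻¹) : MulAut ↥N) = 1 := by
      rw [map_mul, map_inv, map_zpow, hg]
      have h3 := congrArg Subtype.val hj
      rw [Subgroup.coe_zpow] at h3
      rw [h3]
      exact mul_inv_cancel _
    have h3 : f * (g ^ j)⁻¹ ∈ Subgroup.centralizer (N : Set F) := (hker _).mp h2
    have h4 : f = (f * (g ^ j)⁻¹) * g ^ j := by group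
    rw [h4]
    exact Subgroup.mul_mem _ (Subgroup.mem_sup_left h3)
      (Subgroup.mem_sup_right (Subgroup.zpow_mem_zpowers g j))
  by_cases hcyc : IsCyclic ↥(Subgroup.centralizer (N : Set F))
  · left
    exact ⟨hHeq, hprime, hcyc, ⟨k, hk1, hk⟩, hgen, hindex⟩
  · right
    rcases hdich with h | ⟨hp2, n, ⟨e⟩⟩
    · exact absurd h hcyc
    · have hCtop : Subgroup.centralizer (N : Set F) = ⊤ := by
        rw [← Subgroup.index_eq_one]
        have h1 := hindex
        rw [hp2] at h1
        exact Nat.dvd_one.mp h1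
      have hn1 : 1 ≤ n := by
        by_contra h0
        have hn0 : n = 0 := by omega
        subst hn0
        apply hcyc
        haveI : IsCyclic (QuaternionGroup (2 ^ 0)) := QuaternionGroup.quaternionGroup_one_isCyclic
        exact isCyclic_of_surjective e.symm e.symm.surjective
      refine ⟨hHeq, hp2, hCtop, n, hn1, ⟨?_⟩⟩
      exact (Subgroup.topEquiv.symm.trans (MulEquiv.subgroupCongr hCtop.symm)).trans e

end Cfsg.Agent.S3025
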