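import Cfsg.Statements.S3071
import Mathlib
import Cfsg.Agent.Helper10.ZJLocal

set_option autoImplicit false
open Cfsg

namespace Cfsg.Agent.S3071

/-- Let p be an odd prime and S a Sylow p-subgroup of the finite group G such that, for every subgroup P with Z(S) ≤ P ≤ S, the normalizer N_G(P) has no section isomorphic to SL₂(p). Let J(S) be the subgroup generated by the abelian subgroups of S of largest order. Then two elements of S are conjugate in G if and only if they are conjugate in N_G(Z(J(S))). -/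
theorem result {G : Type*} [Group G] [Finite G] {p : ℕ} [Fact p.Prime]
    (hp : p ≠ 2) (S : Sylow p G)
    (hfree : ∀ P : Subgroup G, (S : Subgroup G) ⊓ Subgroup.centralizer ((S : Subgroup G) : Set G) ≤ P → P ≤ S →
      ¬ ∃ (H K : Subgroup G) (hK : (K.subgroupOf H).Normal), H ≤ Subgroup.normalizer (P : Set G) ∧
        Nonempty ((H ⧸ K.subgroupOf H) ≃* Matrix.SpecialLinearGroup (Fin 2) (ZMod p))) :
    ∀ x ∈ S, ∀ y ∈ S, (∃ g : G, g * x * g⁻¹ = y) ↔
      ∃ n ∈ Subgroup.normalizer (Cfsg.centerThompsonAOf (S : Subgroup G) : Set G), n * x * n⁻¹ = y := by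
  intro x hx y hy
  constructor
  · rintro ⟨g, rfl⟩
    have hloc : ∀ T : Subgroup G,
        (S : Subgroup G) ⊓ Subgroup.centralizer ((S : Subgroup G) : Set G) ≤ T →
        T ≤ (S : Subgroup G) →
        ∀ (Y : Type _) [Group Y],
          Cfsg.Agent.Helper10.IsSec ↥(Subgroup.normalizer (T : Set G)) Y →
          Cfsg.Agent.Helper10.QStab p Y := by
      intro T hZT hTS
      apply Cfsg.Agent.Helper10.qstab_of_sections
      intro K R hR
      apply Cfsg.Agent.Helper23.Dk.all_sections_stable hp
      intro P _ _ hinv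
      have hinv2 : Cfsg.Involves (Matrix.SpecialLinearGroup (Fin 2) (ZMod p))
          ↥(Subgroup.normalizer (T : Set G)) :=
        Cfsg.Agent.Helper10.involves_of_subgroup _ hinv
      obtain ⟨H, K', hK', hHN, hiso⟩ :=
        Cfsg.Agent.Helper10.exists_section_le_of_involves _ hinv2
      exact hfree T hZT hTS ⟨H, K', hK', hHN, hiso⟩
    obtain ⟨n, hn, e⟩ := Cfsg.Agent.Helper10.zj_ctl_of_local hp S hloc {x} g
      (by intro a ha; rw [Set.mem_singleton_iff] at ha; rw [ha]; exact hx)
      (by
        rintro _ ⟨a, ha, rfl⟩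
        rw [Set.mem_singleton_iff] at ha; rw [ha]; exact hy)
    refine ⟨n, ?_, e x rfl⟩
    rw [Cfsg.Agent.Helper23.centerThompsonAOf_eq_zjSub p]
    exact hn
  · rintro ⟨n, -, h⟩
    exact ⟨n, h⟩

end Cfsg.Agent.S3071
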