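import Cfsg.Statements.S3799
import Cfsg.Agent.Helper14.Frattini
import Cfsg.Agent.Helper23.QP5
import Cfsg.Agent.S4218

set_option autoImplicit false
open Cfsg

namespace Cfsg.Agent.S3799

open Matrix
open scoped commutatorElement

/-- The Heisenberg group of "dimension" `2 n + 1` over `ZMod p`. -/
@[ext] structure Heis (n p : ℕ) where
  a : Fin n → ZMod p
  b : Fin n → ZMod p
  c : ZMod p

namespace Heis

variable {n p : ℕ}

instance : Mul (Heis n p) := ⟨fun x y => ⟨x.a + y.a, x.b + y.b, x.c + y.c + x.a ⬝ᵥ y.b⟩⟩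
instance : One (Heis n p) := ⟨⟨0, 0, 0⟩⟩
instance : Inv (Heis n p) := ⟨fun x => ⟨-x.a, -x.b, -x.c + x.a ⬝ᵥ x.b⟩⟩

@[simp] theorem mul_a (x y : Heis n p) : (x * y).a = x.a + y.a := rfl
@[simp] theorem mul_b (x y : Heis n p) : (x * y).b = x.b + y.b := rfl
@[simp] theorem mul_c (x y : Heis n p) : (x * y).c = x.c + y.c + x.a ⬝ᵥ y.b := rfl
@[simp] theorem one_a : (1 : Heis n p).a = 0 := rfl
@[simp] theorem one_b : (1 : Heis n p).b = 0 := rfl
@[simp] theorem one_c : (1 : Heis n p).c = 0 := rfl
@[simp] theorem inv_a (x : Heis n p) : (x⁻¹).a = -x.a := rfl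
@[simp] theorem inv_b (x : Heis n p) : (x⁻¹).b = -x.b := rfl
@[simp] theorem inv_c (x : Heis n p) : (x⁻¹).c = -x.c + x.a ⬝ᵥ x.b := rfl

instance : Group (Heis n p) :=
  { (inferInstance : Mul (Heis n p)), (inferInstance : One (Heis n p)),
    (inferInstance : Inv (Heis n p)) with
    mul_assoc := by
      intro x y z
      refine Heis.ext ?_ ?_ ?_
      · simp only [mul_a, add_assoc]
      · simp only [mul_b, add_assoc]
      · simp only [mul_c, mul_a, mul_b, add_dotProduct, dotProduct_add]
        ring
    one_mul := by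
      intro x
      refine Heis.ext ?_ ?_ ?_
      · simp only [mul_a, one_a, zero_add]
      · simp only [mul_b, one_b, zero_add]
      · simp only [mul_c, one_c, one_a, zero_dotProduct, zero_add, add_zero]
    mul_one := by
      intro x
      refine Heis.ext ?_ ?_ ?_
      · simp only [mul_a, one_a, add_zero]
      · simp only [mul_b, one_b, add_zero]
      · simp only [mul_c, one_c, one_b, dotProduct_zero, add_zero]
    inv_mul_cancel := by
      intro x
      refine Heis.ext ?_ ?_ ?_
      · simp only [mul_a, inv_a, one_a, neg_add_cancel]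
      · simp only [mul_b, inv_b, one_b, neg_add_cancel]
      · simp only [mul_c, inv_c, inv_a, neg_dotProduct, one_c]
        ring }

theorem pow_formula (x : Heis n p) (k : ℕ) :
    (x ^ k).a = k • x.a ∧ (x ^ k).b = k • x.b ∧
      (x ^ k).c = k • x.c + (k.choose 2) • (x.a ⬝ᵥ x.b) := by
  induction k with
  | zero => simp
  | succ k ih =>
    obtain ⟨h1, h2, h3⟩ := ih
    rw [pow_succ]
    refine ⟨?_, ?_, ?_⟩
    · rw [mul_a, h1, succ_nsmul]
    · rw [mul_b, h2, succ_nsmul]
    · have hch : (k + 1).choose 2 = k + k.choose 2 := by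
        rw [Nat.choose_succ_succ', Nat.choose_one_right]
      rw [mul_c, h3, h1, smul_dotProduct, hch]
      simp only [add_nsmul, one_nsmul]
      abel

theorem nsmul_p (y : ZMod p) : p • y = 0 := by
  rw [nsmul_eq_mul, CharP.cast_eq_zero, zero_mul]

theorem pow_p (hp : p.Prime) (hp2 : p ≠ 2) (x : Heis n p) : x ^ p = 1 := by
  obtain ⟨h1, h2, h3⟩ := pow_formula x p
  have hdvd : p ∣ p.choose 2 := hp.dvd_choose_self (by norm_num) (by
    have := hp.two_le
    omega)
  refine Heis.ext ?_ ?_ ?_
  · rw [h1, one_a]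
    funext i
    exact nsmul_p _
  · rw [h2, one_b]
    funext i
    exact nsmul_p _
  · rw [h3, one_c, nsmul_p, zero_add, nsmul_eq_mul,
      (CharP.cast_eq_zero_iff (ZMod p) p _).2 hdvd, zero_mul]

/-- The underlying equivalence with a product. -/
def equivProd : Heis n p ≃ (Fin n → ZMod p) × (Fin n → ZMod p) × ZMod p where
  toFun x := (x.a, x.b, x.c)
  invFun t := ⟨t.1, t.2.1, t.2.2⟩
  left_inv _ := rfl
  right_inv _ := rfl

theorem finite_of [NeZero p] : Finite (Heis n p) := Finite.of_equiv _ equivProd.symm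

theorem card_eq [NeZero p] : Nat.card (Heis n p) = p ^ (1 + 2 * n) := by
  rw [Nat.card_congr equivProd, Nat.card_prod, Nat.card_prod, Nat.card_fun, Nat.card_zmod,
    Nat.card_eq_fintype_card, Fintype.card_fin]
  ring

theorem mem_center_iff' (x : Heis n p) :
    x ∈ Subgroup.center (Heis n p) ↔ x.a = 0 ∧ x.b = 0 := by
  rw [Subgroup.mem_center_iff]
  constructor
  · intro h
    constructor
    · funext k
      have h1 := congrArg Heis.c (h ⟨0, Pi.single k 1, 0⟩)
      simpa using h1
    · funext k
      have h1 := congrArg Heis.c (h ⟨Pi.single k 1, 0, 0⟩)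
      simpa using h1
  · rintro ⟨ha, hb⟩ g
    refine Heis.ext ?_ ?_ ?_
    · simp [ha]
    · simp [hb]
    · simp [ha, hb, add_comm]

theorem card_center [NeZero p] : Nat.card (Subgroup.center (Heis n p)) = p := by
  have e : Subgroup.center (Heis n p) ≃ ZMod p :=
    { toFun := fun x => x.1.c
      invFun := fun c => ⟨⟨0, 0, c⟩, (mem_center_iff' _).2 ⟨rfl, rfl⟩⟩
      left_inv := by
        rintro ⟨x, hx⟩
        obtain ⟨ha, hb⟩ := (mem_center_iff' x).1 hx
        apply Subtype.ext
        exact Heis.ext ha.symm hb.symm rfl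
      right_inv := fun c => rfl }
  rw [Nat.card_congr e, Nat.card_zmod]

theorem commutator_eq (hn : 1 ≤ n) : commutator (Heis n p) = Subgroup.center (Heis n p) := by
  apply le_antisymm
  · rw [commutator_def, Subgroup.commutator_le]
    intro g _ h _
    rw [mem_center_iff', commutatorElement_def]
    constructor
    · simp
    · simp
  · intro x hx
    obtain ⟨ha, hb⟩ := (mem_center_iff' x).1 hx
    have hx' : x = ⁅(⟨Pi.single (⟨0, hn⟩ : Fin n) x.c, 0, 0⟩ : Heis n p),
        (⟨0, Pi.single (⟨0, hn⟩ : Fin n) 1, 0⟩ : Heis n p)⁆ := by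
      rw [commutatorElement_def]
      refine Heis.ext ?_ ?_ ?_
      · simp [ha]
      · simp [hb]
      · simp
    rw [hx', commutator_def]
    exact Subgroup.commutator_mem_commutator (Subgroup.mem_top _) (Subgroup.mem_top _)

/-- The projection onto the abelianisation. -/
def proj : Heis n p →* Multiplicative ((Fin n → ZMod p) × (Fin n → ZMod p)) where
  toFun x := Multiplicative.ofAdd (x.a, x.b)
  map_one' := rfl
  map_mul' _ _ := rfl

theorem frattini_eq [Fact p.Prime] (hn : 1 ≤ n) :
    frattini (Heis n p) = Subgroup.center (Heis n p) := by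
  haveI : NeZero p := ⟨(Fact.out : p.Prime).ne_zero⟩
  haveI : Finite (Heis n p) := finite_of
  have hP : IsPGroup p (Heis n p) := IsPGroup.of_card card_eq
  apply le_antisymm
  · intro x hx
    have h1 := Helper14.frattini_le_ker_of_elementary (p := p) (proj (n := n) (p := p))
      (fun a b => mul_comm _ _) (fun a => by
        show Multiplicative.ofAdd (a.a, a.b) ^ p = 1
        rw [← ofAdd_nsmul]
        have h0 : p • (a.a, a.b) = 0 := by
          refine Prod.ext ?_ ?_
          · funext i
            exact nsmul_p _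
          · funext i
            exact nsmul_p _
        rw [h0]
        rfl) hx
    rw [MonoidHom.mem_ker] at h1
    have h2 : (x.a, x.b) = 0 := Multiplicative.ofAdd.injective h1
    rw [mem_center_iff']
    exact ⟨congrArg Prod.fst h2, congrArg Prod.snd h2⟩
  · rw [← commutator_eq hn, commutator_def, Subgroup.commutator_le]
    intro g _ h _
    exact Helper23.QP.commutator_mem_frattini hP g h

/-- The index type of the matrices. -/
abbrev I (n : ℕ) := Unit ⊕ (Fin n ⊕ Unit)

/-- The nilpotent part of the matrix of an element. -/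
def N (x : Heis n p) : Matrix (I n) (I n) (ZMod p) :=
  Matrix.of fun i j =>
    match i, j with
    | Sum.inl _, Sum.inr (Sum.inl k) => x.a k
    | Sum.inl _, Sum.inr (Sum.inr _) => x.c
    | Sum.inr (Sum.inl k), Sum.inr (Sum.inr _) => x.b k
    | _, _ => 0

theorem N_one : N (1 : Heis n p) = 0 := by
  ext i j
  rcases i with (_ | (k | _)) <;> rcases j with (_ | (l | _)) <;> simp [N]

theorem N_mul (x y : Heis n p) : N (x * y) = N x + N y + N x * N y := by
  ext i j
  rcases i with (_ | (k | _)) <;> rcases j with (_ | (l | _)) <;>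
    simp [N, Matrix.mul_apply, Fintype.sum_sum_type, dotProduct]

/-- The matrix representation. -/
def Ψ : Heis n p →* Matrix (I n) (I n) (ZMod p) where
  toFun x := 1 + N x
  map_one' := by rw [N_one, add_zero]
  map_mul' x y := by
    rw [N_mul, add_mul, mul_add, mul_add, one_mul, mul_one, one_mul]
    abel

theorem Ψ_inj : Function.Injective (Ψ (n := n) (p := p)) := by
  intro x y h
  have hN : N x = N y := add_left_cancel (show (1 : Matrix (I n) (I n) (ZMod p)) + N x = 1 + N y from h)
  refine Heis.ext ?_ ?_ ?_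
  · funext k
    have h1 := congrFun (congrFun hN (Sum.inl ())) (Sum.inr (Sum.inl k))
    simpa [N] using h1
  · funext k
    have h1 := congrFun (congrFun hN (Sum.inr (Sum.inl k))) (Sum.inr (Sum.inr ()))
    simpa [N] using h1
  · have h1 := congrFun (congrFun hN (Sum.inl ())) (Sum.inr (Sum.inr ()))
    simpa [N] using h1

/-- A bijection of index types. -/
noncomputable def σ (n : ℕ) : I n ≃ Fin (n + 2) :=
  Fintype.equivFinOfCardEq (by
    simp only [Fintype.card_sum, Fintype.card_unit, Fintype.card_fin]
    omega)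

/-- The embedding into the general linear group. -/
noncomputable def Φ : Heis n p →* Matrix.GeneralLinearGroup (Fin (n + 2)) (ZMod p) :=
  (Units.mapEquiv (Matrix.reindexRingEquiv (ZMod p) (σ n)).toMulEquiv).toMonoidHom.comp
    (Ψ (n := n) (p := p)).toHomUnits

theorem Φ_inj : Function.Injective (Φ (n := n) (p := p)) := by
  intro x y h
  have h1 : (Ψ (n := n) (p := p)).toHomUnits x = (Ψ (n := n) (p := p)).toHomUnits y :=
    (Units.mapEquiv (Matrix.reindexRingEquiv (ZMod p) (σ n)).toMulEquiv).injective h
  have h2 := congrArg Units.val h1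
  rw [MonoidHom.coe_toHomUnits, MonoidHom.coe_toHomUnits] at h2
  exact Ψ_inj h2

end Heis

theorem map_center_equiv {A B : Type*} [Group A] [Group B] (e : A ≃* B) :
    (Subgroup.center A).map e.toMonoidHom = Subgroup.center B := by
  ext y
  constructor
  · rintro ⟨x, hx, rfl⟩
    have hx' : x ∈ Subgroup.center A := hx
    rw [Subgroup.mem_center_iff] at hx' ⊢
    intro g
    obtain ⟨g', rfl⟩ := e.surjective g
    show e g' * e x = e x * e g'
    rw [← map_mul, ← map_mul, hx' g']
  · intro hy
    obtain ⟨x, rfl⟩ := e.surjective y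
    refine ⟨x, ?_, rfl⟩
    show x ∈ Subgroup.center A
    rw [Subgroup.mem_center_iff] at hy ⊢
    intro g
    apply e.injective
    rw [map_mul, map_mul]
    exact hy (e g)

theorem map_commutator_equiv {A B : Type*} [Group A] [Group B] (e : A ≃* B) :
    (commutator A).map e.toMonoidHom = commutator B := by
  rw [commutator_def, commutator_def, Subgroup.map_commutator,
    Subgroup.map_top_of_surjective _ e.surjective]

theorem mem_map_equiv' {A B : Type*} [Group A] [Group B] (e : A ≃* B) (K : Subgroup A) (x : A) :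
    e x ∈ K.map e.toMonoidHom ↔ x ∈ K := by
  rw [Subgroup.mem_map_equiv, MulEquiv.symm_apply_apply]


/-- For every odd prime p and every n ≥ 1 there is an extraspecial p-group of order p^(1+2n) and exponent p; concretely, the general linear group of degree n + 2 over the field with p elements contains such a subgroup. -/
theorem result (p : ℕ) [Fact p.Prime] (hp : p ≠ 2) (n : ℕ) (hn : 1 ≤ n) : ∃ E : Subgroup (Matrix.GeneralLinearGroup (Fin (n + 2)) (ZMod p)), Cfsg.IsExtraspecial p ↥E ∧ Nat.card E = p ^ (1 + 2 * n) ∧ ∀ x ∈ E, x ^ p = 1 := by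

  classical
  have hp' : p.Prime := Fact.out
  haveI : NeZero p := ⟨hp'.ne_zero⟩
  haveI : Finite (Heis n p) := Heis.finite_of
  obtain ⟨e⟩ : Nonempty (Heis n p ≃* (Heis.Φ (n := n) (p := p)).range) :=
    ⟨MonoidHom.ofInjective Heis.Φ_inj⟩
  have hP : IsPGroup p (Heis n p) := IsPGroup.of_card Heis.card_eq
  have hfr : frattini ↥(Heis.Φ (n := n) (p := p)).range
      = Subgroup.center ↥(Heis.Φ (n := n) (p := p)).range := by
    ext y
    obtain ⟨x, rfl⟩ := e.surjective y
    rw [S4218.frattini_map_equiv e x, Heis.frattini_eq hn, ← map_center_equiv e,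
      mem_map_equiv']
  have hcm : commutator ↥(Heis.Φ (n := n) (p := p)).range
      = Subgroup.center ↥(Heis.Φ (n := n) (p := p)).range := by
    rw [← map_commutator_equiv e, ← map_center_equiv e, Heis.commutator_eq hn]
  have hcc : Nat.card (Subgroup.center ↥(Heis.Φ (n := n) (p := p)).range) = p := by
    rw [← map_center_equiv e, Subgroup.card_map_of_injective e.injective, Heis.card_center]
  refine ⟨(Heis.Φ (n := n) (p := p)).range, ⟨⟨hP.of_equiv e, hfr, hcm⟩, hcc⟩, ?_, ?_⟩
  · rw [← Nat.card_congr e.toEquiv, Heis.card_eq]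
  · rintro _ ⟨h, rfl⟩
    rw [← map_pow, Heis.pow_p hp' hp, map_one]

end Cfsg.Agent.S3799
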