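import Cfsg.Statements.S3074
import Cfsg.Agent.S3799

set_option autoImplicit false
open Cfsg

namespace Cfsg.Agent.S3074

open Matrix
open Cfsg.Agent.S3799 (Heis)

def θmat {p : ℕ} (x : Heis 1 p) : Matrix (Fin 3) (Fin 3) (ZMod p) :=
  !![1, x.a 0, x.c; 0, 1, x.b 0; 0, 0, 1]

theorem θmat_det {p : ℕ} (x : Heis 1 p) : (θmat x).det = 1 := by
  rw [Matrix.det_fin_three]
  simp [θmat]

theorem θmat_mul {p : ℕ} (x y : Heis 1 p) : θmat (x * y) = θmat x * θmat y := by
  ext i j
  fin_cases i <;> fin_cases j <;>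
    simp [θmat, Matrix.mul_apply, Fin.sum_univ_three, dotProduct] <;> ring

theorem θmat_one {p : ℕ} : θmat (1 : Heis 1 p) = 1 := by
  ext i j
  fin_cases i <;> fin_cases j <;> simp [θmat]

def θ {p : ℕ} : Heis 1 p →* Matrix.SpecialLinearGroup (Fin 3) (ZMod p) where
  toFun x := ⟨θmat x, θmat_det x⟩
  map_one' := by
    apply Subtype.ext
    show θmat 1 = 1
    exact θmat_one
  map_mul' x y := by
    apply Subtype.ext
    show θmat (x * y) = θmat x * θmat y
    exact θmat_mul x y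

theorem θ_inj {p : ℕ} : Function.Injective (θ (p := p)) := by
  intro x y h
  have hm : θmat x = θmat y := congrArg Subtype.val h
  have h01 := congrFun (congrFun hm 0) 1
  have h02 := congrFun (congrFun hm 0) 2
  have h12 := congrFun (congrFun hm 1) 2
  simp [θmat] at h01 h02 h12
  refine Heis.ext ?_ ?_ h02
  · funext i; rw [Subsingleton.elim i 0]; exact h01
  · funext i; rw [Subsingleton.elim i 0]; exact h12

theorem θ_mem {p : ℕ} (x : Heis 1 p) : θ x ∈ Cfsg.qd p := by
  apply Subgroup.subset_closure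
  show (θmat x) 2 0 = 0 ∧ (θmat x) 2 1 = 0 ∧ (θmat x) 2 2 = 1
  simp [θmat]

/-- Let p be an odd prime. A Sylow p-subgroup of Qd(p), the split extension of an elementary abelian group of order p² by SL₂(p) acting naturally, is extraspecial of order p³ and exponent p. -/
theorem result (p : ℕ) [Fact p.Prime] (hp : p ≠ 2) (P : Sylow p ↥(Cfsg.qd p)) :
    Cfsg.IsExtraspecial p ↥P ∧ Nat.card P = p ^ 3 ∧ Monoid.exponent ↥P = p := by
  classical
  have hp' : p.Prime := Fact.out
  haveI : NeZero p := ⟨hp'.ne_zero⟩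
  haveI : Finite (Heis 1 p) := Heis.finite_of
  let θ' : Heis 1 p →* ↥(Cfsg.qd p) := (θ (p := p)).codRestrict (Cfsg.qd p) θ_mem
  have hθ' : Function.Injective θ' := by
    intro x y h
    exact θ_inj (congrArg Subtype.val h)
  have hRcard : Nat.card θ'.range = p ^ 3 := by
    rw [← Nat.card_congr (MonoidHom.ofInjective hθ').toEquiv, Heis.card_eq]
  have hRp : IsPGroup p θ'.range := IsPGroup.of_card hRcard
  obtain ⟨Q, hQ⟩ := hRp.exists_le_sylow
  have hPQ : Nat.card P = Nat.card Q := by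
    rw [Sylow.card_eq_multiplicity, Sylow.card_eq_multiplicity]
  obtain ⟨k, hk⟩ := IsPGroup.iff_card.mp P.isPGroup'
  have hGL : Nat.card (Matrix.GeneralLinearGroup (Fin 3) (ZMod p))
      = (p ^ 3 - 1) * (p ^ 3 - p) * (p ^ 3 - p ^ 2) := by
    rw [Matrix.card_GL_field, ZMod.card, Fin.prod_univ_three]
    simp
  have hfac : (p ^ 3 - 1) * (p ^ 3 - p) * (p ^ 3 - p ^ 2)
      = p ^ 3 * ((p ^ 3 - 1) * (p ^ 2 - 1) * (p - 1)) := by
    have hB : p ^ 3 - p = p * (p ^ 2 - 1) := by
      rw [mul_tsub, mul_one]; congr 1; ring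
    have hC : p ^ 3 - p ^ 2 = p ^ 2 * (p - 1) := by
      rw [mul_tsub, mul_one]; congr 1
    rw [hB, hC]; ring
  have hnd : ¬ p ∣ (p ^ 3 - 1) * (p ^ 2 - 1) * (p - 1) := by
    have aux : ∀ j : ℕ, 1 ≤ j → ¬ p ∣ p ^ j - 1 := by
      intro j hj hd
      have h1 : p ∣ p ^ j := dvd_pow_self p (by omega)
      have h4 : p ^ j - 1 + 1 = p ^ j := Nat.sub_add_cancel (Nat.one_le_pow _ _ hp'.pos)
      have h2 : p ∣ p ^ j - 1 + 1 := by rw [h4]; exact h1
      have h3 : p ∣ 1 := (Nat.dvd_add_right hd).mp h2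
      exact hp'.one_lt.ne' (Nat.dvd_one.mp h3)
    intro hd
    rcases (Nat.Prime.dvd_mul hp').mp hd with h | h
    · rcases (Nat.Prime.dvd_mul hp').mp h with h | h
      · exact aux 3 (by norm_num) h
      · exact aux 2 (by norm_num) h
    · exact aux 1 (by norm_num) (by simpa using h)
  have hdvdGL : Nat.card ↥P ∣ Nat.card (Matrix.GeneralLinearGroup (Fin 3) (ZMod p)) := by
    have h1 : Nat.card ↥P ∣ Nat.card ↥(Cfsg.qd p) := Subgroup.card_subgroup_dvd_card _
    have h2 : Nat.card ↥(Cfsg.qd p) ∣ Nat.card (Matrix.SpecialLinearGroup (Fin 3) (ZMod p)) :=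
      Subgroup.card_subgroup_dvd_card _
    have h3 : Nat.card (Matrix.SpecialLinearGroup (Fin 3) (ZMod p)) ∣
        Nat.card (Matrix.GeneralLinearGroup (Fin 3) (ZMod p)) :=
      Subgroup.card_dvd_of_injective Matrix.SpecialLinearGroup.toGL
        Matrix.SpecialLinearGroup.toGL_injective
    exact h1.trans (h2.trans h3)
  have hk3 : k ≤ 3 := by
    by_contra hk4
    push Not at hk4
    have h1 : p ^ (3 + 1) ∣ p ^ k := pow_dvd_pow p hk4
    rw [← hk] at h1
    have h2 := h1.trans hdvdGL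
    rw [hGL, hfac, pow_succ] at h2
    exact hnd (Nat.dvd_of_mul_dvd_mul_left (pow_pos hp'.pos 3) h2)
  have hle : Nat.card θ'.range ≤ Nat.card ↥(Q : Subgroup ↥(Cfsg.qd p)) :=
    Subgroup.card_le_of_le hQ
  have hk3' : 3 ≤ k := by
    rw [hRcard, ← hPQ, hk] at hle
    exact (Nat.pow_le_pow_iff_right hp'.one_lt).mp hle
  have hkeq : k = 3 := le_antisymm hk3 hk3'
  rw [hkeq] at hk
  have hRQ : θ'.range = (Q : Subgroup ↥(Cfsg.qd p)) :=
    Subgroup.eq_of_le_of_card_ge hQ (by rw [← hPQ, hk, hRcard])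
  have e : Heis 1 p ≃* ↥P :=
    (MonoidHom.ofInjective hθ').trans ((MulEquiv.subgroupCongr hRQ).trans (Sylow.equiv Q P))
  have hH : IsPGroup p (Heis 1 p) := IsPGroup.of_card Heis.card_eq
  have hfr : frattini ↥P = Subgroup.center ↥P := by
    ext y
    obtain ⟨x, rfl⟩ := e.surjective y
    rw [S4218.frattini_map_equiv e x, Heis.frattini_eq le_rfl, ← S3799.map_center_equiv e,
      S3799.mem_map_equiv']
  have hcm : commutator ↥P = Subgroup.center ↥P := by
    rw [← S3799.map_commutator_equiv e, ← S3799.map_center_equiv e, Heis.commutator_eq le_rfl]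
  have hcc : Nat.card (Subgroup.center ↥P) = p := by
    rw [← S3799.map_center_equiv e, Subgroup.card_map_of_injective e.injective, Heis.card_center]
  refine ⟨⟨⟨P.isPGroup', hfr, hcm⟩, hcc⟩, hk, ?_⟩
  have hpow : ∀ y : ↥P, y ^ p = 1 := by
    intro y
    obtain ⟨x, rfl⟩ := e.surjective y
    rw [← map_pow, Heis.pow_p hp' hp, map_one]
  have hdvd : Monoid.exponent ↥P ∣ p := Monoid.exponent_dvd_of_forall_pow_eq_one hpow
  rcases (Nat.dvd_prime hp').mp hdvd with h1 | h1
  · exfalso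
    haveI hsub : Subsingleton ↥P := Monoid.exp_eq_one_iff.mp h1
    have hc1 : Nat.card ↥P = 1 := Nat.card_of_subsingleton 1
    have h31 : p ^ 3 = 1 := hk.symm.trans hc1
    have : 2 ^ 3 ≤ p ^ 3 := Nat.pow_le_pow_left hp'.two_le 3
    omega
  · exact h1

end Cfsg.Agent.S3074
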