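import Cfsg.Statements.S3078
import Cfsg.Agent.S0649
import Cfsg.Agent.S0650
import Cfsg.Agent.Helper23.Kizmaz

set_option autoImplicit false
open Cfsg

namespace Cfsg.Agent.S3078

/-- A replacement Theorem for abelian subgroups of p-groups, p odd. Let G be a finite p-group with p odd, A an abelian subgroup of G, and B a subgroup of nilpotency class at most 2 with [B, B] ≤ A, such that A normalizes B but B does not normalize A. Then there is an abelian subgroup A* of G of the same order as A with A ∩ B strictly contained in A* ∩ B, A* contained in N_G(A) and in the normal closure of A, the exponent of A* dividing the exponent of A, and with the subgroup generated by the elements of order dividing p in A of order at most that of the corresponding subgroup of A* (the rank of A is at most the rank of A*). -/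
theorem result {G : Type*} [Group G] [Finite G] {p : ℕ} [Fact p.Prime] (hp : p ≠ 2) (hG : IsPGroup p G) (A B : Subgroup G) (hA : IsMulCommutative A) (hB2 : ⁅⁅B, B⁆, B⁆ = ⊥) (hBA : ⁅B, B⁆ ≤ A) (hAB : A ≤ Subgroup.normalizer (B : Set G)) (hBnA : ¬ B ≤ Subgroup.normalizer (A : Set G)) : ∃ Astar : Subgroup G, IsMulCommutative Astar ∧ Nat.card Astar = Nat.card A ∧ A ⊓ B < Astar ⊓ B ∧ Astar ≤ Subgroup.normalizer (A : Set G) ∧ Astar ≤ Subgroup.normalClosure (A : Set G) ∧ Monoid.exponent Astar ∣ Monoid.exponent A ∧ Nat.card (Cfsg.omegaOne p A) ≤ Nat.card (Cfsg.omegaOne p Astar) := by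
  classical
  set T : Subgroup G := A ⊔ B with hTdef
  have hAT : A ≤ T := le_sup_left
  have hBT : B ≤ T := le_sup_right
  have hT : IsPGroup p ↥T := hG.to_subgroup T
  set A₁ : Subgroup ↥T := A.subgroupOf T with hA₁def
  set B₁ : Subgroup ↥T := B.subgroupOf T with hB₁def
  have hB₁n : B₁.Normal :=
    (Subgroup.normal_subgroupOf_iff_le_normalizer hBT).2 (sup_le hAB Subgroup.le_normalizer)
  have hA₁ : IsMulCommutative ↥A₁ := by
    haveI := hA
    rw [hA₁def]
    infer_instance
  have hBA₁ : ⁅B₁, B₁⁆ ≤ A₁ := by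
    rw [Subgroup.commutator_le]
    intro x hx y hy
    rw [hA₁def, Subgroup.mem_subgroupOf]
    apply hBA
    exact Subgroup.commutator_mem_commutator (Subgroup.mem_subgroupOf.1 hx)
      (Subgroup.mem_subgroupOf.1 hy)
  have hnorm : Subgroup.normalizer (A₁ : Set ↥T) =
      (Subgroup.normalizer (A : Set G)).subgroupOf T :=
    (Subgroup.subgroupOf_normalizer_eq hAT).symm
  have hnot₁ : ¬ B₁ ≤ Subgroup.normalizer (A₁ : Set ↥T) := by
    intro h
    apply hBnA
    intro b hb
    have h1 : (⟨b, hBT hb⟩ : ↥T) ∈ Subgroup.normalizer (A₁ : Set ↥T) :=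
      h (Subgroup.mem_subgroupOf.2 hb)
    rw [hnorm, Subgroup.mem_subgroupOf] at h1
    exact h1
  obtain ⟨b₁, hb₁B, hb₁N, hb₁A⟩ :=
    Cfsg.Agent.S0649.result hT B₁ (fun h => absurd h hp) A₁ hA₁ hBA₁ hnot₁
  obtain ⟨c1, c2, -, c4, -, -, c7, -, -, c10⟩ :=
    Cfsg.Agent.S0650.result hT B₁ (fun h => absurd h hp) A₁ hA₁ hBA₁ hnot₁ b₁ hb₁B hb₁N hb₁A
  set E : Subgroup ↥T := (A₁ ⊓ A₁.map (MulAut.conj (b₁⁻¹)).toMonoidHom) ⊔
    Subgroup.closure {g : ↥T | ∃ a ∈ A₁, g = a * b₁⁻¹ * a⁻¹ * b₁} with hEdef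
  have hinj : Function.Injective T.subtype := T.subtype_injective
  have hmapA : A₁.map T.subtype = A := Subgroup.map_subgroupOf_eq_of_le hAT
  have hmapB : B₁.map T.subtype = B := Subgroup.map_subgroupOf_eq_of_le hBT
  have hAc₁ : ∀ x ∈ A₁, ∀ y ∈ A₁, x * y = y * x := by
    intro x hx y hy
    have := hA₁.is_comm.comm (⟨x, hx⟩ : ↥A₁) ⟨y, hy⟩
    exact congrArg Subtype.val this
  have hEsc : ∀ x ∈ E, ∀ y ∈ E, x * y = y * x := by
    intro x hx y hy
    have := c2.is_comm.comm (⟨x, hx⟩ : ↥E) ⟨y, hy⟩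
    exact congrArg Subtype.val this
  refine ⟨E.map T.subtype, ?_, ?_, ?_, ?_, ?_, ?_, ?_⟩
  · exact Subgroup.map_isMulCommutative E T.subtype
  · rw [Subgroup.card_map_of_injective hinj, c1, ← hmapA, Subgroup.card_map_of_injective hinj]
  · have h1 := (Subgroup.map_lt_map_iff_of_injective hinj).2 c4
    rw [Subgroup.map_inf _ _ _ hinj, Subgroup.map_inf _ _ _ hinj, hmapA, hmapB] at h1
    exact h1
  · rw [hnorm] at c7
    rintro _ ⟨e, he, rfl⟩
    exact Subgroup.mem_subgroupOf.1 (c7 he)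
  · rw [Subgroup.map_le_iff_le_comap]
    have hA₁le : A₁ ≤ (Subgroup.normalClosure (A : Set G)).comap T.subtype := by
      intro x hx
      exact Subgroup.le_normalClosure (Subgroup.mem_subgroupOf.1 hx)
    refine sup_le (inf_le_left.trans hA₁le) ?_
    rw [Subgroup.closure_le]
    rintro g ⟨a, ha, rfl⟩
    have e : a * b₁⁻¹ * a⁻¹ * b₁ = a * (b₁⁻¹ * a⁻¹ * b₁⁻¹⁻¹) := by group
    have hn : (Subgroup.normalClosure (A : Set G)).comap T.subtype |>.Normal := inferInstance
    rw [e]
    exact Subgroup.mul_mem _ (hA₁le ha) (hn.conj_mem _ (Subgroup.inv_mem _ (hA₁le ha)) _)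
  · have h1 : Monoid.exponent ↥(E.map T.subtype) = Monoid.exponent ↥E :=
      (Monoid.exponent_eq_of_mulEquiv (E.equivMapOfInjective T.subtype hinj)).symm
    have h2 : Monoid.exponent ↥A₁ = Monoid.exponent ↥A :=
      Monoid.exponent_eq_of_mulEquiv (Subgroup.subgroupOfEquivOfLe hAT)
    rw [h1, ← h2]
    exact c10 hp
  · have h1 := Cfsg.Agent.Helper23.card_omegaOne_le_replacement hp A₁ hAc₁ b₁ hb₁N hEsc
    have h2 : Cfsg.omegaOne p A = (Cfsg.omegaOne p A₁).map T.subtype := by
      rw [← Cfsg.Agent.Helper23.omegaOne_map _ hinj, hmapA]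
    have h3 : Cfsg.omegaOne p (E.map T.subtype) = (Cfsg.omegaOne p E).map T.subtype :=
      Cfsg.Agent.Helper23.omegaOne_map _ hinj _
    rw [h2, h3, Subgroup.card_map_of_injective hinj, Subgroup.card_map_of_injective hinj]
    exact h1

end Cfsg.Agent.S3078
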