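import Mathlib
import Cfsg.Statements.S3225
import Cfsg.Agent.Helper16.Transfer
-- import your own Cfsg.Agent.* helpers here

set_option autoImplicit false
open Cfsg

namespace Cfsg.Agent.S3225

open Cfsg.Agent.Helper16

/-- Let G be a finite group of even order with no subgroup of index 2, S a Sylow 2-subgroup of G and M a subgroup of index 2 in S such that, for some n ≥ 1, every element of S outside M has order greater than 2^(n−1). Then every element of S of order 2ⁿ is conjugate in G to an element of M. -/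
theorem result {G : Type*} [Group G] [Finite G] (hev : Even (Nat.card G))
    (hG : ∀ H : Subgroup G, H.index ≠ 2) (S : Sylow 2 G) (M : Subgroup G) (hMS : M ≤ (S : Subgroup G)) (hM : M.relIndex (S : Subgroup G) = 2)
    (n : ℕ) (hn : 1 ≤ n) (hord : ∀ y ∈ (S : Subgroup G), y ∉ M → 2 ^ (n - 1) < orderOf y)
    (x : G) (hx : x ∈ (S : Subgroup G)) (hxn : orderOf x = 2 ^ n) :
    ∃ g : G, g * x * g⁻¹ ∈ M := by
  classical
  by_contra hcon
  push Not at hcon
  have hprime : Fact (Nat.Prime 2) := ⟨Nat.prime_two⟩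
  have hidx : (M.subgroupOf (S : Subgroup G)).index = 2 := hM
  have hφ1 : ∀ s : ↥(S : Subgroup G), (s : G) ∈ M → signOfIndexTwo _ hidx s = 1 :=
    fun s hs => signOfIndexTwo_of_mem _ hidx (Subgroup.mem_subgroupOf.mpr hs)
  have hφ2 : ∀ s : ↥(S : Subgroup G), (s : G) ∉ M → signOfIndexTwo _ hidx s = -1 :=
    fun s hs => signOfIndexTwo_of_not_mem _ hidx (fun h => hs (Subgroup.mem_subgroupOf.mp h))
  have hxM : x ∉ M := by
    have := hcon 1
    simpa using this
  have h2n : 2 ^ n = 2 * 2 ^ (n - 1) := by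
    rw [← pow_succ']; congr 1; omega
  have key : ∀ (k : ℕ) (g₀ : G) (hk : g₀⁻¹ * x ^ k * g₀ ∈ (S : Subgroup G)),
      signOfIndexTwo _ hidx ⟨g₀⁻¹ * x ^ k * g₀, hk⟩ = signOfIndexTwo _ hidx ⟨x, hx⟩ ^ k := by
    intro k g₀ hk
    rw [hφ2 ⟨x, hx⟩ hxM]
    rcases Nat.even_or_odd k with hev | hodd
    · rw [Even.neg_one_pow hev]
      apply hφ1
      by_contra hnM
      have h1 := hord _ hk hnM
      have h2 : (g₀⁻¹ * x ^ k * g₀) ^ 2 ^ (n - 1) = 1 := by
        obtain ⟨j, rfl⟩ := hev
        have e : (g₀⁻¹ * x ^ (j + j) * g₀) ^ 2 ^ (n - 1)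
            = g₀⁻¹ * (x ^ (j + j)) ^ 2 ^ (n - 1) * g₀ := by
          have := conj_pow (a := g₀⁻¹) (b := x ^ (j + j)) (i := 2 ^ (n - 1))
          rwa [inv_inv] at this
        have e2 : (j + j) * 2 ^ (n - 1) = 2 ^ n * j := by rw [h2n]; ring
        rw [e, ← pow_mul, e2, pow_mul, ← hxn, pow_orderOf_eq_one, one_pow]
        group
      have h3 := orderOf_le_of_pow_eq_one (by positivity) h2
      omega
    · rw [Odd.neg_one_pow hodd]
      apply hφ2
      intro hM'
      have hcop : Nat.Coprime k (orderOf x) := by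
        rw [hxn]
        exact Nat.Coprime.pow_right n (Nat.Coprime.symm (Nat.coprime_two_left.mpr hodd))
      obtain ⟨j, hj⟩ := exists_pow_eq_self_of_coprime hcop
      have hmem : g₀⁻¹ * x * g₀ ∈ M := by
        have e : g₀⁻¹ * x * g₀ = (g₀⁻¹ * x ^ k * g₀) ^ j := by
          have := conj_pow (a := g₀⁻¹) (b := x ^ k) (i := j)
          rw [inv_inv] at this
          rw [this, hj]
        rw [e]; exact M.pow_mem hM' j
      exact hcon g₀⁻¹ (by rwa [inv_inv])
  have hV := transfer_eq_pow_of_conj_pow (S : Subgroup G) (signOfIndexTwo _ hidx) x hx key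
  have hodd : Odd (S : Subgroup G).index := by
    rw [← Nat.not_even_iff_odd, even_iff_two_dvd]; exact S.not_dvd_index
  rw [hφ2 ⟨x, hx⟩ hxM, Odd.neg_one_pow hodd] at hV
  exact hG _ (index_ker_eq_two_of_apply_eq_neg_one _ hV)

end Cfsg.Agent.S3225
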