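import Mathlib
import Cfsg.Statements.S3178
import Cfsg.Agent.Helper16.NPC
import Cfsg.Agent.Helper16.Sylow2
import Cfsg.Agent.S3225
-- import your own Cfsg.Agent.* helpers here

set_option autoImplicit false
open Cfsg

namespace Cfsg.Agent.S3178

open Cfsg.Agent.Helper16

theorem npc_abelian_ind.{u} : ∀ (N : ℕ) (H : Type u) [Group H] [Finite H] (T : Sylow 2 H)
    (c b : H), Nat.card (T : Subgroup H) ≤ N → c ∈ (T : Subgroup H) → b ∈ (T : Subgroup H) →
    b * b = 1 → b * c = c * b →
    (∀ y ∈ (T : Subgroup H), ∃ i : ℕ, y = c ^ i ∨ y = c ^ i * b) →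
    (∀ g : H, g * b * g⁻¹ ∉ Subgroup.zpowers c) → Cfsg.HasNormalPComplement 2 H := by
  intro N
  induction N with
  | zero =>
    intro H _ _ T c b hcard
    exact absurd hcard (by have := Nat.card_pos (α := (T : Subgroup H)); omega)
  | succ N ih =>
    intro H _ _ T c b hcard hc hb hbb hbc hall hnc
    haveI : Fact (Nat.Prime 2) := ⟨Nat.prime_two⟩
    set M : Subgroup H := Subgroup.zpowers c with hM
    have hcM : c ∈ M := Subgroup.mem_zpowers c
    have hbM : b ∉ M := by have := hnc 1; simpa using this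
    have hb1 : b ≠ 1 := fun h => hbM (h ▸ M.one_mem)
    have hMT : M ≤ (T : Subgroup H) := by rw [hM, Subgroup.zpowers_le]; exact hc
    have hrel : M.relIndex (T : Subgroup H) = 2 := by
      rw [Subgroup.relIndex_eq_two_iff]
      refine ⟨b, hb, fun y hy => ?_⟩
      obtain ⟨i, rfl | rfl⟩ := hall y hy
      · refine Or.inr ⟨Subgroup.pow_mem _ hcM i, fun h => hbM ?_⟩
        have := M.mul_mem (M.inv_mem (Subgroup.pow_mem _ hcM i)) h
        simpa using this
      · refine Or.inl ⟨?_, fun h => hbM ?_⟩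
        · rw [mul_assoc, hbb, mul_one]; exact Subgroup.pow_mem _ hcM i
        · have := M.mul_mem (M.inv_mem (Subgroup.pow_mem _ hcM i)) h
          simpa using this
    have hbo2 : orderOf b = 2 := orderOf_eq_prime (by rw [pow_two]; exact hbb) hb1
    have hev : Even (Nat.card H) := by
      have := orderOf_dvd_natCard b
      rw [hbo2] at this
      exact even_iff_two_dvd.2 this
    have hidx : ∃ K : Subgroup H, K.index = 2 := by
      by_contra hno
      push Not at hno
      obtain ⟨g, hg⟩ := Cfsg.Agent.S3225.result hev hno T M hMT hrel 1 le_rfl (fun y hy hyM => by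
        have hy1 : y ≠ 1 := fun h => hyM (h ▸ M.one_mem)
        have h0 : 0 < orderOf y := orderOf_pos y
        have h1 : orderOf y ≠ 1 := fun h => hy1 (orderOf_eq_one_iff.1 h)
        simp only [Nat.sub_self, pow_zero]; omega) b hb (by rw [pow_one]; exact hbo2)
      exact hnc g hg
    obtain ⟨K, hK⟩ := hidx
    haveI hKn : K.Normal := Subgroup.normal_of_index_eq_two hK
    obtain ⟨hrel2, P, hP⟩ := sylow_of_index_two T K hK
    apply npc_of_normal_sub K 1 (by rw [hK, pow_one])
    have hc2 : c * c ∈ K := Subgroup.mul_self_mem_of_index_two hK c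
    have hcpow : ∀ j : ℕ, c ^ (2 * j) ∈ K := fun j => by
      rw [pow_mul, pow_two]; exact Subgroup.pow_mem _ hc2 j
    by_cases hcK : c ∈ K
    · have hbK : b ∉ K := by
        intro hbK
        have hTK : (T : Subgroup H) ≤ K := by
          intro y hy
          obtain ⟨i, rfl | rfl⟩ := hall y hy
          · exact Subgroup.pow_mem _ hcK i
          · exact K.mul_mem (Subgroup.pow_mem _ hcK i) hbK
        have : ((T : Subgroup H) ⊓ K).relIndex (T : Subgroup H) = 1 := by
          rw [Subgroup.relIndex_eq_one]; exact le_inf le_rfl hTK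
        omega
      have hTK : (T : Subgroup H) ⊓ K = M := by
        apply le_antisymm
        · rintro y ⟨hyT, hyK⟩
          obtain ⟨i, rfl | rfl⟩ := hall y hyT
          · exact Subgroup.pow_mem _ hcM i
          · exfalso; apply hbK
            have := K.mul_mem (K.inv_mem (Subgroup.pow_mem _ hcK i)) hyK
            simpa using this
        · exact le_inf hMT (by rw [hM, Subgroup.zpowers_le]; exact hcK)
      exact npc_of_cyclic_sylow_two P (isCyclic_of_map_eq_zpowers K P c (hP.trans hTK))
    · have hodd : ∀ i : ℕ, c ^ i ∈ K → Even i := by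
        intro i hi
        by_contra hne
        rw [Nat.not_even_iff_odd] at hne
        obtain ⟨j, rfl⟩ := hne
        apply hcK
        have := K.mul_mem (K.inv_mem (hcpow j)) hi
        rw [pow_succ, ← mul_assoc, inv_mul_cancel, one_mul] at this
        exact this
      by_cases hbK : b ∈ K
      · have hcard' : Nat.card (P : Subgroup ↥K) ≤ N := by
          have e1 : Nat.card (P : Subgroup ↥K) = Nat.card ↥((T : Subgroup H) ⊓ K) := by
            rw [← hP]; exact (Subgroup.card_map_of_injective K.subtype_injective).symm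
          have e2 := card_mul_relIndex_of_le (inf_le_left : (T : Subgroup H) ⊓ K ≤ T)
          rw [hrel2] at e2
          omega
        have key : ∀ j : ℕ, (((⟨c * c, hc2⟩ : ↥K) ^ j : ↥K) : H) = c ^ (j + j) := by
          intro j
          rw [Subgroup.coe_pow]
          show (c * c) ^ j = c ^ (j + j)
          rw [← pow_two, ← pow_mul, two_mul]
        have hmemP : ∀ x : ↥K, (x : H) ∈ (T : Subgroup H) → x ∈ (P : Subgroup ↥K) := by
          intro x hx
          have : (x : H) ∈ (P : Subgroup ↥K).map K.subtype := by rw [hP]; exact ⟨hx, x.2⟩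
          obtain ⟨q, hq, hqe⟩ := this
          have : q = x := Subtype.ext hqe
          rwa [← this]
        refine ih ↥K P ⟨c * c, hc2⟩ ⟨b, hbK⟩ hcard' (hmemP _ ((T : Subgroup H).mul_mem hc hc))
          (hmemP _ hb) (Subtype.ext hbb) (Subtype.ext ?_) ?_ ?_
        · show b * (c * c) = c * c * b
          rw [← mul_assoc, hbc, mul_assoc, hbc, mul_assoc]
        · intro y hy
          have hyT : (y : H) ∈ (T : Subgroup H) ⊓ K := by
            rw [← hP]; exact Subgroup.mem_map_of_mem _ hy
          obtain ⟨i, hi | hi⟩ := hall (y : H) hyT.1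
          · obtain ⟨j, rfl⟩ := hodd i (hi ▸ y.2)
            exact ⟨j, Or.inl (Subtype.ext (by rw [hi, key j]))⟩
          · have hci : c ^ i ∈ K := by
              have := K.mul_mem (hi ▸ y.2 : c ^ i * b ∈ K) (K.inv_mem hbK)
              simpa using this
            obtain ⟨j, rfl⟩ := hodd i hci
            exact ⟨j, Or.inr (Subtype.ext (by rw [hi, Subgroup.coe_mul, key j]))⟩
        · intro g hg
          apply hnc (g : H)
          obtain ⟨k, hk⟩ := Subgroup.mem_zpowers_iff.1 hg
          have := congrArg Subtype.val hk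
          simp only [Subgroup.coe_zpow, Subgroup.coe_mul, Subgroup.coe_inv] at this
          rw [← this]
          exact Subgroup.zpow_mem _ (M.mul_mem hcM hcM) k
      · have hcb : c * b ∈ K := (Subgroup.mul_mem_iff_of_index_two hK).2 (iff_of_false hcK hbK)
        have hcbpow : ∀ i : ℕ, (c * b) ^ i = c ^ i * b ^ i :=
          fun i => (Commute.mul_pow (show Commute c b from hbc.symm) i)
        have hTK : (T : Subgroup H) ⊓ K = Subgroup.zpowers (c * b) := by
          apply le_antisymm
          · rintro y ⟨hyT, hyK⟩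
            obtain ⟨i, rfl | rfl⟩ := hall y hyT
            · obtain ⟨j, rfl⟩ := hodd i hyK
              have : c ^ (j + j) = (c * b) ^ (j + j) := by
                rw [hcbpow, ← two_mul, pow_mul b, pow_two, hbb, one_pow, mul_one]
              rw [this]; exact Subgroup.pow_mem _ (Subgroup.mem_zpowers _) _
            · have hci : c ^ i ∉ K := fun h => hbK (by
                have := K.mul_mem (K.inv_mem h) hyK; simpa using this)
              have hiodd : Odd i := by
                by_contra hne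
                rw [Nat.not_odd_iff_even] at hne
                obtain ⟨j, rfl⟩ := hne
                exact hci (by rw [← two_mul]; exact hcpow j)
              obtain ⟨j, rfl⟩ := hiodd
              have : c ^ (2 * j + 1) * b = (c * b) ^ (2 * j + 1) := by
                rw [hcbpow, pow_succ b, pow_mul b, pow_two, hbb, one_pow, one_mul]
              rw [this]; exact Subgroup.pow_mem _ (Subgroup.mem_zpowers _) _
          · rw [Subgroup.zpowers_le]; exact ⟨(T : Subgroup H).mul_mem hc hb, hcb⟩
        exact npc_of_cyclic_sylow_two P (isCyclic_of_map_eq_zpowers K P (c * b) (hP.trans hTK))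


/-- Groups with a modular Sylow 2-subgroup have a normal 2-complement. Let S, of order 2^(n+1) with n ≥ 3, be a Sylow 2-subgroup of a finite group G, and suppose S contains an element a of order 2^n and an involution b with b a b⁻¹ = a^(2^(n-1) + 1); so S is the non-abelian 2-group with a cyclic subgroup of index 2 that is neither dihedral, semidihedral nor generalized quaternion. Then G has a normal 2-complement. -/
theorem result {G : Type*} [Group G] [Finite G]
    (S : Sylow 2 G) (n : ℕ) (hn : 3 ≤ n) (hS : Nat.card ↥(S : Subgroup G) = 2 ^ (n + 1))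
    (a b : G) (ha : a ∈ (S : Subgroup G)) (hb : b ∈ (S : Subgroup G))
    (hao : orderOf a = 2 ^ n) (hbo : orderOf b = 2) (hrel : b * a * b⁻¹ = a ^ (2 ^ (n - 1) + 1)) :
    Cfsg.HasNormalPComplement 2 G := by
  haveI : Fact (Nat.Prime 2) := ⟨Nat.prime_two⟩
  obtain ⟨m, rfl⟩ : ∃ m, n = m + 3 := ⟨n - 3, by omega⟩
  have hn1 : m + 3 - 1 = m + 2 := by omega
  rw [hn1] at hrel
  have ha2n : a ^ (2 ^ (m + 3)) = 1 := by rw [← hao]; exact pow_orderOf_eq_one a
  have hbb : b * b = 1 := by rw [← pow_two, ← hbo]; exact pow_orderOf_eq_one b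
  have hb1 : b ≠ 1 := by intro h; rw [h, orderOf_one] at hbo; omega
  set M : Subgroup G := Subgroup.zpowers a with hM
  have haM : a ∈ M := Subgroup.mem_zpowers a
  have hMS : M ≤ (S : Subgroup G) := by rw [hM, Subgroup.zpowers_le]; exact ha
  have hMc : Nat.card M = 2 ^ (m + 3) := by rw [hM, Nat.card_zpowers, hao]
  have hMrel : M.relIndex (S : Subgroup G) = 2 := by
    have := card_mul_relIndex_of_le hMS
    rw [hMc, hS, pow_succ (2 : ℕ) (m + 3)] at this
    exact Nat.eq_of_mul_eq_mul_left (by positivity) this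
  set z : G := a ^ (2 ^ (m + 2)) with hz
  have hzM : z ∈ M := Subgroup.pow_mem _ haM _
  have hzz : z * z = 1 := by rw [hz, ← pow_add, ← two_mul, ← pow_succ', ha2n]
  have hz1 : z ≠ 1 := by
    intro h
    have := orderOf_dvd_of_pow_eq_one h
    rw [hao] at this
    have := (Nat.pow_dvd_pow_iff_le_right (by norm_num : 1 < 2)).1 this
    omega
  have hconj : ∀ k : ℕ, b * a ^ k * b⁻¹ = a ^ k * z ^ k := by
    intro k
    rw [← conj_pow, hrel, ← pow_mul, hz, ← pow_mul, ← pow_add]; congr 1; ring
  have hbM : b ∉ M := by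
    intro h
    obtain ⟨k, hk⟩ := Subgroup.mem_zpowers_iff.1 h
    have hc : b * a * b⁻¹ = a := by rw [← hk]; group
    have := hconj 1
    rw [pow_one, pow_one, hc] at this
    exact hz1 (mul_left_cancel (a := a) (by rw [mul_one]; exact this.symm))
  have hidx : (M.subgroupOf (S : Subgroup G)).index = 2 := hMrel
  have hSel : ∀ y ∈ (S : Subgroup G), y ∉ M → y * b ∈ M := by
    intro y hy hyM
    have := (Subgroup.mul_mem_iff_of_index_two hidx (a := ⟨y, hy⟩) (b := ⟨b, hb⟩)).2
      (iff_of_false (fun h => hyM (Subgroup.mem_subgroupOf.1 h))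
        (fun h => hbM (Subgroup.mem_subgroupOf.1 h)))
    exact Subgroup.mem_subgroupOf.1 this
  have hsq : ∀ y ∈ (S : Subgroup G), y * y ∈ M := by
    intro y hy
    have := Subgroup.mul_self_mem_of_index_two hidx ⟨y, hy⟩
    exact Subgroup.mem_subgroupOf.1 this
  have hinv : ∀ y ∈ M, y * y = 1 → y = 1 ∨ y = z := by
    intro y hy hyy
    obtain ⟨k, rfl⟩ := (Submonoid.mem_powers_iff _ _).1 (mem_powers_iff_mem_zpowers.2 hy)
    have h1 : a ^ (2 * k) = 1 := by rw [two_mul, pow_add]; exact hyy
    have h2 : 2 ^ (m + 3) ∣ 2 * k := by rw [← hao]; exact orderOf_dvd_of_pow_eq_one h1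
    have h3 : 2 ^ (m + 2) ∣ k := by
      rw [pow_succ (2 : ℕ) (m + 2), mul_comm] at h2
      exact (Nat.mul_dvd_mul_iff_left (by norm_num)).1 h2
    obtain ⟨j, rfl⟩ := h3
    rw [pow_mul, ← hz]
    rcases Nat.even_or_odd' j with ⟨i, rfl | rfl⟩
    · left; rw [pow_mul, pow_two, hzz, one_pow]
    · right; rw [pow_succ, pow_mul, pow_two, hzz, one_pow, one_mul]
  have hbz : b * z * b⁻¹ = z := by
    have h1 := hconj (2 ^ (m + 2))
    have h2 : z ^ (2 ^ (m + 2)) = 1 := by
      rw [pow_succ (2 : ℕ) (m + 1), pow_mul', pow_two, hzz, one_pow]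
    rw [h2, mul_one] at h1
    exact h1
  set w : G := a ^ (2 ^ (m + 1)) with hw
  have hww : w * w = z := by rw [hw, hz, ← pow_add, ← two_mul, ← pow_succ']
  have hbw : b * w * b⁻¹ = w := by
    have h1 := hconj (2 ^ (m + 1))
    have h2 : z ^ (2 ^ (m + 1)) = 1 := by
      rw [pow_succ (2 : ℕ) m, pow_mul', pow_two, hzz, one_pow]
    rw [h2, mul_one] at h1
    exact h1
  have hScomm : ∀ y ∈ (S : Subgroup G), z * y = y * z := by
    have hMcomm : ∀ y ∈ M, z * y = y * z := by
      intro y hy
      obtain ⟨k, rfl⟩ := Subgroup.mem_zpowers_iff.1 hy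
      exact (((Commute.refl a).zpow_right k).pow_left _).eq
    have hbz' : z * b = b * z := by
      calc z * b = (b * z * b⁻¹) * b := by rw [hbz]
        _ = b * z := by group
    intro y hy
    by_cases hyM : y ∈ M
    · exact hMcomm y hyM
    · have h1 := hMcomm _ (hSel y hy hyM)
      have hy' : y = (y * b) * b := by rw [mul_assoc, hbb, mul_one]
      rw [hy', ← mul_assoc, h1, mul_assoc, hbz', ← mul_assoc]
  have hcore : ∀ g : G, g * b * g⁻¹ ∉ M := by
    intro g hg
    have hinvo : (g * b * g⁻¹) * (g * b * g⁻¹) = 1 := by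
      have : (g * b * g⁻¹) * (g * b * g⁻¹) = g * (b * b) * g⁻¹ := by group
      rw [this, hbb]; group
    have hne : g * b * g⁻¹ ≠ 1 := by
      intro h; apply hb1
      have : b = g⁻¹ * (g * b * g⁻¹) * g := by group
      rw [this, h]; group
    have hgz : g * b * g⁻¹ = z := (hinv _ hg hinvo).resolve_left hne
    have hwb : w * b = b * w := by
      calc w * b = (b * w * b⁻¹) * b := by rw [hbw]
        _ = b * w := by group
    have hw₁z : z * (g * w * g⁻¹) = (g * w * g⁻¹) * z := by
      rw [← hgz]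
      calc g * b * g⁻¹ * (g * w * g⁻¹) = g * (b * w) * g⁻¹ := by group
        _ = g * (w * b) * g⁻¹ := by rw [hwb]
        _ = g * w * g⁻¹ * (g * b * g⁻¹) := by group
    have hw₁C : g * w * g⁻¹ ∈ Subgroup.centralizer ({z} : Set G) :=
      (mem_centralizer_singleton_iff _ _).2 hw₁z
    have hSC : (S : Subgroup G) ≤ Subgroup.centralizer ({z} : Set G) := fun y hy =>
      (mem_centralizer_singleton_iff _ _).2 (hScomm y hy)
    have hw4 : w ^ 4 = 1 := by
      have : w ^ 4 = (w * w) * (w * w) := by
        have e : w ^ 4 = w ^ 2 * w ^ 2 := by rw [← pow_add]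
        rw [e, pow_two]
      rw [this, hww, hzz]
    have hw₁4 : (g * w * g⁻¹) ^ 4 = 1 := by
      rw [conj_pow, hw4]; group
    have hQ : IsPGroup 2 (Subgroup.zpowers (⟨g * w * g⁻¹, hw₁C⟩ :
        ↥(Subgroup.centralizer ({z} : Set G)))) := by
      intro q
      refine ⟨2, ?_⟩
      obtain ⟨k, hk⟩ := Subgroup.mem_zpowers_iff.1 q.2
      apply Subtype.ext
      rw [Subgroup.coe_pow, ← hk, Subgroup.coe_one]
      apply Subtype.ext
      rw [Subgroup.coe_pow, Subgroup.coe_zpow, Subgroup.coe_one]
      have h22 : (2 : ℕ) ^ 2 = 4 := by norm_num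
      rw [h22]
      show ((g * w * g⁻¹) ^ k) ^ (4 : ℕ) = 1
      rw [← zpow_natCast, ← zpow_mul, mul_comm, zpow_mul, zpow_natCast, hw₁4, one_zpow]
    obtain ⟨⟨k, hkC⟩, hk⟩ := exists_conj_le_sylow (S.subtype hSC) hQ
    have hk1 := hk ⟨g * w * g⁻¹, hw₁C⟩ (Subgroup.mem_zpowers _)
    have hw₂S : (k : G) * (g * w * g⁻¹) * (k : G)⁻¹ ∈ (S : Subgroup G) := by
      rw [Sylow.coe_subtype, Subgroup.mem_subgroupOf] at hk1
      exact hk1
    have hw₂sq := hsq _ hw₂S
    have hw₂e : (k : G) * (g * w * g⁻¹) * (k : G)⁻¹ * ((k : G) * (g * w * g⁻¹) * (k : G)⁻¹)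
        = (k : G) * g * z * g⁻¹ * (k : G)⁻¹ := by
      rw [← hww]; group
    rw [hw₂e] at hw₂sq
    have hinv2 : ((k : G) * g * z * g⁻¹ * (k : G)⁻¹) * ((k : G) * g * z * g⁻¹ * (k : G)⁻¹) = 1 := by
      have : (k : G) * g * z * g⁻¹ * (k : G)⁻¹ * ((k : G) * g * z * g⁻¹ * (k : G)⁻¹)
          = (k : G) * g * (z * z) * g⁻¹ * (k : G)⁻¹ := by group
      rw [this, hzz]; group
    have hne2 : (k : G) * g * z * g⁻¹ * (k : G)⁻¹ ≠ 1 := by
      intro h; apply hz1
      have : z = g⁻¹ * (k : G)⁻¹ * ((k : G) * g * z * g⁻¹ * (k : G)⁻¹) * (k : G) * g := by group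
      rw [this, h]; group
    have h1 : (k : G) * g * z * g⁻¹ * (k : G)⁻¹ = z := (hinv _ hw₂sq hinv2).resolve_left hne2
    have h2 : (k : G) * g * b * g⁻¹ * (k : G)⁻¹ = z := by
      have hkz : z * (k : G) = (k : G) * z := (mem_centralizer_singleton_iff _ _).1 hkC
      calc (k : G) * g * b * g⁻¹ * (k : G)⁻¹ = (k : G) * (g * b * g⁻¹) * (k : G)⁻¹ := by group
        _ = (k : G) * z * (k : G)⁻¹ := by rw [hgz]
        _ = z * (k : G) * (k : G)⁻¹ := by rw [hkz]
        _ = z := by group
    apply hbM
    have hbz2 : b = z := by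
      have h3 : (k : G) * g * b * g⁻¹ * (k : G)⁻¹ = (k : G) * g * z * g⁻¹ * (k : G)⁻¹ :=
        h2.trans h1.symm
      have : b = g⁻¹ * (k : G)⁻¹ * ((k : G) * g * b * g⁻¹ * (k : G)⁻¹) * (k : G) * g := by group
      rw [this, h3]; group
    rw [hbz2]; exact hzM
  have hev : Even (Nat.card G) := by
    have := orderOf_dvd_natCard b; rw [hbo] at this; exact even_iff_two_dvd.2 this
  have hidx2 : ∃ K : Subgroup G, K.index = 2 := by
    by_contra hno
    push Not at hno
    obtain ⟨g, hg⟩ := Cfsg.Agent.S3225.result hev hno S M hMS hMrel 1 le_rfl (fun y hy hyM => by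
        have hy1 : y ≠ 1 := fun h => hyM (h ▸ M.one_mem)
        have h0 : 0 < orderOf y := orderOf_pos y
        have h1 : orderOf y ≠ 1 := fun h => hy1 (orderOf_eq_one_iff.1 h)
        simp only [Nat.sub_self, pow_zero]; omega) b hb (by rw [pow_one]; exact hbo)
    exact hcore g hg
  obtain ⟨K, hK⟩ := hidx2
  haveI hKn : K.Normal := Subgroup.normal_of_index_eq_two hK
  obtain ⟨hrel2, P, hP⟩ := sylow_of_index_two S K hK
  apply npc_of_normal_sub K 1 (by rw [hK, pow_one])
  have haa : a * a ∈ K := Subgroup.mul_self_mem_of_index_two hK a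
  have hcardTK : Nat.card ↥((S : Subgroup G) ⊓ K) = 2 ^ (m + 3) := by
    have e2 := card_mul_relIndex_of_le (inf_le_left : (S : Subgroup G) ⊓ K ≤ S)
    rw [hrel2, hS, pow_succ (2 : ℕ) (m + 3)] at e2
    exact Nat.eq_of_mul_eq_mul_right (by norm_num) e2
  by_cases haK : a ∈ K
  · have hTK : (S : Subgroup G) ⊓ K = M := by
      symm
      apply Subgroup.eq_of_le_of_card_ge (le_inf hMS (by rw [hM, Subgroup.zpowers_le]; exact haK))
      rw [hcardTK, hMc]
    exact npc_of_cyclic_sylow_two P (isCyclic_of_map_eq_zpowers K P a (hP.trans hTK))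
  · by_cases hbK : b ∈ K
    · have hcomm : b * (a * a) = (a * a) * b := by
        have h1 := hconj 2
        rw [pow_two z, hzz, mul_one, pow_two] at h1
        calc b * (a * a) = (b * (a * a) * b⁻¹) * b := by group
          _ = a * a * b := by rw [h1]
      have hmemP : ∀ x : ↥K, (x : G) ∈ (S : Subgroup G) → x ∈ (P : Subgroup ↥K) := by
        intro x hx
        have : (x : G) ∈ (P : Subgroup ↥K).map K.subtype := by rw [hP]; exact ⟨hx, x.2⟩
        obtain ⟨q, hq, hqe⟩ := this
        have : q = x := Subtype.ext hqe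
        rwa [← this]
      have hkey : ∀ x ∈ M, x ∈ K → ∃ j : ℕ, x = (a * a) ^ j := by
        intro x hx hxK
        obtain ⟨i, rfl⟩ := (Submonoid.mem_powers_iff _ _).1 (mem_powers_iff_mem_zpowers.2 hx)
        rcases Nat.even_or_odd' i with ⟨j, rfl | rfl⟩
        · exact ⟨j, by rw [pow_mul, pow_two]⟩
        · exfalso; apply haK
          have h1 : a ^ (2 * j) ∈ K := by rw [pow_mul, pow_two]; exact Subgroup.pow_mem _ haa j
          have := K.mul_mem (K.inv_mem h1) hxK
          rw [pow_succ, ← mul_assoc, inv_mul_cancel, one_mul] at this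
          exact this
      refine npc_abelian_ind (Nat.card (P : Subgroup ↥K)) ↥K P ⟨a * a, haa⟩ ⟨b, hbK⟩ le_rfl
        (hmemP _ ((S : Subgroup G).mul_mem ha ha)) (hmemP _ hb) (Subtype.ext hbb)
        (Subtype.ext hcomm) ?_ ?_
      · intro y hy
        have hyT : (y : G) ∈ (S : Subgroup G) ⊓ K := by
          rw [← hP]; exact Subgroup.mem_map_of_mem _ hy
        by_cases hyM : (y : G) ∈ M
        · obtain ⟨j, hj⟩ := hkey _ hyM hyT.2
          exact ⟨j, Or.inl (Subtype.ext (by rw [hj]; rfl))⟩
        · have h1 := hSel _ hyT.1 hyM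
          obtain ⟨j, hj⟩ := hkey _ h1 (K.mul_mem hyT.2 hbK)
          refine ⟨j, Or.inr (Subtype.ext ?_)⟩
          have : (y : G) = (a * a) ^ j * b := by
            rw [← hj, mul_assoc, hbb, mul_one]
          rw [this]; rfl
      · intro g hg
        apply hcore (g : G)
        obtain ⟨k, hk⟩ := Subgroup.mem_zpowers_iff.1 hg
        have := congrArg Subtype.val hk
        simp only [Subgroup.coe_zpow, Subgroup.coe_mul, Subgroup.coe_inv] at this
        rw [← this]
        exact Subgroup.zpow_mem _ (M.mul_mem haM haM) k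
    · have habK : a * b ∈ K := (Subgroup.mul_mem_iff_of_index_two hK).2 (iff_of_false haK hbK)
      have hab2 : (a * b) * (a * b) = a ^ 2 * z := by
        have h1 := hconj 1
        rw [pow_one, pow_one] at h1
        calc a * b * (a * b) = a * (b * a * b⁻¹) * (b * b) := by group
          _ = a * (a * z) * 1 := by rw [h1, hbb]
          _ = a ^ 2 * z := by rw [mul_one, ← mul_assoc, ← pow_two]
      have hpow : ∀ k : ℕ, (a * b) ^ (2 * k) = a ^ ((2 + 2 ^ (m + 2)) * k) := by
        intro k; rw [pow_mul, pow_two, hab2, hz, ← pow_add, ← pow_mul]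
      have ho : orderOf (a * b) = 2 ^ (m + 2 + 1) := by
        apply orderOf_eq_prime_pow
        · rw [show 2 ^ (m + 2) = 2 * 2 ^ (m + 1) by rw [pow_succ]; ring, hpow]
          rw [show (2 + 2 ^ (m + 2)) * 2 ^ (m + 1) = 2 ^ (m + 2) + 2 ^ (m + 3) * 2 ^ m by ring,
            pow_add, pow_mul, ha2n, one_pow, mul_one]
          exact hz1
        · rw [show 2 ^ (m + 2 + 1) = 2 * 2 ^ (m + 2) by rw [pow_succ]; ring, hpow]
          rw [show (2 + 2 ^ (m + 2)) * 2 ^ (m + 2) = 2 ^ (m + 3) * (1 + 2 ^ (m + 1)) by ring,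
            pow_mul, ha2n, one_pow]
      have hTK : (S : Subgroup G) ⊓ K = Subgroup.zpowers (a * b) := by
        symm
        apply Subgroup.eq_of_le_of_card_ge
        · rw [Subgroup.zpowers_le]; exact ⟨(S : Subgroup G).mul_mem ha hb, habK⟩
        · rw [hcardTK, Nat.card_zpowers, ho]
      exact npc_of_cyclic_sylow_two P (isCyclic_of_map_eq_zpowers K P (a * b) (hP.trans hTK))

end Cfsg.Agent.S3178
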