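import Cfsg.Statements.S3196
import Mathlib

set_option autoImplicit false
open Cfsg

namespace Cfsg.Agent.S3196

variable {G : Type*} [Group G]

/-- Elementwise commuting subgroups. -/
def adj (X Y : Subgroup G) : Prop := ∀ x ∈ X, ∀ y ∈ Y, x * y = y * x

theorem adj_symm {X Y : Subgroup G} (h : adj X Y) : adj Y X :=
  fun y hy x hx => (h x hx y hy).symm

theorem pow_p {p : ℕ} {X : Subgroup G} (hX : Nat.card X = p) {x : G} (hx : x ∈ X) :
    x ^ p = 1 := by
  have h := pow_card_eq_one' (G := X) (x := ⟨x, hx⟩)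
  rw [hX] at h
  simpa using congrArg Subtype.val h

theorem orderOf_eq {p : ℕ} (hp : p.Prime) {x : G} (hx : x ^ p = 1) (hx1 : x ≠ 1) :
    orderOf x = p := by
  have := orderOf_dvd_of_pow_eq_one hx
  rcases (Nat.dvd_prime hp).mp this with h | h
  · exact absurd (orderOf_eq_one_iff.mp h) hx1
  · exact h

theorem eq_zpowers [Finite G] {p : ℕ} (hp : p.Prime) {X : Subgroup G} (hX : Nat.card X = p)
    {x : G} (hx : x ∈ X) (hx1 : x ≠ 1) : X = Subgroup.zpowers x := by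
  symm
  apply Subgroup.eq_of_le_of_card_ge ((Subgroup.zpowers_le).mpr hx)
  rw [Nat.card_zpowers, orderOf_eq hp (pow_p hX hx) hx1, hX]

theorem adj_zpowers_left {x : G} {Y : Subgroup G} (h : ∀ y ∈ Y, x * y = y * x) :
    adj (Subgroup.zpowers x) Y := by
  intro u hu y hy
  obtain ⟨k, rfl⟩ := Subgroup.mem_zpowers_iff.mp hu
  exact ((show Commute x y from h y hy).zpow_left k).eq

theorem adj_of_comm_gens {x y : G} (h : x * y = y * x) :
    adj (Subgroup.zpowers x) (Subgroup.zpowers y) := by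
  apply adj_zpowers_left
  intro u hu
  obtain ⟨k, rfl⟩ := Subgroup.mem_zpowers_iff.mp hu
  exact ((show Commute x y from h).zpow_right k).eq

theorem mem_sup_of_adj {X Y : Subgroup G} (h : adj X Y) {g : G} (hg : g ∈ X ⊔ Y) :
    ∃ x ∈ X, ∃ y ∈ Y, g = x * y := by
  let S : Subgroup G :=
    { carrier := {g | ∃ x ∈ X, ∃ y ∈ Y, g = x * y}
      one_mem' := ⟨1, X.one_mem, 1, Y.one_mem, (mul_one 1).symm⟩
      mul_mem' := by
        rintro _ _ ⟨x1, hx1, y1, hy1, rfl⟩ ⟨x2, hx2, y2, hy2, rfl⟩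
        refine ⟨x1 * x2, X.mul_mem hx1 hx2, y1 * y2, Y.mul_mem hy1 hy2, ?_⟩
        have e := h x2 hx2 y1 hy1
        calc x1 * y1 * (x2 * y2) = x1 * (y1 * x2) * y2 := by group
          _ = x1 * (x2 * y1) * y2 := by rw [e]
          _ = x1 * x2 * (y1 * y2) := by group
      inv_mem' := by
        rintro _ ⟨x, hx, y, hy, rfl⟩
        refine ⟨x⁻¹, X.inv_mem hx, y⁻¹, Y.inv_mem hy, ?_⟩
        rw [mul_inv_rev]
        exact (h x⁻¹ (X.inv_mem hx) y⁻¹ (Y.inv_mem hy)).symm }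
  have hle : X ⊔ Y ≤ S :=
    sup_le (fun x hx => ⟨x, hx, 1, Y.one_mem, (mul_one x).symm⟩)
      (fun y hy => ⟨1, X.one_mem, y, hy, (one_mul y).symm⟩)
  exact hle hg

theorem adj_self [Finite G] {p : ℕ} (hp : p.Prime) {X : Subgroup G} (hX : Nat.card X = p) :
    adj X X := by
  intro a ha b hb
  by_cases h1 : a = 1
  · rw [h1, one_mul, mul_one]
  · rw [eq_zpowers hp hX ha h1] at hb
    obtain ⟨k, rfl⟩ := Subgroup.mem_zpowers_iff.mp hb
    exact ((Commute.refl a).zpow_right k).eq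

theorem sup_comm' [Finite G] {p : ℕ} (hp : p.Prime) {X Y : Subgroup G} (hX : Nat.card X = p)
    (hY : Nat.card Y = p) (h : adj X Y) : adj (X ⊔ Y) (X ⊔ Y) := by
  intro u hu v hv
  obtain ⟨x1, hx1, y1, hy1, rfl⟩ := mem_sup_of_adj h hu
  obtain ⟨x2, hx2, y2, hy2, rfl⟩ := mem_sup_of_adj h hv
  have e1 := adj_self hp hX x1 hx1 x2 hx2
  have e2 := adj_self hp hY y1 hy1 y2 hy2
  have e3 := h x1 hx1 y2 hy2
  have e4 := h x2 hx2 y1 hy1
  calc x1 * y1 * (x2 * y2) = x1 * (y1 * x2) * y2 := by group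
    _ = x1 * (x2 * y1) * y2 := by rw [e4]
    _ = (x1 * x2) * (y1 * y2) := by group
    _ = (x2 * x1) * (y2 * y1) := by rw [e1, e2]
    _ = x2 * (x1 * y2) * y1 := by group
    _ = x2 * (y2 * x1) * y1 := by rw [e3]
    _ = x2 * y2 * (x1 * y1) := by group

theorem line_mem [Finite G] {p : ℕ} (hp : p.Prime) (K : Set (Subgroup G))
    (hK : ∀ X ∈ K, Nat.card ↥X = p)
    (ha : ∀ X ∈ K, ∀ Y ∈ K, X ≠ Y → (∀ x ∈ X, ∀ y ∈ Y, x * y = y * x) →
      ∀ Z : Subgroup G, Z ≤ X ⊔ Y → Nat.card ↥Z = p → Z ∈ K)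
    {X Y : Subgroup G} (hX : X ∈ K) (hY : Y ∈ K) (hne : X ≠ Y) (hadj : adj X Y) {z : G}
    (hz : z ∈ X ⊔ Y) (hz1 : z ≠ 1) : Subgroup.zpowers z ∈ K := by
  apply ha X hX Y hY hne hadj _ ((Subgroup.zpowers_le).mpr hz)
  obtain ⟨x, hx, y, hy, rfl⟩ := mem_sup_of_adj hadj hz
  have hzp : (x * y) ^ p = 1 := by
    rw [(show Commute x y from hadj x hx y hy).mul_pow, pow_p (hK X hX) hx, pow_p (hK Y hY) hy,
      one_mul]
  rw [Nat.card_zpowers, orderOf_eq hp hzp hz1]

/-- Removing a central factor from a commutator. -/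
theorem comm_R1 (a z y : G) (hza : Commute z a) (hzy : Commute z y) :
    (a * z)⁻¹ * y⁻¹ * (a * z) * y = a⁻¹ * y⁻¹ * a * y := by
  have hw : Commute z (a⁻¹ * y⁻¹ * a * y) :=
    ((hza.inv_right.mul_right hzy.inv_right).mul_right hza).mul_right hzy
  calc (a * z)⁻¹ * y⁻¹ * (a * z) * y = z⁻¹ * a⁻¹ * y⁻¹ * a * (z * y) := by group
    _ = z⁻¹ * a⁻¹ * y⁻¹ * a * (y * z) := by rw [hzy.eq]
    _ = z⁻¹ * ((a⁻¹ * y⁻¹ * a * y) * z) := by group
    _ = z⁻¹ * (z * (a⁻¹ * y⁻¹ * a * y)) := by rw [hw.eq]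
    _ = a⁻¹ * y⁻¹ * a * y := by group

theorem comm_R2 (x c z : G) (hzc : Commute z c) (hzx : Commute z x) :
    x⁻¹ * (c * z)⁻¹ * x * (c * z) = x⁻¹ * c⁻¹ * x * c := by
  have h := comm_R1 c z x hzc hzx
  calc x⁻¹ * (c * z)⁻¹ * x * (c * z) = ((c * z)⁻¹ * x⁻¹ * (c * z) * x)⁻¹ := by group
    _ = (c⁻¹ * x⁻¹ * c * x)⁻¹ := by rw [h]
    _ = x⁻¹ * c⁻¹ * x * c := by group

theorem main [Finite G]
    {p : ℕ} (hp : p.Prime) (K : Set (Subgroup G)) (hK : ∀ X ∈ K, Nat.card ↥X = p)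
    (hKc : ∀ X ∈ K, ∀ g : G, X.map (MulAut.conj g).toMonoidHom ∈ K)
    (hex : ∃ X ∈ K, ∃ Y ∈ K, X ≠ Y ∧ ∀ x ∈ X, ∀ y ∈ Y, x * y = y * x)
    (ha : ∀ X ∈ K, ∀ Y ∈ K, X ≠ Y → (∀ x ∈ X, ∀ y ∈ Y, x * y = y * x) →
      ∀ Z : Subgroup G, Z ≤ X ⊔ Y → Nat.card ↥Z = p → Z ∈ K)
    (hb : ∀ X ∈ K, ∀ Y ∈ K, X ≠ Y → (∀ x ∈ X, ∀ y ∈ Y, x * y = y * x) →
      ∀ W ∈ K, (X ⊔ Y) ⊓ Subgroup.centralizer (W : Set G) ≠ ⊥) :
    ∃ V ∈ K, ∀ W ∈ K, adj V W := by
  have line : ∀ {X Y : Subgroup G}, X ∈ K → Y ∈ K → X ≠ Y → adj X Y → ∀ {z : G},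
      z ∈ X ⊔ Y → z ≠ 1 → Subgroup.zpowers z ∈ K :=
    fun hX hY hne hadj _ hz hz1 => line_mem hp K hK ha hX hY hne hadj hz hz1
  have gen : ∀ {X : Subgroup G}, X ∈ K → ∀ {x : G}, x ∈ X → x ≠ 1 → X = Subgroup.zpowers x :=
    fun hX _ hx hx1 => eq_zpowers hp (hK _ hX) hx hx1
  have ex1 : ∀ {X : Subgroup G}, X ∈ K → ∃ x ∈ X, x ≠ 1 := by
    intro X hX
    by_contra hcon
    push_neg at hcon
    have hbot : X = ⊥ := (Subgroup.eq_bot_iff_forall _).mpr hcon
    have h1 := hK X hX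
    rw [hbot, Subgroup.card_bot] at h1
    exact hp.one_lt.ne h1
  have hb' : ∀ {X Y : Subgroup G}, X ∈ K → Y ∈ K → X ≠ Y → adj X Y → ∀ {W : Subgroup G}, W ∈ K →
      ∃ x ∈ X, ∃ y ∈ Y, x * y ≠ 1 ∧ ∀ w ∈ W, w * (x * y) = (x * y) * w := by
    intro X Y hX hY hne hadj W hW
    obtain ⟨z, hz, hz1⟩ : ∃ z ∈ (X ⊔ Y) ⊓ Subgroup.centralizer (W : Set G), z ≠ 1 := by
      by_contra hcon
      push_neg at hcon
      exact hb X hX Y hY hne hadj W hW ((Subgroup.eq_bot_iff_forall _).mpr hcon)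
    obtain ⟨x, hx, y, hy, rfl⟩ := mem_sup_of_adj hadj hz.1
    exact ⟨x, hx, y, hy, hz1, fun w hw => Subgroup.mem_centralizer_iff.mp hz.2 w hw⟩
  obtain ⟨X0, hX0, Y0, hY0, hne0, hadj0⟩ := hex
  have nbr : ∀ C ∈ K, ∃ C' ∈ K, C' ≠ C ∧ adj C C' := by
    intro C hC
    obtain ⟨x, hx, y, hy, hz1, hcz⟩ := hb' hX0 hY0 hne0 hadj0 hC
    have hzE : x * y ∈ X0 ⊔ Y0 := Subgroup.mul_mem_sup hx hy
    have hZ := line hX0 hY0 hne0 hadj0 hzE hz1
    by_cases hZC : Subgroup.zpowers (x * y) = C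
    · have hCE : C ≤ X0 ⊔ Y0 := by rw [← hZC]; exact (Subgroup.zpowers_le).mpr hzE
      have hEab := sup_comm' hp (hK _ hX0) (hK _ hY0) hadj0
      by_cases hXC : X0 = C
      · exact ⟨Y0, hY0, fun h => hne0 (hXC.trans h.symm),
          fun c hc y' hy' => hEab c (hCE hc) y' ((le_sup_right : Y0 ≤ X0 ⊔ Y0) hy')⟩
      · exact ⟨X0, hX0, hXC,
          fun c hc x' hx' => hEab c (hCE hc) x' ((le_sup_left : X0 ≤ X0 ⊔ Y0) hx')⟩
    · exact ⟨_, hZ, hZC, adj_symm (adj_zpowers_left (fun w hw => (hcz w hw).symm))⟩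
  have cn : ∀ A ∈ K, ∀ C ∈ K, ∃ B ∈ K, adj B A ∧ adj B C := by
    intro A hA C hC
    obtain ⟨C', hC', hne, hadj⟩ := nbr C hC
    obtain ⟨x, hx, y, hy, hz1, hcz⟩ := hb' hC hC' (Ne.symm hne) hadj hA
    have hzE : x * y ∈ C ⊔ C' := Subgroup.mul_mem_sup hx hy
    refine ⟨_, line hC hC' (Ne.symm hne) hadj hzE hz1,
      adj_zpowers_left (fun w hw => (hcz w hw).symm), ?_⟩
    have hEab := sup_comm' hp (hK _ hC) (hK _ hC') hadj
    exact adj_zpowers_left (fun c hc => hEab _ hzE c ((le_sup_left : C ≤ C ⊔ C') hc))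
  by_cases hall : ∀ A ∈ K, ∀ C ∈ K, adj A C
  · exact ⟨X0, hX0, fun W hW => hall X0 hX0 W hW⟩
  push_neg at hall
  obtain ⟨A, hA, C, hC, hAC⟩ := hall
  by_cases hQ : ∃ A ∈ K, ∃ C ∈ K, ∃ B ∈ K, ∃ D ∈ K,
      ¬ adj A C ∧ adj B A ∧ adj B C ∧ adj D A ∧ adj D C ∧ ¬ adj B D
  · clear hAC hA hC A C
    obtain ⟨A, hA, C, hC, B, hB, D, hD, hAC, hBA, hBC, hDA, hDC, hBD⟩ := hQ
    obtain ⟨a, ha_, ha1⟩ := ex1 hA
    obtain ⟨b, hb_, hb1⟩ := ex1 hB
    have hAB : A ≠ B := fun h => hAC (by rw [h]; exact hBC)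
    have hCD : C ≠ D := fun h => hBD (by rw [← h]; exact hBC)
    have hab1 : a * b ≠ 1 := by
      intro h
      have e : a = b⁻¹ := eq_inv_of_mul_eq_one_left h
      apply hAC
      rw [gen hA ha_ ha1]
      exact adj_zpowers_left (fun c hc => by rw [e]; exact hBC b⁻¹ (B.inv_mem hb_) c hc)
    have hS := line hA hB hAB (adj_symm hBA) (Subgroup.mul_mem_sup ha_ hb_) hab1
    obtain ⟨c1, hc1, d1, hd1, ht1, hct⟩ := hb' hC hD hCD (adj_symm hDC) hS
    have hst : (a * b) * (c1 * d1) = (c1 * d1) * (a * b) := hct _ (Subgroup.mem_zpowers _)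
    have e_bc := hBC b hb_ c1 hc1
    have e_da := hDA d1 hd1 a ha_
    have e_ba := hBA b hb_ a ha_
    have e_dc := hDC d1 hd1 c1 hc1
    have star : a * c1 * (b * d1) = c1 * a * (d1 * b) := by
      calc a * c1 * (b * d1) = a * (c1 * b) * d1 := by group
        _ = a * (b * c1) * d1 := by rw [e_bc]
        _ = a * b * (c1 * d1) := by group
        _ = c1 * d1 * (a * b) := hst
        _ = c1 * (d1 * a) * b := by group
        _ = c1 * (a * d1) * b := by rw [e_da]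
        _ = c1 * a * (d1 * b) := by group
    have hc1' : c1 ≠ 1 := by
      intro h
      rw [h] at star ht1
      have e : b * d1 = d1 * b := by simpa using star
      rw [one_mul] at ht1
      apply hBD
      rw [gen hD hd1 ht1, gen hB hb_ hb1]
      exact adj_of_comm_gens e
    have hd1' : d1 ≠ 1 := by
      intro h
      rw [h] at star ht1
      have e : a * c1 = c1 * a := by simpa using star
      rw [mul_one] at ht1
      apply hAC
      rw [gen hA ha_ ha1, gen hC hc1 ht1]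
      exact adj_of_comm_gens e
    have hζ' : a⁻¹ * c1⁻¹ * a * c1 = d1 * b * d1⁻¹ * b⁻¹ := by
      have e : a⁻¹ * c1⁻¹ * a * c1 = (c1 * a)⁻¹ * (a * c1 * (b * d1)) * (b * d1)⁻¹ := by group
      rw [e, star]; group
    obtain ⟨ζ, hζ⟩ : ∃ ζ : G, ζ = a⁻¹ * c1⁻¹ * a * c1 := ⟨_, rfl⟩
    have hζa : Commute ζ a := by
      rw [hζ, hζ']
      have cb : Commute b a := e_ba
      have cd : Commute d1 a := e_da
      exact ((cd.mul_left cb).mul_left cd.inv_left).mul_left cb.inv_left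
    have hζc : Commute ζ c1 := by
      rw [hζ, hζ']
      have cb : Commute b c1 := e_bc
      have cd : Commute d1 c1 := e_dc
      exact ((cd.mul_left cb).mul_left cd.inv_left).mul_left cb.inv_left
    have hnac : a * c1 ≠ c1 * a := by
      intro e
      apply hAC
      rw [gen hA ha_ ha1, gen hC hc1 hc1']
      exact adj_of_comm_gens e
    have hζ1 : ζ ≠ 1 := by
      intro h
      apply hnac
      have e : a * c1 = c1 * a * (a⁻¹ * c1⁻¹ * a * c1) := by group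
      rw [← hζ, h, mul_one] at e
      exact e
    have hA1 := hKc A hA c1⁻¹
    have ha1mem : c1⁻¹ * a * c1 ∈ A.map (MulAut.conj c1⁻¹).toMonoidHom :=
      Subgroup.mem_map.mpr ⟨a, ha_, by simp [MulAut.conj_apply]⟩
    have ha1eq : c1⁻¹ * a * c1 = a * ζ := by rw [hζ]; group
    rw [ha1eq] at ha1mem
    generalize A.map (MulAut.conj c1⁻¹).toMonoidHom = A1 at hA1 ha1mem
    have ha1ne : a * ζ ≠ 1 := by
      intro h
      apply ha1
      have e : a = c1 * (c1⁻¹ * a * c1) * c1⁻¹ := by group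
      rw [e, ha1eq, h]; group
    have hAA1adj : adj A A1 := by
      rw [gen hA ha_ ha1, gen hA1 ha1mem ha1ne]
      apply adj_of_comm_gens
      calc a * (a * ζ) = a * (ζ * a) := by rw [hζa.eq]
        _ = a * ζ * a := by group
    have hζCadj : adj (Subgroup.zpowers ζ) C := by
      rw [gen hC hc1 hc1']
      exact adj_of_comm_gens hζc.eq
    have hζAadj : adj (Subgroup.zpowers ζ) A := by
      rw [gen hA ha_ ha1]
      exact adj_of_comm_gens hζa.eq
    have hAA1 : A ≠ A1 := by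
      intro h
      rw [← h] at ha1mem
      have hζA : ζ ∈ A := by
        have e : ζ = a⁻¹ * (a * ζ) := by group
        rw [e]; exact A.mul_mem (A.inv_mem ha_) ha1mem
      apply hAC
      rw [gen hA hζA hζ1]
      exact hζCadj
    have hζmem : ζ ∈ A ⊔ A1 := by
      have e : ζ = a⁻¹ * (a * ζ) := by group
      rw [e]; exact Subgroup.mul_mem_sup (A.inv_mem ha_) ha1mem
    have hZ0 := line hA hA1 hAA1 hAA1adj hζmem hζ1
    have hAZ : A ≠ Subgroup.zpowers ζ := fun h => hAC (by rw [h]; exact hζCadj)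
    have hCZ : C ≠ Subgroup.zpowers ζ := fun h => hAC (by rw [h]; exact adj_symm hζAadj)
    refine ⟨_, hZ0, fun W hW => ?_⟩
    obtain ⟨a2, ha2, z2, hz2, hu1, hcu⟩ := hb' hA hZ0 hAZ (adj_symm hζAadj) hW
    obtain ⟨c2, hc2, z3, hz3, hv1, hcv⟩ := hb' hC hZ0 hCZ (adj_symm hζCadj) hW
    by_cases ha2' : a2 = 1
    · rw [ha2', one_mul] at hu1 hcu
      rw [gen hZ0 hz2 hu1]
      exact adj_zpowers_left (fun w hw => (hcu w hw).symm)
    by_cases hc2' : c2 = 1
    · rw [hc2', one_mul] at hv1 hcv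
      rw [gen hZ0 hz3 hv1]
      exact adj_zpowers_left (fun w hw => (hcv w hw).symm)
    have hAgen := gen hA ha2 ha2'
    have hCgen := gen hC hc2 hc2'
    obtain ⟨m, hm⟩ := Subgroup.mem_zpowers_iff.mp (hAgen ▸ ha_ : a ∈ Subgroup.zpowers a2)
    obtain ⟨n, hn⟩ := Subgroup.mem_zpowers_iff.mp (hCgen ▸ hc1 : c1 ∈ Subgroup.zpowers c2)
    have hum : (a2 * z2) ^ m = a * z2 ^ m := by
      rw [(show Commute a2 z2 from (hζAadj z2 hz2 a2 ha2).symm).mul_zpow, hm]
    have hvn : (c2 * z3) ^ n = c1 * z3 ^ n := by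
      rw [(show Commute c2 z3 from (hζCadj z3 hz3 c2 hc2).symm).mul_zpow, hn]
    have hz2m : z2 ^ m ∈ Subgroup.zpowers ζ := (Subgroup.zpowers ζ).zpow_mem hz2 m
    have hz3n : z3 ^ n ∈ Subgroup.zpowers ζ := (Subgroup.zpowers ζ).zpow_mem hz3 n
    have k1 : Commute (z2 ^ m) a := hζAadj _ hz2m a ha_
    have k2 : Commute (z2 ^ m) c1 := hζCadj _ hz2m c1 hc1
    have k3 : Commute (z3 ^ n) a := hζAadj _ hz3n a ha_
    have k4 : Commute (z3 ^ n) c1 := hζCadj _ hz3n c1 hc1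
    have k5 : Commute (z2 ^ m) (z3 ^ n) := adj_self hp (hK _ hZ0) _ hz2m _ hz3n
    have hcomm : (a * z2 ^ m)⁻¹ * (c1 * z3 ^ n)⁻¹ * (a * z2 ^ m) * (c1 * z3 ^ n) = ζ := by
      rw [comm_R1 a (z2 ^ m) (c1 * z3 ^ n) k1 (k2.mul_right k5),
        comm_R2 a c1 (z3 ^ n) k4 k3, hζ]
    apply adj_zpowers_left
    intro w hw
    have cu : Commute w (a2 * z2) := hcu w hw
    have cv : Commute w (c2 * z3) := hcv w hw
    have cX : Commute w (a * z2 ^ m) := by rw [← hum]; exact cu.zpow_right m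
    have cY : Commute w (c1 * z3 ^ n) := by rw [← hvn]; exact cv.zpow_right n
    have cζ : Commute w ζ := by
      rw [← hcomm]
      exact ((cX.inv_right.mul_right cY.inv_right).mul_right cX).mul_right cY
    exact cζ.eq.symm
  · have hnQ : ∀ A ∈ K, ∀ C ∈ K, ¬ adj A C → ∀ B ∈ K, ∀ D ∈ K, adj B A → adj B C → adj D A →
        adj D C → adj B D := by
      intro A hA C hC hAC B hB D hD h1 h2 h3 h4
      by_contra h5
      exact hQ ⟨A, hA, C, hC, B, hB, D, hD, hAC, h1, h2, h3, h4, h5⟩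
    obtain ⟨B, hB, hBA, hBC⟩ := cn A hA C hC
    refine ⟨B, hB, fun W hW => ?_⟩
    have hAB : A ≠ B := fun h => hAC (by rw [h]; exact hBC)
    have hCB : C ≠ B := fun h => hAC (by rw [h]; exact adj_symm hBA)
    obtain ⟨a1, ha1, b1, hb1, hs1, hcs⟩ := hb' hA hB hAB (adj_symm hBA) hW
    obtain ⟨c1, hc1, b2, hb2, hs'1, hcs'⟩ := hb' hC hB hCB (adj_symm hBC) hW
    by_cases ha1' : a1 = 1
    · rw [ha1', one_mul] at hs1 hcs
      rw [gen hB hb1 hs1]
      exact adj_zpowers_left (fun w hw => (hcs w hw).symm)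
    by_cases hc1' : c1 = 1
    · rw [hc1', one_mul] at hs'1 hcs'
      rw [gen hB hb2 hs'1]
      exact adj_zpowers_left (fun w hw => (hcs' w hw).symm)
    have hA' := line hA hB hAB (adj_symm hBA) (Subgroup.mul_mem_sup ha1 hb1) hs1
    have hC' := line hC hB hCB (adj_symm hBC) (Subgroup.mul_mem_sup hc1 hb2) hs'1
    have hnac : a1 * c1 ≠ c1 * a1 := by
      intro e
      apply hAC
      rw [gen hA ha1 ha1', gen hC hc1 hc1']
      exact adj_of_comm_gens e
    have hnadj : ¬ adj (Subgroup.zpowers (a1 * b1)) (Subgroup.zpowers (c1 * b2)) := by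
      intro h
      apply hnac
      have e := h _ (Subgroup.mem_zpowers _) _ (Subgroup.mem_zpowers _)
      have e2 := hBC b1 hb1 c1 hc1
      have e3 := hBA b2 hb2 a1 ha1
      have e5 := adj_self hp (hK _ hB) b1 hb1 b2 hb2
      have e6 : a1 * c1 * (b1 * b2) = c1 * a1 * (b1 * b2) := by
        calc a1 * c1 * (b1 * b2) = a1 * (c1 * b1) * b2 := by group
          _ = a1 * (b1 * c1) * b2 := by rw [e2]
          _ = a1 * b1 * (c1 * b2) := by group
          _ = c1 * b2 * (a1 * b1) := e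
          _ = c1 * (b2 * a1) * b1 := by group
          _ = c1 * (a1 * b2) * b1 := by rw [e3]
          _ = c1 * a1 * (b2 * b1) := by group
          _ = c1 * a1 * (b1 * b2) := by rw [e5]
      exact mul_right_cancel e6
    have hBA' : adj B (Subgroup.zpowers (a1 * b1)) := by
      apply adj_symm
      apply adj_zpowers_left
      intro b hb_
      have e1 := hBA b hb_ a1 ha1
      have e2 := adj_self hp (hK _ hB) b hb_ b1 hb1
      calc a1 * b1 * b = a1 * (b1 * b) := by group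
        _ = a1 * (b * b1) := by rw [e2]
        _ = (a1 * b) * b1 := by group
        _ = (b * a1) * b1 := by rw [e1]
        _ = b * (a1 * b1) := by group
    have hBC' : adj B (Subgroup.zpowers (c1 * b2)) := by
      apply adj_symm
      apply adj_zpowers_left
      intro b hb_
      have e1 := hBC b hb_ c1 hc1
      have e2 := adj_self hp (hK _ hB) b hb_ b2 hb2
      calc c1 * b2 * b = c1 * (b2 * b) := by group
        _ = c1 * (b * b2) := by rw [e2]
        _ = (c1 * b) * b2 := by group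
        _ = (b * c1) * b2 := by rw [e1]
        _ = b * (c1 * b2) := by group
    have hWA' : adj W (Subgroup.zpowers (a1 * b1)) :=
      adj_symm (adj_zpowers_left (fun w hw => (hcs w hw).symm))
    have hWC' : adj W (Subgroup.zpowers (c1 * b2)) :=
      adj_symm (adj_zpowers_left (fun w hw => (hcs' w hw).symm))
    exact hnQ _ hA' _ hC' hnadj B hB W hW hBA' hBC' hWA' hWC'

/-- Let p be a prime and K a set of subgroups of order p of a finite group G, closed under conjugation, such that at least two distinct members of K commute elementwise, and whenever two distinct members X, Y of K commute: every subgroup of order p of the group XY they generate belongs to K, and every member W of K has centralizer meeting XY nontrivially. Then some member V of K commutes elementwise with every member of K and lies in O_p(G); in particular G is not simple. -/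
theorem result {G : Type*} [Group G] [Finite G]
    {p : ℕ} (hp : p.Prime) (K : Set (Subgroup G)) (hK : ∀ X ∈ K, Nat.card ↥X = p)
    (hKc : ∀ X ∈ K, ∀ g : G, X.map (MulAut.conj g).toMonoidHom ∈ K)
    (hex : ∃ X ∈ K, ∃ Y ∈ K, X ≠ Y ∧ ∀ x ∈ X, ∀ y ∈ Y, x * y = y * x)
    (ha : ∀ X ∈ K, ∀ Y ∈ K, X ≠ Y → (∀ x ∈ X, ∀ y ∈ Y, x * y = y * x) →
      ∀ Z : Subgroup G, Z ≤ X ⊔ Y → Nat.card ↥Z = p → Z ∈ K)
    (hb : ∀ X ∈ K, ∀ Y ∈ K, X ≠ Y → (∀ x ∈ X, ∀ y ∈ Y, x * y = y * x) →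
      ∀ W ∈ K, (X ⊔ Y) ⊓ Subgroup.centralizer (W : Set G) ≠ ⊥) :
    (∃ V ∈ K, (∀ W ∈ K, ∀ v ∈ V, ∀ w ∈ W, v * w = w * v) ∧ V ≤ Cfsg.pCore p G) ∧ ¬ IsSimpleGroup G := by
  obtain ⟨V, hV, hVall⟩ := main hp K hK hKc hex ha hb
  have hconj : ∀ g : G, ∀ W ∈ K, adj (V.map (MulAut.conj g).toMonoidHom) W := by
    intro g W hW
    have hW' := hKc W hW g⁻¹
    rintro _ ⟨v, hv, rfl⟩ w hw
    have e := hVall _ hW' v hv (g⁻¹ * w * g)
      (Subgroup.mem_map.mpr ⟨w, hw, by simp [MulAut.conj_apply]⟩)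
    show (MulAut.conj g) v * w = w * (MulAut.conj g) v
    simp only [MulAut.conj_apply]
    calc g * v * g⁻¹ * w = g * (v * (g⁻¹ * w * g)) * g⁻¹ := by group
      _ = g * ((g⁻¹ * w * g) * v) * g⁻¹ := by rw [e]
      _ = w * (g * v * g⁻¹) := by group
  obtain ⟨S, hS⟩ : ∃ S : Set G, S = {x | ∃ g : G, x ∈ V.map (MulAut.conj g).toMonoidHom} :=
    ⟨_, rfl⟩
  have hScomm : ∀ x ∈ S, ∀ y ∈ S, x * y = y * x := by
    rw [hS]
    rintro x ⟨g, hx⟩ y ⟨h, hy⟩
    exact hconj g _ (hKc V hV h) x hx y hy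
  have hSp : ∀ x ∈ S, x ^ p = 1 := by
    rw [hS]
    rintro x ⟨g, hx⟩
    exact pow_p (hK _ (hKc V hV g)) hx
  have h1 : Subgroup.closure S ≤ Subgroup.centralizer S :=
    (Subgroup.closure_le _).mpr
      (fun x hx => Subgroup.mem_centralizer_iff.mpr (fun y hy => hScomm y hy x hx))
  have h2 : Subgroup.closure S ≤ Subgroup.centralizer (Subgroup.closure S : Set G) :=
    (Subgroup.closure_le _).mpr (fun x hx => Subgroup.mem_centralizer_iff.mpr (fun y hy =>
      (Subgroup.mem_centralizer_iff.mp (h1 hy) x hx).symm))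
  have hNcomm : ∀ x ∈ Subgroup.closure S, ∀ y ∈ Subgroup.closure S, x * y = y * x :=
    fun x hx y hy => Subgroup.mem_centralizer_iff.mp (h2 hy) x hx
  have hNp : ∀ x ∈ Subgroup.closure S, x ^ p = 1 := by
    intro x hx
    induction hx using Subgroup.closure_induction with
    | mem x hx => exact hSp x hx
    | one => exact one_pow p
    | mul x y hx hy ihx ihy =>
      rw [(show Commute x y from hNcomm x hx y hy).mul_pow, ihx, ihy, one_mul]
    | inv x hx ih => rw [inv_pow, ih, inv_one]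
  have hNn : (Subgroup.closure S).Normal := by
    constructor
    intro n hn g
    have hle : (Subgroup.closure S).map (MulAut.conj g).toMonoidHom ≤ Subgroup.closure S := by
      rw [MonoidHom.map_closure]
      apply (Subgroup.closure_le _).mpr
      rintro _ ⟨x, hx, rfl⟩
      apply Subgroup.subset_closure
      rw [hS] at hx ⊢
      obtain ⟨h, v, hv, rfl⟩ := hx
      exact ⟨g * h, v, hv, by simp [MulAut.conj_apply, mul_assoc]⟩
    exact hle ⟨n, hn, by simp [MulAut.conj_apply]⟩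
  have hNpg : IsPGroup p (Subgroup.closure S) := by
    intro x
    refine ⟨1, ?_⟩
    rw [pow_one]
    exact Subtype.ext (by simpa using hNp x.1 x.2)
  have hVN : V ≤ Subgroup.closure S := by
    intro v hv
    apply Subgroup.subset_closure
    rw [hS]
    exact ⟨1, v, hv, by simp⟩
  refine ⟨⟨V, hV, hVall, ?_⟩, ?_⟩
  · exact le_trans hVN (le_sSup ⟨hNn, hNpg⟩)
  · intro hs
    obtain ⟨X0, hX0, Y0, hY0, hne0, -⟩ := hex
    have hVbot : V ≠ ⊥ := by
      intro h
      have h1 := hK V hV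
      rw [h, Subgroup.card_bot] at h1
      exact hp.one_lt.ne h1
    have hNtop : Subgroup.closure S = ⊤ := by
      rcases hNn.eq_bot_or_eq_top with h | h
      · exact absurd (le_bot_iff.mp (h ▸ hVN)) hVbot
      · exact h
    have hcomm : ∀ x y : G, x * y = y * x := fun x y =>
      hNcomm x (hNtop ▸ Subgroup.mem_top x) y (hNtop ▸ Subgroup.mem_top y)
    have htop : ∀ X ∈ K, X = ⊤ := by
      intro X hX
      have hXn : X.Normal := ⟨fun n hn g => by rw [hcomm g n, mul_inv_cancel_right]; exact hn⟩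
      rcases hXn.eq_bot_or_eq_top with h | h
      · exfalso
        have h1 := hK X hX
        rw [h, Subgroup.card_bot] at h1
        exact hp.one_lt.ne h1
      · exact h
    exact hne0 ((htop X0 hX0).trans (htop Y0 hY0).symm)

end Cfsg.Agent.S3196
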