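import Mathlib
import Cfsg.Statements.S3201
import Cfsg.Agent.Helper16.QuatExt
-- import your own Cfsg.Agent.* helpers here

set_option autoImplicit false
open Cfsg

namespace Cfsg.Agent.S3201

theorem split {S : Type*} [Group S] [Finite S] (hS : IsPGroup 2 S) (D : Subgroup S) [D.Normal]
    (hDc : ∀ d ∈ D, ∀ s : S, d * s = s * d)
    (hnc : ¬ IsMulCommutative (S ⧸ D)) (hu : ∃! x : S ⧸ D, orderOf x = 2)
    {I : Type*} (C' : I → Subgroup S)
    (hZe : ∀ t : S, (∀ s, t * s = s * t) → t * t = 1)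
    (hint : ∀ t : S, (∀ i, t ∈ C' i) → t = 1)
    (hkey : ∀ i, ∀ t : S, t * t ∈ C' i → ∀ s, t * s = s * t)
    (hZ2 : ∀ i, ∀ t t' : S, (∀ s, t * s = s * t) → (∀ s, t' * s = s * t') →
      t ∉ C' i → t' ∉ C' i → t⁻¹ * t' ∈ C' i)
    (hkeyD : ∀ t : S, t * t ∈ D → ∀ s, t * s = s * t) :
    ∃ Q : Subgroup S, Cfsg.IsInternalDirectProduct D Q ⊤ ∧ Cfsg.IsElementaryAbelian 2 D ∧
      ¬ IsMulCommutative ↥Q ∧ ∃! x : ↥Q, orderOf x = 2 := by
  classical
  haveI : Fact (Nat.Prime 2) := ⟨Nat.prime_two⟩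
  obtain ⟨k, hk, ⟨e⟩⟩ := Cfsg.Agent.Helper16.QuatExt.exists_quat (hS.to_quotient D) hnc hu
  obtain ⟨m', hm'⟩ : ∃ m', 2 ^ k = 2 * m' := ⟨2 ^ (k - 1), by rw [← pow_succ']; congr 1; omega⟩
  obtain ⟨m, hm⟩ : ∃ m, m = 2 ^ k := ⟨_, rfl⟩
  rw [← hm] at e hm'
  haveI : NeZero m := ⟨by rw [hm]; positivity⟩
  obtain ⟨A, B, d1, d2, d3, d4, d5⟩ := Cfsg.Agent.Helper16.QuatExt.quat_data e
  obtain ⟨α, rfl⟩ := QuotientGroup.mk_surjective A
  obtain ⟨β, rfl⟩ := QuotientGroup.mk_surjective B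
  have hαmD : α ^ m ∉ D := by
    intro h
    apply d3
    rw [← QuotientGroup.mk_pow]
    exact (QuotientGroup.eq_one_iff _).2 h
  have hαm2 : α ^ m * α ^ m ∈ D := by
    rw [← QuotientGroup.eq_one_iff, QuotientGroup.mk_mul, QuotientGroup.mk_pow, ← pow_add,
      ← two_mul, ← d5, pow_orderOf_eq_one]
  have hαmc : ∀ s, α ^ m * s = s * α ^ m := hkeyD _ hαm2
  have hαm1 : α ^ m * α ^ m = 1 := hZe _ hαmc
  have hββ : (α ^ m)⁻¹ * (β * β) ∈ D := by
    rw [← QuotientGroup.eq, QuotientGroup.mk_pow, QuotientGroup.mk_mul]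
    exact d2.symm
  have hββc : ∀ s, (β * β) * s = s * (β * β) := by
    intro s
    have h1 := hDc _ hββ s
    calc β * β * s = α ^ m * (((α ^ m)⁻¹ * (β * β)) * s) := by group
      _ = α ^ m * (s * ((α ^ m)⁻¹ * (β * β))) := by rw [h1]
      _ = (α ^ m * s) * ((α ^ m)⁻¹ * (β * β)) := by group
      _ = (s * α ^ m) * ((α ^ m)⁻¹ * (β * β)) := by rw [hαmc s]
      _ = s * (β * β) := by group
  have hββD : β * β ∉ D := by
    intro h
    apply hαmD
    have e1 : α ^ m = (β * β) * ((α ^ m)⁻¹ * (β * β))⁻¹ := by group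
    rw [e1]
    exact D.mul_mem h (D.inv_mem hββ)
  have hββC : ∀ i, β * β ∉ C' i := by
    intro i h
    have hβc := hkey i β h
    exact hββD (by rw [hZe β hβc]; exact D.one_mem)
  have hαmC : ∀ i, α ^ m ∉ C' i := by
    intro i h
    have e1 : α ^ m = α ^ m' * α ^ m' := by rw [← pow_add, hm']; congr 1; omega
    rw [e1] at h
    have hc := hkey i (α ^ m') h
    exact hαmD (by rw [e1, hZe _ hc]; exact D.one_mem)
  have hR2 : β * β = α ^ m := by
    have h1 : (β * β)⁻¹ * α ^ m = 1 :=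
      hint _ (fun i => hZ2 i _ _ hββc hαmc (hββC i) (hαmC i))
    calc β * β = (β * β) * ((β * β)⁻¹ * α ^ m) := by rw [h1, mul_one]
      _ = α ^ m := by group
  obtain ⟨c, hc⟩ : ∃ c : S, c = β * α * β⁻¹ * α := ⟨_, rfl⟩
  have hcD : c ∈ D := by
    rw [← QuotientGroup.eq_one_iff, hc]
    simp only [QuotientGroup.mk_mul, QuotientGroup.mk_inv]
    calc (QuotientGroup.mk β : S ⧸ D) * QuotientGroup.mk α * (QuotientGroup.mk β)⁻¹ *
          QuotientGroup.mk α
        = (QuotientGroup.mk α)⁻¹ * (QuotientGroup.mk α * (QuotientGroup.mk β *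
          QuotientGroup.mk α)) * (QuotientGroup.mk β)⁻¹ * QuotientGroup.mk α := by group
      _ = 1 := by rw [d1]; group
  have hcc : ∀ s, c * s = s * c := hDc c hcD
  have hbaba : (β * α) * (β * α) = c * (β * β) := by
    calc (β * α) * (β * α) = (β * α * β⁻¹ * α) * (α⁻¹ * ((β * β) * α)) := by group
      _ = (β * α * β⁻¹ * α) * (α⁻¹ * (α * (β * β))) := by rw [hββc α]
      _ = c * (β * β) := by rw [← hc]; group
  have hcββc : ∀ s, (c * (β * β)) * s = s * (c * (β * β)) := by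
    intro s
    calc c * (β * β) * s = c * ((β * β) * s) := by group
      _ = c * (s * (β * β)) := by rw [hββc s]
      _ = (c * s) * (β * β) := by group
      _ = (s * c) * (β * β) := by rw [hcc s]
      _ = s * (c * (β * β)) := by group
  have hcββC : ∀ i, c * (β * β) ∉ C' i := by
    intro i h
    rw [← hbaba] at h
    have hc' := hkey i (β * α) h
    have h1 := hZe _ hc'
    rw [hbaba] at h1
    apply hββD
    have e1 : β * β = c⁻¹ * (c * (β * β)) := by group
    rw [e1, h1, mul_one]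
    exact D.inv_mem hcD
  have hc1 : c = 1 := by
    apply hint
    intro i
    have h1 := hZ2 i _ _ hββc hcββc (hββC i) (hcββC i)
    have h2 : (β * β)⁻¹ * (c * (β * β)) = c := by
      calc (β * β)⁻¹ * (c * (β * β)) = (β * β)⁻¹ * ((β * β) * c) := by rw [hcc (β * β)]
        _ = c := by group
    rwa [h2] at h1
  have hR1 : β * α * β⁻¹ = α⁻¹ := by
    apply eq_inv_of_mul_eq_one_left
    rw [← hc, hc1]
  have hord : orderOf α = 2 * m := by
    apply Nat.dvd_antisymm
    · apply orderOf_dvd_of_pow_eq_one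
      rw [two_mul, pow_add]; exact hαm1
    · rw [← d5]
      exact orderOf_map_dvd (QuotientGroup.mk' D) α
  have hww : β * β = Cfsg.Agent.Helper6.QD.E α ((m : ℕ) : ZMod (2 * m)) := by
    rw [Cfsg.Agent.Helper6.QD.E_natCast hord m]; exact hR2
  obtain ⟨f, hf⟩ : ∃ f : QuaternionGroup m →* S,
      ∀ g, f g = Cfsg.Agent.Helper6.QD.quatFun α β g :=
    ⟨Cfsg.Agent.Helper6.QD.quatHom hord hR1 hww, fun g => rfl⟩
  have hfa : ∀ i : ℕ, f (QuaternionGroup.a (i : ZMod (2 * m))) = α ^ i := by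
    intro i
    rw [hf, Cfsg.Agent.Helper6.QD.quatFun_a, Cfsg.Agent.Helper6.QD.E_natCast hord i]
  have hfxa : ∀ i : ℕ, f (QuaternionGroup.xa (i : ZMod (2 * m))) = β * α ^ i := by
    intro i
    rw [hf, Cfsg.Agent.Helper6.QD.quatFun_xa, Cfsg.Agent.Helper6.QD.E_natCast hord i]
  have hψs : Function.Surjective
      (fun q : QuaternionGroup m => (QuotientGroup.mk (f q) : S ⧸ D)) := by
    intro q'
    obtain ⟨i, h | h⟩ := d4 q'
    · refine ⟨QuaternionGroup.a (i : ZMod (2 * m)), ?_⟩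
      show (QuotientGroup.mk (f (QuaternionGroup.a (i : ZMod (2 * m)))) : S ⧸ D) = q'
      rw [hfa, h, QuotientGroup.mk_pow]
    · refine ⟨QuaternionGroup.xa (i : ZMod (2 * m)), ?_⟩
      show (QuotientGroup.mk (f (QuaternionGroup.xa (i : ZMod (2 * m)))) : S ⧸ D) = q'
      rw [hfxa, h, QuotientGroup.mk_mul, QuotientGroup.mk_pow]
  have hψb : Function.Bijective
      (fun q : QuaternionGroup m => (QuotientGroup.mk (f q) : S ⧸ D)) := by
    haveI : Finite (QuaternionGroup m) := Finite.of_equiv _ e.toEquiv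
    apply hψs.bijective_of_nat_card_le
    exact le_of_eq (Nat.card_congr e.toEquiv.symm)
  have hfinj : Function.Injective f := by
    intro p q hpq
    apply hψb.1
    show (QuotientGroup.mk (f p) : S ⧸ D) = QuotientGroup.mk (f q)
    rw [hpq]
  refine ⟨f.range, ?_, ?_, ?_, ?_⟩
  · unfold Cfsg.IsInternalDirectProduct
    refine ⟨le_top, le_top, ?_, ?_, ?_⟩
    · intro a ha b _
      exact hDc a ha b
    · rw [eq_bot_iff]
      rintro x ⟨hxD, ⟨q, rfl⟩⟩
      have h1 : (QuotientGroup.mk (f q) : S ⧸ D) = QuotientGroup.mk (f 1) := by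
        rw [map_one, (QuotientGroup.eq_one_iff _).2 hxD, QuotientGroup.mk_one]
      have h2 : q = 1 := hψb.1 h1
      rw [h2, map_one]; exact Subgroup.mem_bot.2 rfl
    · rw [eq_top_iff]
      intro s _
      obtain ⟨q, hq⟩ := hψb.2 (QuotientGroup.mk s)
      have h1 : (f q)⁻¹ * s ∈ D := QuotientGroup.eq.1 hq
      have h2 : s = ((f q)⁻¹ * s) * f q := by
        have h3 := hDc _ h1 (f q)
        calc s = f q * ((f q)⁻¹ * s) := by group
          _ = ((f q)⁻¹ * s) * f q := h3.symm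
      rw [h2]
      exact Subgroup.mul_mem_sup h1 ⟨q, rfl⟩
  · unfold Cfsg.IsElementaryAbelian
    refine ⟨⟨⟨fun a b => Subtype.ext (hDc a a.2 b)⟩⟩, ?_⟩
    intro a ha
    rw [pow_two]; exact hZe a (hDc a ha)
  · intro hcomm
    apply hnc
    refine ⟨⟨fun q₁ q₂ => ?_⟩⟩
    obtain ⟨p₁, rfl⟩ := hψb.2 q₁
    obtain ⟨p₂, rfl⟩ := hψb.2 q₂
    have h1 := hcomm.is_comm.comm ⟨f p₁, ⟨p₁, rfl⟩⟩ ⟨f p₂, ⟨p₂, rfl⟩⟩
    have h2 : f p₁ * f p₂ = f p₂ * f p₁ := congrArg Subtype.val h1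
    show (QuotientGroup.mk (f p₁) : S ⧸ D) * QuotientGroup.mk (f p₂) =
      QuotientGroup.mk (f p₂) * QuotientGroup.mk (f p₁)
    rw [← QuotientGroup.mk_mul, ← QuotientGroup.mk_mul, h2]
  · obtain ⟨z₀, hz₀, hz₀u⟩ := hu
    let Φ : S ⧸ D ≃* f.range := e.trans (MonoidHom.ofInjective hfinj)
    refine ⟨Φ z₀, ?_, ?_⟩
    · show orderOf (Φ z₀) = 2
      rw [MulEquiv.orderOf_eq]; exact hz₀
    · intro x hx
      have h1 : orderOf (Φ.symm x) = 2 := by rw [MulEquiv.orderOf_eq]; exact hx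
      have h2 := hz₀u _ h1
      exact (MulEquiv.symm_apply_eq Φ).1 h2


/-- Let S be a finite 2-group whose centre Z(S) has n ≥ 2 distinct maximal subgroups C₁, …, Cₙ with trivial intersection such that each quotient S/Cᵢ is a non-abelian group with exactly one involution (a generalized quaternion group). Then S is the internal direct product of an elementary abelian subgroup and a non-abelian subgroup with exactly one involution. -/
theorem result {S : Type*} [Group S] [Finite S]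
    (hS : IsPGroup 2 S) (n : ℕ) (hn : 2 ≤ n) (C : Fin n → Subgroup ↥(Subgroup.center S))
    (hCmax : ∀ i, IsCoatom (C i)) (hCinj : Function.Injective C) (hCint : ⨅ i, C i = ⊥)
    (hCq : ∀ i, ∃ (_ : ((C i).map (Subgroup.center S).subtype).Normal),
      ¬ IsMulCommutative (S ⧸ (C i).map (Subgroup.center S).subtype) ∧
      ∃! x : S ⧸ (C i).map (Subgroup.center S).subtype, orderOf x = 2) :
    ∃ E Q : Subgroup S, Cfsg.IsInternalDirectProduct E Q ⊤ ∧ Cfsg.IsElementaryAbelian 2 E ∧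
      ¬ IsMulCommutative ↥Q ∧ ∃! x : ↥Q, orderOf x = 2 := by
  classical
  haveI : Fact (Nat.Prime 2) := ⟨Nat.prime_two⟩
  have hcen : ∀ i, ∀ d ∈ (C i).map (Subgroup.center S).subtype, ∀ s : S, d * s = s * d := by
    intro i d hd s
    obtain ⟨z, hz, rfl⟩ := hd
    exact ((Subgroup.mem_center_iff.1 z.2) s).symm
  obtain ⟨i0⟩ : Nonempty (Fin n) := ⟨⟨0, by omega⟩⟩
  have hint : ∀ t : S, (∀ i, t ∈ (C i).map (Subgroup.center S).subtype) → t = 1 := by
    intro t ht
    obtain ⟨z, hz, rfl⟩ := ht i0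
    have hz' : z ∈ ⨅ i, C i := by
      rw [Subgroup.mem_iInf]
      intro i
      obtain ⟨z', hz', he⟩ := ht i
      have e1 : z' = z := Subtype.ext he
      rw [← e1]; exact hz'
    rw [hCint, Subgroup.mem_bot] at hz'
    rw [hz', map_one]
  have hZe : ∀ t : S, (∀ s, t * s = s * t) → t * t = 1 := by
    intro t ht
    apply hint
    intro i
    obtain ⟨hnorm, hnc, hu⟩ := hCq i
    haveI := hnorm
    exact Cfsg.Agent.Helper16.QuatExt.sq_mem_of_central hS _ hnc hu t ht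
  have hout : ∀ i, ∃ s₀ : S, (∀ s, s₀ * s = s * s₀) ∧
      s₀ ∉ (C i).map (Subgroup.center S).subtype := by
    intro i
    have hne : C i ≠ ⊤ := (hCmax i).1
    obtain ⟨z, hz⟩ : ∃ z : Subgroup.center S, z ∉ C i := by
      by_contra hcon; push_neg at hcon
      exact hne (eq_top_iff.2 (fun z _ => hcon z))
    refine ⟨z, fun s => ((Subgroup.mem_center_iff.1 z.2) s).symm, ?_⟩
    rintro ⟨z', hz', he⟩
    have e1 : z' = z := Subtype.ext he
    rw [e1] at hz'; exact hz hz'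
  have hkey : ∀ i, ∀ t : S, t * t ∈ (C i).map (Subgroup.center S).subtype →
      ∀ s, t * s = s * t := by
    intro i t ht
    obtain ⟨hnorm, hnc, hu⟩ := hCq i
    haveI := hnorm
    obtain ⟨s₀, hs₀c, hs₀D⟩ := hout i
    by_cases htD : t ∈ (C i).map (Subgroup.center S).subtype
    · exact hcen i t htD
    · have h1 := Cfsg.Agent.Helper16.QuatExt.inv_mul_mem_of_sq _ hu s₀ t
        (by rw [hZe s₀ hs₀c]; exact Subgroup.one_mem _) ht hs₀D htD
      have h2 := hcen i _ h1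
      intro s
      calc t * s = s₀ * ((s₀⁻¹ * t) * s) := by group
        _ = s₀ * (s * (s₀⁻¹ * t)) := by rw [h2 s]
        _ = (s₀ * s) * (s₀⁻¹ * t) := by group
        _ = (s * s₀) * (s₀⁻¹ * t) := by rw [hs₀c s]
        _ = s * t := by group
  have hZ2 : ∀ i, ∀ t t' : S, (∀ s, t * s = s * t) → (∀ s, t' * s = s * t') →
      t ∉ (C i).map (Subgroup.center S).subtype → t' ∉ (C i).map (Subgroup.center S).subtype →
      t⁻¹ * t' ∈ (C i).map (Subgroup.center S).subtype := by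
    intro i t t' ht ht' htD ht'D
    obtain ⟨hnorm, hnc, hu⟩ := hCq i
    haveI := hnorm
    exact Cfsg.Agent.Helper16.QuatExt.inv_mul_mem_of_sq _ hu t t'
      (by rw [hZe t ht]; exact Subgroup.one_mem _) (by rw [hZe t' ht']; exact Subgroup.one_mem _)
      htD ht'D
  obtain ⟨hnorm, hnc, hu⟩ := hCq i0
  haveI := hnorm
  obtain ⟨Q, h1, h2, h3, h4⟩ := split hS ((C i0).map (Subgroup.center S).subtype) (hcen i0) hnc hu
    (fun i => (C i).map (Subgroup.center S).subtype) hZe hint hkey hZ2 (hkey i0)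
  exact ⟨_, Q, h1, h2, h3, h4⟩

end Cfsg.Agent.S3201
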