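import Mathlib
import Cfsg.Statements.S3202
import Cfsg.Agent.Helper16.QuatExt
-- import your own Cfsg.Agent.* helpers here

set_option autoImplicit false
open Cfsg

namespace Cfsg.Agent.S3202



/-- Let S be a finite 2-group of 2-rank exactly 2 and D a maximal subgroup of the centre of S such that S/D is a non-abelian group with exactly one involution (a generalized quaternion group). Then S has a nontrivial cyclic characteristic subgroup. -/
theorem result {S : Type*} [Group S]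
    [Finite S] (hS : IsPGroup 2 S) (hr2 : Cfsg.PRankLE 2 2 S) (hr1 : ¬ Cfsg.PRankLE 2 1 S)
    (D : Subgroup ↥(Subgroup.center S)) (hD : IsCoatom D)
    (hq : ∃ (_ : (D.map (Subgroup.center S).subtype).Normal),
      ¬ IsMulCommutative (S ⧸ D.map (Subgroup.center S).subtype) ∧
      ∃! x : S ⧸ D.map (Subgroup.center S).subtype, orderOf x = 2) :
    ∃ C : Subgroup S, C ≠ ⊥ ∧ IsCyclic ↥C ∧ C.Characteristic := by
  classical
  haveI : Fact (Nat.Prime 2) := ⟨Nat.prime_two⟩
  obtain ⟨hnorm, hnc, hu⟩ := hq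
  haveI := hnorm
  have hDc : ∀ d ∈ D.map (Subgroup.center S).subtype, ∀ s : S, d * s = s * d := by
    intro d hd s
    obtain ⟨z, hz, rfl⟩ := hd
    exact ((Subgroup.mem_center_iff.1 z.2) s).symm
  obtain ⟨k, hk, ⟨e⟩⟩ := Cfsg.Agent.Helper16.QuatExt.exists_quat
    (hS.to_quotient (D.map (Subgroup.center S).subtype)) hnc hu
  haveI : NeZero (2 ^ k) := ⟨by positivity⟩
  obtain ⟨A, B, d1, d2, d3, d4, d5⟩ := Cfsg.Agent.Helper16.QuatExt.quat_data e
  obtain ⟨α, rfl⟩ := QuotientGroup.mk_surjective A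
  obtain ⟨β, rfl⟩ := QuotientGroup.mk_surjective B
  have hle := Cfsg.Agent.Helper16.QuatExt.commutator_le_zpowers _ hDc α β d1 d4
  refine ⟨⁅(⊤ : Subgroup S), ⊤⁆, ?_, Subgroup.isCyclic_of_le hle, inferInstance⟩
  intro hbot
  apply hnc
  refine ⟨⟨fun a b => ?_⟩⟩
  obtain ⟨s, rfl⟩ := QuotientGroup.mk_surjective a
  obtain ⟨t, rfl⟩ := QuotientGroup.mk_surjective b
  have h1 : s * t * s⁻¹ * t⁻¹ ∈ (⁅(⊤ : Subgroup S), (⊤ : Subgroup S)⁆ : Subgroup S) := by
    rw [← commutatorElement_def]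
    exact Subgroup.commutator_mem_commutator (H₁ := (⊤ : Subgroup S)) (H₂ := (⊤ : Subgroup S))
      (Subgroup.mem_top s) (Subgroup.mem_top t)
  rw [hbot, Subgroup.mem_bot] at h1
  have h2 : s * t = t * s := by
    calc s * t = (s * t * s⁻¹ * t⁻¹) * (t * s) := by group
      _ = t * s := by rw [h1, one_mul]
  rw [← QuotientGroup.mk_mul, ← QuotientGroup.mk_mul, h2]

end Cfsg.Agent.S3202
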