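import Cfsg.Statements.S3210
import Mathlib
import Cfsg.Agent.S3196
import Cfsg.Agent.Helper12.SL2Card
import Cfsg.Agent.Helper12.SL2Gen
import Cfsg.Agent.Helper1.SL23Comm

set_option autoImplicit false

open Cfsg

namespace Cfsg.Agent.S3210

open Cfsg.Agent.Helper12

/-- Abstract properties of `SL₂(q)`, `q` odd, used in the argument. -/
structure Good (S : Type*) [Group S] : Prop where
  z : ∃ z : S, z ≠ 1 ∧ (∀ x, z * x = x * z) ∧ ∀ c : S, (∀ x, c * x = x * c) → c = 1 ∨ c = z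
  noC2 : ∀ K : Subgroup S, K.index = 2 → False
  comm : ∀ x y : S, (∀ g : S, (g * x * g⁻¹) * y = y * (g * x * g⁻¹)) →
    (∀ t, x * t = t * x) ∨ (∀ t, y * t = t * y)
  normal : (∀ M : Subgroup S, M.Normal → (∀ m ∈ M, ∀ x, m * x = x * m) ∨ M = ⊤) ∨ Nat.card S = 24
  card : 24 ≤ Nat.card S

/-- The same properties for a subgroup of an ambient group. -/
structure GoodSub {G : Type*} [Group G] (L : Subgroup G) : Prop where
  z : ∃ z ∈ L, z ≠ 1 ∧ (∀ x ∈ L, z * x = x * z) ∧
    ∀ c ∈ L, (∀ x ∈ L, c * x = x * c) → c = 1 ∨ c = z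
  noC2 : ∀ K : Subgroup G, K ≤ L → K.relIndex L = 2 → False
  comm : ∀ x ∈ L, ∀ y ∈ L, (∀ g ∈ L, (g * x * g⁻¹) * y = y * (g * x * g⁻¹)) →
    (∀ t ∈ L, x * t = t * x) ∨ (∀ t ∈ L, y * t = t * y)
  normal : (∀ M : Subgroup G, M ≤ L → (∀ g ∈ L, ∀ m ∈ M, g * m * g⁻¹ ∈ M) →
    (∀ m ∈ M, ∀ x ∈ L, m * x = x * m) ∨ M = L) ∨ Nat.card L = 24
  card : 24 ≤ Nat.card L

theorem GoodSub.of_hom {S : Type*} [Group S] {G : Type*} [Group G] (h : Good S) (f : S →* G)
    (hf : Function.Injective f) : GoodSub f.range := by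
  have hcard : Nat.card S = Nat.card f.range := Nat.card_congr (MonoidHom.ofInjective hf).toEquiv
  refine ⟨?_, ?_, ?_, ?_, ?_⟩
  · obtain ⟨z, hz1, hzc, hzu⟩ := h.z
    refine ⟨f z, ⟨z, rfl⟩, ?_, ?_, ?_⟩
    · exact fun h0 => hz1 (hf (h0.trans (map_one f).symm))
    · rintro _ ⟨x, rfl⟩
      rw [← map_mul, ← map_mul, hzc x]
    · rintro _ ⟨c, rfl⟩ hc
      rcases hzu c (fun x => hf (by rw [map_mul, map_mul]; exact hc (f x) ⟨x, rfl⟩)) with h1 | h1
      · left; rw [h1, map_one]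
      · right; rw [h1]
  · intro K _ hidx
    apply h.noC2 (K.comap f)
    rw [Subgroup.index_comap]
    exact hidx
  · rintro _ ⟨x, rfl⟩ _ ⟨y, rfl⟩ hxy
    rcases h.comm x y (fun g => hf (by
      simp only [map_mul, map_inv]; exact hxy (f g) ⟨g, rfl⟩)) with h1 | h1
    · left
      rintro _ ⟨t, rfl⟩
      rw [← map_mul, ← map_mul, h1 t]
    · right
      rintro _ ⟨t, rfl⟩
      rw [← map_mul, ← map_mul, h1 t]
  · rcases h.normal with h1 | h1
    · left
      intro M hM hMn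
      have hn : (M.comap f).Normal := ⟨fun m hm g => by
        show f (g * m * g⁻¹) ∈ M
        rw [map_mul, map_mul, map_inv]
        exact hMn (f g) ⟨g, rfl⟩ (f m) hm⟩
      rcases h1 (M.comap f) hn with h2 | h2
      · left
        rintro m hm _ ⟨x, rfl⟩
        obtain ⟨m', rfl⟩ := hM hm
        rw [← map_mul, ← map_mul, h2 m' hm x]
      · right
        apply le_antisymm hM
        rintro _ ⟨x, rfl⟩
        have hx : x ∈ M.comap f := by rw [h2]; trivial
        exact hx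
    · right
      rw [← hcard]; exact h1
  · rw [← hcard]; exact h.card

section SL2

variable {F : Type*} [Field F]

theorem two_ne_zero' [Fintype F] (hodd : Odd (Fintype.card F)) : (2 : F) ≠ 0 := by
  intro h
  obtain ⟨k, hk⟩ := hodd
  have h0 := Nat.cast_card_eq_zero F
  rw [hk] at h0
  push_cast at h0
  rw [h, zero_mul, zero_add] at h0
  exact one_ne_zero h0

theorem sl2_noC2 (h2 : (2 : F) ≠ 0) (K : Subgroup (Matrix.SpecialLinearGroup (Fin 2) F))
    (hK : K.index = 2) : False := by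
  haveI hKn : K.Normal := Subgroup.normal_of_index_eq_two hK
  have hU : ∀ y : F, sl2U y ∈ K := by
    intro y
    have h1 := Subgroup.mul_self_mem_of_index_two hK (sl2U (y / 2))
    rw [sl2U_mul] at h1
    have e : y / 2 + y / 2 = y := by rw [← add_div, ← two_mul, mul_div_cancel_left₀ y h2]
    rwa [e] at h1
  have hX : ((sl2mk 0 (-1) 1 0 (by ring) : Matrix.SpecialLinearGroup (Fin 2) F) :
      Matrix (Fin 2) (Fin 2) F) 1 0 ≠ 0 := by
    rw [sl2mk_val]; simp
  have h3 := sl2_generate _ hX K hU (fun y => hKn.conj_mem _ (hU y) _)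
  rw [h3, Subgroup.index_top] at hK
  omega

theorem sl2_card_ge [Fintype F] (hodd : Odd (Fintype.card F)) :
    24 ≤ Nat.card (Matrix.SpecialLinearGroup (Fin 2) F) := by
  rw [sl2_card]
  have h1 : 1 < Fintype.card F := Fintype.one_lt_card
  have h3 : 3 ≤ Fintype.card F := by
    obtain ⟨k, hk⟩ := hodd; omega
  have h9 : 3 ^ 2 ≤ Fintype.card F ^ 2 := Nat.pow_le_pow_left h3 2
  calc 24 = 3 * (3 ^ 2 - 1) := by norm_num
    _ ≤ Fintype.card F * (Fintype.card F ^ 2 - 1) := Nat.mul_le_mul h3 (Nat.sub_le_sub_right h9 1)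

theorem sl2_normal [Fintype F] (h2 : (2 : F) ≠ 0) (h4 : 4 ≤ Fintype.card F)
    (M : Subgroup (Matrix.SpecialLinearGroup (Fin 2) F)) (hM : M.Normal) :
    (∀ m ∈ M, ∀ x, m * x = x * m) ∨ M = ⊤ := by
  haveI hs : IsSimpleGroup (Matrix.ProjectiveSpecialLinearGroup (Fin 2) F) :=
    Matrix.ProjectiveSpecialLinearGroup.rank_two_simple (by rw [Nat.card_eq_fintype_card]; exact h4)
  have hπs : Function.Surjective (QuotientGroup.mk' (Subgroup.center
      (Matrix.SpecialLinearGroup (Fin 2) F))) := QuotientGroup.mk'_surjective _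
  haveI : (M.map (QuotientGroup.mk' (Subgroup.center
      (Matrix.SpecialLinearGroup (Fin 2) F)))).Normal := Subgroup.Normal.map hM _ hπs
  rcases Subgroup.Normal.eq_bot_or_eq_top (H := M.map (QuotientGroup.mk' (Subgroup.center
      (Matrix.SpecialLinearGroup (Fin 2) F)))) inferInstance with h | h
  · left
    intro m hm x
    have hk1 : QuotientGroup.mk' (Subgroup.center
        (Matrix.SpecialLinearGroup (Fin 2) F)) m ∈ M.map (QuotientGroup.mk' (Subgroup.center
        (Matrix.SpecialLinearGroup (Fin 2) F))) := Subgroup.mem_map_of_mem _ hm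
    rw [h, Subgroup.mem_bot, QuotientGroup.mk'_apply, QuotientGroup.eq_one_iff] at hk1
    exact (Subgroup.mem_center_iff.mp hk1 x).symm
  · right
    have hz : ∀ g : Matrix.SpecialLinearGroup (Fin 2) F, g ∈ M ∨ g * sl2NegOne ∈ M := by
      intro g
      have hs1 : QuotientGroup.mk' (Subgroup.center
        (Matrix.SpecialLinearGroup (Fin 2) F)) g ∈ M.map (QuotientGroup.mk' (Subgroup.center
        (Matrix.SpecialLinearGroup (Fin 2) F))) := by rw [h]; trivial
      obtain ⟨m, hm, hmg⟩ := hs1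
      rw [QuotientGroup.mk'_apply, QuotientGroup.mk'_apply, QuotientGroup.eq] at hmg
      rcases sl2_center_cases _ hmg with h4' | h4'
      · left
        have e : g = m := by rw [inv_mul_eq_one] at h4'; exact h4'.symm
        rw [e]; exact hm
      · right
        have e : g * sl2NegOne = m := by
          have e1 : g = m * sl2NegOne := by rw [← h4']; group
          rw [e1, mul_assoc, sl2NegOne_mul_self, mul_one]
        rw [e]; exact hm
    by_cases hzM : (sl2NegOne : Matrix.SpecialLinearGroup (Fin 2) F) ∈ M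
    · rw [Subgroup.eq_top_iff']
      intro g
      rcases hz g with h5 | h5
      · exact h5
      · have h6 := M.mul_mem h5 hzM
        rwa [mul_assoc, sl2NegOne_mul_self, mul_one] at h6
    · exfalso
      apply sl2_noC2 h2 M
      rw [Subgroup.index_eq_two_iff]
      refine ⟨sl2NegOne, fun b => ?_⟩
      rcases hz b with h5 | h5
      · right
        refine ⟨h5, fun h6 => hzM ?_⟩
        have h7 := M.mul_mem (M.inv_mem h5) h6
        rwa [inv_mul_cancel_left] at h7
      · left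
        refine ⟨h5, fun h6 => hzM ?_⟩
        have h7 := M.mul_mem (M.inv_mem h6) h5
        rwa [inv_mul_cancel_left] at h7

theorem good_sl2_aux [Fintype F] (hodd : Odd (Fintype.card F))
    (hcomm3 : Fintype.card F = 3 → ∀ x y : Matrix.SpecialLinearGroup (Fin 2) F,
      (∀ g : Matrix.SpecialLinearGroup (Fin 2) F, (g * x * g⁻¹) * y = y * (g * x * g⁻¹)) →
      (∀ t, x * t = t * x) ∨ (∀ t, y * t = t * y)) :
    Good (Matrix.SpecialLinearGroup (Fin 2) F) := by
  have h2 : (2 : F) ≠ 0 := two_ne_zero' hodd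
  have h1 : 1 < Fintype.card F := Fintype.one_lt_card
  have h3 : Fintype.card F = 3 ∨ 4 ≤ Fintype.card F := by
    obtain ⟨k, hk⟩ := hodd; omega
  refine ⟨?_, sl2_noC2 h2, ?_, ?_, sl2_card_ge hodd⟩
  · refine ⟨sl2NegOne, sl2NegOne_ne_one h2, ?_, ?_⟩
    · intro x
      exact (Subgroup.mem_center_iff.mp sl2NegOne_mem_center x).symm
    · intro c hc
      exact sl2_center_cases c (Subgroup.mem_center_iff.mpr (fun g => (hc g).symm))
  · rcases h3 with h3 | h3
    · exact hcomm3 h3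
    · intro x y hxy
      have hx : x ∈ (Subgroup.centralizer ({y} : Set (Matrix.SpecialLinearGroup (Fin 2) F))).normalCore := by
        intro g
        show g * x * g⁻¹ ∈ Subgroup.centralizer ({y} : Set (Matrix.SpecialLinearGroup (Fin 2) F))
        rw [Subgroup.mem_centralizer_singleton_iff]
        exact hxy g
      rcases sl2_normal h2 h3 _ (Subgroup.normalCore_normal _) with h5 | h5
      · left
        exact h5 x hx
      · right
        intro t
        have ht : t ∈ (Subgroup.centralizer ({y} : Set (Matrix.SpecialLinearGroup (Fin 2) F))).normalCore := by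
          rw [h5]; trivial
        have ht' := Subgroup.normalCore_le _ ht
        rw [Subgroup.mem_centralizer_singleton_iff] at ht'
        exact ht'.symm
  · rcases h3 with h3 | h3
    · right
      rw [sl2_card, h3]
      norm_num
    · left
      exact sl2_normal h2 h3

theorem comm_of_equiv {S T : Type*} [Group S] [Group T] (e : S ≃* T)
    (h : ∀ x y : S, (∀ g : S, (g * x * g⁻¹) * y = y * (g * x * g⁻¹)) →
      (∀ t, x * t = t * x) ∨ (∀ t, y * t = t * y)) :
    ∀ x y : T, (∀ g : T, (g * x * g⁻¹) * y = y * (g * x * g⁻¹)) →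
      (∀ t, x * t = t * x) ∨ (∀ t, y * t = t * y) := by
  intro x y hxy
  rcases h (e.symm x) (e.symm y) (fun g => e.injective (by
    simp only [map_mul, map_inv, MulEquiv.apply_symm_apply]; exact hxy (e g))) with h1 | h1
  · left
    intro t
    apply e.symm.injective
    rw [map_mul, map_mul]
    exact h1 (e.symm t)
  · right
    intro t
    apply e.symm.injective
    rw [map_mul, map_mul]
    exact h1 (e.symm t)

/-- `SL₂` of isomorphic rings. -/
noncomputable def slEquiv {R S : Type*} [CommRing R] [CommRing S] (e : R ≃+* S) :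
    Matrix.SpecialLinearGroup (Fin 2) R ≃* Matrix.SpecialLinearGroup (Fin 2) S where
  toFun := Matrix.SpecialLinearGroup.map e.toRingHom
  invFun := Matrix.SpecialLinearGroup.map e.symm.toRingHom
  left_inv := by
    intro g
    ext i j
    simp
  right_inv := by
    intro g
    ext i j
    simp
  map_mul' := by
    intro a b
    exact map_mul _ a b

theorem good_sl2 [Fintype F] (hodd : Odd (Fintype.card F)) :
    Good (Matrix.SpecialLinearGroup (Fin 2) F) := by
  apply good_sl2_aux hodd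
  intro h3
  exact comm_of_equiv (slEquiv (ZMod.ringEquivOfPrime F (by norm_num) h3))
    Cfsg.Agent.Helper1.SL23Comm.comm3

end SL2

section Grp

variable {G : Type*} [Group G]

theorem mem_zpowers_two {j : G} (hj : orderOf j = 2) (c : G) (hc : c ∈ Subgroup.zpowers j) :
    c = 1 ∨ c = j := by
  obtain ⟨k, rfl⟩ := hc
  show j ^ k = 1 ∨ j ^ k = j
  rw [← zpow_mod_orderOf, hj, Nat.cast_ofNat]
  rcases Int.emod_two_eq_zero_or_one k with h | h
  · left; rw [h]; simp
  · right; rw [h]; simp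

theorem stepA {L L' N : Subgroup G} (hc : ∀ x ∈ L, ∀ y ∈ L', x * y = y * x) (j : G)
    (hjj : j * j = 1) (hj1 : j ≠ 1) (hjL : j ∈ L) (Y : Subgroup G) (hL'Y : L' ≤ Y)
    (hjc : ∀ y ∈ Y, j * y = y * j)
    (hdec : ∀ y ∈ Y, ∃ a ∈ L, ∃ b ∈ L', y = a * b)
    (hcL' : ∀ c ∈ L', (∀ x ∈ L', c * x = x * c) → c = 1 ∨ c = j)
    (gN : GoodSub N) (hNY : N ≤ Y) (hNn : ∀ y ∈ Y, ∀ x ∈ N, y * x * y⁻¹ ∈ N)
    (hint : ∀ c, c ∈ N → c ∈ L' → c = 1 ∨ c = j) : N ≤ L := by
  have hcen : ∀ l ∈ L', ∀ x ∈ N, x * l = l * x := by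
    intro l hl
    by_contra hcon
    push_neg at hcon
    obtain ⟨a, haN, ha⟩ := hcon
    have hcx : ∀ x ∈ N, x * l * x⁻¹ * l⁻¹ = 1 ∨ x * l * x⁻¹ * l⁻¹ = j := by
      intro x hx
      apply hint
      · have h1 : l * x⁻¹ * l⁻¹ ∈ N := hNn l (hL'Y hl) x⁻¹ (inv_mem hx)
        have e : x * l * x⁻¹ * l⁻¹ = x * (l * x⁻¹ * l⁻¹) := by group
        rw [e]; exact mul_mem hx h1
      · obtain ⟨a, ha, b, hb, rfl⟩ := hdec x (hNY hx)
        have e : a * b * l * (a * b)⁻¹ * l⁻¹ = (b * l * b⁻¹) * l⁻¹ := by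
          have h1 := hc a ha (b * l * b⁻¹) (mul_mem (mul_mem hb hl) (inv_mem hb))
          calc a * b * l * (a * b)⁻¹ * l⁻¹ = a * (b * l * b⁻¹) * a⁻¹ * l⁻¹ := by group
            _ = (b * l * b⁻¹) * a * a⁻¹ * l⁻¹ := by rw [h1]
            _ = (b * l * b⁻¹) * l⁻¹ := by group
        rw [e]
        exact mul_mem (mul_mem (mul_mem hb hl) (inv_mem hb)) (inv_mem hl)
    have hcomm_iff : ∀ x : G, x * l * x⁻¹ * l⁻¹ = 1 ↔ x * l = l * x := by
      intro x
      constructor
      · intro h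
        have e : x * l = (x * l * x⁻¹ * l⁻¹) * (l * x) := by group
        rw [e, h, one_mul]
      · intro h
        rw [h]; group
    have hca : a * l * a⁻¹ * l⁻¹ = j := by
      rcases hcx a haN with h | h
      · exact absurd ((hcomm_iff a).mp h) ha
      · exact h
    have hcba : ∀ b ∈ N, (b * a) * l * (b * a)⁻¹ * l⁻¹ = j * (b * l * b⁻¹ * l⁻¹) := by
      intro b hb
      have h1 := hjc b (hNY hb)
      calc (b * a) * l * (b * a)⁻¹ * l⁻¹ = b * (a * l * a⁻¹ * l⁻¹) * l * b⁻¹ * l⁻¹ := by group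
        _ = b * j * l * b⁻¹ * l⁻¹ := by rw [hca]
        _ = (j * b) * l * b⁻¹ * l⁻¹ := by rw [h1]
        _ = j * (b * l * b⁻¹ * l⁻¹) := by group
    apply gN.noC2 (N ⊓ Subgroup.centralizer ({l} : Set G)) inf_le_left
    rw [Subgroup.relIndex, Subgroup.index_eq_two_iff]
    refine ⟨⟨a, haN⟩, fun b => ?_⟩
    have hmem : ∀ x : ↥N, x ∈ (N ⊓ Subgroup.centralizer ({l} : Set G)).subgroupOf N ↔
        (x : G) * l * (x : G)⁻¹ * l⁻¹ = 1 := by
      intro x
      rw [Subgroup.mem_subgroupOf, Subgroup.mem_inf, Subgroup.mem_centralizer_singleton_iff,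
        hcomm_iff]
      exact ⟨fun h => h.2, fun h => ⟨x.2, h⟩⟩
    rw [hmem, hmem]
    have h2 := hcba b b.2
    rcases hcx b b.2 with h | h
    · right
      refine ⟨h, ?_⟩
      show ¬ ((b : G) * a) * l * ((b : G) * a)⁻¹ * l⁻¹ = 1
      rw [h2, h, mul_one]
      exact hj1
    · left
      refine ⟨?_, ?_⟩
      · show ((b : G) * a) * l * ((b : G) * a)⁻¹ * l⁻¹ = 1
        rw [h2, h, hjj]
      · rw [h]; exact hj1
  intro x hx
  obtain ⟨a, ha, b, hb, rfl⟩ := hdec x (hNY hx)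
  have hb' : b = 1 ∨ b = j := by
    apply hcL' b hb
    intro l hl
    have h1 := hcen l hl _ hx
    have h2 := hc a ha l hl
    apply mul_left_cancel (a := a)
    calc a * (b * l) = a * b * l := by group
      _ = l * (a * b) := h1
      _ = (l * a) * b := by group
      _ = (a * l) * b := by rw [h2]
      _ = a * (l * b) := by group
  rcases hb' with h | h
  · rw [h, mul_one]; exact ha
  · rw [h]; exact mul_mem ha hjL

theorem key [Finite G] {L L' N : Subgroup G}
    (hc : ∀ x ∈ L, ∀ y ∈ L', x * y = y * x) (j : G) (hj : orderOf j = 2)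
    (hm : L ⊓ L' = Subgroup.zpowers j)
    (gL : GoodSub L) (gL' : GoodSub L') (gN : GoodSub N)
    (hNY : N ≤ L ⊔ L') (hNn : ∀ y ∈ L ⊔ L', ∀ x ∈ N, y * x * y⁻¹ ∈ N)
    (hcard : Nat.card N = Nat.card L) : N = L ∨ N = L' := by
  classical
  have hj1 : j ≠ 1 := by
    intro h; rw [h, orderOf_one] at hj; omega
  have hjj : j * j = 1 := by
    have h := pow_orderOf_eq_one j
    rw [hj, pow_two] at h; exact h
  have hjm : j ∈ L ⊓ L' := by rw [hm]; exact Subgroup.mem_zpowers j
  have hjL : j ∈ L := hjm.1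
  have hjL' : j ∈ L' := hjm.2
  have hc' : ∀ x ∈ L', ∀ y ∈ L, x * y = y * x := fun x hx y hy => (hc y hy x hx).symm
  have hdec : ∀ y ∈ L ⊔ L', ∃ a ∈ L, ∃ b ∈ L', y = a * b :=
    fun y hy => Cfsg.Agent.S3196.mem_sup_of_adj hc hy
  have hdec' : ∀ y ∈ L ⊔ L', ∃ a ∈ L', ∃ b ∈ L, y = a * b := by
    intro y hy
    obtain ⟨a, ha, b, hb, rfl⟩ := hdec y hy
    exact ⟨b, hb, a, ha, hc a ha b hb⟩
  have hjc : ∀ y ∈ L ⊔ L', j * y = y * j := by
    intro y hy
    obtain ⟨a, ha, b, hb, rfl⟩ := hdec y hy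
    have h1 := hc a ha j hjL'
    have h2 := hc j hjL b hb
    calc j * (a * b) = (j * a) * b := by group
      _ = (a * j) * b := by rw [h1]
      _ = a * (j * b) := by group
      _ = a * (b * j) := by rw [h2]
      _ = a * b * j := by group
  -- central elements of `L`
  have hcL : ∀ c ∈ L, (∀ x ∈ L, c * x = x * c) → c = 1 ∨ c = j := by
    obtain ⟨z, hzL, hz1, hzc, hzu⟩ := gL.z
    have hjz : j = z := by
      rcases hzu j hjL (fun x hx => (hc x hx j hjL').symm) with h | h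
      · exact absurd h hj1
      · exact h
    intro c hcL hcc
    rw [hjz]; exact hzu c hcL hcc
  have hcL' : ∀ c ∈ L', (∀ x ∈ L', c * x = x * c) → c = 1 ∨ c = j := by
    obtain ⟨z, hzL, hz1, hzc, hzu⟩ := gL'.z
    have hjz : j = z := by
      rcases hzu j hjL' (fun x hx => hc j hjL x hx) with h | h
      · exact absurd h hj1
      · exact h
    intro c hcL hcc
    rw [hjz]; exact hzu c hcL hcc
  -- central elements of `N`
  have hcN : ∀ c ∈ N, (∀ x ∈ N, c * x = x * c) → c = 1 ∨ c = j := by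
    obtain ⟨z, hzN, hz1, hzc, hzu⟩ := gN.z
    have hzY : ∀ y ∈ L ⊔ L', y * z * y⁻¹ = z := by
      intro y hy
      have h1 : y * z * y⁻¹ ∈ N := hNn y hy z hzN
      have h2 : ∀ x ∈ N, (y * z * y⁻¹) * x = x * (y * z * y⁻¹) := by
        intro x hx
        have h3 : y⁻¹ * x * y ∈ N := by
          have h := hNn y⁻¹ (inv_mem hy) x hx
          rwa [inv_inv] at h
        have h4 := hzc _ h3
        calc y * z * y⁻¹ * x = y * (z * (y⁻¹ * x * y)) * y⁻¹ := by group
          _ = y * ((y⁻¹ * x * y) * z) * y⁻¹ := by rw [h4]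
          _ = x * (y * z * y⁻¹) := by group
      rcases hzu _ h1 h2 with h | h
      · exfalso; apply hz1
        have e : z = y⁻¹ * (y * z * y⁻¹) * y := by group
        rw [e, h]; group
      · exact h
    obtain ⟨a, ha, b, hb, hab⟩ := hdec z (hNY hzN)
    have ha' : a = 1 ∨ a = j := by
      apply hcL a ha
      intro x hx
      have h1 := hzY x (Subgroup.mem_sup_left hx)
      rw [hab] at h1
      have h3 : x * a * x⁻¹ * b = a * b := by
        calc x * a * x⁻¹ * b = x * a * (x⁻¹ * b) := by group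
          _ = x * a * (b * x⁻¹) := by rw [hc x⁻¹ (inv_mem hx) b hb]
          _ = x * (a * b) * x⁻¹ := by group
          _ = a * b := h1
      have h4 : x * a * x⁻¹ = a := mul_right_cancel h3
      calc a * x = (x * a * x⁻¹) * x := by rw [h4]
        _ = x * a := by group
    have hb' : b = 1 ∨ b = j := by
      apply hcL' b hb
      intro x hx
      have h1 := hzY x (Subgroup.mem_sup_right hx)
      rw [hab] at h1
      have h3 : a * (x * b * x⁻¹) = a * b := by
        calc a * (x * b * x⁻¹) = (a * x) * b * x⁻¹ := by group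
          _ = (x * a) * b * x⁻¹ := by rw [hc a ha x hx]
          _ = x * (a * b) * x⁻¹ := by group
          _ = a * b := h1
      have h4 : x * b * x⁻¹ = b := mul_left_cancel h3
      calc b * x = (x * b * x⁻¹) * x := by rw [h4]
        _ = x * b := by group
    have hzj : z = j := by
      rcases ha' with h | h <;> rcases hb' with h' | h'
      · exfalso; apply hz1; rw [hab, h, h', mul_one]
      · rw [hab, h, h', one_mul]
      · rw [hab, h, h', mul_one]
      · exfalso; apply hz1; rw [hab, h, h', hjj]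
    intro c hcN hcc
    rw [← hzj]; exact hzu c hcN hcc
  by_cases h1 : ∀ c, c ∈ N → c ∈ L' → c = 1 ∨ c = j
  · left
    have hle : N ≤ L :=
      stepA hc j hjj hj1 hjL (L ⊔ L') le_sup_right hjc hdec hcL' gN hNY hNn h1
    exact Subgroup.eq_of_le_of_card_ge hle (le_of_eq hcard.symm)
  · by_cases h2 : ∀ c, c ∈ N → c ∈ L → c = 1 ∨ c = j
    · right
      have hle : N ≤ L' :=
        stepA hc' j hjj hj1 hjL' (L ⊔ L') le_sup_left hjc hdec' hcL gN hNY hNn h2
      rcases gL'.normal with h3 | h3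
      · rcases h3 N hle (fun g hg m hm => hNn g (Subgroup.mem_sup_right hg) m hm) with h4 | h4
        · exfalso; apply h1
          intro c hcN' hcL''
          exact hcL' c hcL'' (fun x hx => h4 c hcN' x hx)
        · exact h4
      · exact Subgroup.eq_of_le_of_card_ge hle (by rw [h3]; exact gN.card)
    · exfalso
      push_neg at h1 h2
      obtain ⟨x2, hx2N, hx2L', hx21, hx2j⟩ := h1
      obtain ⟨x1, hx1N, hx1L, hx11, hx1j⟩ := h2
      have hconj : ∀ g ∈ N, (g * x1 * g⁻¹) * x2 = x2 * (g * x1 * g⁻¹) := by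
        intro g hg
        obtain ⟨a, ha, b, hb, rfl⟩ := hdec g (hNY hg)
        have e : a * b * x1 * (a * b)⁻¹ = a * x1 * a⁻¹ := by
          have h := hc x1 hx1L b hb
          calc a * b * x1 * (a * b)⁻¹ = a * (b * x1) * b⁻¹ * a⁻¹ := by group
            _ = a * (x1 * b) * b⁻¹ * a⁻¹ := by rw [h]
            _ = a * x1 * a⁻¹ := by group
        rw [e]
        exact hc _ (mul_mem (mul_mem ha hx1L) (inv_mem ha)) x2 hx2L'
      rcases gN.comm x1 hx1N x2 hx2N hconj with h | h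
      · rcases hcN x1 hx1N h with h' | h'
        · exact hx11 h'
        · exact hx1j h'
      · rcases hcN x2 hx2N h with h' | h'
        · exact hx21 h'
        · exact hx2j h'

theorem card_inj (a b : ℕ) (ha : 2 ≤ a) (hb : 2 ≤ b)
    (h : a * (a ^ 2 - 1) = b * (b ^ 2 - 1)) : a = b := by
  have key : ∀ a b : ℕ, 2 ≤ a → a < b → a * (a ^ 2 - 1) < b * (b ^ 2 - 1) := by
    intro a b ha hab
    have h1 : a ^ 2 ≤ b ^ 2 := Nat.pow_le_pow_left hab.le 2
    have h2 : 2 ^ 2 ≤ b ^ 2 := Nat.pow_le_pow_left (ha.trans hab.le) 2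
    exact Nat.mul_lt_mul_of_lt_of_le hab (Nat.sub_le_sub_right h1 1) (by omega)
  rcases lt_trichotomy a b with h1 | h1 | h1
  · exact absurd h (key a b ha h1).ne
  · exact h1
  · exact absurd h.symm (key b a hb h1).ne

end Grp

/-- Let G be a finite group with subgroups L₁ ≅ SL₂(q₁) and L₂ ≅ SL₂(q₂), q₁ and q₂ odd prime powers, which commute elementwise and meet in ⟨j⟩ for an involution j, and suppose L₁L₂ has index 2 in C_G(j). Then every element n of C_G(j) outside L₁L₂ either normalizes both L₁ and L₂, or conjugates L₁ onto L₂; in the second case q₁ = q₂ and there is an element n′ of C_G(j) outside L₁L₂ conjugating L₁ onto L₂ with n′² ∈ ⟨j⟩. -/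
theorem result {G : Type*} [Group G] [Finite G]
    {F₁ : Type*} [Field F₁] [Fintype F₁] {F₂ : Type*} [Field F₂] [Fintype F₂]
    (hF₁ : Odd (Fintype.card F₁)) (hF₂ : Odd (Fintype.card F₂)) (L₁ L₂ : Subgroup G)
    (e₁ : ↥L₁ ≃* Matrix.SpecialLinearGroup (Fin 2) F₁) (e₂ : ↥L₂ ≃* Matrix.SpecialLinearGroup (Fin 2) F₂)
    (hc : ∀ x ∈ L₁, ∀ y ∈ L₂, x * y = y * x) (j : G) (hj : orderOf j = 2) (hm : L₁ ⊓ L₂ = Subgroup.zpowers j)
    (hle : L₁ ⊔ L₂ ≤ Subgroup.centralizer ({j} : Set G)) (hi : (L₁ ⊔ L₂).relIndex (Subgroup.centralizer ({j} : Set G)) = 2) (n : G) (hn : n ∈ Subgroup.centralizer ({j} : Set G)) (hn' : n ∉ L₁ ⊔ L₂) :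
    (L₁.map (MulAut.conj n).toMonoidHom = L₁ ∧ L₂.map (MulAut.conj n).toMonoidHom = L₂) ∨
      (L₁.map (MulAut.conj n).toMonoidHom = L₂ ∧ Fintype.card F₁ = Fintype.card F₂ ∧
        ∃ n' ∈ Subgroup.centralizer ({j} : Set G), n' ∉ L₁ ⊔ L₂ ∧ L₁.map (MulAut.conj n').toMonoidHom = L₂ ∧ n' ^ 2 ∈ Subgroup.zpowers j) := by
  classical
  have g1 : Good (Matrix.SpecialLinearGroup (Fin 2) F₁) := good_sl2 hF₁
  have g2 : Good (Matrix.SpecialLinearGroup (Fin 2) F₂) := good_sl2 hF₂
  have hc' : ∀ x ∈ L₂, ∀ y ∈ L₁, x * y = y * x := fun x hx y hy => (hc y hy x hx).symm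
  -- the embeddings
  have hf1i : Function.Injective (L₁.subtype.comp e₁.symm.toMonoidHom) :=
    L₁.subtype_injective.comp e₁.symm.injective
  have hf1r : (L₁.subtype.comp e₁.symm.toMonoidHom).range = L₁ := by
    ext y
    constructor
    · rintro ⟨x, rfl⟩
      exact (e₁.symm x).2
    · intro hy
      exact ⟨e₁ ⟨y, hy⟩, by simp⟩
  have hf2i : Function.Injective (L₂.subtype.comp e₂.symm.toMonoidHom) :=
    L₂.subtype_injective.comp e₂.symm.injective
  have hf2r : (L₂.subtype.comp e₂.symm.toMonoidHom).range = L₂ := by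
    ext y
    constructor
    · rintro ⟨x, rfl⟩
      exact (e₂.symm x).2
    · intro hy
      exact ⟨e₂ ⟨y, hy⟩, by simp⟩
  have gL1 : GoodSub L₁ := by
    have h := GoodSub.of_hom g1 _ hf1i
    rwa [hf1r] at h
  have gL2 : GoodSub L₂ := by
    have h := GoodSub.of_hom g2 _ hf2i
    rwa [hf2r] at h
  have hconj_inj : ∀ m : G, Function.Injective (MulAut.conj m).toMonoidHom :=
    fun m => (MulAut.conj m).injective
  have gN1 : GoodSub (L₁.map (MulAut.conj n).toMonoidHom) := by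
    have h := GoodSub.of_hom g1 ((MulAut.conj n).toMonoidHom.comp (L₁.subtype.comp e₁.symm.toMonoidHom))
      ((hconj_inj n).comp hf1i)
    rwa [← MonoidHom.map_range, hf1r] at h
  have gN2 : GoodSub (L₂.map (MulAut.conj n).toMonoidHom) := by
    have h := GoodSub.of_hom g2 ((MulAut.conj n).toMonoidHom.comp (L₂.subtype.comp e₂.symm.toMonoidHom))
      ((hconj_inj n).comp hf2i)
    rwa [← MonoidHom.map_range, hf2r] at h
  have hmap : ∀ (m : G) (L : Subgroup G) (y : G), y ∈ L.map (MulAut.conj m).toMonoidHom ↔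
      ∃ x ∈ L, m * x * m⁻¹ = y := by
    intro m L y
    rw [Subgroup.mem_map]
    rfl
  -- decomposition
  have hdec : ∀ y ∈ L₁ ⊔ L₂, ∃ a ∈ L₁, ∃ b ∈ L₂, y = a * b :=
    fun y hy => Cfsg.Agent.S3196.mem_sup_of_adj hc hy
  -- `Y` is normal in `C`
  have hYn : ((L₁ ⊔ L₂).subgroupOf (Subgroup.centralizer ({j} : Set G))).Normal :=
    Subgroup.normal_of_index_eq_two hi
  have hYconj : ∀ m ∈ Subgroup.centralizer ({j} : Set G), ∀ y ∈ L₁ ⊔ L₂, m * y * m⁻¹ ∈ L₁ ⊔ L₂ := by
    intro m hm y hy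
    have h := hYn.conj_mem ⟨y, hle hy⟩ (Subgroup.mem_subgroupOf.mpr hy) ⟨m, hm⟩
    exact Subgroup.mem_subgroupOf.mp h
  have hL1n : ∀ y ∈ L₁ ⊔ L₂, ∀ x ∈ L₁, y * x * y⁻¹ ∈ L₁ := by
    intro y hy x hx
    obtain ⟨a, ha, b, hb, rfl⟩ := hdec y hy
    have e : a * b * x * (a * b)⁻¹ = a * x * a⁻¹ := by
      have h := hc x hx b hb
      calc a * b * x * (a * b)⁻¹ = a * (b * x) * b⁻¹ * a⁻¹ := by group
        _ = a * (x * b) * b⁻¹ * a⁻¹ := by rw [h]
        _ = a * x * a⁻¹ := by group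
    rw [e]
    exact mul_mem (mul_mem ha hx) (inv_mem ha)
  have hL2n : ∀ y ∈ L₁ ⊔ L₂, ∀ x ∈ L₂, y * x * y⁻¹ ∈ L₂ := by
    intro y hy x hx
    obtain ⟨a, ha, b, hb, rfl⟩ := hdec y hy
    have e : a * b * x * (a * b)⁻¹ = b * x * b⁻¹ := by
      have h := hc a ha (b * x * b⁻¹) (mul_mem (mul_mem hb hx) (inv_mem hb))
      calc a * b * x * (a * b)⁻¹ = a * (b * x * b⁻¹) * a⁻¹ := by group
        _ = (b * x * b⁻¹) * a * a⁻¹ := by rw [h]
        _ = b * x * b⁻¹ := by group
    rw [e]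
    exact mul_mem (mul_mem hb hx) (inv_mem hb)
  -- conjugates of `L_i` under `n` lie in `Y` and are normalised by `Y`
  have hNY : ∀ L : Subgroup G, L ≤ L₁ ⊔ L₂ → L.map (MulAut.conj n).toMonoidHom ≤ L₁ ⊔ L₂ := by
    intro L hL y hy
    obtain ⟨x, hx, rfl⟩ := (hmap n L y).mp hy
    exact hYconj n hn x (hL hx)
  have hNn : ∀ L : Subgroup G, (∀ y ∈ L₁ ⊔ L₂, ∀ x ∈ L, y * x * y⁻¹ ∈ L) →
      ∀ y ∈ L₁ ⊔ L₂, ∀ x ∈ L.map (MulAut.conj n).toMonoidHom,
        y * x * y⁻¹ ∈ L.map (MulAut.conj n).toMonoidHom := by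
    intro L hL y hy w hw
    obtain ⟨x, hx, rfl⟩ := (hmap n L w).mp hw
    rw [hmap]
    have h1 : n⁻¹ * y * n ∈ L₁ ⊔ L₂ := by
      have h := hYconj n⁻¹ (inv_mem hn) y hy
      rwa [inv_inv] at h
    refine ⟨(n⁻¹ * y * n) * x * (n⁻¹ * y * n)⁻¹, hL _ h1 x hx, ?_⟩
    group
  have hk1 : L₁.map (MulAut.conj n).toMonoidHom = L₁ ∨ L₁.map (MulAut.conj n).toMonoidHom = L₂ :=
    key hc j hj hm gL1 gL2 gN1 (hNY L₁ le_sup_left) (hNn L₁ hL1n)
      (Subgroup.card_map_of_injective (hconj_inj n))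
  have hk2 : L₂.map (MulAut.conj n).toMonoidHom = L₂ ∨ L₂.map (MulAut.conj n).toMonoidHom = L₁ := by
    have hm' : L₂ ⊓ L₁ = Subgroup.zpowers j := by rw [inf_comm]; exact hm
    have hs : L₂ ⊔ L₁ = L₁ ⊔ L₂ := sup_comm _ _
    exact key hc' j hj hm' gL2 gL1 gN2 (by rw [hs]; exact hNY L₂ le_sup_right)
      (by rw [hs]; exact hNn L₂ hL2n) (Subgroup.card_map_of_injective (hconj_inj n))
  rcases hk1 with hk1 | hk1
  · left
    refine ⟨hk1, ?_⟩
    rcases hk2 with hk2 | hk2
    · exact hk2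
    · exfalso
      have h12 : L₁ = L₂ := by
        apply Subgroup.map_injective (hconj_inj n)
        rw [hk1, hk2]
      have h3 : L₁ = Subgroup.zpowers j := by
        rw [← hm, ← h12, inf_idem]
      have h4 := gL1.card
      rw [h3, Nat.card_zpowers, hj] at h4
      omega
  · right
    refine ⟨hk1, ?_, ?_⟩
    · have h1 : Nat.card L₂ = Nat.card L₁ := by
        rw [← hk1]; exact Subgroup.card_map_of_injective (hconj_inj n)
      rw [Nat.card_congr e₁.toEquiv, Nat.card_congr e₂.toEquiv, sl2_card, sl2_card] at h1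
      exact (card_inj _ _ Fintype.one_lt_card Fintype.one_lt_card h1).symm
    · -- the element `n'`
      have hnn : n * n ∈ L₁ ⊔ L₂ := by
        have h := Subgroup.mul_self_mem_of_index_two hi ⟨n, hn⟩
        exact Subgroup.mem_subgroupOf.mp h
      obtain ⟨a, ha, b, hb, hab⟩ := hdec _ hnn
      have hbinv : b⁻¹ ∈ L₁.map (MulAut.conj n).toMonoidHom := by
        rw [hk1]; exact inv_mem hb
      obtain ⟨x, hx, hxb⟩ := (hmap n L₁ _).mp hbinv
      have hconj_eq : ∀ l ∈ L₁, (n * b⁻¹) * l * (n * b⁻¹)⁻¹ = n * l * n⁻¹ := by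
        intro l hl
        have h := hc l hl b⁻¹ (inv_mem hb)
        calc (n * b⁻¹) * l * (n * b⁻¹)⁻¹ = n * (b⁻¹ * l) * b * n⁻¹ := by group
          _ = n * (l * b⁻¹) * b * n⁻¹ := by rw [h]
          _ = n * l * n⁻¹ := by group
      have hmap' : L₁.map (MulAut.conj (n * b⁻¹)).toMonoidHom = L₂ := by
        rw [← hk1]
        ext y
        rw [hmap, hmap]
        constructor
        · rintro ⟨l, hl, rfl⟩
          exact ⟨l, hl, (hconj_eq l hl).symm⟩
        · rintro ⟨l, hl, rfl⟩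
          exact ⟨l, hl, hconj_eq l hl⟩
      have hsq : (n * b⁻¹) ^ 2 = a * x := by
        have h1 : b⁻¹ * n = n * x := by
          rw [← hxb]; group
        have h2 := hc x hx b hb
        calc (n * b⁻¹) ^ 2 = n * (b⁻¹ * n) * b⁻¹ := by rw [pow_two]; group
          _ = (n * n) * x * b⁻¹ := by rw [h1]; group
          _ = a * (b * x) * b⁻¹ := by rw [hab]; group
          _ = a * (x * b) * b⁻¹ := by rw [h2]
          _ = a * x := by group
      have hsq1 : (n * b⁻¹) ^ 2 ∈ L₁ := by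
        rw [hsq]; exact mul_mem ha hx
      have hsq2 : (n * b⁻¹) ^ 2 ∈ L₂ := by
        rw [← hmap', hmap]
        refine ⟨(n * b⁻¹) ^ 2, hsq1, ?_⟩
        rw [pow_two]; group
      refine ⟨n * b⁻¹, mul_mem hn (hle (Subgroup.mem_sup_right (inv_mem hb))), ?_, hmap', ?_⟩
      · intro h
        apply hn'
        have h' := mul_mem h (Subgroup.mem_sup_right hb : b ∈ L₁ ⊔ L₂)
        rwa [inv_mul_cancel_right] at h'
      · rw [← hm]
        exact ⟨hsq1, hsq2⟩

end Cfsg.Agent.S3210
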