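import Mathlib
import Cfsg.Statements.S3247
import Cfsg.Agent.Helper7.PLayer
import Cfsg.Agent.Helper7.PComp
import Cfsg.Agent.S0629

set_option autoImplicit false
open Cfsg

namespace Cfsg.Agent.S3247

open Cfsg.Agent.Helper7

/-- Triviality of the `p`-layer is invariant under isomorphism. -/
theorem pLayer_eq_bot_of_mulEquiv {H K : Type*} [Group H] [Group K] [Finite H] (p : ℕ)
    [Fact p.Prime] (e : H ≃* K) (h : Cfsg.pLayer p H = ⊥) : Cfsg.pLayer p K = ⊥ := by
  haveI : Finite K := Finite.of_equiv H e.toEquiv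
  rw [pLayer_eq_bot_iff p] at h ⊢
  intro Kb hKb
  have hs1 : Function.Surjective
      ((QuotientGroup.mk' (Cfsg.pPrimeCore p K)).comp e.toMonoidHom) :=
    (QuotientGroup.mk'_surjective _).comp e.surjective
  have hker : ((QuotientGroup.mk' (Cfsg.pPrimeCore p K)).comp e.toMonoidHom).ker =
      (QuotientGroup.mk' (Cfsg.pPrimeCore p H)).ker := by
    rw [QuotientGroup.ker_mk']
    ext x
    rw [MonoidHom.mem_ker, MonoidHom.comp_apply, QuotientGroup.mk'_apply,
      QuotientGroup.eq_one_iff]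
    constructor
    · intro hx
      have h1 := pPrimeCore_map_le_of_mulEquiv p e.symm ⟨e.toMonoidHom x, hx, rfl⟩
      simpa using h1
    · intro hx
      exact pPrimeCore_map_le_of_mulEquiv p e ⟨x, hx, rfl⟩
  have hmc : (Kb.comap ((QuotientGroup.mk' (Cfsg.pPrimeCore p K)).comp e.toMonoidHom)).map
      ((QuotientGroup.mk' (Cfsg.pPrimeCore p K)).comp e.toMonoidHom) = Kb :=
    Subgroup.map_comap_eq_self_of_surjective hs1 Kb
  have hcomp := isComponent_map_of_ker_eq
    ((QuotientGroup.mk' (Cfsg.pPrimeCore p K)).comp e.toMonoidHom)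
    (QuotientGroup.mk' (Cfsg.pPrimeCore p H)) hs1 (QuotientGroup.mk'_surjective _) hker
    (K := Kb.comap ((QuotientGroup.mk' (Cfsg.pPrimeCore p K)).comp e.toMonoidHom))
    (by rw [hmc]; exact hKb)
  exact h _ hcomp

/-- Components centralize the `p`-core. -/
theorem component_le_centralizer_pCore {X : Type*} [Group X] [Finite X] (p : ℕ) [Fact p.Prime]
    {L : Subgroup X} (hL : Cfsg.IsComponent L) :
    L ≤ Subgroup.centralizer (Cfsg.pCore p X : Set X) := by
  have hpn : (Cfsg.pCore p X).Normal := Cfsg.Agent.Helper23.pCore_normal_fin p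
  have hps : Group.IsSolvable ↥(Cfsg.pCore p X) := by
    haveI := (Cfsg.Agent.Helper23.pCore_isPGroup p (G := X)).isNilpotent
    exact IsNilpotent.to_isSolvable
  have hcomm := layer_commute_solvable_normal (Cfsg.pCore p X) hps
  exact (le_layer hL).trans (Subgroup.commutator_eq_bot_iff_le_centralizer.mp hcomm)

/-- If `T` is a normal `p`-subgroup of `N`, `z ∈ T` and `C_N(z)` has trivial `p`-layer, then `N`
has trivial `p`-layer. -/
theorem pLayer_eq_bot_of_centralizer_elt {G : Type*} [Group G] [Finite G] (p : ℕ) [Fact p.Prime]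
    (N T : Subgroup G) (hT : IsPGroup p T) (hTN : T ≤ N)
    (hNT : N ≤ Subgroup.normalizer (T : Set G)) (z : G) (hzT : z ∈ T)
    (hD : Cfsg.pLayer p ↥(N ⊓ Subgroup.centralizer ({z} : Set G)) = ⊥) :
    Cfsg.pLayer p ↥N = ⊥ := by
  obtain ⟨D, hDdef⟩ : ∃ D : Subgroup G, D = N ⊓ Subgroup.centralizer ({z} : Set G) := ⟨_, rfl⟩
  rw [← hDdef] at hD
  have hDN : D ≤ N := by rw [hDdef]; exact inf_le_left
  rw [pLayer_eq_bot_iff p] at hD ⊢
  intro L hL
  have hOc : (Nat.card (Cfsg.pPrimeCore p ↥N)).Coprime p :=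
    Cfsg.Agent.Helper23.pPrimeCore_coprime p
  have hT'p : IsPGroup p ↥(T.subgroupOf N) := hT.comap_subtype
  have hT'n : (T.subgroupOf N).Normal :=
    (Subgroup.normal_subgroupOf_iff_le_normalizer hTN).mpr hNT
  have hTbar : (T.subgroupOf N).map (QuotientGroup.mk' (Cfsg.pPrimeCore p ↥N)) ≤
      Cfsg.pCore p (↥N ⧸ Cfsg.pPrimeCore p ↥N) :=
    Cfsg.Agent.Helper23.le_pCore (hT'n.map _ (QuotientGroup.mk'_surjective _)) (hT'p.map _)
  have hL1 : L ≤ Subgroup.centralizer
      (((T.subgroupOf N).map (QuotientGroup.mk' (Cfsg.pPrimeCore p ↥N)) :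
        Subgroup (↥N ⧸ Cfsg.pPrimeCore p ↥N)) : Set (↥N ⧸ Cfsg.pPrimeCore p ↥N)) :=
    (component_le_centralizer_pCore p hL).trans
      (Subgroup.centralizer_le (SetLike.coe_subset_coe.mpr hTbar))
  have hL2 := hL1.trans (Cfsg.Agent.S0629.centralizer_map_le p (Cfsg.pPrimeCore p ↥N) hOc
    (T.subgroupOf N) hT'p)
  let φ : ↥D →* ↥N ⧸ Cfsg.pPrimeCore p ↥N :=
    (QuotientGroup.mk' (Cfsg.pPrimeCore p ↥N)).comp (Subgroup.inclusion hDN)
  have hLR : L ≤ φ.range := by
    intro y hy
    obtain ⟨x, hx, rfl⟩ := hL2 hy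
    have hxz : (x : G) ∈ Subgroup.centralizer ({z} : Set G) := by
      rw [Subgroup.mem_centralizer_iff]
      intro w hw
      rw [Set.mem_singleton_iff] at hw
      rw [hw]
      have h1 := (Subgroup.mem_centralizer_iff.mp hx) ⟨z, hTN hzT⟩
        (Subgroup.mem_subgroupOf.mpr hzT)
      exact congrArg Subtype.val h1
    have hxD : (x : G) ∈ D := by rw [hDdef]; exact ⟨x.2, hxz⟩
    exact ⟨⟨(x : G), hxD⟩, rfl⟩
  have hL' : Cfsg.IsComponent (L.subgroupOf φ.range) := isComponent_subgroupOf hL hLR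
  have hφs : Function.Surjective φ.rangeRestrict := φ.rangeRestrict_surjective
  obtain ⟨Q, hQdef⟩ : ∃ Q : Subgroup ↥φ.range,
      Q = (Cfsg.pPrimeCore p ↥D).map φ.rangeRestrict := ⟨_, rfl⟩
  have hQn : Q.Normal := by
    rw [hQdef]
    exact Subgroup.Normal.map inferInstance _ hφs
  have hQc : (Nat.card ↥Q).Coprime p := by
    rw [hQdef]
    exact Nat.Coprime.coprime_dvd_left (Subgroup.card_map_dvd _ _)
      (Cfsg.Agent.Helper23.pPrimeCore_coprime p)
  rcases isComponent_map_or_bot (QuotientGroup.mk' Q) (QuotientGroup.mk'_surjective _) hL'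
    with hbot | hcomp
  · rw [Subgroup.map_eq_bot_iff, QuotientGroup.ker_mk'] at hbot
    have hcop : (Nat.card ↥L).Coprime p := by
      rw [← Nat.card_congr (Subgroup.subgroupOfEquivOfLe hLR).toEquiv]
      exact Nat.Coprime.coprime_dvd_left (Subgroup.card_dvd_of_le hbot) hQc
    have hLbot : L ≤ Cfsg.pPrimeCore p (↥N ⧸ Cfsg.pPrimeCore p ↥N) :=
      subnormal_pprime_le_pPrimeCore p hL.1 hcop
    rw [Cfsg.Agent.Helper23.pPrimeCore_quotient_pPrimeCore p] at hLbot
    exact IsComponent.ne_bot hL (le_bot_iff.mp hLbot)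
  · have hs1 : Function.Surjective ((QuotientGroup.mk' Q).comp φ.rangeRestrict) :=
      (QuotientGroup.mk'_surjective _).comp hφs
    have hkφ : φ.rangeRestrict.ker ≤ Cfsg.pPrimeCore p ↥D := by
      rw [MonoidHom.ker_rangeRestrict]
      have hk : φ.ker = (Cfsg.pPrimeCore p ↥N).comap (Subgroup.inclusion hDN) := by
        ext c
        rw [MonoidHom.mem_ker, Subgroup.mem_comap]
        show (QuotientGroup.mk' (Cfsg.pPrimeCore p ↥N)) (Subgroup.inclusion hDN c) = 1 ↔ _
        rw [QuotientGroup.mk'_apply, QuotientGroup.eq_one_iff]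
      rw [hk]
      apply Cfsg.Agent.Helper23.le_pPrimeCore (Subgroup.Normal.comap inferInstance _)
      exact Nat.Coprime.coprime_dvd_left
        (Subgroup.card_comap_dvd_of_injective _ _ (Subgroup.inclusion_injective hDN)) hOc
    have hker : ((QuotientGroup.mk' Q).comp φ.rangeRestrict).ker =
        (QuotientGroup.mk' (Cfsg.pPrimeCore p ↥D)).ker := by
      rw [QuotientGroup.ker_mk']
      ext x
      rw [MonoidHom.mem_ker, MonoidHom.comp_apply, QuotientGroup.mk'_apply,
        QuotientGroup.eq_one_iff, hQdef]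
      constructor
      · rintro ⟨o, ho, hox⟩
        have h1 : x * o⁻¹ ∈ φ.rangeRestrict.ker := by
          rw [MonoidHom.mem_ker, map_mul, map_inv, hox, mul_inv_cancel]
        have h2 := hkφ h1
        have h3 := Subgroup.mul_mem _ h2 ho
        rwa [inv_mul_cancel_right] at h3
      · intro hx
        exact Subgroup.mem_map_of_mem _ hx
    have hmc : (((L.subgroupOf φ.range).map (QuotientGroup.mk' Q)).comap
        ((QuotientGroup.mk' Q).comp φ.rangeRestrict)).map
        ((QuotientGroup.mk' Q).comp φ.rangeRestrict) =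
        (L.subgroupOf φ.range).map (QuotientGroup.mk' Q) :=
      Subgroup.map_comap_eq_self_of_surjective hs1 _
    have hc2 := isComponent_map_of_ker_eq ((QuotientGroup.mk' Q).comp φ.rangeRestrict)
      (QuotientGroup.mk' (Cfsg.pPrimeCore p ↥D)) hs1 (QuotientGroup.mk'_surjective _) hker
      (K := ((L.subgroupOf φ.range).map (QuotientGroup.mk' Q)).comap
        ((QuotientGroup.mk' Q).comp φ.rangeRestrict))
      (by rw [hmc]; exact hcomp)
    exact hD _ hc2

/-- Let G be a finite group and p a prime; here a p-local subgroup means the normalizer of a nontrivial p-subgroup, other than G itself. If every p-local subgroup of G that is maximal among p-local subgroups is p-constrained, or if the centralizer of every element of order p of G is p-constrained, then every p-local subgroup of G is p-constrained. -/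
theorem result {G : Type*} [Group G] [Finite G] (p : ℕ) [hp : Fact p.Prime]
    (h : (∀ M : Subgroup G, (∃ T : Subgroup G, IsPGroup p ↥T ∧ T ≠ ⊥ ∧ M = Subgroup.normalizer (T : Set G)) → M ≠ ⊤ →
        (∀ M' : Subgroup G, (∃ T' : Subgroup G, IsPGroup p ↥T' ∧ T' ≠ ⊥ ∧ M' = Subgroup.normalizer (T' : Set G)) → M' ≠ ⊤ → M ≤ M' → M = M') →
        Cfsg.IsPConstrained p ↥M) ∨
      (∀ x : G, orderOf x = p → Cfsg.IsPConstrained p ↥(Subgroup.centralizer ({x} : Set G))))
    (T : Subgroup G) (hT : IsPGroup p ↥T) (hT1 : T ≠ ⊥) (hTG : Subgroup.normalizer (T : Set G) ≠ ⊤) :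
    Cfsg.IsPConstrained p ↥(Subgroup.normalizer (T : Set G)) := by
  rw [isPConstrained_iff_pLayer_eq_bot p]
  rcases h with hA | hB
  · have hmem : Subgroup.normalizer (T : Set G) ∈ {M : Subgroup G |
        (∃ T' : Subgroup G, IsPGroup p ↥T' ∧ T' ≠ ⊥ ∧ M = Subgroup.normalizer (T' : Set G)) ∧
          M ≠ ⊤ ∧ Subgroup.normalizer (T : Set G) ≤ M} := ⟨⟨T, hT, hT1, rfl⟩, hTG, le_rfl⟩
    obtain ⟨M, hNM, hMmax⟩ := Set.Finite.exists_le_maximal (Set.toFinite _) hmem
    obtain ⟨hM1, hM2, hM3⟩ := hMmax.prop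
    have hMc := hA M hM1 hM2 (fun M' hM' hM'top hle =>
      le_antisymm hle (hMmax.le_of_ge ⟨hM', hM'top, hM3.trans hle⟩ hle))
    have hML := (isPConstrained_iff_pLayer_eq_bot p).mp hMc
    have hTM : T ≤ M := Subgroup.le_normalizer.trans hNM
    have h2 := (pLocal_of_pLayer_eq_bot p hML (T.subgroupOf M) hT.comap_subtype).1
    rw [← Subgroup.subgroupOf_normalizer_eq hTM] at h2
    exact pLayer_eq_bot_of_mulEquiv p (Subgroup.subgroupOfEquivOfLe hNM) h2
  · have hnt : Nontrivial T := (Subgroup.nontrivial_iff_ne_bot T).mpr hT1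
    have hcnt : Nontrivial (Subgroup.center T) := hT.center_nontrivial
    have hcp : IsPGroup p (Subgroup.center T) := hT.to_subgroup _
    have hdvd : p ∣ Nat.card (Subgroup.center T) := by
      rcases hcp.card_eq_or_dvd with h1 | h1
      · exact absurd (Nat.card_eq_one_iff_unique.mp h1).1 (not_subsingleton _)
      · exact h1
    obtain ⟨c, hc⟩ := exists_prime_orderOf_dvd_card' p hdvd
    have hz2 : orderOf (((c : T) : G)) = p := by
      rw [Subgroup.orderOf_coe, Subgroup.orderOf_coe]; exact hc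
    have hzT : ((c : T) : G) ∈ T := (c : T).2
    have hTH : T ≤ Subgroup.centralizer ({((c : T) : G)} : Set G) := by
      intro t ht
      rw [Subgroup.mem_centralizer_iff]
      intro w hw
      rw [Set.mem_singleton_iff] at hw
      rw [hw]
      have h1 := Subgroup.mem_center_iff.mp c.2 ⟨t, ht⟩
      exact (congrArg Subtype.val h1).symm
    generalize ((c : T) : G) = z at hz2 hzT hTH
    have hC := (isPConstrained_iff_pLayer_eq_bot p).mp (hB z hz2)
    have h2 := (pLocal_of_pLayer_eq_bot p hC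
      (T.subgroupOf (Subgroup.centralizer ({z} : Set G))) hT.comap_subtype).1
    rw [← Subgroup.subgroupOf_normalizer_eq hTH] at h2
    have h3 : Cfsg.pLayer p
        ↥(Subgroup.normalizer (T : Set G) ⊓ Subgroup.centralizer ({z} : Set G)) = ⊥ := by
      have e0 : ↥((Subgroup.normalizer (T : Set G) ⊓
          Subgroup.centralizer ({z} : Set G)).subgroupOf
          (Subgroup.centralizer ({z} : Set G))) ≃*
          ↥(Subgroup.normalizer (T : Set G) ⊓ Subgroup.centralizer ({z} : Set G)) :=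
        Subgroup.subgroupOfEquivOfLe inf_le_right
      rw [Subgroup.inf_subgroupOf_right] at e0
      exact pLayer_eq_bot_of_mulEquiv p e0 h2
    exact pLayer_eq_bot_of_centralizer_elt p _ T hT Subgroup.le_normalizer le_rfl z hzT h3

end Cfsg.Agent.S3247
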