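import Mathlib
import Cfsg.Statements.S3299
import Cfsg.Agent.Helper26.XSTransfer
import Cfsg.Agent.Helper26.Singular
import Cfsg.Agent.S2911
-- import your own Cfsg.Agent.* helpers here

set_option autoImplicit false
open Cfsg

namespace Cfsg.Agent.S3299

/-- Let G be a finite group with no nontrivial 2-group quotient (O^2(G) = G), z an involution of G with H = C_G(z), and suppose E = O_2(H) is extraspecial with C_G(E) ≤ E and of order 2^(2n+1) with n ≥ 2. Then E is contained in every normal subgroup of H of index 2. -/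
theorem result {G : Type*} [Group G] [Finite G] (hres : Cfsg.pResidual 2 G = ⊤) (z : G) (hz : orderOf z = 2)
    (E : Subgroup G) (hE : E = (Cfsg.pCore 2 ↥(Subgroup.centralizer ({z} : Set G))).map (Subgroup.centralizer ({z} : Set G)).subtype)
    (hext : Cfsg.IsExtraspecial 2 ↥E) (hcent : Subgroup.centralizer (E : Set G) ≤ E) (n : ℕ) (hn : 2 ≤ n) (hcard : Nat.card ↥E = 2 ^ (2 * n + 1))
    (K : Subgroup G) (hKH : K ≤ Subgroup.centralizer ({z} : Set G))
    (hKn : ∀ h ∈ Subgroup.centralizer ({z} : Set G), K.map (MulAut.conj h).toMonoidHom = K)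
    (hKi : K.relIndex (Subgroup.centralizer ({z} : Set G)) = 2) : E ≤ K := by
  classical
  by_contra hEK
  obtain ⟨Q, hQ⟩ : ∃ Q : G → Subgroup G, ∀ x : G, Q x = (Cfsg.pCore 2 ↥(Subgroup.centralizer ({x} : Set G))).map (Subgroup.centralizer ({x} : Set G)).subtype := ⟨_, fun _ => rfl⟩
  have hEQ : E = Q z := by rw [hQ z]; exact hE
  subst hEQ
  have d : Cfsg.Agent.Helper14.XS.Data (Q z) z := Cfsg.Agent.Helper26.Singular.data_Qz Q hQ z hz hext hcent
  have d' := d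
  obtain ⟨hzQ, hz1, hzz, hcen, hcomm, hsqr, hrad⟩ := d'
  have hQ2 : IsPGroup 2 (Q z) := hext.1.1
  have hCQ : ∀ c : G, (∀ b ∈ Q z, c * b = b * c) → c ∈ Q z := by
    intro c hc
    apply hcent
    rw [Subgroup.mem_centralizer_iff]
    intro b hb
    exact (hc b hb).symm
  have hNQ : ∀ c : G, c * z = z * c → ∀ b ∈ Q z, c * b * c⁻¹ ∈ Q z := by
    intro c hc b hb
    have h := Cfsg.Agent.Helper26.Singular.conj_mem_Q Q hQ c z hb
    have e : c * z * c⁻¹ = z := by rw [hc, mul_inv_cancel_right]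
    rw [e] at h
    exact h
  have h32 : 32 ≤ Nat.card (Q z) := by
    rw [hcard]
    calc 32 = 2 ^ 5 := by norm_num
      _ ≤ 2 ^ (2 * n + 1) := Nat.pow_le_pow_right (by norm_num) (by omega)
  have hQH : ∀ b ∈ Q z, b ∈ Subgroup.centralizer ({z} : Set G) := fun b hb => Cfsg.Agent.Helper26.LargeXS2.mem_cz.mpr (hcen b hb)
  have hmul : ∀ a b : G, a ∈ Subgroup.centralizer ({z} : Set G) → b ∈ Subgroup.centralizer ({z} : Set G) → (a * b ∈ K ↔ (a ∈ K ↔ b ∈ K)) := by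
    intro a b ha hb
    have hidx2 : (K.subgroupOf (Subgroup.centralizer ({z} : Set G))).index = 2 := hKi
    exact Subgroup.mul_mem_iff_of_index_two hidx2 (a := ⟨a, ha⟩) (b := ⟨b, hb⟩)
  have hsqK : ∀ a ∈ Subgroup.centralizer ({z} : Set G), a * a ∈ K := fun a ha => (hmul a a ha ha).mpr Iff.rfl
  have hcommK : ∀ a ∈ Subgroup.centralizer ({z} : Set G), ∀ b ∈ Subgroup.centralizer ({z} : Set G), a * b * a⁻¹ * b⁻¹ ∈ K := by
    intro a ha b hb
    have e : a * b * a⁻¹ * b⁻¹ = (a * a) * ((a⁻¹ * b) * (a⁻¹ * b)) * (b⁻¹ * b⁻¹) := by group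
    rw [e]
    exact K.mul_mem (K.mul_mem (hsqK a ha) (hsqK _ (Subgroup.mul_mem _ (Subgroup.inv_mem _ ha) hb))) (hsqK _ (Subgroup.inv_mem _ hb))
  have hidxK : ∀ a ∈ Subgroup.centralizer ({z} : Set G), ∀ b ∈ Subgroup.centralizer ({z} : Set G), a ∉ K → b ∉ K → a⁻¹ * b ∈ K := by
    intro a ha b hb haK hbK
    exact (hmul a⁻¹ b (Subgroup.inv_mem _ ha) hb).mpr ⟨fun h => absurd (inv_mem_iff.mp h) haK, fun h => absurd h hbK⟩
  have hKconj : ∀ h ∈ Subgroup.centralizer ({z} : Set G), ∀ k ∈ K, h * k * h⁻¹ ∈ K := by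
    intro h hh k hk
    have h1 : h * k * h⁻¹ ∈ K.map (MulAut.conj h).toMonoidHom := Subgroup.mem_map.mpr ⟨k, hk, rfl⟩
    rw [hKn h hh] at h1
    exact h1
  obtain ⟨e0, he0E, he0K⟩ : ∃ e0 ∈ Q z, e0 ∉ K := by
    by_contra h
    push Not at h
    exact hEK (fun x hx => h x hx)
  have hzK : z ∈ K := by
    obtain ⟨x, hxQ, hxL⟩ := Cfsg.Agent.Helper26.XSTransfer.exists_notMem_list (Q z) [1, z] (by show 2 < Nat.card (Q z); omega)
    have hx1 : x ≠ 1 := fun h => hxL (by simp [h])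
    have hxz : x ≠ z := fun h => hxL (by simp [h])
    obtain ⟨q, hqQ, hq⟩ := Cfsg.Agent.Helper26.LargeXS.exists_moving d hxQ hx1 hxz
    have e : q * x * q⁻¹ * x⁻¹ = z := by
      have h1 : q * x = z * x * q := hq.eq
      rw [h1]; group
    rw [← e]
    exact hcommK q (hQH q hqQ) x (hQH x hxQ)
  obtain ⟨u, huQ, huK, huu⟩ := Cfsg.Agent.Helper26.XSTransfer.exists_invol_notMem d K hzK he0E he0K (fun a ha b hb => hidxK a (hQH a ha) b (hQH b hb)) (by omega)
  have hu1 : u ≠ 1 := fun h => huK (h ▸ K.one_mem)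
  have huz : u ≠ z := fun h => huK (h ▸ hzK)
  obtain ⟨q, hqQ, hq⟩ := Cfsg.Agent.Helper26.LargeXS.exists_moving d huQ hu1 huz
  haveI : Fact (Nat.Prime 2) := ⟨Nat.prime_two⟩
  obtain ⟨S, hES⟩ := hQ2.exists_le_sylow
  have hSz : ∀ t ∈ (S : Subgroup G), t * z = z * t := Cfsg.Agent.Helper26.XSTransfer.sylow_cent d hCQ (S : Subgroup G) S.isPGroup' hES
  have hSH : ∀ t ∈ (S : Subgroup G), t ∈ Subgroup.centralizer ({z} : Set G) := fun t ht => Cfsg.Agent.Helper26.LargeXS2.mem_cz.mpr (hSz t ht)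
  have hidxT : (K ⊓ (S : Subgroup G)).relIndex (S : Subgroup G) = 2 := by
    rw [Subgroup.inf_relIndex_right, Subgroup.relIndex_eq_two_iff]
    refine ⟨e0, hES he0E, fun b hb => ?_⟩
    have hm := hmul b e0 (hSH b hb) (hQH e0 he0E)
    by_cases hbK : b ∈ K
    · exact Or.inr ⟨hbK, fun h => he0K ((hm.mp h).mp hbK)⟩
    · exact Or.inl ⟨hm.mpr ⟨fun h => absurd h hbK, fun h => absurd h he0K⟩, hbK⟩
  have hx : ∃ x : G, (∀ c ∈ (S : Subgroup G), c * u = u * c → x⁻¹ * c * x ∈ (S : Subgroup G)) ∧ x⁻¹ * u * x ∈ K ⊓ (S : Subgroup G) := by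
    by_contra hcon
    push Not at hcon
    obtain ⟨N, hN2, -⟩ := Cfsg.Agent.S2911.thompson_ext S (K ⊓ (S : Subgroup G)) inf_le_right hidxT u huu hcon
    exact Cfsg.Agent.Helper26.XSTransfer.no_index_two hres N hN2
  obtain ⟨x, hxS, hxw⟩ := hx
  have hwK : x⁻¹ * u * x ∈ K := (Subgroup.mem_inf.mp hxw).1
  have hR : ∀ r ∈ Q z, SemiconjBy r u u → (x * z * x⁻¹) * r = r * (x * z * x⁻¹) := by
    intro r hr hru
    have h1 : x⁻¹ * r * x ∈ (S : Subgroup G) := hxS r (hES hr) hru.eq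
    have h2 : (x⁻¹ * r * x) * z = z * (x⁻¹ * r * x) := hSz _ h1
    calc (x * z * x⁻¹) * r = x * (z * (x⁻¹ * r * x)) * x⁻¹ := by group
      _ = x * ((x⁻¹ * r * x) * z) * x⁻¹ := by rw [h2]
      _ = r * (x * z * x⁻¹) := by group
  have hzu : SemiconjBy z u u := (hcen u huQ).symm
  have hcz : (x * z * x⁻¹) * z = z * (x * z * x⁻¹) := hR z hzQ hzu
  have h4 := Cfsg.Agent.Helper26.LargeXS.four_of_cent d huQ huu hqQ hq hCQ hNQ hcz hR
  have hu' : x * z * x⁻¹ ∈ Q z ∧ x * z * x⁻¹ ∉ K := by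
    rcases h4 with h | h | h | h
    · exfalso; apply hz1
      have e : z = x⁻¹ * (x * z * x⁻¹) * x := by group
      rw [e, h]; group
    · exfalso; apply huK
      have hxH : x ∈ Subgroup.centralizer ({z} : Set G) := by
        apply Cfsg.Agent.Helper26.LargeXS2.mem_cz.mpr
        calc x * z = (x * z * x⁻¹) * x := by group
          _ = z * x := by rw [h]
      have h1 := hKconj x hxH _ hwK
      have e : x * (x⁻¹ * u * x) * x⁻¹ = u := by group
      rw [e] at h1; exact h1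
    · rw [h]; exact ⟨huQ, huK⟩
    · rw [h]
      refine ⟨(Q z).mul_mem hzQ huQ, fun hk => huK ?_⟩
      have h1 := K.mul_mem (K.inv_mem hzK) hk
      rwa [inv_mul_cancel_left] at h1
  obtain ⟨hu'Q, hu'K⟩ := hu'
  have hz'' : x⁻¹ * z * x ∈ Q z := Cfsg.Agent.Helper26.LargeXS.key d hQ2 hCQ hNQ x hu'Q
  obtain ⟨y, hydef⟩ : ∃ y : G, y = x⁻¹ * z * x := ⟨_, rfl⟩
  rw [← hydef] at hz''
  have hxyx : x * y * x⁻¹ = z := by rw [hydef]; group
  have hy1 : y ≠ 1 := by
    intro h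
    apply hz1
    rw [← hxyx, h]; group
  have hyz : y ≠ z := by
    intro h
    apply hu'K
    have h1 : x⁻¹ * z * x = z := by rw [← hydef, h]
    have h2 : z * x = x * z := by
      calc z * x = x * (x⁻¹ * z * x) := by group
        _ = x * z := by rw [h1]
    have e : x * z * x⁻¹ = z := by rw [← h2, mul_inv_cancel_right]
    rw [e]; exact hzK
  obtain ⟨q1, hq1Q, hq1⟩ := Cfsg.Agent.Helper26.LargeXS.exists_moving d hz'' hy1 hyz
  have hq1M : q1 ∉ Cfsg.Agent.Helper26.LargeXS.cen y := by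
    intro h
    have h1 : q1 * y = y * q1 := Cfsg.Agent.Helper26.LargeXS.mem_cen.mp h
    have h2 : q1 * y = z * y * q1 := hq1.eq
    apply hz1
    have h3 : z * (y * q1) = 1 * (y * q1) := by rw [one_mul, ← mul_assoc, ← h2, h1]
    exact mul_right_cancel h3
  have hzM : z ∈ Cfsg.Agent.Helper26.LargeXS.cen y := Cfsg.Agent.Helper26.LargeXS.mem_cen.mpr (hcen y hz'').symm
  have hidxM : ∀ a ∈ Q z, ∀ b ∈ Q z, a ∉ Cfsg.Agent.Helper26.LargeXS.cen y → b ∉ Cfsg.Agent.Helper26.LargeXS.cen y → a⁻¹ * b ∈ Cfsg.Agent.Helper26.LargeXS.cen y := by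
    intro a ha b hb haM hbM
    have h1 : a * y = z * y * a := by
      rcases Cfsg.Agent.Helper26.LargeXS.sb_of_comm d ha hz'' with h | h
      · exact (haM (Cfsg.Agent.Helper26.LargeXS.mem_cen.mpr h.eq)).elim
      · exact h.eq
    have h2 : b * y = z * y * b := by
      rcases Cfsg.Agent.Helper26.LargeXS.sb_of_comm d hb hz'' with h | h
      · exact (hbM (Cfsg.Agent.Helper26.LargeXS.mem_cen.mpr h.eq)).elim
      · exact h.eq
    apply Cfsg.Agent.Helper26.LargeXS.mem_cen.mpr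
    calc a⁻¹ * b * y = a⁻¹ * (b * y) := by group
      _ = a⁻¹ * (z * y * b) := by rw [h2]
      _ = a⁻¹ * (z * y * a) * (a⁻¹ * b) := by group
      _ = a⁻¹ * (a * y) * (a⁻¹ * b) := by rw [h1]
      _ = y * (a⁻¹ * b) := by group
  have hex : ∃ p ∈ Q z, ∃ r ∈ Q z, p * y = y * p ∧ r * y = y * r ∧ p * r ≠ r * p := by
    by_contra hcon
    push Not at hcon
    have h8 := Cfsg.Agent.Helper26.XSTransfer.card_le_eight d (Cfsg.Agent.Helper26.LargeXS.cen y) hzM hq1Q hq1M hidxM (fun a ha b hb haM hbM => hcon a ha b hb (Cfsg.Agent.Helper26.LargeXS.mem_cen.mp haM) (Cfsg.Agent.Helper26.LargeXS.mem_cen.mp hbM))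
    omega
  obtain ⟨p, hpQ, r, hrQ, hpy, hry, hpr⟩ := hex
  have hprz : p * r * p⁻¹ * r⁻¹ = z := by
    rcases hcomm p hpQ r hrQ with h | h
    · exact absurd ((Cfsg.Agent.Helper14.XS.comm_eq_one_iff p r).mp h) hpr
    · exact h
  have hconjH : ∀ a : G, a * y = y * a → x * a * x⁻¹ ∈ Subgroup.centralizer ({z} : Set G) := by
    intro a ha
    apply Cfsg.Agent.Helper26.LargeXS2.mem_cz.mpr
    rw [← hxyx]
    calc x * a * x⁻¹ * (x * y * x⁻¹) = x * (a * y) * x⁻¹ := by group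
      _ = x * (y * a) * x⁻¹ := by rw [ha]
      _ = x * y * x⁻¹ * (x * a * x⁻¹) := by group
  apply hu'K
  have h5 := hcommK _ (hconjH p hpy) _ (hconjH r hry)
  have e : x * p * x⁻¹ * (x * r * x⁻¹) * (x * p * x⁻¹)⁻¹ * (x * r * x⁻¹)⁻¹ = x * (p * r * p⁻¹ * r⁻¹) * x⁻¹ := by group
  rw [e, hprz] at h5
  exact h5

end Cfsg.Agent.S3299
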