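import Mathlib
import Cfsg.Statements.S3309
import Cfsg.Agent.S3225
import Cfsg.Agent.Helper16.Sylow2
-- import your own Cfsg.Agent.* helpers here

set_option autoImplicit false
open Cfsg

namespace Cfsg.Agent.S3309

open Cfsg.Agent.Helper16
open scoped Pointwise

/-- The model group `Z₂ × D₈`. -/
abbrev P := Multiplicative (ZMod 2) × DihedralGroup 4

def zP : P := (Multiplicative.ofAdd 1, 1)
def aP : P := (1, DihedralGroup.r 1)
def tP : P := (1, DihedralGroup.r 2)

def rot : DihedralGroup 4 → Bool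
  | DihedralGroup.r _ => true
  | DihedralGroup.sr _ => false

/-- membership in the two dihedral maximal subgroups `⟨a, b⟩` (`c = false`), `⟨a, zb⟩`. -/
def inM (c : Bool) (p : P) : Bool :=
  if c then (decide (p.1 = 1) == rot p.2) else decide (p.1 = 1)

/-- noncentral involution -/
def nc (p : P) : Bool := decide (p * p = 1 ∧ ∃ q : P, p * q ≠ q * p)

theorem L_mul : ∀ (c : Bool) (a b : P), inM c a = true → inM c b = true →
    inM c (a * b) = true := by decide +kernel
theorem L_one : ∀ c : Bool, inM c 1 = true := by decide +kernel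
theorem L_inv : ∀ (c : Bool) (a : P), inM c a = true → inM c a⁻¹ = true := by decide +kernel
theorem L_idx : ∀ (c : Bool) (b : P),
    (inM c (b * zP) = true ∧ ¬ inM c b = true) ∨ (inM c b = true ∧ ¬ inM c (b * zP) = true) := by
  decide +kernel
theorem L_M2 : ∀ (c : Bool) (p : P), inM c p = true → p * p = 1 →
    p = 1 ∨ p = tP ∨ nc p = true := by decide +kernel
theorem L_M3 : ∀ (c : Bool) (p₁ p₂ q : P), inM c p₁ = true → inM c p₂ = true → inM c q = true →
    nc p₁ = true → nc p₂ = true → nc q = true →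
    (p₂ = p₁ ∨ p₂ = p₁ * tP ∨ q = p₁ ∨ q = p₁ * tP ∨ q = p₂ ∨ q = p₂ * tP) := by decide +kernel
theorem L_S1 : ∀ q : P, nc q = true → aP * q * aP⁻¹ = q * tP := by decide +kernel
theorem L_S2 : ∀ q : P, nc q = true → inM false q = true ∨ inM true q = true := by
  decide +kernel
theorem L_S3 : ∀ q : P, q * q = 1 → q = 1 ∨ q = zP ∨ q = tP ∨ q = zP * tP ∨ nc q = true := by
  decide +kernel
theorem L_zc : ∀ q : P, zP * q = q * zP := by decide +kernel
theorem L_tc : ∀ q : P, tP * q = q * tP := by decide +kernel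
theorem L_cen : ∀ p : P, (∀ q : P, p * q = q * p) → p = 1 ∨ p = zP ∨ p = tP ∨ p = zP * tP := by
  decide +kernel
theorem L_sq : ∀ p : P, p * p = 1 ∨ p * p = tP := by decide +kernel
theorem L_aa : aP * aP = tP := by decide +kernel
theorem L_misc : tP ≠ 1 ∧ zP ≠ 1 ∧ zP ≠ tP ∧ zP * tP ≠ 1 ∧ zP * zP = 1 ∧ tP * tP = 1 ∧
    (zP * tP) * (zP * tP) = 1 := by decide +kernel
theorem L_card : Nat.card P = 16 := by
  rw [Nat.card_eq_fintype_card]; decide +kernel

def MP (c : Bool) : Subgroup P where
  carrier := {p | inM c p = true}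
  mul_mem' := fun {a b} ha hb => L_mul c a b ha hb
  one_mem' := L_one c
  inv_mem' := fun {a} ha => L_inv c a ha

theorem MP_index (c : Bool) : (MP c).index = 2 := by
  rw [Subgroup.index_eq_two_iff]
  exact ⟨zP, fun b => L_idx c b⟩

theorem main {G : Type*} [Group G] [Finite G] (S : Sylow 2 G) (f : P →* G)
    (hinj : Function.Injective f) (hrange : f.range = (S : Subgroup G))
    (hG : ∀ H : Subgroup G, H.index ≠ 2) : False := by
  have hprime : Fact (Nat.Prime 2) := ⟨Nat.prime_two⟩
  have hfS : ∀ p, f p ∈ (S : Subgroup G) := fun p => hrange ▸ ⟨p, rfl⟩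
  have hSf : ∀ x ∈ (S : Subgroup G), ∃ p, f p = x := by
    intro x hx
    rw [← hrange] at hx
    exact hx
  obtain ⟨ht1, hz1, hzt, hzt1, hzz, htt, hztzt⟩ := L_misc
  have ft1 : f tP ≠ 1 := (map_ne_one_iff f hinj).mpr ht1
  have fz1 : f zP ≠ 1 := (map_ne_one_iff f hinj).mpr hz1
  have fzt : f zP ≠ f tP := fun h => hzt (hinj h)
  have fzc : ∀ s ∈ (S : Subgroup G), f zP * s = s * f zP := by
    intro s hs
    obtain ⟨q, rfl⟩ := hSf s hs
    rw [← map_mul, ← map_mul, L_zc]
  have ftc : ∀ s ∈ (S : Subgroup G), f tP * s = s * f tP := by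
    intro s hs
    obtain ⟨q, rfl⟩ := hSf s hs
    rw [← map_mul, ← map_mul, L_tc]
  have ftt : f tP * f tP = 1 := by rw [← map_mul, htt, map_one]
  -- the normalizer of S fixes t
  have N1 : ∀ h ∈ Subgroup.normalizer ((S : Subgroup G) : Set G), h * f tP * h⁻¹ = f tP := by
    intro h hh
    obtain ⟨q, hq⟩ := hSf _ ((Subgroup.mem_normalizer_iff.mp hh _).mp (hfS aP))
    have e : h * f tP * h⁻¹ = f (q * q) := by
      rw [map_mul, hq, ← L_aa, map_mul]; group
    rcases L_sq q with h1 | h1
    · exfalso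
      rw [h1, map_one] at e
      apply ft1
      have : f tP = h⁻¹ * (h * f tP * h⁻¹) * h := by group
      rw [this, e]; group
    · rw [e, h1]
  have N1' : ∀ h ∈ Subgroup.normalizer ((S : Subgroup G) : Set G),
      h * f zP * h⁻¹ = f zP ∨ h * f zP * h⁻¹ = f zP * f tP := by
    intro h hh
    obtain ⟨q, hq⟩ := hSf _ ((Subgroup.mem_normalizer_iff.mp hh _).mp (hfS zP))
    have hqc : ∀ q' : P, q * q' = q' * q := by
      intro q'
      apply hinj
      rw [map_mul, map_mul, hq]
      have h1 : h⁻¹ * f q' * h ∈ (S : Subgroup G) := by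
        have := (Subgroup.mem_normalizer_iff.mp (Subgroup.inv_mem _ hh) (f q')).mp (hfS q')
        rwa [inv_inv] at this
      have h2 := fzc _ h1
      calc h * f zP * h⁻¹ * f q' = h * (f zP * (h⁻¹ * f q' * h)) * h⁻¹ := by group
        _ = h * ((h⁻¹ * f q' * h) * f zP) * h⁻¹ := by rw [h2]
        _ = f q' * (h * f zP * h⁻¹) := by group
    rcases L_cen q hqc with h1 | h1 | h1 | h1
    · exfalso
      rw [h1, map_one] at hq
      apply fz1
      have : f zP = h⁻¹ * (h * f zP * h⁻¹) * h := by group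
      rw [this, ← hq]; group
    · left; rw [← hq, h1]
    · exfalso
      rw [h1, ← N1 h hh] at hq
      apply fzt
      have : f zP = h⁻¹ * (h * f zP * h⁻¹) * h := by group
      rw [this, ← hq]; group
    · right; rw [← hq, h1, map_mul]
  have N2 : ∀ h ∈ Subgroup.normalizer ((S : Subgroup G) : Set G), h * f zP * h⁻¹ = f zP := by
    intro h hh
    have hSK : (S : Subgroup G) ≤ Subgroup.centralizer ({f zP} : Set G) := by
      intro s hs
      rw [mem_centralizer_singleton_iff]
      exact fzc s hs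
    have h2 : h * h ∈ Subgroup.centralizer ({f zP} : Set G) := by
      rw [mem_centralizer_singleton_iff]
      apply comm_of_conj_eq
      rcases N1' h hh with h1 | h1
      · calc (h * h) * f zP * (h * h)⁻¹ = h * (h * f zP * h⁻¹) * h⁻¹ := by group
          _ = f zP := by rw [h1, h1]
      · calc (h * h) * f zP * (h * h)⁻¹ = h * (h * f zP * h⁻¹) * h⁻¹ := by group
          _ = h * (f zP * f tP) * h⁻¹ := by rw [h1]
          _ = (h * f zP * h⁻¹) * (h * f tP * h⁻¹) := by group
          _ = f zP * f tP * f tP := by rw [h1, N1 h hh]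
          _ = f zP := by rw [mul_assoc, ftt, mul_one]
    have h3 := mem_of_mul_self_mem_of_mem_normalizer_sylow S hSK hh h2
    exact conj_eq_of_comm ((mem_centralizer_singleton_iff _ _).mp h3)
  have hzC : f zP ∈ Subgroup.centralizer ((S : Subgroup G) : Set G) := by
    rw [Subgroup.mem_centralizer_iff]
    intro s hs
    exact (fzc s hs).symm
  have htC : f tP ∈ Subgroup.centralizer ((S : Subgroup G) : Set G) := by
    rw [Subgroup.mem_centralizer_iff]
    intro s hs
    exact (ftc s hs).symm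
  have hztC : f zP * f tP ∈ Subgroup.centralizer ((S : Subgroup G) : Set G) :=
    Subgroup.mul_mem _ hzC htC
  have B1 : ¬ IsConj (f zP) (f tP) := by
    intro h
    obtain ⟨g, hg⟩ := isConj_iff.mp h
    have h1 := burnside_fusion_fixed S (f zP) hzC N2 g⁻¹ (by rw [inv_inv, hg]; exact htC)
    rw [inv_inv, hg] at h1
    exact fzt h1.symm
  have B2 : ¬ IsConj (f zP) (f zP * f tP) := by
    intro h
    obtain ⟨g, hg⟩ := isConj_iff.mp h
    have h1 := burnside_fusion_fixed S (f zP) hzC N2 g⁻¹ (by rw [inv_inv, hg]; exact hztC)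
    rw [inv_inv, hg] at h1
    exact ft1 (mul_left_cancel (h1.trans (mul_one _).symm))
  have B3 : ¬ IsConj (f zP * f tP) (f tP) := by
    intro h
    obtain ⟨g, hg⟩ := isConj_iff.mp h
    have e : g⁻¹ * f tP * g = f zP * f tP := by
      have h0 : g⁻¹ * (g * (f zP * f tP) * g⁻¹) * g = f zP * f tP := by group
      rw [hg] at h0; exact h0
    have h1 := burnside_fusion_fixed S (f tP) htC N1 g (by rw [e]; exact hztC)
    rw [e] at h1
    exact fz1 (mul_right_cancel (h1.trans (one_mul _).symm))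
  -- Thompson transfer
  have hcardS : Nat.card ↥(S : Subgroup G) = 16 := by
    rw [← hrange, ← L_card]
    exact Nat.card_congr (MonoidHom.ofInjective hinj).symm.toEquiv
  have hev : Even (Nat.card G) := by
    have := Subgroup.card_subgroup_dvd_card (S : Subgroup G)
    rw [hcardS] at this
    exact even_iff_two_dvd.mpr (Dvd.dvd.trans (by norm_num) this)
  have hMS : ∀ c : Bool, (MP c).map f ≤ (S : Subgroup G) := by
    rintro c _ ⟨p, -, rfl⟩; exact hfS p
  have hMidx : ∀ c : Bool, ((MP c).map f).relIndex (S : Subgroup G) = 2 := by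
    intro c
    rw [← hrange, MonoidHom.range_eq_map, Subgroup.relIndex_map_map_of_injective _ _ hinj,
      Subgroup.relIndex_top_right, MP_index]
  have Th : ∀ (c : Bool) (x : G), x ∈ (S : Subgroup G) → orderOf x = 2 →
      ∃ g : G, ∃ p : P, inM c p = true ∧ g * x * g⁻¹ = f p := by
    intro c x hx hx2
    obtain ⟨g, hg⟩ := Cfsg.Agent.S3225.result hev hG S ((MP c).map f) (hMS c) (hMidx c) 1 le_rfl
      (by
        intro y hy hyM
        have hy1 : y ≠ 1 := by rintro rfl; exact hyM (Subgroup.one_mem _)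
        have h0 : 0 < orderOf y := orderOf_pos y
        have h1 : orderOf y ≠ 1 := fun h => hy1 (orderOf_eq_one_iff.mp h)
        simp only [Nat.sub_self, pow_zero]
        omega) x hx (by rw [hx2, pow_one])
    obtain ⟨p, hp, hpg⟩ := hg
    exact ⟨g, p, hp, hpg.symm⟩
  have T1 : ∀ (c : Bool) (x : G), x ∈ (S : Subgroup G) → orderOf x = 2 → ¬ IsConj x (f tP) →
      ∃ p : P, inM c p = true ∧ nc p = true ∧ IsConj x (f p) := by
    intro c x hx hx2 hxt
    obtain ⟨g, p, hp, hg⟩ := Th c x hx hx2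
    have hxx : x * x = 1 := by rw [← pow_two, ← hx2, pow_orderOf_eq_one]
    have hx1 : x ≠ 1 := by rintro rfl; rw [orderOf_one] at hx2; omega
    have hpp : p * p = 1 := by
      apply hinj
      rw [map_mul, ← hg, map_one]
      calc g * x * g⁻¹ * (g * x * g⁻¹) = g * (x * x) * g⁻¹ := by group
        _ = 1 := by rw [hxx]; group
    have hconj : IsConj x (f p) := isConj_iff.mpr ⟨g, hg⟩
    rcases L_M2 c p hp hpp with h1 | h1 | h1
    · exfalso
      rw [h1, map_one] at hg
      apply hx1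
      have : x = g⁻¹ * (g * x * g⁻¹) * g := by group
      rw [this, hg]; group
    · exfalso; rw [h1] at hconj; exact hxt hconj
    · exact ⟨p, hp, h1, hconj⟩
  have hS1 : ∀ p : P, nc p = true → IsConj (f p) (f (p * tP)) := by
    intro p hp
    rw [isConj_iff]
    exact ⟨f aP, by rw [← L_S1 p hp, map_mul, map_mul, map_inv]⟩
  have hz2 : orderOf (f zP) = 2 :=
    orderOf_eq_prime (by rw [pow_two, ← map_mul, hzz, map_one]) fz1
  have hzt2 : orderOf (f zP * f tP) = 2 :=
    orderOf_eq_prime (by rw [pow_two, ← map_mul, ← map_mul, hztzt, map_one])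
      (by rw [← map_mul]; exact (map_ne_one_iff f hinj).mpr hzt1)
  -- t is isolated in S
  have hC : ∀ q : P, q * q = 1 → q ≠ 1 → q ≠ tP → ¬ IsConj (f tP) (f q) := by
    intro q hqq hq1 hqt hconj
    rcases L_S3 q hqq with h1 | h1 | h1 | h1 | h1
    · exact hq1 h1
    · rw [h1] at hconj; exact B1 hconj.symm
    · exact hqt h1
    · rw [h1, map_mul] at hconj; exact B3 hconj.symm
    · have hc : ∃ c : Bool, inM c q = true := by
        rcases L_S2 q h1 with h2 | h2
        · exact ⟨false, h2⟩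
        · exact ⟨true, h2⟩
      obtain ⟨c, hcq⟩ := hc
      obtain ⟨p₁, hp₁, hn₁, hc₁⟩ := T1 c (f zP) (hfS zP) hz2 B1
      obtain ⟨p₂, hp₂, hn₂, hc₂⟩ := T1 c (f zP * f tP)
        (Subgroup.mul_mem _ (hfS zP) (hfS tP)) hzt2 B3
      rcases L_M3 c p₁ p₂ q hp₁ hp₂ hcq hn₁ hn₂ h1 with h | h | h | h | h | h
      · rw [h] at hc₂
        exact B2 (hc₁.trans hc₂.symm)
      · rw [h] at hc₂
        exact B2 ((hc₁.trans (hS1 p₁ hn₁)).trans hc₂.symm)
      · rw [h] at hconj
        exact B1 (hc₁.trans hconj.symm)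
      · rw [h] at hconj
        exact B1 ((hc₁.trans (hS1 p₁ hn₁)).trans hconj.symm)
      · rw [h] at hconj
        exact B3 (hc₂.trans hconj.symm)
      · rw [h] at hconj
        exact B3 ((hc₂.trans (hS1 p₂ hn₂)).trans hconj.symm)
  -- a noncentral involution u = f p conjugate to z
  obtain ⟨p, hp, hnp, hcp⟩ := T1 false (f zP) (hfS zP) hz2 B1
  obtain ⟨g, hg⟩ := isConj_iff.mp hcp
  have hTC : ((g • S : Sylow 2 G) : Subgroup G) ≤ Subgroup.centralizer ({f p} : Set G) := by
    intro x hx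
    rw [mem_sylow_smul_iff] at hx
    rw [mem_centralizer_singleton_iff]
    have h1 := fzc _ hx
    rw [← hg]
    calc g * f zP * g⁻¹ * x = g * (f zP * (g⁻¹ * x * g)) * g⁻¹ := by group
      _ = g * ((g⁻¹ * x * g) * f zP) * g⁻¹ := by rw [h1]
      _ = x * (g * f zP * g⁻¹) := by group
  have htC' : f tP ∈ Subgroup.centralizer ({f p} : Set G) := by
    rw [mem_centralizer_singleton_iff]
    exact (ftc _ (hfS p)).symm
  have hQ : IsPGroup 2 ↥(Subgroup.zpowers (f tP)) :=
    S.2.to_le (Subgroup.zpowers_le.mpr (hfS tP))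
  obtain ⟨c, hc⟩ := exists_conj_le_sylow ((g • S : Sylow 2 G).subtype hTC)
    (hQ.comap_subtype (K := Subgroup.centralizer ({f p} : Set G)))
  have h1 := hc ⟨f tP, htC'⟩ (Subgroup.mem_zpowers (f tP))
  have h2 : (c : G) * f tP * (c : G)⁻¹ ∈ ((g • S : Sylow 2 G) : Subgroup G) := by
    rw [Sylow.coe_subtype, Subgroup.mem_subgroupOf] at h1
    simpa using h1
  rw [mem_sylow_smul_iff] at h2
  obtain ⟨q, hq⟩ := hSf _ h2
  have hk : (g⁻¹ * (c : G)) * f tP * (g⁻¹ * (c : G))⁻¹ = f q := by rw [hq]; group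
  have hqq : q * q = 1 := by
    apply hinj
    rw [map_mul, ← hk, map_one]
    calc (g⁻¹ * (c : G)) * f tP * (g⁻¹ * (c : G))⁻¹ * ((g⁻¹ * (c : G)) * f tP * (g⁻¹ * (c : G))⁻¹)
        = (g⁻¹ * (c : G)) * (f tP * f tP) * (g⁻¹ * (c : G))⁻¹ := by group
      _ = 1 := by rw [ftt]; group
  have hq1 : q ≠ 1 := by
    rintro rfl
    rw [map_one] at hk
    apply ft1
    have : f tP = (g⁻¹ * (c : G))⁻¹ * ((g⁻¹ * (c : G)) * f tP * (g⁻¹ * (c : G))⁻¹) *
        (g⁻¹ * (c : G)) := by group
    rw [this, hk]; group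
  have hqt : q = tP := by
    by_contra hne
    exact hC q hqq hq1 hne (isConj_iff.mpr ⟨_, hk⟩)
  rw [hqt] at hk
  have hcu : (c : G) * f p * (c : G)⁻¹ = f p :=
    conj_eq_of_comm ((mem_centralizer_singleton_iff _ _).mp c.2)
  have hku : (g⁻¹ * (c : G)) * f p * (g⁻¹ * (c : G))⁻¹ = f zP := by
    calc (g⁻¹ * (c : G)) * f p * (g⁻¹ * (c : G))⁻¹
        = g⁻¹ * ((c : G) * f p * (c : G)⁻¹) * g := by group
      _ = g⁻¹ * f p * g := by rw [hcu]
      _ = f zP := by rw [← hg]; group
  apply B2
  have h3 : IsConj (f (p * tP)) (f zP * f tP) := by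
    rw [isConj_iff]
    refine ⟨g⁻¹ * (c : G), ?_⟩
    rw [map_mul]
    calc (g⁻¹ * (c : G)) * (f p * f tP) * (g⁻¹ * (c : G))⁻¹
        = ((g⁻¹ * (c : G)) * f p * (g⁻¹ * (c : G))⁻¹) *
          ((g⁻¹ * (c : G)) * f tP * (g⁻¹ * (c : G))⁻¹) := by group
      _ = f zP * f tP := by rw [hku, hk]
  exact (hcp.trans (hS1 p hnp)).trans h3

/-- A finite group whose Sylow 2-subgroups are isomorphic to the direct product of a group of order 2 and the dihedral group of order 8 is not a non-abelian simple group. -/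
theorem result {G : Type*} [Group G] [Finite G] (S : Sylow 2 G) (hS : Nonempty (↥(S : Subgroup G) ≃* Multiplicative (ZMod 2) × DihedralGroup 4))
    [IsSimpleGroup G] (hG : ¬ IsMulCommutative G) : False := by
  obtain ⟨e⟩ := hS
  have hinj : Function.Injective ((S : Subgroup G).subtype.comp e.symm.toMonoidHom) :=
    (Subgroup.subtype_injective _).comp e.symm.injective
  have hrange : ((S : Subgroup G).subtype.comp e.symm.toMonoidHom).range = (S : Subgroup G) := by
    ext x
    constructor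
    · rintro ⟨p, rfl⟩; exact (e.symm p).2
    · intro hx; exact ⟨e ⟨x, hx⟩, by simp⟩
  have hcardS : Nat.card ↥(S : Subgroup G) = 16 := by rw [Nat.card_congr e.toEquiv, L_card]
  have hG2 : ∀ H : Subgroup G, H.index ≠ 2 := by
    intro H hH
    have hn : H.Normal := Subgroup.normal_of_index_eq_two hH
    rcases hn.eq_bot_or_eq_top with h | h
    · rw [h, Subgroup.index_bot] at hH
      have := Subgroup.card_le_card_group (S : Subgroup G)
      rw [hcardS, hH] at this
      omega
    · rw [h, Subgroup.index_top] at hH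
      omega
  exact main S _ hinj hrange hG2

end Cfsg.Agent.S3309
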