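import Cfsg.Statements.S3370
import Cfsg.Agent.Helper12.VecTrans9

set_option autoImplicit false
open Cfsg

namespace Cfsg.Agent.S3370

/-- Let q be a prime, V a non-trivial finite vector space over the field with q elements, and G a non-trivial finite p-group (p prime) acting faithfully and linearly on V and transitively on the non-zero vectors. Then either q = 2 and G has prime order p = |V| − 1; or p = 2, V has q elements with q = 2^m + 1 and G is cyclic of order 2^m; or p = 2, q = 3, V has 9 elements and G is cyclic of order 8, quaternion of order 8, or semidihedral of order 16. -/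
theorem result (q : ℕ) [Fact q.Prime] {V : Type*} [AddCommGroup V] [Module (ZMod q) V] [Finite V] [Nontrivial V]
    {G : Type*} [Group G] [Finite G] [Nontrivial G] (p : ℕ) [Fact p.Prime] (hG : IsPGroup p G)
    (ρ : G →* (V ≃ₗ[ZMod q] V)) (hρ : Function.Injective ρ)
    (htrans : ∀ v w : V, v ≠ 0 → w ≠ 0 → ∃ g : G, ρ g v = w) :
    (q = 2 ∧ p = Nat.card V - 1 ∧ Nat.card G = p) ∨
    (p = 2 ∧ Nat.card V = q ∧ (∃ m : ℕ, q = 2 ^ m + 1 ∧ Nat.card G = 2 ^ m) ∧ IsCyclic G) ∨
    (p = 2 ∧ q = 3 ∧ Nat.card V = 9 ∧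
      ((IsCyclic G ∧ Nat.card G = 8) ∨ Nonempty (G ≃* QuaternionGroup 2) ∨ (Cfsg.IsQuasiDihedral G ∧ Nat.card G = 16))) := by
  have hq : q.Prime := Fact.out
  have hp : p.Prime := Fact.out
  obtain ⟨v₀, hv₀⟩ := exists_ne (0 : V)
  have hcard := Cfsg.Agent.Helper12.VT.card_eq ρ htrans v₀ hv₀
  obtain ⟨k, hk⟩ := IsPGroup.iff_card.mp hG
  have hdvd : Nat.card V - 1 ∣ p ^ k :=
    ⟨Nat.card (Cfsg.Agent.Helper12.VT.stab ρ v₀), by rw [← hk, ← hcard, mul_comm]⟩
  obtain ⟨a, -, ha⟩ := (Nat.dvd_prime_pow hp).mp hdvd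
  have hVcard : Nat.card V = q ^ Module.finrank (ZMod q) V := by
    rw [Module.natCard_eq_pow_finrank (K := ZMod q), Nat.card_zmod]
  obtain ⟨d, hd_def⟩ : ∃ d, d = Module.finrank (ZMod q) V := ⟨_, rfl⟩
  rw [← hd_def] at hVcard
  have hV1 : 1 < Nat.card V := Finite.one_lt_card
  have hd : 1 ≤ d := by
    by_contra hcon
    have hd0 : d = 0 := by omega
    rw [hd0, pow_zero] at hVcard
    omega
  have ha1 : 1 ≤ a := by
    by_contra hcon
    have ha0 : a = 0 := by omega
    rw [ha0, pow_zero] at ha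
    have hV2 : Nat.card V = 2 := by omega
    obtain ⟨g, hg⟩ := exists_ne (1 : G)
    apply hg
    apply Cfsg.Agent.Helper12.VT.act_eq_one ρ hρ g
    intro v
    by_cases hv : v = 0
    · rw [hv, map_zero]
    · by_contra hne
      have hgv : ρ g v ≠ 0 := Cfsg.Agent.Helper12.VT.act_ne_zero ρ g hv
      haveI : Fintype V := Fintype.ofFinite V
      have h3 : 2 < Fintype.card V :=
        Fintype.two_lt_card_iff.mpr ⟨0, v, ρ g v, fun h => hv h.symm, fun h => hgv h.symm,
          fun h => hne h.symm⟩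
      rw [← Nat.card_eq_fintype_card] at h3
      omega
  have hmain : q ^ d = p ^ a + 1 := by omega
  rcases Cfsg.Agent.Helper12.VT.nt_main q p d a hq hp hd ha1 hmain with
    ⟨hq2, ha1'⟩ | ⟨hp2, hd1⟩ | ⟨hp2, hq3, hd2⟩
  · left
    have hVp : Nat.card V = p + 1 := by
      rw [ha1', pow_one] at ha
      omega
    exact ⟨hq2, by omega, Cfsg.Agent.Helper12.VT.caseA ρ p hG hρ htrans hVp⟩
  · right; left
    subst hp2
    have hVq : Nat.card V = q := by rw [hVcard, hd1, pow_one]
    obtain ⟨hc, hcyc⟩ := Cfsg.Agent.Helper12.VT.caseB ρ hρ htrans hVq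
    exact ⟨rfl, hVq, ⟨a, by omega, by omega⟩, hcyc⟩
  · right; right
    subst hp2
    subst hq3
    have hV9 : Nat.card V = 9 := by rw [hVcard, hd2]; norm_num
    exact ⟨rfl, rfl, hV9, Cfsg.Agent.Helper12.VT.caseC ρ hV9 hG hρ htrans⟩

end Cfsg.Agent.S3370
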