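import Cfsg.Statements.S3374
import Mathlib
import Cfsg.Agent.Helper1.SL25

set_option autoImplicit false
open Cfsg

namespace Cfsg.Agent.S3374
open Cfsg.Agent.Helper12 Cfsg.Agent.Helper23.QP Cfsg.Agent.Helper1.SL25

/-- an element of `SL₂` fixing a nonzero vector has trace 2 -/
theorem trace_of_fixed {F : Type*} [Field F] (c : Matrix.SpecialLinearGroup (Fin 2) F)
    (v : Fin 2 → F) (hv : v ≠ 0) (hcv : (c : Matrix (Fin 2) (Fin 2) F).mulVec v = v) :
    trS c = 2 := by
  obtain ⟨p, q, r, s, hg, hdet⟩ := sl2_eta c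
  have e1 := congrFun hcv 0
  have e2 := congrFun hcv 1
  simp [hg, Matrix.mulVec, dotProduct, Fin.sum_univ_two] at e1 e2
  have k0 : ((p - 1) * (s - 1) - q * r) * v 0 = 0 := by linear_combination (s - 1) * e1 - q * e2
  have k1 : ((p - 1) * (s - 1) - q * r) * v 1 = 0 := by linear_combination (p - 1) * e2 - r * e1
  have key : (p - 1) * (s - 1) - q * r = 0 := by
    by_contra hne
    apply hv
    ext i
    fin_cases i
    · exact (mul_eq_zero.mp k0).resolve_left hne
    · exact (mul_eq_zero.mp k1).resolve_left hne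
  unfold trS
  rw [hg, Matrix.trace_fin_two_of]
  linear_combination hdet - key

theorem free11 (j : Matrix.SpecialLinearGroup (Fin 2) (ZMod 5) →*
    Matrix.SpecialLinearGroup (Fin 2) (ZMod 11)) (hj : Function.Injective j)
    (a : Matrix.SpecialLinearGroup (Fin 2) (ZMod 5)) (v : Fin 2 → ZMod 11) (hv : v ≠ 0)
    (hav : (j a : Matrix (Fin 2) (Fin 2) (ZMod 11)).mulVec v = v) : a = 1 := by
  have htr := trace_of_fixed (j a) v hv hav
  have h11 : (j a) ^ 11 = 1 := unip_pow_char two_ne_zero_11 11 (j a) htr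
  have ha11 : a ^ 11 = 1 := by
    apply hj
    rw [map_pow, h11, map_one]
  have hfin : Finite (Matrix.SpecialLinearGroup (Fin 2) (ZMod 5)) :=
    Nat.finite_of_card_ne_zero (by rw [card_sl25]; norm_num)
  have h1 : orderOf a ∣ 11 := orderOf_dvd_of_pow_eq_one ha11
  have h2 : orderOf a ∣ 120 := by
    have := orderOf_dvd_natCard a
    rwa [card_sl25] at this
  have h3 : orderOf a ∣ Nat.gcd 11 120 := Nat.dvd_gcd h1 h2
  have h4 : orderOf a = 1 := by
    have : Nat.gcd 11 120 = 1 := by norm_num
    rw [this] at h3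
    exact Nat.dvd_one.mp h3
  exact orderOf_eq_one_iff.mp h4

/-- SL(2,5) occurs as a Frobenius complement: there is a finite group L with a subgroup H isomorphic to SL(2,5) which is a non-trivial proper subgroup meeting each conjugate gHg⁻¹ with g outside H trivially. -/
theorem result :
    ∃ (L : Type) (_ : Group L) (_ : Finite L) (H : Subgroup L),
      Cfsg.IsFrobeniusComplement H ∧ Nonempty (H ≃* Matrix.SpecialLinearGroup (Fin 2) (ZMod 5)) := by
  obtain ⟨j, hj⟩ := exists_emb
  have hfin5 : Finite (Matrix.SpecialLinearGroup (Fin 2) (ZMod 5)) :=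
    Nat.finite_of_card_ne_zero (by rw [card_sl25]; norm_num)
  obtain ⟨φ, hφ⟩ : ∃ φ : Matrix.SpecialLinearGroup (Fin 2) (ZMod 5) →*
      MulAut (Multiplicative (Fin 2 → ZMod 11)),
      ∀ g v, φ g v = Multiplicative.ofAdd
        ((j g : Matrix (Fin 2) (Fin 2) (ZMod 11)).mulVec (Multiplicative.toAdd v)) :=
    ⟨((MulAutMultiplicative (Fin 2 → ZMod 11)).symm.toMonoidHom.comp
      (DistribMulAction.toAddAut (Matrix.SpecialLinearGroup (Fin 2) (ZMod 11))
        (Fin 2 → ZMod 11))).comp j, fun g v => rfl⟩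
  refine ⟨Multiplicative (Fin 2 → ZMod 11) ⋊[φ] Matrix.SpecialLinearGroup (Fin 2) (ZMod 5),
    inferInstance, Finite.of_equiv _ SemidirectProduct.equivProd.symm,
    (SemidirectProduct.inr : Matrix.SpecialLinearGroup (Fin 2) (ZMod 5) →* _).range, ?_,
    ⟨(MonoidHom.ofInjective SemidirectProduct.inr_injective).symm⟩⟩
  refine ⟨?_, ?_, ?_⟩
  · intro h
    have h1 : (SemidirectProduct.inr x5 : Multiplicative (Fin 2 → ZMod 11) ⋊[φ]
        Matrix.SpecialLinearGroup (Fin 2) (ZMod 5)) ∈
        (SemidirectProduct.inr : Matrix.SpecialLinearGroup (Fin 2) (ZMod 5) →* _).range :=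
      ⟨x5, rfl⟩
    rw [h, Subgroup.mem_bot] at h1
    have h2 : x5 = 1 := SemidirectProduct.inr_injective (by rw [h1, map_one])
    have h3 := congrArg (fun g : Matrix.SpecialLinearGroup (Fin 2) (ZMod 5) => g.1 1 0) h2
    simp [x5] at h3
  · intro h
    have h1 : (SemidirectProduct.inl (Multiplicative.ofAdd ![1, 0]) :
        Multiplicative (Fin 2 → ZMod 11) ⋊[φ] Matrix.SpecialLinearGroup (Fin 2) (ZMod 5)) ∈
        (SemidirectProduct.inr : Matrix.SpecialLinearGroup (Fin 2) (ZMod 5) →* _).range := by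
      rw [h]; trivial
    obtain ⟨b, hb⟩ := h1
    have h2 := congrArg SemidirectProduct.left hb
    rw [SemidirectProduct.left_inr, SemidirectProduct.left_inl] at h2
    have h3 : (![1, 0] : Fin 2 → ZMod 11) = 0 := by
      have := congrArg Multiplicative.toAdd h2
      simpa using this.symm
    have h4 := congrFun h3 0
    simp at h4
  · intro g hg
    rw [Subgroup.eq_bot_iff_forall]
    intro x hx
    obtain ⟨hx1, hx2⟩ := Subgroup.mem_inf.mp hx
    obtain ⟨a, rfl⟩ := hx1
    rw [Subgroup.mem_smul_pointwise_iff_exists] at hx2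
    obtain ⟨_, ⟨b, rfl⟩, hb⟩ := hx2
    rw [MulAut.smul_def, MulAut.conj_apply] at hb
    have hn : g.left ≠ 1 := by
      intro h
      apply hg
      refine ⟨g.right, ?_⟩
      ext
      · rw [SemidirectProduct.left_inr, h]
      · rw [SemidirectProduct.right_inr]
    have hr := congrArg SemidirectProduct.right hb
    have hl := congrArg SemidirectProduct.left hb
    simp only [SemidirectProduct.mul_right, SemidirectProduct.mul_left, SemidirectProduct.inv_right,
      SemidirectProduct.inv_left, SemidirectProduct.right_inr, SemidirectProduct.left_inr,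
      map_one, mul_one] at hr hl
    -- hl : g.left * φ (g.right * b) (φ g.right⁻¹ g.left⁻¹) = 1
    have hl2 : φ a g.left = g.left := by
      have e1 : φ (g.right * b) (φ g.right⁻¹ g.left⁻¹) = φ a g.left⁻¹ := by
        have : φ a = φ (g.right * b) * φ g.right⁻¹ := by rw [← map_mul, hr]
        rw [this, MulAut.mul_apply]
      rw [e1, map_inv, mul_inv_eq_one] at hl
      exact hl.symm
    rw [hφ] at hl2
    have hl3 : (j a : Matrix (Fin 2) (Fin 2) (ZMod 11)).mulVec (Multiplicative.toAdd g.left) =
        Multiplicative.toAdd g.left := congrArg Multiplicative.toAdd hl2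
    have hne : Multiplicative.toAdd g.left ≠ 0 := by
      intro h
      apply hn
      have := congrArg Multiplicative.ofAdd h
      simpa using this
    have ha := free11 j hj a _ hne hl3
    rw [ha, map_one]

end Cfsg.Agent.S3374
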