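import Cfsg.Statements.S3382
import Mathlib
import Cfsg.Agent.Helper8.MonoAut2

set_option autoImplicit false
open Cfsg

namespace Cfsg.Agent.S3382

/-- Let q = 2^m + 1 be a prime other than 5. Then the automorphism group of the group of linear maps of F_q² of the forms (x, y) ↦ (a x, ± a⁻¹ y) and (x, y) ↦ (± a⁻¹ y, a x) with a ≠ 0 is itself a 2-group. -/
theorem result (q m : ℕ) [Fact q.Prime] (hq : q = 2 ^ m + 1) (hq5 : q ≠ 5)
    (T : Subgroup ((Fin 2 → ZMod q) ≃ₗ[ZMod q] (Fin 2 → ZMod q)))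
    (hT : ∀ f, f ∈ T ↔ ∃ a s : ZMod q, a ≠ 0 ∧ (s = 1 ∨ s = -1) ∧
      ((∀ v, f v = ![a * v 0, s * a⁻¹ * v 1]) ∨ (∀ v, f v = ![s * a⁻¹ * v 1, a * v 0]))) :
    IsPGroup 2 (MulAut T) := by
  haveI : Finite (Cfsg.Agent.Helper8.MonoAut.E q) := Cfsg.Agent.Helper8.MonoAut.finite_E
  haveI : Finite ↥T := inferInstance
  haveI : Finite (MulAut ↥T) := Cfsg.Agent.Helper8.MonoAut.finite_mulAut _
  have hT' : Cfsg.Agent.Helper8.MonoAut.Mem T := hT
  apply Cfsg.Agent.Helper8.MonoAut.isPGroup_two_of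
  intro α r hr hrodd hpow
  rcases Nat.lt_or_ge m 3 with hm | hm
  · interval_cases m
    · have hq2 : q = 2 := by rw [hq]; norm_num
      subst hq2
      exact Cfsg.Agent.Helper8.MonoAut.tiny_main hT' Cfsg.Agent.Helper8.MonoAut.zmod2_a
        Cfsg.Agent.Helper8.MonoAut.zmod2_b α
    · have hq3 : q = 3 := by rw [hq]; norm_num
      subst hq3
      exact Cfsg.Agent.Helper8.MonoAut.small_main hT' Cfsg.Agent.Helper8.MonoAut.zmod3_a
        Cfsg.Agent.Helper8.MonoAut.zmod3_b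
        (Cfsg.Agent.Helper8.MonoAut.isPGroup_T hT' hq le_rfl) α hr hrodd hpow
    · exfalso
      apply hq5
      rw [hq]
      norm_num
  · obtain ⟨k, rfl⟩ : ∃ k, m = k + 3 := ⟨m - 3, by omega⟩
    have hq' : q = 2 * (4 * 2 ^ k) + 1 := by rw [hq]; ring
    have hpos : 0 < 2 ^ k := Nat.pos_of_ne_zero (by positivity)
    have h4 : 4 ∣ q / 2 := by
      refine ⟨2 ^ k, ?_⟩
      omega
    have hq9 : 2 < q := by omega
    have : Fact (2 < q) := ⟨hq9⟩
    have h1 : (1 : ZMod q) ≠ -1 := fun h => ZMod.neg_one_ne_one h.symm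
    have hi : ∃ i : ZMod q, i * i = -1 := by
      have h5 : q % 4 ≠ 3 := by omega
      obtain ⟨i, hi⟩ := ZMod.exists_sq_eq_neg_one_iff.mpr h5
      exact ⟨i, hi.symm⟩
    exact Cfsg.Agent.Helper8.MonoAut.big_main hT' h4 h1 hi
      (Cfsg.Agent.Helper8.MonoAut.isPGroup_T hT' hq (by omega)) α hr hrodd hpow

end Cfsg.Agent.S3382
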