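import Cfsg.Statements.S3494
-- import your own Cfsg.Agent.* helpers here
import Mathlib

set_option autoImplicit false
open Cfsg

namespace Cfsg.Agent.S3494

/-- a normal subgroup of a primitive group that moves a point is transitive -/
theorem ktrans {S X : Type*} [Group S] [MulAction S X] [MulAction.IsPreprimitive S X]
    (N : Subgroup S) [N.Normal] (x : X) (n₀ : ↥N) (hn₀ : n₀ • x ≠ x) (y : X) :
    ∃ n : ↥N, n • x = y := by
  have hblock : MulAction.IsBlock S (MulAction.orbit ↥N x) := MulAction.IsBlock.orbit_of_normal x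
  rcases hblock.subsingleton_or_eq_univ with hsub | huniv
  · exact absurd (hsub (MulAction.mem_orbit x n₀) (MulAction.mem_orbit_self x)) hn₀
  · have hm : y ∈ MulAction.orbit ↥N x := by rw [huniv]; exact Set.mem_univ y
    exact MulAction.mem_orbit_iff.1 hm

/-- Manning's Theorem on extremely primitive groups. Let a finite group G act faithfully and primitively on a finite set Ω with non-trivial point stabilizers, and suppose every point stabilizer G_α acts primitively on each of its orbits. Then G_α acts faithfully on each of its orbits other than {α}: an element of G_α fixing every point of one such orbit is the identity. -/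
theorem result {G : Type*} [Group G] [Finite G] {Ω : Type*} [Fintype Ω] [MulAction G Ω] [FaithfulSMul G Ω] (hprim : MulAction.IsPreprimitive G Ω) (hH : ∀ α : Ω, MulAction.stabilizer G α ≠ ⊥) (hep : ∀ (α : Ω) (ω : Ω), MulAction.IsPreprimitive (MulAction.stabilizer G α) (MulAction.orbit (MulAction.stabilizer G α) ω))
    (α ω : Ω) (hω : ω ≠ α) (h : MulAction.stabilizer G α) (hfix : ∀ x ∈ MulAction.orbit (MulAction.stabilizer G α) ω, h • x = x) : h = 1 := by
  classical
  haveI := hprim
  haveI : MulAction.IsPretransitive G Ω := hprim.toIsPretransitive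
  haveI : Nontrivial Ω := ⟨⟨ω, α, hω⟩⟩
  by_contra hh1
  -- the orbital relation of `(α, ω)`
  obtain ⟨E, hE⟩ : ∃ E : Ω → Ω → Prop, ∀ x y, E x y ↔ ∃ g : G, g • α = x ∧ g • ω = y :=
    ⟨_, fun _ _ => Iff.rfl⟩
  have hEinv : ∀ (s : G) (x y : Ω), E x y → E (s • x) (s • y) := by
    intro s x y hxy
    obtain ⟨g, rfl, rfl⟩ := (hE x y).1 hxy
    exact (hE _ _).2 ⟨s * g, mul_smul s g α, mul_smul s g ω⟩
  have hEinv' : ∀ (s : G) (x y : Ω), E (s • x) (s • y) → E x y := by
    intro s x y hxy
    have h1 := hEinv s⁻¹ _ _ hxy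
    rwa [inv_smul_smul, inv_smul_smul] at h1
  have hEiff : ∀ (s : G) (x y : Ω), E (s • x) (s • y) ↔ E x y :=
    fun s x y => ⟨hEinv' s x y, hEinv s x y⟩
  have hEloop : ∀ x : Ω, ¬ E x x := by
    intro x hx
    obtain ⟨g, h1, h2⟩ := (hE x x).1 hx
    exact hω (smul_left_cancel g (h2.trans h1.symm))
  have hEαω : E α ω := (hE α ω).2 ⟨1, one_smul _ _, one_smul _ _⟩
  have hEα : ∀ y : Ω, E α y → ∃ s : G, s • α = α ∧ s • ω = y := fun y hy => (hE α y).1 hy
  -- the kernel of `G_α` on the orbit of `ω`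
  obtain ⟨K, hK⟩ : ∃ K : Subgroup G, ∀ k : G, k ∈ K ↔ k • α = α ∧ ∀ y, E α y → k • y = y :=
    ⟨{ carrier := {k | k • α = α ∧ ∀ y, E α y → k • y = y}
       one_mem' := ⟨one_smul _ _, fun y _ => one_smul _ _⟩
       mul_mem' := fun {a b} ha hb => ⟨by rw [mul_smul, hb.1, ha.1],
         fun y hy => by rw [mul_smul, hb.2 y hy, ha.2 y hy]⟩
       inv_mem' := fun {a} ha => ⟨by rw [inv_smul_eq_iff, ha.1],
         fun y hy => by rw [inv_smul_eq_iff, ha.2 y hy]⟩ }, fun k => Iff.rfl⟩
  have hhK : (h : G) ∈ K := by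
    refine (hK _).2 ⟨MulAction.mem_stabilizer_iff.1 h.2, fun y hy => ?_⟩
    obtain ⟨s, hs1, hs2⟩ := hEα y hy
    exact hfix y ⟨⟨s, MulAction.mem_stabilizer_iff.2 hs1⟩, hs2⟩
  have hh1' : (h : G) ≠ 1 := fun e => hh1 (Subtype.ext e)
  have hKnorm : ∀ s : G, s • α = α → ∀ k ∈ K, s * k * s⁻¹ ∈ K := by
    intro s hs k hk
    obtain ⟨hk1, hk2⟩ := (hK k).1 hk
    have hsi : s⁻¹ • α = α := by rw [inv_smul_eq_iff, hs]
    refine (hK _).2 ⟨by rw [mul_smul, mul_smul, hsi, hk1, hs], fun y hy => ?_⟩
    have h1 : E α (s⁻¹ • y) := by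
      have h2 := hEinv s⁻¹ α y hy
      rwa [hsi] at h2
    rw [mul_smul, mul_smul, hk2 _ h1, smul_inv_smul]
  have hcoα : IsCoatom (MulAction.stabilizer G α) :=
    MulAction.IsPreprimitive.isCoatom_stabilizer_of_isPreprimitive (G := G) α
  -- step A: `K` moves some out-neighbour of `ω`
  have stepA : ∃ γ : Ω, E ω γ ∧ ∃ k ∈ K, k • γ ≠ γ := by
    by_contra hno
    push_neg at hno
    obtain ⟨g, hg⟩ := MulAction.exists_smul_eq G α ω
    have hsub : ∀ k ∈ K, g⁻¹ * k * g ∈ K := by
      intro k hk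
      obtain ⟨hk1, hk2⟩ := (hK k).1 hk
      have hkω : k • ω = ω := hk2 ω hEαω
      refine (hK _).2 ⟨?_, fun y hy => ?_⟩
      · rw [mul_smul, mul_smul, hg, hkω, ← hg, inv_smul_smul]
      · have h1 : E ω (g • y) := by
          have h2 := hEinv g α y hy
          rwa [hg] at h2
        rw [mul_smul, mul_smul, hno _ h1 k hk, inv_smul_smul]
    have hsurj : ∀ k ∈ K, g * k * g⁻¹ ∈ K := by
      intro k hk
      have hinj : Function.Injective
          (fun x : ↥K => (⟨g⁻¹ * x.1 * g, hsub x.1 x.2⟩ : ↥K)) := by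
        intro x y hxy
        have h1 : g⁻¹ * x.1 * g = g⁻¹ * y.1 * g := congrArg Subtype.val hxy
        exact Subtype.ext (mul_left_cancel (mul_right_cancel h1))
      obtain ⟨x, hx⟩ := Finite.surjective_of_injective hinj ⟨k, hk⟩
      have h1 : g⁻¹ * x.1 * g = k := congrArg Subtype.val hx
      have h2 : g * k * g⁻¹ = x.1 := by rw [← h1]; group
      rw [h2]; exact x.2
    have hgN : g ∈ Subgroup.normalizer (K : Set G) := by
      rw [Subgroup.mem_normalizer_iff]
      intro k
      constructor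
      · exact hsurj k
      · intro hk
        have h1 := hsub _ hk
        have e : g⁻¹ * (g * k * g⁻¹) * g = k := by group
        rwa [e] at h1
    have hle : MulAction.stabilizer G α ≤ Subgroup.normalizer (K : Set G) := by
      intro s hs
      rw [Subgroup.mem_normalizer_iff]
      intro k
      have hs' := MulAction.mem_stabilizer_iff.1 hs
      constructor
      · exact hKnorm s hs' k
      · intro hk
        have hsi : s⁻¹ • α = α := by rw [inv_smul_eq_iff, hs']
        have h1 := hKnorm s⁻¹ hsi _ hk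
        have e : s⁻¹ * (s * k * s⁻¹) * s⁻¹⁻¹ = k := by group
        rwa [e] at h1
    have hlt : MulAction.stabilizer G α < Subgroup.normalizer (K : Set G) := by
      refine lt_of_le_of_ne hle (fun e => ?_)
      rw [← e, MulAction.mem_stabilizer_iff, hg] at hgN
      exact hω hgN
    have htop := hcoα.2 _ hlt
    apply hh1'
    refine FaithfulSMul.eq_of_smul_eq_smul (α := Ω) (fun x => ?_)
    obtain ⟨s, rfl⟩ := MulAction.exists_smul_eq G α x
    have hsN : s⁻¹ ∈ Subgroup.normalizer (K : Set G) := by rw [htop]; exact Subgroup.mem_top _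
    have h1 := (Subgroup.mem_normalizer_iff.1 hsN (h : G)).1 hhK
    have h2 := ((hK _).1 h1).1
    rw [one_smul]
    rw [mul_smul, mul_smul, inv_inv, inv_smul_eq_iff] at h2
    exact h2
  obtain ⟨γ, hωγ, k₀, hk₀, hk₀γ⟩ := stepA
  haveI hKn : (K.subgroupOf (MulAction.stabilizer G α)).Normal := by
    refine ⟨fun k hk s => ?_⟩
    rw [Subgroup.mem_subgroupOf] at hk ⊢
    exact hKnorm s.1 (MulAction.mem_stabilizer_iff.1 s.2) k.1 hk
  have hk₀α : k₀ • α = α := ((hK k₀).1 hk₀).1
  -- step B: `K` is transitive on the `G_α`-orbit of `γ`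
  have htransK : ∀ s : G, s • α = α → ∃ k ∈ K, k • γ = s • γ := by
    intro s hs
    haveI := hep α γ
    obtain ⟨n, hn⟩ := ktrans (S := ↥(MulAction.stabilizer G α))
      (X := ↥(MulAction.orbit ↥(MulAction.stabilizer G α) γ))
      (K.subgroupOf (MulAction.stabilizer G α)) ⟨γ, MulAction.mem_orbit_self γ⟩
      ⟨⟨k₀, MulAction.mem_stabilizer_iff.2 hk₀α⟩, Subgroup.mem_subgroupOf.2 hk₀⟩
      (fun e => by
        have e' := congrArg Subtype.val e
        exact hk₀γ e')
      ⟨s • γ, ⟨⟨s, MulAction.mem_stabilizer_iff.2 hs⟩, rfl⟩⟩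
    have h4 := congrArg Subtype.val hn
    exact ⟨n.1.1, Subgroup.mem_subgroupOf.1 n.2, h4⟩
  -- step C
  have stepC : ∀ β : Ω, E α β → ∀ s : G, s • α = α → E β (s • γ) := by
    intro β hβ s hs
    obtain ⟨t, ht1, ht2⟩ := hEα β hβ
    have hts : (t⁻¹ * s) • α = α := by rw [mul_smul, hs, inv_smul_eq_iff, ht1]
    obtain ⟨k, hk, hkγ⟩ := htransK (t⁻¹ * s) hts
    have hkω : k • ω = ω := ((hK k).1 hk).2 ω hEαω
    have h1 : E ω (k • γ) := by
      have h2 := hEinv k ω γ hωγ
      rwa [hkω] at h2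
    rw [hkγ] at h1
    have h2 := hEinv t _ _ h1
    rw [ht2, ← mul_smul, mul_inv_cancel_left] at h2
    exact h2
  -- in-degree equals out-degree
  have hout : ∀ x : Ω, (Finset.univ.filter (fun z => E x z)).card =
      (Finset.univ.filter (fun z => E α z)).card := by
    intro x
    obtain ⟨g, rfl⟩ := MulAction.exists_smul_eq G α x
    refine Finset.card_bij (fun z _ => g⁻¹ • z) ?_ ?_ ?_
    · intro z hz
      rw [Finset.mem_filter] at hz ⊢
      refine ⟨Finset.mem_univ _, ?_⟩
      have h1 := hEinv g⁻¹ _ _ hz.2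
      rwa [inv_smul_smul] at h1
    · intro z₁ _ z₂ _ e
      exact smul_left_cancel _ e
    · intro z hz
      rw [Finset.mem_filter] at hz
      exact ⟨g • z, Finset.mem_filter.2 ⟨Finset.mem_univ _, hEinv g _ _ hz.2⟩,
        inv_smul_smul g z⟩
  have hin : ∀ y : Ω, (Finset.univ.filter (fun z => E z y)).card =
      (Finset.univ.filter (fun z => E z α)).card := by
    intro y
    obtain ⟨g, rfl⟩ := MulAction.exists_smul_eq G α y
    refine Finset.card_bij (fun z _ => g⁻¹ • z) ?_ ?_ ?_
    · intro z hz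
      rw [Finset.mem_filter] at hz ⊢
      refine ⟨Finset.mem_univ _, ?_⟩
      have h1 := hEinv g⁻¹ _ _ hz.2
      rwa [inv_smul_smul] at h1
    · intro z₁ _ z₂ _ e
      exact smul_left_cancel _ e
    · intro z hz
      rw [Finset.mem_filter] at hz
      exact ⟨g • z, Finset.mem_filter.2 ⟨Finset.mem_univ _, hEinv g _ _ hz.2⟩,
        inv_smul_smul g z⟩
  have hdeg : (Finset.univ.filter (fun z => E z α)).card =
      (Finset.univ.filter (fun z => E α z)).card := by
    have h1 : ∑ x : Ω, (Finset.univ.filter (fun z => E x z)).card =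
        ∑ y : Ω, (Finset.univ.filter (fun z => E z y)).card := by
      simp only [Finset.card_filter]
      exact Finset.sum_comm
    rw [Finset.sum_congr rfl (fun x _ => hout x), Finset.sum_congr rfl (fun y _ => hin y),
      Finset.sum_const, Finset.sum_const, smul_eq_mul, smul_eq_mul] at h1
    exact (Nat.eq_of_mul_eq_mul_left (Finset.card_pos.2 ⟨α, Finset.mem_univ α⟩) h1).symm
  -- step D
  have stepD : ∀ s : G, s • α = α → ∀ x : Ω, E x (s • γ) → E α x := by
    intro s hs x hx
    have hsub : Finset.univ.filter (fun z => E α z) ⊆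
        Finset.univ.filter (fun z => E z (s • γ)) := by
      intro z hz
      rw [Finset.mem_filter] at hz ⊢
      exact ⟨Finset.mem_univ _, stepC z hz.2 s hs⟩
    have heq := Finset.eq_of_subset_of_card_le hsub (by rw [hin (s • γ), hdeg])
    have hx' : x ∈ Finset.univ.filter (fun z => E z (s • γ)) :=
      Finset.mem_filter.2 ⟨Finset.mem_univ _, hx⟩
    rw [← heq] at hx'
    exact (Finset.mem_filter.1 hx').2
  -- step E: the points with the same in-neighbourhood as `γ`
  obtain ⟨H', hH'⟩ : ∃ H' : Subgroup G, ∀ g : G, g ∈ H' ↔ ∀ x, E x (g • γ) ↔ E x γ :=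
    ⟨{ carrier := {g | ∀ x, E x (g • γ) ↔ E x γ}
       one_mem' := fun x => by rw [one_smul]
       mul_mem' := fun {a b} ha hb x => by
         rw [mul_smul]
         have h1 : E x (a • b • γ) ↔ E (a⁻¹ • x) (b • γ) := by
           have h3 := hEiff a (a⁻¹ • x) (b • γ)
           rwa [smul_inv_smul] at h3
         have h2 : E (a⁻¹ • x) γ ↔ E x (a • γ) := by
           have h3 := hEiff a (a⁻¹ • x) γ
           rw [smul_inv_smul] at h3
           exact h3.symm
         exact h1.trans ((hb (a⁻¹ • x)).trans (h2.trans (ha x)))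
       inv_mem' := fun {a} ha x => by
         have h1 : E x (a⁻¹ • γ) ↔ E (a • x) γ := by
           have h3 := hEiff a x (a⁻¹ • γ)
           rw [smul_inv_smul] at h3
           exact h3.symm
         have h2 : E (a • x) (a • γ) ↔ E x γ := hEiff a x γ
         exact h1.trans ((ha (a • x)).symm.trans h2) }, fun g => Iff.rfl⟩
  have hcoγ : IsCoatom (MulAction.stabilizer G γ) :=
    MulAction.IsPreprimitive.isCoatom_stabilizer_of_isPreprimitive (G := G) γ
  have hHle : MulAction.stabilizer G γ ≤ H' := by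
    intro g hg
    refine (hH' g).2 (fun x => ?_)
    rw [MulAction.mem_stabilizer_iff.1 hg]
  have hk₀H : k₀ ∈ H' := by
    refine (hH' k₀).2 (fun x => ⟨fun hx => ?_, fun hx => ?_⟩)
    · have h1 := stepC x (stepD k₀ hk₀α x hx) 1 (one_smul _ _)
      rwa [one_smul] at h1
    · exact stepC x (stepD 1 (one_smul _ _) x (by rwa [one_smul])) k₀ hk₀α
  have hlt : MulAction.stabilizer G γ < H' := by
    refine lt_of_le_of_ne hHle (fun e => hk₀γ ?_)
    have h1 := hk₀H
    rw [← e, MulAction.mem_stabilizer_iff] at h1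
    exact h1
  have hHtop := hcoγ.2 _ hlt
  obtain ⟨g, hg⟩ := MulAction.exists_smul_eq G γ ω
  have hgH : g ∈ H' := by rw [hHtop]; exact Subgroup.mem_top _
  have h1 := ((hH' g).1 hgH ω).2 hωγ
  rw [hg] at h1
  exact hEloop ω h1

end Cfsg.Agent.S3494
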