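import Cfsg.Statements.S3496
import Cfsg.Agent.Lead.Schur1
import Cfsg.Agent.S0341
import Cfsg.Agent.S3495
import Cfsg.Agent.S0547
import Cfsg.Agent.S0548
import Cfsg.Agent.S0043
import Cfsg.Agent.Helper1.Hall
import Mathlib

set_option autoImplicit false
set_option linter.style.haveILetI false
set_option maxHeartbeats 1000000
open Cfsg
open scoped IsMulCommutative
open Cfsg.Agent.S0341 (cj cj_val val_inj cj_mul cj_one cj_pow)

namespace Cfsg.Agent.S3496

/-- The soluble extremely primitive groups. Let a finite solvable group G act faithfully and primitively on a finite set Ω with p ^ d points (p prime), with non-trivial point stabilizers each acting primitively on every one of its orbits. Then there is a prime q such that every orbit of a point stabilizer G_α other than {α} has exactly q points, q divides p ^ d − 1 but no p ^ i − 1 with 0 < i < d, and G_α has a normal subgroup T of order q with G_α generated by T and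 one further element and the order of G_α dividing q·d (so G_α is cyclic of order q, or an extension of T by a cyclic group of order dividing d). -/
theorem result {G : Type*} [Group G] [Finite G] {Ω : Type*} [Fintype Ω] [MulAction G Ω] [FaithfulSMul G Ω] [Group.IsSolvable G] (p d : ℕ) (hp : p.Prime) (hcard : Fintype.card Ω = p ^ d)
    (hprim : MulAction.IsPreprimitive G Ω) (hH : ∀ α : Ω, MulAction.stabilizer G α ≠ ⊥) (hep : ∀ (α : Ω) (ω : Ω), MulAction.IsPreprimitive (MulAction.stabilizer G α) (MulAction.orbit (MulAction.stabilizer G α) ω)) (α : Ω) :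
    ∃ q : ℕ, q.Prime ∧ (∀ ω : Ω, ω ≠ α → Nat.card (MulAction.orbit (MulAction.stabilizer G α) ω) = q) ∧
      q ∣ p ^ d - 1 ∧ (∀ i : ℕ, 0 < i → i < d → ¬ q ∣ p ^ i - 1) ∧
      ∃ T : Subgroup G, T ≤ MulAction.stabilizer G α ∧ MulAction.stabilizer G α ≤ Subgroup.normalizer (T : Set G) ∧ Nat.card T = q ∧
        (∃ h : G, MulAction.stabilizer G α = T ⊔ Subgroup.zpowers h) ∧ Nat.card (MulAction.stabilizer G α) ∣ q * d := by
  classical
  obtain ⟨H, hHdef⟩ : ∃ H : Subgroup G, H = MulAction.stabilizer G α := ⟨_, rfl⟩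
  rw [← hHdef]
  have hHmem : ∀ x : G, x ∈ H ↔ x • α = α := fun x => by
    rw [hHdef]; exact MulAction.mem_stabilizer_iff
  have hHbot : H ≠ ⊥ := by rw [hHdef]; exact hH α
  obtain ⟨x₀, hx₀⟩ := (Subgroup.ne_bot_iff_exists_ne_one).1 hHbot
  haveI : Nontrivial H := ⟨⟨x₀, 1, hx₀⟩⟩
  haveI : Nontrivial G := ⟨⟨(x₀ : G), 1, fun h => hx₀ (Subtype.ext h)⟩⟩
  haveI : Nonempty Ω := ⟨α⟩
  obtain ⟨N, hNn, hNbot, hNmin⟩ := Cfsg.Agent.Helper1.exists_minimal_normal (G := G)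
  haveI := hNn
  obtain ⟨hNc, p', hp', hNp'⟩ := Cfsg.Agent.S0043.result N hNbot hNmin
  obtain ⟨hNtr, hNreg, p'', d'', hp'', hd'', hΩ'', hNcard''⟩ :=
    Cfsg.Agent.S0547.result hprim N hNbot hNmin
  obtain ⟨-, hHcent, -⟩ := Cfsg.Agent.S0548.result hprim N hNbot hNmin α
  rw [← hHdef] at hHcent
  have hNcard : Nat.card N = p ^ d := by
    rw [hNcard'', ← hΩ'', Nat.card_eq_fintype_card, hcard]
  have hpp : p' = p := by
    obtain ⟨n, hn⟩ := (Subgroup.ne_bot_iff_exists_ne_one).1 hNbot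
    haveI : Fact p'.Prime := ⟨hp'⟩
    have h0 : n ^ p' = 1 := by
      apply Subtype.ext
      rw [Subgroup.coe_pow]
      exact hNp' n n.2
    have h1 : orderOf n = p' := orderOf_eq_prime h0 hn
    have h2 : orderOf n ∣ p ^ d := by rw [← hNcard]; exact orderOf_dvd_natCard n
    rw [h1] at h2
    exact (Nat.prime_dvd_prime_iff_eq hp' hp).1 (hp'.dvd_of_dvd_pow h2)
  have hNp : ∀ n ∈ N, n ^ p = 1 := by
    intro n hn
    rw [← hpp]; exact hNp' n hn
  have hNtr' : ∀ y z : Ω, ∃ n ∈ N, n • y = z := by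
    intro y z
    obtain ⟨n, hn⟩ := hNtr.exists_smul_eq y z
    exact ⟨(n : G), n.2, hn⟩
  have hNfree : ∀ n ∈ N, ∀ y : Ω, n • y = y → n = 1 := by
    intro n hn y hy
    have h0 : (⟨n, hn⟩ : N) ∈ MulAction.stabilizer N y := MulAction.mem_stabilizer_iff.2 hy
    rw [hNreg y, Subgroup.mem_bot] at h0
    exact (Subgroup.mk_eq_one _).1 h0
  have hNeq : ∀ n ∈ N, ∀ n' ∈ N, ∀ y : Ω, n • y = n' • y → n = n' := by
    intro n hn n' hn' y hy
    have h0 : (n'⁻¹ * n) • y = y := by rw [mul_smul, hy, inv_smul_smul]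
    have h1 := hNfree _ (N.mul_mem (N.inv_mem hn') hn) y h0
    exact (inv_mul_eq_one.1 h1).symm
  -- a minimal normal subgroup of the point stabilizer
  obtain ⟨T₀, hT₀n, hT₀bot, hT₀min⟩ := Cfsg.Agent.Helper1.exists_minimal_normal (G := H)
  haveI := hT₀n
  obtain ⟨hT₀c, r, hr, hT₀r⟩ := Cfsg.Agent.S0043.result T₀ hT₀bot hT₀min
  haveI : Fact r.Prime := ⟨hr⟩
  obtain ⟨M, hMmem⟩ : ∃ M : Subgroup G, ∀ x : G, x ∈ M ↔ ∃ hx : x ∈ H, (⟨x, hx⟩ : H) ∈ T₀ :=
    ⟨T₀.map H.subtype, fun x => ⟨by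
      rintro ⟨m, hm, rfl⟩
      exact ⟨m.2, hm⟩, by
      rintro ⟨hx, hm⟩
      exact ⟨⟨x, hx⟩, hm, rfl⟩⟩⟩
  have hMH : M ≤ H := fun x hx => ((hMmem x).1 hx).1
  obtain ⟨t₁, ht₁M, ht₁1⟩ : ∃ t₁ ∈ M, t₁ ≠ 1 := by
    obtain ⟨t, ht⟩ := (Subgroup.ne_bot_iff_exists_ne_one).1 hT₀bot
    exact ⟨((t : H) : G), (hMmem _).2 ⟨(t : H).2, t.2⟩,
      fun h => ht (Subtype.ext (Subtype.ext h))⟩
  have hMbot : M ≠ ⊥ := by
    intro h
    have : t₁ ∈ (⊥ : Subgroup G) := h ▸ ht₁M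
    exact ht₁1 (Subgroup.mem_bot.1 this)
  have hMnorm : ∀ h ∈ H, ∀ x ∈ M, h * x * h⁻¹ ∈ M := by
    intro h hh x hx
    obtain ⟨hxH, hxT⟩ := (hMmem x).1 hx
    have hconj := hT₀n.conj_mem ⟨x, hxH⟩ hxT ⟨h, hh⟩
    exact (hMmem _).2 ⟨H.mul_mem (H.mul_mem hh hxH) (H.inv_mem hh), hconj⟩
  have hMn : H ≤ Subgroup.normalizer (M : Set G) :=
    Cfsg.Agent.S3495.le_normalizer_of_conj H M hMnorm
  have hMcomm : ∀ t ∈ M, ∀ t' ∈ M, t * t' = t' * t := by
    intro t ht t' ht'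
    obtain ⟨h1, h2⟩ := (hMmem t).1 ht
    obtain ⟨h1', h2'⟩ := (hMmem t').1 ht'
    have e := hT₀c.1.1 (⟨⟨t, h1⟩, h2⟩ : T₀) ⟨⟨t', h1'⟩, h2'⟩
    exact congrArg (fun x : T₀ => ((x : H) : G)) e
  have hMr : ∀ t ∈ M, t ^ r = 1 := by
    intro t ht
    obtain ⟨h1, h2⟩ := (hMmem t).1 ht
    have e := congrArg (fun x : H => (x : G)) (hT₀r ⟨t, h1⟩ h2)
    simpa using e
  obtain ⟨horb, hirrG⟩ := Cfsg.Agent.S3495.result hprim hH hep N hNc p hp hNp hNtr hNreg α M hMbot
    (by rw [← hHdef]; exact hMH) (by rw [← hHdef]; exact hMn)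
  rw [← hHdef] at horb
  -- the conjugation representation on N
  have hhat1 : ∀ h ∈ H, cj N h = 1 → h = 1 := by
    intro h hh h1
    have hc : h ∈ Subgroup.centralizer (N : Set G) := by
      rw [Subgroup.mem_centralizer_iff]
      intro n hn
      have e := congrArg (fun f : AddMonoid.End (Additive N) =>
        ((Additive.toMul (f (Additive.ofMul (⟨n, hn⟩ : N))) : N) : G)) h1
      have e' : h * n * h⁻¹ = n := by
        have := cj_val N h (Additive.ofMul (⟨n, hn⟩ : N))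
        exact this.symm.trans e
      calc n * h = (h * n * h⁻¹) * h := by rw [e']
        _ = h * n := by group
    have : h ∈ H ⊓ Subgroup.centralizer (N : Set G) := Subgroup.mem_inf.2 ⟨hh, hc⟩
    rw [hHcent, Subgroup.mem_bot] at this
    exact this
  have hhatinj : ∀ h ∈ H, ∀ h' ∈ H, cj N h = cj N h' → h = h' := by
    intro h hh h' hh' e
    have e1 : cj N (h'⁻¹ * h) = 1 := by
      rw [cj_mul, e, ← cj_mul, inv_mul_cancel, cj_one]
    have := hhat1 _ (H.mul_mem (H.inv_mem hh') hh) e1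
    exact (inv_mul_eq_one.1 this).symm
  obtain ⟨S, hSmem, hSncard⟩ : ∃ S : Set (AddMonoid.End (Additive N)),
      (∀ f, f ∈ S ↔ ∃ t, t ∈ M ∧ cj N t = f) ∧ S.ncard = Nat.card M := by
    refine ⟨(cj N) '' (M : Set G), fun f => Iff.rfl, ?_⟩
    rw [Set.InjOn.ncard_image]
    · exact (Nat.card_coe_set_eq (M : Set G)).symm
    · intro t ht t' ht' e
      exact hhatinj t (hMH ht) t' (hMH ht') e
  have hScomm : ∀ f ∈ S, ∀ g ∈ S, f * g = g * f := by
    intro f hf g hg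
    obtain ⟨t, ht, rfl⟩ := (hSmem f).1 hf
    obtain ⟨t', ht', rfl⟩ := (hSmem g).1 hg
    rw [← cj_mul, ← cj_mul, hMcomm t ht t' ht']
  have hSr : ∀ f ∈ S, f ^ r = 1 := by
    intro f hf
    obtain ⟨t, ht, rfl⟩ := (hSmem f).1 hf
    rw [← cj_pow, hMr t ht, cj_one]
  have hf₀S : cj N t₁ ∈ S := (hSmem _).2 ⟨t₁, ht₁M, rfl⟩
  have hf₀1 : cj N t₁ ≠ 1 := fun h => ht₁1 (hhat1 t₁ (hMH ht₁M) h)
  have hirr : ∀ W : AddSubgroup (Additive N), (∀ f ∈ S, ∀ w ∈ W, f w ∈ W) → W = ⊥ ∨ W = ⊤ := by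
    intro W hW
    obtain ⟨L, hLmem⟩ : ∃ L : Subgroup G,
        ∀ g : G, g ∈ L ↔ ∃ hg : g ∈ N, Additive.ofMul (⟨g, hg⟩ : N) ∈ W :=
      ⟨{ carrier := {g | ∃ hg : g ∈ N, Additive.ofMul (⟨g, hg⟩ : N) ∈ W}
         one_mem' := ⟨N.one_mem, W.zero_mem⟩
         mul_mem' := by
           rintro a b ⟨ha, ha'⟩ ⟨hb, hb'⟩
           exact ⟨N.mul_mem ha hb, W.add_mem ha' hb'⟩
         inv_mem' := by
           rintro a ⟨ha, ha'⟩
           exact ⟨N.inv_mem ha, W.neg_mem ha'⟩ }, fun g => Iff.rfl⟩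
    have hLN : L ≤ N := fun g hg => ((hLmem g).1 hg).1
    have hML : M ≤ Subgroup.normalizer (L : Set G) := by
      apply Cfsg.Agent.S3495.le_normalizer_of_conj
      intro t ht g hg
      obtain ⟨hgN, hgW⟩ := (hLmem g).1 hg
      refine (hLmem _).2 ⟨hNn.conj_mem g hgN t, ?_⟩
      have h1 := hW (cj N t) ((hSmem _).2 ⟨t, ht, rfl⟩) _ hgW
      have e : cj N t (Additive.ofMul (⟨g, hgN⟩ : N)) =
          Additive.ofMul (⟨t * g * t⁻¹, hNn.conj_mem g hgN t⟩ : N) := by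
        apply val_inj N
        rw [cj_val]
        rfl
      rw [← e]; exact h1
    rcases hirrG L hLN hML with h | h
    · left
      rw [AddSubgroup.eq_bot_iff_forall]
      intro w hw
      have : ((Additive.toMul w : N) : G) ∈ L := (hLmem _).2 ⟨(Additive.toMul w).2, hw⟩
      rw [h, Subgroup.mem_bot] at this
      exact val_inj N w 0 this
    · right
      rw [AddSubgroup.eq_top_iff']
      intro w
      have : ((Additive.toMul w : N) : G) ∈ L := by rw [h]; exact (Additive.toMul w).2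
      obtain ⟨_, hw⟩ := (hLmem _).1 this
      exact hw
  have hVcard : Nat.card (Additive N) = p ^ d := (Nat.card_congr Additive.toMul).trans hNcard
  have hpV : ∀ v : Additive N, p • v = 0 := by
    intro v
    apply val_inj N
    show ((Additive.toMul (p • v) : N) : G) = 1
    rw [toMul_nsmul, Subgroup.coe_pow]
    exact hNp _ (Additive.toMul v).2
  obtain ⟨hA, hB, hC, hD, hE⟩ := Cfsg.Agent.Lead.Schur1.schur_core S hScomm hirr p d hp hVcard hpV
    r hr hSr (cj N t₁) hf₀S hf₀1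
  -- |M| = r
  have hrM : r ∣ Nat.card M := by
    have h1 : orderOf t₁ = r := orderOf_eq_prime (hMr t₁ ht₁M) ht₁1
    have h2 := orderOf_dvd_natCard (⟨t₁, ht₁M⟩ : M)
    rw [Subgroup.orderOf_mk, h1] at h2
    exact h2
  have hMcard : Nat.card M = r := by
    apply le_antisymm
    · rw [← hSncard]; exact hB
    · exact Nat.le_of_dvd Nat.card_pos hrM
  -- M acts freely off α
  have hfree : ∀ t ∈ M, t ≠ 1 → ∀ ω : Ω, ω ≠ α → t • ω ≠ ω := by
    intro t ht ht1 ω hω hfix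
    obtain ⟨n, hnN, hnω⟩ := hNtr' α ω
    have hn1 : n ≠ 1 := by
      rintro rfl
      rw [one_smul] at hnω
      exact hω hnω.symm
    have htα : t • α = α := (hHmem t).1 (hMH ht)
    have hconj : t * n * t⁻¹ = n := by
      apply hNeq _ (hNn.conj_mem n hnN t) _ hnN α
      rw [mul_smul, mul_smul, inv_smul_eq_iff.2 htα.symm, hnω, hfix]
    have hc0 : cj N t - 1 = 0 := by
      refine hA (cj N t - 1) ?_ (Additive.ofMul (⟨n, hnN⟩ : N)) ?_ ?_
      · intro f hf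
        obtain ⟨t', ht', rfl⟩ := (hSmem f).1 hf
        rw [mul_sub, sub_mul, mul_one, one_mul, ← cj_mul, ← cj_mul, hMcomm t' ht' t ht]
      · intro h0
        apply hn1
        have := congrArg (fun v : Additive N => ((Additive.toMul v : N) : G)) h0
        exact this
      · show cj N t (Additive.ofMul (⟨n, hnN⟩ : N)) - Additive.ofMul (⟨n, hnN⟩ : N) = 0
        rw [sub_eq_zero]
        apply val_inj N
        rw [cj_val]
        exact hconj
    exact ht1 (hhat1 t (hMH ht) (sub_eq_zero.1 hc0))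
  have horbcard : ∀ ω : Ω, ω ≠ α → Nat.card (MulAction.orbit H ω) = r := by
    intro ω hω
    rw [← horb ω, ← hMcard]
    symm
    apply Nat.card_eq_of_bijective
      (fun m : M => (⟨m • ω, MulAction.mem_orbit ω m⟩ : MulAction.orbit M ω))
    constructor
    · intro m m' hmm
      have e : (m : G) • ω = (m' : G) • ω := congrArg Subtype.val hmm
      have e2 : ((m' : G)⁻¹ * (m : G)) • ω = ω := by rw [mul_smul, e, inv_smul_smul]
      by_contra hne
      have hne' : (m' : G)⁻¹ * (m : G) ≠ 1 :=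
        fun h => hne (Subtype.ext (inv_mul_eq_one.1 h).symm)
      exact hfree _ (M.mul_mem (M.inv_mem m'.2) m.2) hne' ω hω e2
    · rintro ⟨y, m, rfl⟩
      exact ⟨m, rfl⟩
  -- elements of H centralizing M lie in M
  have hcentM : ∀ c ∈ H, (∀ t ∈ M, c * t = t * c) → c ∈ M := by
    intro c hc hcomm
    obtain ⟨n₁, hn₁N, hn₁1⟩ : ∃ n₁ ∈ N, n₁ ≠ 1 := by
      obtain ⟨n, hn⟩ := (Subgroup.ne_bot_iff_exists_ne_one).1 hNbot
      exact ⟨(n : G), n.2, fun h => hn (Subtype.ext h)⟩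
    have hcα : c • α = α := (hHmem c).1 hc
    have hmem : c • (n₁ • α) ∈ MulAction.orbit M (n₁ • α) := by
      rw [horb]
      exact MulAction.mem_orbit (n₁ • α) (⟨c, hc⟩ : H)
    obtain ⟨t', ht'⟩ := hmem
    have ht'' : (t' : G) • (n₁ • α) = c • (n₁ • α) := ht'
    have ht'α : (t' : G) • α = α := (hHmem _).1 (hMH t'.2)
    have e1 : c * n₁ * c⁻¹ = (t' : G) * n₁ * (t' : G)⁻¹ := by
      apply hNeq _ (hNn.conj_mem n₁ hn₁N c) _ (hNn.conj_mem n₁ hn₁N t') α
      rw [mul_smul, mul_smul, mul_smul, mul_smul, inv_smul_eq_iff.2 hcα.symm,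
        inv_smul_eq_iff.2 ht'α.symm, ht'']
    have e2 : cj N c - cj N (t' : G) = 0 := by
      refine hA (cj N c - cj N (t' : G)) ?_ (Additive.ofMul (⟨n₁, hn₁N⟩ : N)) ?_ ?_
      · intro f hf
        obtain ⟨s, hs, rfl⟩ := (hSmem f).1 hf
        rw [mul_sub, sub_mul, ← cj_mul, ← cj_mul, ← cj_mul, ← cj_mul, hcomm s hs,
          hMcomm s hs t' t'.2]
      · intro h0
        exact hn₁1 (congrArg (fun v : Additive N => ((Additive.toMul v : N) : G)) h0)
      · show cj N c (Additive.ofMul (⟨n₁, hn₁N⟩ : N)) -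
          cj N (t' : G) (Additive.ofMul (⟨n₁, hn₁N⟩ : N)) = 0
        rw [sub_eq_zero]
        apply val_inj N
        rw [cj_val, cj_val]
        exact e1
    have e3 : c = (t' : G) := hhatinj c hc _ (hMH t'.2) (sub_eq_zero.1 e2)
    rw [e3]; exact t'.2
  -- the conjugation action of H on T₀
  have hT₀card : Nat.card T₀ = r := by
    rw [← hMcard]
    apply Nat.card_eq_of_bijective
      (fun t : T₀ => (⟨((t : H) : G), (hMmem _).2 ⟨(t : H).2, t.2⟩⟩ : M))
    constructor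
    · intro t t' h
      have h' : ((t : H) : G) = ((t' : H) : G) := congrArg (fun x : M => (x : G)) h
      exact Subtype.ext (Subtype.ext h')
    · rintro ⟨x, hx⟩
      obtain ⟨h1, h2⟩ := (hMmem x).1 hx
      exact ⟨⟨⟨x, h1⟩, h2⟩, rfl⟩
  obtain ⟨ψ, hψdef⟩ : ∃ ψ : H →* MulAut T₀, ψ = MulAut.conjNormal := ⟨_, rfl⟩
  have hψ : ∀ (h : H) (t : T₀), ((ψ h t : T₀) : H) = h * t * h⁻¹ := fun h t => by
    rw [hψdef]; exact MulAut.conjNormal_apply h t
  have hker : ψ.ker = T₀ := by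
    ext c
    rw [MonoidHom.mem_ker]
    constructor
    · intro hc
      have hcomm : ∀ t ∈ M, (c : G) * t = t * (c : G) := by
        intro t ht
        obtain ⟨h1, h2⟩ := (hMmem t).1 ht
        have e := hψ c ⟨⟨t, h1⟩, h2⟩
        rw [hc] at e
        have e' : t = (c : G) * t * (c : G)⁻¹ := congrArg (fun x : H => (x : G)) e
        calc (c : G) * t = ((c : G) * t * (c : G)⁻¹) * (c : G) := by group
          _ = t * (c : G) := by rw [← e']
      have := hcentM (c : G) c.2 hcomm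
      obtain ⟨_, h2⟩ := (hMmem _).1 this
      exact h2
    · intro hc
      apply MulEquiv.ext
      intro t
      apply Subtype.ext
      rw [hψ]
      have e := hT₀c.1.1 (⟨c, hc⟩ : T₀) t
      have e' : c * (t : H) = (t : H) * c := congrArg (fun x : T₀ => (x : H)) e
      show c * (t : H) * c⁻¹ = (t : H)
      rw [e']; group
  haveI : IsCyclic T₀ := isCyclic_of_prime_card hT₀card
  haveI : NeZero r := ⟨hr.ne_zero⟩
  haveI : IsCyclic (MulAut T₀) := by
    have e : MulAut T₀ ≃* (ZMod (Nat.card T₀))ˣ := IsCyclic.mulAutMulEquiv T₀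
    haveI : IsCyclic (ZMod (Nat.card T₀))ˣ := by
      rw [hT₀card]; infer_instance
    exact isCyclic_of_surjective e.symm e.symm.surjective
  obtain ⟨g, hg⟩ := IsCyclic.exists_generator (α := ψ.range)
  obtain ⟨h₁, hh₁⟩ := MonoidHom.mem_range.1 g.2
  have hgen : ∀ h : H, ∃ z : ℤ, (h * (h₁ ^ z)⁻¹) ∈ T₀ := by
    intro h
    obtain ⟨z, hz⟩ := Subgroup.mem_zpowers_iff.1 (hg ⟨ψ h, MonoidHom.mem_range.2 ⟨h, rfl⟩⟩)
    refine ⟨z, ?_⟩
    have hz' : (g : MulAut T₀) ^ z = ψ h := by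
      have := congrArg (fun x : ψ.range => (x : MulAut T₀)) hz
      simpa using this
    rw [← hker, MonoidHom.mem_ker, map_mul, map_inv, map_zpow, hh₁, hz', mul_inv_cancel]
  have hsup : H = M ⊔ Subgroup.zpowers (h₁ : G) := by
    apply le_antisymm
    · intro x hx
      obtain ⟨z, hz⟩ := hgen ⟨x, hx⟩
      have h1 : x * ((h₁ : G) ^ z)⁻¹ ∈ M :=
        (hMmem _).2 ⟨(⟨x, hx⟩ * (h₁ ^ z)⁻¹ : H).2, hz⟩
      have h2 : x = (x * ((h₁ : G) ^ z)⁻¹) * (h₁ : G) ^ z := by group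
      rw [h2]
      exact Subgroup.mul_mem _ (Subgroup.mem_sup_left h1)
        (Subgroup.mem_sup_right (Subgroup.zpow_mem _ (Subgroup.mem_zpowers _) z))
    · rw [sup_le_iff]
      refine ⟨hMH, ?_⟩
      rw [Subgroup.zpowers_le]
      exact h₁.2
  have hnorm1 : ∀ f ∈ S, cj N (h₁ : G)⁻¹ * f * cj N (h₁ : G) ∈ S := by
    intro f hf
    obtain ⟨t, ht, rfl⟩ := (hSmem f).1 hf
    refine (hSmem _).2 ⟨(h₁ : G)⁻¹ * t * (h₁ : G), ?_, ?_⟩
    · have := hMnorm _ (H.inv_mem h₁.2) t ht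
      rwa [inv_inv] at this
    · rw [cj_mul, cj_mul]
  have hnorm2 : ∀ f ∈ S, cj N (h₁ : G) * f * cj N (h₁ : G)⁻¹ ∈ S := by
    intro f hf
    obtain ⟨t, ht, rfl⟩ := (hSmem f).1 hf
    exact (hSmem _).2 ⟨(h₁ : G) * t * (h₁ : G)⁻¹, hMnorm _ h₁.2 t ht, by rw [cj_mul, cj_mul]⟩
  obtain ⟨k, hk0, hkd, hkS⟩ := hE (cj N (h₁ : G)) (cj N (h₁ : G)⁻¹)
    (by rw [← cj_mul, mul_inv_cancel, cj_one]) (by rw [← cj_mul, inv_mul_cancel, cj_one])
    hnorm1 hnorm2
  have hψk : ψ h₁ ^ k = 1 := by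
    rw [← map_pow]
    apply MulEquiv.ext
    intro t
    apply Subtype.ext
    rw [hψ]
    apply Subtype.ext
    show ((h₁ : G) ^ k) * ((t : H) : G) * ((h₁ : G) ^ k)⁻¹ = ((t : H) : G)
    have htM : ((t : H) : G) ∈ M := (hMmem _).2 ⟨(t : H).2, t.2⟩
    have e := hkS (cj N ((t : H) : G)) ((hSmem _).2 ⟨_, htM, rfl⟩)
    rw [← cj_pow, ← cj_pow, ← cj_mul, ← cj_mul] at e
    have e2 := hhatinj _ (H.mul_mem (H.mul_mem (H.pow_mem h₁.2 k) (t : H).2)
      (H.pow_mem (H.inv_mem h₁.2) k)) _ (hMH htM) e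
    rw [inv_pow] at e2
    exact e2
  have hord : orderOf (ψ h₁) ∣ d := (orderOf_dvd_of_pow_eq_one hψk).trans hkd
  have hrange : Nat.card ψ.range = orderOf (ψ h₁) := by
    rw [← orderOf_eq_card_of_forall_mem_zpowers hg, hh₁, Subgroup.orderOf_coe]
  have hcardH : Nat.card H = r * Nat.card ψ.range := by
    rw [← Subgroup.index_ker, hker, ← hT₀card, Subgroup.card_mul_index]
  refine ⟨r, hr, horbcard, hC, hD, M, hMH, hMn, hMcard, ⟨(h₁ : G), hsup⟩, ?_⟩
  rw [hcardH, hrange]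
  exact Nat.mul_dvd_mul_left r hord

end Cfsg.Agent.S3496
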