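import Cfsg.Statements.S3497
import Cfsg.Agent.S3494
import Cfsg.Agent.Helper1.Fitting
import Mathlib

set_option autoImplicit false
open Cfsg

namespace Cfsg.Agent.S3497

/-- a group in which the trivial subgroup is maximal has prime order -/
theorem coatom_bot_prime {S : Type*} [Group S] [Finite S] (h : IsCoatom (⊥ : Subgroup S)) :
    (Nat.card S).Prime := by
  have htop : ∀ x : S, x ≠ 1 → Subgroup.zpowers x = ⊤ := by
    intro x hx
    apply h.2
    rw [bot_lt_iff_ne_bot]
    intro hb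
    exact hx (Subgroup.zpowers_eq_bot.1 hb)
  have hord : ∀ x : S, x ≠ 1 → orderOf x = Nat.card S := by
    intro x hx
    rw [← Nat.card_zpowers x, htop x hx, Subgroup.card_top]
  obtain ⟨x, hx⟩ : ∃ x : S, x ≠ 1 := by
    by_contra hcon
    push_neg at hcon
    exact h.1 ((Subgroup.eq_bot_iff_forall ⊤).2 (fun y _ => hcon y)).symm
  have hn1 : Nat.card S ≠ 1 := by
    intro h1
    rw [← hord x hx, orderOf_eq_one_iff] at h1
    exact hx h1
  have hp : (Nat.card S).minFac.Prime := Nat.minFac_prime hn1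
  haveI : Fact (Nat.card S).minFac.Prime := ⟨hp⟩
  obtain ⟨y, hy⟩ := exists_prime_orderOf_dvd_card' (G := S) (Nat.card S).minFac (Nat.minFac_dvd _)
  have hy1 : y ≠ 1 := by
    intro h1
    rw [h1, orderOf_one] at hy
    exact hp.one_lt.ne hy
  have h2 := hord y hy1
  rw [hy] at h2
  rw [← h2]
  exact hp

/-- a linear representation on an `n`-dimensional space gives a matrix representation with the same kernel -/
theorem gl_of_rep {F : Type*} [Field F] {V : Type*} [AddCommGroup V] [Module F V]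
    [FiniteDimensional F V] (n : ℕ) (hdim : Module.finrank F V = n)
    {S : Type*} [Group S] (ρ : S → (V →ₗ[F] V)) (h1 : ρ 1 = LinearMap.id)
    (hmul : ∀ g h, ρ (g * h) = (ρ g).comp (ρ h)) :
    ∃ φ : S →* GL (Fin n) F, ∀ s : S, φ s = 1 ↔ ρ s = LinearMap.id := by
  classical
  let b : Module.Basis (Fin n) F V := Module.finBasisOfFinrankEq F V hdim
  let ψ : S →* Matrix (Fin n) (Fin n) F :=
    { toFun := fun g => LinearMap.toMatrix b b (ρ g)
      map_one' := by rw [h1]; exact LinearMap.toMatrix_id b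
      map_mul' := fun g h => by rw [hmul]; exact LinearMap.toMatrix_comp b b b (ρ g) (ρ h) }
  refine ⟨ψ.toHomUnits, fun s => ⟨fun h => ?_, fun h => ?_⟩⟩
  · have h1' : LinearMap.toMatrix b b (ρ s) = 1 := congrArg Units.val h
    rw [← LinearMap.toMatrix_id b] at h1'
    exact (LinearMap.toMatrix b b).injective h1'
  · apply Units.ext
    show LinearMap.toMatrix b b (ρ s) = 1
    rw [h]
    exact LinearMap.toMatrix_id b

/-- an action by additive maps on a finite `ZMod p`-module of order `p ^ e` gives a matrix representation -/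
theorem gl_of_mod {S : Type*} [Group S] (p e : ℕ) [Fact p.Prime] {V : Type*} [AddCommGroup V]
    [Module (ZMod p) V] [Finite V] (hcard : Nat.card V = p ^ e)
    (ρ : S → (V →+ V)) (h1 : ∀ v, ρ 1 v = v) (hmul : ∀ g h v, ρ (g * h) v = ρ g (ρ h v)) :
    ∃ φ : S →* GL (Fin e) (ZMod p), ∀ s : S, φ s = 1 ↔ ∀ v, ρ s v = v := by
  haveI : Module.Finite (ZMod p) V := Module.Finite.of_finite
  have hfr : Module.finrank (ZMod p) V = e := by
    have h1 : Nat.card V = Nat.card (ZMod p) ^ Module.finrank (ZMod p) V :=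
      Module.natCard_eq_pow_finrank (K := ZMod p) (V := V)
    rw [hcard, Nat.card_zmod] at h1
    exact (Nat.pow_right_injective (Fact.out : p.Prime).two_le h1).symm
  obtain ⟨φ, hφ⟩ := gl_of_rep e hfr (fun h => AddMonoidHom.toZModLinearMap p (ρ h))
    (LinearMap.ext fun v => h1 v) (fun g h => LinearMap.ext fun v => hmul g h v)
  refine ⟨φ, fun s => ?_⟩
  rw [hφ]
  constructor
  · intro h2 v
    have h3 := congrArg (fun f : V →ₗ[ZMod p] V => f v) h2
    exact h3
  · intro h2
    exact LinearMap.ext fun v => h2 v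

/-- automorphisms of an elementary abelian group of order `p ^ e`, as matrices (commutative version) -/
theorem gl_of_elemC {S : Type*} [Group S] {A : Type*} [CommGroup A] [Finite A] (p e : ℕ)
    [Fact p.Prime]
    (hcard : Nat.card A = p ^ e) (hexp : ∀ a : A, a ^ p = 1) (c : S →* MulAut A) :
    ∃ φ : S →* GL (Fin e) (ZMod p), ∀ s : S, φ s = 1 ↔ c s = 1 := by
  have hz : ∀ x : Additive A, p • x = 0 := fun x => by
      rw [← ofMul_toMul x, ← ofMul_pow, hexp, ofMul_one]
  obtain ⟨φ, hφ⟩ := @gl_of_mod S _ p e _ (Additive A) Additive.addCommGroup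
    (AddCommGroup.zmodModule hz) (inferInstanceAs (Finite A)) hcard
    (fun h => MonoidHom.toAdditive (c h).toMonoidHom)
    (fun v => by rw [map_one]; rfl) (fun g h v => by rw [map_mul]; rfl)
  refine ⟨φ, fun s => ?_⟩
  rw [hφ]
  constructor
  · intro h1
    ext a
    exact congrArg Additive.toMul (h1 (Additive.ofMul a))
  · intro h1 v
    rw [h1]; rfl

/-- automorphisms of an elementary abelian group of order `p ^ e`, as matrices -/
theorem gl_of_elem {S : Type*} [Group S] {A : Type*} [Group A] [Finite A] (p e : ℕ)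
    [Fact p.Prime]
    (hcomm : ∀ a b : A, a * b = b * a)
    (hcard : Nat.card A = p ^ e) (hexp : ∀ a : A, a ^ p = 1) (c : S →* MulAut A) :
    ∃ φ : S →* GL (Fin e) (ZMod p), ∀ s : S, φ s = 1 ↔ c s = 1 := by
  letI : CommGroup A := { ‹Group A› with mul_comm := hcomm }
  exact gl_of_elemC p e hcard hexp c

/-- the abstract core: a group `S` fixing `α`, faithful and primitive on each orbit other than `{α}` -/
theorem core {S : Type*} [Group S] [Finite S] {Ω : Type*} [Fintype Ω] [MulAction S Ω] (α : Ω)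
    (hα : ∀ s : S, s • α = α)
    (man : ∀ ω : Ω, ω ≠ α → ∀ s : S, (∀ x ∈ MulAction.orbit S ω, s • x = x) → s = 1)
    (hep : ∀ ω : Ω, MulAction.IsPreprimitive S (MulAction.orbit S ω))
    (ω₀ : Ω) (hω₀ : ω₀ ≠ α) (s₀ : S) (hs₀ : s₀ • ω₀ ≠ ω₀)
    (hHp : ¬ (Nat.card S).Prime) :
    Subgroup.center S = ⊥ ∧
    IsMulCommutative (Cfsg.fittingSubgroup S) ∧
    ∃ p e : ℕ, p.Prime ∧ Nat.card (Cfsg.fittingSubgroup S) = p ^ e ∧
      (∀ x ∈ Cfsg.fittingSubgroup S, x ^ p = 1) ∧
      (Cfsg.fittingSubgroup S ≠ ⊥ →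
        p ^ e ∣ Fintype.card Ω - 1 ∧
        ∃ φ : S →* GL (Fin e) (ZMod p), φ.ker = Cfsg.fittingSubgroup S) := by
  classical
  -- nontrivial normal subgroups are transitive on the orbits other than `{α}`
  have trans : ∀ (N : Subgroup S), N.Normal → N ≠ ⊥ → ∀ ω : Ω, ω ≠ α →
      ∀ y ∈ MulAction.orbit S ω, ∃ n ∈ N, n • ω = y := by
    intro N hNn hN ω hω y hy
    haveI := hNn
    haveI := hep ω
    obtain ⟨n, hnN, hn1⟩ : ∃ n ∈ N, n ≠ 1 := by
      by_contra hcon
      push_neg at hcon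
      exact hN ((Subgroup.eq_bot_iff_forall N).2 hcon)
    obtain ⟨x, hx, hnx⟩ : ∃ x ∈ MulAction.orbit S ω, n • x ≠ x := by
      by_contra hcon
      push_neg at hcon
      exact hn1 (man ω hω n hcon)
    obtain ⟨h, rfl⟩ := MulAction.mem_orbit_iff.1 hx
    have hmem : h⁻¹ * n * h ∈ N := by
      have h1 := hNn.conj_mem n hnN h⁻¹
      rwa [inv_inv] at h1
    have hne : (⟨h⁻¹ * n * h, hmem⟩ : ↥N) • (⟨ω, MulAction.mem_orbit_self ω⟩ : MulAction.orbit S ω)
        ≠ ⟨ω, MulAction.mem_orbit_self ω⟩ := by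
      intro heq
      have h2 : (h⁻¹ * n * h) • ω = ω := congrArg Subtype.val heq
      apply hnx
      rw [mul_smul, mul_smul, inv_smul_eq_iff] at h2
      exact h2
    obtain ⟨m, hm⟩ := Cfsg.Agent.S3494.ktrans N
      (⟨ω, MulAction.mem_orbit_self ω⟩ : MulAction.orbit S ω) ⟨h⁻¹ * n * h, hmem⟩ hne ⟨y, hy⟩
    exact ⟨m.1, m.2, congrArg Subtype.val hm⟩
  have semi : ∀ (N : Subgroup S), N.Normal → N ≠ ⊥ → ∀ h : S, (∀ n ∈ N, h * n = n * h) →
      ∀ ω : Ω, ω ≠ α → h • ω = ω → h = 1 := by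
    intro N hNn hN h hcomm ω hω hfix
    apply man ω hω h
    intro y hy
    obtain ⟨n, hn, rfl⟩ := trans N hNn hN ω hω y hy
    rw [← mul_smul, hcomm n hn, mul_smul, hfix]
  -- the centre is trivial
  have hZ : Subgroup.center S = ⊥ := by
    by_contra hZ
    have hsemi : ∀ h : S, h • ω₀ = ω₀ → h = 1 := fun h hfix =>
      semi (Subgroup.center S) inferInstance hZ h
        (fun n hn => Subgroup.mem_center_iff.1 hn h) ω₀ hω₀ hfix
    haveI := hep ω₀
    haveI : Nontrivial (MulAction.orbit S ω₀) :=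
      ⟨⟨⟨ω₀, MulAction.mem_orbit_self ω₀⟩, ⟨s₀ • ω₀, MulAction.mem_orbit ω₀ s₀⟩,
        fun heq => hs₀ (congrArg Subtype.val heq).symm⟩⟩
    have hco := MulAction.IsPreprimitive.isCoatom_stabilizer_of_isPreprimitive (G := S)
      (⟨ω₀, MulAction.mem_orbit_self ω₀⟩ : MulAction.orbit S ω₀)
    have hst : MulAction.stabilizer S
        (⟨ω₀, MulAction.mem_orbit_self ω₀⟩ : MulAction.orbit S ω₀) = ⊥ :=
      (Subgroup.eq_bot_iff_forall _).2 (fun h hh =>
        hsemi h (congrArg Subtype.val (MulAction.mem_stabilizer_iff.1 hh)))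
    rw [hst] at hco
    exact hHp (coatom_bot_prime hco)
  have hAn : (Cfsg.fittingSubgroup S).Normal := Cfsg.Agent.Helper1.fitting_normal S
  have hAnil : Group.IsNilpotent (Cfsg.fittingSubgroup S) := Cfsg.Agent.Helper1.fitting_isNilpotent
  refine ⟨hZ, ?_⟩
  by_cases hA : Cfsg.fittingSubgroup S = ⊥
  · refine ⟨⟨⟨fun a b => ?_⟩⟩, 2, 0, Nat.prime_two, ?_, ?_, fun h => absurd hA h⟩
    · have ha : a = 1 := Subtype.ext ((Subgroup.eq_bot_iff_forall _).1 hA a.1 a.2)
      have hb : b = 1 := Subtype.ext ((Subgroup.eq_bot_iff_forall _).1 hA b.1 b.2)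
      rw [ha, hb]
    · rw [hA]; simp
    · intro x hx
      rw [(Subgroup.eq_bot_iff_forall _).1 hA x hx]; exact one_pow 2
  · -- the centre of `F(S)` as a subgroup of `S`
    obtain ⟨Z, hZmem⟩ : ∃ Z : Subgroup S, ∀ z : S, z ∈ Z ↔
        z ∈ Cfsg.fittingSubgroup S ∧ ∀ a ∈ Cfsg.fittingSubgroup S, a * z = z * a :=
      ⟨{ carrier := {z | z ∈ Cfsg.fittingSubgroup S ∧ ∀ a ∈ Cfsg.fittingSubgroup S, a * z = z * a}
         one_mem' := ⟨Subgroup.one_mem _, fun a _ => Commute.one_right a⟩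
         mul_mem' := fun {x y} hx hy => ⟨Subgroup.mul_mem _ hx.1 hy.1, fun a ha =>
           Commute.mul_right (hx.2 a ha) (hy.2 a ha)⟩
         inv_mem' := fun {x} hx => ⟨Subgroup.inv_mem _ hx.1, fun a ha =>
           Commute.inv_right (hx.2 a ha)⟩ }, fun z => Iff.rfl⟩
    have hZn : Z.Normal := ⟨fun z hz g => by
      rw [hZmem] at hz ⊢
      refine ⟨hAn.conj_mem z hz.1 g, fun a ha => ?_⟩
      have h1 := hz.2 (g⁻¹ * a * g) (by
        have h2 := hAn.conj_mem a ha g⁻¹
        rwa [inv_inv] at h2)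
      calc a * (g * z * g⁻¹) = g * ((g⁻¹ * a * g) * z) * g⁻¹ := by group
        _ = g * (z * (g⁻¹ * a * g)) * g⁻¹ := by rw [h1]
        _ = g * z * g⁻¹ * a := by group⟩
    have hZne : Z ≠ ⊥ := by
      haveI := hAnil
      haveI : Nontrivial (Cfsg.fittingSubgroup S) := (Subgroup.nontrivial_iff_ne_bot _).2 hA
      have hcb := Group.IsNilpotent.center_ne_bot (Cfsg.fittingSubgroup S)
      obtain ⟨c, hcc, hc1⟩ : ∃ c ∈ Subgroup.center (Cfsg.fittingSubgroup S), c ≠ 1 := by
        by_contra hcon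
        push_neg at hcon
        exact hcb ((Subgroup.eq_bot_iff_forall _).2 hcon)
      intro hZb
      have hcZ : (c : S) ∈ Z := by
        rw [hZmem]
        refine ⟨c.2, fun a ha => ?_⟩
        exact congrArg Subtype.val (Subgroup.mem_center_iff.1 hcc ⟨a, ha⟩)
      rw [hZb, Subgroup.mem_bot] at hcZ
      exact hc1 (Subtype.ext hcZ)
    have hZab : ∀ z ∈ Z, ∀ z' ∈ Z, z * z' = z' * z := fun z hz z' hz' =>
      ((hZmem z').1 hz').2 z ((hZmem z).1 hz).1
    have hCZ : ∀ h : S, (∀ z ∈ Z, h * z = z * h) → h ∈ Z := by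
      intro h hcomm
      obtain ⟨z, hz, hzω⟩ := trans Z hZn hZne ω₀ hω₀ (h • ω₀) (MulAction.mem_orbit ω₀ h)
      have h1 : z⁻¹ * h = 1 := by
        refine semi Z hZn hZne (z⁻¹ * h) ?_ ω₀ hω₀ ?_
        · intro n hn
          calc z⁻¹ * h * n = z⁻¹ * (h * n) := by group
            _ = z⁻¹ * (n * h) := by rw [hcomm n hn]
            _ = (z⁻¹ * n) * h := by group
            _ = (n * z⁻¹) * h := by
                rw [(Commute.inv_left (hZab z hz n hn) : z⁻¹ * n = n * z⁻¹)]
            _ = n * (z⁻¹ * h) := by group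
        · rw [mul_smul, inv_smul_eq_iff]
          exact hzω.symm
      have h2 : h = z := by
        calc h = z * (z⁻¹ * h) := by group
          _ = z := by rw [h1, mul_one]
      rw [h2]; exact hz
    have hAZ : ∀ a ∈ Cfsg.fittingSubgroup S, a ∈ Z := fun a ha =>
      hCZ a (fun z hz => ((hZmem z).1 hz).2 a ha)
    have hAab : ∀ a ∈ Cfsg.fittingSubgroup S, ∀ b ∈ Cfsg.fittingSubgroup S, a * b = b * a :=
      fun a ha b hb => ((hZmem b).1 (hAZ b hb)).2 a ha
    have hCA : ∀ h : S, (∀ a ∈ Cfsg.fittingSubgroup S, h * a = a * h) →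
        h ∈ Cfsg.fittingSubgroup S :=
      fun h hh => ((hZmem h).1 (hCZ h (fun z hz => hh z ((hZmem z).1 hz).1))).1
    have hAsemi : ∀ a ∈ Cfsg.fittingSubgroup S, ∀ ω : Ω, ω ≠ α → a • ω = ω → a = 1 :=
      fun a ha ω hω hfix => semi _ hAn hA a (fun n hn => hAab a ha n hn) ω hω hfix
    -- a prime `p` and the elements of order dividing `p`
    have hcard1 : Nat.card (Cfsg.fittingSubgroup S) ≠ 1 := fun h1 => hA (Subgroup.card_eq_one.1 h1)
    obtain ⟨p, hp, hpd⟩ := Nat.exists_prime_and_dvd hcard1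
    haveI : Fact p.Prime := ⟨hp⟩
    obtain ⟨c, hc⟩ := exists_prime_orderOf_dvd_card' (G := Cfsg.fittingSubgroup S) p hpd
    obtain ⟨W, hWmem⟩ : ∃ W : Subgroup S, ∀ w : S, w ∈ W ↔
        w ∈ Cfsg.fittingSubgroup S ∧ w ^ p = 1 :=
      ⟨{ carrier := {w | w ∈ Cfsg.fittingSubgroup S ∧ w ^ p = 1}
         one_mem' := ⟨Subgroup.one_mem _, one_pow p⟩
         mul_mem' := fun {x y} hx hy => ⟨Subgroup.mul_mem _ hx.1 hy.1, by
           rw [(show Commute x y from hAab x hx.1 y hy.1).mul_pow, hx.2, hy.2, one_mul]⟩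
         inv_mem' := fun {x} hx => ⟨Subgroup.inv_mem _ hx.1, by rw [inv_pow, hx.2, inv_one]⟩ },
       fun w => Iff.rfl⟩
    have hWn : W.Normal := ⟨fun w hw g => by
      rw [hWmem] at hw ⊢
      refine ⟨hAn.conj_mem w hw.1 g, ?_⟩
      rw [conj_pow, hw.2, mul_one, mul_inv_cancel]⟩
    have hWne : W ≠ ⊥ := by
      intro hWb
      have hcW : (c : S) ∈ W := by
        rw [hWmem]
        refine ⟨c.2, ?_⟩
        have h1 : c ^ p = 1 := by rw [← hc]; exact pow_orderOf_eq_one c
        simpa using congrArg Subtype.val h1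
      rw [hWb, Subgroup.mem_bot] at hcW
      have hc1 : c = 1 := Subtype.ext hcW
      rw [hc1, orderOf_one] at hc
      exact hp.one_lt.ne hc
    have hexp : ∀ x ∈ Cfsg.fittingSubgroup S, x ^ p = 1 := by
      intro a ha
      obtain ⟨b, hb, hbω⟩ := trans W hWn hWne ω₀ hω₀ (a • ω₀) (MulAction.mem_orbit ω₀ a)
      have hbA := ((hWmem b).1 hb).1
      have h1 : b⁻¹ * a = 1 :=
        hAsemi (b⁻¹ * a) (Subgroup.mul_mem _ (Subgroup.inv_mem _ hbA) ha) ω₀ hω₀
          (by rw [mul_smul, inv_smul_eq_iff]; exact hbω.symm)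
      have h2 : a = b := by
        calc a = b * (b⁻¹ * a) := by group
          _ = b := by rw [h1, mul_one]
      rw [h2]; exact ((hWmem b).1 hb).2
    have hpg : IsPGroup p (Cfsg.fittingSubgroup S) := fun g => ⟨1, by
      rw [pow_one]
      exact Subtype.ext (by simpa using hexp g.1 g.2)⟩
    obtain ⟨e, he⟩ := IsPGroup.iff_card.1 hpg
    refine ⟨⟨⟨fun a b => Subtype.ext (hAab a.1 a.2 b.1 b.2)⟩⟩, p, e, hp, he, hexp,
      fun _ => ⟨?_, ?_⟩⟩
    · -- `F(S)` acts freely on `Ω ∖ {α}`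
      rw [← he]
      let T : SubMulAction (Cfsg.fittingSubgroup S) Ω :=
        { carrier := {ω | ω ≠ α}
          smul_mem' := by
            intro a ω hω
            have hω' : ω ≠ α := hω
            show a • ω ≠ α
            intro h
            apply hω'
            have h1 : a • ω = a • α := h.trans (hα (a : S)).symm
            exact smul_left_cancel a h1 }
      have hfree : ∀ t : T, MulAction.stabilizer (Cfsg.fittingSubgroup S) t = ⊥ := by
        intro t
        rw [Subgroup.eq_bot_iff_forall]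
        intro a ha
        have h1 : (a : S) • (t : Ω) = (t : Ω) :=
          congrArg Subtype.val (MulAction.mem_stabilizer_iff.1 ha)
        have ht : (t : Ω) ≠ α := t.2
        exact Subtype.ext (hAsemi a.1 a.2 t.1 ht h1)
      have heq := MulAction.selfEquivOrbitsQuotientProd hfree
      have hc2 : Nat.card T = Nat.card (Quotient (MulAction.orbitRel (Cfsg.fittingSubgroup S) T))
          * Nat.card (Cfsg.fittingSubgroup S) := by
        rw [Nat.card_congr heq, Nat.card_prod]
      have hc3 : Nat.card T = Fintype.card Ω - 1 := by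
        have h1 : Nat.card T = Nat.card {ω : Ω // ¬ (ω = α)} :=
          Nat.card_congr ⟨fun t => ⟨t.1, t.2⟩, fun t => ⟨t.1, t.2⟩, fun _ => rfl, fun _ => rfl⟩
        rw [h1, Nat.card_eq_fintype_card, Fintype.card_subtype_compl, Fintype.card_subtype_eq]
      rw [← hc3, hc2]
      exact Dvd.intro_left _ rfl
    · -- the conjugation representation on `F(S)`
      haveI := hAn
      obtain ⟨φ, hφ⟩ := gl_of_elem (S := S) (A := Cfsg.fittingSubgroup S) p e
        (fun a b => Subtype.ext (hAab a.1 a.2 b.1 b.2)) he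
        (fun a => Subtype.ext (by simpa using hexp a.1 a.2))
        (MulAut.conjNormal (H := Cfsg.fittingSubgroup S))
      refine ⟨φ, ?_⟩
      ext h
      rw [MonoidHom.mem_ker, hφ]
      constructor
      · intro h1
        apply hCA
        intro a ha
        have h2' : (MulAut.conjNormal h : MulAut (Cfsg.fittingSubgroup S)) ⟨a, ha⟩ = ⟨a, ha⟩ := by
          rw [h1]; rfl
        have h3 : h * a * h⁻¹ = a := by
          simpa [MulAut.conjNormal_apply] using congrArg Subtype.val h2'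
        calc h * a = (h * a * h⁻¹) * h := by group
          _ = a * h := by rw [h3]
      · intro hh
        ext v
        rw [MulAut.conjNormal_apply]
        have h3 := hAab h hh v.1 v.2
        rw [h3, mul_inv_cancel_right]
        rfl

/-- Structure of the point stabilizer in an extremely primitive group. Let G be a finite primitive permutation group on Ω such that each point stabilizer G_α acts primitively on each of its orbits, and suppose G_α is non-trivial and not of prime order. Then Z(G_α) = 1, and the Fitting subgroup F(G_α) is an elementary abelian p-group of order p^e for some prime p; if F(G_α) ≠ 1 then p^e divides |Ω| - 1 and G_α / F(G_α) embeds in GL_e(p). -/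
theorem result {G : Type*} [Group G] [Finite G] {Ω : Type*} [Fintype Ω] [MulAction G Ω] [FaithfulSMul G Ω] (hprim : MulAction.IsPreprimitive G Ω) (hep : ∀ (α : Ω) (ω : Ω), MulAction.IsPreprimitive (MulAction.stabilizer G α) (MulAction.orbit (MulAction.stabilizer G α) ω)) (α : Ω)
    (hH1 : MulAction.stabilizer G α ≠ ⊥) (hHp : ¬ (Nat.card (MulAction.stabilizer G α)).Prime) :
    Subgroup.center (MulAction.stabilizer G α) = ⊥ ∧
    IsMulCommutative (Cfsg.fittingSubgroup (MulAction.stabilizer G α)) ∧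
    ∃ p e : ℕ, p.Prime ∧ Nat.card (Cfsg.fittingSubgroup (MulAction.stabilizer G α)) = p ^ e ∧
      (∀ x ∈ Cfsg.fittingSubgroup (MulAction.stabilizer G α), x ^ p = 1) ∧
      (Cfsg.fittingSubgroup (MulAction.stabilizer G α) ≠ ⊥ →
        p ^ e ∣ Fintype.card Ω - 1 ∧
        ∃ φ : MulAction.stabilizer G α →* GL (Fin e) (ZMod p), φ.ker = Cfsg.fittingSubgroup (MulAction.stabilizer G α)) := by
  classical
  haveI := hprim
  haveI : MulAction.IsPretransitive G Ω := hprim.toIsPretransitive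
  have hHall : ∀ β : Ω, MulAction.stabilizer G β ≠ ⊥ := by
    intro β hβ
    obtain ⟨g, rfl⟩ := MulAction.exists_smul_eq G α β
    apply hH1
    rw [Subgroup.eq_bot_iff_forall] at hβ ⊢
    intro x hx
    have h1 : g * x * g⁻¹ ∈ MulAction.stabilizer G (g • α) := by
      rw [MulAction.mem_stabilizer_iff, mul_smul, mul_smul, inv_smul_smul,
        MulAction.mem_stabilizer_iff.1 hx]
    have h2 := hβ _ h1
    calc x = g⁻¹ * (g * x * g⁻¹) * g := by group
      _ = 1 := by rw [h2]; group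
  obtain ⟨ω₀, hω₀, h₀, hmv⟩ : ∃ ω₀ : Ω, ω₀ ≠ α ∧
      ∃ h₀ : MulAction.stabilizer G α, h₀ • ω₀ ≠ ω₀ := by
    obtain ⟨h₀, hh₀⟩ : ∃ h₀ : MulAction.stabilizer G α, h₀ ≠ 1 := by
      by_contra hcon
      push_neg at hcon
      exact hH1 ((Subgroup.eq_bot_iff_forall _).2 (fun x hx =>
        congrArg Subtype.val (hcon ⟨x, hx⟩)))
    have hex : ∃ ω : Ω, h₀ • ω ≠ ω := by
      by_contra hcon
      push_neg at hcon
      apply hh₀
      apply Subtype.ext
      apply FaithfulSMul.eq_of_smul_eq_smul (α := Ω)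
      intro ω
      rw [Subgroup.coe_one, one_smul]
      exact hcon ω
    obtain ⟨ω, hω⟩ := hex
    refine ⟨ω, ?_, h₀, hω⟩
    intro heq
    apply hω
    rw [heq]
    exact MulAction.mem_stabilizer_iff.1 h₀.2
  exact core (S := ↥(MulAction.stabilizer G α)) α (fun s => MulAction.mem_stabilizer_iff.1 s.2)
    (fun ω hω s hs => Cfsg.Agent.S3494.result hprim hHall hep α ω hω s hs) (hep α) ω₀ hω₀ h₀ hmv hHp

end Cfsg.Agent.S3497
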