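import Cfsg.Statements.S3501
import Cfsg.Agent.Lead.Derange
import Cfsg.Agent.Helper1.Hall
import Mathlib

set_option autoImplicit false
set_option linter.style.haveILetI false
set_option maxHeartbeats 1000000
open Cfsg
open Cfsg.Agent.Lead.Derange

namespace Cfsg.Agent.S3501

theorem card_one_iff {G Ω : Type*} [Group G] [MulAction G Ω] :
    Nat.card {c : ConjClasses G // ∃ g : G, ConjClasses.mk g = c ∧ ∀ ω : Ω, g • ω ≠ ω} = 1 ↔
    ((∃ x : G, ∀ ω : Ω, x • ω ≠ ω) ∧
      ∀ x y : G, (∀ ω : Ω, x • ω ≠ ω) → (∀ ω : Ω, y • ω ≠ ω) → ∃ c : G, c * x * c⁻¹ = y) := by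
  rw [Nat.card_eq_one_iff_unique]
  constructor
  · rintro ⟨hs, ⟨c, g, hg, hd⟩⟩
    refine ⟨⟨g, hd⟩, fun x y hx hy => ?_⟩
    have e := @Subsingleton.elim _ hs ⟨ConjClasses.mk x, x, rfl, hx⟩
      ⟨ConjClasses.mk y, y, rfl, hy⟩
    have e' : ConjClasses.mk x = ConjClasses.mk y := Subtype.ext_iff.1 e
    exact isConj_iff.1 (ConjClasses.mk_eq_mk_iff_isConj.1 e')
  · rintro ⟨⟨x, hx⟩, hall⟩
    refine ⟨⟨?_⟩, ⟨⟨ConjClasses.mk x, x, rfl, hx⟩⟩⟩
    rintro ⟨c, g, rfl, hg⟩ ⟨c', g', rfl, hg'⟩
    apply Subtype.ext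
    exact ConjClasses.mk_eq_mk_iff_isConj.2 (isConj_iff.2 (hall g g' hg hg'))

/-- Let a finite group G act faithfully and primitively on a finite set Ω with at least two points, and suppose G is not almost simple (it has no non-abelian simple normal subgroup with trivial centralizer). Then the derangements of G form a single conjugacy class if and only if G is sharply 2-transitive (2-transitive, and no non-identity element fixes two points). -/
theorem result {G : Type*} [Group G] [Finite G] {Ω : Type*} [Fintype Ω] [MulAction G Ω] [FaithfulSMul G Ω] (hΩ : 2 ≤ Fintype.card Ω) (hprim : MulAction.IsPreprimitive G Ω) (hnas : ¬ ∃ T : Subgroup G, T.Normal ∧ IsSimpleGroup T ∧ ¬ IsMulCommutative T ∧ Subgroup.centralizer (T : Set G) = ⊥) :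
    Nat.card {c : ConjClasses G // ∃ g : G, ConjClasses.mk g = c ∧ ∀ ω : Ω, g • ω ≠ ω} = 1 ↔ (MulAction.IsMultiplyPretransitive G Ω 2 ∧ ∀ g : G, g ≠ 1 → ∀ a b : Ω, a ≠ b → g • a = a → g • b ≠ b) := by
  classical
  rw [card_one_iff]
  have hfa : ∀ g : G, (∀ y : Ω, g • y = y) → g = 1 := fun g hg =>
    FaithfulSMul.eq_of_smul_eq_smul (α := Ω) (fun y => by rw [hg y, one_smul])
  obtain ⟨ω₀, ω₀', hω₀⟩ : ∃ a b : Ω, a ≠ b := Fintype.exists_pair_of_one_lt_card hΩ
  haveI : Nonempty Ω := ⟨ω₀⟩
  haveI : MulAction.IsPretransitive G Ω := hprim.toIsPretransitive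
  have hGtr : ∀ y z : Ω, ∃ g : G, g • y = z := fun y z => MulAction.exists_smul_eq G y z
  constructor
  · -- one class of derangements implies sharply 2-transitive
    rintro ⟨⟨x₀, hx₀⟩, hall⟩
    haveI : Nontrivial G := ⟨⟨x₀, 1, fun h => hx₀ ω₀ (by rw [h, one_smul])⟩⟩
    obtain ⟨N, hNn, hNbot, hNmin⟩ := Cfsg.Agent.Helper1.exists_minimal_normal (G := G)
    haveI := hNn
    have hKtr : ∀ K : Subgroup G, K.Normal → K ≠ ⊥ → MulAction.IsPretransitive K Ω := by
      intro K hK hKbot
      haveI := hK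
      haveI := hprim
      have hfix : MulAction.fixedPoints K Ω ≠ Set.univ := by
        intro h
        apply hKbot
        rw [eq_bot_iff]
        intro m hm
        rw [Subgroup.mem_bot]
        apply hfa
        intro ω
        have hω : ω ∈ MulAction.fixedPoints K Ω := by rw [h]; trivial
        exact hω ⟨m, hm⟩
      exact MulAction.IsQuasiPreprimitive.isPretransitive_of_normal hfix
    have htrans : ∀ K : Subgroup G, K.Normal → K ≠ ⊥ → ∀ y z : Ω, ∃ k ∈ K, k • y = z := by
      intro K hK hKbot y z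
      haveI := hKtr K hK hKbot
      obtain ⟨k, hk⟩ := MulAction.exists_smul_eq K y z
      exact ⟨(k : G), k.2, hk⟩
    have hDin : ∀ K : Subgroup G, K.Normal → K ≠ ⊥ →
        ∀ d : G, (∀ ω : Ω, d • ω ≠ ω) → d ∈ K := by
      intro K hK hKbot d hd
      haveI := hKtr K hK hKbot
      obtain ⟨k, hk⟩ := jordan (K := K) (X := Ω) ⟨ω₀, ω₀', hω₀⟩
      obtain ⟨c, hc⟩ := hall (k : G) d hk hd
      rw [← hc]
      exact hK.conj_mem _ k.2 c
    have hNtr := htrans N hNn hNbot
    have hDN := hDin N hNn hNbot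
    by_cases hNab : ∀ x ∈ N, ∀ y ∈ N, x * y = y * x
    · -- abelian socle
      have hNfree : ∀ n ∈ N, ∀ y : Ω, n • y = y → n = 1 := by
        intro n hn y hy
        apply hfa
        intro z
        obtain ⟨m, hm, hmz⟩ := hNtr y z
        rw [← hmz, ← mul_smul, hNab n hn m hm, mul_smul, hy]
      have hNeq : ∀ n ∈ N, ∀ n' ∈ N, ∀ y : Ω, n • y = n' • y → n = n' := by
        intro n hn n' hn' y hy
        have h0 : (n'⁻¹ * n) • y = y := by rw [mul_smul, hy, inv_smul_smul]
        have h1 := hNfree _ (N.mul_mem (N.inv_mem hn') hn) y h0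
        exact (inv_mul_eq_one.1 h1).symm
      have hND : ∀ n ∈ N, n ≠ 1 → ∀ ω : Ω, n • ω ≠ ω :=
        fun n hn hn1 ω h => hn1 (hNfree n hn ω h)
      have hcent : ∀ g : G, g ≠ 1 → ∀ a : Ω, g • a = a →
          ∀ n ∈ N, g * n * g⁻¹ = n → n = 1 := by
        intro g hg1 a hga n hn hgn
        have hgN : g ∉ N := fun h => hg1 (hNfree g h a hga)
        have hg'a : g⁻¹ • a = a := by rw [inv_smul_eq_iff, hga]
        have hF : ∀ k : N, (k : G) * (g * (k : G) * g⁻¹)⁻¹ ∈ N :=
          fun k => N.mul_mem k.2 (N.inv_mem (hNn.conj_mem _ k.2 g))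
        have hsurj : Function.Surjective
            (fun k : N => (⟨(k : G) * (g * (k : G) * g⁻¹)⁻¹, hF k⟩ : N)) := by
          rintro ⟨m', hm'⟩
          have hmN : g⁻¹ * m' * g ∈ N := by
            have := hNn.conj_mem m' hm' g⁻¹
            rwa [inv_inv] at this
          have hnd : ¬ ∀ ω : Ω, (g * (g⁻¹ * m' * g)) • ω ≠ ω := by
            intro hd
            have h1 := hDN _ hd
            apply hgN
            have h2 := N.mul_mem h1 (N.inv_mem hmN)
            have h3 : g * (g⁻¹ * m' * g) * (g⁻¹ * m' * g)⁻¹ = g := by group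
            rw [h3] at h2; exact h2
          push_neg at hnd
          obtain ⟨ω, hω⟩ := hnd
          obtain ⟨k, hk, hkω⟩ := hNtr a ω
          refine ⟨⟨k, hk⟩, ?_⟩
          apply Subtype.ext
          show k * (g * k * g⁻¹)⁻¹ = m'
          have h4 : (m' * (g * k * g⁻¹)) • a = k • a := by
            have h5 : m' * (g * k * g⁻¹) = (g * (g⁻¹ * m' * g)) * k * g⁻¹ := by group
            rw [h5, mul_smul, mul_smul, hg'a, hkω, hω]
          have h6 := hNeq _ (N.mul_mem hm' (hNn.conj_mem k hk g)) _ hk a h4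
          calc k * (g * k * g⁻¹)⁻¹ = (m' * (g * k * g⁻¹)) * (g * k * g⁻¹)⁻¹ := by rw [h6]
            _ = m' := by group
        have hinj := Finite.injective_iff_surjective.2 hsurj
        have h7 : (⟨n, hn⟩ : N) = 1 := by
          apply hinj
          apply Subtype.ext
          show n * (g * n * g⁻¹)⁻¹ = ((1 : N) : G) * (g * ((1 : N) : G) * g⁻¹)⁻¹
          rw [hgn]
          simp
        exact (Subgroup.mk_eq_one _).1 h7
      refine ⟨MulAction.is_two_pretransitive_iff.2 ?_, ?_⟩
      · intro a b c d hab hcd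
        obtain ⟨g₁, hg₁⟩ := hGtr a c
        have hne : g₁ • b ≠ c := by
          intro h
          rw [← hg₁] at h
          exact hab (smul_left_cancel g₁ h).symm
        obtain ⟨n₁, hn₁, hn₁b⟩ := hNtr c (g₁ • b)
        obtain ⟨n₂, hn₂, hn₂d⟩ := hNtr c d
        have hn₁1 : n₁ ≠ 1 := by
          rintro rfl
          rw [one_smul] at hn₁b
          exact hne hn₁b.symm
        have hn₂1 : n₂ ≠ 1 := by
          rintro rfl
          rw [one_smul] at hn₂d
          exact hcd hn₂d
        obtain ⟨u, hu⟩ := hall n₁ n₂ (hND n₁ hn₁ hn₁1) (hND n₂ hn₂ hn₂1)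
        obtain ⟨m, hm, hmc⟩ := hNtr c (u • c)
        have hh : (m⁻¹ * u) • c = c := by rw [mul_smul, ← hmc, inv_smul_smul]
        have hconj : (m⁻¹ * u) * n₁ * (m⁻¹ * u)⁻¹ = n₂ := by
          have e1 : (m⁻¹ * u) * n₁ * (m⁻¹ * u)⁻¹ = m⁻¹ * (u * n₁ * u⁻¹) * m := by group
          rw [e1, hu]
          have := hNab m⁻¹ (N.inv_mem hm) n₂ hn₂
          rw [this]; group
        refine ⟨(m⁻¹ * u) * g₁, ?_, ?_⟩
        · rw [mul_smul, hg₁, hh]
        · rw [mul_smul, ← hn₁b, ← mul_smul, ← hn₂d]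
          have e2 : (m⁻¹ * u) * n₁ = n₂ * (m⁻¹ * u) := by
            calc (m⁻¹ * u) * n₁ = ((m⁻¹ * u) * n₁ * (m⁻¹ * u)⁻¹) * (m⁻¹ * u) := by group
              _ = n₂ * (m⁻¹ * u) := by rw [hconj]
          rw [e2, mul_smul, hh]
      · intro g hg1 a b hab hga hgb
        obtain ⟨n, hn, hnb⟩ := hNtr a b
        have hn1 : n ≠ 1 := by
          rintro rfl
          rw [one_smul] at hnb
          exact hab hnb
        have hgn : g * n * g⁻¹ = n := by
          apply hNeq _ (hNn.conj_mem n hn g) _ hn a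
          rw [mul_smul, mul_smul, inv_smul_eq_iff.2 hga.symm, hnb, hgb]
        exact hn1 (hcent g hg1 a hga n hn hgn)
    · -- nonabelian socle: impossible
      exfalso
      push_neg at hNab
      obtain ⟨u₁, hu₁, u₂, hu₂, hu₁₂⟩ := hNab
      have hCN : Subgroup.centralizer (N : Set G) = ⊥ := by
        by_contra hC
        have hCn : (Subgroup.centralizer (N : Set G)).Normal := inferInstance
        have h1 := hDin _ hCn hC x₀ hx₀
        have h2 := hDN x₀ hx₀
        haveI := hCn
        have hZn : (N ⊓ Subgroup.centralizer (N : Set G)).Normal := inferInstance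
        rcases hNmin _ hZn inf_le_left with h | h
        · have : x₀ ∈ N ⊓ Subgroup.centralizer (N : Set G) := Subgroup.mem_inf.2 ⟨h2, h1⟩
          rw [h, Subgroup.mem_bot] at this
          exact hx₀ ω₀ (by rw [this, one_smul])
        · have hu₂C : u₂ ∈ Subgroup.centralizer (N : Set G) := by
            have : u₂ ∈ N ⊓ Subgroup.centralizer (N : Set G) := by rw [h]; exact hu₂
            exact (Subgroup.mem_inf.1 this).2
          exact hu₁₂ ((Subgroup.mem_centralizer_iff.1 hu₂C) u₁ hu₁)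
      -- a minimal N-invariant subgroup of N
      obtain ⟨A, -, hAmin⟩ := exists_minimal_le_of_wellFoundedLT
        (fun A : Subgroup G => A ≠ ⊥ ∧ A ≤ N ∧ ∀ n ∈ N, ∀ a ∈ A, n * a * n⁻¹ ∈ A) N
        ⟨hNbot, le_refl N, fun n hn a ha => hNn.conj_mem a ha n⟩
      obtain ⟨hAbot, hAN, hAnorm⟩ := hAmin.prop
      have hAmin' : ∀ A' : Subgroup G, A' ≠ ⊥ → A' ≤ N →
          (∀ n ∈ N, ∀ a ∈ A', n * a * n⁻¹ ∈ A') → A' ≤ A → A ≤ A' :=
        fun A' h1 h2 h3 h4 => hAmin.le_of_le ⟨h1, h2, h3⟩ h4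
      obtain ⟨B, hBmem⟩ : ∃ B : Subgroup G, ∀ x, x ∈ B ↔ x ∈ N ∧ ∀ a ∈ A, a * x = x * a :=
        ⟨N ⊓ Subgroup.centralizer (A : Set G), fun x => by
          simp only [Subgroup.mem_inf, Subgroup.mem_centralizer_iff, SetLike.mem_coe]⟩
      have hBN : B ≤ N := fun x hx => ((hBmem x).1 hx).1
      have hAB : ∀ a ∈ A, ∀ b ∈ B, a * b = b * a := fun a ha b hb => ((hBmem b).1 hb).2 a ha
      have hconj : ∀ g : G, (∀ a ∈ A, g * a * g⁻¹ ∈ A) ∨ (∀ a ∈ A, g * a * g⁻¹ ∈ B) := by
        intro g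
        obtain ⟨A', hA'⟩ : ∃ A' : Subgroup G, ∀ x, x ∈ A' ↔ g⁻¹ * x * g ∈ A :=
          ⟨A.comap (MulAut.conj g⁻¹).toMonoidHom, fun x => by
            simp [Subgroup.mem_comap, MulAut.conj_apply]⟩
        have hA'N : A' ≤ N := by
          intro x hx
          have h1 := hAN ((hA' x).1 hx)
          have h2 := hNn.conj_mem _ h1 g
          have h3 : g * (g⁻¹ * x * g) * g⁻¹ = x := by group
          rw [h3] at h2; exact h2
        have hA'norm : ∀ n ∈ N, ∀ a ∈ A', n * a * n⁻¹ ∈ A' := by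
          intro n hn a ha
          rw [hA'] at ha ⊢
          have h1 : g⁻¹ * n * g ∈ N := by
            have := hNn.conj_mem n hn g⁻¹
            rwa [inv_inv] at this
          have h2 := hAnorm _ h1 _ ha
          have h3 : g⁻¹ * (n * a * n⁻¹) * g =
              (g⁻¹ * n * g) * (g⁻¹ * a * g) * (g⁻¹ * n * g)⁻¹ := by group
          rw [h3]; exact h2
        have hgA' : ∀ a ∈ A, g * a * g⁻¹ ∈ A' := by
          intro a ha
          rw [hA']
          have h3 : g⁻¹ * (g * a * g⁻¹) * g = a := by group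
          rw [h3]; exact ha
        by_cases hI : A ⊓ A' = ⊥
        · right
          intro a ha
          rw [hBmem]
          refine ⟨hA'N (hgA' a ha), fun a₂ ha₂ => ?_⟩
          have hy := hgA' a ha
          have h1 : a₂ * (g * a * g⁻¹) * a₂⁻¹ * (g * a * g⁻¹)⁻¹ ∈ A ⊓ A' := by
            refine Subgroup.mem_inf.2 ⟨?_, ?_⟩
            · have h2 := hAnorm _ (hA'N hy) _ (A.inv_mem ha₂)
              have h3 := A.mul_mem ha₂ h2
              have h4 : a₂ * ((g * a * g⁻¹) * a₂⁻¹ * (g * a * g⁻¹)⁻¹) =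
                  a₂ * (g * a * g⁻¹) * a₂⁻¹ * (g * a * g⁻¹)⁻¹ := by group
              rw [h4] at h3; exact h3
            · have h2 := hA'norm _ (hAN ha₂) _ hy
              exact A'.mul_mem h2 (A'.inv_mem hy)
          rw [hI, Subgroup.mem_bot] at h1
          calc a₂ * (g * a * g⁻¹)
              = (a₂ * (g * a * g⁻¹) * a₂⁻¹ * (g * a * g⁻¹)⁻¹) * ((g * a * g⁻¹) * a₂) := by group
            _ = (g * a * g⁻¹) * a₂ := by rw [h1, one_mul]
        · left
          have hIA : A ≤ A ⊓ A' := hAmin' _ hI (inf_le_left.trans hAN)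
            (fun n hn a ha => Subgroup.mem_inf.2
              ⟨hAnorm n hn a (Subgroup.mem_inf.1 ha).1, hA'norm n hn a (Subgroup.mem_inf.1 ha).2⟩)
            inf_le_left
          have hAA' : ∀ a ∈ A, g⁻¹ * a * g ∈ A :=
            fun a ha => (hA' a).1 (Subgroup.mem_inf.1 (hIA ha)).2
          have hinj : Function.Injective
              (fun a : A => (⟨g⁻¹ * (a : G) * g, hAA' a a.2⟩ : A)) := by
            intro a a' h
            have h1 : g⁻¹ * (a : G) * g = g⁻¹ * (a' : G) * g := Subtype.ext_iff.1 h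
            apply Subtype.ext
            calc (a : G) = g * (g⁻¹ * (a : G) * g) * g⁻¹ := by group
              _ = g * (g⁻¹ * (a' : G) * g) * g⁻¹ := by rw [h1]
              _ = (a' : G) := by group
          have hsurj := Finite.injective_iff_surjective.1 hinj
          intro a ha
          obtain ⟨a', ha'⟩ := hsurj ⟨a, ha⟩
          have h1 : g⁻¹ * (a' : G) * g = a := Subtype.ext_iff.1 ha'
          have h2 : g * a * g⁻¹ = (a' : G) := by rw [← h1]; group
          rw [h2]; exact a'.2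
      have hprod : ∀ n ∈ N, ∃ a ∈ A, ∃ b ∈ B, n = a * b := by
        obtain ⟨P, hP⟩ : ∃ P : Subgroup G, ∀ x, x ∈ P ↔ ∃ a ∈ A, ∃ b ∈ B, x = a * b :=
          ⟨{ carrier := {x | ∃ a ∈ A, ∃ b ∈ B, x = a * b}
             one_mem' := ⟨1, A.one_mem, 1, B.one_mem, (mul_one 1).symm⟩
             mul_mem' := by
               rintro x y ⟨a, ha, b, hb, rfl⟩ ⟨a', ha', b', hb', rfl⟩
               refine ⟨a * a', A.mul_mem ha ha', b * b', B.mul_mem hb hb', ?_⟩
               calc a * b * (a' * b') = a * (b * a') * b' := by group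
                 _ = a * (a' * b) * b' := by rw [hAB a' ha' b hb]
                 _ = a * a' * (b * b') := by group
             inv_mem' := by
               rintro x ⟨a, ha, b, hb, rfl⟩
               refine ⟨a⁻¹, A.inv_mem ha, b⁻¹, B.inv_mem hb, ?_⟩
               calc (a * b)⁻¹ = b⁻¹ * a⁻¹ := by group
                 _ = a⁻¹ * b⁻¹ := (hAB a⁻¹ (A.inv_mem ha) b⁻¹ (B.inv_mem hb)).symm },
            fun x => Iff.rfl⟩
        have hcl : Subgroup.normalClosure (A : Set G) ≤ P := by
          show Subgroup.closure (Group.conjugatesOfSet (A : Set G)) ≤ P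
          rw [Subgroup.closure_le]
          intro x hx
          obtain ⟨a, ha, hconj'⟩ := Group.mem_conjugatesOfSet_iff.1 hx
          obtain ⟨c, hc⟩ := isConj_iff.1 hconj'
          rw [← hc]
          rcases hconj c with h | h
          · exact (hP _).2 ⟨_, h a ha, 1, B.one_mem, (mul_one _).symm⟩
          · exact (hP _).2 ⟨1, A.one_mem, _, h a ha, (one_mul _).symm⟩
        have hncl : Subgroup.normalClosure (A : Set G) = N := by
          rcases hNmin _ Subgroup.normalClosure_normal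
            (Subgroup.normalClosure_le_normal (fun x hx => hAN hx)) with h | h
          · exfalso
            apply hAbot
            rw [eq_bot_iff, ← h]
            exact Subgroup.le_normalClosure
          · exact h
        intro n hn
        have : n ∈ Subgroup.normalClosure (A : Set G) := by rw [hncl]; exact hn
        exact (hP n).1 (hcl this)
      have hBnorm : ∀ n ∈ N, ∀ b ∈ B, n * b * n⁻¹ ∈ B := by
        intro n hn b hb
        rw [hBmem]
        refine ⟨hNn.conj_mem b (hBN hb) n, fun a ha => ?_⟩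
        have h1 : n⁻¹ * a * n ∈ A := by
          have := hAnorm n⁻¹ (N.inv_mem hn) a ha
          rwa [inv_inv] at this
        have h2 := hAB _ h1 b hb
        calc a * (n * b * n⁻¹) = n * ((n⁻¹ * a * n) * b) * n⁻¹ := by group
          _ = n * (b * (n⁻¹ * a * n)) * n⁻¹ := by rw [h2]
          _ = (n * b * n⁻¹) * a := by group
      have hdisj : ∀ x, x ∈ A → x ∈ B → x = 1 := by
        intro x hxA hxB
        by_contra hx1
        have hZbot : A ⊓ B ≠ ⊥ := fun h => hx1 (by
          have : x ∈ A ⊓ B := Subgroup.mem_inf.2 ⟨hxA, hxB⟩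
          rw [h, Subgroup.mem_bot] at this
          exact this)
        have hZA : A ≤ A ⊓ B := hAmin' _ hZbot (inf_le_left.trans hAN)
          (fun n hn a ha => Subgroup.mem_inf.2
            ⟨hAnorm n hn a (Subgroup.mem_inf.1 ha).1, hBnorm n hn a (Subgroup.mem_inf.1 ha).2⟩)
          inf_le_left
        have hAB' : ∀ a ∈ A, a ∈ B := fun a ha => (Subgroup.mem_inf.1 (hZA ha)).2
        obtain ⟨a₁, ha₁⟩ := (Subgroup.ne_bot_iff_exists_ne_one).1 hAbot
        have hc : (a₁ : G) ∈ Subgroup.centralizer (N : Set G) := by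
          rw [Subgroup.mem_centralizer_iff]
          intro n hn
          obtain ⟨a, ha, b, hb, rfl⟩ := hprod n hn
          have e1 : a * (a₁ : G) = (a₁ : G) * a := hAB a ha _ (hAB' _ a₁.2)
          have e2 : (a₁ : G) * b = b * (a₁ : G) := hAB _ a₁.2 b hb
          calc a * b * (a₁ : G) = a * (b * (a₁ : G)) := by group
            _ = a * ((a₁ : G) * b) := by rw [e2]
            _ = (a * (a₁ : G)) * b := by group
            _ = ((a₁ : G) * a) * b := by rw [e1]
            _ = (a₁ : G) * (a * b) := by group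
        rw [hCN, Subgroup.mem_bot] at hc
        exact ha₁ (Subtype.ext hc)
      obtain ⟨b₀, hb₀B, hb₀1⟩ : ∃ b ∈ B, b ≠ 1 := by
        by_contra hcon
        push_neg at hcon
        have hNA : ∀ n ∈ N, n ∈ A := by
          intro n hn
          obtain ⟨a, ha, b, hb, rfl⟩ := hprod n hn
          rw [hcon b hb, mul_one]; exact ha
        apply hnas
        refine ⟨N, hNn, ?_, ?_, hCN⟩
        · refine { exists_pair_ne := ⟨⟨u₁, hu₁⟩, ⟨u₂, hu₂⟩, fun h => hu₁₂ (by
                      have e : u₁ = u₂ := Subtype.ext_iff.1 h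
                      rw [e])⟩
                   eq_bot_or_eq_top_of_normal := fun K hK => ?_ }
          by_cases hKbot : K = ⊥
          · exact Or.inl hKbot
          · right
            obtain ⟨k₁, hk₁⟩ := (Subgroup.ne_bot_iff_exists_ne_one).1 hKbot
            have h1 : K.map N.subtype ≠ ⊥ := by
              intro h
              have : ((k₁ : N) : G) ∈ K.map N.subtype := ⟨(k₁ : N), k₁.2, rfl⟩
              rw [h, Subgroup.mem_bot] at this
              exact hk₁ (Subtype.ext (Subtype.ext this))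
            have h2 : K.map N.subtype ≤ N := by
              rintro _ ⟨k, -, rfl⟩
              exact k.2
            have h3 : ∀ n ∈ N, ∀ a ∈ K.map N.subtype, n * a * n⁻¹ ∈ K.map N.subtype := by
              rintro n hn _ ⟨k, hk, rfl⟩
              exact ⟨⟨n, hn⟩ * k * ⟨n, hn⟩⁻¹, hK.conj_mem k hk ⟨n, hn⟩, rfl⟩
            have h4 : A ≤ K.map N.subtype := hAmin' _ h1 h2 h3 (fun x hx => hNA x (h2 hx))
            rw [Subgroup.eq_top_iff']
            intro k
            obtain ⟨k', hk', hkk⟩ := h4 (hNA _ k.2)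
            have : k' = k := Subtype.ext hkk
            rw [← this]; exact hk'
        · intro hcomm
          exact hu₁₂ (Subtype.ext_iff.1 (hcomm.1.1 ⟨u₁, hu₁⟩ ⟨u₂, hu₂⟩))
      obtain ⟨a₀, ha₀A, ha₀1⟩ : ∃ a ∈ A, a ≠ 1 := by
        obtain ⟨a, ha⟩ := (Subgroup.ne_bot_iff_exists_ne_one).1 hAbot
        exact ⟨(a : G), a.2, fun h => ha (Subtype.ext h)⟩
      obtain ⟨⟨aD, haD, haDder⟩, hSB⟩ := pair_lemma hfa N A B hAB hprod hNtr ⟨a₀, ha₀A, ha₀1⟩
      have hBA : ∀ b ∈ B, ∀ a ∈ A, b * a = a * b := fun b hb a ha => (hAB a ha b hb).symm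
      have hprod' : ∀ n ∈ N, ∃ b ∈ B, ∃ a ∈ A, n = b * a := by
        intro n hn
        obtain ⟨a, ha, b, hb, rfl⟩ := hprod n hn
        exact ⟨b, hb, a, ha, hAB a ha b hb⟩
      obtain ⟨-, hSA⟩ := pair_lemma hfa N B A hBA hprod' hNtr ⟨b₀, hb₀B, hb₀1⟩
      have hDAB : ∀ d : G, (∀ ω : Ω, d • ω ≠ ω) → d ∈ A ∨ d ∈ B := by
        intro d hd
        obtain ⟨c, hc⟩ := hall aD d haDder hd
        rw [← hc]
        rcases hconj c with h | h
        · exact Or.inl (h aD haD)
        · exact Or.inr (h aD haD)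
      have hfixAB : ∀ a ∈ A, ∀ b ∈ B, a ≠ 1 → b ≠ 1 → ∃ ω : Ω, (a * b) • ω = ω := by
        intro a ha b hb ha1 hb1
        by_contra hcon
        push_neg at hcon
        rcases hDAB _ hcon with h | h
        · apply hb1
          refine hdisj b ?_ hb
          have := A.mul_mem (A.inv_mem ha) h
          rwa [inv_mul_cancel_left] at this
        · apply ha1
          refine hdisj a ha ?_
          have := B.mul_mem h (B.inv_mem hb)
          rwa [mul_inv_cancel_right] at this
      have hfixBA : ∀ b ∈ B, ∀ a ∈ A, b ≠ 1 → a ≠ 1 → ∃ ω : Ω, (b * a) • ω = ω := by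
        intro b hb a ha hb1 ha1
        rw [hBA b hb a ha]
        exact hfixAB a ha b hb ha1 hb1
      have hSB' := hSB hfixAB
      have hSA' := hSA hfixBA
      have hord : ∀ a ∈ A, ∀ b ∈ B, a ≠ 1 → b ≠ 1 → orderOf a = orderOf b := by
        intro a ha b hb ha1 hb1
        obtain ⟨ω, hω⟩ := hfixAB a ha b hb ha1 hb1
        have hpow : ∀ m : ℕ, (a ^ m * b ^ m) • ω = ω := by
          intro m
          have h1 : (a * b) ^ m = a ^ m * b ^ m := Commute.mul_pow (hAB a ha b hb) m
          rw [← h1]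
          exact MulAction.mem_stabilizer_iff.1
            (Subgroup.pow_mem _ (MulAction.mem_stabilizer_iff.2 hω) _)
        apply Nat.dvd_antisymm
        · apply orderOf_dvd_of_pow_eq_one
          have h1 := hpow (orderOf b)
          rw [pow_orderOf_eq_one, mul_one] at h1
          exact hSA' ω _ (A.pow_mem ha _) h1
        · apply orderOf_dvd_of_pow_eq_one
          have h1 := hpow (orderOf a)
          rw [pow_orderOf_eq_one, one_mul] at h1
          exact hSB' ω _ (B.pow_mem hb _) h1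
      have hb₀ord : orderOf b₀ ≠ 1 := fun h => hb₀1 (orderOf_eq_one_iff.1 h)
      obtain ⟨p, hpdef⟩ : ∃ p : ℕ, p = (orderOf b₀).minFac := ⟨_, rfl⟩
      have hpp : p.Prime := by rw [hpdef]; exact Nat.minFac_prime hb₀ord
      have hpd : p ∣ orderOf b₀ := by rw [hpdef]; exact Nat.minFac_dvd _
      have hcord : orderOf (b₀ ^ (orderOf b₀ / p)) = p :=
        orderOf_pow_orderOf_div (orderOf_pos b₀).ne' hpd
      have hc1 : b₀ ^ (orderOf b₀ / p) ≠ 1 := by
        intro h
        rw [h, orderOf_one] at hcord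
        exact hpp.one_lt.ne hcord
      have hAp : ∀ a ∈ A, a ^ p = 1 := by
        intro a ha
        by_cases ha1 : a = 1
        · rw [ha1, one_pow]
        · have h1 := hord a ha _ (B.pow_mem hb₀B _) ha1 hc1
          rw [hcord] at h1
          rw [← h1]; exact pow_orderOf_eq_one a
      haveI : Fact p.Prime := ⟨hpp⟩
      have hPG : IsPGroup p A := by
        intro a
        refine ⟨1, ?_⟩
        rw [pow_one]
        apply Subtype.ext
        rw [Subgroup.coe_pow]
        exact hAp a a.2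
      haveI : Nontrivial A := ⟨⟨⟨a₀, ha₀A⟩, 1, fun h => ha₀1 (Subtype.ext_iff.1 h)⟩⟩
      haveI := hPG.center_nontrivial
      obtain ⟨z, hz⟩ := exists_ne (1 : Subgroup.center A)
      have hzB : ((z : A) : G) ∈ B := by
        rw [hBmem]
        refine ⟨hAN (z : A).2, fun a ha => ?_⟩
        have h1 := (Subgroup.mem_center_iff.1 z.2) ⟨a, ha⟩
        exact Subtype.ext_iff.1 h1
      have hz1 := hdisj _ (z : A).2 hzB
      exact hz (Subtype.ext (Subtype.ext hz1))
  · -- sharply 2-transitive implies one class of derangements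
    rintro ⟨h2, hfrob⟩
    have h2' : ∀ a b c d : Ω, a ≠ b → c ≠ d → ∃ g : G, g • a = c ∧ g • b = d :=
      fun a b c d hab hcd => MulAction.is_two_pretransitive_iff.1 h2 hab hcd
    have hcount := count_der (K := G) (X := Ω) hfrob
    obtain ⟨H, hHmem⟩ : ∃ H : Subgroup G, ∀ g, g ∈ H ↔ g • ω₀ = ω₀ :=
      ⟨MulAction.stabilizer G ω₀, fun g => MulAction.mem_stabilizer_iff⟩
    have hne : ∀ h : H, (h : G) • ω₀' ≠ ω₀ := by
      intro h heq
      have h1 : (h : G) • ω₀ = ω₀ := (hHmem _).1 h.2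
      exact hω₀ (smul_left_cancel (h : G) (h1.trans heq.symm))
    have hHcard : Nat.card H + 1 = Nat.card Ω := by
      have e : Nat.card H = Nat.card {ω : Ω // ω ≠ ω₀} := by
        apply Nat.card_eq_of_bijective
          (fun h : H => (⟨(h : G) • ω₀', hne h⟩ : {ω : Ω // ω ≠ ω₀}))
        constructor
        · intro h h' hh
          have e1 : (h : G) • ω₀' = (h' : G) • ω₀' := Subtype.ext_iff.1 hh
          have e2 : ((h' : G)⁻¹ * (h : G)) • ω₀' = ω₀' := by rw [mul_smul, e1, inv_smul_smul]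
          have e3 : ((h' : G)⁻¹ * (h : G)) • ω₀ = ω₀ :=
            (hHmem _).1 (H.mul_mem (H.inv_mem h'.2) h.2)
          by_contra hne'
          have h4 : (h' : G)⁻¹ * (h : G) ≠ 1 :=
            fun h5 => hne' (Subtype.ext (inv_mul_eq_one.1 h5).symm)
          exact hfrob _ h4 ω₀ ω₀' hω₀ e3 e2
        · rintro ⟨ω, hω⟩
          obtain ⟨g, hg1, hg2⟩ := h2' ω₀ ω₀' ω₀ ω hω₀ (Ne.symm hω)
          exact ⟨⟨g, (hHmem g).2 hg1⟩, Subtype.ext hg2⟩
      rw [e, ← Finite.card_option]
      exact Nat.card_congr (Equiv.optionSubtypeNe ω₀)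
    refine ⟨?_, ?_⟩
    · by_contra hcon
      haveI : IsEmpty {k : G // ∀ x : Ω, k • x ≠ x} := ⟨fun k => hcon ⟨k.1, k.2⟩⟩
      have h0 : Nat.card {k : G // ∀ x : Ω, k • x ≠ x} = 0 := Nat.card_of_isEmpty
      have hn : Nat.card Ω = Fintype.card Ω := Nat.card_eq_fintype_card
      omega
    · intro x y hx hy
      have hmap : ∀ h : H, ∀ ω : Ω, ((h : G) * x * (h : G)⁻¹) • ω ≠ ω := by
        intro h ω hfix
        apply hx ((h : G)⁻¹ • ω)
        rw [mul_smul, mul_smul] at hfix
        have := congrArg (fun z => (h : G)⁻¹ • z) hfix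
        simpa using this
      have hinj : Function.Injective (fun h : H =>
          (⟨(h : G) * x * (h : G)⁻¹, hmap h⟩ : {k : G // ∀ ω : Ω, k • ω ≠ ω})) := by
        intro h h' hh
        have e1 : (h : G) * x * (h : G)⁻¹ = (h' : G) * x * (h' : G)⁻¹ := Subtype.ext_iff.1 hh
        have e2 : ((h' : G)⁻¹ * (h : G)) * x = x * ((h' : G)⁻¹ * (h : G)) := by
          calc ((h' : G)⁻¹ * (h : G)) * x
              = (h' : G)⁻¹ * ((h : G) * x * (h : G)⁻¹) * (h : G) := by group
            _ = (h' : G)⁻¹ * ((h' : G) * x * (h' : G)⁻¹) * (h : G) := by rw [e1]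
            _ = x * ((h' : G)⁻¹ * (h : G)) := by group
        have e3 : ((h' : G)⁻¹ * (h : G)) • ω₀ = ω₀ :=
          (hHmem _).1 (H.mul_mem (H.inv_mem h'.2) h.2)
        have e4 : ((h' : G)⁻¹ * (h : G)) • (x • ω₀) = x • ω₀ := by
          rw [← mul_smul, e2, mul_smul, e3]
        by_contra hne'
        have h4 : (h' : G)⁻¹ * (h : G) ≠ 1 :=
          fun h5 => hne' (Subtype.ext (inv_mul_eq_one.1 h5).symm)
        exact hfrob _ h4 ω₀ (x • ω₀) (Ne.symm (hx ω₀)) e3 e4
      have hbij := hinj.bijective_of_nat_card_le (by omega)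
      obtain ⟨h, hh⟩ := hbij.2 ⟨y, hy⟩
      exact ⟨(h : G), Subtype.ext_iff.1 hh⟩

end Cfsg.Agent.S3501
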