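import Cfsg.Statements.S3520
import Cfsg.Agent.Lead.Derange
import Cfsg.Agent.Lead.Derange2
import Cfsg.Agent.Helper1.Hall
import Mathlib

set_option autoImplicit false
set_option linter.style.haveILetI false
set_option maxHeartbeats 1000000
open Cfsg
open Cfsg.Agent.Lead.Derange
open Cfsg.Agent.Lead.Derange2

namespace Cfsg.Agent.S3520

/-- Let a finite group G act faithfully and primitively on a finite set Ω with at least two points, suppose G is not almost simple (no non-abelian simple normal subgroup with trivial centralizer), and suppose the derangements of G form exactly two conjugacy classes. Then either Ω has 3 points and G has order 3; or G has a non-trivial abelian normal subgroup N acting regularly, every non-identity element of G fixes at most one point (so, when n > 3, G is a Frobenius group with kernel N), the number n of points is odd and a point stabilizer has order (n − 1)/2; or G is 2-transitive with a non-trivial abelian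 regular normal subgroup and some non-identity element fixes at least two points (a non-Frobenius 2-transitive affine group). -/
theorem result {G : Type*} [Group G] [Finite G] {Ω : Type*} [Fintype Ω] [MulAction G Ω] [FaithfulSMul G Ω] (hΩ : 2 ≤ Fintype.card Ω) (hprim : MulAction.IsPreprimitive G Ω) (hnas : ¬ ∃ T : Subgroup G, T.Normal ∧ IsSimpleGroup T ∧ ¬ IsMulCommutative T ∧ Subgroup.centralizer (T : Set G) = ⊥)
    (hκ : Nat.card {c : ConjClasses G // ∃ g : G, ConjClasses.mk g = c ∧ ∀ ω : Ω, g • ω ≠ ω} = 2) (α : Ω) :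
    (Fintype.card Ω = 3 ∧ Nat.card G = 3) ∨
    ((∃ N : Subgroup G, N.Normal ∧ N ≠ ⊥ ∧ IsMulCommutative N ∧ ∀ ω : Ω, MulAction.stabilizer N ω = ⊥) ∧ (∀ g : G, g ≠ 1 → Nat.card (MulAction.fixedBy Ω g) ≤ 1) ∧ ¬ 2 ∣ Fintype.card Ω ∧
        2 * Nat.card (MulAction.stabilizer G α) = Fintype.card Ω - 1) ∨
    ((∃ N : Subgroup G, N.Normal ∧ N ≠ ⊥ ∧ IsMulCommutative N ∧ ∀ ω : Ω, MulAction.stabilizer N ω = ⊥) ∧ MulAction.IsMultiplyPretransitive G Ω 2 ∧ ∃ g : G, g ≠ 1 ∧ 2 ≤ Nat.card (MulAction.fixedBy Ω g)) := by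
  classical
  have hfa : ∀ g : G, (∀ y : Ω, g • y = y) → g = 1 := fun g hg =>
    FaithfulSMul.eq_of_smul_eq_smul (α := Ω) (fun y => by rw [hg y, one_smul])
  obtain ⟨ω₀, ω₀', hω₀⟩ : ∃ a b : Ω, a ≠ b := Fintype.exists_pair_of_one_lt_card hΩ
  haveI : Nonempty Ω := ⟨ω₀⟩
  haveI : MulAction.IsPretransitive G Ω := hprim.toIsPretransitive
  have hGtr : ∀ y z : Ω, ∃ g : G, g • y = z := fun y z => MulAction.exists_smul_eq G y z
  obtain ⟨⟨_, d₁, rfl, hd₁⟩, ⟨_, d₂, rfl, hd₂⟩, hne12, huniv⟩ := Nat.card_eq_two_iff.1 hκ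
  have hcls : ∀ x : G, (∀ ω : Ω, x • ω ≠ ω) →
      (∃ c : G, c * d₁ * c⁻¹ = x) ∨ (∃ c : G, c * d₂ * c⁻¹ = x) := by
    intro x hx
    have hmem := Set.mem_univ (⟨ConjClasses.mk x, x, rfl, hx⟩ :
      {c : ConjClasses G // ∃ g : G, ConjClasses.mk g = c ∧ ∀ ω : Ω, g • ω ≠ ω})
    rw [← huniv, Set.mem_insert_iff, Set.mem_singleton_iff] at hmem
    rcases hmem with h | h
    · left
      have e : ConjClasses.mk x = ConjClasses.mk d₁ := Subtype.ext_iff.1 h
      exact isConj_iff.1 (ConjClasses.mk_eq_mk_iff_isConj.1 e.symm)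
    · right
      have e : ConjClasses.mk x = ConjClasses.mk d₂ := Subtype.ext_iff.1 h
      exact isConj_iff.1 (ConjClasses.mk_eq_mk_iff_isConj.1 e.symm)
  have hnc : ¬ ∃ c : G, c * d₁ * c⁻¹ = d₂ := by
    rintro ⟨c, hc⟩
    apply hne12
    apply Subtype.ext
    exact ConjClasses.mk_eq_mk_iff_isConj.2 (isConj_iff.2 ⟨c, hc⟩)
  have csymm : ∀ x y : G, (∃ c : G, c * x * c⁻¹ = y) → ∃ c : G, c * y * c⁻¹ = x := by
    rintro x y ⟨c, rfl⟩
    exact ⟨c⁻¹, by group⟩
  have ctrans : ∀ x y z : G, (∃ c : G, c * x * c⁻¹ = y) → (∃ c : G, c * y * c⁻¹ = z) →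
      ∃ c : G, c * x * c⁻¹ = z := by
    rintro x y z ⟨c, rfl⟩ ⟨c', rfl⟩
    exact ⟨c' * c, by group⟩
  have h3 : ∀ x y z : G, (∀ ω : Ω, x • ω ≠ ω) → (∀ ω : Ω, y • ω ≠ ω) → (∀ ω : Ω, z • ω ≠ ω) →
      (∃ c : G, c * x * c⁻¹ = y) ∨ (∃ c : G, c * x * c⁻¹ = z) ∨ (∃ c : G, c * y * c⁻¹ = z) := by
    intro x y z hx hy hz
    rcases hcls x hx with k1 | k1 <;> rcases hcls y hy with k2 | k2 <;>
      rcases hcls z hz with k3 | k3
    · exact Or.inl (ctrans _ _ _ (csymm _ _ k1) k2)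
    · exact Or.inl (ctrans _ _ _ (csymm _ _ k1) k2)
    · exact Or.inr (Or.inl (ctrans _ _ _ (csymm _ _ k1) k3))
    · exact Or.inr (Or.inr (ctrans _ _ _ (csymm _ _ k2) k3))
    · exact Or.inr (Or.inr (ctrans _ _ _ (csymm _ _ k2) k3))
    · exact Or.inr (Or.inl (ctrans _ _ _ (csymm _ _ k1) k3))
    · exact Or.inl (ctrans _ _ _ (csymm _ _ k1) k2)
    · exact Or.inl (ctrans _ _ _ (csymm _ _ k1) k2)
  haveI : Nontrivial G := ⟨⟨d₁, 1, fun h => hd₁ ω₀ (by rw [h, one_smul])⟩⟩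
  obtain ⟨N, hNn, hNbot, hNmin⟩ := Cfsg.Agent.Helper1.exists_minimal_normal (G := G)
  haveI := hNn
  have hKtr : ∀ K : Subgroup G, K.Normal → K ≠ ⊥ → MulAction.IsPretransitive K Ω := by
    intro K hK hKbot
    haveI := hK
    haveI := hprim
    have hfix : MulAction.fixedPoints K Ω ≠ Set.univ := by
      intro h
      apply hKbot
      rw [eq_bot_iff]
      intro m hm
      rw [Subgroup.mem_bot]
      apply hfa
      intro ω
      have hω : ω ∈ MulAction.fixedPoints K Ω := by rw [h]; trivial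
      exact hω ⟨m, hm⟩
    exact MulAction.IsQuasiPreprimitive.isPretransitive_of_normal hfix
  have htrans : ∀ K : Subgroup G, K.Normal → K ≠ ⊥ → ∀ y z : Ω, ∃ k ∈ K, k • y = z := by
    intro K hK hKbot y z
    haveI := hKtr K hK hKbot
    obtain ⟨k, hk⟩ := MulAction.exists_smul_eq K y z
    exact ⟨(k : G), k.2, hk⟩
  have hNtr := htrans N hNn hNbot
  by_cases hNab : ∀ x ∈ N, ∀ y ∈ N, x * y = y * x
  swap
  · exfalso
    push_neg at hNab
    obtain ⟨u₁, hu₁, u₂, hu₂, hu₁₂⟩ := hNab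
    exact nonab_false hfa ω₀ hnas htrans N hNn hNbot hNmin u₁ u₂ hu₁ hu₂ hu₁₂ h3
  have hNfree : ∀ n ∈ N, ∀ y : Ω, n • y = y → n = 1 := by
    intro n hn y hy
    apply hfa
    intro z
    obtain ⟨m, hm, hmz⟩ := hNtr y z
    rw [← hmz, ← mul_smul, hNab n hn m hm, mul_smul, hy]
  have hNeq : ∀ n ∈ N, ∀ n' ∈ N, ∀ y : Ω, n • y = n' • y → n = n' := by
    intro n hn n' hn' y hy
    have h0 : (n'⁻¹ * n) • y = y := by rw [mul_smul, hy, inv_smul_smul]
    have h1 := hNfree _ (N.mul_mem (N.inv_mem hn') hn) y h0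
    exact (inv_mul_eq_one.1 h1).symm
  have hND : ∀ n ∈ N, n ≠ 1 → ∀ ω : Ω, n • ω ≠ ω :=
    fun n hn hn1 ω h => hn1 (hNfree n hn ω h)
  have hNreg : ∃ N : Subgroup G, N.Normal ∧ N ≠ ⊥ ∧ IsMulCommutative N ∧
      ∀ ω : Ω, MulAction.stabilizer N ω = ⊥ := by
    refine ⟨N, hNn, hNbot, ⟨⟨fun x y => Subtype.ext (hNab x x.2 y y.2)⟩⟩, fun ω => ?_⟩
    rw [Subgroup.eq_bot_iff_forall]
    intro n hn
    apply Subtype.ext
    show (n : G) = 1
    exact hNfree n n.2 ω (MulAction.mem_stabilizer_iff.1 hn)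
  have hNcard : Nat.card N = Nat.card Ω := by
    apply Nat.card_eq_of_bijective (fun n : N => (n : G) • α)
    constructor
    · intro n n' h
      exact Subtype.ext (hNeq _ n.2 _ n'.2 α h)
    · intro ω
      obtain ⟨n, hn, hnω⟩ := hNtr α ω
      exact ⟨⟨n, hn⟩, hnω⟩
  have hΩc : Nat.card Ω = Fintype.card Ω := Nat.card_eq_fintype_card
  by_cases hDN : ∀ d : G, (∀ ω : Ω, d • ω ≠ ω) → d ∈ N
  · right; left
    have hcent : ∀ g : G, g ≠ 1 → ∀ a : Ω, g • a = a →
        ∀ n ∈ N, g * n * g⁻¹ = n → n = 1 := by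
      intro g hg1 a hga n hn hgn
      have hgN : g ∉ N := fun h => hg1 (hNfree g h a hga)
      have hg'a : g⁻¹ • a = a := by rw [inv_smul_eq_iff, hga]
      have hF : ∀ k : N, (k : G) * (g * (k : G) * g⁻¹)⁻¹ ∈ N :=
        fun k => N.mul_mem k.2 (N.inv_mem (hNn.conj_mem _ k.2 g))
      have hsurj : Function.Surjective
          (fun k : N => (⟨(k : G) * (g * (k : G) * g⁻¹)⁻¹, hF k⟩ : N)) := by
        rintro ⟨m', hm'⟩
        have hmN : g⁻¹ * m' * g ∈ N := by
          have := hNn.conj_mem m' hm' g⁻¹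
          rwa [inv_inv] at this
        have hnd : ¬ ∀ ω : Ω, (g * (g⁻¹ * m' * g)) • ω ≠ ω := by
          intro hd
          have h1 := hDN _ hd
          apply hgN
          have h2 := N.mul_mem h1 (N.inv_mem hmN)
          have h3 : g * (g⁻¹ * m' * g) * (g⁻¹ * m' * g)⁻¹ = g := by group
          rw [h3] at h2; exact h2
        push_neg at hnd
        obtain ⟨ω, hω⟩ := hnd
        obtain ⟨k, hk, hkω⟩ := hNtr a ω
        refine ⟨⟨k, hk⟩, ?_⟩
        apply Subtype.ext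
        show k * (g * k * g⁻¹)⁻¹ = m'
        have h4 : (m' * (g * k * g⁻¹)) • a = k • a := by
          have h5 : m' * (g * k * g⁻¹) = (g * (g⁻¹ * m' * g)) * k * g⁻¹ := by group
          rw [h5, mul_smul, mul_smul, hg'a, hkω, hω]
        have h6 := hNeq _ (N.mul_mem hm' (hNn.conj_mem k hk g)) _ hk a h4
        calc k * (g * k * g⁻¹)⁻¹ = (m' * (g * k * g⁻¹)) * (g * k * g⁻¹)⁻¹ := by rw [h6]
          _ = m' := by group
      have hinj := Finite.injective_iff_surjective.2 hsurj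
      have h7 : (⟨n, hn⟩ : N) = 1 := by
        apply hinj
        apply Subtype.ext
        show n * (g * n * g⁻¹)⁻¹ = ((1 : N) : G) * (g * ((1 : N) : G) * g⁻¹)⁻¹
        rw [hgn]
        simp
      exact (Subgroup.mk_eq_one _).1 h7
    have hfrob : ∀ g : G, g ≠ 1 → ∀ a b : Ω, a ≠ b → g • a = a → g • b ≠ b := by
      intro g hg1 a b hab hga hgb
      obtain ⟨n, hn, hnb⟩ := hNtr a b
      have hn1 : n ≠ 1 := by
        rintro rfl
        rw [one_smul] at hnb
        exact hab hnb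
      have hgn : g * n * g⁻¹ = n := by
        apply hNeq _ (hNn.conj_mem n hn g) _ hn a
        rw [mul_smul, mul_smul, inv_smul_eq_iff.2 hga.symm, hnb, hgb]
      exact hn1 (hcent g hg1 a hga n hn hgn)
    have hfix1 : ∀ g : G, g ≠ 1 → Nat.card (MulAction.fixedBy Ω g) ≤ 1 := by
      intro g hg
      rw [Finite.card_le_one_iff_subsingleton]
      refine ⟨fun y z => ?_⟩
      by_contra hyz
      exact hfrob g hg y.1 z.1 (fun h => hyz (Subtype.ext h)) y.2 z.2
    have hd₁N : d₁ ∈ N := hDN d₁ hd₁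
    have hd₂N : d₂ ∈ N := hDN d₂ hd₂
    have hd₁1 : d₁ ≠ 1 := fun h => hd₁ ω₀ (by rw [h, one_smul])
    have hd₂1 : d₂ ≠ 1 := fun h => hd₂ ω₀ (by rw [h, one_smul])
    obtain ⟨H, hHeq, hHmem⟩ : ∃ H : Subgroup G, H = MulAction.stabilizer G α ∧
        ∀ g, g ∈ H ↔ g • α = α :=
      ⟨_, rfl, fun g => MulAction.mem_stabilizer_iff⟩
    have key1 : ∀ g : G, ∀ n ∈ N, ∃ h ∈ H, g * n * g⁻¹ = h * n * h⁻¹ := by
      intro g n hn
      obtain ⟨m, hm, hmα⟩ := hNtr α (g • α)
      have hh : m⁻¹ * g ∈ H := by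
        rw [hHmem, mul_smul, ← hmα, inv_smul_smul]
      refine ⟨m⁻¹ * g, hh, ?_⟩
      have h1 : g * n * g⁻¹ ∈ N := hNn.conj_mem n hn g
      have h2 : m⁻¹ * (g * n * g⁻¹) = (g * n * g⁻¹) * m⁻¹ := hNab _ (N.inv_mem hm) _ h1
      calc g * n * g⁻¹ = (m⁻¹ * (g * n * g⁻¹)) * m := by rw [h2]; group
        _ = m⁻¹ * g * n * (m⁻¹ * g)⁻¹ := by group
    have key2 : ∀ d ∈ N, d ≠ 1 → ∀ h ∈ H, ∀ h' ∈ H, h * d * h⁻¹ = h' * d * h'⁻¹ → h = h' := by
      intro d hd hd1 h hh h' hh' heq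
      by_contra hne
      have h4 : h'⁻¹ * h ≠ 1 := fun h5 => hne (inv_mul_eq_one.1 h5).symm
      have e3 : (h'⁻¹ * h) • α = α := (hHmem _).1 (H.mul_mem (H.inv_mem hh') hh)
      have e2 : (h'⁻¹ * h) * d * (h'⁻¹ * h)⁻¹ = d := by
        calc (h'⁻¹ * h) * d * (h'⁻¹ * h)⁻¹ = h'⁻¹ * (h * d * h⁻¹) * h' := by group
          _ = h'⁻¹ * (h' * d * h'⁻¹) * h' := by rw [heq]
          _ = d := by group
      exact hd1 (hcent _ h4 α e3 d hd e2)
    have key3 : ∀ n ∈ N, n ≠ 1 →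
        (∃ h ∈ H, h * d₁ * h⁻¹ = n) ∨ (∃ h ∈ H, h * d₂ * h⁻¹ = n) := by
      intro n hn hn1
      rcases hcls n (hND n hn hn1) with ⟨c, hc⟩ | ⟨c, hc⟩
      · left
        obtain ⟨h, hh, he⟩ := key1 c d₁ hd₁N
        exact ⟨h, hh, by rw [← he, hc]⟩
      · right
        obtain ⟨h, hh, he⟩ := key1 c d₂ hd₂N
        exact ⟨h, hh, by rw [← he, hc]⟩
    have hconjN : ∀ (h : H) (d : G), d ∈ N → (h : G) * d * (h : G)⁻¹ ∈ N :=
      fun h d hd => hNn.conj_mem d hd h
    have hcount : Nat.card N = 2 * Nat.card H + 1 := by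
      have e : Nat.card (Option (H ⊕ H)) = Nat.card N := by
        apply Nat.card_eq_of_bijective (fun o : Option (H ⊕ H) =>
          match o with
          | none => (1 : N)
          | some (Sum.inl h) => (⟨(h : G) * d₁ * (h : G)⁻¹, hconjN h d₁ hd₁N⟩ : N)
          | some (Sum.inr h) => (⟨(h : G) * d₂ * (h : G)⁻¹, hconjN h d₂ hd₂N⟩ : N))
        constructor
        · rintro (_ | (h | h)) (_ | (h' | h')) heq
          · rfl
          · exfalso
            have e1 : (1 : G) = (h' : G) * d₁ * (h' : G)⁻¹ := Subtype.ext_iff.1 heq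
            exact hd₁1 (conj_eq_one_iff.1 e1.symm)
          · exfalso
            have e1 : (1 : G) = (h' : G) * d₂ * (h' : G)⁻¹ := Subtype.ext_iff.1 heq
            exact hd₂1 (conj_eq_one_iff.1 e1.symm)
          · exfalso
            have e1 : (h : G) * d₁ * (h : G)⁻¹ = 1 := Subtype.ext_iff.1 heq
            exact hd₁1 (conj_eq_one_iff.1 e1)
          · have e1 : (h : G) * d₁ * (h : G)⁻¹ = (h' : G) * d₁ * (h' : G)⁻¹ :=
              Subtype.ext_iff.1 heq
            have e2 : h = h' := Subtype.ext (key2 d₁ hd₁N hd₁1 h h.2 h' h'.2 e1)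
            rw [e2]
          · exfalso
            have e1 : (h : G) * d₁ * (h : G)⁻¹ = (h' : G) * d₂ * (h' : G)⁻¹ :=
              Subtype.ext_iff.1 heq
            apply hnc
            refine ⟨(h' : G)⁻¹ * (h : G), ?_⟩
            calc (h' : G)⁻¹ * (h : G) * d₁ * ((h' : G)⁻¹ * (h : G))⁻¹
                = (h' : G)⁻¹ * ((h : G) * d₁ * (h : G)⁻¹) * (h' : G) := by group
              _ = (h' : G)⁻¹ * ((h' : G) * d₂ * (h' : G)⁻¹) * (h' : G) := by rw [e1]
              _ = d₂ := by group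
          · exfalso
            have e1 : (h : G) * d₂ * (h : G)⁻¹ = 1 := Subtype.ext_iff.1 heq
            exact hd₂1 (conj_eq_one_iff.1 e1)
          · exfalso
            have e1 : (h : G) * d₂ * (h : G)⁻¹ = (h' : G) * d₁ * (h' : G)⁻¹ :=
              Subtype.ext_iff.1 heq
            apply hnc
            refine ⟨(h : G)⁻¹ * (h' : G), ?_⟩
            calc (h : G)⁻¹ * (h' : G) * d₁ * ((h : G)⁻¹ * (h' : G))⁻¹
                = (h : G)⁻¹ * ((h' : G) * d₁ * (h' : G)⁻¹) * (h : G) := by group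
              _ = (h : G)⁻¹ * ((h : G) * d₂ * (h : G)⁻¹) * (h : G) := by rw [e1]
              _ = d₂ := by group
          · have e1 : (h : G) * d₂ * (h : G)⁻¹ = (h' : G) * d₂ * (h' : G)⁻¹ :=
              Subtype.ext_iff.1 heq
            have e2 : h = h' := Subtype.ext (key2 d₂ hd₂N hd₂1 h h.2 h' h'.2 e1)
            rw [e2]
        · rintro ⟨n, hn⟩
          by_cases hn1 : n = 1
          · exact ⟨none, Subtype.ext hn1.symm⟩
          · rcases key3 n hn hn1 with ⟨h, hh, he⟩ | ⟨h, hh, he⟩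
            · exact ⟨some (Sum.inl ⟨h, hh⟩), Subtype.ext he⟩
            · exact ⟨some (Sum.inr ⟨h, hh⟩), Subtype.ext he⟩
      rw [← e, Finite.card_option, Nat.card_sum]
      omega
    have hfin : Fintype.card Ω = 2 * Nat.card (MulAction.stabilizer G α) + 1 := by
      rw [← hΩc, ← hNcard, hcount, hHeq]
    refine ⟨hNreg, hfix1, ?_, ?_⟩
    · omega
    · omega
  · right; right
    push_neg at hDN
    obtain ⟨dd, hdd, hddN⟩ := hDN
    have hallN : ∀ n₁ ∈ N, n₁ ≠ 1 → ∀ n₂ ∈ N, n₂ ≠ 1 → ∃ c : G, c * n₁ * c⁻¹ = n₂ := by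
      intro n₁ hn₁ h11 n₂ hn₂ h21
      rcases h3 n₁ n₂ dd (hND n₁ hn₁ h11) (hND n₂ hn₂ h21) hdd with h | ⟨c, hc⟩ | ⟨c, hc⟩
      · exact h
      · exact (hddN (by rw [← hc]; exact hNn.conj_mem n₁ hn₁ c)).elim
      · exact (hddN (by rw [← hc]; exact hNn.conj_mem n₂ hn₂ c)).elim
    refine ⟨hNreg, MulAction.is_two_pretransitive_iff.2 ?_, ?_⟩
    · intro a b c e hab hce
      obtain ⟨g₁, hg₁⟩ := hGtr a c
      have hne : g₁ • b ≠ c := by
        intro h
        rw [← hg₁] at h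
        exact hab (smul_left_cancel g₁ h).symm
      obtain ⟨n₁, hn₁, hn₁b⟩ := hNtr c (g₁ • b)
      obtain ⟨n₂, hn₂, hn₂d⟩ := hNtr c e
      have hn₁1 : n₁ ≠ 1 := by
        rintro rfl
        rw [one_smul] at hn₁b
        exact hne hn₁b.symm
      have hn₂1 : n₂ ≠ 1 := by
        rintro rfl
        rw [one_smul] at hn₂d
        exact hce hn₂d
      obtain ⟨u, hu⟩ := hallN n₁ hn₁ hn₁1 n₂ hn₂ hn₂1
      obtain ⟨m, hm, hmc⟩ := hNtr c (u • c)
      have hh : (m⁻¹ * u) • c = c := by rw [mul_smul, ← hmc, inv_smul_smul]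
      have hconj : (m⁻¹ * u) * n₁ * (m⁻¹ * u)⁻¹ = n₂ := by
        have e1 : (m⁻¹ * u) * n₁ * (m⁻¹ * u)⁻¹ = m⁻¹ * (u * n₁ * u⁻¹) * m := by group
        rw [e1, hu]
        have := hNab m⁻¹ (N.inv_mem hm) n₂ hn₂
        rw [this]; group
      refine ⟨(m⁻¹ * u) * g₁, ?_, ?_⟩
      · rw [mul_smul, hg₁, hh]
      · rw [mul_smul, ← hn₁b, ← mul_smul, ← hn₂d]
        have e2 : (m⁻¹ * u) * n₁ = n₂ * (m⁻¹ * u) := by
          calc (m⁻¹ * u) * n₁ = ((m⁻¹ * u) * n₁ * (m⁻¹ * u)⁻¹) * (m⁻¹ * u) := by group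
            _ = n₂ * (m⁻¹ * u) := by rw [hconj]
        rw [e2, mul_smul, hh]
    · by_contra hcon
      push_neg at hcon
      have hfrob : ∀ k : G, k ≠ 1 → ∀ a b : Ω, a ≠ b → k • a = a → k • b ≠ b := by
        intro k hk a b hab ha hb
        have h1 : Nat.card (MulAction.fixedBy Ω k) ≤ 1 := by
          have := hcon k hk
          omega
        rw [Finite.card_le_one_iff_subsingleton] at h1
        have h2 := @Subsingleton.elim _ h1 (⟨a, ha⟩ : MulAction.fixedBy Ω k) ⟨b, hb⟩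
        exact hab (Subtype.ext_iff.1 h2)
      have hcount := count_der (K := G) (X := Ω) hfrob
      have hinj : Function.Injective (fun n : N =>
          (if h : (n : G) = 1 then ⟨dd, hdd⟩ else ⟨(n : G), hND n n.2 h⟩ :
            {k : G // ∀ x : Ω, k • x ≠ x})) := by
        intro n n' hh
        by_cases h1 : (n : G) = 1
        · by_cases h2 : (n' : G) = 1
          · exact Subtype.ext (h1.trans h2.symm)
          · exfalso
            dsimp only at hh
            rw [dif_pos h1, dif_neg h2] at hh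
            have e : dd = (n' : G) := Subtype.ext_iff.1 hh
            exact hddN (by rw [e]; exact n'.2)
        · by_cases h2 : (n' : G) = 1
          · exfalso
            dsimp only at hh
            rw [dif_neg h1, dif_pos h2] at hh
            have e : (n : G) = dd := Subtype.ext_iff.1 hh
            exact hddN (by rw [← e]; exact n.2)
          · dsimp only at hh
            rw [dif_neg h1, dif_neg h2] at hh
            have e : (n : G) = (n' : G) :=
              congrArg (fun x : {k : G // ∀ x : Ω, k • x ≠ x} => (x : G)) hh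
            exact Subtype.ext e
      have hle := Nat.card_le_card_of_injective _ hinj
      omega

end Cfsg.Agent.S3520
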