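import Cfsg.Statements.S3532
import Cfsg.Agent.S2475
import Cfsg.Agent.Helper12.Aff

set_option autoImplicit false
open Cfsg

namespace Cfsg.Agent.S3532

open Cfsg.Agent.Helper12

theorem arith (q : ℕ) (hq : 4 ≤ q) :
    (q - 1) / Nat.gcd 2 (q - 1) ∣ q ^ 2 - 1 ∧ (q + 1) / Nat.gcd 2 (q - 1) ∣ q ^ 2 - 1 := by
  have hg2 : Nat.gcd 2 (q - 1) ∣ q - 1 := Nat.gcd_dvd_right 2 _
  have hg3 : Nat.gcd 2 (q - 1) ∣ q + 1 := by
    have h1 : Nat.gcd 2 (q - 1) ∣ 2 := Nat.gcd_dvd_left 2 _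
    have h2 : q + 1 = (q - 1) + 2 := by omega
    rw [h2]; exact dvd_add hg2 h1
  have h1 : q ^ 2 - 1 = (q - 1) * (q + 1) := by
    obtain ⟨k, hk⟩ : ∃ k, q = k + 1 := ⟨q - 1, by omega⟩
    rw [hk, Nat.add_sub_cancel]
    have : (k + 1) ^ 2 = k * (k + 1 + 1) + 1 := by ring
    rw [this, Nat.add_sub_cancel]
  rw [h1]
  exact ⟨(Nat.div_dvd_of_dvd hg2).trans (dvd_mul_right _ _),
    (Nat.div_dvd_of_dvd hg3).trans (dvd_mul_left _ _)⟩

theorem aux {F : Type*} [Field F] [Fintype F] (p : ℕ) [Fact p.Prime] [CharP F p]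
    (hF : 4 ≤ Fintype.card F)
    (K : Type) [Field K] [Finite K] [CharP K p] (hK : Nat.card K = Fintype.card F ^ 2) :
    ∃ (H : Type) (_ : Group H) (_ : Finite H), Group.IsSolvable H ∧
      Set.range (orderOf : H → ℕ) = Set.range (orderOf : Matrix.ProjectiveSpecialLinearGroup (Fin 2) F × Matrix.ProjectiveSpecialLinearGroup (Fin 2) F → ℕ) := by
  obtain ⟨h2, h3⟩ := arith (Fintype.card F) hF
  rw [← hK] at h2 h3
  refine ⟨Aff K ((Fintype.card F - 1) / Nat.gcd 2 (Fintype.card F - 1)) ×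
    Aff K ((Fintype.card F + 1) / Nat.gcd 2 (Fintype.card F - 1)), inferInstance, inferInstance,
    inferInstance, ?_⟩
  ext m
  rw [range_orderOf_prod, range_orderOf_prod, Aff.range_orderOf p _ h2, Aff.range_orderOf p _ h3,
    S2475.result p hF]
  simp only [Set.mem_ofPred_eq]
  constructor
  · rintro ⟨a, ha, b, hb, rfl⟩
    refine ⟨a, ?_, b, ?_, rfl⟩
    · rcases ha with h | h
      · exact Or.inl h
      · exact Or.inr (Or.inl h)
    · rcases hb with h | h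
      · exact Or.inl h
      · exact Or.inr (Or.inr h)
  · rintro ⟨a, ha, b, hb, rfl⟩
    rcases ha with ha | ha | ha <;> rcases hb with hb | hb | hb
    · exact ⟨Nat.lcm a b, Or.inl (Nat.lcm_dvd ha hb), 1, Or.inl (one_dvd _), (Nat.lcm_one_right _).symm⟩
    · exact ⟨b, Or.inr hb, a, Or.inl ha, Nat.lcm_comm a b⟩
    · exact ⟨a, Or.inl ha, b, Or.inr hb, rfl⟩
    · exact ⟨a, Or.inr ha, b, Or.inl hb, rfl⟩
    · exact ⟨Nat.lcm a b, Or.inr (Nat.lcm_dvd ha hb), 1, Or.inl (one_dvd _), (Nat.lcm_one_right _).symm⟩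
    · exact ⟨a, Or.inr ha, b, Or.inr hb, rfl⟩
    · exact ⟨b, Or.inl hb, a, Or.inr ha, Nat.lcm_comm a b⟩
    · exact ⟨b, Or.inr hb, a, Or.inr ha, Nat.lcm_comm a b⟩
    · exact ⟨1, Or.inl (one_dvd _), Nat.lcm a b, Or.inr (Nat.lcm_dvd ha hb), (Nat.lcm_one_left _).symm⟩

/-- Let q ≥ 4 be a prime power and L = PSL(2,q). There is a finite solvable group with the same set of element orders as L × L (so L × L is not determined by its spectrum). -/
theorem result {F : Type*} [Field F] [Fintype F] (hF : 4 ≤ Fintype.card F) :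
    ∃ (H : Type) (_ : Group H) (_ : Finite H), Group.IsSolvable H ∧
      Set.range (orderOf : H → ℕ) = Set.range (orderOf : Matrix.ProjectiveSpecialLinearGroup (Fin 2) F × Matrix.ProjectiveSpecialLinearGroup (Fin 2) F → ℕ) := by
  obtain ⟨p, hp⟩ := CharP.exists F
  have hpp : p.Prime := CharP.char_is_prime F p
  have : Fact p.Prime := ⟨hpp⟩
  obtain ⟨n, -, hn⟩ := FiniteField.card F p
  have hK : Nat.card (GaloisField p (2 * (n : ℕ))) = Fintype.card F ^ 2 := by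
    rw [GaloisField.card p (2 * (n : ℕ)) (mul_ne_zero two_ne_zero n.ne_zero), hn, ← pow_mul, mul_comm]
  exact aux p hF (GaloisField p (2 * (n : ℕ))) hK

end Cfsg.Agent.S3532
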