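import Cfsg.Statements.S3554
-- import your own Cfsg.Agent.* helpers here

set_option autoImplicit false
open Cfsg

namespace Cfsg.Agent.S3554

/-- Let G act faithfully and transitively on a finite set and suppose G has a non-trivial cyclic normal subgroup. Then some element of G of prime order fixes no point. -/
theorem result {G Ω : Type*} [Group G] [Finite G] [MulAction G Ω] [FaithfulSMul G Ω] [Finite Ω]
    (htrans : MulAction.IsPretransitive G Ω) (C : Subgroup G) (hC : C.Normal) (hC1 : C ≠ ⊥) (hcyc : IsCyclic ↥C) :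
    ∃ g : G, (orderOf g).Prime ∧ ∀ ω : Ω, g • ω ≠ ω := by
  classical
  obtain ⟨c, hc⟩ := IsCyclic.exists_generator (α := ↥C)
  have hcne : (c : G) ≠ 1 := by
    intro h1
    apply hC1
    rw [Subgroup.eq_bot_iff_forall]
    intro x hx
    have hx' := hc ⟨x, hx⟩
    have hc1 : c = 1 := Subtype.ext h1
    rw [hc1, Subgroup.zpowers_one_eq_bot, Subgroup.mem_bot] at hx'
    exact congrArg Subtype.val hx'
  have hn0 : orderOf (c : G) ≠ 0 := (orderOf_pos (c : G)).ne'
  have hn1 : orderOf (c : G) ≠ 1 := by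
    intro h; exact hcne (orderOf_eq_one_iff.mp h)
  obtain ⟨p, hp, hpn⟩ := Nat.exists_prime_and_dvd hn1
  set g : G := (c : G) ^ (orderOf (c : G) / p) with hg
  have hgord : orderOf g = p := orderOf_pow_orderOf_div hn0 hpn
  refine ⟨g, by rw [hgord]; exact hp, ?_⟩
  intro ω hω
  -- conjugates of g are powers of g
  have hconj : ∀ h : G, ∃ k : ℤ, h⁻¹ * g * h = g ^ k := by
    intro h
    have hmem : h⁻¹ * (c : G) * h ∈ C := by
      have := hC.conj_mem (c : G) c.2 h⁻¹
      simpa using this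
    obtain ⟨k, hk⟩ := Subgroup.mem_zpowers_iff.mp (hc ⟨h⁻¹ * (c : G) * h, hmem⟩)
    have hk' : (c : G) ^ k = h⁻¹ * (c : G) * h := by
      have := congrArg Subtype.val hk
      simpa using this
    refine ⟨k, ?_⟩
    have h1 : h⁻¹ * g * h = (h⁻¹ * (c : G) * h) ^ (orderOf (c : G) / p) := by
      rw [hg]
      rw [show h⁻¹ * (c : G) * h = h⁻¹ * (c : G) * h⁻¹⁻¹ by rw [inv_inv]]
      rw [conj_pow]
      rw [inv_inv]
    rw [h1, ← hk', hg]
    rw [← zpow_natCast, ← zpow_natCast, ← zpow_mul, ← zpow_mul, mul_comm]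
  have hfix : ∀ ω' : Ω, g • ω' = ω' := by
    intro ω'
    obtain ⟨h, rfl⟩ := MulAction.exists_smul_eq G ω ω'
    obtain ⟨k, hk⟩ := hconj h
    have hgs : g ∈ MulAction.stabilizer G ω := hω
    have hks : g ^ k ∈ MulAction.stabilizer G ω := Subgroup.zpow_mem _ hgs k
    have h2 : g * h = h * g ^ k := by
      rw [← hk]; group
    rw [← mul_smul, h2, mul_smul]
    rw [MulAction.mem_stabilizer_iff.mp hks]
  have hg1 : g = 1 := by
    apply FaithfulSMul.eq_of_smul_eq_smul (α := Ω)
    intro ω'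
    rw [hfix ω', one_smul]
  rw [hg1, orderOf_one] at hgord
  exact hp.one_lt.ne hgord

end Cfsg.Agent.S3554
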