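import Cfsg.Statements.S3555
-- import your own Cfsg.Agent.* helpers here
import Mathlib

set_option autoImplicit false
open Cfsg

namespace Cfsg.Agent.S3555

open scoped Pointwise

/-- double counting of fixed points -/
theorem dc1 {G Ω : Type*} [Group G] [Fintype G] [MulAction G Ω] [Fintype Ω] [DecidableEq Ω] :
    ∑ g : G, (Finset.univ.filter (fun ω : Ω => g • ω = ω)).card =
      ∑ γ : Ω, (Finset.univ.filter (fun g : G => g • γ = γ)).card := by
  simp only [Finset.card_filter]
  exact Finset.sum_comm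

/-- double counting of pairs of fixed points -/
theorem dc2 {G Ω : Type*} [Group G] [Fintype G] [MulAction G Ω] [Fintype Ω] [DecidableEq Ω] :
    ∑ g : G, (Finset.univ.filter (fun ω : Ω => g • ω = ω)).card ^ 2 =
      ∑ γ : Ω, ∑ δ : Ω, (Finset.univ.filter (fun g : G => g • γ = γ ∧ g • δ = δ)).card := by
  have h : ∀ (g : G) (γ δ : Ω), (if g • γ = γ ∧ g • δ = δ then 1 else 0 : ℕ) =
      (if g • γ = γ then 1 else 0) * (if g • δ = δ then 1 else 0) := by
    intro g γ δ
    by_cases h1 : g • γ = γ <;> by_cases h2 : g • δ = δ <;> simp [h1, h2]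
  simp only [Finset.card_filter, sq, Finset.sum_mul_sum, h]
  rw [Finset.sum_comm]
  refine Finset.sum_congr rfl (fun γ _ => ?_)
  exact Finset.sum_comm

/-- orbit-stabiliser -/
theorem stab_card {G Ω : Type*} [Group G] [Fintype G] [MulAction G Ω] [Fintype Ω] [DecidableEq Ω]
    (htrans : MulAction.IsPretransitive G Ω) (γ : Ω) :
    (Finset.univ.filter (fun g : G => g • γ = γ)).card * Fintype.card Ω = Fintype.card G := by
  haveI := htrans
  have h1 := Subgroup.card_mul_index (MulAction.stabilizer G γ)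
  rw [MulAction.index_stabilizer_of_transitive] at h1
  have h2 : Nat.card ↥(MulAction.stabilizer G γ) =
      (Finset.univ.filter (fun g : G => g • γ = γ)).card :=
    Nat.subtype_card (Finset.univ.filter (fun g : G => g • γ = γ))
      (fun g => by simp [MulAction.mem_stabilizer_iff])
  rw [h2, Nat.card_eq_fintype_card, Nat.card_eq_fintype_card] at h1
  exact h1

/-- derangements sending `γ` to `δ` inject into the two-point stabiliser -/
theorem lemD {G Ω : Type*} [Group G] [Fintype G] [MulAction G Ω] [Fintype Ω] [DecidableEq Ω]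
    (hinv : ∀ g : G, (∀ ω : Ω, g • ω ≠ ω) → orderOf g = 2) (γ δ : Ω) :
    ((Finset.univ.filter (fun g : G => ∀ ω : Ω, g • ω ≠ ω)).filter (fun t => t • γ = δ)).card ≤
      (Finset.univ.filter (fun g : G => g • γ = γ ∧ g • δ = δ)).card := by
  rcases Finset.eq_empty_or_nonempty
    ((Finset.univ.filter (fun g : G => ∀ ω : Ω, g • ω ≠ ω)).filter (fun t => t • γ = δ))
    with he | ⟨t₀, ht₀⟩
  · rw [he]; simp
  · rw [Finset.mem_filter, Finset.mem_filter] at ht₀
    obtain ⟨⟨_, hd₀⟩, hm₀⟩ := ht₀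
    have hsq : ∀ t : G, (∀ ω : Ω, t • ω ≠ ω) → ∀ ω : Ω, t • t • ω = ω := by
      intro t ht ω
      have h2 := hinv t ht
      have h3 : t ^ 2 = 1 := by rw [← h2]; exact pow_orderOf_eq_one t
      rw [smul_smul, ← sq, h3, one_smul]
    refine Finset.card_le_card_of_injOn (fun t => t₀ * t) (fun t ht => ?_)
      (fun a _ b _ hab => mul_left_cancel hab)
    have ht' := Finset.mem_coe.1 ht
    rw [Finset.mem_filter, Finset.mem_filter] at ht'
    obtain ⟨⟨_, hd⟩, hm⟩ := ht'
    refine Finset.mem_coe.2 (Finset.mem_filter.2 ⟨Finset.mem_univ _, ?_, ?_⟩)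
    · show (t₀ * t) • γ = γ
      rw [mul_smul, hm, ← hm₀]
      exact hsq t₀ hd₀ γ
    · show (t₀ * t) • δ = δ
      rw [mul_smul, ← hm, hsq t hd γ, hm₀, hm]

theorem lemE {G Ω : Type*} [Group G] [Fintype G] [MulAction G Ω] [Fintype Ω] [DecidableEq Ω]
    (hinv : ∀ g : G, (∀ ω : Ω, g • ω ≠ ω) → orderOf g = 2) (γ : Ω) :
    (Finset.univ.filter (fun g : G => ∀ ω : Ω, g • ω ≠ ω)).card ≤
      ∑ δ ∈ Finset.univ.erase γ,
        (Finset.univ.filter (fun g : G => g • γ = γ ∧ g • δ = δ)).card := by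
  have hmaps : Set.MapsTo (fun t : G => t • γ)
      (↑(Finset.univ.filter (fun g : G => ∀ ω : Ω, g • ω ≠ ω)))
      (↑(Finset.univ.erase γ : Finset Ω)) := by
    intro t ht
    have ht' := (Finset.mem_filter.1 (Finset.mem_coe.1 ht)).2
    exact Finset.mem_coe.2 (Finset.mem_erase.2 ⟨ht' γ, Finset.mem_univ _⟩)
  rw [Finset.card_eq_sum_card_fiberwise hmaps]
  exact Finset.sum_le_sum (fun δ _ => lemD hinv γ δ)

/-- Cameron–Cohen counting: a nonidentity element fixes at most one point -/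
theorem fix_le_one {G Ω : Type*} [Group G] [Fintype G] [MulAction G Ω]
    [FaithfulSMul G Ω] [Fintype Ω] [DecidableEq Ω] [Nonempty Ω]
    (htrans : MulAction.IsPretransitive G Ω)
    (hinv : ∀ g : G, (∀ ω : Ω, g • ω ≠ ω) → orderOf g = 2) (g₀ : G) (hg₀ : g₀ ≠ 1) :
    (Finset.univ.filter (fun ω : Ω => g₀ • ω = ω)).card ≤ 1 := by
  obtain ⟨f, hf⟩ : ∃ f : G → ℕ, ∀ g, f g = (Finset.univ.filter (fun ω : Ω => g • ω = ω)).card :=
    ⟨_, fun _ => rfl⟩
  obtain ⟨s, hs⟩ : ∃ s : Ω → ℕ, ∀ γ, s γ = (Finset.univ.filter (fun g : G => g • γ = γ)).card :=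
    ⟨_, fun _ => rfl⟩
  obtain ⟨A, hA⟩ : ∃ A : Ω → ℕ, ∀ γ, A γ = ∑ δ ∈ Finset.univ.erase γ,
      (Finset.univ.filter (fun g : G => g • γ = γ ∧ g • δ = δ)).card := ⟨_, fun _ => rfl⟩
  obtain ⟨D, hD⟩ : ∃ D : ℕ, D = (Finset.univ.filter (fun g : G => ∀ ω : Ω, g • ω ≠ ω)).card :=
    ⟨_, rfl⟩
  obtain ⟨n, hn⟩ : ∃ n : ℕ, n = Fintype.card Ω := ⟨_, rfl⟩
  obtain ⟨N, hN⟩ : ∃ N : ℕ, N = Fintype.card G := ⟨_, rfl⟩
  have hnpos : 0 < n := by rw [hn]; exact Fintype.card_pos
  have hsum_s : ∑ γ : Ω, s γ = N := by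
    have h1 : (∑ γ : Ω, s γ) * n = N * n := by
      rw [Finset.sum_mul]
      have h2 : ∀ γ ∈ (Finset.univ : Finset Ω), s γ * n = N := by
        intro γ _
        rw [hs, hn, hN]
        exact stab_card htrans γ
      rw [Finset.sum_congr rfl h2, Finset.sum_const, Finset.card_univ, smul_eq_mul, ← hn,
        mul_comm]
    exact Nat.eq_of_mul_eq_mul_right hnpos h1
  have hS1 : ∑ g : G, f g = N := by
    rw [← hsum_s]
    simp only [hf, hs]
    exact dc1
  have hS2 : ∑ g : G, f g ^ 2 = N + ∑ γ : Ω, A γ := by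
    rw [← hsum_s, ← Finset.sum_add_distrib]
    simp only [hf]
    rw [dc2]
    refine Finset.sum_congr rfl (fun γ _ => ?_)
    have e1 : (Finset.univ.filter (fun g : G => g • γ = γ ∧ g • γ = γ)).card +
        ∑ δ ∈ Finset.univ.erase γ,
          (Finset.univ.filter (fun g : G => g • γ = γ ∧ g • δ = δ)).card =
        ∑ δ : Ω, (Finset.univ.filter (fun g : G => g • γ = γ ∧ g • δ = δ)).card :=
      Finset.add_sum_erase Finset.univ
        (fun δ : Ω => (Finset.univ.filter (fun g : G => g • γ = γ ∧ g • δ = δ)).card)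
        (Finset.mem_univ γ)
    have e2 : (Finset.univ.filter (fun g : G => g • γ = γ ∧ g • γ = γ)) =
        (Finset.univ.filter (fun g : G => g • γ = γ)) := by
      ext g; simp
    rw [hs, hA, ← e1, e2]
  have hE : ∀ γ, D ≤ A γ := by
    intro γ
    rw [hD, hA]
    exact lemE hinv γ
  have hfle : ∀ g, f g ≤ n := by
    intro g; rw [hf, hn]; exact Finset.card_le_univ _
  have hf0 : ∀ g : G, f g = 0 ↔ ∀ ω : Ω, g • ω ≠ ω := by
    intro g
    rw [hf, Finset.card_eq_zero, Finset.filter_eq_empty_iff]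
    constructor
    · intro h ω; exact h (Finset.mem_univ ω)
    · intro h ω _; exact h ω
  have key : ∀ k m : ℕ, (k + 1) ^ 2 + (k + 1 - 1) * (k + 1 + m - (k + 1)) + (k + 1 + m) =
      (k + 1 + m + 1) * (k + 1) + (k + 1 + m) * 0 := by
    intro k m
    simp only [Nat.add_sub_cancel, Nat.add_sub_cancel_left]
    ring
  have hpt : ∀ g : G, f g ^ 2 + (f g - 1) * (n - f g) + n =
      (n + 1) * f g + n * (if (∀ ω : Ω, g • ω ≠ ω) then 1 else 0) := by
    intro g
    by_cases hd : ∀ ω : Ω, g • ω ≠ ω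
    · rw [if_pos hd, (hf0 g).2 hd]; simp
    · rw [if_neg hd]
      have h0 : f g ≠ 0 := fun h => hd ((hf0 g).1 h)
      obtain ⟨k, hk⟩ := Nat.exists_eq_succ_of_ne_zero h0
      obtain ⟨m, hm⟩ := Nat.exists_eq_add_of_le (hfle g)
      rw [hm, hk]
      exact key k m
  have hsd : ∑ g : G, (if (∀ ω : Ω, g • ω ≠ ω) then 1 else 0) = D := by
    rw [hD, Finset.card_filter]
  have hL : ∑ g : G, (f g ^ 2 + (f g - 1) * (n - f g) + n) =
      ∑ g : G, f g ^ 2 + ∑ g : G, (f g - 1) * (n - f g) + N * n := by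
    rw [Finset.sum_add_distrib, Finset.sum_add_distrib, Finset.sum_const, Finset.card_univ,
      smul_eq_mul, hN]
  have hR : ∑ g : G, ((n + 1) * f g + n * (if (∀ ω : Ω, g • ω ≠ ω) then 1 else 0)) =
      (n + 1) * N + n * D := by
    rw [Finset.sum_add_distrib, ← Finset.mul_sum, ← Finset.mul_sum, hS1, hsd]
  have hsumpt : ∑ g : G, f g ^ 2 + ∑ g : G, (f g - 1) * (n - f g) + N * n =
      (n + 1) * N + n * D := by
    rw [← hL, ← hR]
    exact Finset.sum_congr rfl (fun g _ => hpt g)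
  have hAsum : n * D ≤ ∑ γ : Ω, A γ := by
    have h1 : ∑ _γ : Ω, D ≤ ∑ γ : Ω, A γ := Finset.sum_le_sum (fun γ _ => hE γ)
    rw [Finset.sum_const, Finset.card_univ, smul_eq_mul, ← hn] at h1
    exact h1
  have hSe : ∑ g : G, (f g - 1) * (n - f g) = 0 := by
    have h1 : (n + 1) * N = N * n + N := by ring
    rw [hS2, h1] at hsumpt
    omega
  have he := (Finset.sum_eq_zero_iff.1 hSe) g₀ (Finset.mem_univ g₀)
  rw [← hf]
  rcases Nat.mul_eq_zero.1 he with h | h
  · omega
  · exfalso
    apply hg₀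
    have h3 : f g₀ = n := le_antisymm (hfle g₀) (by omega)
    rw [hf, hn, Finset.card_eq_iff_eq_univ] at h3
    refine FaithfulSMul.eq_of_smul_eq_smul (α := Ω) (fun ω => ?_)
    rw [one_smul]
    have h4 : ω ∈ Finset.univ.filter (fun ω : Ω => g₀ • ω = ω) := by
      rw [h3]; exact Finset.mem_univ ω
    exact (Finset.mem_filter.1 h4).2

/-- a nonidentity element does not fix two points -/
theorem two_fix {G Ω : Type*} [Group G] [Finite G] [MulAction G Ω] [FaithfulSMul G Ω] [Finite Ω]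
    (htrans : MulAction.IsPretransitive G Ω)
    (hinv : ∀ g : G, (∀ ω : Ω, g • ω ≠ ω) → orderOf g = 2)
    (x : G) (γ δ : Ω) (hne : γ ≠ δ) (h1 : x • γ = γ) (h2 : x • δ = δ) : x = 1 := by
  classical
  haveI := Fintype.ofFinite G
  haveI := Fintype.ofFinite Ω
  haveI : Nonempty Ω := ⟨γ⟩
  by_contra hx
  have h := fix_le_one htrans hinv x hx
  have h3 : 1 < (Finset.univ.filter (fun ω : Ω => x • ω = ω)).card :=
    Finset.one_lt_card.2 ⟨γ, Finset.mem_filter.2 ⟨Finset.mem_univ _, h1⟩, δ,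
      Finset.mem_filter.2 ⟨Finset.mem_univ _, h2⟩, hne⟩
  omega

/-- Let G act faithfully and transitively on a finite set and suppose every element of G fixing no point is an involution. Then either G is an elementary abelian 2-group, or G is a Frobenius group whose Frobenius kernel is an elementary abelian 2-group: G has a Frobenius complement H, and the elements lying in no conjugate of H, together with the identity, pairwise commute and square to the identity. -/
theorem result {G Ω : Type*} [Group G] [Finite G] [MulAction G Ω] [FaithfulSMul G Ω] [Finite Ω]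
    (htrans : MulAction.IsPretransitive G Ω) (hinv : ∀ g : G, (∀ ω : Ω, g • ω ≠ ω) → orderOf g = 2) :
    (IsMulCommutative G ∧ ∀ g : G, g ^ 2 = 1) ∨
    (∃ H : Subgroup G, Cfsg.IsFrobeniusComplement H ∧
      (∀ x ∈ Cfsg.frobeniusKernel H, x ^ 2 = 1) ∧
      ∀ x ∈ Cfsg.frobeniusKernel H, ∀ y ∈ Cfsg.frobeniusKernel H, x * y = y * x) := by
  classical
  haveI := htrans
  have hcomm : ∀ a b : G, a ^ 2 = 1 → b ^ 2 = 1 → (a * b) ^ 2 = 1 → a * b = b * a := by
    intro a b ha hb hab
    have ha' : a⁻¹ = a := inv_eq_of_mul_eq_one_right (by rw [← sq]; exact ha)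
    have hb' : b⁻¹ = b := inv_eq_of_mul_eq_one_right (by rw [← sq]; exact hb)
    have h2 : (a * b)⁻¹ = a * b := inv_eq_of_mul_eq_one_right (by rw [← sq]; exact hab)
    rw [mul_inv_rev, ha', hb'] at h2
    exact h2.symm
  have hexp2 : (∀ g : G, g ^ 2 = 1) → IsMulCommutative G ∧ ∀ g : G, g ^ 2 = 1 := by
    intro h
    refine ⟨⟨⟨fun a b => ?_⟩⟩, h⟩
    show a * b = b * a
    exact hcomm a b (h a) (h b) (h (a * b))
  rcases isEmpty_or_nonempty Ω with hemp | ⟨⟨α⟩⟩
  · left
    apply hexp2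
    intro g
    have hg1 : g = 1 := FaithfulSMul.eq_of_smul_eq_smul (α := Ω) (fun ω => isEmptyElim ω)
    rw [hg1, one_pow]
  have hderang_sq : ∀ t : G, (∀ ω : Ω, t • ω ≠ ω) → t ^ 2 = 1 := by
    intro t ht
    rw [← hinv t ht]; exact pow_orderOf_eq_one t
  have htf := two_fix htrans hinv
  by_cases hH : MulAction.stabilizer G α = ⊥
  · left
    apply hexp2
    intro g
    by_cases hg : ∀ ω : Ω, g • ω ≠ ω
    · exact hderang_sq g hg
    · push_neg at hg
      obtain ⟨ω, hω⟩ := hg
      obtain ⟨x, rfl⟩ := MulAction.exists_smul_eq G α ω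
      have h1 : x⁻¹ * g * x ∈ MulAction.stabilizer G α := by
        rw [MulAction.mem_stabilizer_iff, mul_smul, mul_smul, hω, inv_smul_smul]
      rw [hH, Subgroup.mem_bot] at h1
      have h2 : g = 1 := by
        have h3 : g = x * (x⁻¹ * g * x) * x⁻¹ := by group
        rw [h3, h1]; group
      rw [h2, one_pow]
  · right
    have hker : ∀ x : G, (∀ g : G, x ∉ MulAut.conj g • MulAction.stabilizer G α) →
        ∀ ω : Ω, x • ω ≠ ω := by
      intro x hx ω hω
      obtain ⟨g, rfl⟩ := MulAction.exists_smul_eq G α ω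
      apply hx g
      refine (Subgroup.mem_smul_pointwise_iff_exists _ _ _).2 ⟨g⁻¹ * x * g, ?_, ?_⟩
      · rw [MulAction.mem_stabilizer_iff, mul_smul, mul_smul, hω, inv_smul_smul]
      · show g * (g⁻¹ * x * g) * g⁻¹ = x
        group
    have hk2 : ∀ x ∈ Cfsg.frobeniusKernel (MulAction.stabilizer G α), x ^ 2 = 1 := by
      intro x hx
      have hx0 : x = 1 ∨ ∀ g : G, x ∉ MulAut.conj g • MulAction.stabilizer G α := hx
      rcases hx0 with rfl | hx0
      · exact one_pow 2
      · exact hderang_sq x (hker x hx0)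
    refine ⟨MulAction.stabilizer G α, ⟨hH, ?_, ?_⟩, hk2, ?_⟩
    · intro htop
      apply hH
      rw [Subgroup.eq_bot_iff_forall]
      intro g _
      refine FaithfulSMul.eq_of_smul_eq_smul (α := Ω) (fun ω => ?_)
      obtain ⟨x, rfl⟩ := MulAction.exists_smul_eq G α ω
      have h1 : x⁻¹ * g * x ∈ MulAction.stabilizer G α := by rw [htop]; exact Subgroup.mem_top _
      rw [MulAction.mem_stabilizer_iff, mul_smul, mul_smul] at h1
      have h2 := congrArg (fun ω => x • ω) h1
      simp only [smul_inv_smul] at h2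
      rw [one_smul]
      exact h2
    · intro g hg
      rw [Subgroup.eq_bot_iff_forall]
      intro x hx
      obtain ⟨hx1, hx2⟩ := Subgroup.mem_inf.1 hx
      obtain ⟨h, hh, e⟩ := (Subgroup.mem_smul_pointwise_iff_exists _ _ _).1 hx2
      have e' : g * h * g⁻¹ = x := e
      refine htf x α (g • α) ?_ (MulAction.mem_stabilizer_iff.1 hx1) ?_
      · intro h1; exact hg (MulAction.mem_stabilizer_iff.2 h1.symm)
      · rw [← e', mul_smul, mul_smul, inv_smul_smul, MulAction.mem_stabilizer_iff.1 hh]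
    · intro x hx y hy
      have hx2 := hk2 x hx
      have hy2 := hk2 y hy
      refine hcomm x y hx2 hy2 ?_
      have hx0 : x = 1 ∨ ∀ g : G, x ∉ MulAut.conj g • MulAction.stabilizer G α := hx
      have hy0 : y = 1 ∨ ∀ g : G, y ∉ MulAut.conj g • MulAction.stabilizer G α := hy
      rcases hx0 with hx1 | hx0
      · rw [hx1, one_mul]; exact hy2
      rcases hy0 with hy1 | hy0
      · rw [hy1, mul_one]; exact hx2
      have hdy := hker y hy0
      by_cases hd : ∀ ω : Ω, (x * y) • ω ≠ ω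
      · exact hderang_sq _ hd
      · push_neg at hd
        obtain ⟨γ, hγ⟩ := hd
        have hγ' : x • y • γ = γ := by rw [← mul_smul]; exact hγ
        have hyy : y • y • γ = γ := by rw [smul_smul, ← sq, hy2, one_smul]
        have hxx : ∀ ω : Ω, x • x • ω = ω := fun ω => by rw [smul_smul, ← sq, hx2, one_smul]
        have h1 : y • γ = x • γ := by
          have h2 : x • x • y • γ = x • γ := congrArg (fun ω => x • ω) hγ'
          rw [hxx] at h2; exact h2
        have h3 : x * y = 1 := by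
          refine htf (x * y) γ (y • γ) (fun h => hdy γ h.symm) hγ ?_
          rw [mul_smul, hyy]
          exact h1.symm
        rw [h3, one_pow]

end Cfsg.Agent.S3555
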