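import Cfsg.Statements.S3634
import Cfsg.Agent.Helper18.PrimeGraph
-- import your own Cfsg.Agent.* helpers here

set_option autoImplicit false
open Cfsg

namespace Cfsg.Agent.S3634

/-- Let G be a finite group with normal subgroups K ≤ M, and let p, q, r be distinct primes with p dividing the order of K, q dividing the order of M/K and r dividing the order of G/M. Then p, q, r are not pairwise non-adjacent in the prime graph of G: G has an element of order pq, pr or qr. -/
theorem result {G : Type*} [Group G] [Finite G] (K M : Subgroup G) [K.Normal] [M.Normal] (hKM : K ≤ M)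
    (p q r : ℕ) (hp : p.Prime) (hq : q.Prime) (hr : r.Prime) (hpq : p ≠ q) (hpr : p ≠ r) (hqr : q ≠ r)
    (hpK : p ∣ Nat.card ↥K) (hqM : q ∣ Nat.card ↥M / Nat.card ↥K) (hrG : r ∣ Nat.card G / Nat.card ↥M) :
    (∃ x : G, orderOf x = p * q) ∨ (∃ x : G, orderOf x = p * r) ∨ (∃ x : G, orderOf x = q * r) := by
  classical
  have : Fact p.Prime := ⟨hp⟩
  obtain ⟨P₀⟩ : Nonempty (Sylow p K) := inferInstance
  have hP₀ : (P₀ : Subgroup K) ≠ ⊥ := P₀.ne_bot_of_dvd_card hpK
  obtain ⟨P, hPdef⟩ : ∃ P : Subgroup G, P = (P₀ : Subgroup K).map K.subtype := ⟨_, rfl⟩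
  have hPp : IsPGroup p P := by rw [hPdef]; exact P₀.isPGroup'.map _
  have hP1 : P ≠ ⊥ := by
    rw [hPdef]
    intro h
    exact hP₀ ((Subgroup.map_eq_bot_iff_of_injective _ K.subtype_injective).mp h)
  obtain ⟨N, hNdef⟩ : ∃ N : Subgroup G, N = Subgroup.normalizer (P : Set G) := ⟨_, rfl⟩
  have hfr : N ⊔ K = ⊤ := by rw [hNdef, hPdef]; exact Sylow.normalizer_sup_eq_top P₀
  have hPN : P ≤ N := by rw [hNdef]; exact Subgroup.le_normalizer
  have hNM : N ⊔ M = ⊤ := top_le_iff.mp (by rw [← hfr]; exact sup_le_sup_left hKM N)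
  have hPNn : (P.subgroupOf N).Normal := by subst hNdef; infer_instance
  have hKM_rel : Nat.card M / Nat.card K = K.relIndex M := by
    have h1 : Nat.card K * K.relIndex M = Nat.card M := by
      have e := Nat.card_congr (Subgroup.subgroupOfEquivOfLe hKM).toEquiv
      have h2 := (K.subgroupOf M).card_mul_index
      rw [e] at h2
      exact h2
    rw [← h1, Nat.mul_div_cancel_left _ Nat.card_pos]
  have hGM : Nat.card G / Nat.card M = M.index := by
    rw [← M.card_mul_index, Nat.mul_div_cancel_left _ Nat.card_pos]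
  have e2 : M.relIndex N = M.index := by
    have h := Subgroup.relIndex_sup_right N M
    rw [hNM, Subgroup.relIndex_top_right] at h
    exact h.symm
  have e3 : K.relIndex N = K.index := by
    have h := Subgroup.relIndex_sup_right N K
    rw [hfr, Subgroup.relIndex_top_right] at h
    exact h.symm
  have hrel1 : K.relIndex (M ⊓ N) = K.relIndex M := by
    have e1 := Subgroup.relIndex_inf_mul_relIndex K M N
    have e4 : K ⊓ M = K := inf_of_le_left hKM
    rw [e2, e4, e3] at e1
    have e5 := Subgroup.relIndex_mul_index hKM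
    have hM0 : M.index ≠ 0 := Subgroup.index_ne_zero_of_finite
    exact Nat.eq_of_mul_eq_mul_right (Nat.pos_of_ne_zero hM0) (e1.trans e5.symm)
  have hqL : q ∣ Nat.card (M.subgroupOf N) := by
    have e6 : Nat.card (M.subgroupOf N) = Nat.card (M ⊓ N : Subgroup G) := by
      rw [← Subgroup.inf_subgroupOf_right M N]
      exact Nat.card_congr (Subgroup.subgroupOfEquivOfLe inf_le_right).toEquiv
    rw [e6]
    rw [hKM_rel, ← hrel1] at hqM
    exact hqM.trans (Subgroup.relIndex_dvd_card _ _)
  have hrL : r ∣ (M.subgroupOf N).index := by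
    rw [hGM] at hrG
    show r ∣ M.relIndex N
    rw [e2]
    exact hrG
  obtain ⟨Q, y, hQq, hQ1, hy, hyQ⟩ :=
    Cfsg.Agent.Helper18.frattini_pair (H := N) (M.subgroupOf N) q r hq hr hqL hrL
  have hPNp : IsPGroup p (P.subgroupOf N) := hPp.comap_subtype
  have hPN1 : P.subgroupOf N ≠ ⊥ := by
    intro h
    rw [Subgroup.subgroupOf_eq_bot] at h
    exact hP1 (h.eq_bot_of_le hPN)
  rcases Cfsg.Agent.Helper18.three_primes (P.subgroupOf N) Q y p q r hp hq hr hpq hpr hqr
    hPNp hPN1 hQq hQ1 hy hyQ with ⟨x, hx⟩ | ⟨x, hx⟩ | ⟨x, hx⟩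
  · left
    exact ⟨(x : G), by rw [Subgroup.orderOf_coe]; exact hx⟩
  · right; left
    exact ⟨(x : G), by rw [Subgroup.orderOf_coe]; exact hx⟩
  · right; right
    exact ⟨(x : G), by rw [Subgroup.orderOf_coe]; exact hx⟩

end Cfsg.Agent.S3634
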