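import Cfsg.Statements.S3633
import Cfsg.Agent.Helper18.PrimeGraph
import Cfsg.Agent.S3634
-- import your own Cfsg.Agent.* helpers here

set_option autoImplicit false
open Cfsg

namespace Cfsg.Agent.S3633

theorem abelian_quot {G : Type*} [Group G] [Finite G] (K : Subgroup G) (p q : ℕ) (hp : p.Prime)
    (hq : q.Prime) (hpq : p ≠ q)
    (h1 : p ∣ Nat.card K / Nat.card (⁅K, K⁆ : Subgroup G))
    (h2 : q ∣ Nat.card K / Nat.card (⁅K, K⁆ : Subgroup G)) :
    ∃ x : G, orderOf x = p * q := by
  classical
  have : Fact p.Prime := ⟨hp⟩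
  have : Fact q.Prime := ⟨hq⟩
  have hc : Nat.card (⁅K, K⁆ : Subgroup G) = Nat.card (commutator K) := by
    rw [← Subgroup.map_subtype_commutator]
    exact Subgroup.card_map_of_injective K.subtype_injective
  have hidx : Nat.card K / Nat.card (⁅K, K⁆ : Subgroup G) = Nat.card (Abelianization K) := by
    rw [hc]
    have h3 := (commutator K).card_mul_index
    rw [← h3, Nat.mul_div_cancel_left _ Nat.card_pos]
    exact Subgroup.index_eq_card _
  rw [hidx] at h1 h2
  obtain ⟨a, ha⟩ := exists_prime_orderOf_dvd_card' p h1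
  obtain ⟨b, hb⟩ := exists_prime_orderOf_dvd_card' q h2
  have hab : orderOf (a * b) = p * q := by
    rw [(Commute.all a b).orderOf_mul_eq_mul_orderOf_of_coprime
      (by rw [ha, hb]; exact (Nat.coprime_primes hp hq).mpr hpq), ha, hb]
  obtain ⟨x, hx⟩ := QuotientGroup.mk'_surjective (commutator K) (a * b)
  have hdvd : p * q ∣ orderOf x := by
    rw [← hab, ← hx]
    exact orderOf_map_dvd (QuotientGroup.mk' (commutator K)) x
  refine ⟨((x ^ (orderOf x / (p * q)) : K) : G), ?_⟩
  rw [Subgroup.orderOf_coe]
  exact orderOf_pow_orderOf_div (orderOf_pos x).ne' hdvd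

theorem star {G : Type*} [Group G] [Finite G] :
    ∀ (n : ℕ) (K : Subgroup G), K.Normal → Nat.card K ≤ n → Group.IsSolvable K →
      ∀ p q r : ℕ, p.Prime → q.Prime → r.Prime → p ≠ q → p ≠ r → q ≠ r →
      (¬∃ x : G, orderOf x = p * q) → (¬∃ x : G, orderOf x = p * r) →
      (¬∃ x : G, orderOf x = q * r) → p ∣ Nat.card K → q ∣ Nat.card K → r ∣ Nat.card G →
      False := by
  intro n
  induction n with
  | zero =>
    intro K _ hn
    have : 0 < Nat.card K := Nat.card_pos
    omega
  | succ n ih =>
    intro K hKn hn hsol p q r hp hq hr hpq hpr hqr npq npr nqr hpK hqK hrG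
    have := hKn
    have := hsol
    obtain ⟨K', hK'def⟩ : ∃ K' : Subgroup G, K' = ⁅K, K⁆ := ⟨_, rfl⟩
    have hK'n : K'.Normal := by rw [hK'def]; infer_instance
    have hK'le : K' ≤ K := by rw [hK'def]; exact Subgroup.commutator_le_self K
    have hK'sol : Group.IsSolvable K' :=
      Group.isSolvable_of_isSolvable_injective (Subgroup.inclusion_injective hK'le)
    obtain ⟨a, ha⟩ : ∃ a, a = Nat.card K' := ⟨_, rfl⟩
    obtain ⟨b, hb⟩ : ∃ b, b = Nat.card K / Nat.card K' := ⟨_, rfl⟩
    obtain ⟨c, hc⟩ : ∃ c, c = Nat.card G / Nat.card K := ⟨_, rfl⟩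
    have hab : a * b = Nat.card K := by
      rw [ha, hb]; exact Nat.mul_div_cancel' (Subgroup.card_dvd_of_le hK'le)
    have hKc : Nat.card K * c = Nat.card G := by
      rw [hc]; exact Nat.mul_div_cancel' (Subgroup.card_subgroup_dvd_card K)
    have hlt : a < Nat.card K := by
      have hKne : Nontrivial K := by
        rw [Subgroup.nontrivial_iff_ne_bot]
        rintro rfl
        rw [Subgroup.card_bot] at hpK
        exact hp.one_lt.ne' (Nat.dvd_one.mp hpK)
      have h1 := Group.IsSolvable.commutator_lt_top_of_nontrivial K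
      have h2 : (commutator K).index ≠ 1 := fun h => h1.ne (Subgroup.index_eq_one.mp h)
      have h3 : (commutator K).index ≠ 0 := Subgroup.index_ne_zero_of_finite
      have h4 := (commutator K).card_mul_index
      have h5 : a = Nat.card (commutator K) := by
        rw [ha, hK'def, ← Subgroup.map_subtype_commutator]
        exact Subgroup.card_map_of_injective K.subtype_injective
      rw [← h4, ← h5]
      have h6 : 2 ≤ (commutator K).index := by omega
      have ha0 : 0 < a := by rw [ha]; exact Nat.card_pos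
      nlinarith
    have han : a ≤ n := by omega
    have habel : ∀ s t : ℕ, s.Prime → t.Prime → s ≠ t → s ∣ b → t ∣ b →
        ∃ x : G, orderOf x = s * t := by
      intro s t hs ht hst h1 h2
      rw [hb, hK'def] at h1 h2
      exact abelian_quot K s t hs ht hst h1 h2
    have hpab : p ∣ a * b := by rw [hab]; exact hpK
    have hqab : q ∣ a * b := by rw [hab]; exact hqK
    have hrabc : r ∣ a * b * c := by rw [hab, hKc]; exact hrG
    have hpG : p ∣ Nat.card G := hpK.trans (Subgroup.card_subgroup_dvd_card K)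
    have hqG : q ∣ Nat.card G := hqK.trans (Subgroup.card_subgroup_dvd_card K)
    have hcard' : Nat.card K' ≤ n := by rw [← ha]; exact han
    by_cases hpa : p ∣ a
    · by_cases hqa : q ∣ a
      · exact ih K' hK'n hcard' hK'sol p q r hp hq hr hpq hpr hqr npq npr nqr
          (by rw [← ha]; exact hpa) (by rw [← ha]; exact hqa) hrG
      · have hqb : q ∣ b := (hq.dvd_mul.mp hqab).resolve_left hqa
        have hrb : ¬ r ∣ b := fun h => nqr (habel q r hq hr hqr hqb h)
        rcases hr.dvd_mul.mp hrabc with h | h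
        · rcases hr.dvd_mul.mp h with h' | h'
          · exact ih K' hK'n hcard' hK'sol p r q hp hr hq hpr hpq (Ne.symm hqr) npr npq
              (fun ⟨x, hx⟩ => nqr ⟨x, by rw [hx, mul_comm]⟩)
              (by rw [← ha]; exact hpa) (by rw [← ha]; exact h') hqG
          · exact hrb h'
        · rcases Cfsg.Agent.S3634.result K' K hK'le p q r hp hq hr hpq hpr hqr
            (by rw [← ha]; exact hpa) (by rw [← hb]; exact hqb) (by rw [← hc]; exact h)
            with h' | h' | h'
          · exact npq h'
          · exact npr h'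
          · exact nqr h'
    · have hpb : p ∣ b := (hp.dvd_mul.mp hpab).resolve_left hpa
      by_cases hqa : q ∣ a
      · have hrb : ¬ r ∣ b := fun h => npr (habel p r hp hr hpr hpb h)
        rcases hr.dvd_mul.mp hrabc with h | h
        · rcases hr.dvd_mul.mp h with h' | h'
          · exact ih K' hK'n hcard' hK'sol q r p hq hr hp hqr (Ne.symm hpq) (Ne.symm hpr) nqr
              (fun ⟨x, hx⟩ => npq ⟨x, by rw [hx, mul_comm]⟩)
              (fun ⟨x, hx⟩ => npr ⟨x, by rw [hx, mul_comm]⟩)
              (by rw [← ha]; exact hqa) (by rw [← ha]; exact h') hpG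
          · exact hrb h'
        · rcases Cfsg.Agent.S3634.result K' K hK'le q p r hq hp hr (Ne.symm hpq) hqr hpr
            (by rw [← ha]; exact hqa) (by rw [← hb]; exact hpb) (by rw [← hc]; exact h)
            with h' | h' | h'
          · obtain ⟨x, hx⟩ := h'
            exact npq ⟨x, by rw [hx, mul_comm]⟩
          · exact nqr h'
          · exact npr h'
      · have hqb : q ∣ b := (hq.dvd_mul.mp hqab).resolve_left hqa
        exact npq (habel p q hp hq hpq hpb hqb)

/-- Let G be a finite group and ρ a set of at least three prime divisors of the order of G that are pairwise non-adjacent in the prime graph (no element of order rs for distinct r, s ∈ ρ). Then at most one prime of ρ divides the order of any given solvable normal subgroup of G; in particular G is not solvable. -/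
theorem result {G : Type*} [Group G] [Finite G] (ρ : Finset ℕ) (hρ : 3 ≤ ρ.card) (hc : ((∀ r ∈ ρ, r.Prime ∧ r ∣ Nat.card G) ∧ (∀ r ∈ ρ, ∀ s ∈ ρ, r ≠ s → ¬ ∃ x : G, orderOf x = r * s)))
    (K : Subgroup G) [K.Normal] (hK : Group.IsSolvable ↥K) :
    (∀ r ∈ ρ, ∀ s ∈ ρ, r ∣ Nat.card ↥K → s ∣ Nat.card ↥K → r = s) ∧ ¬ Group.IsSolvable G := by
  classical
  obtain ⟨hprime, hnadj⟩ := hc
  have key : ∀ (L : Subgroup G), L.Normal → Group.IsSolvable L → ∀ r ∈ ρ, ∀ s ∈ ρ,
      r ∣ Nat.card L → s ∣ Nat.card L → r = s := by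
    intro L hLn hLs r hr s hs hrL hsL
    by_contra hne
    have h3 : ∃ t ∈ ρ, t ≠ r ∧ t ≠ s := by
      by_contra hcon
      push Not at hcon
      have hsub : ρ ⊆ {r, s} := by
        intro t ht
        by_cases h : t = r
        · simp [h]
        · simp [hcon t ht h]
      have h4 := Finset.card_le_card hsub
      have h5 : ({r, s} : Finset ℕ).card ≤ 2 := Finset.card_le_two
      omega
    obtain ⟨t, ht, htr, hts⟩ := h3
    exact star (Nat.card L) L hLn le_rfl hLs r s t (hprime r hr).1 (hprime s hs).1
      (hprime t ht).1 hne (Ne.symm htr) (Ne.symm hts) (hnadj r hr s hs hne)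
      (hnadj r hr t ht (Ne.symm htr)) (hnadj s hs t ht (Ne.symm hts)) hrL hsL (hprime t ht).2
  refine ⟨key K inferInstance hK, ?_⟩
  intro hsol
  obtain ⟨a, ha, b, hb, c, hc', hab, hac, hbc⟩ := Finset.two_lt_card.mp hρ
  have htop : Group.IsSolvable (⊤ : Subgroup G) :=
    Group.isSolvable_of_isSolvable_injective (Subgroup.subtype_injective _)
  have hcard : Nat.card (⊤ : Subgroup G) = Nat.card G := Subgroup.card_top
  have h6 := key ⊤ inferInstance htop a ha b hb (by rw [hcard]; exact (hprime a ha).2)
    (by rw [hcard]; exact (hprime b hb).2)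
  exact hab h6

end Cfsg.Agent.S3633
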