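import Cfsg.Statements.S3684
import Cfsg.Agent.S0206

set_option autoImplicit false
open Cfsg

namespace Cfsg.Agent.S3684

theorem normal_of_gen {G : Type*} [Group G] (Z : Subgroup G) (S : Set G)
    (hS : Subgroup.closure S = ⊤)
    (h : ∀ g ∈ S, ∀ z ∈ Z, g * z * g⁻¹ ∈ Z ∧ g⁻¹ * z * g ∈ Z) : Z.Normal := by
  have key : ∀ g : G, ∀ z ∈ Z, g * z * g⁻¹ ∈ Z ∧ g⁻¹ * z * g ∈ Z := by
    intro g
    have hg : g ∈ Subgroup.closure S := by rw [hS]; trivial
    induction hg using Subgroup.closure_induction with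
    | mem x hx => exact h x hx
    | one => intro z hz; simpa using hz
    | mul x y _ _ ihx ihy =>
      intro z hz
      refine ⟨?_, ?_⟩
      · have := (ihx _ (ihy z hz).1).1
        simpa [mul_assoc] using this
      · have := (ihy _ (ihx z hz).2).2
        simpa [mul_assoc] using this
    | inv x _ ih =>
      intro z hz
      refine ⟨?_, ?_⟩
      · simpa using (ih z hz).2
      · simpa using (ih z hz).1
  exact ⟨fun z hz g => (key g z hz).1⟩

theorem eq_bot_of_normal_le_stab {G Ω : Type*} [Group G] [MulAction G Ω] [FaithfulSMul G Ω]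
    [MulAction.IsPretransitive G Ω] (a : Ω) (N : Subgroup G) (hN : N.Normal)
    (h : N ≤ MulAction.stabilizer G a) : N = ⊥ := by
  rw [Subgroup.eq_bot_iff_forall]
  intro k hk
  refine FaithfulSMul.eq_of_smul_eq_smul (α := Ω) (fun ω => ?_)
  obtain ⟨g, rfl⟩ := MulAction.exists_smul_eq G a ω
  have h1 : g⁻¹ * k * g ∈ N := by
    have := hN.conj_mem k hk g⁻¹
    simpa using this
  have h2 := h h1
  rw [MulAction.mem_stabilizer_iff] at h2
  have h3 : k * g = g * (g⁻¹ * k * g) := by group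
  rw [one_smul, ← mul_smul, h3, mul_smul, h2]

/-- Let a finite group G act faithfully and primitively on a set Ω, and suppose the stabilizer of a point a has an orbit of length 2. Then the stabilizer of a has order 2 and G is isomorphic to the dihedral group of order 2p for some prime p. -/
theorem result {G Ω : Type*} [Group G] [Finite G] [MulAction G Ω] [FaithfulSMul G Ω] [Finite Ω]
    (hprim : MulAction.IsPreprimitive G Ω) (a b : Ω) (h2 : Nat.card (MulAction.orbit (MulAction.stabilizer G a) b) = 2) :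
    Nat.card (MulAction.stabilizer G a) = 2 ∧ ∃ p : ℕ, p.Prime ∧ Nonempty (G ≃* DihedralGroup p) := by
  classical
  haveI : MulAction.IsPretransitive G Ω := hprim.toIsPretransitive
  set H : Subgroup G := MulAction.stabilizer G a with hHdef
  set Hb : Subgroup G := MulAction.stabilizer G b with hHbdef
  haveI : Nontrivial Ω := by
    obtain ⟨x, y, hxy, -⟩ := Nat.card_eq_two_iff.mp h2
    exact ⟨⟨x.1, y.1, fun h => hxy (Subtype.ext h)⟩⟩
  have hco : IsCoatom H := (MulAction.isCoatom_stabilizer_iff_preprimitive _ a).mpr hprim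
  have hstab : MulAction.stabilizer ↥H b = Hb.subgroupOf H := by
    ext x
    exact Iff.rfl
  have hidx : (Hb.subgroupOf H).index = 2 := by
    rw [← hstab, MulAction.index_stabilizer, ← Nat.card_coe_set_eq]
    exact h2
  have hcardb : Nat.card ↥Hb = Nat.card ↥H := by
    obtain ⟨g, hg⟩ := MulAction.exists_smul_eq G a b
    have : Hb = H.map (MulAut.conj g).toMonoidHom := by
      rw [hHbdef, ← hg, MulAction.stabilizer_smul_eq_stabilizer_map_conj]
    rw [this]
    exact Nat.card_congr (H.equivMapOfInjective _ (MulAut.conj g).injective).toEquiv.symm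
  have e : ↥(Hb.subgroupOf H) ≃ ↥(H.subgroupOf Hb) :=
    { toFun := fun x => ⟨⟨x.1.1, Subgroup.mem_subgroupOf.mp x.2⟩, Subgroup.mem_subgroupOf.mpr x.1.2⟩
      invFun := fun x => ⟨⟨x.1.1, Subgroup.mem_subgroupOf.mp x.2⟩, Subgroup.mem_subgroupOf.mpr x.1.2⟩
      left_inv := fun x => rfl
      right_inv := fun x => rfl }
  have hidx' : (H.subgroupOf Hb).index = 2 := by
    have h1 := Subgroup.card_mul_index (Hb.subgroupOf H)
    have h2' := Subgroup.card_mul_index (H.subgroupOf Hb)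
    rw [hidx] at h1
    have h3 : Nat.card ↥(Hb.subgroupOf H) * (H.subgroupOf Hb).index
        = Nat.card ↥(Hb.subgroupOf H) * 2 := by
      rw [h1, Nat.card_congr e, h2', hcardb]
    exact Nat.eq_of_mul_eq_mul_left Nat.card_pos h3
  have N1 : (Hb.subgroupOf H).Normal := Subgroup.normal_of_index_eq_two hidx
  have N2 : (H.subgroupOf Hb).Normal := Subgroup.normal_of_index_eq_two hidx'
  have hHK : ∀ x ∈ H, ∀ k ∈ H ⊓ Hb, x * k * x⁻¹ ∈ H ⊓ Hb := by
    intro x hx k hk
    have hk' := Subgroup.mem_inf.mp hk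
    refine Subgroup.mem_inf.mpr ⟨H.mul_mem (H.mul_mem hx hk'.1) (H.inv_mem hx), ?_⟩
    have := N1.conj_mem ⟨k, hk'.1⟩ (Subgroup.mem_subgroupOf.mpr hk'.2) ⟨x, hx⟩
    exact Subgroup.mem_subgroupOf.mp this
  have hHbK : ∀ x ∈ Hb, ∀ k ∈ H ⊓ Hb, x * k * x⁻¹ ∈ H ⊓ Hb := by
    intro x hx k hk
    have hk' := Subgroup.mem_inf.mp hk
    refine Subgroup.mem_inf.mpr ⟨?_, Hb.mul_mem (Hb.mul_mem hx hk'.2) (Hb.inv_mem hx)⟩
    have := N2.conj_mem ⟨k, hk'.2⟩ (Subgroup.mem_subgroupOf.mpr hk'.1) ⟨x, hx⟩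
    exact Subgroup.mem_subgroupOf.mp this
  have hsup : H ⊔ Hb = ⊤ := by
    apply hco.2
    rw [left_lt_sup]
    intro hle
    have : H.subgroupOf Hb = ⊤ := Subgroup.subgroupOf_eq_top.mpr hle
    rw [this, Subgroup.index_top] at hidx'
    exact absurd hidx' (by norm_num)
  have hKn : (H ⊓ Hb).Normal := by
    apply normal_of_gen (H ⊓ Hb) ((H : Set G) ∪ (Hb : Set G))
    · rw [Subgroup.closure_union, Subgroup.closure_eq, Subgroup.closure_eq, hsup]
    · intro g hg z hz
      rcases hg with hg | hg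
      · refine ⟨hHK g hg z hz, ?_⟩
        have := hHK g⁻¹ (H.inv_mem hg) z hz
        simpa using this
      · refine ⟨hHbK g hg z hz, ?_⟩
        have := hHbK g⁻¹ (Hb.inv_mem hg) z hz
        simpa using this
  have hK1 : H ⊓ Hb = ⊥ := eq_bot_of_normal_le_stab a (H ⊓ Hb) hKn inf_le_left
  have hKle : H ⊓ Hb ≤ ⊥ := le_of_eq hK1
  have hbot : Hb.subgroupOf H = ⊥ := by
    rw [Subgroup.eq_bot_iff_forall]
    intro x hx
    have hx1 : (x : G) ∈ H ⊓ Hb := Subgroup.mem_inf.mpr ⟨x.2, Subgroup.mem_subgroupOf.mp hx⟩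
    exact Subtype.ext (Subgroup.mem_bot.mp (hKle hx1))
  have hH2 : Nat.card ↥H = 2 := by
    have h1 := Subgroup.card_mul_index (Hb.subgroupOf H)
    rw [hidx, hbot, Subgroup.card_bot] at h1
    omega
  obtain ⟨t, ht1, htu⟩ := (Nat.card_eq_two_iff' (1 : ↥H)).mp hH2
  obtain ⟨u, hu1, huu⟩ := (Nat.card_eq_two_iff' (1 : ↥Hb)).mp (hcardb.trans hH2)
  have ht1' : (t : G) ≠ 1 := fun h => ht1 (Subtype.ext h)
  have hu1' : (u : G) ≠ 1 := fun h => hu1 (Subtype.ext h)
  have htt : t * t = 1 := by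
    by_contra hne
    have := htu (t * t) hne
    exact ht1 (by simpa using this)
  have huu2 : u * u = 1 := by
    by_contra hne
    have := huu (u * u) hne
    exact hu1 (by simpa using this)
  have htt' : (t : G) * (t : G) = 1 := congrArg Subtype.val htt
  have huu' : (u : G) * (u : G) = 1 := congrArg Subtype.val huu2
  haveI : Fact (Nat.Prime 2) := ⟨Nat.prime_two⟩
  have hot : orderOf (t : G) = 2 := orderOf_eq_prime (by rw [pow_two]; exact htt') ht1'
  have hou : orderOf (u : G) = 2 := orderOf_eq_prime (by rw [pow_two]; exact huu') hu1'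
  have hne : (t : G) ≠ (u : G) := by
    intro h
    have hx1 : (t : G) ∈ H ⊓ Hb := Subgroup.mem_inf.mpr ⟨t.2, by rw [h]; exact u.2⟩
    exact ht1' (Subgroup.mem_bot.mp (hKle hx1))
  have hHmem : ∀ x ∈ H, x = 1 ∨ x = (t : G) := by
    intro x hx
    by_cases h1 : (⟨x, hx⟩ : ↥H) = 1
    · exact Or.inl (congrArg Subtype.val h1)
    · exact Or.inr (congrArg Subtype.val (htu ⟨x, hx⟩ h1))
  have hHbmem : ∀ x ∈ Hb, x = 1 ∨ x = (u : G) := by
    intro x hx
    by_cases h1 : (⟨x, hx⟩ : ↥Hb) = 1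
    · exact Or.inl (congrArg Subtype.val h1)
    · exact Or.inr (congrArg Subtype.val (huu ⟨x, hx⟩ h1))
  have hcl : Subgroup.closure ({(t : G), (u : G)} : Set G) = ⊤ := by
    rw [eq_top_iff, ← hsup, sup_le_iff]
    constructor
    · intro x hx
      rcases hHmem x hx with h | h
      · rw [h]; exact Subgroup.one_mem _
      · rw [h]; exact Subgroup.subset_closure (by simp)
    · intro x hx
      rcases hHbmem x hx with h | h
      · rw [h]; exact Subgroup.one_mem _
      · rw [h]; exact Subgroup.subset_closure (by simp)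
  obtain ⟨e0⟩ := Cfsg.Agent.S0206.result (t : G) (u : G) hot hou hne
  set r : G := (t : G) * (u : G) with hr
  set m := orderOf r with hm
  have e1 : G ≃* DihedralGroup m :=
    (Subgroup.topEquiv.symm.trans (MulEquiv.subgroupCongr hcl.symm)).trans e0
  have hG : Nat.card G = 2 * m := by rw [Nat.card_congr e1.toEquiv, DihedralGroup.nat_card]
  have hm1 : m ≠ 1 := by
    intro h
    have hr1 : r = 1 := orderOf_eq_one_iff.mp h
    apply hne
    have h2 : (t : G) * (u : G) = (t : G) * (t : G) := by rw [htt']; exact hr1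
    exact (mul_left_cancel h2).symm
  have hm0 : 0 < m := orderOf_pos r
  obtain ⟨p, hp, hpm⟩ := Nat.exists_prime_and_dvd hm1
  have hmp : m / p ∣ m := Nat.div_dvd_of_dvd hpm
  have hmp0 : m / p ≠ 0 := (Nat.div_pos (Nat.le_of_dvd hm0 hpm) hp.pos).ne'
  have hos : orderOf (r ^ (m / p)) = p := by
    rw [orderOf_pow_of_dvd hmp0 hmp]
    exact Nat.div_div_self hpm hm0.ne'
  set s : G := r ^ (m / p) with hs
  have htinv : (t : G)⁻¹ = t := inv_eq_of_mul_eq_one_left htt'
  have huinv : (u : G)⁻¹ = u := inv_eq_of_mul_eq_one_left huu'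
  have hrt : (t : G) * r * (t : G)⁻¹ = r⁻¹ := by
    have e1 : (t : G) * r * (t : G)⁻¹ = ((t : G) * (t : G)) * (u : G) * (t : G)⁻¹ := by
      rw [hr]; group
    have e2 : r⁻¹ = (u : G)⁻¹ * (t : G)⁻¹ := by rw [hr]; group
    rw [e1, e2, htt', one_mul, huinv]
  have hru : (u : G) * r * (u : G)⁻¹ = r⁻¹ := by
    have e1 : (u : G) * r * (u : G)⁻¹ = (u : G) * (t : G) := by rw [hr]; group
    have e2 : r⁻¹ = (u : G)⁻¹ * (t : G)⁻¹ := by rw [hr]; group
    rw [e1, e2, huinv, htinv]
  have hconj : ∀ g : G, g * r * g⁻¹ = r⁻¹ → g⁻¹ = g → ∀ k : ℤ,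
      (g * s ^ k * g⁻¹ ∈ Subgroup.zpowers s ∧ g⁻¹ * s ^ k * g ∈ Subgroup.zpowers s) := by
    intro g hgr hginv k
    have h0 : g * s * g⁻¹ = s⁻¹ := by
      rw [hs, ← conj_pow, hgr, inv_pow]
    have h1 : g * s ^ k * g⁻¹ = (s ^ k)⁻¹ := by
      rw [← conj_zpow, h0, inv_zpow]
    have h2 : (s ^ k)⁻¹ ∈ Subgroup.zpowers s :=
      Subgroup.inv_mem _ (Subgroup.zpow_mem_zpowers s k)
    refine ⟨by rw [h1]; exact h2, ?_⟩
    have h3 : g⁻¹ * s ^ k * g = g * s ^ k * g⁻¹ := by rw [hginv]
    rw [h3, h1]; exact h2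
  have hZn : (Subgroup.zpowers s).Normal := by
    apply normal_of_gen (Subgroup.zpowers s) ({(t : G), (u : G)} : Set G) hcl
    intro g hg z hz
    obtain ⟨k, rfl⟩ := Subgroup.mem_zpowers_iff.mp hz
    rcases hg with hg | hg
    · rw [hg]; exact hconj _ hrt htinv k
    · rw [Set.mem_singleton_iff] at hg
      rw [hg]; exact hconj _ hru huinv k
  have hcase : H ⊔ Subgroup.zpowers s = ⊤ := by
    apply hco.2
    rw [left_lt_sup]
    intro hle
    have hsH : s ∈ H := hle (Subgroup.mem_zpowers s)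
    have hs1 : s ≠ 1 := by
      intro h
      rw [h, orderOf_one] at hos
      exact hp.ne_one hos.symm
    have hst : s = (t : G) := by
      rcases hHmem s hsH with h | h
      · exact absurd h hs1
      · exact h
    have hHle : H ≤ Subgroup.zpowers s := by
      intro x hx
      rcases hHmem x hx with h | h
      · rw [h]; exact Subgroup.one_mem _
      · rw [h, ← hst]; exact Subgroup.mem_zpowers s
    have hHeq : H = Subgroup.zpowers s := le_antisymm hHle hle
    have hHn : H.Normal := by rw [hHeq]; exact hZn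
    have hHbot := eq_bot_of_normal_le_stab a H hHn le_rfl
    have hle2 : H ≤ ⊥ := le_of_eq hHbot
    exact ht1' (Subgroup.mem_bot.mp (hle2 t.2))
  have hle : Nat.card G ≤ 2 * p := by
    let f : ↥H × ↥(Subgroup.zpowers s) → G := fun x => (x.1 : G) * (x.2 : G)
    have hf : Function.Surjective f := by
      intro g
      have hg : g ∈ H ⊔ Subgroup.zpowers s := by rw [hcase]; trivial
      haveI := hZn
      obtain ⟨y, hy, z, hz, hyz⟩ := Subgroup.mem_sup_of_normal_right.mp hg
      exact ⟨(⟨y, hy⟩, ⟨z, hz⟩), hyz⟩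
    have h1 := Nat.card_le_card_of_surjective f hf
    rw [Nat.card_prod, hH2, Nat.card_zpowers, hos] at h1
    exact h1
  have hmp' : m = p := by
    have h1 : p ≤ m := Nat.le_of_dvd hm0 hpm
    have h2 : 2 * m ≤ 2 * p := by rw [← hG]; exact hle
    omega
  refine ⟨hH2, m, by rw [hmp']; exact hp, ⟨e1⟩⟩

end Cfsg.Agent.S3684
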