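import Cfsg.Statements.S3736
import Cfsg.Agent.Helper14.Frattini
import Cfsg.Agent.Helper14.Coprime
import Cfsg.Agent.Helper14.CoprimeAut
import Cfsg.Agent.Helper14.PElem
import Cfsg.Agent.Helper14.Comm
import Cfsg.Agent.Helper23.OddPGroup
import Cfsg.Agent.S0012

set_option autoImplicit false
open Cfsg

namespace Cfsg.Agent.S3736

open Cfsg.Agent.Helper14

/-- Conjugation by a normalizing element, as an automorphism of the subgroup. -/
def conjE {X : Type*} [Group X] (P : Subgroup X) (b : X)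
    (hb : b ∈ Subgroup.normalizer (P : Set X)) : ↥P ≃* ↥P where
  toFun x := ⟨b * (x : X) * b⁻¹, (Subgroup.mem_normalizer_iff.mp hb (x : X)).mp x.2⟩
  invFun x := ⟨b⁻¹ * (x : X) * b, (Subgroup.mem_normalizer_iff.mp hb _).mpr (by
    have e : b * (b⁻¹ * (x : X) * b) * b⁻¹ = x := by group
    rw [e]; exact x.2)⟩
  left_inv x := Subtype.ext (by show b⁻¹ * (b * (x : X) * b⁻¹) * b = x; group)
  right_inv x := Subtype.ext (by show b * (b⁻¹ * (x : X) * b) * b⁻¹ = x; group)
  map_mul' x y := Subtype.ext (by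
    show b * ((x : X) * y) * b⁻¹ = (b * x * b⁻¹) * (b * y * b⁻¹); group)

theorem char_normalized {X : Type*} [Group X] (P : Subgroup X) (K : Subgroup ↥P)
    (hK : K.Characteristic) (b : X) (hb : b ∈ Subgroup.normalizer (P : Set X)) :
    b ∈ Subgroup.normalizer ((K.map P.subtype : Subgroup X) : Set X) := by
  have hb' : b⁻¹ ∈ Subgroup.normalizer (P : Set X) := Subgroup.inv_mem _ hb
  have key : ∀ c : X, ∀ hc : c ∈ Subgroup.normalizer (P : Set X), ∀ h ∈ K.map P.subtype,
      c * h * c⁻¹ ∈ K.map P.subtype := by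
    intro c hc h hh
    obtain ⟨k, hk, rfl⟩ := Subgroup.mem_map.mp hh
    have h1 : conjE P c hc k ∈ K :=
      (Subgroup.characteristic_iff_le_comap.mp hK (conjE P c hc)) hk
    exact Subgroup.mem_map.mpr ⟨conjE P c hc k, h1, rfl⟩
  apply mem_normalizer_of_forall _ b (key b hb)
  intro h hh
  have := key b⁻¹ hb' h hh
  rwa [inv_inv] at this


/-- The Hall–Higman reduction for a minimal non-trivial action. Let B, A and P be subgroups of a finite group with P a p-group, B normalizing P, and A a normal subgroup of B of order prime to p. Suppose A does not centralize P but centralizes every proper B-invariant subgroup of P. Then [P, A] = P; P is elementary abelian or special; B acts irreducibly on P/Φ(P), that is, the only B-invariant subgroups of P containing Φ(P) are Φ(P) and P; and if p is odd then every element of P has order dividing p. -/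
theorem result {X : Type*} [Group X] [Finite X] {p : ℕ} [Fact p.Prime] (B A P : Subgroup X) (hP : IsPGroup p P) (hBP : B ≤ Subgroup.normalizer (P : Set X)) (hAB : A ≤ B) (hAn : B ≤ Subgroup.normalizer (A : Set X)) (hAp : (Nat.card A).Coprime p) (hnt : ⁅P, A⁆ ≠ ⊥) (hmin : ∀ U : Subgroup X, U < P → B ≤ Subgroup.normalizer (U : Set X) → ⁅U, A⁆ = ⊥) : ⁅P, A⁆ = P ∧ (Cfsg.IsElementaryAbelian p P ∨ Cfsg.IsSpecial p ↥P) ∧ (∀ U : Subgroup X, (frattini ↥P).map P.subtype ≤ U → U ≤ P → B ≤ Subgroup.normalizer (U : Set X) → U = (frattini ↥P).map P.subtype ∨ U = P) ∧ (p ≠ 2 → ∀ x ∈ P, x ^ p = 1) := by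
  classical
  have hpP : p.Prime := Fact.out
  have hAP : A ≤ Subgroup.normalizer (P : Set X) := hAB.trans hBP
  have hconj : ∀ a ∈ A, ∀ x ∈ P, a * x * a⁻¹ ∈ P := fun a ha x hx =>
    (Subgroup.mem_normalizer_iff.mp (hAP ha) x).mp hx
  have hPpow : ∀ x ∈ P, ∃ k : ℕ, x ^ p ^ k = 1 := by
    intro x hx
    obtain ⟨k, hk⟩ := hP ⟨x, hx⟩
    exact ⟨k, by simpa using congrArg Subtype.val hk⟩
  have hApow : ∀ a ∈ A, a ^ Nat.card A = 1 := by
    intro a ha
    have h : (⟨a, ha⟩ : ↥A) ^ Nat.card ↥A = 1 := pow_card_eq_one'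
    have h' : a ^ Nat.card ↥A = 1 := congrArg Subtype.val h
    exact h'
  have hPA_le : ⁅P, A⁆ ≤ P := commutator_le_left_of_le_normalizer P A hAP
  have hPA_B : B ≤ Subgroup.normalizer ((⁅P, A⁆ : Subgroup X) : Set X) := by
    have key : ∀ b ∈ B, ∀ w ∈ ⁅P, A⁆, b * w * b⁻¹ ∈ ⁅P, A⁆ := by
      intro b hb
      have hle : ⁅P, A⁆ ≤ (⁅P, A⁆).comap (MulAut.conj b).toMonoidHom := by
        rw [Subgroup.commutator_le]
        intro x hx a ha
        rw [Subgroup.mem_comap, commutatorElement_def]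
        show b * (x * a * x⁻¹ * a⁻¹) * b⁻¹ ∈ ⁅P, A⁆
        have h1 : b * x * b⁻¹ ∈ P := (Subgroup.mem_normalizer_iff.mp (hBP hb) x).mp hx
        have h2 : b * a * b⁻¹ ∈ A := (Subgroup.mem_normalizer_iff.mp (hAn hb) a).mp ha
        have h3 := Subgroup.commutator_mem_commutator h1 h2
        rw [commutatorElement_def] at h3
        have e : b * (x * a * x⁻¹ * a⁻¹) * b⁻¹ =
            b * x * b⁻¹ * (b * a * b⁻¹) * (b * x * b⁻¹)⁻¹ * (b * a * b⁻¹)⁻¹ := by group
        rw [e]; exact h3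
      intro w hw
      exact hle hw
    intro b hb
    apply mem_normalizer_of_forall _ b (key b hb)
    intro w hw
    have := key b⁻¹ (B.inv_mem hb) w hw
    rwa [inv_inv] at this
  -- step 1 : [P, A] = P
  have hstep1 : ⁅P, A⁆ = P := by
    by_contra hne
    have hlt : ⁅P, A⁆ < P := lt_of_le_of_ne hPA_le hne
    have h1 := hmin _ hlt hPA_B
    apply hnt
    rw [Subgroup.commutator_eq_bot_iff_le_centralizer]
    intro x hx
    rw [Subgroup.mem_centralizer_iff]
    intro a ha
    have hcen := Subgroup.commutator_eq_bot_iff_le_centralizer.mp h1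
    have hc : x⁻¹ * (a * x * a⁻¹) ∈ ⁅P, A⁆ := by
      have h2 := Subgroup.commutator_mem_commutator (P.inv_mem hx) ha
      rw [commutatorElement_def, inv_inv] at h2
      have e : x⁻¹ * (a * x * a⁻¹) = x⁻¹ * a * x * a⁻¹ := by group
      rw [e]; exact h2
    have hca : a * (x⁻¹ * (a * x * a⁻¹)) = (x⁻¹ * (a * x * a⁻¹)) * a :=
      Subgroup.mem_centralizer_iff.mp (hcen hc) a ha
    obtain ⟨e, he⟩ := hPpow _ (hPA_le hc)
    have hfix := aut_fix_elem (p := p) (MulAut.conj a) (Nat.card A)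
      (by rw [← map_pow, hApow a ha, map_one]) hAp x
      (by
        show a * (x⁻¹ * (a * x * a⁻¹)) * a⁻¹ = x⁻¹ * (a * x * a⁻¹)
        rw [hca]; group) e he
    have hfix' : a * x * a⁻¹ = x := hfix
    calc a * x = (a * x * a⁻¹) * a := by group
      _ = x * a := by rw [hfix']
  have hPne : P ≠ ⊥ := fun h => hnt (hstep1.trans h)
  -- fixed points of A lie in the commutator subgroup (norm map)
  have hfixcomm : ∀ g : ↥P, (∀ a ∈ A, a * (g : X) = g * a) → g ∈ commutator ↥P := by
    intro g hg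
    have hfin := Fintype.ofFinite ↥A
    obtain ⟨c, hc⟩ : ∃ c : ↥A → (↥P →* ↥P),
        c = fun a : ↥A => (conjE P (a : X) (hAP a.2)).toMonoidHom := ⟨_, rfl⟩
    have hcapp : ∀ (a : ↥A) (x : ↥P), ((c a x : ↥P) : X) = a * x * (a : X)⁻¹ := by
      intro a x; rw [hc]; rfl
    obtain ⟨N, hN⟩ : ∃ N : ↥P →* Abelianization ↥P,
        N = ∏ a : ↥A, (Abelianization.of).comp (c a) := ⟨_, rfl⟩
    have hNapp : ∀ x : ↥P, N x = ∏ a : ↥A, Abelianization.of (c a x) := by
      intro x
      rw [hN, MonoidHom.finsetProd_apply]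
      rfl
    have hNinv : ∀ (b : ↥A) (x : ↥P), N (c b x) = N x := by
      intro b x
      rw [hNapp, hNapp]
      have h1 := Equiv.prod_comp (Equiv.mulRight b)
        (fun a : ↥A => Abelianization.of (c a x))
      rw [← h1]
      apply Finset.prod_congr rfl
      intro a _
      have e : c a (c b x) = c (a * b) x := by
        apply Subtype.ext
        rw [hcapp, hcapp, hcapp, Subgroup.coe_mul]
        group
      show Abelianization.of (c a (c b x)) = Abelianization.of (c (a * b) x)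
      rw [e]
    have hcop : Nat.Coprime (Fintype.card ↥A) p := by
      rw [← Nat.card_eq_fintype_card]; exact hAp
    have hNker : ∀ x : ↥P, N x = 1 := by
      have hle : ⁅P, A⁆ ≤ (N.ker).map P.subtype := by
        rw [Subgroup.commutator_le]
        intro x hx a ha
        rw [commutatorElement_def]
        refine Subgroup.mem_map.mpr
          ⟨(⟨x, hx⟩ : ↥P) * (c ⟨a, ha⟩ ⟨x, hx⟩)⁻¹, ?_, ?_⟩
        · rw [MonoidHom.mem_ker, map_mul, map_inv, hNinv, mul_inv_cancel]
        · show ((⟨x, hx⟩ : ↥P) : X) * ((c ⟨a, ha⟩ ⟨x, hx⟩ : ↥P) : X)⁻¹ = x * a * x⁻¹ * a⁻¹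
          rw [hcapp]
          show x * (a * x * a⁻¹)⁻¹ = x * a * x⁻¹ * a⁻¹
          group
      intro x
      have hx : (x : X) ∈ ⁅P, A⁆ := by rw [hstep1]; exact x.2
      obtain ⟨y, hy, hyx⟩ := Subgroup.mem_map.mp (hle hx)
      have hyx' : y = x := Subtype.ext hyx
      rw [← hyx']; exact MonoidHom.mem_ker.mp hy
    have h1 : N g = 1 := hNker g
    have h2 : N g = Abelianization.of g ^ Fintype.card ↥A := by
      rw [hNapp]
      have h3 : ∀ a : ↥A, Abelianization.of (c a g) = Abelianization.of g := by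
        intro a
        have e : c a g = g := by
          apply Subtype.ext
          rw [hcapp, hg a a.2]
          group
        rw [e]
      rw [Finset.prod_congr rfl (fun a _ => h3 a), Finset.prod_const, Finset.card_univ]
    rw [h2] at h1
    obtain ⟨k, hk⟩ := hP g
    have h4 : Abelianization.of g ^ p ^ k = 1 := by rw [← map_pow, hk, map_one]
    have h5 := eq_one_of_pow_coprime (p := p) _ _ k hcop h1 h4
    rw [← Abelianization.ker_of ↥P]
    exact MonoidHom.mem_ker.mpr h5
  -- characteristic proper subgroups are centralized by A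
  have hcharA : ∀ K : Subgroup ↥P, K.Characteristic → K ≠ ⊤ → ⁅K.map P.subtype, A⁆ = ⊥ := by
    intro K hK hKne
    have hUP : K.map P.subtype ≤ P := by
      intro y hy
      obtain ⟨z, -, rfl⟩ := Subgroup.mem_map.mp hy
      exact z.2
    have hUne : K.map P.subtype ≠ P := by
      intro h
      apply hKne
      rw [eq_top_iff]
      intro z _
      have hz : (z : X) ∈ K.map P.subtype := by rw [h]; exact z.2
      obtain ⟨w, hw, hwz⟩ := Subgroup.mem_map.mp hz
      have hwz' : w = z := Subtype.ext hwz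
      rwa [← hwz']
    have hUB : B ≤ Subgroup.normalizer ((K.map P.subtype : Subgroup X) : Set X) :=
      fun b hb => char_normalized P K hK b (hBP hb)
    exact hmin _ (lt_of_le_of_ne hUP hUne) hUB
  have hcharfix : ∀ K : Subgroup ↥P, K.Characteristic → K ≠ ⊤ → ∀ k ∈ K, ∀ a ∈ A,
      a * (k : X) = k * a := by
    intro K hK hKne k hk a ha
    have hcen := Subgroup.commutator_eq_bot_iff_le_centralizer.mp (hcharA K hK hKne)
    exact Subgroup.mem_centralizer_iff.mp (hcen (Subgroup.mem_map.mpr ⟨k, hk, rfl⟩)) a ha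
  have hchar_comm : ∀ K : Subgroup ↥P, K.Characteristic → K ≠ ⊤ → K ≤ commutator ↥P :=
    fun K hK hKne k hk => hfixcomm k (hcharfix K hK hKne k hk)
  have hS12 := Cfsg.Agent.S0012.result p hP
  have hfr_ne : frattini ↥P ≠ ⊤ := by
    intro h
    have h1 : (⊥ : Subgroup ↥P) = ⊤ := frattini_nongenerating (by rw [h, bot_sup_eq])
    apply hPne
    rw [eq_bot_iff]
    intro x hx
    have h2 : (⟨x, hx⟩ : ↥P) ∈ (⊥ : Subgroup ↥P) := by rw [h1]; exact Subgroup.mem_top _
    rw [Subgroup.mem_bot] at h2 ⊢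
    exact congrArg Subtype.val h2
  have hfr_le : frattini ↥P ≤ commutator ↥P := hchar_comm _ inferInstance hfr_ne
  have hfr_eq : frattini ↥P = commutator ↥P := le_antisymm hfr_le hS12.1
  have hcomm_ne : commutator ↥P ≠ ⊤ := by
    intro h
    apply hfr_ne
    rw [eq_top_iff, ← h]
    exact hS12.1
  -- the commutator subgroup is central
  have hD : ∀ d ∈ commutator ↥P, ∀ x : ↥P, x * d = d * x := by
    obtain ⟨D, hDdef⟩ : ∃ D : Subgroup X, D = (commutator ↥P).map P.subtype := ⟨_, rfl⟩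
    have hDA : ⁅D, A⁆ = ⊥ := by rw [hDdef]; exact hcharA _ inferInstance hcomm_ne
    have hPP : ⁅P, P⁆ ≤ P := commutator_le_left_of_le_normalizer P P Subgroup.le_normalizer
    have hDPD : ⁅D, P⁆ ≤ D := by
      rw [hDdef, map_subtype_commutator]
      exact Subgroup.commutator_mono hPP le_rfl
    have h1 : ⁅⁅A, D⁆, P⁆ = ⊥ := by
      rw [Subgroup.commutator_comm A D, hDA]
      exact Subgroup.commutator_bot_left _
    have h2 : ⁅⁅D, P⁆, A⁆ = ⊥ := by
      rw [eq_bot_iff, ← hDA]
      exact Subgroup.commutator_mono hDPD le_rfl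
    have h3 : ⁅⁅P, A⁆, D⁆ = ⊥ := Subgroup.commutator_commutator_eq_bot_of_rotate h1 h2
    rw [hstep1] at h3
    have hcen := Subgroup.commutator_eq_bot_iff_le_centralizer.mp h3
    intro d hd x
    have hdD : (d : X) ∈ D := by rw [hDdef]; exact Subgroup.mem_map.mpr ⟨d, hd, rfl⟩
    have h4 := Subgroup.mem_centralizer_iff.mp (hcen x.2) d hdD
    apply Subtype.ext
    exact h4.symm
  refine ⟨hstep1, ?_, ?_, ?_⟩
  · by_cases hab : ∀ x ∈ P, ∀ y ∈ P, x * y = y * x
    · left
      have hcb : commutator ↥P = ⊥ := by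
        rw [commutator_def, Subgroup.commutator_eq_bot_iff_le_centralizer]
        intro x _
        rw [Subgroup.mem_centralizer_iff]
        intro y _
        exact Subtype.ext (hab y y.2 x x.2)
      refine ⟨⟨⟨fun a b => Subtype.ext (hab a a.2 b b.2)⟩⟩, fun a ha => ?_⟩
      have h := hS12.2 ⟨a, ha⟩
      rw [hfr_eq, hcb, Subgroup.mem_bot] at h
      simpa using congrArg Subtype.val h
    · right
      have hcen_ne : Subgroup.center ↥P ≠ ⊤ := by
        intro h
        apply hab
        intro x hx y hy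
        have h1 : (⟨x, hx⟩ : ↥P) ∈ Subgroup.center ↥P := by rw [h]; exact Subgroup.mem_top _
        have h2 := Subgroup.mem_center_iff.mp h1 ⟨y, hy⟩
        exact (congrArg Subtype.val h2).symm
      have hcz : commutator ↥P = Subgroup.center ↥P :=
        le_antisymm (fun d hd => Subgroup.mem_center_iff.mpr (fun x => hD d hd x))
          (hchar_comm _ inferInstance hcen_ne)
      exact ⟨hP, hfr_eq.trans hcz, hcz⟩
  · intro U hΦU hUP hUB
    by_cases hU : U = P
    · exact Or.inr hU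
    · left
      apply le_antisymm _ hΦU
      intro u hu
      have h1 := hmin U (lt_of_le_of_ne hUP hU) hUB
      have hcen := Subgroup.commutator_eq_bot_iff_le_centralizer.mp h1
      have h2 : (⟨u, hUP hu⟩ : ↥P) ∈ commutator ↥P := by
        apply hfixcomm
        intro a ha
        exact Subgroup.mem_centralizer_iff.mp (hcen hu) a ha
      rw [← hfr_eq] at h2
      exact Subgroup.mem_map.mpr ⟨⟨u, hUP hu⟩, h2, rfl⟩
  · intro hp2
    have hcomm_mem : ∀ x y : ↥P, x⁻¹ * y⁻¹ * x * y ∈ commutator ↥P := by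
      intro x y
      rw [commutator_def]
      have h1 := Subgroup.commutator_mem_commutator (Subgroup.mem_top x⁻¹) (Subgroup.mem_top y⁻¹)
        (H₁ := (⊤ : Subgroup ↥P)) (H₂ := (⊤ : Subgroup ↥P))
      rwa [commutatorElement_def, inv_inv, inv_inv] at h1
    have hpow_mem : ∀ x : ↥P, x ^ p ∈ commutator ↥P := by
      intro x
      rw [← hfr_eq]
      exact hS12.2 x
    have hcp : ∀ x y : ↥P, (x⁻¹ * y⁻¹ * x * y) ^ p = 1 := by
      intro x y
      have hc : Commute (x⁻¹ * y⁻¹ * x * y) x := (hD _ (hcomm_mem x y) x).symm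
      have h1 := Cfsg.Agent.Helper23.pow_mul_comm_central (a := y) (b := x)
        (e := x⁻¹ * y⁻¹ * x * y) (by group) hc p
      have h2 : x ^ p * y = y * x ^ p := (hD _ (hpow_mem x) y).symm
      rw [h2] at h1
      have h3 : y * x ^ p * 1 = y * x ^ p * (x⁻¹ * y⁻¹ * x * y) ^ p := by
        rw [mul_one]; exact h1
      exact (mul_left_cancel h3).symm
    have hmulpow : ∀ x y : ↥P, (x * y) ^ p = x ^ p * y ^ p := by
      intro x y
      exact Cfsg.Agent.Helper23.mul_pow_prime_of_central hpP hp2 (a := x) (b := y)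
        (e := y⁻¹ * x⁻¹ * y * x) (by group) ((hD _ (hcomm_mem y x) x).symm)
        ((hD _ (hcomm_mem y x) y).symm) (hcp y x)
    have hpowA : ∀ x (hx : x ∈ P), ∀ a ∈ A, a * x ^ p = x ^ p * a := by
      intro x hx a ha
      exact hcharfix (frattini ↥P) inferInstance hfr_ne _ (hS12.2 ⟨x, hx⟩) a ha
    obtain ⟨Ω, hΩ⟩ : ∃ Ω : Subgroup X, ∀ x : X, x ∈ Ω ↔ x ∈ P ∧ x ^ p = 1 := by
      refine ⟨{ carrier := {x | x ∈ P ∧ x ^ p = 1}, mul_mem' := ?_, one_mem' := ?_,
                inv_mem' := ?_ }, fun x => Iff.rfl⟩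
      · rintro x y ⟨hx, hxp⟩ ⟨hy, hyp⟩
        refine ⟨P.mul_mem hx hy, ?_⟩
        have h := hmulpow ⟨x, hx⟩ ⟨y, hy⟩
        have h' : (x * y) ^ p = x ^ p * y ^ p := congrArg Subtype.val h
        rw [h', hxp, hyp, mul_one]
      · exact ⟨P.one_mem, one_pow p⟩
      · rintro x ⟨hx, hxp⟩
        exact ⟨P.inv_mem hx, by rw [inv_pow, hxp, inv_one]⟩
    have hle : ⁅P, A⁆ ≤ Ω := by
      rw [Subgroup.commutator_le]
      intro x hx a ha
      rw [commutatorElement_def, hΩ]
      have hxa : a * x * a⁻¹ ∈ P := hconj a ha x hx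
      have e : x * a * x⁻¹ * a⁻¹ = x * (a * x * a⁻¹)⁻¹ := by group
      refine ⟨?_, ?_⟩
      · rw [e]; exact P.mul_mem hx (P.inv_mem hxa)
      · have h := hmulpow ⟨x, hx⟩ (⟨a * x * a⁻¹, hxa⟩ : ↥P)⁻¹
        have h' : (x * (a * x * a⁻¹)⁻¹) ^ p = x ^ p * ((a * x * a⁻¹)⁻¹) ^ p :=
          congrArg Subtype.val h
        rw [e, h', inv_pow, conj_pow, hpowA x hx a ha, mul_inv_cancel_right, mul_inv_cancel]
    intro x hx
    have hxΩ : x ∈ Ω := hle (by rw [hstep1]; exact hx)
    exact ((hΩ x).mp hxΩ).2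

end Cfsg.Agent.S3736
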