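import Cfsg.Statements.S3740
import Mathlib
import Cfsg.Agent.Helper1.SL2Pair
import Cfsg.Agent.Helper1.SL2Nil
import Cfsg.Agent.Helper16.QuatExt

set_option autoImplicit false
open Cfsg

namespace Cfsg.Agent.S3740

open Cfsg.Agent.Helper12 Cfsg.Agent.Helper1.SL2Pair Cfsg.Agent.Helper1.SL2Nil

/-- conjugation by a normalizing element as an automorphism of the subgroup -/
def conjAut {G : Type*} [Group G] (R : Subgroup G) (a : G)
    (ha : a ∈ Subgroup.normalizer (R : Set G)) : MulAut R where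
  toFun r := ⟨a * r * a⁻¹, (Subgroup.mem_normalizer_iff.mp ha r).mp r.2⟩
  invFun r := ⟨a⁻¹ * r * a, by
    apply (Subgroup.mem_normalizer_iff.mp ha (a⁻¹ * r * a)).mpr
    have e : a * (a⁻¹ * (r : G) * a) * a⁻¹ = r := by group
    rw [e]; exact r.2⟩
  left_inv r := by apply Subtype.ext; simp [mul_assoc]
  right_inv r := by apply Subtype.ext; simp [mul_assoc]
  map_mul' r s := by apply Subtype.ext; simp [mul_assoc]

theorem conjAut_apply {G : Type*} [Group G] (R : Subgroup G) (a : G)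
    (ha : a ∈ Subgroup.normalizer (R : Set G)) (r : R) :
    ((conjAut R a ha r : R) : G) = a * r * a⁻¹ := rfl

theorem conjAut_pow {G : Type*} [Group G] (R : Subgroup G) (a : G)
    (ha : a ∈ Subgroup.normalizer (R : Set G)) (n : ℕ) (r : R) :
    (((conjAut R a ha) ^ n) r : G) = a ^ n * r * (a ^ n)⁻¹ := by
  induction n generalizing r with
  | zero => simp
  | succ k ih =>
    rw [pow_succ, MulAut.mul_apply, ih, conjAut_apply, pow_succ]
    group

theorem quat2_pow_four : ∀ w : QuaternionGroup 2, w ^ 4 = 1 := by decide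

set_option maxRecDepth 100000 in
theorem quat2_gen : ∀ u v w : QuaternionGroup 2, u * v ≠ v * u →
    (w = 1 ∨ w = u ∨ w = u ^ 2 ∨ w = u ^ 3 ∨ w = v ∨ w = u * v ∨ w = u ^ 2 * v ∨
      w = u ^ 3 * v) := by decide


/-- `R` is a 2-group. -/
theorem two_group (F : Type) [Field F] [Fintype F] {p : ℕ} [Fact p.Prime] [CharP F p]
    (h2 : (2 : F) ≠ 0) (a : Matrix.SpecialLinearGroup (Fin 2) F) (ha1 : a ≠ 1) (hap : a ^ p = 1)
    (R : Subgroup (Matrix.SpecialLinearGroup (Fin 2) F)) (hR : (Nat.card R).Coprime p)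
    (haR : a ∈ Subgroup.normalizer (R : Set (Matrix.SpecialLinearGroup (Fin 2) F))) :
    IsPGroup 2 R := by
  classical
  have hcard0 : Nat.card R ≠ 0 := Nat.card_pos.ne'
  have key : ∀ {d : ℕ}, Nat.Prime d → d ∣ Nat.card R → d = 2 := by
    intro r hr hdvd
    by_contra hr2
    haveI : Fact r.Prime := ⟨hr⟩
    have hφp : (conjAut R a haR) ^ p = 1 := by
      ext x
      rw [conjAut_pow, hap]
      simp
    have hZ : IsPGroup p (Subgroup.zpowers (conjAut R a haR)) := by
      intro ⟨ψ, hψ⟩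
      obtain ⟨j, rfl⟩ := Subgroup.mem_zpowers_iff.mp hψ
      refine ⟨1, ?_⟩
      apply Subtype.ext
      show ((conjAut R a haR) ^ j) ^ p ^ 1 = 1
      rw [pow_one, ← zpow_natCast, ← zpow_mul, mul_comm, zpow_mul, zpow_natCast, hφp, one_zpow]
    have hnd : ¬ p ∣ Nat.card (Sylow r R) := by
      intro h
      obtain ⟨P⟩ : Nonempty (Sylow r R) := inferInstance
      have h1 : Nat.card (Sylow r R) ∣ Nat.card R :=
        (Sylow.card_dvd_index P).trans (Subgroup.index_dvd_card _)
      have h3 : p ∣ Nat.gcd (Nat.card R) p := Nat.dvd_gcd (h.trans h1) (dvd_refl p)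
      rw [hR] at h3
      exact (Fact.out : p.Prime).one_lt.ne' (Nat.dvd_one.mp h3)
    obtain ⟨P, hP⟩ := hZ.nonempty_fixed_point_of_prime_not_dvd_card (Sylow r R) hnd
    have hPφ : (conjAut R a haR) • P = P :=
      hP ⟨conjAut R a haR, Subgroup.mem_zpowers _⟩
    have hPne : (P : Subgroup R) ≠ ⊥ := Sylow.ne_bot_of_dvd_card P hdvd
    haveI : Nontrivial (P : Subgroup R) := (Subgroup.nontrivial_iff_ne_bot _).mpr hPne
    haveI := P.isPGroup'.center_nontrivial
    obtain ⟨z, hz⟩ := exists_ne (1 : Subgroup.center (P : Subgroup R))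
    have hzP : ((z : (P : Subgroup R)) : R) ∈ (P : Subgroup R) := (z : (P : Subgroup R)).2
    have hφz : (conjAut R a haR) ((z : (P : Subgroup R)) : R) ∈ (P : Subgroup R) := by
      have h1 := Subgroup.smul_mem_pointwise_smul ((z : (P : Subgroup R)) : R) (conjAut R a haR)
        (P : Subgroup R) hzP
      rw [← Sylow.pointwise_smul_def, hPφ] at h1
      exact h1
    have hcomm : (conjAut R a haR) ((z : (P : Subgroup R)) : R) * ((z : (P : Subgroup R)) : R) =
        ((z : (P : Subgroup R)) : R) * (conjAut R a haR) ((z : (P : Subgroup R)) : R) := by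
      have h1 := Subgroup.mem_center_iff.mp z.2 ⟨_, hφz⟩
      exact congrArg Subtype.val h1
    have hcommG : Commute (a * (((z : (P : Subgroup R)) : R) : Matrix.SpecialLinearGroup (Fin 2) F) * a⁻¹)
        (((z : (P : Subgroup R)) : R) : Matrix.SpecialLinearGroup (Fin 2) F) :=
      congrArg Subtype.val hcomm
    have hpow : (((z : (P : Subgroup R)) : R) : Matrix.SpecialLinearGroup (Fin 2) F) ^ Nat.card R = 1 := by
      have h1 := pow_card_eq_one' (G := R) (x := ((z : (P : Subgroup R)) : R))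
      exact_mod_cast congrArg Subtype.val h1
    rcases scalar_of_comm_conj p h2 a _ ha1 hap (Nat.card R) hR hpow hcommG with h | h
    · apply hz
      apply Subtype.ext
      apply Subtype.ext
      apply Subtype.ext
      exact h
    · have hord : orderOf (((z : (P : Subgroup R)) : R) : Matrix.SpecialLinearGroup (Fin 2) F) = 2 := by
        rw [h]; exact orderOf_sl2NegOne h2
      obtain ⟨k, hk⟩ := P.isPGroup' (z : (P : Subgroup R))
      have hk' : (((z : (P : Subgroup R)) : R) : Matrix.SpecialLinearGroup (Fin 2) F) ^ r ^ k = 1 := by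
        exact_mod_cast congrArg (fun w : (P : Subgroup R) => ((w : R) : Matrix.SpecialLinearGroup (Fin 2) F)) hk
      have hdvd2 : 2 ∣ r ^ k := hord ▸ orderOf_dvd_of_pow_eq_one hk'
      exact hr2 ((Nat.prime_dvd_prime_iff_eq Nat.prime_two hr).mp
        (Nat.prime_two.dvd_of_dvd_pow hdvd2)).symm
  exact IsPGroup.of_card (Nat.eq_prime_pow_of_unique_prime_dvd hcard0 key)


theorem conjAut_pow_eq_one {G : Type*} [Group G] (R : Subgroup G) (a : G)
    (ha : a ∈ Subgroup.normalizer (R : Set G)) (p : ℕ) (hap : a ^ p = 1) :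
    (conjAut R a ha) ^ p = 1 := by
  ext x
  rw [conjAut_pow, hap]
  simp

theorem isPGroup_zpowers_conjAut {G : Type*} [Group G] (R : Subgroup G) (a : G)
    (ha : a ∈ Subgroup.normalizer (R : Set G)) (p : ℕ) (hap : a ^ p = 1) :
    IsPGroup p (Subgroup.zpowers (conjAut R a ha)) := by
  intro ⟨ψ, hψ⟩
  obtain ⟨j, rfl⟩ := Subgroup.mem_zpowers_iff.mp hψ
  refine ⟨1, ?_⟩
  apply Subtype.ext
  show ((conjAut R a ha) ^ j) ^ p ^ 1 = 1
  rw [pow_one, ← zpow_natCast, ← zpow_mul, mul_comm, zpow_mul, zpow_natCast,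
    conjAut_pow_eq_one R a ha p hap, one_zpow]

/-- `R` is a quaternion group of order 8 containing `-1`. -/
theorem quat_of (F : Type) [Field F] [Fintype F] {p : ℕ} [Fact p.Prime] [CharP F p]
    (h2 : (2 : F) ≠ 0) (a : Matrix.SpecialLinearGroup (Fin 2) F) (ha1 : a ≠ 1) (hap : a ^ p = 1)
    (R : Subgroup (Matrix.SpecialLinearGroup (Fin 2) F)) (hR : (Nat.card R).Coprime p)
    (haR : a ∈ Subgroup.normalizer (R : Set (Matrix.SpecialLinearGroup (Fin 2) F)))
    (hkey : ∀ r ∈ R, Commute (a * r * a⁻¹) r → r = 1 ∨ r = sl2NegOne)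
    (g : Matrix.SpecialLinearGroup (Fin 2) F) (hgR : g ∈ R) (hg : ¬ Commute a g) :
    sl2NegOne ∈ R ∧ Nonempty (R ≃* QuaternionGroup 2) := by
  classical
  have h2grp := two_group F h2 a ha1 hap R hR haR
  have hg1 : g ≠ 1 := by
    rintro rfl
    exact hg (Commute.one_right a)
  haveI : Nontrivial R := ⟨⟨⟨g, hgR⟩, 1, fun h => hg1 (congrArg Subtype.val h)⟩⟩
  have hdvd : 2 ∣ Nat.card R := by
    obtain ⟨n, hn⟩ := IsPGroup.iff_card.mp h2grp
    have h1 : 1 < Nat.card R := Finite.one_lt_card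
    rw [hn] at h1 ⊢
    cases n with
    | zero => simp at h1
    | succ m => exact ⟨2 ^ m, by rw [pow_succ]; ring⟩
  have hinv : ∀ y : R, orderOf y = 2 →
      (y : Matrix.SpecialLinearGroup (Fin 2) F) = sl2NegOne := by
    intro y hy
    have h1 : y ^ 2 = 1 := by
      have h0 := pow_orderOf_eq_one y
      rwa [hy] at h0
    have h3 : (y : Matrix.SpecialLinearGroup (Fin 2) F) * (y : Matrix.SpecialLinearGroup (Fin 2) F) = 1 := by
      have := congrArg Subtype.val h1
      rw [pow_two] at this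
      exact this
    rcases eq_one_or_negOne_of_sq h2 _ h3 with h | h
    · exfalso
      have : y = 1 := Subtype.ext h
      rw [this, orderOf_one] at hy
      omega
    · exact h
  obtain ⟨x, hx⟩ := exists_prime_orderOf_dvd_card' 2 hdvd
  have hmem : sl2NegOne ∈ R := hinv x hx ▸ x.2
  have huniq : ∃! x : R, orderOf x = 2 := by
    refine ⟨⟨sl2NegOne, hmem⟩, ?_, ?_⟩
    · show orderOf (⟨sl2NegOne, hmem⟩ : R) = 2
      rw [Subgroup.orderOf_mk]
      exact orderOf_sl2NegOne h2
    · intro y hy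
      exact Subtype.ext (hinv y hy)
  have hcen := Subgroup.mem_center_iff.mp (sl2NegOne_mem_center (F := F))
  have hnc : ¬ IsMulCommutative R := by
    intro hc
    apply hg
    have hmem2 : a * g * a⁻¹ ∈ R := (Subgroup.mem_normalizer_iff.mp haR g).mp hgR
    have h1 : (⟨a * g * a⁻¹, hmem2⟩ : R) * ⟨g, hgR⟩ = ⟨g, hgR⟩ * ⟨a * g * a⁻¹, hmem2⟩ :=
      hc.is_comm.comm _ _
    have h3 : Commute (a * g * a⁻¹) g := congrArg Subtype.val h1
    rcases hkey g hgR h3 with h | h
    · rw [h]; exact Commute.one_right a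
    · rw [h]; exact hcen a
  obtain ⟨k, hk1, ⟨e⟩⟩ := Cfsg.Agent.Helper16.QuatExt.exists_quat h2grp hnc huniq
  haveI : NeZero (2 ^ k) := ⟨by positivity⟩
  have hord0 : orderOf (e.symm (QuaternionGroup.a 1)) = 2 * 2 ^ k := by
    rw [MulEquiv.orderOf_eq e.symm, QuaternionGroup.orderOf_a_one]
  have hordφ : orderOf (conjAut R a haR (e.symm (QuaternionGroup.a 1))) = 2 * 2 ^ k := by
    rw [MulEquiv.orderOf_eq (conjAut R a haR), hord0]
  have hpk : 2 ≤ 2 ^ k := by
    calc 2 = 2 ^ 1 := by norm_num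
      _ ≤ 2 ^ k := Nat.pow_le_pow_right (by norm_num) hk1
  have hk : k = 1 := by
    rcases heq : e (conjAut R a haR (e.symm (QuaternionGroup.a 1))) with i | i
    · exfalso
      have hc : conjAut R a haR (e.symm (QuaternionGroup.a 1)) * e.symm (QuaternionGroup.a 1) =
          e.symm (QuaternionGroup.a 1) * conjAut R a haR (e.symm (QuaternionGroup.a 1)) := by
        apply e.injective
        rw [map_mul, map_mul, heq, e.apply_symm_apply, QuaternionGroup.a_mul_a,
          QuaternionGroup.a_mul_a, add_comm]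
      have hcG : Commute (a * ((e.symm (QuaternionGroup.a 1) : R) :
          Matrix.SpecialLinearGroup (Fin 2) F) * a⁻¹)
          ((e.symm (QuaternionGroup.a 1) : R) : Matrix.SpecialLinearGroup (Fin 2) F) :=
        congrArg Subtype.val hc
      have ho := Subgroup.orderOf_coe (e.symm (QuaternionGroup.a 1) : R)
      rw [hord0] at ho
      rcases hkey _ (e.symm (QuaternionGroup.a 1) : R).2 hcG with h | h
      · rw [h, orderOf_one] at ho
        omega
      · rw [h, orderOf_sl2NegOne h2] at ho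
        omega
    · have h4 : orderOf (conjAut R a haR (e.symm (QuaternionGroup.a 1))) = 4 := by
        rw [← MulEquiv.orderOf_eq e, heq, QuaternionGroup.orderOf_xa]
      rw [hordφ] at h4
      have h5 : 2 ^ k = 2 ^ 1 := by omega
      exact Nat.pow_right_injective (le_refl 2) h5
  subst hk
  exact ⟨hmem, ⟨e⟩⟩

/-- `p = 3`. -/
theorem p_eq_three (F : Type) [Field F] [Fintype F] {p : ℕ} [Fact p.Prime] [CharP F p]
    (hp : p ≠ 2) (a : Matrix.SpecialLinearGroup (Fin 2) F) (hap : a ^ p = 1)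
    (R : Subgroup (Matrix.SpecialLinearGroup (Fin 2) F))
    (haR : a ∈ Subgroup.normalizer (R : Set (Matrix.SpecialLinearGroup (Fin 2) F)))
    (hkey : ∀ r ∈ R, Commute (a * r * a⁻¹) r → r = 1 ∨ r = sl2NegOne)
    (hneg : sl2NegOne ∈ R) (h2 : (2 : F) ≠ 0) (e : R ≃* QuaternionGroup 2) : p = 3 := by
  classical
  have hZ := isPGroup_zpowers_conjAut R a haR p hap
  have hcard : Nat.card R = 8 := by
    rw [Nat.card_congr e.toEquiv, Nat.card_eq_fintype_card, QuaternionGroup.card]
  have hcen := Subgroup.mem_center_iff.mp (sl2NegOne_mem_center (F := F))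
  have hfix : MulAction.fixedPoints (Subgroup.zpowers (conjAut R a haR)) R =
      {1, ⟨sl2NegOne, hneg⟩} := by
    ext r
    simp only [MulAction.mem_fixedPoints, Set.mem_insert_iff, Set.mem_singleton_iff]
    constructor
    · intro h
      have h1 : conjAut R a haR r = r := h ⟨conjAut R a haR, Subgroup.mem_zpowers _⟩
      have hc : Commute (a * (r : Matrix.SpecialLinearGroup (Fin 2) F) * a⁻¹)
          (r : Matrix.SpecialLinearGroup (Fin 2) F) := by
        have h3 := congrArg Subtype.val h1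
        rw [conjAut_apply] at h3
        rw [h3]
      rcases hkey r r.2 hc with h | h
      · left; exact Subtype.ext h
      · right; exact Subtype.ext h
    · rintro (rfl | rfl) ψ
      · exact smul_one ψ
      · have hfixφ : conjAut R a haR ∈
            MulAction.stabilizer (MulAut R) (⟨sl2NegOne, hneg⟩ : R) := by
          rw [MulAction.mem_stabilizer_iff]
          apply Subtype.ext
          show a * sl2NegOne * a⁻¹ = sl2NegOne
          rw [hcen a, mul_inv_cancel_right]
        have h5 : (ψ : MulAut R) ∈ MulAction.stabilizer (MulAut R) (⟨sl2NegOne, hneg⟩ : R) :=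
          (Subgroup.zpowers_le.mpr hfixφ) ψ.2
        exact MulAction.mem_stabilizer_iff.mp h5
  have hne : (1 : R) ≠ ⟨sl2NegOne, hneg⟩ := by
    intro h
    exact sl2NegOne_ne_one h2 (congrArg Subtype.val h).symm
  have hmod := hZ.card_modEq_card_fixedPoints R
  rw [hcard, hfix, Nat.card_coe_set_eq, Set.ncard_pair hne] at hmod
  have hdvd : p ∣ 8 - 2 := (Nat.modEq_iff_dvd' (by norm_num)).mp hmod.symm
  have hp' := (Fact.out : p.Prime)
  have h6 : p ∣ 2 * 3 := by norm_num at hdvd ⊢; exact hdvd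
  rcases (Nat.Prime.dvd_mul hp').mp h6 with h | h
  · exact absurd ((Nat.prime_dvd_prime_iff_eq hp' Nat.prime_two).mp h) hp
  · exact (Nat.prime_dvd_prime_iff_eq hp' Nat.prime_three).mp h


/-- `R⟨a⟩ ≅ SL₂(3)`. -/
theorem iso_sl23 (F : Type) [Field F] [Fintype F] [CharP F 3] (h2 : (2 : F) ≠ 0)
    (a : Matrix.SpecialLinearGroup (Fin 2) F) (hap : a ^ 3 = 1)
    (R : Subgroup (Matrix.SpecialLinearGroup (Fin 2) F))
    (haR : a ∈ Subgroup.normalizer (R : Set (Matrix.SpecialLinearGroup (Fin 2) F)))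
    (hkey : ∀ r ∈ R, Commute (a * r * a⁻¹) r → r = 1 ∨ r = sl2NegOne)
    (e : R ≃* QuaternionGroup 2)
    (g : Matrix.SpecialLinearGroup (Fin 2) F) (hgR : g ∈ R) (hg : ¬ Commute a g) :
    Nonempty (↥(R ⊔ Subgroup.zpowers a) ≃* Matrix.SpecialLinearGroup (Fin 2) (ZMod 3)) := by
  classical
  have hcR : g * a * g⁻¹ * a⁻¹ ∈ R := by
    have h1 : g * a * g⁻¹ * a⁻¹ = g * (a * g⁻¹ * a⁻¹) := by group
    rw [h1]
    exact R.mul_mem hgR ((Subgroup.mem_normalizer_iff.mp haR g⁻¹).mp (R.inv_mem hgR))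
  have hc1 : g * a * g⁻¹ * a⁻¹ ≠ 1 := by
    intro h
    apply hg
    have h1 : g * a * g⁻¹ = a := mul_inv_eq_one.mp h
    have h3 : g * a = a * g := mul_inv_eq_iff_eq_mul.mp h1
    exact h3.symm
  have htra : (a : Matrix (Fin 2) (Fin 2) F).trace = 2 := sl2_trace_eq_two_of_pow_char 3 a hap
  have hcn : g * a * g⁻¹ * a⁻¹ ≠ sl2NegOne := by
    intro h
    have h1 : g * a * g⁻¹ = sl2NegOne * a := mul_inv_eq_iff_eq_mul.mp h
    have h3 := sl2_trace_conj g a
    rw [h1, sl2NegOne_mul_val, Matrix.trace_neg, htra] at h3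
    have h4 : (2 : F) * 2 = 0 := by linear_combination -h3
    rcases mul_eq_zero.mp h4 with h' | h' <;> exact h2 h' 
  have hc4 : (g * a * g⁻¹ * a⁻¹) ^ 4 = 1 := by
    have h1 := quat2_pow_four (e ⟨_, hcR⟩)
    rw [← map_pow] at h1
    have h3 := (MulEquiv.map_eq_one_iff e).mp h1
    exact congrArg Subtype.val h3
  have hcc : (g * a * g⁻¹ * a⁻¹) * (g * a * g⁻¹ * a⁻¹) = sl2NegOne := by
    have h1 : ((g * a * g⁻¹ * a⁻¹) * (g * a * g⁻¹ * a⁻¹)) *
        ((g * a * g⁻¹ * a⁻¹) * (g * a * g⁻¹ * a⁻¹)) = 1 := by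
      rw [← hc4]
      simp only [pow_succ, pow_zero, one_mul, mul_assoc]
    rcases eq_one_or_negOne_of_sq h2 _ h1 with h | h
    · rcases eq_one_or_negOne_of_sq h2 _ h with h' | h'
      · exact absurd h' hc1
      · exact absurd h' hcn
    · exact h
  have htr0 := trace_eq_zero_of_sq _ hcc
  have hy : ((g * a * g⁻¹ : Matrix.SpecialLinearGroup (Fin 2) F) :
      Matrix (Fin 2) (Fin 2) F).trace = 2 :=
    sl2_trace_eq_two_of_pow_char 3 _ (by rw [conj_pow, hap, mul_one, mul_inv_cancel])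
  have hx : ((a⁻¹ : Matrix.SpecialLinearGroup (Fin 2) F) :
      Matrix (Fin 2) (Fin 2) F).trace = 2 :=
    sl2_trace_eq_two_of_pow_char 3 _ (by rw [inv_pow, hap, inv_one])
  have h3 : (3 : F) = 0 := by exact_mod_cast CharP.cast_eq_zero F 3
  have hxy : ((g * a * g⁻¹ * a⁻¹ : Matrix.SpecialLinearGroup (Fin 2) F) :
      Matrix (Fin 2) (Fin 2) F).trace = 2 + ZMod.castHom (dvd_refl 3) F 1 := by
    rw [map_one, htr0]
    linear_combination -h3
  obtain ⟨E⟩ := pair_equiv 3 h2 (g * a * g⁻¹) a⁻¹ hy hx 1 one_ne_zero hxy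
  have hK : Subgroup.closure ({g * a * g⁻¹, a⁻¹} : Set (Matrix.SpecialLinearGroup (Fin 2) F)) =
      R ⊔ Subgroup.zpowers a := by
    have haz : a ∈ R ⊔ Subgroup.zpowers a := (le_sup_right : Subgroup.zpowers a ≤ _) (Subgroup.mem_zpowers a)
    have hgz : g ∈ R ⊔ Subgroup.zpowers a := (le_sup_left : R ≤ _) hgR
    apply le_antisymm
    · rw [Subgroup.closure_le]
      intro w hw
      rcases hw with rfl | rfl
      · exact Subgroup.mul_mem _ (Subgroup.mul_mem _ hgz haz) (Subgroup.inv_mem _ hgz)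
      · exact Subgroup.inv_mem _ haz
    · have hxK : a⁻¹ ∈ Subgroup.closure ({g * a * g⁻¹, a⁻¹} :
          Set (Matrix.SpecialLinearGroup (Fin 2) F)) := Subgroup.subset_closure (by simp)
      have hyK : g * a * g⁻¹ ∈ Subgroup.closure ({g * a * g⁻¹, a⁻¹} :
          Set (Matrix.SpecialLinearGroup (Fin 2) F)) := Subgroup.subset_closure (by simp)
      have haK : a ∈ Subgroup.closure ({g * a * g⁻¹, a⁻¹} :
          Set (Matrix.SpecialLinearGroup (Fin 2) F)) := by
        simpa using Subgroup.inv_mem _ hxK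
      have hcK := Subgroup.mul_mem _ hyK hxK
      have hc'K := Subgroup.mul_mem _ (Subgroup.mul_mem _ haK hcK) hxK
      have hc'R : a * (g * a * g⁻¹ * a⁻¹) * a⁻¹ ∈ R := (Subgroup.mem_normalizer_iff.mp haR _).mp hcR
      have hnc : e ⟨_, hcR⟩ * e ⟨_, hc'R⟩ ≠ e ⟨_, hc'R⟩ * e ⟨_, hcR⟩ := by
        intro h
        rw [← map_mul, ← map_mul] at h
        have h1 := congrArg Subtype.val (e.injective h)
        have h5 : Commute (a * (g * a * g⁻¹ * a⁻¹) * a⁻¹) (g * a * g⁻¹ * a⁻¹) := h1.symm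
        rcases hkey _ hcR h5 with h' | h'
        · exact hc1 h'
        · exact hcn h'
      have hCK : (⟨_, hcR⟩ : R) ∈ (Subgroup.closure ({g * a * g⁻¹, a⁻¹} :
          Set (Matrix.SpecialLinearGroup (Fin 2) F))).subgroupOf R := Subgroup.mem_subgroupOf.mpr hcK
      have hC'K : (⟨_, hc'R⟩ : R) ∈ (Subgroup.closure ({g * a * g⁻¹, a⁻¹} :
          Set (Matrix.SpecialLinearGroup (Fin 2) F))).subgroupOf R := Subgroup.mem_subgroupOf.mpr hc'K
      apply sup_le
      · intro r hr
        have hr' : (⟨r, hr⟩ : R) ∈ (Subgroup.closure ({g * a * g⁻¹, a⁻¹} :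
            Set (Matrix.SpecialLinearGroup (Fin 2) F))).subgroupOf R := by
          rcases quat2_gen (e ⟨_, hcR⟩) (e ⟨_, hc'R⟩) (e ⟨r, hr⟩) hnc with
            h | h | h | h | h | h | h | h
          · rw [show (⟨r, hr⟩ : R) = 1 from e.injective (by rw [h, map_one])]
            exact Subgroup.one_mem _
          · rw [e.injective h]
            exact hCK
          · have hx : (⟨r, hr⟩ : R) = (⟨_, hcR⟩ : R) ^ 2 := e.injective (by rw [h, map_pow])
            rw [hx]
            exact Subgroup.pow_mem _ hCK 2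
          · have hx : (⟨r, hr⟩ : R) = (⟨_, hcR⟩ : R) ^ 3 := e.injective (by rw [h, map_pow])
            rw [hx]
            exact Subgroup.pow_mem _ hCK 3
          · rw [e.injective h]
            exact hC'K
          · have hx : (⟨r, hr⟩ : R) = (⟨_, hcR⟩ : R) * (⟨_, hc'R⟩ : R) :=
              e.injective (by rw [h, map_mul])
            rw [hx]
            exact Subgroup.mul_mem _ hCK hC'K
          · have hx : (⟨r, hr⟩ : R) = (⟨_, hcR⟩ : R) ^ 2 * (⟨_, hc'R⟩ : R) :=
              e.injective (by rw [h, map_mul, map_pow])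
            rw [hx]
            exact Subgroup.mul_mem _ (Subgroup.pow_mem _ hCK 2) hC'K
          · have hx : (⟨r, hr⟩ : R) = (⟨_, hcR⟩ : R) ^ 3 * (⟨_, hc'R⟩ : R) :=
              e.injective (by rw [h, map_mul, map_pow])
            rw [hx]
            exact Subgroup.mul_mem _ (Subgroup.pow_mem _ hCK 3) hC'K
        exact Subgroup.mem_subgroupOf.mp hr'
      · rw [Subgroup.zpowers_le]
        exact haK
  exact ⟨(MulEquiv.subgroupCongr hK.symm).trans E⟩

/-- Let F be a finite field of odd characteristic p and let a be a p-element of SL₂(F) normalizing a subgroup R of order prime to p with [R, a] ≠ 1. Then p = 3, R is a quaternion group of order 8, and R⟨a⟩ is isomorphic to SL₂(3). -/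
theorem result (F : Type) [Field F] [Fintype F] {p : ℕ} [Fact p.Prime] [CharP F p] (hp : p ≠ 2) (a : Matrix.SpecialLinearGroup (Fin 2) F) (ha : IsPGroup p ↥(Subgroup.zpowers a)) (R : Subgroup (Matrix.SpecialLinearGroup (Fin 2) F)) (hR : (Nat.card R).Coprime p) (haR : a ∈ Subgroup.normalizer (R : Set (Matrix.SpecialLinearGroup (Fin 2) F))) (hnt : ⁅R, Subgroup.zpowers a⁆ ≠ ⊥) : p = 3 ∧ Nonempty (↥R ≃* QuaternionGroup 2) ∧ Nonempty (↥(R ⊔ Subgroup.zpowers a) ≃* Matrix.SpecialLinearGroup (Fin 2) (ZMod 3)) := by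
  have h2 : (2 : F) ≠ 0 := by
    intro h
    have h1 : ((2 : ℕ) : F) = 0 := by exact_mod_cast h
    rw [CharP.cast_eq_zero_iff F p] at h1
    exact hp ((Nat.prime_dvd_prime_iff_eq (Fact.out : p.Prime) Nat.prime_two).mp h1)
  obtain ⟨g, hgR, hg⟩ : ∃ g ∈ R, ¬ Commute a g := by
    by_contra hcon
    push_neg at hcon
    apply hnt
    rw [Subgroup.commutator_eq_bot_iff_le_centralizer]
    intro g hg
    rw [Subgroup.mem_centralizer_iff]
    intro z hz
    obtain ⟨j, rfl⟩ := Subgroup.mem_zpowers_iff.mp hz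
    exact ((hcon g hg).zpow_left j).eq
  have ha1 : a ≠ 1 := by
    rintro rfl
    exact hg (Commute.one_left g)
  have hap : a ^ p = 1 := by
    obtain ⟨k, hk⟩ := ha ⟨a, Subgroup.mem_zpowers a⟩
    exact pow_char_eq_one p h2 a k (by simpa using congrArg Subtype.val hk)
  have hkey : ∀ r ∈ R, Commute (a * r * a⁻¹) r → r = 1 ∨ r = sl2NegOne := by
    intro r hr hc
    have hpow : r ^ Nat.card R = 1 := by
      have h1 := pow_card_eq_one' (G := R) (x := ⟨r, hr⟩)
      have h3 : (((⟨r, hr⟩ : R) ^ Nat.card R : R) : Matrix.SpecialLinearGroup (Fin 2) F) =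
          ((1 : R) : Matrix.SpecialLinearGroup (Fin 2) F) := congrArg Subtype.val h1
      rw [SubgroupClass.coe_pow, OneMemClass.coe_one] at h3
      exact h3
    exact scalar_of_comm_conj p h2 a r ha1 hap (Nat.card R) hR hpow hc
  obtain ⟨hneg, ⟨e⟩⟩ := quat_of F h2 a ha1 hap R hR haR hkey g hgR hg
  have hp3 := p_eq_three F hp a hap R haR hkey hneg h2 e
  subst hp3
  exact ⟨rfl, ⟨e⟩, iso_sl23 F h2 a hap R haR hkey e g hgR hg⟩

end Cfsg.Agent.S3740
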