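import Mathlib
import Cfsg.Statements.S3754
import Cfsg.Agent.Helper19.HH1

set_option autoImplicit false
open Cfsg

namespace Cfsg.Agent.S3754

/-- Let M be a finite p-soluble group and A a p-subgroup of M with Φ(A) ≤ O_p(M) but A ≰ O_p(M). Then there is x ∈ O_{p,p'}(M) such that L = ⟨A, xAx⁻¹⟩ satisfies: x ∈ O^p(L) and O^p(L) ≤ O_{p,p'}(M); [O^p(L), A] = O^p(L); A ∩ O_p(L) has index p in A; and [A ∩ O_p(L), L] ≤ O_p(M). Here O^p(L) is the subgroup generated by the p'-elements of L and O_{p,p'}(M) the preimage of O_{p'}(M/O_p(M)). -/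
theorem result {M : Type*} [Group M] [Finite M] {p : ℕ} [Fact p.Prime] (hM : Cfsg.IsPSolvable p M) (A : Subgroup M) (hA : IsPGroup p A) (hΦ : (frattini ↥A).map A.subtype ≤ Cfsg.pCore p M) (hnot : ¬ A ≤ Cfsg.pCore p M) : ∃ x ∈ (Cfsg.pPrimeCore p (M ⧸ Cfsg.pCore p M)).comap (QuotientGroup.mk' (Cfsg.pCore p M)), x ∈ (Cfsg.pResidual p ↥(A ⊔ A.map (MulAut.conj x).toMonoidHom)).map (A ⊔ A.map (MulAut.conj x).toMonoidHom).subtype ∧ (Cfsg.pResidual p ↥(A ⊔ A.map (MulAut.conj x).toMonoidHom)).map (A ⊔ A.map (MulAut.conj x).toMonoidHom).subtype ≤ (Cfsg.pPrimeCore p (M ⧸ Cfsg.pCore p M)).comap (QuotientGroup.mk' (Cfsg.pCore p M)) ∧ ⁅(Cfsg.pResidual p ↥(A ⊔ A.map (MulAut.conj x).toMonoidHom)).map (A ⊔ A.map (MulAut.conj x).toMonoidHom).subtype, A⁆ = (Cfsg.pResidual p ↥(A ⊔ A.map (MulAut.conj x).toMonoidHom)).map (A ⊔ A.map (MulAut.conj x).toMonoidHom).subtype ∧ (A ⊓ (Cfsg.pCore p ↥(A ⊔ A.map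 (MulAut.conj x).toMonoidHom)).map (A ⊔ A.map (MulAut.conj x).toMonoidHom).subtype).relIndex A = p ∧ ⁅A ⊓ (Cfsg.pCore p ↥(A ⊔ A.map (MulAut.conj x).toMonoidHom)).map (A ⊔ A.map (MulAut.conj x).toMonoidHom).subtype, A ⊔ A.map (MulAut.conj x).toMonoidHom⁆ ≤ Cfsg.pCore p M := by
  obtain ⟨hcomm, hpow, B, hBA, hBp, q, hq, hqB, a, ha, haq⟩ :=
    Cfsg.Agent.Helper19.HH.exists_core_data hM A hA hΦ hnot
  have hQm : ∃ m : ℕ, m.Coprime p ∧
      ∀ g ∈ (pPrimeCore p (M ⧸ pCore p M)).comap (QuotientGroup.mk' (pCore p M)),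
        g ^ m ∈ pCore p M := by
    refine ⟨Nat.card (pPrimeCore p (M ⧸ pCore p M)), Cfsg.Agent.Helper23.pPrimeCore_coprime p, ?_⟩
    intro g hg
    rw [← QuotientGroup.eq_one_iff]
    have h1 : (⟨QuotientGroup.mk' (pCore p M) g, hg⟩ : pPrimeCore p (M ⧸ pCore p M)) ^
        Nat.card (pPrimeCore p (M ⧸ pCore p M)) = 1 := pow_card_eq_one'
    have h2 := congrArg (fun z : pPrimeCore p (M ⧸ pCore p M) => (z : M ⧸ pCore p M)) h1
    simp only [Subgroup.coe_pow, Subgroup.coe_one] at h2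
    exact h2
  have hNQ : pCore p M ≤ (pPrimeCore p (M ⧸ pCore p M)).comap (QuotientGroup.mk' (pCore p M)) := by
    intro n hn
    rw [Subgroup.mem_comap]
    have h1 : QuotientGroup.mk' (pCore p M) n = 1 := (QuotientGroup.eq_one_iff n).2 hn
    rw [h1]
    exact Subgroup.one_mem _
  exact Cfsg.Agent.Helper19.HH.core (pCore p M) _ A B (Cfsg.Agent.Helper23.pCore_isPGroup p) hNQ hQm
    hA hcomm hpow hBA hBp q hq hqB a ha haq

end Cfsg.Agent.S3754
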