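import Cfsg.Statements.S3761
import Mathlib
import Cfsg.Agent.S0636
import Cfsg.Agent.S0519
import Cfsg.Agent.S0129
import Cfsg.Agent.S0016
import Cfsg.Agent.S1236
import Cfsg.Agent.S1337
import Cfsg.Agent.S3379
import Cfsg.Agent.S4399
import Cfsg.Agent.S4189
import Cfsg.Agent.Helper1.RankTwo
import Cfsg.Agent.Helper9.KleinSub
import Cfsg.Agent.Helper19.Nilpotent
import Cfsg.Agent.Helper23.OddPGroup
import Cfsg.Agent.Helper8.TwoLocal

set_option autoImplicit false
open Cfsg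
open scoped commutatorElement

namespace Cfsg.Agent.S3761

variable {G : Type*} [Group G]

theorem zpow_pow_comm (a : G) (k : ℤ) (p : ℕ) : (a ^ k) ^ p = (a ^ p) ^ k := by
  rw [← zpow_natCast (a ^ k) p, ← zpow_mul, mul_comm, zpow_mul, zpow_natCast]

/-- In a cyclic group `⟨a⟩` of order `p ^ n`, the elements of order dividing `p ^ j` are powers
of `a ^ (p ^ (n - j))`. -/
theorem mem_zpowers_of_pow [Finite G] {p : ℕ} (hp : p.Prime) (a : G) (n j : ℕ)
    (hjn : j ≤ n) (ha : orderOf a = p ^ n) (c : G) (hc : c ∈ Subgroup.zpowers a)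
    (hcp : c ^ (p ^ j) = 1) : c ∈ Subgroup.zpowers (a ^ (p ^ (n - j))) := by
  rw [← mem_powers_iff_mem_zpowers] at hc
  obtain ⟨k, rfl⟩ := (Submonoid.mem_powers_iff _ _).mp hc
  rw [← pow_mul] at hcp
  have h1 : p ^ n ∣ k * p ^ j := by rw [← ha]; exact orderOf_dvd_of_pow_eq_one hcp
  have h2 : p ^ (n - j) * p ^ j = p ^ n := by rw [← pow_add, Nat.sub_add_cancel hjn]
  rw [← h2] at h1
  have h3 : p ^ (n - j) ∣ k := Nat.dvd_of_mul_dvd_mul_right (pow_pos hp.pos j) h1
  obtain ⟨t, rfl⟩ := h3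
  rw [pow_mul]
  exact Subgroup.pow_mem _ (Subgroup.mem_zpowers _) t

theorem orderOf_z {p : ℕ} [hpf : Fact p.Prime] (a : G) (n : ℕ) (hn : 1 ≤ n)
    (ha : orderOf a = p ^ n) : orderOf (a ^ (p ^ (n - 1))) = p := by
  have hp : p.Prime := hpf.out
  apply orderOf_eq_prime
  · rw [← pow_mul, ← pow_succ, Nat.sub_add_cancel hn, ← ha, pow_orderOf_eq_one]
  · apply pow_ne_one_of_lt_orderOf (pow_pos hp.pos _).ne'
    rw [ha]
    exact Nat.pow_lt_pow_right hp.one_lt (by omega)

theorem eq_one_or_of_mem [Finite G] {z c : G} (hz : orderOf z = 2)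
    (hc : c ∈ Subgroup.zpowers z) : c = 1 ∨ c = z := by
  rw [← mem_powers_iff_mem_zpowers] at hc
  obtain ⟨k, rfl⟩ := (Submonoid.mem_powers_iff _ _).mp hc
  have h1 : z ^ (k % 2) = z ^ k := by
    have := pow_mod_orderOf z k
    rw [hz] at this
    exact this
  have h2 : k % 2 = 0 ∨ k % 2 = 1 := by omega
  rcases h2 with h | h
  · left; rw [← h1, h, pow_zero]
  · right; rw [← h1, h, pow_one]

/-- The hypotheses on the generator `a` of the cyclic normal self-centralizing subgroup. -/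
structure Data (p : ℕ) (a : G) (n : ℕ) : Prop where
  ord : orderOf a = p ^ n
  normal : (Subgroup.zpowers a).Normal
  cent : Subgroup.centralizer ((Subgroup.zpowers a : Subgroup G) : Set G) = Subgroup.zpowers a

/-- The centralizer of the subgroup of `p`-th powers. -/
def cM (p : ℕ) (a : G) : Subgroup G :=
  Subgroup.centralizer ((Subgroup.zpowers (a ^ p) : Subgroup G) : Set G)

theorem mem_cM {p : ℕ} {a g : G} : g ∈ cM p a ↔ g * a ^ p = a ^ p * g := by
  constructor
  · intro h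
    exact ((Subgroup.mem_centralizer_iff.mp h) (a ^ p) (Subgroup.mem_zpowers _)).symm
  · intro h
    exact Cfsg.Agent.S0519.mem_centralizer_zpowers (a ^ p) g h

theorem zp_le_cM {p : ℕ} {a : G} : Subgroup.zpowers a ≤ cM p a := by
  intro u hu
  rw [mem_cM]
  exact Cfsg.Agent.S1236.zp_comm a u (a ^ p) hu (Subgroup.pow_mem _ (Subgroup.mem_zpowers a) p)

theorem powerClosure_eq (p : ℕ) (a : G) :
    Cfsg.powerClosure p 1 (Subgroup.zpowers a) = Subgroup.zpowers (a ^ p) := by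
  unfold Cfsg.powerClosure
  apply le_antisymm
  · rw [Subgroup.closure_le]
    rintro y ⟨x, hx, rfl⟩
    obtain ⟨k, rfl⟩ := Subgroup.mem_zpowers_iff.mp hx
    rw [pow_one, SetLike.mem_coe, Subgroup.mem_zpowers_iff]
    exact ⟨k, (zpow_pow_comm a k p).symm⟩
  · rw [Subgroup.zpowers_le]
    apply Subgroup.subset_closure
    exact ⟨a, Subgroup.mem_zpowers a, by rw [pow_one]⟩

theorem zp_normal {p : ℕ} {a : G} {n : ℕ} (hD : Data p a n) :
    (Subgroup.zpowers (a ^ p)).Normal := by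
  constructor
  intro x hx g
  obtain ⟨k, rfl⟩ := Subgroup.mem_zpowers_iff.mp hx
  have h1 : g * a * g⁻¹ ∈ Subgroup.zpowers a := hD.normal.conj_mem a (Subgroup.mem_zpowers a) g
  obtain ⟨j, hj⟩ := Subgroup.mem_zpowers_iff.mp h1
  have h2 : g * (a ^ p) ^ k * g⁻¹ = ((a ^ p) ^ j) ^ k := by
    rw [← conj_zpow, ← conj_pow, ← hj, zpow_pow_comm]
  rw [h2]
  exact Subgroup.zpow_mem _ (Subgroup.zpow_mem _ (Subgroup.mem_zpowers _) j) k

theorem cM_normal {p : ℕ} {a : G} {n : ℕ} (hD : Data p a n) : (cM p a).Normal := by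
  haveI := zp_normal hD
  unfold cM
  infer_instance

theorem comm_mem_z [Finite G] {p : ℕ} [Fact p.Prime] {a : G} {n : ℕ} (hD : Data p a n)
    (hn : 1 ≤ n) {g : G} (hg : g ∈ cM p a) (u : G) (hu : u ∈ Subgroup.zpowers a) :
    g * u * g⁻¹ * u⁻¹ ∈ Subgroup.zpowers (a ^ (p ^ (n - 1))) := by
  have hp : p.Prime := Fact.out
  have h1 : g * u * g⁻¹ ∈ Subgroup.zpowers a := hD.normal.conj_mem u hu g
  have h2 : g * u * g⁻¹ * u⁻¹ ∈ Subgroup.zpowers a :=
    Subgroup.mul_mem _ h1 (Subgroup.inv_mem _ hu)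
  have h3 : Commute (g * u * g⁻¹) u⁻¹ :=
    Cfsg.Agent.S1236.zp_comm a _ _ h1 (Subgroup.inv_mem _ hu)
  have h4 : g * u ^ p * g⁻¹ = u ^ p := by
    obtain ⟨k, rfl⟩ := Subgroup.mem_zpowers_iff.mp hu
    rw [zpow_pow_comm]
    have h6 : g * (a ^ p) ^ k = (a ^ p) ^ k * g :=
      ((show Commute g (a ^ p) from mem_cM.mp hg).zpow_right k).eq
    rw [h6, mul_inv_cancel_right]
  apply mem_zpowers_of_pow hp a n 1 hn hD.ord _ h2
  rw [pow_one, h3.mul_pow, conj_pow, h4, inv_pow, mul_inv_cancel]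

theorem relIndex_le [Finite G] {p : ℕ} [Fact p.Prime] {a : G} {n : ℕ} (hD : Data p a n)
    (hn : 1 ≤ n) : (Subgroup.zpowers a).relIndex (cM p a) ≤ p := by
  have key := Cfsg.Agent.S0129.index_le_of_fiber ((Subgroup.zpowers a).subgroupOf (cM p a))
    (T := ↥(Subgroup.zpowers (a ^ (p ^ (n - 1)))))
    (fun g : ↥(cM p a) => ⟨(g : G) * a * (g : G)⁻¹ * a⁻¹,
      comm_mem_z hD hn g.2 a (Subgroup.mem_zpowers a)⟩)
    (by
      intro g h hgh
      rw [Subgroup.mem_subgroupOf]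
      have heq : (g : G) * a * (g : G)⁻¹ * a⁻¹ = (h : G) * a * (h : G)⁻¹ * a⁻¹ :=
        congrArg Subtype.val hgh
      have h1 : (g : G) * a * (g : G)⁻¹ = (h : G) * a * (h : G)⁻¹ := mul_right_cancel heq
      show ((g⁻¹ * h : ↥(cM p a)) : G) ∈ Subgroup.zpowers a
      rw [Subgroup.coe_mul, Subgroup.coe_inv, ← hD.cent]
      apply Cfsg.Agent.S0519.mem_centralizer_zpowers
      calc (g : G)⁻¹ * h * a = (g : G)⁻¹ * ((h : G) * a * (h : G)⁻¹) * h := by group
        _ = (g : G)⁻¹ * ((g : G) * a * (g : G)⁻¹) * h := by rw [h1]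
        _ = a * ((g : G)⁻¹ * h) := by group)
  have hcard : Nat.card (Subgroup.zpowers (a ^ (p ^ (n - 1)))) = p := by
    rw [Nat.card_zpowers, orderOf_z a n hn hD.ord]
  rw [hcard] at key
  exact key

theorem relIndex_eq [Finite G] {p : ℕ} [Fact p.Prime] (hG : IsPGroup p G) {a : G} {n : ℕ}
    (hD : Data p a n) (hn : 1 ≤ n) :
    (Subgroup.zpowers a).relIndex (cM p a) = 1 ∨ (Subgroup.zpowers a).relIndex (cM p a) = p := by
  have hp : p.Prime := Fact.out
  have h4 : p < p ^ 2 := by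
    calc p = p ^ 1 := (pow_one p).symm
      _ < p ^ 2 := Nat.pow_lt_pow_right hp.one_lt (by norm_num)
  have h1 := relIndex_le hD hn
  have h2 : (Subgroup.zpowers a).relIndex (cM p a) ∣ Nat.card (cM p a) :=
    Subgroup.relIndex_dvd_card _ _
  obtain ⟨m, hm⟩ := IsPGroup.iff_card.mp (hG.to_subgroup (cM p a))
  rw [hm] at h2
  obtain ⟨j, hj, hj2⟩ := (Nat.dvd_prime_pow hp).mp h2
  rcases Nat.lt_or_ge j 2 with hlt | hge
  · have : j = 0 ∨ j = 1 := by omega
    rcases this with rfl | rfl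
    · left; rw [hj2, pow_zero]
    · right; rw [hj2, pow_one]
  · exfalso
    have h3 : p ^ 2 ≤ p ^ j := Nat.pow_le_pow_right hp.pos hge
    rw [hj2] at h1
    omega

theorem le_cM_of_normal [Finite G] {p : ℕ} [Fact p.Prime] (hG : IsPGroup p G) {a : G}
    (A : Subgroup G) (hAn : A.Normal) (hA2 : Nat.card A = p ^ 2) : A ≤ cM p a := by
  have hp : p.Prime := Fact.out
  have h4 : p < p ^ 2 := by
    calc p = p ^ 1 := (pow_one p).symm
      _ < p ^ 2 := Nat.pow_lt_pow_right hp.one_lt (by norm_num)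
  haveI := hAn
  have hidx := Cfsg.Agent.S0129.index_centralizer_le hG 2 A hAn hA2
  have hsum : (∑ i ∈ Finset.range 2, i) = 1 := by decide
  rw [hsum, pow_one] at hidx
  obtain ⟨C, hC⟩ : ∃ C, C = Subgroup.centralizer (A : Set G) := ⟨_, rfl⟩
  rw [← hC] at hidx
  haveI hCn : C.Normal := by rw [hC]; infer_instance
  have hdvd : C.index ∣ p := by
    have h2 : C.index ∣ Nat.card G := Subgroup.index_dvd_card C
    obtain ⟨m, hm⟩ := IsPGroup.iff_card.mp hG
    rw [hm] at h2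
    obtain ⟨j, hj, hj2⟩ := (Nat.dvd_prime_pow hp).mp h2
    rcases Nat.lt_or_ge j 2 with hlt | hge
    · have : j = 0 ∨ j = 1 := by omega
      rcases this with rfl | rfl
      · rw [hj2, pow_zero]; exact one_dvd p
      · rw [hj2, pow_one]
    · exfalso
      have h3 : p ^ 2 ≤ p ^ j := Nat.pow_le_pow_right hp.pos hge
      rw [hj2] at hidx
      omega
  have hapC : a ^ p ∈ C := by
    rw [← QuotientGroup.eq_one_iff, QuotientGroup.mk_pow]
    obtain ⟨t, ht⟩ := hdvd
    have h1 : (QuotientGroup.mk a : G ⧸ C) ^ C.index = 1 := by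
      rw [Subgroup.index_eq_card]; exact pow_card_eq_one'
    have h2 : (QuotientGroup.mk a : G ⧸ C) ^ (C.index * t) = 1 := by
      rw [pow_mul, h1, one_pow]
    rw [← ht] at h2
    exact h2
  intro x hx
  rw [mem_cM]
  rw [hC, Subgroup.mem_centralizer_iff] at hapC
  exact hapC x hx

theorem omegaOne_normal (p : ℕ) (M : Subgroup G) (hM : M.Normal) :
    (Cfsg.omegaOne p M).Normal := by
  constructor
  intro x hx g
  have h1 : (Cfsg.omegaOne p M).map (MulAut.conj g).toMonoidHom ≤ Cfsg.omegaOne p M := by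
    unfold Cfsg.omegaOne
    rw [MonoidHom.map_closure]
    apply Subgroup.closure_mono
    rintro _ ⟨y, ⟨hyM, hyp⟩, rfl⟩
    refine ⟨hM.conj_mem y hyM g, ?_⟩
    show (g * y * g⁻¹) ^ p = 1
    rw [conj_pow, hyp, mul_one, mul_inv_cancel]
  exact h1 ⟨x, hx, rfl⟩

theorem second_alt [Finite G] {p : ℕ} [Fact p.Prime] (hG : IsPGroup p G) {a : G} {n : ℕ}
    (hD : Data p a n) (A : Subgroup G) (hAM : A ≤ cM p a) (hAp : ∀ x ∈ A, x ^ p = 1)
    (hA2 : Nat.card A = p ^ 2) (hall : ∀ x ∈ cM p a, x ^ p = 1 → x ∈ A) :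
    Cfsg.IsElementaryAbelian p (Cfsg.omegaOne p (cM p a)) ∧
      Nat.card ↥(Cfsg.omegaOne p (cM p a)) = p ^ 2 ∧
      (Cfsg.omegaOne p (cM p a)).Characteristic := by
  have hΩ : Cfsg.omegaOne p (cM p a) = A := by
    apply le_antisymm
    · unfold Cfsg.omegaOne
      rw [Subgroup.closure_le]
      rintro x ⟨hxM, hxp⟩
      exact hall x hxM hxp
    · intro x hx
      unfold Cfsg.omegaOne
      exact Subgroup.subset_closure ⟨hAM hx, hAp x hx⟩
  have hMn : (cM p a).Normal := cM_normal hD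
  have hΩn : (Cfsg.omegaOne p (cM p a)).Normal := omegaOne_normal p _ hMn
  rw [hΩ] at hΩn ⊢
  refine ⟨⟨IsPGroup.isMulCommutative_of_card_eq_prime_sq hA2, hAp⟩, hA2, ?_⟩
  rw [Subgroup.characteristic_iff_map_le]
  intro φ
  have h1 : (A.map φ.toMonoidHom).Normal := hΩn.map _ φ.surjective
  have h2 : Nat.card (A.map φ.toMonoidHom) = p ^ 2 := by
    rw [Subgroup.card_map_of_injective φ.injective, hA2]
  have h3 := le_cM_of_normal (a := a) hG (A.map φ.toMonoidHom) h1 h2
  rintro _ ⟨x, hx, rfl⟩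
  apply hall _ (h3 ⟨x, hx, rfl⟩)
  show (φ x) ^ p = 1
  rw [← map_pow, hAp x hx, map_one]

theorem exists_of_abelian [Finite G] {p : ℕ} [Fact p.Prime] (hP : IsPGroup p G)
    (N : Subgroup G) (hNn : N.Normal) (hNc : IsMulCommutative N) (hNnc : ¬ IsCyclic N) :
    ∃ V : Subgroup G, V.Normal ∧ (∀ x ∈ V, x ^ p = 1) ∧ Nat.card V = p ^ 2 := by
  have hpp : p.Prime := Fact.out
  have hNc' := (Cfsg.Agent.S1337.comm_iff N).mp hNc
  have hmul : ∀ a ∈ N, ∀ b ∈ N, a ^ p = 1 → b ^ p = 1 → (a * b) ^ p = 1 := by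
    intro a ha b hb hap hbp
    rw [(show Commute a b from hNc' a ha b hb).mul_pow, hap, hbp, one_mul]
  obtain ⟨Ω, hΩ⟩ : ∃ Ω, Ω = Cfsg.Agent.S0636.omegaSub p N hmul := ⟨_, rfl⟩
  have hmem : ∀ x, x ∈ Ω ↔ x ∈ N ∧ x ^ p = 1 := by
    intro x; rw [hΩ]; exact Iff.rfl
  have hΩn : Ω.Normal := by
    constructor
    intro n hn g
    rw [hmem] at hn ⊢
    exact ⟨hNn.conj_mem n hn.1 g, by rw [conj_pow, hn.2, mul_one, mul_inv_cancel]⟩
  have key : ∃ z x : ↥N, z ≠ 1 ∧ z ^ p = 1 ∧ x ^ p = 1 ∧ x ∉ Subgroup.zpowers z := by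
    letI : CommGroup ↥N := { (inferInstance : Group ↥N) with mul_comm := hNc.is_comm.comm }
    exact Cfsg.Agent.Helper23.exists_rank_two_pgroup_comm (hP.to_subgroup N) hNnc
  obtain ⟨z, x, hz1, hzp, hxp, hxz⟩ := key
  have hzΩ : (z : G) ∈ Ω :=
    (hmem _).mpr ⟨z.2, by rw [← Subgroup.coe_pow, hzp, Subgroup.coe_one]⟩
  have hxΩ : (x : G) ∈ Ω :=
    (hmem _).mpr ⟨x.2, by rw [← Subgroup.coe_pow, hxp, Subgroup.coe_one]⟩
  have hzo : orderOf (z : G) = p := by
    rw [Subgroup.orderOf_coe]; exact orderOf_eq_prime hzp hz1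
  have hxz' : (x : G) ∉ Subgroup.zpowers (z : G) := by
    intro h
    obtain ⟨i, hi⟩ := Subgroup.mem_zpowers_iff.mp h
    apply hxz
    rw [Subgroup.mem_zpowers_iff]
    exact ⟨i, Subtype.ext (by rw [Subgroup.coe_zpow]; exact hi)⟩
  have hΩcard : p < Nat.card Ω := by
    by_contra hcon
    push Not at hcon
    have heq : Subgroup.zpowers (z : G) = Ω :=
      Subgroup.eq_of_le_of_card_ge (Subgroup.zpowers_le.mpr hzΩ)
        (by rw [Nat.card_zpowers, hzo]; exact hcon)
    exact hxz' (heq ▸ hxΩ)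
  obtain ⟨m, hm⟩ := IsPGroup.iff_card.mp (hP.to_subgroup Ω)
  have hm2 : 2 ≤ m := by
    by_contra hcon
    have : m = 0 ∨ m = 1 := by omega
    rcases this with rfl | rfl
    · rw [hm, pow_zero] at hΩcard
      have := hpp.one_lt
      omega
    · rw [hm, pow_one] at hΩcard
      omega
  obtain ⟨d, rfl⟩ : ∃ d, m = 2 + d := ⟨m - 2, by omega⟩
  obtain ⟨A, hAΩ, hAn, hAc⟩ := Cfsg.Agent.S0636.chain hP 2 d Ω hΩn hm
  exact ⟨A, hAn, fun a ha => ((hmem a).mp (hAΩ ha)).2, hAc⟩

theorem n_ge_two [Finite G] {p : ℕ} [Fact p.Prime] (hG : IsPGroup p G)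
    (hna : ¬ IsMulCommutative G) {a : G} {n : ℕ} (hD : Data p a n) : 2 ≤ n := by
  have hp : p.Prime := Fact.out
  by_contra hcon
  have hn1 : n ≤ 1 := by omega
  haveI := hD.normal
  haveI : Group.IsNilpotent G := hG.isNilpotent
  have hUZ : Subgroup.zpowers a ≤ Subgroup.center G := by
    by_cases hbot : Subgroup.zpowers a = ⊥
    · rw [hbot]; exact bot_le
    · have h1 := Cfsg.Agent.Helper19.inf_center_ne_bot_of_normal (Subgroup.zpowers a) hbot
      have h2 : Nat.card (Subgroup.zpowers a ⊓ Subgroup.center G : Subgroup G) ∣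
          Nat.card (Subgroup.zpowers a) := Subgroup.card_dvd_of_le inf_le_left
      have h3 : Nat.card (Subgroup.zpowers a ⊓ Subgroup.center G : Subgroup G) ≠ 1 :=
        fun h => h1 (Subgroup.eq_bot_of_card_eq _ h)
      have hn' : n = 1 := by
        by_contra h
        have h0 : n = 0 := by omega
        apply hbot
        apply Subgroup.eq_bot_of_card_eq
        rw [Nat.card_zpowers, hD.ord, h0, pow_zero]
      rw [Nat.card_zpowers, hD.ord, hn', pow_one] at h2
      rcases (Nat.dvd_prime hp).mp h2 with h | h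
      · exact absurd h h3
      · have heq : Subgroup.zpowers a ⊓ Subgroup.center G = Subgroup.zpowers a :=
          Subgroup.eq_of_le_of_card_ge inf_le_left
            (by rw [h, Nat.card_zpowers, hD.ord, hn', pow_one])
        rw [← heq]; exact inf_le_right
  apply hna
  have hall : ∀ u : G, u ∈ Subgroup.zpowers a := by
    intro u
    rw [← hD.cent, Subgroup.mem_centralizer_iff]
    intro h hh
    exact (Subgroup.mem_center_iff.mp (hUZ hh) u).symm
  exact ⟨⟨fun u v => Cfsg.Agent.S1236.zp_comm a u v (hall u) (hall v)⟩⟩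

theorem exists_index_two_elt [Finite G]
    (hcases : (∃ m : ℕ, Nonempty (G ≃* QuaternionGroup m)) ∨
      (∃ m : ℕ, 8 ≤ m ∧ Nonempty (G ≃* DihedralGroup m)) ∨ Cfsg.IsQuasiDihedral G) :
    ∃ x : G, 2 * orderOf x = Nat.card G := by
  rcases hcases with ⟨n, ⟨e⟩⟩ | ⟨n, hn, ⟨e⟩⟩ | ⟨n, hn, hcard, x, y, hx, -, -⟩
  · have ho : orderOf (e.symm (QuaternionGroup.a 1)) = 2 * n := by
      rw [MulEquiv.orderOf_eq, QuaternionGroup.orderOf_a_one]
    have hpos : 0 < orderOf (e.symm (QuaternionGroup.a 1)) := orderOf_pos _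
    have hn0 : n ≠ 0 := by
      rintro rfl
      omega
    haveI : NeZero n := ⟨hn0⟩
    refine ⟨e.symm (QuaternionGroup.a 1), ?_⟩
    rw [ho, Nat.card_congr e.toEquiv, Nat.card_eq_fintype_card, QuaternionGroup.card]
    ring
  · refine ⟨e.symm (DihedralGroup.r 1), ?_⟩
    rw [MulEquiv.orderOf_eq, DihedralGroup.orderOf_r_one, Nat.card_congr e.toEquiv,
      DihedralGroup.nat_card]
  · exact ⟨x, by rw [hx, hcard, pow_succ]; ring⟩

theorem pow_card_mem [Finite G] (H : Subgroup G) {x : G} (hx : x ∈ H) :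
    x ^ Nat.card H = 1 := by
  have h : (⟨x, hx⟩ : ↥H) ^ Nat.card ↥H = 1 := pow_card_eq_one'
  exact congrArg Subtype.val h

theorem case_le [Finite G] {p : ℕ} [Fact p.Prime] (hG : IsPGroup p G)
    (hna : ¬ IsMulCommutative G) {a : G} {n : ℕ} (hD : Data p a n) (hn : 1 ≤ n)
    (hMU : cM p a ≤ Subgroup.zpowers a) :
    p = 2 ∧ Nat.card G = 2 ^ (n + 1) ∧ ((∃ m : ℕ, Nonempty (G ≃* DihedralGroup m)) ∨
      (∃ m : ℕ, Nonempty (G ≃* QuaternionGroup m)) ∨ Cfsg.IsQuasiDihedral G) := by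
  have hp : p.Prime := Fact.out
  have h4 : p < p ^ 2 := by
    calc p = p ^ 1 := (pow_one p).symm
      _ < p ^ 2 := Nat.pow_lt_pow_right hp.one_lt (by norm_num)
  have hsmall : ∀ V : Subgroup G, V ≤ Subgroup.zpowers a → (∀ x ∈ V, x ^ p = 1) →
      Nat.card V ≤ p := by
    intro V hV hVp
    have hle : V ≤ Subgroup.zpowers (a ^ (p ^ (n - 1))) := by
      intro x hx
      exact mem_zpowers_of_pow hp a n 1 hn hD.ord x (hV hx) (by rw [pow_one]; exact hVp x hx)
    have := Subgroup.card_le_of_le hle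
    rw [Nat.card_zpowers, orderOf_z a n hn hD.ord] at this
    exact this
  have hn_all : ∀ N : Subgroup G, N.Normal → IsMulCommutative N → IsCyclic N := by
    intro N hNn hNc
    by_contra hNnc
    obtain ⟨V, hVn, hVp, hV2⟩ := exists_of_abelian hG N hNn hNc hNnc
    have h1 := le_cM_of_normal (a := a) hG V hVn hV2
    have h2 := hsmall V (h1.trans hMU) hVp
    omega
  have hQDS : p = 2 ∧ ((∃ m : ℕ, Nonempty (G ≃* QuaternionGroup m)) ∨
      (∃ m : ℕ, 8 ≤ m ∧ Nonempty (G ≃* DihedralGroup m)) ∨ Cfsg.IsQuasiDihedral G) := by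
    by_cases hm : ∃ B : Subgroup G, IsMulCommutative B ∧ ¬ IsCyclic B
    · exact Cfsg.Agent.S0519.result p hG hn_all hm
    · push Not at hm
      haveI : Nontrivial G := by
        by_contra hnt
        rw [not_nontrivial_iff_subsingleton] at hnt
        exact hna ⟨⟨fun x y => Subsingleton.elim _ _⟩⟩
      haveI hZnt : Nontrivial (Subgroup.center G) := hG.center_nontrivial
      obtain ⟨k, hk⟩ := IsPGroup.iff_card.mp (hG.to_subgroup (Subgroup.center G))
      have hk0 : k ≠ 0 := by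
        rintro rfl
        rw [pow_zero] at hk
        have := Finite.one_lt_card (α := ↥(Subgroup.center G))
        omega
      have hpZ : p ∣ Nat.card (Subgroup.center G) := by rw [hk]; exact dvd_pow_self p hk0
      obtain ⟨c0, hc0⟩ := exists_prime_orderOf_dvd_card' (G := ↥(Subgroup.center G)) p hpZ
      obtain ⟨c, hcdef⟩ : ∃ c : G, c = (c0 : G) := ⟨_, rfl⟩
      have hco : orderOf c = p := by rw [hcdef, Subgroup.orderOf_coe]; exact hc0
      have hcZ : c ∈ Subgroup.center G := by rw [hcdef]; exact c0.2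
      have hcp : c ^ p = 1 := by rw [← hco]; exact pow_orderOf_eq_one c
      have key : ∀ H : Subgroup G, Nat.card H = p → H = Subgroup.zpowers c := by
        intro H hH
        haveI : IsCyclic ↥H := isCyclic_of_prime_card hH
        have hHc : ∀ x ∈ H, ∀ y ∈ H, x * y = y * x :=
          (Cfsg.Agent.S1337.comm_iff H).mp IsCyclic.isMulCommutative
        have hHp : ∀ x ∈ H, x ^ p = 1 := by
          intro x hx
          have := pow_card_mem H hx
          rw [hH] at this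
          exact this
        have hZc : ∀ x ∈ Subgroup.zpowers c, ∀ y ∈ Subgroup.zpowers c, x * y = y * x :=
          fun x hx y hy => Cfsg.Agent.S1236.zp_comm c x y hx hy
        have hZp : ∀ x ∈ Subgroup.zpowers c, x ^ p = 1 := by
          intro x hx
          obtain ⟨i, rfl⟩ := Subgroup.mem_zpowers_iff.mp hx
          exact Cfsg.Agent.Helper1.pow_zpow_eq_one hcp i
        have hHZ : ∀ x ∈ H, ∀ y ∈ Subgroup.zpowers c, x * y = y * x := by
          intro x _ y hy
          exact Subgroup.mem_center_iff.mp ((Subgroup.zpowers_le.mpr hcZ) hy) x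
        obtain ⟨hBc, hBp⟩ := Cfsg.Agent.S1337.sup_elab p H (Subgroup.zpowers c) hHc hHp hZc hZp hHZ
        have hBcyc : IsCyclic ↥(H ⊔ Subgroup.zpowers c) :=
          hm _ ((Cfsg.Agent.S1337.comm_iff _).mpr hBc)
        obtain ⟨g, hg⟩ := IsCyclic.exists_ofOrder_eq_natCard (α := ↥(H ⊔ Subgroup.zpowers c))
        have h1 : g ^ p = 1 :=
          Subtype.ext (by rw [Subgroup.coe_pow, Subgroup.coe_one]; exact hBp g g.2)
        have h2 := Nat.le_of_dvd hp.pos (orderOf_dvd_of_pow_eq_one h1)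
        rw [hg] at h2
        have e1 : H = H ⊔ Subgroup.zpowers c :=
          Subgroup.eq_of_le_of_card_ge le_sup_left (by rw [hH]; exact h2)
        have e2 : Subgroup.zpowers c = H ⊔ Subgroup.zpowers c :=
          Subgroup.eq_of_le_of_card_ge le_sup_right (by rw [Nat.card_zpowers, hco]; exact h2)
        exact e1.trans e2.symm
      rcases Cfsg.Agent.S0016.result p hG
        (fun H K hH hK => (key H hH).trans (key K hK).symm) with hcyc | ⟨hp2, k, ⟨e⟩⟩
      · exfalso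
        haveI := hcyc
        exact hna IsCyclic.isMulCommutative
      · exact ⟨hp2, Or.inl ⟨2 ^ k, ⟨e⟩⟩⟩
  obtain ⟨hp2, hcases⟩ := hQDS
  subst hp2
  obtain ⟨x, hx⟩ := exists_index_two_elt hcases
  obtain ⟨C, hC⟩ : ∃ C, C = Subgroup.zpowers x := ⟨_, rfl⟩
  have hCcard : Nat.card C = orderOf x := by rw [hC, Nat.card_zpowers]
  have hCi : C.index = 2 := by
    have h1 := Subgroup.card_mul_index C
    rw [hCcard, ← hx] at h1
    have hpos : 0 < orderOf x := orderOf_pos x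
    nlinarith
  have ha2 : a ^ 2 ∈ C := Subgroup.sq_mem_of_index_two hCi a
  have hCM : C ≤ cM 2 a := by
    intro c hc
    rw [mem_cM]
    rw [hC] at hc ha2
    exact Cfsg.Agent.S1236.zp_comm x c (a ^ 2) hc ha2
  have hCU : C ≤ Subgroup.zpowers a := hCM.trans hMU
  have h1 := Subgroup.card_le_of_le hCU
  rw [hCcard, Nat.card_zpowers, hD.ord] at h1
  have hUne : Subgroup.zpowers a ≠ ⊤ := by
    intro htop
    apply hna
    exact ⟨⟨fun u v => Cfsg.Agent.S1236.zp_comm a u v (by rw [htop]; exact Subgroup.mem_top u)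
      (by rw [htop]; exact Subgroup.mem_top v)⟩⟩
  have h2 : Nat.card (Subgroup.zpowers a) ∣ Nat.card G := Subgroup.card_subgroup_dvd_card _
  rw [Nat.card_zpowers, hD.ord] at h2
  obtain ⟨j, hj⟩ := h2
  have hj1 : j ≠ 1 := by
    rintro rfl
    apply hUne
    apply Subgroup.eq_top_of_card_eq
    rw [Nat.card_zpowers, hD.ord, hj, mul_one]
  have hj0 : j ≠ 0 := by
    rintro rfl
    have : 0 < Nat.card G := Nat.card_pos
    rw [hj, mul_zero] at this
    omega
  have hcard : Nat.card G = 2 ^ (n + 1) := by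
    have h3 : 2 ^ n * j ≤ 2 ^ n * 2 := by rw [← hj, ← hx]; linarith
    have h5 : j ≤ 2 := Nat.le_of_mul_le_mul_left h3 (pow_pos (by norm_num) n)
    have h6 : j = 2 := by omega
    rw [hj, h6, pow_succ]
  refine ⟨rfl, hcard, ?_⟩
  rcases hcases with ⟨m, hm⟩ | ⟨m, -, hm⟩ | hsd
  · exact Or.inr (Or.inl ⟨m, hm⟩)
  · exact Or.inl ⟨m, hm⟩
  · exact Or.inr (Or.inr hsd)

theorem case_eight [Finite G] (hG : IsPGroup 2 G) (hna : ¬ IsMulCommutative G) {a : G}
    (hD : Data 2 a 2) (hrel : (Subgroup.zpowers a).relIndex (cM 2 a) = 2) :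
    Nat.card G = 2 ^ (2 + 1) ∧ ((∃ m : ℕ, Nonempty (G ≃* DihedralGroup m)) ∨
      (∃ m : ℕ, Nonempty (G ≃* QuaternionGroup m)) ∨ Cfsg.IsQuasiDihedral G) := by
  haveI : Fact (Nat.Prime 2) := ⟨Nat.prime_two⟩
  have hz2 : orderOf (a ^ 2) = 2 := by
    have := orderOf_z (p := 2) a 2 (by norm_num) hD.ord
    simpa using this
  have hMtop : cM 2 a = ⊤ := by
    rw [eq_top_iff]
    intro g _
    rw [mem_cM]
    have hZn := zp_normal hD
    have h1 : g * a ^ 2 * g⁻¹ ∈ Subgroup.zpowers (a ^ 2) :=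
      hZn.conj_mem _ (Subgroup.mem_zpowers _) g
    have h2 : g * a ^ 2 * g⁻¹ = a ^ 2 := by
      rcases eq_one_or_of_mem hz2 h1 with h | h
      · exfalso
        have h3 : a ^ 2 = 1 := by
          calc a ^ 2 = g⁻¹ * (g * a ^ 2 * g⁻¹) * g := by group
            _ = 1 := by rw [h]; group
        rw [h3, orderOf_one] at hz2
        omega
      · exact h
    calc g * a ^ 2 = g * a ^ 2 * g⁻¹ * g := by group
      _ = a ^ 2 * g := by rw [h2]
  have hcard : Nat.card G = 8 := by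
    have h1 := Cfsg.Agent.Helper8.card_eq_card_mul_relIndex (zp_le_cM (p := 2) (a := a))
    rw [hrel, Nat.card_zpowers, hD.ord, hMtop, Subgroup.card_top] at h1
    rw [h1]; norm_num
  have hcycq : ¬ IsCyclic (G ⧸ commutator G) := by
    intro hc
    apply hna
    exact ⟨⟨Cfsg.Agent.S4189.comm_of_cyclic_ab (p := 2) _ G rfl hG hc⟩⟩
  have hidx : (commutator G).index = 4 := by
    have h2 : (commutator G).index ∣ Nat.card G := Subgroup.index_dvd_card _
    rw [hcard] at h2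
    have h8 : (8 : ℕ) = 2 ^ 3 := by norm_num
    rw [h8] at h2
    obtain ⟨j, hj, hj2⟩ := (Nat.dvd_prime_pow Nat.prime_two).mp h2
    have hj4 : j = 0 ∨ j = 1 ∨ j = 2 ∨ j = 3 := by omega
    rcases hj4 with rfl | rfl | rfl | rfl
    · exfalso; apply hcycq
      have : Nat.card (G ⧸ commutator G) = 1 := by
        rw [← Subgroup.index_eq_card, hj2]; norm_num
      haveI : Subsingleton (G ⧸ commutator G) := (Nat.card_eq_one_iff_unique.mp this).1
      infer_instance
    · exfalso; apply hcycq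
      have : Nat.card (G ⧸ commutator G) = 2 := by
        rw [← Subgroup.index_eq_card, hj2]; norm_num
      exact isCyclic_of_prime_card this
    · rw [hj2]; norm_num
    · exfalso
      have hc1 : Nat.card (commutator G) = 1 := by
        have := Subgroup.card_mul_index (commutator G)
        rw [hj2, hcard] at this
        have h83 : (2 : ℕ) ^ 3 = 8 := by norm_num
        rw [h83] at this
        omega
      have hbot : commutator G = ⊥ := Subgroup.eq_bot_of_card_eq _ hc1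
      apply hna
      refine ⟨⟨fun u v => ?_⟩⟩
      have hmem : ⁅u, v⁆ ∈ commutator G := by
        rw [commutator_def]
        exact Subgroup.commutator_mem_commutator (Subgroup.mem_top u) (Subgroup.mem_top v)
      rw [hbot, Subgroup.mem_bot] at hmem
      exact commutatorElement_eq_one_iff_mul_comm.mp hmem
  have hK := Cfsg.Agent.S4189.klein_of_index_four hG hna hidx
  have hab : Nat.card (Abelianization G) = 4 := hK.card_four
  have hexp : ∀ y : Abelianization G, y ^ 2 = 1 := by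
    intro y
    have h := Monoid.pow_exponent_eq_one (G := G ⧸ commutator G) y
    rw [hK.exponent_two] at h
    exact h
  rcases Cfsg.Agent.S4399.result hG hab hexp with h | ⟨k, hk⟩ | ⟨k, hk, -⟩ | ⟨k, hk⟩
  · omega
  · exact ⟨by rw [hcard]; norm_num, Or.inl ⟨_, hk⟩⟩
  · exfalso
    have h16 : 2 ^ 4 ≤ 2 ^ (k + 4) := Nat.pow_le_pow_right (by norm_num) (by omega)
    rw [← hk, hcard] at h16
    norm_num at h16
  · exact ⟨by rw [hcard]; norm_num, Or.inr (Or.inl ⟨_, hk⟩)⟩

theorem case_two [Finite G] {a : G} {n : ℕ} (hD : Data 2 a n) (hn3 : 3 ≤ n)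
    (hrel : (Subgroup.zpowers a).relIndex (cM 2 a) = 2) :
    ∃ A : Subgroup G, A ≤ cM 2 a ∧ (∀ x ∈ A, x ^ 2 = 1) ∧ Nat.card A = 2 ^ 2 ∧
      ∀ x ∈ cM 2 a, x ^ 2 = 1 → x ∈ A := by
  haveI : Fact (Nat.Prime 2) := ⟨Nat.prime_two⟩
  obtain ⟨z, hz⟩ : ∃ z, z = a ^ (2 ^ (n - 1)) := ⟨_, rfl⟩
  obtain ⟨v, hv⟩ : ∃ v, v = a ^ (2 ^ (n - 2)) := ⟨_, rfl⟩
  have hzo : orderOf z = 2 := by rw [hz]; exact orderOf_z a n (by omega) hD.ord
  have hzz : z * z = 1 := by rw [← pow_two, ← hzo]; exact pow_orderOf_eq_one z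
  have hz1 : z ≠ 1 := by
    intro h
    rw [h, orderOf_one] at hzo
    omega
  have hvv : v * v = z := by
    have h1 : n - 2 + 1 = n - 1 := by omega
    rw [hv, hz, ← pow_add, ← two_mul, ← pow_succ', h1]
  have hzU : z ∈ Subgroup.zpowers a := by
    rw [hz]; exact Subgroup.pow_mem _ (Subgroup.mem_zpowers a) _
  have hvU : v ∈ Subgroup.zpowers a := by
    rw [hv]; exact Subgroup.pow_mem _ (Subgroup.mem_zpowers a) _
  have hcomm_v : ∀ y ∈ cM 2 a, y * v = v * y := by
    intro y hy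
    have h1 : v = (a ^ 2) ^ (2 ^ (n - 3)) := by
      have h2 : 2 * 2 ^ (n - 3) = 2 ^ (n - 2) := by
        have h3 : n - 2 = n - 3 + 1 := by omega
        rw [h3, pow_succ']
      rw [hv, ← pow_mul, h2]
    rw [h1]
    exact ((show Commute y (a ^ 2) from mem_cM.mp hy).pow_right _).eq
  have hcomm_z : ∀ y ∈ cM 2 a, y * z = z * y := by
    intro y hy
    rw [← hvv]
    exact ((show Commute y v from hcomm_v y hy).mul_right (show Commute y v from hcomm_v y hy)).eq
  have hne : ¬ cM 2 a ≤ Subgroup.zpowers a := by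
    intro h
    rw [Subgroup.relIndex_eq_one.mpr h] at hrel
    omega
  obtain ⟨g, hgM, hgU⟩ := SetLike.not_le_iff_exists.mp hne
  have hidx2 : ((Subgroup.zpowers a).subgroupOf (cM 2 a)).index = 2 := hrel
  have hmul_iff : ∀ x ∈ cM 2 a, ∀ y ∈ cM 2 a,
      (x * y ∈ Subgroup.zpowers a ↔ (x ∈ Subgroup.zpowers a ↔ y ∈ Subgroup.zpowers a)) := by
    intro x hx y hy
    have := Subgroup.mul_mem_iff_of_index_two hidx2 (a := (⟨x, hx⟩ : ↥(cM 2 a))) (b := ⟨y, hy⟩)
    simpa [Subgroup.mem_subgroupOf] using this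
  have hcaz : Commute a z := Cfsg.Agent.S1236.zp_comm a a z (Subgroup.mem_zpowers a) hzU
  have hact : ∀ y ∈ cM 2 a, y ∉ Subgroup.zpowers a → y * a * y⁻¹ = a * z := by
    intro y hyM hyU
    have h1 := comm_mem_z hD (by omega) hyM a (Subgroup.mem_zpowers a)
    rw [← hz] at h1
    rcases eq_one_or_of_mem hzo h1 with h | h
    · exfalso
      apply hyU
      rw [← hD.cent]
      apply Cfsg.Agent.S0519.mem_centralizer_zpowers
      calc y * a = y * a * y⁻¹ * a⁻¹ * a * y := by group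
        _ = a * y := by rw [h]; group
    · calc y * a * y⁻¹ = y * a * y⁻¹ * a⁻¹ * a := by group
        _ = z * a := by rw [h]
        _ = a * z := hcaz.eq.symm
  have hg2 : g * g ∈ Subgroup.zpowers a := (hmul_iff g hgM g hgM).mpr Iff.rfl
  rw [← mem_powers_iff_mem_zpowers] at hg2
  obtain ⟨k, hk⟩ := (Submonoid.mem_powers_iff _ _).mp hg2
  have hk2 : 2 ∣ k := by
    have h1 : g * a ^ k * g⁻¹ = a ^ k := by rw [hk]; group
    have h2 : g * a ^ k * g⁻¹ = a ^ k * z ^ k := by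
      rw [← conj_pow, hact g hgM hgU, hcaz.mul_pow]
    have h3 : z ^ k = 1 := by
      have h5 : a ^ k * z ^ k = a ^ k * 1 := by rw [mul_one, ← h2, h1]
      exact mul_left_cancel h5
    rw [← hzo]; exact orderOf_dvd_of_pow_eq_one h3
  obtain ⟨l, rfl⟩ := hk2
  obtain ⟨b, hb⟩ : ∃ b, b = (a ^ l)⁻¹ := ⟨_, rfl⟩
  have hbU : b ∈ Subgroup.zpowers a := by
    rw [hb]; exact Subgroup.inv_mem _ (Subgroup.pow_mem _ (Subgroup.mem_zpowers a) _)
  have hy₀M : b * g ∈ cM 2 a := Subgroup.mul_mem _ (zp_le_cM hbU) hgM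
  have hy₀U : b * g ∉ Subgroup.zpowers a := by
    intro h
    exact hgU (((hmul_iff b (zp_le_cM hbU) g hgM).mp h).mp hbU)
  have hzl2 : z ^ l * z ^ l = 1 := by
    rw [← pow_add, ← two_mul, pow_mul, pow_two, hzz, one_pow]
  have hy₀sq : (b * g) * (b * g) = z ^ l := by
    have h0 : g * a ^ l * g⁻¹ = a ^ l * z ^ l := by
      rw [← conj_pow, hact g hgM hgU, hcaz.mul_pow]
    have h1 : g * b * g⁻¹ = (a ^ l * z ^ l)⁻¹ := by rw [hb, ← h0]; group
    have hc' : Commute (a ^ l)⁻¹ (z ^ l)⁻¹ := (hcaz.pow_pow l l).inv_inv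
    calc (b * g) * (b * g) = b * (g * b * g⁻¹) * (g * g) := by group
      _ = (a ^ l)⁻¹ * (a ^ l * z ^ l)⁻¹ * a ^ (2 * l) := by rw [h1, ← hk, hb]
      _ = ((a ^ l)⁻¹ * (z ^ l)⁻¹) * ((a ^ l)⁻¹ * (a ^ l * a ^ l)) := by
          rw [mul_inv_rev, two_mul, pow_add]; group
      _ = ((z ^ l)⁻¹ * (a ^ l)⁻¹) * ((a ^ l)⁻¹ * (a ^ l * a ^ l)) := by rw [hc'.eq]
      _ = (z ^ l)⁻¹ := by group
      _ = z ^ l := inv_eq_of_mul_eq_one_right hzl2
  obtain ⟨y, hyM, hyU, hyy⟩ : ∃ y, y ∈ cM 2 a ∧ y ∉ Subgroup.zpowers a ∧ y * y = 1 := by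
    have hzl : z ^ l = 1 ∨ z ^ l = z :=
      eq_one_or_of_mem hzo (Subgroup.pow_mem _ (Subgroup.mem_zpowers z) l)
    rcases hzl with h | h
    · exact ⟨b * g, hy₀M, hy₀U, by rw [hy₀sq, h]⟩
    · refine ⟨v * (b * g), Subgroup.mul_mem _ (zp_le_cM hvU) hy₀M, ?_, ?_⟩
      · intro hcon
        exact hy₀U (((hmul_iff v (zp_le_cM hvU) (b * g) hy₀M).mp hcon).mp hvU)
      · have hc : b * g * v = v * (b * g) := hcomm_v (b * g) hy₀M
        calc v * (b * g) * (v * (b * g)) = v * ((b * g) * v) * (b * g) := by group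
          _ = v * (v * (b * g)) * (b * g) := by rw [hc]
          _ = (v * v) * ((b * g) * (b * g)) := by group
          _ = 1 := by rw [hvv, hy₀sq, h, hzz]
  have hy1 : y ≠ 1 := fun h => hyU (h ▸ Subgroup.one_mem _)
  have hyz : y * z = z * y := hcomm_z y hyM
  have hyne : y ≠ z := fun h => hyU (h ▸ hzU)
  have hyi : y⁻¹ = y := inv_eq_of_mul_eq_one_right hyy
  refine ⟨Cfsg.Agent.Helper9.kfour y z hyy hzz hyz, ?_, ?_, ?_, ?_⟩
  · intro x hx
    rcases Cfsg.Agent.Helper9.mem_kfour.mp hx with h | h | h | h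
    · rw [h]; exact Subgroup.one_mem _
    · rw [h]; exact hyM
    · rw [h]; exact zp_le_cM hzU
    · rw [h]; exact Subgroup.mul_mem _ hyM (zp_le_cM hzU)
  · intro x hx
    rw [pow_two]; exact Cfsg.Agent.Helper9.kfour_mul_self y z hyy hzz hyz x hx
  · have hK := Cfsg.Agent.Helper9.isKleinFour_kfour y z hyy hzz hyz hy1 hz1 hyne
    rw [hK.card_four]; norm_num
  · intro x hxM hx2
    rw [pow_two] at hx2
    by_cases hxU : x ∈ Subgroup.zpowers a
    · have h1 := mem_zpowers_of_pow Nat.prime_two a n 1 (by omega) hD.ord x hxU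
        (by rw [pow_one, pow_two]; exact hx2)
      rw [← hz] at h1
      rcases eq_one_or_of_mem hzo h1 with h | h
      · rw [h]; exact Subgroup.one_mem _
      · rw [h]; exact Cfsg.Agent.Helper9.mem_kfour.mpr (Or.inr (Or.inr (Or.inl rfl)))
    · have huU : x * y ∈ Subgroup.zpowers a :=
        (hmul_iff x hxM y hyM).mpr ⟨fun h => absurd h hxU, fun h => absurd h hyU⟩
      obtain ⟨u, hu⟩ : ∃ u, u = x * y := ⟨_, rfl⟩
      rw [← hu] at huU
      have hx : x = u * y := by rw [hu, mul_assoc, hyy, mul_one]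
      have h1 : y * u * y⁻¹ = u⁻¹ := by
        rw [hx] at hx2
        rw [hyi]
        calc y * u * y = u⁻¹ * ((u * y) * (u * y)) := by group
          _ = u⁻¹ := by rw [hx2, mul_one]
      have h2 := comm_mem_z hD (by omega) hyM u huU
      rw [← hz, h1] at h2
      have h3 : u ^ (2 ^ 2) = 1 := by
        have h4 : (u⁻¹ * u⁻¹) * (u⁻¹ * u⁻¹) = 1 := by
          rcases eq_one_or_of_mem hzo h2 with h | h
          · rw [h, mul_one]
          · rw [h, hzz]
        have h22 : (2 : ℕ) ^ 2 = 4 := by norm_num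
        rw [h22]
        calc u ^ 4 = ((u⁻¹ * u⁻¹) * (u⁻¹ * u⁻¹))⁻¹ := by group
          _ = 1 := by rw [h4, inv_one]
      have h5 := mem_zpowers_of_pow Nat.prime_two a n 2 (by omega) hD.ord u huU h3
      rw [← hv] at h5
      have h6 : y * u = u * y := by
        obtain ⟨i, rfl⟩ := Subgroup.mem_zpowers_iff.mp h5
        exact ((show Commute y v from hcomm_v y hyM).zpow_right i).eq
      have h7 : u * u = 1 := by
        have h8 : u⁻¹ = u := by rw [← h1, h6, mul_inv_cancel_right]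
        calc u * u = u⁻¹ * u := by rw [h8]
          _ = 1 := inv_mul_cancel u
      have h9 := mem_zpowers_of_pow Nat.prime_two a n 1 (by omega) hD.ord u huU
        (by rw [pow_one, pow_two]; exact h7)
      rw [← hz] at h9
      rw [hx]
      rcases eq_one_or_of_mem hzo h9 with h | h
      · rw [h, one_mul]; exact Cfsg.Agent.Helper9.mem_kfour.mpr (Or.inr (Or.inl rfl))
      · rw [h, ← hyz]
        exact Cfsg.Agent.Helper9.mem_kfour.mpr (Or.inr (Or.inr (Or.inr rfl)))

theorem case_odd [Finite G] {p : ℕ} [Fact p.Prime] (hG : IsPGroup p G)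
    (hna : ¬ IsMulCommutative G) {a : G} {n : ℕ} (hD : Data p a n) (hn : 1 ≤ n) (hp2 : p ≠ 2)
    (hrel : (Subgroup.zpowers a).relIndex (cM p a) = p) :
    ∃ A : Subgroup G, A ≤ cM p a ∧ (∀ x ∈ A, x ^ p = 1) ∧ Nat.card A = p ^ 2 ∧
      ∀ x ∈ cM p a, x ^ p = 1 → x ∈ A := by
  have hp : p.Prime := Fact.out
  have h4 : p < p ^ 2 := by
    calc p = p ^ 1 := (pow_one p).symm
      _ < p ^ 2 := Nat.pow_lt_pow_right hp.one_lt (by norm_num)
  have hnc : ¬ IsCyclic G := by
    intro hc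
    exact hna IsCyclic.isMulCommutative
  obtain ⟨z', x', -, -, -, -, hA2, hAp, hAn⟩ := Cfsg.Agent.Helper1.rank_two_data hp2 hG hnc
  obtain ⟨A, hAdef⟩ : ∃ A, A = Subgroup.zpowers x' ⊔ Subgroup.zpowers z' := ⟨_, rfl⟩
  rw [← hAdef] at hA2 hAp hAn
  have hAM : A ≤ cM p a := le_cM_of_normal hG A hAn hA2
  obtain ⟨z, hz⟩ : ∃ z, z = a ^ (p ^ (n - 1)) := ⟨_, rfl⟩
  have hzo : orderOf z = p := by rw [hz]; exact orderOf_z a n hn hD.ord
  have hAU : ¬ A ≤ Subgroup.zpowers a := by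
    intro h
    have hle : A ≤ Subgroup.zpowers z := by
      intro x hx
      rw [hz]
      exact mem_zpowers_of_pow hp a n 1 hn hD.ord x (h hx) (by rw [pow_one]; exact hAp x hx)
    have := Subgroup.card_le_of_le hle
    rw [hA2, Nat.card_zpowers, hzo] at this
    omega
  have hAcomm : ∀ x ∈ A, ∀ y ∈ A, x * y = y * x :=
    (Cfsg.Agent.S1337.comm_iff A).mp (IsPGroup.isMulCommutative_of_card_eq_prime_sq hA2)
  obtain ⟨a', ha'A, ha'U⟩ := SetLike.not_le_iff_exists.mp hAU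
  obtain ⟨c, hc⟩ : ∃ c, c = a' * a * a'⁻¹ * a⁻¹ := ⟨_, rfl⟩
  have hcA : c ∈ A := by
    rw [hc]
    have h1 : a * a'⁻¹ * a⁻¹ ∈ A := hAn.conj_mem a'⁻¹ (A.inv_mem ha'A) a
    have h2 : a' * a * a'⁻¹ * a⁻¹ = a' * (a * a'⁻¹ * a⁻¹) := by group
    rw [h2]; exact A.mul_mem ha'A h1
  have hcU : c ∈ Subgroup.zpowers a := by
    rw [hc]
    exact Subgroup.mul_mem _ (hD.normal.conj_mem a (Subgroup.mem_zpowers a) a')
      (Subgroup.inv_mem _ (Subgroup.mem_zpowers a))
  have hc1 : c ≠ 1 := by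
    intro h
    apply ha'U
    rw [← hD.cent]
    apply Cfsg.Agent.S0519.mem_centralizer_zpowers
    rw [hc] at h
    calc a' * a = a' * a * a'⁻¹ * a⁻¹ * a * a' := by group
      _ = a * a' := by rw [h]; group
  have hcz : c ∈ Subgroup.zpowers z := by
    rw [hz]
    exact mem_zpowers_of_pow hp a n 1 hn hD.ord c hcU (by rw [pow_one]; exact hAp c hcA)
  have hzA : Subgroup.zpowers z ≤ A := by
    have hco : orderOf c = p := orderOf_eq_prime (hAp c hcA) hc1
    have heq : Subgroup.zpowers c = Subgroup.zpowers z :=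
      Subgroup.eq_of_le_of_card_ge (Subgroup.zpowers_le.mpr hcz)
        (by rw [Nat.card_zpowers, Nat.card_zpowers, hco, hzo])
    rw [← heq]; exact Subgroup.zpowers_le.mpr hcA
  have hUM : Subgroup.zpowers a ≤ cM p a := zp_le_cM
  have hMle : cM p a ≤ Subgroup.zpowers a ⊔ A := by
    have h1 := Subgroup.relIndex_mul_relIndex (Subgroup.zpowers a) (Subgroup.zpowers a ⊔ A)
      (cM p a) le_sup_left (sup_le hUM hAM)
    rw [hrel] at h1
    have h2 : (Subgroup.zpowers a).relIndex (Subgroup.zpowers a ⊔ A) ≠ 1 := by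
      intro h
      exact hAU (le_sup_right.trans (Subgroup.relIndex_eq_one.mp h))
    have h3 : (Subgroup.zpowers a ⊔ A).relIndex (cM p a) = 1 := by
      rcases (Nat.dvd_prime hp).mp (Dvd.intro _ h1) with h | h
      · exact absurd h h2
      · rw [h] at h1
        exact Nat.eq_of_mul_eq_mul_left hp.pos (by rw [h1, mul_one])
    exact Subgroup.relIndex_eq_one.mp h3
  refine ⟨A, hAM, hAp, hA2, ?_⟩
  intro x hxM hxp
  have hx : x ∈ ((Subgroup.zpowers a ⊔ A : Subgroup G) : Set G) := hMle hxM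
  haveI := hD.normal
  rw [Subgroup.normal_mul] at hx
  obtain ⟨u, hu, a'', ha'', rfl⟩ := Set.mem_mul.mp hx
  obtain ⟨e, he⟩ : ∃ e, e = (u * a'')⁻¹ * (a'' * u) := ⟨_, rfl⟩
  have hba : a'' * u = u * a'' * e := by rw [he, mul_inv_cancel_left]
  have heU : e ∈ Subgroup.zpowers a := by
    have h1 : a''⁻¹ * u⁻¹ * a''⁻¹⁻¹ ∈ Subgroup.zpowers a :=
      hD.normal.conj_mem u⁻¹ (Subgroup.inv_mem _ hu) a''⁻¹
    rw [inv_inv] at h1
    have h2 : e = (a''⁻¹ * u⁻¹ * a'') * u := by rw [he]; group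
    rw [h2]; exact Subgroup.mul_mem _ h1 hu
  have heA : e ∈ A := by
    have h1 : u⁻¹ * a'' * u⁻¹⁻¹ ∈ A := hAn.conj_mem a'' ha'' u⁻¹
    rw [inv_inv] at h1
    have h2 : e = a''⁻¹ * (u⁻¹ * a'' * u) := by rw [he]; group
    rw [h2]; exact A.mul_mem (A.inv_mem ha'') h1
  have hpow := Cfsg.Agent.Helper23.mul_pow_prime_of_central hp hp2 hba
    (Cfsg.Agent.S1236.zp_comm a e u heU hu) (hAcomm e heA a'' ha'') (hAp e heA)
  rw [hpow, hAp a'' ha'', mul_one] at hxp
  have huz : u ∈ Subgroup.zpowers z := by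
    rw [hz]
    exact mem_zpowers_of_pow hp a n 1 hn hD.ord u hu (by rw [pow_one]; exact hxp)
  exact A.mul_mem (hzA huz) ha''

theorem core [Finite G] {p : ℕ} [Fact p.Prime] (hG : IsPGroup p G)
    (hna : ¬ IsMulCommutative G) {a : G} {n : ℕ} (hD : Data p a n) :
    (p = 2 ∧ Nat.card G = 2 ^ (n + 1) ∧ ((∃ m : ℕ, Nonempty (G ≃* DihedralGroup m)) ∨
      (∃ m : ℕ, Nonempty (G ≃* QuaternionGroup m)) ∨ Cfsg.IsQuasiDihedral G)) ∨
    ((Subgroup.zpowers a).relIndex (cM p a) = p ∧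
      Cfsg.IsElementaryAbelian p (Cfsg.omegaOne p (cM p a)) ∧
      Nat.card ↥(Cfsg.omegaOne p (cM p a)) = p ^ 2 ∧
      (Cfsg.omegaOne p (cM p a)).Characteristic) := by
  have hn2 : 2 ≤ n := n_ge_two hG hna hD
  by_cases hMU : cM p a ≤ Subgroup.zpowers a
  · left; exact case_le hG hna hD (by omega) hMU
  · have hrel : (Subgroup.zpowers a).relIndex (cM p a) = p := by
      rcases relIndex_eq hG hD (by omega) with h | h
      · exact absurd (Subgroup.relIndex_eq_one.mp h) hMU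
      · exact h
    by_cases hp2 : p = 2
    · subst hp2
      by_cases hn3 : 3 ≤ n
      · right
        obtain ⟨A, hAM, hAp, hA2, hall⟩ := case_two hD hn3 hrel
        exact ⟨hrel, second_alt hG hD A hAM hAp hA2 hall⟩
      · left
        have hn' : n = 2 := by omega
        subst hn'
        obtain ⟨h1, h2⟩ := case_eight hG hna hD hrel
        exact ⟨rfl, h1, h2⟩
    · right
      obtain ⟨A, hAM, hAp, hA2, hall⟩ := case_odd hG hna hD (by omega) hp2 hrel
      exact ⟨hrel, second_alt hG hD A hAM hAp hA2 hall⟩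

/-- Let G be a finite non-abelian p-group with a cyclic normal subgroup U of order p^n such that C_G(U) = U. Then either p = 2 and G is dihedral, generalized quaternion or semidihedral of order 2^(n+1); or, writing U₁ for the subgroup generated by the p-th powers of elements of U and M = C_G(U₁), the subgroup U has index p in M and the subgroup Ω₁(M) generated by the elements of M of order dividing p is elementary abelian of order p² and characteristic in G. -/
theorem result {G : Type*} [Group G] [Finite G] {p : ℕ} [Fact p.Prime] (hG : IsPGroup p G) (hna : ¬ IsMulCommutative G) (U : Subgroup G) [U.Normal] (hU : IsCyclic U) (n : ℕ) (hUn : Nat.card U = p ^ n) (hC : Subgroup.centralizer (U : Set G) = U) : (p = 2 ∧ Nat.card G = 2 ^ (n + 1) ∧ ((∃ m : ℕ, Nonempty (G ≃* DihedralGroup m)) ∨ (∃ m : ℕ, Nonempty (G ≃* QuaternionGroup m)) ∨ Cfsg.IsQuasiDihedral G)) ∨ (U.relIndex (Subgroup.centralizer (Cfsg.powerClosure p 1 U : Set G)) = p ∧ Cfsg.IsElementaryAbelian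 p (Cfsg.omegaOne p (Subgroup.centralizer (Cfsg.powerClosure p 1 U : Set G))) ∧ Nat.card ↥(Cfsg.omegaOne p (Subgroup.centralizer (Cfsg.powerClosure p 1 U : Set G))) = p ^ 2 ∧ (Cfsg.omegaOne p (Subgroup.centralizer (Cfsg.powerClosure p 1 U : Set G))).Characteristic) := by
  obtain ⟨a, ha⟩ := Cfsg.Agent.S3379.exists_zpowers_eq U hU
  subst ha
  have hord : orderOf a = p ^ n := by rw [← Nat.card_zpowers]; exact hUn
  have hD : Data p a n := ⟨hord, inferInstance, hC⟩
  rw [powerClosure_eq]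
  exact core hG hna hD

end Cfsg.Agent.S3761
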