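import Mathlib
import Cfsg.Statements.S4416
import Cfsg.Agent.Helper19.ES2
import Cfsg.Agent.S4208

set_option autoImplicit false

open Cfsg

namespace Cfsg.Agent.S4416

open Cfsg.Agent.Helper19.ES2

/-- An extraspecial 2-group satisfies the ambient hypotheses of `ES2`, with `⊤` nondegenerate. -/
theorem amb_of_es {E : Type*} [Group E] [Finite E] (hE : Cfsg.IsExtraspecial 2 E) :
    ∃ z : E, Amb z ∧ ND z (⊤ : Subgroup E) := by
  obtain ⟨⟨hP, hfr, hcm⟩, hc2⟩ := hE
  haveI : Fact (Nat.Prime 2) := ⟨Nat.prime_two⟩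
  obtain ⟨n, hn⟩ := (IsPGroup.iff_card).mp hP
  obtain ⟨hcomm, hsq⟩ := Cfsg.Agent.S4208.frattini_quot 2 hn
  obtain ⟨z', hz'1, hz'u⟩ := (Nat.card_eq_two_iff' (1 : Subgroup.center E)).mp hc2
  have hzne : (z' : E) ≠ 1 := fun h => hz'1 (Subtype.ext h)
  have hcen : ∀ g : E, g ∈ Subgroup.center E → g = 1 ∨ g = (z' : E) := by
    intro g hg
    by_cases h1 : g = 1
    · exact Or.inl h1
    · right
      have : (⟨g, hg⟩ : Subgroup.center E) = z' := hz'u ⟨g, hg⟩ (fun h => h1 (by
        have h' := congrArg Subtype.val h; exact h'))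
      have h' := congrArg Subtype.val this
      exact h'
  have hzc : ∀ g : E, g * (z' : E) = (z' : E) * g := fun g =>
    (Subgroup.mem_center_iff.mp z'.2 g)
  refine ⟨(z' : E), ⟨hzne, ?_, hzc, ?_, ?_⟩, Subgroup.mem_top _, ?_⟩
  · rcases hcen _ (Subgroup.mul_mem _ z'.2 z'.2) with h | h
    · exact h
    · exfalso; apply hzne
      have : (z' : E) * (z' : E) = (z' : E) * 1 := by rw [mul_one]; exact h
      exact mul_left_cancel this
  · intro x
    apply hcen
    rw [← hfr, ← pow_two]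
    exact hsq x
  · intro x y
    apply hcen
    rw [← hfr]
    exact hcomm x y
  · intro g _ hg
    apply hcen
    rw [Subgroup.mem_center_iff]
    intro h
    exact (hg h (Subgroup.mem_top h)).symm

theorem result (E : Type*) [Group E] [Finite E] (hE : Cfsg.IsExtraspecial 2 E) :
    (∃ m : ℕ, 1 ≤ m ∧ Nat.card E = 2 ^ (2 * m + 1) ∧
      (Nat.card {x : E // x ^ 2 = 1} = 2 ^ (2 * m) + 2 ^ m ∨ Nat.card {x : E // x ^ 2 = 1} = 2 ^ (2 * m) - 2 ^ m)) ∧
    ∀ (E' : Type*) [Group E'] [Finite E'], Cfsg.IsExtraspecial 2 E' → Nat.card E' = Nat.card E →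
      Nat.card {x : E' // x ^ 2 = 1} = Nat.card {x : E // x ^ 2 = 1} → Nonempty (E ≃* E') := by
  classical
  haveI : Fintype E := Fintype.ofFinite E
  obtain ⟨z, hz, hND⟩ := amb_of_es hE
  have hTtop := T_top hz
  have hcardtop : Nat.card (⊤ : Subgroup E) = Nat.card E := Subgroup.card_top
  constructor
  · obtain ⟨m, hm, hT⟩ := structure_thm hz (Nat.card (⊤ : Subgroup E)) ⊤ hND rfl
    rw [hcardtop] at hm
    have hm1 : 1 ≤ m := by
      by_contra hm0
      have hm0' : m = 0 := by omega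
      rw [hm0'] at hm
      have hctop : Subgroup.center E = ⊤ := by
        apply Subgroup.eq_top_of_card_eq
        rw [hE.2, hm]; norm_num
      have hcb : commutator E = ⊥ :=
        Subgroup.commutator_top_right_eq_bot_iff_le_center.mpr (by rw [hctop])
      have hcc : Subgroup.center E = ⊥ := by rw [← hE.1.2.2, hcb]
      have := hE.2
      rw [hcc, Subgroup.card_bot] at this
      omega
    refine ⟨m, hm1, hm, ?_⟩
    have hb : 2 ^ m ≤ 2 ^ (2 * m) := Nat.pow_le_pow_right (by norm_num) (by omega)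
    have hEz : (Nat.card E : ℤ) = 2 * ((2 ^ (2 * m) : ℕ) : ℤ) := by
      rw [hm]; push_cast; ring
    have hpz : ((2 : ℤ) ^ (m + 1)) = 2 * ((2 ^ m : ℕ) : ℤ) := by push_cast; ring
    rcases hT with hT | hT
    · left
      rw [hTtop, hEz, hpz] at hT
      omega
    · right
      rw [hTtop, hEz, hpz] at hT
      omega
  · intro E' _ _ hE' hcard hs
    haveI : Fintype E' := Fintype.ofFinite E'
    obtain ⟨z', hz', hND'⟩ := amb_of_es hE'
    have hTtop' := T_top hz'
    have hcardtop' : Nat.card (⊤ : Subgroup E') = Nat.card E' := Subgroup.card_top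
    have hTeq : T z (⊤ : Subgroup E) = T z' (⊤ : Subgroup E') := by
      rw [hTtop, hTtop', hs, hcard]
    obtain ⟨F, -⟩ := iso_thm hz hz' (Nat.card (⊤ : Subgroup E)) ⊤ ⊤ hND hND' rfl
      (by rw [hcardtop, hcardtop', hcard]) hTeq
    exact ⟨Subgroup.topEquiv.symm.trans (F.trans Subgroup.topEquiv)⟩

end Cfsg.Agent.S4416
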