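import Mathlib
import Cfsg.Statements.S3763
import Cfsg.Agent.Helper19.ES2Rank
import Cfsg.Agent.S4416

set_option autoImplicit false

open Cfsg

namespace Cfsg.Agent.S3763

open Cfsg.Agent.Helper19.ES2

/-- Sign sum versus 2-rank for an extraspecial-like group of order `2^(2n+1)`. -/
theorem key {E : Type*} [Group E] [Fintype E] {z : E} (hz : Amb z)
    (hND : ND z (⊤ : Subgroup E)) (n : ℕ) (hn : Nat.card E = 2 ^ (2 * n + 1)) :
    (T z (⊤ : Subgroup E) = 2 ^ (n + 1) ∨ T z (⊤ : Subgroup E) = -2 ^ (n + 1)) ∧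
    Cfsg.PRankLE 2 (n + 1) E ∧
    (T z (⊤ : Subgroup E) < 0 → Cfsg.PRankLE 2 n E) ∧
    (0 < T z (⊤ : Subgroup E) → ¬ Cfsg.PRankLE 2 n E) ∧
    (T z (⊤ : Subgroup E) < 0 → 1 ≤ n → ¬ Cfsg.PRankLE 2 (n - 1) E) := by
  have hcardtop : Nat.card (⊤ : Subgroup E) = Nat.card E := Subgroup.card_top
  obtain ⟨m, hm, hT⟩ := structure_thm hz (Nat.card (⊤ : Subgroup E)) ⊤ hND rfl
  have hmn : m = n := by
    rw [hcardtop, hn] at hm
    have := Nat.pow_right_injective (le_refl 2) hm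
    omega
  subst hmn
  have hup : ∀ A : Subgroup E, IsMulCommutative A → (∀ a ∈ A, a ^ 2 = 1) →
      ∃ B' : Subgroup E, z ∈ B' ∧ (∀ a ∈ B', ∀ b ∈ B', a * b = b * a) ∧
        (∀ a ∈ B', a * a = 1) ∧ Nat.card A ≤ Nat.card B' ∧ Nat.card B' ≤ 2 ^ (m + 1) := by
    intro A hA hA2
    have hAc : ∀ a ∈ A, ∀ b ∈ A, a * b = b * a := fun a ha b hb => by
      have h := hA.is_comm.comm ⟨a, ha⟩ ⟨b, hb⟩
      have h' := congrArg Subtype.val h
      exact h'
    have hAi : ∀ a ∈ A, a * a = 1 := fun a ha => by rw [← pow_two]; exact hA2 a ha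
    obtain ⟨B', hzB', hB'c, hB'i, hle⟩ := ea_enlarge hz A hAc hAi
    refine ⟨B', hzB', hB'c, hB'i, hle, ?_⟩
    have h1 := card_sq_le hz hND B' hzB' hB'c
    rw [hn] at h1
    have h2 : 2 * 2 ^ (2 * m + 1) = 2 ^ (m + 1) * 2 ^ (m + 1) := by ring
    rw [h2] at h1
    exact Nat.mul_self_le_mul_self_iff.mp h1
  refine ⟨hT, ?_, ?_, ?_, ?_⟩
  · intro A hA hA2
    obtain ⟨B', -, -, -, hle, hle'⟩ := hup A hA hA2
    exact le_trans hle hle'
  · intro hTneg A hA hA2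
    obtain ⟨B', hzB', hB'c, hB'i, hle, hle'⟩ := hup A hA hA2
    refine le_trans hle ?_
    have hdvd : Nat.card B' ∣ 2 ^ (2 * m + 1) := by
      rw [← hn]; exact Subgroup.card_subgroup_dvd_card B'
    obtain ⟨k, hk, hBk⟩ := (Nat.dvd_prime_pow Nat.prime_two).mp hdvd
    rw [hBk] at hle' ⊢
    have hk1 : k ≤ m + 1 := (Nat.pow_le_pow_iff_right (by norm_num)).mp hle'
    have hk2 : k ≠ m + 1 := by
      intro hk2
      have := T_pos_of_big hz hND B' hzB' hB'c hB'i (by rw [hBk, hk2, hn]; ring)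
      linarith
    exact Nat.pow_le_pow_right (by norm_num) (by omega)
  · intro hTpos hrank
    obtain ⟨B, -, hzB, hBc, hBi, hBp, -⟩ :=
      exists_ea hz (Nat.card (⊤ : Subgroup E)) ⊤ hND rfl
    have h1 := hBp hTpos
    rw [hcardtop, hn] at h1
    have h2 : 2 * 2 ^ (2 * m + 1) = 2 ^ (m + 1) * 2 ^ (m + 1) := by ring
    rw [h2] at h1
    have h3 : Nat.card B = 2 ^ (m + 1) := Nat.mul_self_inj.mp h1
    have h4 := hrank B ⟨⟨fun a b => Subtype.ext (hBc a a.2 b b.2)⟩⟩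
      (fun a ha => by rw [pow_two]; exact hBi a ha)
    rw [h3] at h4
    have : 2 ^ m < 2 ^ (m + 1) := Nat.pow_lt_pow_right (by norm_num) (by omega)
    omega
  · intro hTneg hm1 hrank
    obtain ⟨B, -, hzB, hBc, hBi, -, hBn⟩ :=
      exists_ea hz (Nat.card (⊤ : Subgroup E)) ⊤ hND rfl
    have h1 := hBn hTneg
    rw [hcardtop, hn] at h1
    have h2 : 2 ^ (2 * m + 1) = 2 * (2 ^ m * 2 ^ m) := by ring
    rw [h2] at h1
    have h3 : Nat.card B = 2 ^ m := Nat.mul_self_inj.mp (by omega)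
    have h4 := hrank B ⟨⟨fun a b => Subtype.ext (hBc a a.2 b b.2)⟩⟩
      (fun a ha => by rw [pow_two]; exact hBi a ha)
    rw [h3] at h4
    have : 2 ^ (m - 1) < 2 ^ m := Nat.pow_lt_pow_right (by norm_num) (by omega)
    omega

theorem result {E : Type*} [Group E] [Finite E] (hE : Cfsg.IsExtraspecial 2 E) (n : ℕ) (hn : Nat.card E = 2 ^ (2 * n + 1)) : ((Cfsg.PRankLE 2 n E ∧ ¬ Cfsg.PRankLE 2 (n - 1) E) ∨ (Cfsg.PRankLE 2 (n + 1) E ∧ ¬ Cfsg.PRankLE 2 n E)) ∧ ∀ (E' : Type*) [Group E'] [Finite E'], Cfsg.IsExtraspecial 2 E' → Nat.card E' = Nat.card E → (∀ k : ℕ, Cfsg.PRankLE 2 k E ↔ Cfsg.PRankLE 2 k E') → Nonempty (E ≃* E') := by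
  classical
  haveI : Fintype E := Fintype.ofFinite E
  obtain ⟨z, hz, hND⟩ := Cfsg.Agent.S4416.amb_of_es hE
  obtain ⟨hT, hr1, hr2, hr3, hr4⟩ := key hz hND n hn
  have hn1 : 1 ≤ n := by
    obtain ⟨m, hm1, hm, -⟩ := (Cfsg.Agent.S4416.result.{_, 0} E hE).1
    rw [hn] at hm
    have := Nat.pow_right_injective (le_refl 2) hm
    omega
  have hpow : (0 : ℤ) < 2 ^ (n + 1) := by positivity
  constructor
  · rcases hT with h | h
    · right
      have hpos : 0 < T z (⊤ : Subgroup E) := by rw [h]; exact hpow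
      exact ⟨hr1, hr3 hpos⟩
    · left
      have hneg : T z (⊤ : Subgroup E) < 0 := by rw [h]; linarith
      exact ⟨hr2 hneg, hr4 hneg hn1⟩
  · intro E' _ _ hE' hcard hiff
    haveI : Fintype E' := Fintype.ofFinite E'
    obtain ⟨z', hz', hND'⟩ := Cfsg.Agent.S4416.amb_of_es hE'
    obtain ⟨hT', hr1', hr2', hr3', hr4'⟩ := key hz' hND' n (by rw [hcard, hn])
    have hTeq : T z (⊤ : Subgroup E) = T z' (⊤ : Subgroup E') := by
      rcases hT with h | h <;> rcases hT' with h' | h'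
      · rw [h, h']
      · exfalso
        have hpos : 0 < T z (⊤ : Subgroup E) := by rw [h]; exact hpow
        have hneg : T z' (⊤ : Subgroup E') < 0 := by rw [h']; linarith
        exact hr3 hpos ((hiff n).mpr (hr2' hneg))
      · exfalso
        have hneg : T z (⊤ : Subgroup E) < 0 := by rw [h]; linarith
        have hpos : 0 < T z' (⊤ : Subgroup E') := by rw [h']; exact hpow
        exact hr3' hpos ((hiff n).mp (hr2 hneg))
      · rw [h, h']
    have hcardtop : Nat.card (⊤ : Subgroup E) = Nat.card E := Subgroup.card_top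
    have hcardtop' : Nat.card (⊤ : Subgroup E') = Nat.card E' := Subgroup.card_top
    obtain ⟨F, -⟩ := iso_thm hz hz' (Nat.card (⊤ : Subgroup E)) ⊤ ⊤ hND hND' rfl
      (by rw [hcardtop, hcardtop', hcard]) hTeq
    exact ⟨Subgroup.topEquiv.symm.trans (F.trans Subgroup.topEquiv)⟩

end Cfsg.Agent.S3763
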