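-- helper9: proof of S3767 (team effort: helper11 / lead (A), helper19 (B), helper7 / helper6 (C),
-- helper20 (D1), helper2 / helper15 (D2), helper9 (C, E, core))
import Mathlib
import Cfsg.Statements.S3767
import Cfsg.Agent.Helper9.ESCore
import Cfsg.Agent.Helper9.ESE
import Cfsg.Agent.Helper19.ESB

set_option autoImplicit false
open Cfsg

namespace Cfsg.Agent.S3767

/-- Let P be an extraspecial p-group of order p^(2n+1) and H a cyclic group of order h prime to p acting on P (inside a common finite group: H normalizes P) so that C_P(x) = Z(P) for every non-identity x ∈ H. Then h divides p^n + 1 or h divides p^n − 1. -/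
theorem result {G : Type*} [Group G] [Finite G] {p : ℕ} [Fact p.Prime] (P H : Subgroup G) (hP : Cfsg.IsExtraspecial p ↥P) (n : ℕ) (hn : Nat.card P = p ^ (2 * n + 1)) (hH : IsCyclic H) (hcop : (Nat.card H).Coprime p) (hHP : H ≤ Subgroup.normalizer (P : Set G)) (hfix : ∀ x ∈ H, x ≠ 1 → P ⊓ Subgroup.centralizer {x} = (Subgroup.center ↥P).map P.subtype) : Nat.card H ∣ p ^ n + 1 ∨ Nat.card H ∣ p ^ n - 1 := by
  obtain ⟨V, i1, i2, i3, B, x, halt, hnd, hx, hh, hfree, hcard⟩ :=
    Cfsg.Agent.Helper9.ESE.transl P H hP n hn hH hcop hHP hfix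
  exact Cfsg.Agent.Helper9.ESCore.core B halt hnd x hx (Nat.card H) Nat.card_pos hh hcop hfree
    (fun L hL hf => Cfsg.Agent.Helper19.ESB.free_dvd x (Nat.card H) Nat.card_pos hh L hL hf) n hcard

end Cfsg.Agent.S3767
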