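-- S3770: proof by helper7
import Cfsg.Statements.S3770
import Mathlib
import Cfsg.Agent.Lead.Frobenius
import Cfsg.Agent.Helper7.FrobF

set_option autoImplicit false
open Cfsg

namespace Cfsg.Agent.S3770

open Cfsg.Agent.Helper7.Frob
open scoped Pointwise

/-- A Frobenius group `U ⋊ E` acting coprimely on a finite abelian group `A` with cyclic
fixed points of `E`: the elements of `U` commute in their action on `A`. -/
theorem ab_comm_full {Γ : Type*} [Group Γ] {A : Type*} [AddCommGroup A] [DistribMulAction Γ A]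
    [Finite Γ] [Finite A] (U E : Subgroup Γ) (hE1 : E ≠ ⊥)
    (hUn : ∀ e ∈ E, ∀ u ∈ U, e * u * e⁻¹ ∈ U)
    (hfpf : ∀ e ∈ E, e ≠ 1 → ∀ u ∈ U, e * u = u * e → u = 1)
    (hcU : (Nat.card A).Coprime (Nat.card U))
    (hcE : (Nat.card A).Coprime (Nat.card E))
    (hcyc : IsAddCyclic ↥(fixIn E (⊤ : AddSubgroup A))) :
    ∀ u ∈ U, ∀ u' ∈ U, ∀ w : A, u • u' • w = u' • u • w := by
  classical
  haveI : Fintype U := Fintype.ofFinite U
  have hnil : Group.IsNilpotent U := frob_nil U E hE1 hUn hfpf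
  obtain ⟨K, hK⟩ : ∃ K : AddSubgroup A, K = (tr U : A →+ A).ker := ⟨_, rfl⟩
  have hmemK : ∀ v : A, v ∈ K ↔ tr U v = 0 := fun v => by
    rw [hK]; exact AddMonoidHom.mem_ker
  have hUK : ∀ u ∈ U, ∀ v ∈ K, u • v ∈ K := by
    intro u hu v hv
    rw [hmemK] at hv ⊢
    rw [tr_smul_of_mem U v u hu]; exact hv
  have hEK : ∀ e ∈ E, ∀ v ∈ K, e • v ∈ K := by
    intro e he v hv
    rw [hmemK] at hv ⊢
    have hn : ∀ a, a ∈ U ↔ e * a * e⁻¹ ∈ U := conj_mem_iff U e (hUn e he)
    rw [← tr_conj U v e hn, hv, smul_zero]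
  have hfree : ∀ v ∈ K, (∀ u ∈ U, u • v = v) → v = 0 := by
    intro v hv hfix
    rw [hmemK, tr_of_fixed U v hfix] at hv
    exact nsmul_inj_A (Nat.card U) hcU hv
  have hle : fixIn E K ≤ fixIn E (⊤ : AddSubgroup A) := fun v hv =>
    mem_fixIn.mpr ⟨AddSubgroup.mem_top v, (mem_fixIn.mp hv).2⟩
  haveI := hcyc
  have hcycK : IsAddCyclic ↥(fixIn E K) := AddSubgroup.isAddCyclic_of_le hle
  have key := ab_comm U E hUn hfpf hnil hcU hcE (Nat.card K) E le_rfl K rfl hUK hEK hfree hcycK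
  intro u hu u' hu' w
  have h1 : Nat.card U • w - tr U w ∈ K := by
    rw [hmemK, map_sub, map_nsmul,
      tr_of_fixed U (tr U w) (fun b hb => tr_fixed U w b hb), sub_self]
  have h3 := key u hu u' hu' _ h1
  have h4 : u • u' • tr U w = u' • u • tr U w := by
    rw [tr_fixed U w u' hu', tr_fixed U w u hu, tr_fixed U w u' hu']
  obtain ⟨φ, hφ⟩ : ∃ φ : A →+ A, ∀ a, φ a = u • u' • a :=
    ⟨(DistribMulAction.toAddMonoidHom A u).comp (DistribMulAction.toAddMonoidHom A u'),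
      fun a => rfl⟩
  obtain ⟨ψ, hψ⟩ : ∃ ψ : A →+ A, ∀ a, ψ a = u' • u • a :=
    ⟨(DistribMulAction.toAddMonoidHom A u').comp (DistribMulAction.toAddMonoidHom A u),
      fun a => rfl⟩
  rw [← hφ, ← hψ] at h3 h4 ⊢
  rw [map_sub, map_sub, map_nsmul, map_nsmul, h4] at h3
  have h5 : Nat.card U • (φ w - ψ w) = 0 := by
    rw [smul_sub, sub_eq_zero]
    exact sub_left_inj.mp h3
  exact sub_eq_zero.mp (nsmul_inj_A (Nat.card U) hcU h5)

/-- Let G and V be subgroups of a finite group with G a Frobenius group with complement R of prime order and kernel K, G normalizing V, and V an elementary abelian ℓ-group for a prime ℓ not dividing the order of G. If C_V(R) has order ℓ, then the derived subgroup of K centralizes V. -/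
theorem result {X : Type*} [Group X] [Finite X] (G : Subgroup X) (V : Subgroup X) {ℓ : ℕ} (hℓ : ℓ.Prime) (hV : Cfsg.IsElementaryAbelian ℓ V) (hℓG : ¬ ℓ ∣ Nat.card G) (hGV : G ≤ Subgroup.normalizer (V : Set X)) (R : Subgroup ↥G) (hR : Cfsg.IsFrobeniusComplement R) (hRp : (Nat.card R).Prime) (hCV : Nat.card ↥(V ⊓ Subgroup.centralizer ((R.map G.subtype : Subgroup X) : Set X)) = ℓ) : ⁅Subgroup.closure (Subtype.val '' Cfsg.frobeniusKernel R), Subgroup.closure (Subtype.val '' Cfsg.frobeniusKernel R)⁆ ≤ Subgroup.centralizer (V : Set X) := by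
  classical
  obtain ⟨N, hNset, hNn, hNc⟩ := Cfsg.Agent.Lead.frobenius_kernel R hR
  haveI := hV.1
  haveI : Fact ℓ.Prime := ⟨hℓ⟩
  have hGV' : ∀ g ∈ G, ∀ h ∈ V, g * h * g⁻¹ ∈ V := fun g hg h hh =>
    (Subgroup.mem_normalizer_iff.mp (hGV hg) h).mp hh
  have hUn : ∀ e ∈ R, ∀ u ∈ N, e * u * e⁻¹ ∈ N := fun e _ u hu => hNn.conj_mem u hu e
  have hdisj : ∀ k ∈ N, k ∈ R → k = 1 := fun k hkN hkR =>
    Subgroup.disjoint_def.mp hNc.disjoint hkN hkR
  have hfpf : ∀ e ∈ R, e ≠ 1 → ∀ u ∈ N, e * u = u * e → u = 1 := by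
    intro e he he1 u hu hc
    by_contra hu1
    have huR : u ∉ R := fun h => hu1 (hdisj u hu h)
    have hbot := hR.2.2 u huR
    have h2 : MulAut.conj u • e = e := by
      rw [MulAut.smul_def, MulAut.conj_apply, ← hc, mul_inv_cancel_right]
    have h1 : MulAut.conj u • e ∈ MulAut.conj u • R :=
      Subgroup.smul_mem_pointwise_smul e (MulAut.conj u) R he
    rw [h2] at h1
    have hmem : e ∈ R ⊓ (MulAut.conj u • R) := Subgroup.mem_inf.mpr ⟨he, h1⟩
    rw [hbot, Subgroup.mem_bot] at hmem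
    exact he1 hmem
  have hR1 : R ≠ ⊥ := hR.1
  letI : DistribMulAction ↥G (Additive (Abelianization ↥V)) := abAct V G hGV'
  have hsmul : ∀ (g : ↥G) (a : Additive (Abelianization ↥V)),
      g • a = abFun V G hGV' g a := fun _ _ => rfl
  have hker : (Abelianization.of : ↥V →* Abelianization ↥V).ker = ⊥ := by
    rw [Abelianization.ker_of]
    show ⁅(⊤ : Subgroup ↥V), ⊤⁆ = ⊥
    rw [Subgroup.commutator_eq_bot_iff_le_centralizer]
    intro a _
    rw [Subgroup.mem_centralizer_iff]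
    intro b _
    exact mul_comm' b a
  have hinj : Function.Injective (abPi V) := by
    intro a b hab
    exact (MonoidHom.ker_eq_bot_iff _).mp hker (Additive.ofMul.injective hab)
  have hsurj := abPi_surj V
  haveI : Finite (Additive (Abelianization ↥V)) := Finite.of_surjective (abPi V) hsurj
  have hcardA : Nat.card (Additive (Abelianization ↥V)) = Nat.card V :=
    (Nat.card_eq_of_bijective (abPi V) ⟨hinj, hsurj⟩).symm
  have hVp : IsPGroup ℓ V := fun v => ⟨1, Subtype.ext (by simpa using hV.2 v v.2)⟩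
  obtain ⟨n, hn⟩ := IsPGroup.exists_card_eq hVp
  have hcopG : (Nat.card V).Coprime (Nat.card G) := by
    rw [hn]; exact Nat.Coprime.pow_left n ((Nat.Prime.coprime_iff_not_dvd hℓ).mpr hℓG)
  have hcU : (Nat.card (Additive (Abelianization ↥V))).Coprime (Nat.card N) := by
    rw [hcardA]
    exact Nat.Coprime.coprime_dvd_right (Subgroup.card_subgroup_dvd_card N) hcopG
  have hcE : (Nat.card (Additive (Abelianization ↥V))).Coprime (Nat.card R) := by
    rw [hcardA]
    exact Nat.Coprime.coprime_dvd_right (Subgroup.card_subgroup_dvd_card R) hcopG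
  have hfixmem : ∀ (c : X) (hcV : c ∈ V),
      c ∈ Subgroup.centralizer ((R.map G.subtype : Subgroup X) : Set X) ↔
        abPi V ⟨c, hcV⟩ ∈ fixIn R (⊤ : AddSubgroup (Additive (Abelianization ↥V))) := by
    intro c hcV
    constructor
    · intro hc
      refine mem_fixIn.mpr ⟨AddSubgroup.mem_top _, fun y hy => ?_⟩
      have h1 : (y : X) * c * (y : X)⁻¹ = c := by
        have h0 : (y : X) * c = c * (y : X) :=
          Subgroup.mem_centralizer_iff.mp hc (y : X) (Subgroup.mem_map.mpr ⟨y, hy, rfl⟩)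
        rw [h0, mul_inv_cancel_right]
      have h2 := abPi_conj V G hGV' y ⟨c, hcV⟩ (hGV' y y.2 c hcV)
      rw [hsmul, ← h2]
      exact congrArg (abPi V) (Subtype.ext h1)
    · intro hc
      rw [Subgroup.mem_centralizer_iff]
      intro x hx
      obtain ⟨y, hy, rfl⟩ := Subgroup.mem_map.mp hx
      have h2 := abPi_conj V G hGV' y ⟨c, hcV⟩ (hGV' y y.2 c hcV)
      have h3 : y • abPi V ⟨c, hcV⟩ = abPi V ⟨c, hcV⟩ := (mem_fixIn.mp hc).2 y hy
      rw [hsmul, ← h2] at h3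
      have h4 : (y : X) * c * (y : X)⁻¹ = c := congrArg Subtype.val (hinj h3)
      exact mul_inv_eq_iff_eq_mul.mp h4
  obtain ⟨C, hC⟩ : ∃ C : Subgroup X,
      C = V ⊓ Subgroup.centralizer ((R.map G.subtype : Subgroup X) : Set X) := ⟨_, rfl⟩
  rw [← hC] at hCV
  have hCmem : ∀ c : X, c ∈ C ↔
      c ∈ V ∧ c ∈ Subgroup.centralizer ((R.map G.subtype : Subgroup X) : Set X) :=
    fun c => by rw [hC]; exact Subgroup.mem_inf
  have hbij : Nat.card C
      = Nat.card ↥(fixIn R (⊤ : AddSubgroup (Additive (Abelianization ↥V)))) := by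
    refine Nat.card_eq_of_bijective
      (fun c : C => (⟨abPi V ⟨(c : X), ((hCmem c).mp c.2).1⟩,
        (hfixmem c _).mp ((hCmem c).mp c.2).2⟩ :
          ↥(fixIn R (⊤ : AddSubgroup (Additive (Abelianization ↥V)))))) ⟨?_, ?_⟩
    · intro c c' hcc
      have h1 := congrArg Subtype.val hcc
      have h6 : (c : X) = c' := congrArg (Subtype.val : ↥V → X) (hinj h1)
      exact Subtype.ext h6
    · intro a
      obtain ⟨v, hv⟩ := hsurj (a : Additive (Abelianization ↥V))
      have hvC : (v : X) ∈ C := (hCmem _).mpr ⟨v.2, (hfixmem (v : X) v.2).mpr (by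
        show abPi V v ∈ _
        rw [hv]; exact a.2)⟩
      exact ⟨⟨(v : X), hvC⟩, Subtype.ext hv⟩
  have hcyc : IsAddCyclic ↥(fixIn R (⊤ : AddSubgroup (Additive (Abelianization ↥V)))) :=
    isAddCyclic_of_prime_card (p := ℓ) (by rw [← hbij, hCV])
  have hmain := ab_comm_full (A := Additive (Abelianization ↥V)) N R hR1 hUn hfpf hcU hcE hcyc
  have hSle : Subgroup.closure (Subtype.val '' Cfsg.frobeniusKernel R) ≤ N.map G.subtype := by
    rw [Subgroup.closure_le]
    rintro x ⟨k, hk, rfl⟩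
    rw [← hNset] at hk
    exact Subgroup.mem_map.mpr ⟨k, hk, rfl⟩
  refine le_trans (Subgroup.commutator_mono hSle hSle) ?_
  rw [Subgroup.commutator_le]
  rintro g₁ ⟨u, hu, rfl⟩ g₂ ⟨u', hu', rfl⟩
  rw [Subgroup.mem_centralizer_iff]
  intro v hv
  have hd : ∀ a : Additive (Abelianization ↥V), (u * u' * u⁻¹ * u'⁻¹) • a = a := by
    intro a
    rw [mul_smul, mul_smul, mul_smul, hmain u⁻¹ (N.inv_mem hu) u'⁻¹ (N.inv_mem hu') a,
      smul_inv_smul, smul_inv_smul]
  have h2 := abPi_conj V G hGV' (u * u' * u⁻¹ * u'⁻¹) ⟨v, hv⟩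
    (hGV' _ (u * u' * u⁻¹ * u'⁻¹).2 v hv)
  rw [← hsmul, hd] at h2
  have h4 : ((u * u' * u⁻¹ * u'⁻¹ : ↥G) : X) * v * ((u * u' * u⁻¹ * u'⁻¹ : ↥G) : X)⁻¹ = v :=
    congrArg Subtype.val (hinj h2)
  show v * ((u * u' * u⁻¹ * u'⁻¹ : ↥G) : X) = ((u * u' * u⁻¹ * u'⁻¹ : ↥G) : X) * v
  exact (mul_inv_eq_iff_eq_mul.mp h4).symm

end Cfsg.Agent.S3770
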