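import Mathlib
import Cfsg.Statements.S3783
import Cfsg.Agent.Helper19.HH4
import Cfsg.Agent.S4218

set_option autoImplicit false
open Cfsg

namespace Cfsg.Agent.S3783

open Cfsg.Agent.Lead.PChain

universe u

/-- chains of normal subgroups pull back along a quotient map. -/
theorem ch_comap {G : Type*} [Group G] {p : ℕ} (U : Subgroup G) [U.Normal] :
    ∀ (k : ℕ) (A B : Subgroup (G ⧸ U)), Ch p k A B →
      Ch p k (A.comap (QuotientGroup.mk' U)) (B.comap (QuotientGroup.mk' U)) := by
  have hrel : ∀ A B : Subgroup (G ⧸ U), (A.comap (QuotientGroup.mk' U)).relIndex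
      (B.comap (QuotientGroup.mk' U)) = A.relIndex B := by
    intro A B
    rw [Subgroup.relIndex_comap,
      Subgroup.map_comap_eq_self_of_surjective (QuotientGroup.mk'_surjective U)]
  intro k
  induction k with
  | zero =>
    intro A B h
    obtain ⟨hAB, hA, hB, hcop⟩ := Ch_zero.1 h
    exact Ch_zero.2 ⟨Subgroup.comap_mono hAB, hA.comap _, hB.comap _, by rw [hrel]; exact hcop⟩
  | succ k ih =>
    intro A B h
    obtain ⟨C, D, hC, hCD, hDn, ⟨e, he⟩, hDB, hBn, hcop⟩ := Ch_succ.1 h
    exact Ch_succ.2 ⟨_, _, ih A C hC, Subgroup.comap_mono hCD, hDn.comap _,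
      ⟨e, by rw [hrel]; exact he⟩, Subgroup.comap_mono hDB, hBn.comap _,
      by rw [hrel]; exact hcop⟩

theorem order_of_mem_sylow {H : Type*} [Group H] {p : ℕ} [Fact p.Prime] (P : Sylow p H) (x : H)
    (hx : x ∈ (P : Subgroup H)) : ∃ k : ℕ, orderOf x = p ^ k := by
  obtain ⟨k, hk⟩ := P.isPGroup' ⟨x, hx⟩
  have h1 : x ^ p ^ k = 1 := by
    have := congrArg (fun z : ↥(P : Subgroup H) => (z : H)) hk
    simpa using this
  obtain ⟨j, -, hj⟩ := (Nat.dvd_prime_pow (Fact.out : p.Prime)).1 (orderOf_dvd_of_pow_eq_one h1)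
  exact ⟨j, hj⟩

theorem mem_sylow_of_order {H : Type*} [Group H] [Finite H] {p : ℕ} [Fact p.Prime] (x : H)
    (hx : ∃ k : ℕ, orderOf x = p ^ k) : ∃ P : Sylow p H, x ∈ (P : Subgroup H) := by
  obtain ⟨k, hk⟩ := hx
  have h1 : IsPGroup p (Subgroup.zpowers x) :=
    IsPGroup.of_card (n := k) (by rw [Nat.card_zpowers, hk])
  obtain ⟨P, hP⟩ := h1.exists_le_sylow
  exact ⟨P, hP (Subgroup.mem_zpowers x)⟩

/-- abelian Sylow subgroups pass to quotients. -/
theorem hab_quot {G : Type*} [Group G] [Finite G] {G' : Type*} [Group G'] (f : G →* G')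
    (hf : Function.Surjective f) {q : ℕ} [Fact q.Prime]
    (hab : ∀ S : Sylow q G, ∀ a ∈ (S : Subgroup G), ∀ b ∈ (S : Subgroup G), a * b = b * a)
    (S' : Sylow q G') : ∀ a ∈ (S' : Subgroup G'), ∀ b ∈ (S' : Subgroup G'), a * b = b * a := by
  obtain ⟨S, rfl⟩ := Sylow.mapSurjective_surjective hf q S'
  intro a ha b hb
  rw [Sylow.coe_mapSurjective] at ha hb
  obtain ⟨a, ha, rfl⟩ := ha
  obtain ⟨b, hb, rfl⟩ := hb
  rw [← map_mul, ← map_mul, hab S a ha b hb]

theorem aux {p : ℕ} [Fact p.Prime] : ∀ (n : ℕ) (G : Type u) [Group G] [Finite G],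
    IsPSolvable p G →
    (∀ (q : ℕ) [Fact q.Prime], q ≠ p → ∀ S : Sylow q G,
      ∀ a ∈ (S : Subgroup G), ∀ b ∈ (S : Subgroup G), a * b = b * a) →
    (∀ P : Sylow p G, ∀ x ∈ (P : Subgroup G), x ^ p ^ n = 1) →
    PLengthLE p n G := by
  intro n
  induction n with
  | zero =>
    intro G _ _ hG hab hexp
    have hpp := (Fact.out : p.Prime)
    apply plength_of_chain hpp
    refine Ch_zero.2 ⟨bot_le, inferInstance, inferInstance, ?_⟩
    rw [Subgroup.relIndex_bot_left, Subgroup.card_top, Nat.coprime_comm,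
      Nat.Prime.coprime_iff_not_dvd hpp]
    intro hdvd
    obtain ⟨g, hg⟩ := exists_prime_orderOf_dvd_card' p hdvd
    obtain ⟨P, hP⟩ := mem_sylow_of_order (p := p) g ⟨1, by rw [hg, pow_one]⟩
    have h1 := hexp P g hP
    rw [pow_zero, pow_one] at h1
    rw [h1, orderOf_one] at hg
    exact hpp.one_lt.ne hg
  | succ n ih =>
    intro G _ _ hG hab hexp
    have hpp := (Fact.out : p.Prime)
    obtain ⟨f, hf⟩ : ∃ f : G →* G ⧸ pPrimeCore p G, f = QuotientGroup.mk' (pPrimeCore p G) :=
      ⟨_, rfl⟩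
    have hfs : Function.Surjective f := hf ▸ QuotientGroup.mk'_surjective _
    have hsolq : IsPSolvable p (G ⧸ pPrimeCore p G) :=
      Cfsg.Agent.Helper23.isPSolvable_quotient hG _
    have key : ∀ (P : Sylow p G), ∀ g ∈ (P : Subgroup G), g ^ p ^ n ∈ pPrimePCore p G := by
      intro P g hg
      have h1 := Cfsg.Agent.Helper19.HH.pow_mem_of_exp (H := G ⧸ pPrimeCore p G) (p := p)
        (pCore p (G ⧸ pPrimeCore p G)) (Cfsg.Agent.Helper23.pCore_isPGroup p)
        (by
          intro gb hgb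
          obtain ⟨g, rfl⟩ := QuotientGroup.mk'_surjective (pPrimeCore p G) gb
          have h1 := (Cfsg.Agent.S4218.result hG g).1 (by
            intro x hx
            rw [Cfsg.Agent.S4218.mem_F]
            have h2 := hgb (QuotientGroup.mk' _ x) hx
            rw [map_mul, map_mul, map_mul, map_inv, map_inv]
            exact h2)
          exact h1)
        (fun g hg hx => Cfsg.Agent.Helper19.HH.mem_pCore_of_comm hsolq g hg hx)
        (fun q _ hq S' => hab_quot f hfs (hab q hq) S')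
        n
        (by
          intro gb hgb
          obtain ⟨P', hP'⟩ := mem_sylow_of_order (p := p) gb hgb
          obtain ⟨P₀, rfl⟩ := Sylow.mapSurjective_surjective hfs p P'
          rw [Sylow.coe_mapSurjective] at hP'
          obtain ⟨g₀, hg₀, rfl⟩ := hP'
          rw [← map_pow, hexp P₀ g₀ hg₀, map_one])
        (f g)
        (order_of_mem_sylow (P.mapSurjective hfs) (f g) (by
          rw [Sylow.coe_mapSurjective]
          exact Subgroup.mem_map_of_mem f hg))
      rw [← map_pow, hf] at h1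
      exact h1
    obtain ⟨P₁, hP₁⟩ : ∃ P₁ : Subgroup G, P₁ = pPrimePCore p G := ⟨_, rfl⟩
    haveI hP₁n : P₁.Normal := by
      rw [hP₁]
      exact Subgroup.Normal.comap inferInstance _
    have hsolq' : IsPSolvable p (G ⧸ P₁) := Cfsg.Agent.Helper23.isPSolvable_quotient hG _
    have hih : PLengthLE p n (G ⧸ P₁) := by
      apply ih (G ⧸ P₁) hsolq'
      · intro q _ hq S'
        exact hab_quot (QuotientGroup.mk' P₁) (QuotientGroup.mk'_surjective P₁) (hab q hq) S'
      · intro P' x hx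
        obtain ⟨P₀, rfl⟩ := Sylow.mapSurjective_surjective (QuotientGroup.mk'_surjective P₁) p P'
        rw [Sylow.coe_mapSurjective] at hx
        obtain ⟨g₀, hg₀, rfl⟩ := hx
        rw [← map_pow]
        have h1 := key P₀ g₀ hg₀
        rw [← hP₁] at h1
        exact (QuotientGroup.eq_one_iff _).2 h1
    have hc2 : Ch p n P₁ (⊤ : Subgroup G) := by
      have h1 := ch_comap P₁ n ⊥ ⊤ (chain_of_plength hpp hih)
      rw [MonoidHom.comap_bot, QuotientGroup.ker_mk', Subgroup.comap_top] at h1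
      exact h1
    have hc1 : Ch p 1 (⊥ : Subgroup G) P₁ := by
      obtain ⟨e, he⟩ := IsPGroup.iff_card.1
        (Cfsg.Agent.Helper23.pCore_isPGroup (G := G ⧸ pPrimeCore p G) p)
      refine Ch_succ.2 ⟨pPrimeCore p G, P₁, Ch_zero.2 ⟨bot_le, inferInstance, inferInstance, ?_⟩,
        ?_, hP₁n, ⟨e, ?_⟩, le_rfl, hP₁n, ?_⟩
      · rw [Subgroup.relIndex_bot_left]
        exact Cfsg.Agent.Helper23.pPrimeCore_coprime p
      · rw [hP₁]
        exact le_comap_mk _ _
      · rw [hP₁]
        show (pPrimeCore p G).relIndex ((pCore p (G ⧸ pPrimeCore p G)).comap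
          (QuotientGroup.mk' (pPrimeCore p G))) = p ^ e
        rw [relIndex_comap_mk]
        exact he
      · rw [Subgroup.relIndex_self]
        exact Nat.coprime_one_left p
    have hc := Ch.trans hc1 hc2
    rw [Nat.add_comm] at hc
    exact plength_of_chain hpp hc

/-- Let G be a finite p-soluble group in which, for every prime q ≠ p, the Sylow q-subgroups are abelian. If the Sylow p-subgroups of G have exponent dividing p^n, then G has p-length at most n. -/
theorem result {G : Type*} [Group G] [Finite G] {p : ℕ} [Fact p.Prime] (hG : Cfsg.IsPSolvable p G) (hab : ∀ (q : ℕ) [Fact q.Prime], q ≠ p → ∀ Q : Sylow q G, IsMulCommutative (Q : Subgroup G)) (n : ℕ) (hexp : ∀ (P : Sylow p G), ∀ x ∈ (P : Subgroup G), x ^ p ^ n = 1) : Cfsg.PLengthLE p n G := by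
  apply aux n G hG _ hexp
  intro q _ hq S a ha b hb
  haveI := hab q hq S
  exact setLike_mul_comm ha hb

end Cfsg.Agent.S3783
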