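import Mathlib
import Cfsg.Statements.S3785
import Cfsg.Agent.Helper1.Fitting
import Cfsg.Agent.Helper7.CharP
import Cfsg.Agent.Helper14.CoprimeAut
import Cfsg.Agent.S0043

set_option autoImplicit false
open Cfsg

namespace Cfsg.Agent.S3785

/-- Let G be a finite solvable group whose Fitting subgroup F(G) has odd order. If an element g of G commutes with every element of prime order of F(G), then g ∈ F(G). -/
theorem result {G : Type*} [Group G] [Finite G] (hG : Group.IsSolvable G) (hodd : Odd (Nat.card (Cfsg.fittingSubgroup G))) (g : G) (hg : ∀ x ∈ Cfsg.fittingSubgroup G, (orderOf x).Prime → g * x = x * g) : g ∈ Cfsg.fittingSubgroup G := by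
  classical
  haveI := hG
  obtain ⟨F, hFdef⟩ : ∃ F : Subgroup G, F = Cfsg.fittingSubgroup G := ⟨_, rfl⟩
  rw [← hFdef] at hodd hg ⊢
  haveI hFn : F.Normal := by rw [hFdef]; exact Cfsg.Agent.Helper1.fitting_normal G
  obtain ⟨C, hCdef⟩ : ∃ C : Subgroup G,
      C = Subgroup.centralizer {x : G | x ∈ F ∧ (orderOf x).Prime} := ⟨_, rfl⟩
  have hCmem : ∀ c, c ∈ C ↔ ∀ x ∈ F, (orderOf x).Prime → c * x = x * c := by
    intro c
    rw [hCdef, Subgroup.mem_centralizer_iff]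
    constructor
    · intro h x hx hxp; exact (h x ⟨hx, hxp⟩).symm
    · rintro h x ⟨hx, hxp⟩; exact (h x hx hxp).symm
  have hgC : g ∈ C := (hCmem g).2 hg
  haveI hCn : C.Normal := by
    constructor
    intro c hc t
    rw [hCmem] at hc ⊢
    intro x hx hxp
    have hy : t⁻¹ * x * t⁻¹⁻¹ ∈ F := hFn.conj_mem x hx t⁻¹
    have hyo : orderOf (t⁻¹ * x * t⁻¹⁻¹) = orderOf x :=
      orderOf_injective (MulAut.conj t⁻¹).toMonoidHom (MulAut.conj t⁻¹).injective x
    have h1 := hc _ hy (by rw [hyo]; exact hxp)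
    calc t * c * t⁻¹ * x = t * (c * (t⁻¹ * x * t⁻¹⁻¹)) * t⁻¹ := by group
      _ = t * (t⁻¹ * x * t⁻¹⁻¹ * c) * t⁻¹ := by rw [h1]
      _ = x * (t * c * t⁻¹) := by group
  suffices hCF : C ≤ F from hCF hgC
  by_contra hCF
  have hOF : ∀ p : ℕ, p.Prime → Cfsg.pCore p G ≤ F := fun p hp => by
    haveI : Fact p.Prime := ⟨hp⟩
    rw [hFdef]; exact Cfsg.Agent.Helper1.pCore_le_fitting p
  -- a `q`-element of `C` centralizes `O_p(G)` for `p ≠ q`
  have hstep1 : ∀ (q : ℕ), q.Prime → ∀ c ∈ C, ∀ j : ℕ, c ^ (q ^ j) = 1 → ∀ p : ℕ, p.Prime →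
      p ≠ q → ∀ y ∈ Cfsg.pCore p G, c * y = y * c := by
    intro q hq c hc j hcj p hp hpq y hy
    haveI : Fact p.Prime := ⟨hp⟩
    by_cases hp2 : p = 2
    · have hbot : Cfsg.pCore p G = ⊥ := by
        obtain ⟨e, he⟩ := IsPGroup.iff_card.1 (Cfsg.Agent.Helper1.pCore_isPGroup p G)
        have hdvd : Nat.card (Cfsg.pCore p G) ∣ Nat.card F := Subgroup.card_dvd_of_le (hOF p hp)
        apply Subgroup.eq_bot_of_card_eq
        rw [he] at hdvd ⊢
        rcases Nat.eq_zero_or_pos e with h0 | hpos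
        · rw [h0, pow_zero]
        · exfalso
          have h2 : 2 ∣ Nat.card F := by
            rw [← hp2]; exact (dvd_pow_self p hpos.ne').trans hdvd
          exact (Nat.not_even_iff_odd.2 hodd) (even_iff_two_dvd.2 h2)
      rw [hbot, Subgroup.mem_bot] at hy
      rw [hy, mul_one, one_mul]
    · have ha : (MulAut.conj c) ^ (q ^ j) = 1 := by rw [← map_pow, hcj, map_one]
      have hcop : Nat.Coprime (q ^ j) p :=
        Nat.Coprime.pow_left j ((Nat.coprime_primes hq hp).2 (Ne.symm hpq))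
      have h := Cfsg.Agent.Helper14.aut_fix_of_fix_order_p hp2 (MulAut.conj c) (q ^ j) ha hcop _
        (Cfsg.pCore p G) rfl (Cfsg.Agent.Helper1.pCore_isPGroup p G)
        (fun h hh => (Cfsg.Agent.Helper1.pCore_normal p G).conj_mem h hh c)
        (fun x hx hxp => by
          by_cases hx1 : x = 1
          · rw [hx1, map_one]
          · have hxo : orderOf x = p := orderOf_eq_prime hxp hx1
            have h1 := (hCmem c).1 hc x (hOF p hp hx) (by rw [hxo]; exact hp)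
            show c * x * c⁻¹ = x
            rw [h1, mul_inv_cancel_right])
        y hy
      have h' : c * y * c⁻¹ = y := h
      exact mul_inv_eq_iff_eq_mul.1 h'
  -- a chief factor `M/F` inside `FC/F`
  have hπs : Function.Surjective (QuotientGroup.mk' F) := QuotientGroup.mk'_surjective F
  have hker : (QuotientGroup.mk' F).ker = F := QuotientGroup.ker_mk' F
  haveI hAn : ((F ⊔ C).map (QuotientGroup.mk' F)).Normal :=
    Subgroup.Normal.map inferInstance _ hπs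
  have hAne : (F ⊔ C).map (QuotientGroup.mk' F) ≠ ⊥ := by
    intro h
    rw [Subgroup.map_eq_bot_iff, hker] at h
    exact hCF (le_sup_right.trans h)
  obtain ⟨B, hBA, hB⟩ := exists_minimal_le_of_wellFoundedLT
    (fun K : Subgroup (G ⧸ F) => K.Normal ∧ K ≠ ⊥) ((F ⊔ C).map (QuotientGroup.mk' F))
    ⟨hAn, hAne⟩
  have hBn : B.Normal := hB.prop.1
  have hBne : B ≠ ⊥ := hB.prop.2
  haveI := hBn
  have hmin : ∀ K : Subgroup (G ⧸ F), K.Normal → K ≤ B → K = ⊥ ∨ K = B := by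
    intro K hK hKB
    by_cases h : K = ⊥
    · exact Or.inl h
    · exact Or.inr (le_antisymm hKB (hB.le_of_le ⟨hK, h⟩ hKB))
  obtain ⟨-, q, hq, hexp⟩ := Cfsg.Agent.S0043.result B hBne hmin
  haveI : Fact q.Prime := ⟨hq⟩
  have hBp : IsPGroup q B := by
    intro x
    refine ⟨1, ?_⟩
    rw [pow_one]
    exact Subtype.ext (by simpa using hexp x x.2)
  obtain ⟨k, hk⟩ := IsPGroup.iff_card.1 hBp
  obtain ⟨M, hMdef⟩ : ∃ M : Subgroup G, M = B.comap (QuotientGroup.mk' F) := ⟨_, rfl⟩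
  haveI hMn : M.Normal := by rw [hMdef]; exact hBn.comap _
  have hFM : F ≤ M := by
    rw [hMdef]
    intro f hf
    show QuotientGroup.mk' F f ∈ B
    have h1 : QuotientGroup.mk' F f = 1 := by
      rw [← MonoidHom.mem_ker, hker]; exact hf
    rw [h1]; exact B.one_mem
  have hMFC : M ≤ F ⊔ C := by
    intro m hm
    rw [hMdef] at hm
    obtain ⟨c, hc, hcm⟩ := hBA (show QuotientGroup.mk' F m ∈ B from hm)
    have h1 : c⁻¹ * m ∈ F := by
      rw [← hker, MonoidHom.mem_ker, map_mul, map_inv, hcm, inv_mul_cancel]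
    have h2 := (F ⊔ C).mul_mem hc (Subgroup.mem_sup_left h1)
    rwa [mul_inv_cancel_left] at h2
  have hMF : ¬ M ≤ F := by
    intro h
    apply hBne
    rw [eq_bot_iff]
    intro b hb
    obtain ⟨m, rfl⟩ := hπs b
    have hmF : m ∈ F := h (by rw [hMdef]; exact hb)
    rw [Subgroup.mem_bot, ← MonoidHom.mem_ker, hker]
    exact hmF
  have hidx : F.relIndex M = q ^ k := by
    have h1 := Subgroup.relIndex_comap (H := (⊥ : Subgroup (G ⧸ F))) (QuotientGroup.mk' F) M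
    rw [MonoidHom.comap_bot, hker, hMdef, Subgroup.map_comap_eq_self_of_surjective hπs,
      Subgroup.relIndex_bot_left, hk] at h1
    rw [hMdef]; exact h1
  -- a Sylow `q`-subgroup of `M ∩ C`
  obtain ⟨C₁, hC₁⟩ : ∃ C₁ : Subgroup G, C₁ = M ⊓ C := ⟨_, rfl⟩
  have hC₁M : C₁ ≤ M := by rw [hC₁]; exact inf_le_left
  have hC₁C : C₁ ≤ C := by rw [hC₁]; exact inf_le_right
  have hMle1 : M ≤ F ⊔ C₁ := by
    intro m hm
    obtain ⟨f, hf, c, hc, rfl⟩ := Subgroup.mem_sup_of_normal_right.1 (hMFC hm)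
    have hcM : c ∈ M := by
      have h := M.mul_mem (M.inv_mem (hFM hf)) hm
      rwa [inv_mul_cancel_left] at h
    exact Subgroup.mul_mem _ (Subgroup.mem_sup_left hf)
      (Subgroup.mem_sup_right (by rw [hC₁]; exact ⟨hcM, hc⟩))
  obtain ⟨Q⟩ : Nonempty (Sylow q ↥C₁) := inferInstance
  obtain ⟨Q₁, hQ₁def⟩ : ∃ Q₁ : Subgroup G, Q₁ = (Q : Subgroup ↥C₁).map C₁.subtype := ⟨_, rfl⟩
  have hQ₁C₁ : Q₁ ≤ C₁ := by rw [hQ₁def]; exact Subgroup.map_subtype_le _
  have hQ₁p : IsPGroup q Q₁ := by rw [hQ₁def]; exact Q.isPGroup'.map C₁.subtype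
  have hQ₁el : ∀ x ∈ Q₁, ∃ j : ℕ, x ^ (q ^ j) = 1 := by
    intro x hx
    obtain ⟨j, hj⟩ := hQ₁p ⟨x, hx⟩
    exact ⟨j, by simpa using congrArg Subtype.val hj⟩
  have hQidx : Q₁.relIndex C₁ = (Q : Subgroup ↥C₁).index := by
    rw [hQ₁def]
    show (((Q : Subgroup ↥C₁).map C₁.subtype).comap C₁.subtype).index = _
    rw [Subgroup.comap_map_eq_self_of_injective C₁.subtype_injective]
  have hQnd : ¬ q ∣ (Q : Subgroup ↥C₁).index := Q.not_dvd_index
  have hC₁le : C₁ ≤ F ⊔ Q₁ := by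
    rw [← Subgroup.relIndex_eq_one]
    have h1 : (F ⊔ Q₁).relIndex C₁ ∣ Q₁.relIndex C₁ :=
      Subgroup.relIndex_dvd_of_le_left C₁ le_sup_right
    have h2 : (F ⊔ Q₁).relIndex C₁ ∣ F.relIndex C₁ :=
      Subgroup.relIndex_dvd_of_le_left C₁ le_sup_left
    have h3 : F.relIndex C₁ ∣ q ^ k := by
      rw [← hidx]
      have e1 : F.relIndex (C₁ ⊔ F) = F.relIndex C₁ := Subgroup.relIndex_sup_right C₁ F
      have e2 := Subgroup.relIndex_mul_relIndex (H := F) (K := C₁ ⊔ F) (L := M) le_sup_right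
        (sup_le hC₁M hFM)
      rw [← e1, ← e2]; exact dvd_mul_right _ _
    obtain ⟨i, -, hi⟩ := (Nat.dvd_prime_pow hq).1 (h2.trans h3)
    rcases Nat.eq_zero_or_pos i with h0 | hpos
    · rw [hi, h0, pow_zero]
    · exfalso
      apply hQnd
      rw [← hQidx]
      refine (dvd_pow_self q hpos.ne').trans ?_
      rw [← hi]; exact h1
  have hMle : M ≤ F ⊔ Q₁ := hMle1.trans (sup_le le_sup_left hC₁le)
  -- the `q`-group `Q₁ O_q(G)` is normal in `M`
  have hOq : IsPGroup q (Cfsg.pCore q G) := Cfsg.Agent.Helper1.pCore_isPGroup q G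
  haveI hOqn : (Cfsg.pCore q G).Normal := Cfsg.Agent.Helper1.pCore_normal q G
  obtain ⟨Q₂, hQ₂def⟩ : ∃ Q₂ : Subgroup G, Q₂ = Q₁ ⊔ Cfsg.pCore q G := ⟨_, rfl⟩
  have hQ₂p : IsPGroup q Q₂ := by rw [hQ₂def]; exact IsPGroup.to_sup_of_normal_right hQ₁p hOq
  have hQ₁Q₂ : Q₁ ≤ Q₂ := by rw [hQ₂def]; exact le_sup_left
  have hOqQ₂ : Cfsg.pCore q G ≤ Q₂ := by rw [hQ₂def]; exact le_sup_right
  have hFsup : F = ⨆ p : Nat.Primes, Cfsg.pCore (p : ℕ) G := by
    rw [hFdef]; exact Cfsg.Agent.Helper1.fitting_eq_iSup_primes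
  have hcent : ∀ p : ℕ, p.Prime → p ≠ q →
      Cfsg.pCore p G ≤ Subgroup.centralizer (Q₂ : Set G) := by
    intro p hp hpq
    haveI : Fact p.Prime := ⟨hp⟩
    rw [Subgroup.le_centralizer_iff, hQ₂def]
    apply sup_le
    · intro x hx
      rw [Subgroup.mem_centralizer_iff]
      intro y hy
      obtain ⟨j, hj⟩ := hQ₁el x hx
      exact (hstep1 q hq x (hC₁C (hQ₁C₁ hx)) j hj p hp hpq y hy).symm
    · intro x hx
      rw [Subgroup.mem_centralizer_iff]
      intro y hy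
      have hdis : Disjoint (Cfsg.pCore p G) (Cfsg.pCore q G) :=
        IsPGroup.disjoint_of_ne p q hpq _ _ (Cfsg.Agent.Helper1.pCore_isPGroup p G) hOq
      exact (Subgroup.commute_of_normal_of_disjoint _ _ (Cfsg.Agent.Helper1.pCore_normal p G)
        hOqn hdis y x hy hx).eq
  have hFnz : F ≤ Subgroup.normalizer (Q₂ : Set G) := by
    rw [hFsup]
    apply iSup_le
    intro p
    by_cases hpq : (p : ℕ) = q
    · rw [hpq]; exact hOqQ₂.trans Subgroup.le_normalizer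
    · exact (hcent p p.2 hpq).trans (Subgroup.centralizer_le_normalizer _)
  have hMnz : M ≤ Subgroup.normalizer (Q₂ : Set G) :=
    hMle.trans (sup_le hFnz (hQ₁Q₂.trans Subgroup.le_normalizer))
  have hQ₂M : Q₂ ≤ M := by
    rw [hQ₂def]; exact sup_le (hQ₁C₁.trans hC₁M) ((hOF q hq).trans hFM)
  have hQ₂F : Q₂ ≤ F := by
    have hn : (Q₂.subgroupOf M).Normal :=
      (Subgroup.normal_subgroupOf_iff_le_normalizer hQ₂M).2 hMnz
    have h1 : Q₂.subgroupOf M ≤ Cfsg.pCore q ↥M :=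
      Cfsg.Agent.Helper1.le_pCore hn hQ₂p.comap_subtype
    have h2 := Subgroup.map_mono (f := M.subtype) h1
    rw [Subgroup.map_subgroupOf_eq_of_le hQ₂M] at h2
    exact (h2.trans (Cfsg.Agent.Helper7.pCore_map_subtype_le q M)).trans (hOF q hq)
  exact hMF (hMle.trans (sup_le le_rfl (hQ₁Q₂.trans hQ₂F)))

end Cfsg.Agent.S3785
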