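import Mathlib
import Cfsg.Statements.S3788
import Cfsg.Agent.Helper19.HH3
import Cfsg.Agent.S4218

set_option autoImplicit false
open Cfsg

namespace Cfsg.Agent.S3788

/-- Let G be a finite p-soluble group, P a Sylow p-subgroup of G and A a cyclic normal subgroup of P. If p is odd, or if no section of G is isomorphic to the symmetric group of degree 4, then A ≤ O_{p',p}(G). -/
theorem result {G : Type*} [Group G] [Finite G] {p : ℕ} [Fact p.Prime] (hG : Cfsg.IsPSolvable p G) (P : Sylow p G) (A : Subgroup G) (hAP : A ≤ (P : Subgroup G)) (hAn : (P : Subgroup G) ≤ Subgroup.normalizer (A : Set G)) (hA : IsCyclic A) (h : p ≠ 2 ∨ ¬ Cfsg.Involves (Equiv.Perm (Fin 4)) G) : A ≤ Cfsg.pPrimePCore p G := by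
  classical
  obtain ⟨g₀, hg₀⟩ := hA.exists_generator
  obtain ⟨a, ha⟩ : ∃ a : G, a = (g₀ : G) := ⟨_, rfl⟩
  have haA : a ∈ A := ha ▸ g₀.2
  have hAa : ∀ x ∈ A, ∃ k : ℕ, x = a ^ k := by
    intro x hx
    have h1 := hg₀ ⟨x, hx⟩
    rw [← mem_powers_iff_mem_zpowers] at h1
    obtain ⟨k, hk⟩ := (Submonoid.mem_powers_iff _ _).mp h1
    refine ⟨k, ?_⟩
    have h2 := congrArg (fun z : ↥A => (z : G)) hk
    simp only [Subgroup.coe_pow] at h2
    rw [ha]; exact h2.symm
  obtain ⟨f, hf⟩ : ∃ f : G →* G ⧸ Cfsg.pPrimeCore p G, f = QuotientGroup.mk' (Cfsg.pPrimeCore p G) :=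
    ⟨_, rfl⟩
  have hfs : Function.Surjective f := hf ▸ QuotientGroup.mk'_surjective _
  have hsolq : Cfsg.IsPSolvable p (G ⧸ Cfsg.pPrimeCore p G) :=
    Cfsg.Agent.Helper23.isPSolvable_quotient hG _
  have hcore := Cfsg.Agent.Helper19.HH.cyclic_normal_core (H := G ⧸ Cfsg.pPrimeCore p G) (p := p)
    (Cfsg.pCore p (G ⧸ Cfsg.pPrimeCore p G)) (Cfsg.Agent.Helper23.pCore_isPGroup p)
    (by
      intro gb hgb
      obtain ⟨g, rfl⟩ := QuotientGroup.mk'_surjective (Cfsg.pPrimeCore p G) gb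
      have h1 := (Cfsg.Agent.S4218.result hG g).1 (by
        intro x hx
        rw [Cfsg.Agent.S4218.mem_F]
        have h2 := hgb (QuotientGroup.mk' _ x) hx
        rw [map_mul, map_mul, map_mul, map_inv, map_inv]
        exact h2)
      exact h1)
    (fun g hg hx => Cfsg.Agent.Helper19.HH.mem_pCore_of_comm hsolq g hg hx)
    (P.mapSurjective hfs) (f a)
    (by
      rw [Sylow.coe_mapSurjective]
      exact Subgroup.mem_map_of_mem f (hAP haA))
    (by
      intro gb hgb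
      rw [Sylow.coe_mapSurjective] at hgb
      obtain ⟨g, hg, rfl⟩ := hgb
      have h1 : g * a * g⁻¹ ∈ A := (Subgroup.mem_normalizer_iff.mp (hAn hg) a).mp haA
      obtain ⟨k, hk⟩ := hAa _ h1
      exact ⟨k, by rw [← map_inv, ← map_mul, ← map_mul, hk, map_pow]⟩)
  rcases hcore with h1 | ⟨hp2, h4⟩
  · intro x hx
    obtain ⟨k, rfl⟩ := hAa x hx
    have h2 : a ∈ Cfsg.pPrimePCore p G := by rw [hf] at h1; exact h1
    exact Subgroup.pow_mem _ h2 k
  · exfalso
    rcases h with h | h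
    · exact h hp2
    · exact h (Cfsg.Agent.Helper19.HH.involves_of_quot _ h4)

end Cfsg.Agent.S3788
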