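import Cfsg.Statements.S3803
import Mathlib
import Cfsg.Agent.Helper8.TwoLocal
import Cfsg.Agent.S0499
import Cfsg.Agent.S3379

set_option autoImplicit false
open Cfsg

namespace Cfsg.Agent.S3803

theorem exists_between {X : Type*} [Group X] [Finite X] (P H : Subgroup X) (n m k : ℕ)
    (hP : Nat.card P = 2 ^ n) (hH : Nat.card H = 2 ^ k) (hHP : H ≤ P) (hkm : k ≤ m)
    (hmn : m ≤ n) : ∃ K : Subgroup X, Nat.card K = 2 ^ m ∧ H ≤ K ∧ K ≤ P := by
  haveI : Fact (Nat.Prime 2) := ⟨Nat.prime_two⟩
  have h1 : 2 ^ m ∣ Nat.card ↥P := by rw [hP]; exact pow_dvd_pow 2 hmn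
  have h2 : Nat.card (H.subgroupOf P) = 2 ^ k := by
    rw [Nat.card_congr (Subgroup.subgroupOfEquivOfLe hHP).toEquiv]; exact hH
  obtain ⟨K, hK, hHK⟩ := Sylow.exists_subgroup_card_pow_prime_le 2 h1 (H.subgroupOf P) h2 hkm
  refine ⟨K.map P.subtype, ?_, ?_, ?_⟩
  · rw [Subgroup.card_map_of_injective P.subtype_injective]
    exact hK
  · intro x hx
    exact Subgroup.mem_map.mpr ⟨⟨x, hHP hx⟩, hHK (Subgroup.mem_subgroupOf.mpr hx), rfl⟩
  · rintro x ⟨y, -, rfl⟩
    exact y.2

theorem exists_prime_pow_action {G : Type*} [Group G] [Finite G] (Q : Subgroup G) (g : G)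
    (hgc : g ∉ Subgroup.centralizer (Q : Set G)) :
    ∃ (m r : ℕ), r.Prime ∧ g ^ m ∉ Subgroup.centralizer (Q : Set G) ∧
      (g ^ m) ^ r ∈ Subgroup.centralizer (Q : Set G) := by
  classical
  have hex : ∃ n : ℕ, 0 < n ∧ g ^ n ∈ Subgroup.centralizer (Q : Set G) :=
    ⟨orderOf g, orderOf_pos g, by rw [pow_orderOf_eq_one]; exact Subgroup.one_mem _⟩
  obtain ⟨n, hn⟩ : ∃ n, n = Nat.find hex := ⟨_, rfl⟩
  obtain ⟨hnpos, hnc⟩ : 0 < n ∧ g ^ n ∈ Subgroup.centralizer (Q : Set G) := by
    rw [hn]; exact Nat.find_spec hex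
  have hmin : ∀ m : ℕ, m < n → 0 < m → g ^ m ∉ Subgroup.centralizer (Q : Set G) := by
    intro m hm hm0 hmc
    exact Nat.find_min hex (hn ▸ hm) ⟨hm0, hmc⟩
  have hn1 : n ≠ 1 := by
    intro h1
    rw [h1, pow_one] at hnc
    exact hgc hnc
  have hr : (n.minFac).Prime := Nat.minFac_prime hn1
  obtain ⟨m, hm⟩ := Nat.minFac_dvd n
  obtain ⟨r, hrdef⟩ : ∃ r, r = n.minFac := ⟨_, rfl⟩
  rw [← hrdef] at hm hr
  have hm0 : 0 < m := by
    rcases Nat.eq_zero_or_pos m with h | h
    · rw [h, mul_zero] at hm; omega
    · exact h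
  have hmn : m < n := by
    have := hr.two_le
    nlinarith
  refine ⟨m, r, hr, hmin m hmn hm0, ?_⟩
  rw [← pow_mul, Nat.mul_comm m r, ← hm]; exact hnc

/-- An odd-order element normalizing a cyclic 2-subgroup centralizes its generator. -/
theorem comm_of_norm_zpowers {X : Type*} [Group X] [Finite X] (g t : X) (m : ℕ)
    (hg : Odd (orderOf g)) (ht : orderOf t = 2 ^ m)
    (hN : g ∈ Subgroup.normalizer ((Subgroup.zpowers t : Subgroup X) : Set X)) :
    g * t = t * g := by
  refine Cfsg.Agent.Helper8.cyc_aut_trivial t g m (orderOf g) ht ?_ hg ?_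
  · exact (Subgroup.mem_normalizer_iff.mp hN t).mp (Subgroup.mem_zpowers t)
  · rw [pow_orderOf_eq_one, one_mul, mul_one]

theorem mem_normalizer_iff_map {X : Type*} [Group X] (K : Subgroup X) (a : X) :
    a ∈ Subgroup.normalizer (K : Set X) ↔ K.map (MulAut.conj a).toMonoidHom = K := by
  constructor
  · intro h
    ext x
    constructor
    · rintro ⟨z, hz, rfl⟩
      exact (Subgroup.mem_normalizer_iff.mp h z).mp hz
    · intro hx
      refine Subgroup.mem_map.mpr ⟨a⁻¹ * x * a, ?_, ?_⟩
      · rw [Subgroup.mem_normalizer_iff.mp h (a⁻¹ * x * a)]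
        have : a * (a⁻¹ * x * a) * a⁻¹ = x := by group
        rw [this]; exact hx
      · show a * (a⁻¹ * x * a) * a⁻¹ = x
        group
  · intro h
    rw [Subgroup.mem_normalizer_iff]
    intro z
    constructor
    · intro hz
      rw [← h]
      exact Subgroup.mem_map.mpr ⟨z, hz, rfl⟩
    · intro hz
      rw [← h] at hz
      obtain ⟨w, hw, hwz⟩ := Subgroup.mem_map.mp hz
      have : w = z := by
        have h1 : a * w * a⁻¹ = a * z * a⁻¹ := hwz
        simpa using h1
      rw [← this]; exact hw

theorem norm_sup {X : Type*} [Group X] (E E' : Subgroup X) (a : X)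
    (h1 : a ∈ Subgroup.normalizer (E : Set X)) (h2 : a ∈ Subgroup.normalizer (E' : Set X)) :
    a ∈ Subgroup.normalizer ((E ⊔ E' : Subgroup X) : Set X) := by
  rw [mem_normalizer_iff_map] at h1 h2 ⊢
  rw [Subgroup.map_sup, h1, h2]

theorem key {X : Type*} [Group X] [Finite X] (A : Subgroup X) (hA : Odd (Nat.card A)) :
    ∀ n : ℕ, ∀ P : Subgroup X, Nat.card P = 2 ^ n → A ≤ Subgroup.normalizer (P : Set X) →
      ∀ d : ℕ, 1 ≤ d → d < n →
      (∀ E : Subgroup X, E ≤ P → (Nat.card E = 2 ^ d ∨ (d = 1 ∧ Nat.card E = 4)) →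
        A ≤ Subgroup.normalizer (E : Set X)) →
      A ≤ Subgroup.centralizer (P : Set X) := by
  haveI : Fact (Nat.Prime 2) := ⟨Nat.prime_two⟩
  have hodd : ∀ g ∈ A, Odd (orderOf g) := fun g hg =>
    Odd.of_dvd_nat hA (Subgroup.orderOf_dvd_natCard A hg)
  intro n
  induction n using Nat.strong_induction_on with
  | _ n ih =>
    intro P hPn hAP d hd1 hdn hinv
    rcases Nat.lt_or_ge (d + 1) n with hlt | hge
    · -- case d + 1 < n
      have hfix : ∀ g ∈ A, ∀ t ∈ P, t ^ 4 = 1 → g * t = t * g := by
        intro g hg t ht ht4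
        obtain ⟨j, hj2, hj⟩ : ∃ j ≤ 2, orderOf t = 2 ^ j := by
          have h1 : orderOf t ∣ 2 ^ 2 := by
            rw [orderOf_dvd_iff_pow_eq_one]; norm_num; exact ht4
          exact (Nat.dvd_prime_pow Nat.prime_two).mp h1
        have hTP : Subgroup.zpowers t ≤ P := (Subgroup.zpowers_le).mpr ht
        have hTc : Nat.card (Subgroup.zpowers t) = 2 ^ j := by rw [Nat.card_zpowers]; exact hj
        rcases Nat.lt_or_ge d 2 with hd2 | hd2
        · -- d = 1
          have hd : d = 1 := by omega
          have hcase : Nat.card (Subgroup.zpowers t) = 2 ^ d ∨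
              (d = 1 ∧ Nat.card (Subgroup.zpowers t) = 4) ∨ t = 1 := by
            interval_cases j
            · right; right
              rw [pow_zero, orderOf_eq_one_iff] at hj; exact hj
            · left; rw [hTc, hd]
            · right; left; exact ⟨hd, by rw [hTc]; norm_num⟩
          rcases hcase with h | h | h
          · exact comm_of_norm_zpowers g t j (hodd g hg) hj (hinv _ hTP (Or.inl h) hg)
          · exact comm_of_norm_zpowers g t j (hodd g hg) hj (hinv _ hTP (Or.inr h) hg)
          · rw [h, mul_one, one_mul]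
        · -- d ≥ 2
          obtain ⟨E, hEc, hTE, hEP⟩ :=
            exists_between P (Subgroup.zpowers t) n d j hPn hTc hTP (by omega) (by omega)
          obtain ⟨S, hSc, hES, hSP⟩ :=
            exists_between P E n (d + 1) d hPn hEc hEP (by omega) (by omega)
          have htE : t ∈ E := hTE (Subgroup.mem_zpowers t)
          have htS : t ∈ S := hES htE
          by_cases hex : ∃ E' : Subgroup X, E' ≤ S ∧ Nat.card E' = 2 ^ d ∧ E' ≠ E
          · obtain ⟨E', hE'S, hE'c, hne⟩ := hex
            have hsup : E ⊔ E' = S := by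
              apply Subgroup.eq_of_le_of_card_ge (sup_le hES hE'S)
              have hdvd : Nat.card ↥(E ⊔ E') ∣ 2 ^ (d + 1) := by
                rw [← hSc]; exact Subgroup.card_dvd_of_le (sup_le hES hE'S)
              obtain ⟨i, hi, hic⟩ := (Nat.dvd_prime_pow Nat.prime_two).mp hdvd
              have hEle : Nat.card E ≤ Nat.card ↥(E ⊔ E') := Subgroup.card_le_of_le le_sup_left
              have hne' : Nat.card ↥(E ⊔ E') ≠ 2 ^ d := by
                intro hcon
                have h1 : E = E ⊔ E' :=
                  Subgroup.eq_of_le_of_card_ge le_sup_left (by rw [hcon, hEc])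
                have h2 : E' ≤ E := by rw [h1]; exact le_sup_right
                exact hne (Subgroup.eq_of_le_of_card_ge h2 (by rw [hE'c, hEc]))
              rw [hSc, hic]
              rw [hic, hEc] at hEle
              rw [hic] at hne'
              have hdi : d ≤ i := (Nat.pow_le_pow_iff_right (by norm_num)).mp hEle
              have hdi' : d ≠ i := fun h => hne' (by rw [h])
              exact Nat.pow_le_pow_right (by norm_num) (by omega)
            have hAS : A ≤ Subgroup.normalizer (S : Set X) := by
              intro a ha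
              have hE1 := hinv E hEP (Or.inl hEc) ha
              have hE2 := hinv E' (hE'S.trans hSP) (Or.inl hE'c) ha
              rw [← hsup]
              exact norm_sup E E' a hE1 hE2
            have hcS := ih (d + 1) hlt S hSc hAS d hd1 (Nat.lt_succ_self d)
              (fun E'' hE''S h => hinv E'' (hE''S.trans hSP) h)
            exact (Subgroup.mem_centralizer_iff.mp (hcS hg) t htS).symm
          · push Not at hex
            have hlt' : Nat.card E < Nat.card S := by
              rw [hEc, hSc]; exact Nat.pow_lt_pow_right (by norm_num) (Nat.lt_succ_self d)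
            obtain ⟨s, hsS, hsE⟩ : ∃ s ∈ S, s ∉ E := by
              by_contra hcon
              push Not at hcon
              have h1 : S ≤ E := fun x hx => hcon x hx
              have h2 := Subgroup.card_le_of_le h1
              omega
            have hzS : Subgroup.zpowers s ≤ S := (Subgroup.zpowers_le).mpr hsS
            have hzeq : Subgroup.zpowers s = S := by
              apply Subgroup.eq_of_le_of_card_ge hzS
              have hdvd : Nat.card ↥(Subgroup.zpowers s) ∣ 2 ^ (d + 1) := by
                rw [← hSc]; exact Subgroup.card_dvd_of_le hzS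
              obtain ⟨i, hi, hic⟩ := (Nat.dvd_prime_pow Nat.prime_two).mp hdvd
              rcases Nat.lt_or_ge i (d + 1) with hi' | hi'
              · exfalso
                obtain ⟨E'', hE''c, hzE'', hE''S⟩ :=
                  exists_between S (Subgroup.zpowers s) (d + 1) d i hSc hic hzS (by omega)
                    (by omega)
                have h1 : E'' = E := hex E'' hE''S hE''c
                exact hsE (h1 ▸ hzE'' (Subgroup.mem_zpowers s))
              · rw [hSc, hic]; exact Nat.pow_le_pow_right (by norm_num) hi'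
            have hEcyc : IsCyclic ↥E := by
              haveI : IsCyclic ↥S := by rw [← hzeq]; exact Subgroup.isCyclic_zpowers s
              exact isCyclic_of_surjective (Subgroup.subgroupOfEquivOfLe hES)
                (Subgroup.subgroupOfEquivOfLe hES).surjective
            obtain ⟨e, he⟩ := Cfsg.Agent.S3379.exists_zpowers_eq E hEcyc
            have heo : orderOf e = 2 ^ d := by rw [← Nat.card_zpowers, ← he]; exact hEc
            have hN : g ∈ Subgroup.normalizer ((Subgroup.zpowers e : Subgroup X) : Set X) := by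
              rw [← he]; exact hinv E hEP (Or.inl hEc) hg
            have hge : g * e = e * g := comm_of_norm_zpowers g e d (hodd g hg) heo hN
            rw [he] at htE
            obtain ⟨k, hk⟩ := Subgroup.mem_zpowers_iff.mp htE
            rw [← hk]
            exact (Commute.zpow_right (show Commute g e from hge) k).eq
      intro g hg
      rw [Subgroup.mem_centralizer_iff]
      intro h hh
      have hPG : IsPGroup 2 P := IsPGroup.of_card hPn
      have hk : (MulAut.conj g) ^ (orderOf g) = 1 := by
        rw [← map_pow, pow_orderOf_eq_one, map_one]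
      have hkp : Nat.Coprime (orderOf g) 2 := (Nat.coprime_two_left.mpr (hodd g hg)).symm
      have h1 := Cfsg.Agent.Helper8.aut_fix_of_fix_order_four (MulAut.conj g) (orderOf g) hk hkp
        _ P rfl hPG
        (fun x hx => by
          rw [MulAut.conj_apply]; exact (Subgroup.mem_normalizer_iff.mp (hAP hg) x).mp hx)
        (fun x hx hx4 => by rw [MulAut.conj_apply, hfix g hg x hx hx4, mul_inv_cancel_right])
        h hh
      rw [MulAut.conj_apply] at h1
      calc h * g = g * h * g⁻¹ * g := by rw [h1]
        _ = g * h := by group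
    · have hn : n = d + 1 := by omega
      by_contra hcon
      obtain ⟨g, hgA, hgC⟩ : ∃ g ∈ A, g ∉ Subgroup.centralizer (P : Set X) := by
        by_contra h
        push Not at h
        exact hcon h
      obtain ⟨m, r, hr, hyC, hyr⟩ := exists_prime_pow_action P g hgC
      obtain ⟨y, hy⟩ : ∃ y, y = g ^ m := ⟨_, rfl⟩
      rw [← hy] at hyC hyr
      have hyA : y ∈ A := by rw [hy]; exact Subgroup.pow_mem _ hgA m
      have hyodd := hodd y hyA
      have hr2 : r ≠ 2 := by
        intro h2
        rw [h2] at hyr
        obtain ⟨w, hw⟩ := hyodd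
        apply hyC
        have h3 : y = (y ^ 2) ^ (w + 1) := by
          rw [← pow_mul]
          have h4 : 2 * (w + 1) = orderOf y + 1 := by omega
          rw [h4, pow_succ, pow_orderOf_eq_one, one_mul]
        rw [h3]; exact Subgroup.pow_mem _ hyr _
      haveI : Fact r.Prime := ⟨hr⟩
      have hyN : y ∈ Subgroup.normalizer (P : Set X) := hAP hyA
      obtain ⟨F, hF⟩ : ∃ F : Subgroup X, F = Subgroup.centralizer ({y} : Set X) ⊓ P := ⟨_, rfl⟩
      have hFP : F ≤ P := by rw [hF]; exact inf_le_right
      have hFne : F ≠ P := by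
        intro h
        apply hyC
        rw [Subgroup.mem_centralizer_iff]
        intro x hx
        have hx' : x ∈ Subgroup.centralizer ({y} : Set X) := by
          have h1 : x ∈ F := by rw [h]; exact hx
          rw [hF] at h1; exact h1.1
        exact (Subgroup.mem_centralizer_iff.mp hx' y (Set.mem_singleton y)).symm
      obtain ⟨f, hfn, hfc⟩ : ∃ f, f < n ∧ Nat.card F = 2 ^ f := by
        have hdvd : Nat.card F ∣ 2 ^ n := by rw [← hPn]; exact Subgroup.card_dvd_of_le hFP
        obtain ⟨f, hf, hfc⟩ := (Nat.dvd_prime_pow Nat.prime_two).mp hdvd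
        refine ⟨f, ?_, hfc⟩
        by_contra hcon2
        have h1 : f = n := by omega
        exact hFne (Subgroup.eq_of_le_of_card_ge hFP (by rw [hfc, hPn, h1]))
      obtain ⟨M, hMc, hFM, hMP⟩ := exists_between P F n d f hPn hfc hFP (by omega) (by omega)
      have hyNM : y ∈ Subgroup.normalizer (M : Set X) := hinv M hMP (Or.inl hMc) hyA
      have hyrM : y ^ r ∈ Subgroup.centralizer (M : Set X) :=
        Subgroup.centralizer_le (SetLike.coe_subset_coe.mpr hMP) hyr
      have h1 := Cfsg.Agent.S0499.card_fix_modEq P y hyN r hyr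
      have h2 := Cfsg.Agent.S0499.card_fix_modEq M y hyNM r hyrM
      have e1 : Nat.card ((Subgroup.centralizer ({y} : Set X)).subgroupOf P) = Nat.card F := by
        rw [← Subgroup.inf_subgroupOf_right, ← hF]
        exact Nat.card_congr (Subgroup.subgroupOfEquivOfLe hFP).toEquiv
      have e2 : Nat.card ((Subgroup.centralizer ({y} : Set X)).subgroupOf M) = Nat.card F := by
        have hF' : F = Subgroup.centralizer ({y} : Set X) ⊓ M := by
          apply le_antisymm
          · exact le_inf (by rw [hF]; exact inf_le_left) hFM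
          · rw [hF]; exact inf_le_inf_left _ hMP
        rw [← Subgroup.inf_subgroupOf_right, ← hF']
        exact Nat.card_congr (Subgroup.subgroupOfEquivOfLe hFM).toEquiv
      rw [e1, hPn] at h1
      rw [e2, hMc] at h2
      have h3 : 2 ^ d ≡ 2 ^ n [MOD r] := h2.trans h1.symm
      have h4 : r ∣ 2 ^ n - 2 ^ d :=
        (Nat.modEq_iff_dvd' (Nat.pow_le_pow_right (by norm_num) (by omega))).mp h3
      have h5 : 2 ^ n - 2 ^ d = 2 ^ d := by rw [hn, pow_succ]; omega
      rw [h5] at h4
      have h6 : r ∣ 2 := hr.dvd_of_dvd_pow h4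
      exact hr2 ((Nat.prime_dvd_prime_iff_eq hr Nat.prime_two).mp h6)

/-- Let P be a 2-subgroup and A a subgroup of odd order of a finite group, with A normalizing P. Let D ≤ P with 1 < |D| < |P|. If every subgroup of P of order |D|, and also every subgroup of P of order 4 in case |D| = 2, is normalized by A, then A centralizes P. -/
theorem result {X : Type*} [Group X] [Finite X] (P A D : Subgroup X) (hP : IsPGroup 2 P) (hA : Odd (Nat.card A))
    (hAP : A ≤ Subgroup.normalizer (P : Set X)) (hDP : D ≤ P) (hD1 : 1 < Nat.card D) (hD2 : Nat.card D < Nat.card P)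
    (hinv : ∀ E : Subgroup X, E ≤ P → (Nat.card E = Nat.card D ∨ (Nat.card D = 2 ∧ Nat.card E = 4)) → A ≤ Subgroup.normalizer (E : Set X)) :
    A ≤ Subgroup.centralizer (P : Set X) := by
  haveI : Fact (Nat.Prime 2) := ⟨Nat.prime_two⟩
  obtain ⟨n, hn⟩ := IsPGroup.iff_card.mp hP
  have hDdvd : Nat.card D ∣ 2 ^ n := by rw [← hn]; exact Subgroup.card_dvd_of_le hDP
  obtain ⟨d, hdn, hd⟩ := (Nat.dvd_prime_pow Nat.prime_two).mp hDdvd
  have hd1 : 1 ≤ d := by
    by_contra h
    have h0 : d = 0 := by omega
    rw [hd, h0] at hD1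
    norm_num at hD1
  have hdn' : d < n := by
    by_contra h
    have h0 : d = n := by omega
    rw [hd, hn, h0] at hD2
    exact lt_irrefl _ hD2
  apply key A hA n P hn hAP d hd1 hdn'
  intro E hEP hE
  apply hinv E hEP
  rcases hE with h | ⟨h1, h2⟩
  · left; rw [h, hd]
  · right; exact ⟨by rw [hd, h1]; norm_num, h2⟩

end Cfsg.Agent.S3803
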