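import Mathlib
import Cfsg.Statements.S4584

set_option autoImplicit false
open Cfsg

namespace Cfsg.Agent.S4584

/-- Formula `[S : Z(S)] = p * |S'|` for a non-abelian group with an abelian normal subgroup of
prime index. -/
theorem index_center {S : Type*} [Group S] [Finite S] (p : ℕ) (hp : p.Prime)
    (hna : ∃ a b : S, a * b ≠ b * a) (A : Subgroup S) (hAn : A.Normal)
    (hA : ∀ a ∈ A, ∀ b ∈ A, a * b = b * a) (hAi : A.index = p) :
    (Subgroup.center S).index = p * Nat.card (commutator S) := by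
  haveI := hAn
  have hdec : ∀ y : S, y ∉ A → ∀ g : S, ∃ a ∈ A, ∃ i : ℤ, g = a * y ^ i := by
    intro y hy g
    have htop : A ⊔ Subgroup.zpowers y = ⊤ := by
      have h1 : (A ⊔ Subgroup.zpowers y).index ∣ A.index := Subgroup.index_dvd_of_le le_sup_left
      rw [hAi] at h1
      rcases (Nat.dvd_prime hp).1 h1 with h | h
      · exact Subgroup.index_eq_one.1 h
      · exfalso
        apply hy
        have hcard : Nat.card ↥(A ⊔ Subgroup.zpowers y) ≤ Nat.card ↥A := by
          have e1 := Subgroup.card_mul_index A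
          have e2 := Subgroup.card_mul_index (A ⊔ Subgroup.zpowers y)
          rw [hAi] at e1
          rw [h] at e2
          have : Nat.card ↥(A ⊔ Subgroup.zpowers y) * p = Nat.card ↥A * p := by rw [e1, e2]
          exact le_of_eq (Nat.eq_of_mul_eq_mul_right hp.pos this)
        have heq : A = A ⊔ Subgroup.zpowers y := Subgroup.eq_of_le_of_card_ge le_sup_left hcard
        rw [heq]
        exact Subgroup.mem_sup_right (Subgroup.mem_zpowers y)
    have hg : g ∈ A ⊔ Subgroup.zpowers y := by rw [htop]; exact Subgroup.mem_top g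
    obtain ⟨a, ha, z, hz, rfl⟩ := Subgroup.mem_sup_of_normal_left.1 hg
    obtain ⟨i, rfl⟩ := Subgroup.mem_zpowers_iff.1 hz
    exact ⟨a, ha, i, rfl⟩
  have hZA : Subgroup.center S ≤ A := by
    intro z hz
    by_contra hzA
    obtain ⟨a, b, hab⟩ := hna
    apply hab
    obtain ⟨a₁, ha₁, i, rfl⟩ := hdec z hzA a
    obtain ⟨b₁, hb₁, j, rfl⟩ := hdec z hzA b
    have hzc : ∀ g : S, Commute z g := fun g => (Subgroup.mem_center_iff.1 hz g).symm
    have h1 : Commute a₁ b₁ := hA a₁ ha₁ b₁ hb₁
    have h2 : Commute (a₁ * z ^ i) (b₁ * z ^ j) := by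
      apply Commute.mul_left
      · exact Commute.mul_right h1 ((hzc a₁).symm.zpow_right j)
      · exact Commute.mul_right ((hzc b₁).zpow_left i) ((Commute.refl z).zpow_zpow i j)
    exact h2.eq
  obtain ⟨x, hx⟩ : ∃ x, x ∉ A := by
    by_contra h
    push_neg at h
    have : A = ⊤ := (Subgroup.eq_top_iff' _).2 h
    rw [this, Subgroup.index_top] at hAi
    exact hp.one_lt.ne hAi
  have hcomm_mem : ∀ a ∈ A, a * x * a⁻¹ * x⁻¹ ∈ A := by
    intro a ha
    have h1 : x * a⁻¹ * x⁻¹ ∈ A := hAn.conj_mem _ (A.inv_mem ha) x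
    have : a * x * a⁻¹ * x⁻¹ = a * (x * a⁻¹ * x⁻¹) := by group
    rw [this]; exact A.mul_mem ha h1
  let θ : ↥A →* S :=
    { toFun := fun a => (a : S) * x * (a : S)⁻¹ * x⁻¹
      map_one' := by simp
      map_mul' := by
        intro a b
        show ((a * b : ↥A) : S) * x * ((a * b : ↥A) : S)⁻¹ * x⁻¹
          = ((a : S) * x * (a : S)⁻¹ * x⁻¹) * ((b : S) * x * (b : S)⁻¹ * x⁻¹)
        rw [Subgroup.coe_mul]
        have h1 := hA _ a.2 _ (hcomm_mem b b.2)
        have h2 := hA _ (hcomm_mem b b.2) _ (hcomm_mem a a.2)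
        calc (a : S) * (b : S) * x * ((a : S) * (b : S))⁻¹ * x⁻¹
            = ((a : S) * ((b : S) * x * (b : S)⁻¹ * x⁻¹)) * (a : S)⁻¹
                * ((a : S) * x * (a : S)⁻¹ * x⁻¹) := by group
          _ = (((b : S) * x * (b : S)⁻¹ * x⁻¹) * (a : S)) * (a : S)⁻¹
                * ((a : S) * x * (a : S)⁻¹ * x⁻¹) := by rw [h1]
          _ = ((b : S) * x * (b : S)⁻¹ * x⁻¹) * ((a : S) * x * (a : S)⁻¹ * x⁻¹) := by group
          _ = _ := h2 }
  have hθ : ∀ a : ↥A, θ a = (a : S) * x * (a : S)⁻¹ * x⁻¹ := fun a => rfl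
  have hker : θ.ker = (Subgroup.center S).subgroupOf A := by
    ext a
    rw [MonoidHom.mem_ker, hθ, Subgroup.mem_subgroupOf, Subgroup.mem_center_iff]
    constructor
    · intro h g
      have hax : (a : S) * x = x * (a : S) := by
        have := mul_inv_eq_one.1 h
        calc (a : S) * x = (a : S) * x * (a : S)⁻¹ * (a : S) := by group
          _ = x * (a : S) := by rw [this]
      obtain ⟨b, hb, i, rfl⟩ := hdec x hx g
      have h1 : Commute (a : S) b := hA _ a.2 _ hb
      exact (Commute.mul_right h1 ((show Commute (a : S) x from hax).zpow_right i)).eq.symm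
    · intro h
      have := h x
      calc (a : S) * x * (a : S)⁻¹ * x⁻¹ = (x * (a : S)) * (a : S)⁻¹ * x⁻¹ := by rw [this]
        _ = 1 := by group
  have hrange_le : θ.range ≤ commutator S := by
    rintro _ ⟨a, rfl⟩
    rw [commutator_def]
    exact Subgroup.commutator_mem_commutator (Subgroup.mem_top (a : S)) (Subgroup.mem_top x)
  have hIn : θ.range.Normal := by
    constructor
    rintro _ ⟨a, rfl⟩ g
    have ha'' : g * (a : S) * g⁻¹ ∈ A := hAn.conj_mem _ a.2 g
    have hc : g * x * g⁻¹ * x⁻¹ ∈ A := by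
      obtain ⟨a', ha', i, rfl⟩ := hdec x hx g
      have : a' * x ^ i * x * (a' * x ^ i)⁻¹ * x⁻¹ = a' * x * a'⁻¹ * x⁻¹ := by group
      rw [this]; exact hcomm_mem a' ha'
    refine ⟨⟨g * (a : S) * g⁻¹, ha''⟩, ?_⟩
    rw [hθ, hθ]
    show (g * (a : S) * g⁻¹) * x * (g * (a : S) * g⁻¹)⁻¹ * x⁻¹
      = g * ((a : S) * x * (a : S)⁻¹ * x⁻¹) * g⁻¹
    have h1 : (g * (a : S) * g⁻¹) * (g * x * g⁻¹ * x⁻¹) = (g * x * g⁻¹ * x⁻¹) * (g * (a : S) * g⁻¹) :=
      hA _ ha'' _ hc
    have h2 : (g * x * g⁻¹ * x⁻¹) * ((g * (a : S) * g⁻¹) * x * (g * (a : S) * g⁻¹)⁻¹ * x⁻¹)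
        = ((g * (a : S) * g⁻¹) * x * (g * (a : S) * g⁻¹)⁻¹ * x⁻¹) * (g * x * g⁻¹ * x⁻¹) :=
      hA _ hc _ (hcomm_mem _ ha'')
    calc (g * (a : S) * g⁻¹) * x * (g * (a : S) * g⁻¹)⁻¹ * x⁻¹
        = ((g * (a : S) * g⁻¹) * x * (g * (a : S) * g⁻¹)⁻¹ * x⁻¹) * (g * x * g⁻¹ * x⁻¹)
            * (g * x * g⁻¹ * x⁻¹)⁻¹ := by group
      _ = (g * x * g⁻¹ * x⁻¹) * ((g * (a : S) * g⁻¹) * x * (g * (a : S) * g⁻¹)⁻¹ * x⁻¹)
            * (g * x * g⁻¹ * x⁻¹)⁻¹ := by rw [h2]
      _ = ((g * x * g⁻¹ * x⁻¹) * (g * (a : S) * g⁻¹)) * x * (g * (a : S) * g⁻¹)⁻¹ * x⁻¹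
            * (g * x * g⁻¹ * x⁻¹)⁻¹ := by group
      _ = ((g * (a : S) * g⁻¹) * (g * x * g⁻¹ * x⁻¹)) * x * (g * (a : S) * g⁻¹)⁻¹ * x⁻¹
            * (g * x * g⁻¹ * x⁻¹)⁻¹ := by rw [h1]
      _ = g * ((a : S) * x * (a : S)⁻¹ * x⁻¹) * g⁻¹ := by group
  have hle : commutator S ≤ θ.range := by
    rw [commutator_def, Subgroup.commutator_le]
    intro g _ h _
    obtain ⟨π, hπ⟩ : ∃ π : S →* S ⧸ θ.range, π = QuotientGroup.mk' θ.range := ⟨_, rfl⟩
    have hπab : ∀ a ∈ A, ∀ b ∈ A, Commute (π a) (π b) := fun a ha b hb =>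
      (show Commute a b from hA a ha b hb).map π
    have hπax : ∀ a ∈ A, Commute (π a) (π x) := by
      intro a ha
      have h1 : π (a * x * a⁻¹ * x⁻¹) = 1 := by
        rw [hπ]
        exact (QuotientGroup.eq_one_iff _).2 ⟨⟨a, ha⟩, rfl⟩
      simp only [map_mul, map_inv] at h1
      have h2 := mul_inv_eq_one.1 h1
      exact mul_inv_eq_iff_eq_mul.1 h2
    have hcomm : π g * π h = π h * π g := by
      obtain ⟨a, ha, i, rfl⟩ := hdec x hx g
      obtain ⟨b, hb, j, rfl⟩ := hdec x hx h
      rw [map_mul, map_mul, map_zpow, map_zpow]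
      exact (Commute.mul_left (Commute.mul_right (hπab a ha b hb) ((hπax a ha).zpow_right j))
        (Commute.mul_right ((hπax b hb).symm.zpow_left i)
          ((Commute.refl (π x)).zpow_zpow i j))).eq
    have key : π (g * h * g⁻¹ * h⁻¹) = 1 := by
      simp only [map_mul, map_inv]
      rw [hcomm]
      group
    rw [hπ] at key
    exact (QuotientGroup.eq_one_iff (g * h * g⁻¹ * h⁻¹)).1 key
  have hrange : θ.range = commutator S := le_antisymm hrange_le hle
  have h1 : θ.ker.index = Nat.card θ.range := Subgroup.index_ker θ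
  have h2 : (Subgroup.center S).relIndex A * A.index = (Subgroup.center S).index :=
    Subgroup.relIndex_mul_index hZA
  have h3 : (Subgroup.center S).relIndex A = θ.ker.index := by rw [hker]; rfl
  rw [← h2, h3, h1, hrange, hAi, mul_comm]

theorem card_lt {P : Type*} [Group P] [Finite P] (p n : ℕ) (hp : p.Prime)
    (hP : Nat.card P = p ^ n) (H K : Subgroup P) (hle : H ≤ K) (hne : H ≠ K) :
    p * Nat.card H ≤ Nat.card K := by
  obtain ⟨t, ht⟩ := Subgroup.card_dvd_of_le hle
  have ht1 : t ≠ 1 := by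
    rintro rfl
    apply hne
    exact Subgroup.eq_of_le_of_card_ge hle (by rw [ht, mul_one])
  have htdvd : t ∣ p ^ n := by
    rw [← hP]
    exact Dvd.dvd.trans ⟨Nat.card H, by rw [ht, mul_comm]⟩ (Subgroup.card_subgroup_dvd_card K)
  obtain ⟨m, -, rfl⟩ := (Nat.dvd_prime_pow hp).1 htdvd
  have hm : m ≠ 0 := by rintro rfl; exact ht1 (pow_zero p)
  have hpt : p ≤ p ^ m := by
    calc p = p ^ 1 := (pow_one p).symm
      _ ≤ p ^ m := Nat.pow_le_pow_right hp.pos (Nat.one_le_iff_ne_zero.2 hm)
  rw [ht, mul_comm]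
  exact Nat.mul_le_mul_left _ hpt

theorem cent_comm {P : Type*} [Group P] [Finite P] (p : ℕ) (hp : p.Prime)
    (hP : Nat.card P = p ^ 4) (a : P) (ha : a ∉ Subgroup.center P)
    (hCi : (Subgroup.centralizer ({a} : Set P)).index = p) :
    ∀ g ∈ Subgroup.centralizer ({a} : Set P), ∀ h ∈ Subgroup.centralizer ({a} : Set P),
      g * h = h * g := by
  obtain ⟨C, hC⟩ : ∃ C : Subgroup P, C = Subgroup.centralizer ({a} : Set P) := ⟨_, rfl⟩
  obtain ⟨Z, hZ⟩ : ∃ Z : Subgroup P, Z = Subgroup.center P := ⟨_, rfl⟩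
  rw [← hC] at hCi ⊢
  rw [← hZ] at ha
  have hCmem : ∀ g, g ∈ C ↔ g * a = a * g := fun g => by
    rw [hC]; exact Subgroup.mem_centralizer_singleton_iff
  have hCcard : Nat.card C = p ^ 3 := by
    have := Subgroup.card_mul_index C
    rw [hCi, hP] at this
    have h' : Nat.card C * p = p ^ 3 * p := by rw [this]; ring
    exact Nat.eq_of_mul_eq_mul_right hp.pos h'
  have hZC : Z ≤ C := by rw [hZ, hC]; exact Subgroup.center_le_centralizer _
  have haC : a ∈ C := (hCmem a).2 rfl
  have hZ1 : p ≤ Nat.card Z := by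
    haveI : Fact p.Prime := ⟨hp⟩
    have hpg : IsPGroup p P := IsPGroup.of_card hP
    haveI : Nontrivial P := by
      rw [← Finite.one_lt_card_iff_nontrivial, hP]
      exact Nat.one_lt_pow (by norm_num) hp.one_lt
    have hnt := hpg.center_nontrivial
    have hne : (⊥ : Subgroup P) ≠ Z := by
      rw [hZ]
      exact ((Subgroup.nontrivial_iff_ne_bot _).1 hnt).symm
    have := card_lt p 4 hp hP ⊥ Z bot_le hne
    simpa using this
  obtain ⟨N, hN⟩ : ∃ N : Subgroup P, N = Z ⊔ Subgroup.zpowers a := ⟨_, rfl⟩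
  have hNC : N ≤ C := by rw [hN]; exact sup_le hZC ((Subgroup.zpowers_le).2 haC)
  have hZN : Z ≠ N := by
    intro h
    apply ha
    rw [h, hN]; exact Subgroup.mem_sup_right (Subgroup.mem_zpowers a)
  have hN2 : p ^ 2 ≤ Nat.card N := by
    have := card_lt p 4 hp hP Z N (by rw [hN]; exact le_sup_left) hZN
    calc p ^ 2 = p * p := pow_two p
      _ ≤ p * Nat.card Z := Nat.mul_le_mul_left _ hZ1
      _ ≤ Nat.card N := this
  have hNcomm : ∀ n ∈ N, ∀ h ∈ C, n * h = h * n := by
    intro n hn h hh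
    haveI : Z.Normal := by rw [hZ]; infer_instance
    rw [hN] at hn
    obtain ⟨z, hz, w, hw, rfl⟩ := Subgroup.mem_sup_of_normal_left.1 hn
    obtain ⟨i, rfl⟩ := Subgroup.mem_zpowers_iff.1 hw
    rw [hZ] at hz
    have h1 : Commute z h := (Subgroup.mem_center_iff.1 hz h).symm
    have h2 : Commute a h := ((hCmem h).1 hh).symm
    exact (Commute.mul_left h1 (h2.zpow_left i)).eq
  intro g hg h hh
  by_cases hgN : g ∈ N
  · exact hNcomm g hgN h hh
  · obtain ⟨M, hM⟩ : ∃ M : Subgroup P, M = N ⊔ Subgroup.zpowers g := ⟨_, rfl⟩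
    have hMC : M ≤ C := by rw [hM]; exact sup_le hNC ((Subgroup.zpowers_le).2 hg)
    have hNM : N ≠ M := by
      intro h'
      apply hgN
      rw [h', hM]; exact Subgroup.mem_sup_right (Subgroup.mem_zpowers g)
    have hM3 : Nat.card C ≤ Nat.card M := by
      have := card_lt p 4 hp hP N M (by rw [hM]; exact le_sup_left) hNM
      rw [hCcard]
      calc p ^ 3 = p * p ^ 2 := by ring
        _ ≤ p * Nat.card N := Nat.mul_le_mul_left _ hN2
        _ ≤ Nat.card M := this
    have hMeq : M = C := Subgroup.eq_of_le_of_card_ge hMC hM3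
    have hhM : h ∈ M := by rw [hMeq]; exact hh
    have hMle : M ≤ Subgroup.centralizer ({g} : Set P) := by
      rw [hM]
      apply sup_le
      · intro n hn
        exact Subgroup.mem_centralizer_singleton_iff.2 (hNcomm n hn g hg)
      · rw [Subgroup.zpowers_le]
        exact Subgroup.mem_centralizer_singleton_iff.2 rfl
    have := Subgroup.mem_centralizer_singleton_iff.1 (hMle hhM)
    exact this.symm

theorem index_le {P : Type*} [Group P] [Finite P] (a : P) :
    (Subgroup.centralizer ({a} : Set P)).index ≤ Nat.card (commutator P) := by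
  obtain ⟨C, hC⟩ : ∃ C : Subgroup P, C = Subgroup.centralizer ({a} : Set P) := ⟨_, rfl⟩
  rw [← hC]
  let F : P → ↥(commutator P) := fun g => ⟨g * a * g⁻¹ * a⁻¹, by
      rw [commutator_def]
      exact Subgroup.commutator_mem_commutator (Subgroup.mem_top g) (Subgroup.mem_top a)⟩
  have hF : ∀ g h : P, F g = F h → g⁻¹ * h ∈ C := by
    intro g h hgh
    have h1 : g * a * g⁻¹ * a⁻¹ = h * a * h⁻¹ * a⁻¹ := congrArg Subtype.val hgh
    have h2 : g * a * g⁻¹ = h * a * h⁻¹ := mul_right_cancel h1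
    rw [hC, Subgroup.mem_centralizer_singleton_iff]
    calc g⁻¹ * h * a = g⁻¹ * (h * a * h⁻¹) * h := by group
      _ = g⁻¹ * (g * a * g⁻¹) * h := by rw [h2]
      _ = a * (g⁻¹ * h) := by group
  have hinj : Function.Injective (fun q : P ⧸ C => F q.out) := by
    intro q₁ q₂ h
    have := hF _ _ h
    rw [← QuotientGroup.eq] at this
    rwa [QuotientGroup.out_eq', QuotientGroup.out_eq'] at this
  rw [Subgroup.index_eq_card]
  exact Nat.card_le_card_of_injective _ hinj

/-- Let p be a prime and P a group of order p^4. Then the derived subgroup P' has order p if and only if the centre Z(P) has index p^2 in P. -/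
theorem result {P : Type*} [Group P] [Finite P] (p : ℕ) [Fact p.Prime] (hP : Nat.card P = p ^ 4) :
    Nat.card (commutator P) = p ↔ (Subgroup.center P).index = p ^ 2 := by
  have hp : p.Prime := Fact.out
  have hne1 : ∀ a : P, a ∉ Subgroup.center P → (Subgroup.centralizer ({a} : Set P)).index ≠ 1 := by
    intro a ha h
    apply ha
    rw [Subgroup.index_eq_one] at h
    rw [Subgroup.mem_center_iff]
    intro g
    have : g ∈ Subgroup.centralizer ({a} : Set P) := by rw [h]; exact Subgroup.mem_top g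
    exact Subgroup.mem_centralizer_singleton_iff.1 this
  have key : ∀ a : P, a ∉ Subgroup.center P → (Subgroup.centralizer ({a} : Set P)).index = p →
      (Subgroup.center P).index = p * Nat.card (commutator P) := by
    intro a ha hCi
    have hcomm := cent_comm p hp hP a ha hCi
    have hCn : (Subgroup.centralizer ({a} : Set P)).Normal := by
      apply Subgroup.normal_of_index_eq_minFac_card
      rw [hCi, hP, Nat.pow_minFac (by norm_num), Nat.Prime.minFac_eq hp]
    have hna : ∃ x y : P, x * y ≠ y * x := by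
      by_contra h
      push_neg at h
      exact ha (Subgroup.mem_center_iff.2 (fun g => h g a))
    exact index_center p hp hna _ hCn hcomm hCi
  constructor
  · intro hc
    have hna : ∃ a : P, a ∉ Subgroup.center P := by
      by_contra h
      push_neg at h
      have hbot : commutator P = ⊥ := by
        rw [commutator_def, Subgroup.commutator_eq_bot_iff_le_centralizer]
        intro g _
        rw [Subgroup.mem_centralizer_iff]
        intro h' _
        exact (Subgroup.mem_center_iff.1 (h g) h')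
      rw [hbot, Subgroup.card_bot] at hc
      exact hp.one_lt.ne hc
    obtain ⟨a, ha⟩ := hna
    have hCi : (Subgroup.centralizer ({a} : Set P)).index = p := by
      have h1 := index_le a
      rw [hc] at h1
      have h2 : (Subgroup.centralizer ({a} : Set P)).index ∣ p ^ 4 := by
        rw [← hP]; exact Subgroup.index_dvd_card _
      obtain ⟨m, -, hm⟩ := (Nat.dvd_prime_pow hp).1 h2
      have hn1 := hne1 a ha
      rw [hm] at h1 hn1 ⊢
      rcases m with _ | _ | m
      · exact absurd (pow_zero p) hn1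
      · exact pow_one p
      · exfalso
        have : p ^ 2 ≤ p ^ (m + 1 + 1) := Nat.pow_le_pow_right hp.pos (by omega)
        have h3 : p < p ^ 2 := by
          calc p = p ^ 1 := (pow_one p).symm
            _ < p ^ 2 := Nat.pow_lt_pow_right hp.one_lt (by norm_num)
        omega
    rw [key a ha hCi, hc, pow_two]
  · intro hz
    have hna : ∃ a : P, a ∉ Subgroup.center P := by
      by_contra h
      push_neg at h
      have : Subgroup.center P = ⊤ := (Subgroup.eq_top_iff' _).2 h
      rw [this, Subgroup.index_top] at hz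
      have : 1 < p ^ 2 := Nat.one_lt_pow (by norm_num) hp.one_lt
      omega
    obtain ⟨a, ha⟩ := hna
    have hZC : Subgroup.center P ≤ Subgroup.centralizer ({a} : Set P) :=
      Subgroup.center_le_centralizer _
    have hCi : (Subgroup.centralizer ({a} : Set P)).index = p := by
      have h1 := Subgroup.relIndex_mul_index hZC
      rw [hz] at h1
      have h2 : (Subgroup.centralizer ({a} : Set P)).index ∣ p ^ 2 := ⟨_, by rw [← h1, mul_comm]⟩
      obtain ⟨m, hm2, hm⟩ := (Nat.dvd_prime_pow hp).1 h2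
      have hn1 := hne1 a ha
      have hm2' : m ≠ 2 := by
        rintro rfl
        rw [hm] at h1
        have h3 : (Subgroup.center P).relIndex (Subgroup.centralizer ({a} : Set P)) = 1 := by
          have hpos : 0 < p ^ 2 := pow_pos hp.pos 2
          exact Nat.eq_of_mul_eq_mul_right hpos (by rw [h1, one_mul])
        rw [Subgroup.relIndex_eq_one] at h3
        exact ha (h3 (Subgroup.mem_centralizer_singleton_iff.2 rfl))
      rw [hm] at hn1 ⊢
      interval_cases m
      · exact absurd (pow_zero p) hn1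
      · exact pow_one p
      · exact absurd rfl hm2'
    have hk := key a ha hCi
    rw [hz, pow_two] at hk
    exact (Nat.eq_of_mul_eq_mul_left hp.pos hk).symm

end Cfsg.Agent.S4584
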