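import Mathlib
import Cfsg.Agent.S4584
import Cfsg.Statements.S3807

set_option autoImplicit false
open Cfsg

namespace Cfsg.Agent.S3807

theorem card_ne_one {H : Type*} [Group H] [Finite H] :
    Nat.card {h : H // h ≠ 1} = Nat.card H - 1 := by
  classical
  haveI := Fintype.ofFinite H
  show Nat.card {h : H // ¬ (h = 1)} = Nat.card H - 1
  rw [Nat.card_eq_fintype_card, Nat.card_eq_fintype_card, Fintype.card_subtype_compl,
    Fintype.card_subtype_eq]

/-- The number of subgroups of index `p` in a group of order `p ^ 2` and exponent `p`. -/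
theorem count_sub {V : Type*} [Group V] [Finite V] (p : ℕ) (hp : p.Prime)
    (hV : Nat.card V = p ^ 2) (hexp : ∀ v : V, v ^ p = 1) :
    Nat.card {K : Subgroup V // K.index = p} = p + 1 := by
  classical
  haveI : Fact p.Prime := ⟨hp⟩
  have hKcard : ∀ K : Subgroup V, K.index = p → Nat.card K = p := by
    intro K hK
    have := Subgroup.card_mul_index K
    rw [hK, hV, pow_two] at this
    exact Nat.eq_of_mul_eq_mul_right hp.pos this
  have hzp : ∀ v : V, v ≠ 1 → Nat.card (Subgroup.zpowers v) = p := by
    intro v hv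
    rw [Nat.card_zpowers]
    exact orderOf_eq_prime (hexp v) hv
  have hzi : ∀ v : V, v ≠ 1 → (Subgroup.zpowers v).index = p := by
    intro v hv
    have := Subgroup.card_mul_index (Subgroup.zpowers v)
    rw [hzp v hv, hV, pow_two] at this
    exact Nat.eq_of_mul_eq_mul_left hp.pos this
  let e : (Σ K : {K : Subgroup V // K.index = p}, {v : V // v ∈ K.1 ∧ v ≠ 1}) ≃ {v : V // v ≠ 1} :=
    { toFun := fun x => ⟨x.2.1, x.2.2.2⟩
      invFun := fun v => ⟨⟨Subgroup.zpowers v.1, hzi v.1 v.2⟩,
        ⟨v.1, Subgroup.mem_zpowers v.1, v.2⟩⟩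
      left_inv := by
        rintro ⟨⟨K, hK⟩, ⟨v, hvK, hv1⟩⟩
        apply Sigma.subtype_ext
        · apply Subtype.ext
          show Subgroup.zpowers v = K
          exact Subgroup.eq_of_le_of_card_ge ((Subgroup.zpowers_le).2 hvK)
            (by rw [hzp v hv1, hKcard K hK])
        · rfl
      right_inv := fun v => rfl }
  have h1 := Nat.card_congr e
  haveI : Fintype {K : Subgroup V // K.index = p} := Fintype.ofFinite _
  rw [Nat.card_sigma, card_ne_one, hV] at h1
  have h2 : ∀ K : {K : Subgroup V // K.index = p},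
      Nat.card {v : V // v ∈ K.1 ∧ v ≠ 1} = p - 1 := by
    intro K
    let e' : {v : V // v ∈ K.1 ∧ v ≠ 1} ≃ {k : ↥K.1 // k ≠ 1} :=
      { toFun := fun v => ⟨⟨v.1, v.2.1⟩, fun h => v.2.2 (congrArg Subtype.val h)⟩
        invFun := fun k => ⟨k.1.1, k.1.2, fun h => k.2 (Subtype.ext h)⟩
        left_inv := fun v => rfl
        right_inv := fun k => rfl }
    rw [Nat.card_congr e', card_ne_one, hKcard K.1 K.2]
  simp only [h2, Finset.sum_const, Finset.card_univ, smul_eq_mul] at h1
  rw [← Nat.card_eq_fintype_card] at h1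
  obtain ⟨q, rfl⟩ : ∃ q, p = q + 2 := ⟨p - 2, by have := hp.two_le; omega⟩
  have e1 : q + 2 - 1 = q + 1 := by omega
  have e2 : (q + 2) ^ 2 - 1 = (q + 3) * (q + 1) := by
    have : (q + 2) ^ 2 = (q + 3) * (q + 1) + 1 := by ring
    omega
  rw [e1, e2] at h1
  exact Nat.eq_of_mul_eq_mul_right (by omega) h1

theorem center_le {S : Type*} [Group S] [Finite S] (p : ℕ) (hp : p.Prime)
    (hna : ∃ a b : S, a * b ≠ b * a) (B : Subgroup S)
    (hB : ∀ a ∈ B, ∀ b ∈ B, a * b = b * a) (hBi : B.index = p) : Subgroup.center S ≤ B := by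
  intro z hz
  by_contra hzB
  have htop : B ⊔ Subgroup.zpowers z = ⊤ := by
    have h1 : (B ⊔ Subgroup.zpowers z).index ∣ B.index := Subgroup.index_dvd_of_le le_sup_left
    rw [hBi] at h1
    rcases (Nat.dvd_prime hp).1 h1 with h | h
    · exact Subgroup.index_eq_one.1 h
    · exfalso
      apply hzB
      have e1 := Subgroup.card_mul_index B
      have e2 := Subgroup.card_mul_index (B ⊔ Subgroup.zpowers z)
      rw [hBi] at e1
      rw [h] at e2
      have : Nat.card ↥(B ⊔ Subgroup.zpowers z) * p = Nat.card ↥B * p := by rw [e1, e2]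
      have heq : B = B ⊔ Subgroup.zpowers z := Subgroup.eq_of_le_of_card_ge le_sup_left
        (le_of_eq (Nat.eq_of_mul_eq_mul_right hp.pos this))
      rw [heq]
      exact Subgroup.mem_sup_right (Subgroup.mem_zpowers z)
  have hBZ : B ≤ Subgroup.center S := by
    intro b hb
    have hle : B ⊔ Subgroup.zpowers z ≤ Subgroup.centralizer ({b} : Set S) := by
      apply sup_le
      · intro a ha
        exact Subgroup.mem_centralizer_singleton_iff.2 (hB a ha b hb)
      · rw [Subgroup.zpowers_le]
        exact Subgroup.mem_centralizer_singleton_iff.2 ((Subgroup.mem_center_iff.1 hz b).symm)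
    rw [htop] at hle
    rw [Subgroup.mem_center_iff]
    intro g
    exact Subgroup.mem_centralizer_singleton_iff.1 (hle (Subgroup.mem_top g))
  have hZtop : Subgroup.center S = ⊤ := by
    rw [eq_top_iff, ← htop]
    exact sup_le hBZ ((Subgroup.zpowers_le).2 hz)
  obtain ⟨a, b, hab⟩ := hna
  apply hab
  have : b ∈ Subgroup.center S := by rw [hZtop]; exact Subgroup.mem_top b
  exact Subgroup.mem_center_iff.1 this a

theorem comap_comm {S : Type*} [Group S] [Finite S] (p : ℕ) (hp : p.Prime)
    (hV : Nat.card (S ⧸ Subgroup.center S) = p ^ 2) (K : Subgroup (S ⧸ Subgroup.center S))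
    (hK : K.index = p) :
    IsMulCommutative ↥(K.comap (QuotientGroup.mk' (Subgroup.center S))) := by
  haveI : Fact p.Prime := ⟨hp⟩
  have hKcard : Nat.card K = p := by
    have := Subgroup.card_mul_index K
    rw [hK, hV, pow_two] at this
    exact Nat.eq_of_mul_eq_mul_right hp.pos this
  haveI : IsCyclic ↥K := isCyclic_of_prime_card hKcard
  let f : ↥(K.comap (QuotientGroup.mk' (Subgroup.center S))) →* ↥K :=
    (QuotientGroup.mk' (Subgroup.center S)).subgroupComap K
  have hf : f.ker ≤ Subgroup.center ↥(K.comap (QuotientGroup.mk' (Subgroup.center S))) := by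
    intro x hx
    rw [MonoidHom.mem_ker] at hx
    have hx' : (QuotientGroup.mk' (Subgroup.center S)) (x : S) = 1 := congrArg Subtype.val hx
    have hxZ : (x : S) ∈ Subgroup.center S := (QuotientGroup.eq_one_iff _).1 hx'
    rw [Subgroup.mem_center_iff]
    intro g
    apply Subtype.ext
    exact Subgroup.mem_center_iff.1 hxZ (g : S)
  exact ⟨⟨commutative_of_cyclic_center_quotient f hf⟩⟩

/-- Let S be a non-abelian finite p-group with an abelian subgroup A of index p. Then [S : Z(S)] = p·#[S,S], and either [S,S] has order p, S/Z(S) is elementary abelian of order p², and S has exactly p + 1 abelian subgroups of index p; or [S,S] has order at least p² and A is the only abelian subgroup of index p in S. -/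
theorem result {S : Type*} [Group S] [Finite S] (p : ℕ) [Fact p.Prime] (hS : IsPGroup p S) (hna : ¬ IsMulCommutative S)
    (A : Subgroup S) (hA : IsMulCommutative ↥A) (hAi : A.index = p) :
    (Subgroup.center S).index = p * Nat.card (commutator S) ∧
      ((Nat.card (commutator S) = p ∧ Cfsg.IsElementaryAbelian p (⊤ : Subgroup (S ⧸ Subgroup.center S)) ∧
          Nat.card (S ⧸ Subgroup.center S) = p ^ 2 ∧
          Nat.card {B : Subgroup S // IsMulCommutative ↥B ∧ B.index = p} = p + 1) ∨
        (p ^ 2 ≤ Nat.card (commutator S) ∧ ∀ B : Subgroup S, IsMulCommutative ↥B → B.index = p → B = A)) := by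
  have hp : p.Prime := Fact.out
  obtain ⟨n, hn⟩ := IsPGroup.iff_card.1 hS
  have hn0 : n ≠ 0 := by
    rintro rfl
    have : A.index ∣ Nat.card S := Subgroup.index_dvd_card A
    rw [hn, hAi, pow_zero] at this
    exact hp.one_lt.ne' (Nat.dvd_one.1 this)
  have hnorm : ∀ B : Subgroup S, B.index = p → B.Normal := by
    intro B hB
    apply Subgroup.normal_of_index_eq_minFac_card
    rw [hB, hn, Nat.pow_minFac hn0, Nat.Prime.minFac_eq hp]
  have hna' : ∃ a b : S, a * b ≠ b * a := by
    by_contra h
    push_neg at h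
    exact hna ⟨⟨h⟩⟩
  have hcm : ∀ B : Subgroup S, IsMulCommutative ↥B → ∀ a ∈ B, ∀ b ∈ B, a * b = b * a :=
    fun B hB a ha b hb => congrArg Subtype.val (hB.is_comm.comm (⟨a, ha⟩ : ↥B) ⟨b, hb⟩)
  have hAc := hcm A hA
  have hformula := Cfsg.Agent.S4584.index_center p hp hna' A (hnorm A hAi) hAc hAi
  refine ⟨hformula, ?_⟩
  have hdvd : Nat.card (commutator S) ∣ p ^ n := by
    rw [← hn]; exact Subgroup.card_subgroup_dvd_card _
  obtain ⟨k, -, hk⟩ := (Nat.dvd_prime_pow hp).1 hdvd
  have hk0 : k ≠ 0 := by
    rintro rfl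
    rw [pow_zero] at hk
    obtain ⟨a, b, hab⟩ := hna'
    apply hab
    have hmem : a * b * a⁻¹ * b⁻¹ ∈ commutator S := by
      rw [commutator_def]
      exact Subgroup.commutator_mem_commutator (Subgroup.mem_top a) (Subgroup.mem_top b)
    have hbot : commutator S = ⊥ := Subgroup.card_eq_one.1 hk
    rw [hbot, Subgroup.mem_bot] at hmem
    have := mul_inv_eq_one.1 hmem
    exact mul_inv_eq_iff_eq_mul.1 this
  rcases Nat.lt_or_ge k 2 with hk2 | hk2
  · left
    have hk1 : k = 1 := by omega
    rw [hk1, pow_one] at hk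
    have hZi : (Subgroup.center S).index = p ^ 2 := by rw [hformula, hk, pow_two]
    have hVcard : Nat.card (S ⧸ Subgroup.center S) = p ^ 2 := by
      rw [← Subgroup.index_eq_card]; exact hZi
    have hVcomm : ∀ a b : S ⧸ Subgroup.center S, a * b = b * a :=
      IsPGroup.commutative_of_card_eq_prime_sq hVcard
    have hVexp : ∀ v : S ⧸ Subgroup.center S, v ^ p = 1 := by
      intro v
      have h1 : orderOf v ∣ p ^ 2 := by rw [← hVcard]; exact orderOf_dvd_natCard v
      obtain ⟨m, hm2, hm⟩ := (Nat.dvd_prime_pow hp).1 h1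
      have hm2' : m ≠ 2 := by
        rintro rfl
        haveI : IsCyclic (S ⧸ Subgroup.center S) :=
          isCyclic_of_orderOf_eq_card v (by rw [hm, hVcard])
        obtain ⟨a, b, hab⟩ := hna'
        exact hab (commutative_of_cyclic_center_quotient (QuotientGroup.mk' (Subgroup.center S))
          (by rw [QuotientGroup.ker_mk']) a b)
      have hm1 : m ≤ 1 := by omega
      have : orderOf v ∣ p := by
        rw [hm]
        calc p ^ m ∣ p ^ 1 := pow_dvd_pow p hm1
          _ = p := pow_one p
      exact orderOf_dvd_iff_pow_eq_one.1 this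
    refine ⟨hk, ⟨⟨⟨fun a b => Subtype.ext (hVcomm a b)⟩⟩, fun a _ => hVexp a⟩, hVcard, ?_⟩
    have hπs : Function.Surjective (QuotientGroup.mk' (Subgroup.center S)) :=
      QuotientGroup.mk'_surjective _
    have hπk : (QuotientGroup.mk' (Subgroup.center S)).ker = Subgroup.center S :=
      QuotientGroup.ker_mk' _
    have hZle : ∀ B : Subgroup S, IsMulCommutative ↥B → B.index = p → Subgroup.center S ≤ B :=
      fun B hB hBi => center_le p hp hna' B (hcm B hB) hBi
    let e : {B : Subgroup S // IsMulCommutative ↥B ∧ B.index = p} ≃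
        {K : Subgroup (S ⧸ Subgroup.center S) // K.index = p} :=
      { toFun := fun B => ⟨B.1.map (QuotientGroup.mk' (Subgroup.center S)), by
          rw [Subgroup.index_map_eq _ hπs (by rw [hπk]; exact hZle B.1 B.2.1 B.2.2)]
          exact B.2.2⟩
        invFun := fun K => ⟨K.1.comap (QuotientGroup.mk' (Subgroup.center S)),
          comap_comm p hp hVcard K.1 K.2, by
            rw [Subgroup.index_comap_of_surjective _ hπs]; exact K.2⟩
        left_inv := fun B => Subtype.ext
          (Subgroup.comap_map_eq_self (by rw [hπk]; exact hZle B.1 B.2.1 B.2.2))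
        right_inv := fun K => Subtype.ext (Subgroup.map_comap_eq_self_of_surjective hπs K.1) }
    rw [Nat.card_congr e]
    exact count_sub p hp hVcard hVexp
  · right
    refine ⟨?_, ?_⟩
    · rw [hk]; exact Nat.pow_le_pow_right hp.pos hk2
    · intro B hB hBi
      by_contra hBA
      have hBc := hcm B hB
      have hcardAB : ∀ H K : Subgroup S, H ≤ K → H.index = p → K.index = p → H = K := by
        intro H K hle hH hK
        have e1 := Subgroup.card_mul_index H
        have e2 := Subgroup.card_mul_index K
        rw [hH] at e1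
        rw [hK] at e2
        have : Nat.card K * p = Nat.card H * p := by rw [e1, e2]
        exact Subgroup.eq_of_le_of_card_ge hle
          (le_of_eq (Nat.eq_of_mul_eq_mul_right hp.pos this))
      have htop : A ⊔ B = ⊤ := by
        have h1 : (A ⊔ B).index ∣ A.index := Subgroup.index_dvd_of_le le_sup_left
        rw [hAi] at h1
        rcases (Nat.dvd_prime hp).1 h1 with h | h
        · exact Subgroup.index_eq_one.1 h
        · exfalso
          have heq : A = A ⊔ B := hcardAB A (A ⊔ B) le_sup_left hAi h
          have hBle : B ≤ A := by rw [heq]; exact le_sup_right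
          exact hBA (hcardAB B A hBle hBi hAi)
      have hABZ : A ⊓ B ≤ Subgroup.center S := by
        intro x hx
        have hle : A ⊔ B ≤ Subgroup.centralizer ({x} : Set S) := by
          apply sup_le
          · intro a ha
            exact Subgroup.mem_centralizer_singleton_iff.2 (hAc a ha x hx.1)
          · intro b hb
            exact Subgroup.mem_centralizer_singleton_iff.2 (hBc b hb x hx.2)
        rw [htop] at hle
        rw [Subgroup.mem_center_iff]
        intro g
        exact Subgroup.mem_centralizer_singleton_iff.1 (hle (Subgroup.mem_top g))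
      have h1 : (Subgroup.center S).index ∣ (A ⊓ B).index := Subgroup.index_dvd_of_le hABZ
      have h2 : (A ⊓ B).index ≤ A.index * B.index := Subgroup.index_inf_le
      rw [hAi, hBi] at h2
      have h3 : (A ⊓ B).index ≠ 0 := Subgroup.index_ne_zero_of_finite
      have h4 : (Subgroup.center S).index ≤ (A ⊓ B).index :=
        Nat.le_of_dvd (Nat.pos_of_ne_zero h3) h1
      rw [hformula, hk] at h4
      have h5 : p ^ 2 ≤ p ^ k := Nat.pow_le_pow_right hp.pos hk2
      have h6 : p * p ^ 2 ≤ p * p ^ k := Nat.mul_le_mul_left _ h5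
      have h7 : p * p < p * p ^ 2 := by
        have : p < p ^ 2 := by
          calc p = p ^ 1 := (pow_one p).symm
            _ < p ^ 2 := Nat.pow_lt_pow_right hp.one_lt (by norm_num)
        exact Nat.mul_lt_mul_of_pos_left this hp.pos
      omega

end Cfsg.Agent.S3807
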