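import Mathlib
import Cfsg.Statements.S3808
import Cfsg.Agent.Helper19.PCenter

set_option autoImplicit false
open Cfsg

namespace Cfsg.Agent.S3808

open Cfsg.Agent.Helper19

theorem result {S : Type*} [Group S] [Finite S] (p : ℕ) [Fact p.Prime] (hS : IsPGroup p S) (Q : Subgroup S) (hQ : Cfsg.IsExtraspecial p ↥Q) (hQi : Q.index = p) :
    Subgroup.center S = (Subgroup.center ↥Q).map Q.subtype ∨
      (Q ⊔ Subgroup.center S = ⊤ ∧ Nat.card (Subgroup.center S) = p ^ 2) := by
  have hp : p.Prime := Fact.out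
  have hZQ : Nat.card (Subgroup.center ↥Q) = p := hQ.2
  have hQn : Q.Normal := by
    apply Subgroup.normal_of_index_eq_minFac_card
    rw [hQi]
    obtain ⟨n, hn⟩ := IsPGroup.iff_card.mp hS
    have hn0 : n ≠ 0 := by
      rintro rfl
      rw [pow_zero] at hn
      have := Subgroup.index_dvd_card Q
      rw [hQi, hn] at this
      exact hp.one_lt.ne' (Nat.dvd_one.mp this)
    rw [hn, Nat.Prime.pow_minFac hp hn0]
  have hZ1card : Nat.card ((Subgroup.center ↥Q).map Q.subtype) = p := by
    rw [Subgroup.card_map_of_injective Q.subtype_injective]; exact hZQ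
  have hZ1mem : ∀ z : S, z ∈ (Subgroup.center ↥Q).map Q.subtype ↔
      z ∈ Q ∧ ∀ q ∈ Q, q * z = z * q := by
    intro z
    constructor
    · rintro ⟨⟨z', hz'Q⟩, hz', rfl⟩
      refine ⟨hz'Q, fun q hq => ?_⟩
      have := Subgroup.mem_center_iff.mp hz' ⟨q, hq⟩
      exact congrArg Subtype.val this
    · rintro ⟨hzQ, hz⟩
      refine ⟨⟨z, hzQ⟩, ?_, rfl⟩
      show (⟨z, hzQ⟩ : Q) ∈ Subgroup.center ↥Q
      rw [Subgroup.mem_center_iff]
      intro q
      exact Subtype.ext (hz q q.2)
  generalize (Subgroup.center ↥Q).map Q.subtype = Z1 at *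
  have hZ1n : Z1.Normal := by
    constructor
    intro z hz s
    rw [hZ1mem] at hz ⊢
    refine ⟨hQn.conj_mem z hz.1 s, fun q hq => ?_⟩
    have h1 := hz.2 (s⁻¹ * q * s) (by
      have := hQn.conj_mem q hq s⁻¹
      simpa using this)
    have : q * (s * z * s⁻¹) = s * ((s⁻¹ * q * s) * z) * s⁻¹ := by group
    rw [this, h1]; group
  have hZ1le : Z1 ≤ Subgroup.center S := le_center_of_normal_of_card_eq hS Z1 hZ1card
  have hinf : Subgroup.center S ⊓ Q = Z1 := by
    apply le_antisymm
    · rintro z ⟨hzc, hzQ⟩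
      rw [hZ1mem]
      exact ⟨hzQ, fun q _ => Subgroup.mem_center_iff.mp hzc q⟩
    · exact le_inf hZ1le (fun z hz => ((hZ1mem z).mp hz).1)
  by_cases hle : Subgroup.center S ≤ Q
  · left
    rw [← hinf, inf_of_le_left hle]
  · right
    have h1 : Q.relIndex (Q ⊔ Subgroup.center S) * (Q ⊔ Subgroup.center S).index = p := by
      rw [Subgroup.relIndex_mul_index le_sup_left, hQi]
    have h2 : Q.relIndex (Q ⊔ Subgroup.center S) ≠ 1 := by
      intro h
      rw [Subgroup.relIndex_eq_one] at h
      exact hle (le_trans le_sup_right h)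
    have h3 : Q.relIndex (Q ⊔ Subgroup.center S) = p := by
      have hd : Q.relIndex (Q ⊔ Subgroup.center S) ∣ p := Dvd.intro _ h1
      rcases (Nat.dvd_prime hp).mp hd with h | h
      · exact absurd h h2
      · exact h
    have h4 : (Q ⊔ Subgroup.center S).index = 1 := by
      rw [h3] at h1
      have : p * (Q ⊔ Subgroup.center S).index = p * 1 := by rw [h1, mul_one]
      exact Nat.eq_of_mul_eq_mul_left hp.pos this
    refine ⟨Subgroup.index_eq_one.mp h4, ?_⟩
    have h5 : Q.relIndex (Subgroup.center S) = p := by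
      rw [← Subgroup.relIndex_sup_left, h3]
    have h6 : (Q ⊓ Subgroup.center S).relIndex (Subgroup.center S) = p := by
      rw [Subgroup.inf_relIndex_right, h5]
    have h7 := Subgroup.relIndex_mul_relIndex (H := (⊥ : Subgroup S))
      (K := Q ⊓ Subgroup.center S) (L := Subgroup.center S) bot_le inf_le_right
    rw [Subgroup.relIndex_bot_left, Subgroup.relIndex_bot_left, h6, inf_comm, hinf, hZ1card] at h7
    rw [← h7, sq]

end Cfsg.Agent.S3808
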