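import Cfsg.Statements.S4585

set_option autoImplicit false
open Cfsg
open scoped commutatorElement

namespace Cfsg.Agent.S4585

theorem card_pow {P : Type*} [Group P] [Finite P] (p : ℕ) (hp : p.Prime) (hP : Nat.card P = p ^ 4)
    (H : Subgroup P) : ∃ m, m ≤ 4 ∧ Nat.card H = p ^ m := by
  have h := Subgroup.card_subgroup_dvd_card H
  rw [hP] at h
  exact (Nat.dvd_prime_pow hp).mp h

theorem card_lt {P : Type*} [Group P] [Finite P] {H K : Subgroup P} (h : H < K) :
    Nat.card H < Nat.card K := by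
  by_contra hnot
  push Not at hnot
  exact h.ne (Subgroup.eq_of_le_of_card_ge h.le hnot)

theorem card_step {P : Type*} [Group P] [Finite P] (p : ℕ) (hp : p.Prime)
    (hP : Nat.card P = p ^ 4) (A B : Subgroup P) (hAB : A < B) (k : ℕ)
    (hA : p ^ k ≤ Nat.card A) : p ^ (k + 1) ≤ Nat.card B := by
  obtain ⟨a, -, ha⟩ := card_pow p hp hP A
  obtain ⟨b, -, hb⟩ := card_pow p hp hP B
  have hlt := card_lt hAB
  rw [ha, hb] at hlt
  rw [ha] at hA
  rw [hb]
  have h1 : a < b := (Nat.pow_lt_pow_iff_right hp.one_lt).mp hlt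
  have h2 : k ≤ a := (Nat.pow_le_pow_iff_right hp.one_lt).mp hA
  exact Nat.pow_le_pow_right hp.pos (by omega)

theorem card_step_down {P : Type*} [Group P] [Finite P] (p : ℕ) (hp : p.Prime)
    (hP : Nat.card P = p ^ 4) (A B : Subgroup P) (hAB : A < B) (k : ℕ)
    (hB : Nat.card B ≤ p ^ (k + 1)) : Nat.card A ≤ p ^ k := by
  obtain ⟨a, -, ha⟩ := card_pow p hp hP A
  obtain ⟨b, -, hb⟩ := card_pow p hp hP B
  have hlt := card_lt hAB
  rw [ha, hb] at hlt
  rw [hb] at hB
  rw [ha]
  have h1 : a < b := (Nat.pow_lt_pow_iff_right hp.one_lt).mp hlt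
  have h2 : b ≤ k + 1 := (Nat.pow_le_pow_iff_right hp.one_lt).mp hB
  exact Nat.pow_le_pow_right hp.pos (by omega)

theorem eq_top_of_card {P : Type*} [Group P] [Finite P] (p : ℕ) (hP : Nat.card P = p ^ 4)
    (H : Subgroup P) (h : p ^ 4 ≤ Nat.card H) : H = ⊤ := by
  have h1 := Subgroup.card_le_card_group (H := H)
  exact (Subgroup.card_eq_iff_eq_top H).mp (by omega)

theorem comm_ne {P : Type*} [Group P] [Group.IsNilpotent P] (N : Subgroup P) (hN : N ≠ ⊥) :
    ⁅N, (⊤ : Subgroup P)⁆ ≠ N := by
  intro h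
  have key : ∀ k, N ≤ (⊤ : Subgroup P).lowerCentralSeries k := by
    intro k
    induction k with
    | zero => exact le_top
    | succ k ih =>
      exact (le_of_eq h.symm).trans (Subgroup.commutator_mono ih le_rfl)
  have := key (Group.nilpotencyClass P)
  rw [Subgroup.lowerCentralSeries_nilpotencyClass] at this
  exact hN (le_bot_iff.mp this)

def cenSub {G : Type*} [Group G] (N : Subgroup G) [hN : N.Normal] (g : G) : Subgroup G where
  carrier := {h | ⁅g, h⁆ ∈ N}
  one_mem' := by
    show ⁅g, (1 : G)⁆ ∈ N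
    rw [commutatorElement_one_right]; exact N.one_mem
  mul_mem' := by
    intro a b ha hb
    show ⁅g, a * b⁆ ∈ N
    have h1 : ⁅g, a * b⁆ = ⁅g, a⁆ * (a * ⁅g, b⁆ * a⁻¹) := by
      simp only [commutatorElement_def]; group
    rw [h1]
    exact N.mul_mem ha (hN.conj_mem _ hb a)
  inv_mem' := by
    intro a ha
    show ⁅g, a⁻¹⁆ ∈ N
    have h1 : ⁅g, a⁻¹⁆ = a⁻¹ * ⁅g, a⁆⁻¹ * a⁻¹⁻¹ := by
      simp only [commutatorElement_def]; group
    rw [h1]
    exact hN.conj_mem _ (N.inv_mem ha) a⁻¹

theorem lemmaB {G : Type*} [Group G] (N : Subgroup G) [hN : N.Normal] (T : Set G)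
    (hT : Subgroup.closure T = ⊤) (h : ∀ s ∈ T, ∀ t ∈ T, ⁅s, t⁆ ∈ N) : commutator G ≤ N := by
  have h1 : ∀ s ∈ T, ∀ g : G, ⁅s, g⁆ ∈ N := by
    intro s hs g
    have hle : Subgroup.closure T ≤ cenSub N s :=
      (Subgroup.closure_le _).mpr (fun t ht => h s hs t ht)
    rw [hT] at hle
    exact hle (Subgroup.mem_top g)
  have h2 : ∀ g₁ g₂ : G, ⁅g₁, g₂⁆ ∈ N := by
    intro g₁ g₂
    have hle : Subgroup.closure T ≤ cenSub N g₁ :=
      (Subgroup.closure_le _).mpr (fun t ht => by
        show ⁅g₁, t⁆ ∈ N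
        rw [← commutatorElement_inv]
        exact N.inv_mem (h1 t ht g₁))
    rw [hT] at hle
    exact hle (Subgroup.mem_top g₂)
  rw [commutator_def, Subgroup.commutator_le]
  intro g₁ _ g₂ _
  exact h2 g₁ g₂

theorem comm_mul_right {G : Type*} [Group G] (x a b : G) (h : ⁅x, b⁆ ∈ Subgroup.center G) :
    ⁅x, a * b⁆ = ⁅x, a⁆ * ⁅x, b⁆ := by
  have h1 : ⁅x, a * b⁆ = ⁅x, a⁆ * (a * ⁅x, b⁆ * a⁻¹) := by
    simp only [commutatorElement_def]; group
  have h2 : a * ⁅x, b⁆ = ⁅x, b⁆ * a := Subgroup.mem_center_iff.mp h a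
  rw [h1, h2, mul_inv_cancel_right]

/-- Let p be a prime and P a group of order p^4. Then P' has index p^2 in P if and only if P has maximal nilpotency class, that is, nilpotency class exactly 3. -/
theorem result {P : Type*} [Group P] [Finite P] (p : ℕ) [Fact p.Prime] (hP : Nat.card P = p ^ 4) :
    (commutator P).index = p ^ 2 ↔ Group.nilpotencyClass P = 3 := by
  classical
  have hp : p.Prime := Fact.out
  have hp2 : 2 ≤ p := hp.two_le
  have hPG : IsPGroup p P := IsPGroup.of_card hP
  haveI : Group.IsNilpotent P := hPG.isNilpotent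
  have hstrict : ∀ k, (⊤ : Subgroup P).lowerCentralSeries k ≠ ⊥ →
      (⊤ : Subgroup P).lowerCentralSeries (k + 1) < (⊤ : Subgroup P).lowerCentralSeries k := by
    intro k hk
    refine lt_of_le_of_ne (Subgroup.lowerCentralSeries_antitone _ (Nat.le_succ k)) ?_
    exact comm_ne _ hk
  have hcl3 : Group.nilpotencyClass P ≤ 3 ↔ (⊤ : Subgroup P).lowerCentralSeries 3 = ⊥ :=
    Subgroup.lowerCentralSeries_eq_bot_iff_nilpotencyClass_le.symm
  have hcl2 : Group.nilpotencyClass P ≤ 2 ↔ (⊤ : Subgroup P).lowerCentralSeries 2 = ⊥ :=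
    Subgroup.lowerCentralSeries_eq_bot_iff_nilpotencyClass_le.symm
  have hcardC := Subgroup.card_mul_index (commutator P)
  rw [hP] at hcardC
  have hL1 : (⊤ : Subgroup P).lowerCentralSeries 1 = commutator P := rfl
  have hL0 : (⊤ : Subgroup P).lowerCentralSeries 0 = ⊤ := rfl
  have htop_ne : (⊤ : Subgroup P) ≠ ⊥ := by
    intro h
    have h1 : Nat.card (⊤ : Subgroup P) = p ^ 4 := by rw [Subgroup.card_top, hP]
    rw [h, Subgroup.card_bot] at h1
    have : 2 ^ 4 ≤ p ^ 4 := Nat.pow_le_pow_left hp2 4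
    omega
  have hpp : p ^ 4 = p ^ 2 * p ^ 2 := by ring
  constructor
  · intro hidx
    have hc2 : Nat.card (commutator P) = p ^ 2 := by
      rw [hidx, hpp] at hcardC
      exact Nat.eq_of_mul_eq_mul_right (pow_pos hp.pos 2) hcardC
    have hL1ne : (⊤ : Subgroup P).lowerCentralSeries 1 ≠ ⊥ := by
      intro h
      rw [hL1] at h
      rw [h, Subgroup.card_bot] at hc2
      have : 2 ^ 2 ≤ p ^ 2 := Nat.pow_le_pow_left hp2 2
      omega
    have h21 := hstrict 1 hL1ne
    have hL2c : Nat.card ((⊤ : Subgroup P).lowerCentralSeries 2) ≤ p ^ 1 :=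
      card_step_down p hp hP _ _ h21 1 (le_of_eq hc2)
    have hL3 : (⊤ : Subgroup P).lowerCentralSeries 3 = ⊥ := by
      by_cases h2 : (⊤ : Subgroup P).lowerCentralSeries 2 = ⊥
      · have := Subgroup.lowerCentralSeries_antitone (⊤ : Subgroup P) (Nat.le_succ 2)
        rw [h2] at this
        exact le_bot_iff.mp this
      · have h32 := hstrict 2 h2
        have := card_step_down p hp hP _ _ h32 0 hL2c
        rw [pow_zero] at this
        exact Subgroup.eq_bot_of_card_le _ this
    have hL2 : (⊤ : Subgroup P).lowerCentralSeries 2 ≠ ⊥ := by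
      intro h2
      have hcen : ∀ a b : P, ⁅a, b⁆ ∈ Subgroup.center P := by
        intro a b
        rw [Subgroup.mem_center_iff]
        intro g
        have h1 : ⁅⁅a, b⁆, g⁆ ∈ (⊤ : Subgroup P).lowerCentralSeries 2 :=
          Subgroup.commutator_mem_commutator
            (Subgroup.commutator_mem_commutator (Subgroup.mem_top a) (Subgroup.mem_top b))
            (Subgroup.mem_top g)
        rw [h2, Subgroup.mem_bot, commutatorElement_eq_one_iff_mul_comm] at h1
        exact h1.symm
      have hZ2 : p ^ 2 ≤ Nat.card (Subgroup.center P) := by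
        have hle : commutator P ≤ Subgroup.center P := by
          rw [commutator_def, Subgroup.commutator_le]
          intro a _ b _
          exact hcen a b
        have := Subgroup.card_le_of_le hle
        rwa [hc2] at this
      obtain ⟨x₀, y₀, hxy⟩ : ∃ x₀ y₀ : P, ⁅x₀, y₀⁆ ≠ 1 := by
        by_contra hno
        push Not at hno
        apply hL1ne
        rw [hL1, eq_bot_iff, commutator_def, Subgroup.commutator_le]
        intro a _ b _
        rw [Subgroup.mem_bot]
        exact hno a b
      have hncomm : x₀ * y₀ ≠ y₀ * x₀ :=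
        fun h => hxy (commutatorElement_eq_one_iff_mul_comm.mpr h)
      have hcZ : ⁅x₀, y₀⁆ ∈ Subgroup.center P := hcen x₀ y₀
      have hNZ : Subgroup.zpowers ⁅x₀, y₀⁆ ≤ Subgroup.center P := Subgroup.zpowers_le.mpr hcZ
      haveI hNn : (Subgroup.zpowers ⁅x₀, y₀⁆).Normal := ⟨fun n hn g => by
        have hz := Subgroup.mem_center_iff.mp (hNZ hn) g
        rw [hz, mul_inv_cancel_right]; exact hn⟩
      have hx0Z : x₀ ∉ Subgroup.center P :=
        fun h => hncomm (Subgroup.mem_center_iff.mp h y₀).symm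
      have hT : Subgroup.closure ((Subgroup.center P : Set P) ∪ {x₀, y₀}) = ⊤ := by
        have hZH : Subgroup.center P ≤
            Subgroup.closure ((Subgroup.center P : Set P) ∪ {x₀, y₀}) :=
          fun z hz => Subgroup.subset_closure (Set.mem_union_left _ hz)
        have hxH : x₀ ∈ Subgroup.closure ((Subgroup.center P : Set P) ∪ {x₀, y₀}) :=
          Subgroup.subset_closure (by simp)
        have hyH : y₀ ∈ Subgroup.closure ((Subgroup.center P : Set P) ∪ {x₀, y₀}) :=
          Subgroup.subset_closure (by simp)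
        have hZM : Subgroup.center P < Subgroup.center P ⊔ Subgroup.zpowers x₀ := by
          rw [SetLike.lt_iff_le_and_exists]
          exact ⟨le_sup_left, x₀, Subgroup.mem_sup_right (Subgroup.mem_zpowers x₀), hx0Z⟩
        have hMcent : Subgroup.center P ⊔ Subgroup.zpowers x₀ ≤
            Subgroup.centralizer ({x₀} : Set P) := by
          refine sup_le (Subgroup.center_le_centralizer _) (Subgroup.zpowers_le.mpr ?_)
          rw [Subgroup.mem_centralizer_iff]
          intro h hh
          rw [Set.mem_singleton_iff.mp hh]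
        have hMH : Subgroup.center P ⊔ Subgroup.zpowers x₀ <
            Subgroup.closure ((Subgroup.center P : Set P) ∪ {x₀, y₀}) := by
          rw [SetLike.lt_iff_le_and_exists]
          refine ⟨sup_le hZH (Subgroup.zpowers_le.mpr hxH), y₀, hyH, fun hy => ?_⟩
          have := Subgroup.mem_centralizer_iff.mp (hMcent hy) x₀ (Set.mem_singleton x₀)
          exact hncomm this
        have h3 := card_step p hp hP _ _ hZM 2 hZ2
        have h4 := card_step p hp hP _ _ hMH 3 h3
        exact eq_top_of_card p hP _ h4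
      have hpair : ∀ s ∈ ((Subgroup.center P : Set P) ∪ {x₀, y₀}),
          ∀ t ∈ ((Subgroup.center P : Set P) ∪ {x₀, y₀}),
          ⁅s, t⁆ ∈ Subgroup.zpowers ⁅x₀, y₀⁆ := by
        have h1m : (1 : P) ∈ Subgroup.zpowers ⁅x₀, y₀⁆ := Subgroup.one_mem _
        have hxx : ⁅x₀, x₀⁆ ∈ Subgroup.zpowers ⁅x₀, y₀⁆ := by
          rw [commutatorElement_self]; exact h1m
        have hyy : ⁅y₀, y₀⁆ ∈ Subgroup.zpowers ⁅x₀, y₀⁆ := by
          rw [commutatorElement_self]; exact h1m
        have hxy' : ⁅x₀, y₀⁆ ∈ Subgroup.zpowers ⁅x₀, y₀⁆ := Subgroup.mem_zpowers _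
        have hyx : ⁅y₀, x₀⁆ ∈ Subgroup.zpowers ⁅x₀, y₀⁆ := by
          have hinv : ⁅y₀, x₀⁆ = ⁅x₀, y₀⁆⁻¹ := (commutatorElement_inv x₀ y₀).symm
          rw [hinv]; exact Subgroup.inv_mem _ hxy'
        intro s hs t ht
        rcases hs with hs | hs
        · have : ⁅s, t⁆ = 1 :=
            commutatorElement_eq_one_iff_mul_comm.mpr (Subgroup.mem_center_iff.mp hs t).symm
          rw [this]; exact h1m
        · rcases ht with ht | ht
          · have : ⁅s, t⁆ = 1 :=
              commutatorElement_eq_one_iff_mul_comm.mpr (Subgroup.mem_center_iff.mp ht s)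
            rw [this]; exact h1m
          · simp only [Set.mem_insert_iff, Set.mem_singleton_iff] at hs ht
            rcases hs with hs | hs <;> rcases ht with ht | ht <;> rw [hs, ht]
            exacts [hxx, hxy', hyx, hyy]
      have hle : commutator P ≤ Subgroup.zpowers ⁅x₀, y₀⁆ := lemmaB _ _ hT hpair
      have hy0p : y₀ ^ p ∈ Subgroup.center P := by
        obtain ⟨a, ha4, ha⟩ := card_pow p hp hP (Subgroup.center P)
        have hidxZ := Subgroup.card_mul_index (Subgroup.center P)
        rw [hP, ha] at hidxZ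
        have ha2 : 2 ≤ a := by
          rw [ha] at hZ2
          exact (Nat.pow_le_pow_iff_right hp.one_lt).mp hZ2
        have hidx2 : (Subgroup.center P).index = p ^ (4 - a) := by
          have h44 : p ^ 4 = p ^ a * p ^ (4 - a) := by
            rw [← pow_add]; congr 1; omega
          rw [h44] at hidxZ
          exact Nat.eq_of_mul_eq_mul_left (pow_pos hp.pos a) hidxZ
        have hQ : Nat.card (P ⧸ Subgroup.center P) = p ^ (4 - a) := hidx2
        have hdvd : orderOf (y₀ : P ⧸ Subgroup.center P) ∣ p ^ (4 - a) := by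
          rw [← hQ]; exact orderOf_dvd_natCard _
        obtain ⟨m, hm, hom⟩ := (Nat.dvd_prime_pow hp).mp hdvd
        have hmne : m ≠ 4 - a := by
          intro hmeq
          haveI hcyc : IsCyclic (P ⧸ Subgroup.center P) :=
            isCyclic_of_orderOf_eq_card (y₀ : P ⧸ Subgroup.center P) (by rw [hom, hmeq, hQ])
          exact hncomm (commutative_of_cyclic_center_quotient
            (QuotientGroup.mk' (Subgroup.center P)) (le_of_eq (QuotientGroup.ker_mk' _)) x₀ y₀)
        have hm1 : m ≤ 1 := by omega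
        have hyp : (y₀ : P ⧸ Subgroup.center P) ^ p = 1 := by
          apply orderOf_dvd_iff_pow_eq_one.mp
          rw [hom]
          exact (pow_dvd_pow p hm1).trans (dvd_of_eq (pow_one p))
        rw [← QuotientGroup.eq_one_iff, QuotientGroup.mk_pow]
        exact hyp
      have hcp : ⁅x₀, y₀⁆ ^ p = 1 := by
        let φ : P →* P := MonoidHom.mk' (fun h => ⁅x₀, h⁆)
          (fun a b => comm_mul_right x₀ a b (hcen _ _))
        have h1 : φ (y₀ ^ p) = (φ y₀) ^ p := map_pow φ y₀ p
        have h2' : φ (y₀ ^ p) = 1 :=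
          commutatorElement_eq_one_iff_mul_comm.mpr (Subgroup.mem_center_iff.mp hy0p x₀)
        rw [h2'] at h1
        exact h1.symm
      have hord : orderOf ⁅x₀, y₀⁆ ≤ p :=
        Nat.le_of_dvd hp.pos (orderOf_dvd_of_pow_eq_one hcp)
      have hcardle : Nat.card (commutator P) ≤ Nat.card (Subgroup.zpowers ⁅x₀, y₀⁆) :=
        Subgroup.card_le_of_le hle
      rw [hc2, Nat.card_zpowers] at hcardle
      have h5 : p ^ 2 ≤ p := hcardle.trans hord
      have h6 : p * p ≤ p * 1 := by rw [← pow_two, mul_one]; exact h5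
      have h7 := Nat.le_of_mul_le_mul_left h6 hp.pos
      omega
    have h3 : Group.nilpotencyClass P ≤ 3 := hcl3.mpr hL3
    have h2 : ¬ Group.nilpotencyClass P ≤ 2 := fun h => hL2 (hcl2.mp h)
    omega
  · intro hcls
    have hL3 : (⊤ : Subgroup P).lowerCentralSeries 3 = ⊥ := hcl3.mp (by omega)
    have hL2 : (⊤ : Subgroup P).lowerCentralSeries 2 ≠ ⊥ := fun h => by
      have := hcl2.mpr h
      omega
    have hL1ne : (⊤ : Subgroup P).lowerCentralSeries 1 ≠ ⊥ := by
      intro h
      have := Subgroup.lowerCentralSeries_antitone (⊤ : Subgroup P) (Nat.le_succ 1)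
      rw [h] at this
      exact hL2 (le_bot_iff.mp this)
    have h21 := hstrict 1 hL1ne
    have h10 := hstrict 0 (by rw [hL0]; exact htop_ne)
    have hb2 : p ^ 1 ≤ Nat.card ((⊤ : Subgroup P).lowerCentralSeries 2) := by
      have hbot : (⊥ : Subgroup P) < (⊤ : Subgroup P).lowerCentralSeries 2 :=
        bot_lt_iff_ne_bot.mpr hL2
      exact card_step p hp hP _ _ hbot 0 (by rw [Subgroup.card_bot, pow_zero])
    have hb1 : p ^ 2 ≤ Nat.card ((⊤ : Subgroup P).lowerCentralSeries 1) :=
      card_step p hp hP _ _ h21 1 hb2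
    have hu1 : Nat.card ((⊤ : Subgroup P).lowerCentralSeries 1) ≤ p ^ 3 :=
      card_step_down p hp hP _ _ h10 3 (le_of_eq (by rw [hL0, Subgroup.card_top, hP]))
    obtain ⟨b, hb4, hb⟩ := card_pow p hp hP ((⊤ : Subgroup P).lowerCentralSeries 1)
    rw [hb] at hb1 hu1
    have hb_ge : 2 ≤ b := (Nat.pow_le_pow_iff_right hp.one_lt).mp hb1
    have hb_le : b ≤ 3 := (Nat.pow_le_pow_iff_right hp.one_lt).mp hu1
    have hbne : b ≠ 3 := by
      intro hb3
      rw [hb3] at hb
      obtain ⟨x, -, hx⟩ := SetLike.exists_of_lt h10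
      have hT : Subgroup.closure
          (((⊤ : Subgroup P).lowerCentralSeries 1 : Set P) ∪ {x}) = ⊤ := by
        have hlt : (⊤ : Subgroup P).lowerCentralSeries 1 < Subgroup.closure
            (((⊤ : Subgroup P).lowerCentralSeries 1 : Set P) ∪ {x}) := by
          rw [SetLike.lt_iff_le_and_exists]
          exact ⟨fun z hz => Subgroup.subset_closure (Set.mem_union_left _ hz), x,
            Subgroup.subset_closure (by simp), hx⟩
        exact eq_top_of_card p hP _ (card_step p hp hP _ _ hlt 3 (le_of_eq hb.symm))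
      have hpair : ∀ s ∈ (((⊤ : Subgroup P).lowerCentralSeries 1 : Set P) ∪ {x}),
          ∀ t ∈ (((⊤ : Subgroup P).lowerCentralSeries 1 : Set P) ∪ {x}),
          ⁅s, t⁆ ∈ (⊤ : Subgroup P).lowerCentralSeries 2 := by
        have hA : ∀ s ∈ (⊤ : Subgroup P).lowerCentralSeries 1, ∀ t : P,
            ⁅s, t⁆ ∈ (⊤ : Subgroup P).lowerCentralSeries 2 :=
          fun s hs t => Subgroup.commutator_mem_commutator hs (Subgroup.mem_top t)
        intro s hs t ht
        rcases hs with hs | hs
        · exact hA s hs t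
        · rcases ht with ht | ht
          · rw [← commutatorElement_inv]
            exact Subgroup.inv_mem _ (hA t ht s)
          · rw [Set.mem_singleton_iff.mp hs, Set.mem_singleton_iff.mp ht,
              commutatorElement_self]
            exact Subgroup.one_mem _
      have hle : commutator P ≤ (⊤ : Subgroup P).lowerCentralSeries 2 := lemmaB _ _ hT hpair
      have hle' : (⊤ : Subgroup P).lowerCentralSeries 1 ≤
          (⊤ : Subgroup P).lowerCentralSeries 2 := hle
      exact absurd (lt_of_lt_of_le h21 hle') (lt_irrefl _)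
    have hb2' : b = 2 := by omega
    rw [hb2'] at hb
    have hb' : Nat.card (commutator P) = p ^ 2 := hb
    rw [hb', hpp] at hcardC
    exact Nat.eq_of_mul_eq_mul_left (pow_pos hp.pos 2) hcardC

end Cfsg.Agent.S4585
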