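import Cfsg.Statements.S3809
import Cfsg.Agent.S0095
import Cfsg.Agent.S4585

set_option autoImplicit false
open Cfsg
open scoped commutatorElement

namespace Cfsg.Agent.S3809

/-- In an extraspecial group, p-th powers are central. -/
theorem pow_mem_center {E : Type*} [Group E] [Finite E] (p : ℕ) [Fact p.Prime]
    (hE : Cfsg.IsExtraspecial p E) (y : E) : y ^ p ∈ Subgroup.center E := by
  have hcenE : ∀ a b : E, ⁅a, b⁆ ∈ Subgroup.center E := by
    intro a b
    rw [← hE.1.2.2, commutator_def]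
    exact Subgroup.commutator_mem_commutator (Subgroup.mem_top a) (Subgroup.mem_top b)
  have hpowZ : ∀ z ∈ Subgroup.center E, z ^ p = 1 := by
    intro z hz
    have h1 : (⟨z, hz⟩ : ↥(Subgroup.center E)) ^ Nat.card ↥(Subgroup.center E) = 1 :=
      pow_card_eq_one'
    rw [hE.2] at h1
    exact congrArg Subtype.val h1
  rw [Subgroup.mem_center_iff]
  intro g
  let φ : E →* E := MonoidHom.mk' (fun h => ⁅g, h⁆)
    (fun a b => Cfsg.Agent.S4585.comm_mul_right g a b (hcenE _ _))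
  have h1 : φ (y ^ p) = (φ y) ^ p := map_pow φ y p
  have h2 : (φ y) ^ p = 1 := hpowZ _ (hcenE g y)
  rw [h2] at h1
  exact commutatorElement_eq_one_iff_mul_comm.mp h1

theorem card_eq {S : Type*} [Group S] [Finite S] (p : ℕ) [Fact p.Prime]
    (Q : Subgroup S) (hQ : Cfsg.IsExtraspecial p ↥Q) (hQi : Q.index = p) :
    ∃ n : ℕ, 1 ≤ n ∧ Nat.card ↥Q = p ^ (2 * n + 1) ∧ Nat.card S = p ^ (2 + 2 * n) := by
  obtain ⟨n, hn, hQc⟩ := Cfsg.Agent.S0095.result hQ
  refine ⟨n, hn, hQc, ?_⟩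
  rw [← Subgroup.card_mul_index Q, hQc, hQi]; ring

theorem normal_of {S : Type*} [Group S] [Finite S] (p : ℕ) [Fact p.Prime]
    (Q : Subgroup S) (hQ : Cfsg.IsExtraspecial p ↥Q) (hQi : Q.index = p) : Q.Normal := by
  have hp : p.Prime := Fact.out
  obtain ⟨n, hn, -, hScard⟩ := card_eq p Q hQ hQi
  apply Subgroup.normal_of_index_eq_minFac_card
  rw [hQi, hScard, Nat.pow_minFac (by omega), hp.minFac_eq]

theorem commutator_le {S : Type*} [Group S] [Finite S] (p : ℕ) [Fact p.Prime]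
    (Q : Subgroup S) [Q.Normal] (hQi : Q.index = p) : commutator S ≤ Q := by
  haveI : IsCyclic (S ⧸ Q) := isCyclic_of_prime_card (p := p) hQi
  rw [commutator_def, Subgroup.commutator_le]
  intro a _ b _
  rw [← QuotientGroup.eq_one_iff]
  show (QuotientGroup.mk' Q) ⁅a, b⁆ = 1
  rw [map_commutatorElement, commutatorElement_eq_one_iff_mul_comm]
  exact mul_comm' _ _

theorem pow_mem {S : Type*} [Group S] [Finite S] (p : ℕ)
    (Q : Subgroup S) [Q.Normal] (hQi : Q.index = p) (x : S) : x ^ p ∈ Q := by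
  rw [← QuotientGroup.eq_one_iff, QuotientGroup.mk_pow]
  have h1 : (x : S ⧸ Q) ^ Nat.card (S ⧸ Q) = 1 := pow_card_eq_one'
  have h2 : Nat.card (S ⧸ Q) = p := hQi
  rwa [h2] at h1

/-- Let S be a finite p-group with an extraspecial subgroup of index p. Then S has order p^(2+2n) for some n ≥ 1, derived length at most 3, and exponent dividing p³. -/
theorem result {S : Type*} [Group S] [Finite S] (p : ℕ) [Fact p.Prime] (hS : IsPGroup p S) (Q : Subgroup S) (hQ : Cfsg.IsExtraspecial p ↥Q) (hQi : Q.index = p) :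
    (∃ n : ℕ, 1 ≤ n ∧ Nat.card S = p ^ (2 + 2 * n)) ∧ derivedSeries S 3 = ⊥ ∧ ∀ x : S, x ^ (p ^ 3) = 1 := by
  classical
  have hp : p.Prime := Fact.out
  obtain ⟨n, hn, hQc, hScard⟩ := card_eq p Q hQ hQi
  haveI hQn : Q.Normal := normal_of p Q hQ hQi
  have hcomm : commutator S ≤ Q := commutator_le p Q hQi
  have hD1 : derivedSeries S 1 ≤ Q := by
    rw [derivedSeries_one]; exact hcomm
  have hQQ : ⁅Q, Q⁆ = (Subgroup.center ↥Q).map Q.subtype := by
    rw [← Subgroup.map_subtype_commutator, hQ.1.2.2]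
  have hD2 : derivedSeries S 2 ≤ (Subgroup.center ↥Q).map Q.subtype := by
    rw [← hQQ]
    exact Subgroup.commutator_mono hD1 hD1
  have hD3 : derivedSeries S 3 = ⊥ := by
    rw [eq_bot_iff]
    refine (Subgroup.commutator_mono hD2 hD2).trans ?_
    rw [le_bot_iff, Subgroup.commutator_eq_bot_iff_le_centralizer]
    rintro _ ⟨a, ha, rfl⟩
    rw [Subgroup.mem_centralizer_iff]
    rintro _ ⟨b, hb, rfl⟩
    have ha' : a ∈ Subgroup.center ↥Q := ha
    have h := Subgroup.mem_center_iff.mp ha' b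
    show (b : S) * (a : S) = (a : S) * (b : S)
    exact congrArg Subtype.val h
  refine ⟨⟨n, hn, hScard⟩, hD3, ?_⟩
  intro x
  have hx : x ^ p ∈ Q := pow_mem p Q hQi x
  have hy : (⟨x ^ p, hx⟩ : ↥Q) ^ p ∈ Subgroup.center ↥Q := pow_mem_center p hQ _
  have hz : ((⟨x ^ p, hx⟩ : ↥Q) ^ p) ^ p = 1 := by
    have h1 : (⟨_, hy⟩ : ↥(Subgroup.center ↥Q)) ^ Nat.card ↥(Subgroup.center ↥Q) = 1 :=
      pow_card_eq_one'
    rw [hQ.2] at h1
    exact congrArg Subtype.val h1
  have h3 : ((x ^ p) ^ p) ^ p = 1 := congrArg Subtype.val hz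
  rw [show p ^ 3 = p * p * p from by ring, pow_mul, pow_mul]
  exact h3

end Cfsg.Agent.S3809
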