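import Cfsg.Statements.S3810
import Cfsg.Agent.S3809

set_option autoImplicit false
open Cfsg
open scoped commutatorElement

namespace Cfsg.Agent.S3810

theorem lemmaX {E : Type*} [Group E] [Finite E] (p n : ℕ) [Fact p.Prime]
    (hE : Cfsg.IsExtraspecial p E) (hcard : Nat.card E = p ^ (2 * n + 1)) (B : Subgroup E)
    (hB : ∀ u ∈ B, ∀ v ∈ B, u * v = v * u) (hidx : B.index ∣ p) : n ≤ 1 := by
  classical
  have hp : p.Prime := Fact.out
  have hcenE : ∀ a b : E, ⁅a, b⁆ ∈ Subgroup.center E := by
    intro a b
    rw [← hE.1.2.2, commutator_def]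
    exact Subgroup.commutator_mem_commutator (Subgroup.mem_top a) (Subgroup.mem_top b)
  have hZc : Nat.card (Subgroup.center E) = p := hE.2
  rcases (Nat.dvd_prime hp).mp hidx with h1 | h1
  · exfalso
    have hBtop : B = ⊤ := Subgroup.index_eq_one.mp h1
    have hcomm : commutator E = ⊥ := by
      rw [eq_bot_iff, commutator_def, Subgroup.commutator_le]
      intro a _ b _
      rw [Subgroup.mem_bot, commutatorElement_eq_one_iff_mul_comm]
      exact hB a (by rw [hBtop]; trivial) b (by rw [hBtop]; trivial)
    rw [hE.1.2.2] at hcomm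
    rw [hcomm, Subgroup.card_bot] at hZc
    exact hp.one_lt.ne hZc
  · obtain ⟨x, hx⟩ : ∃ x : E, x ∉ B := by
      by_contra hall
      push Not at hall
      have : B = ⊤ := (Subgroup.eq_top_iff' (H := B)).mpr hall
      rw [this, Subgroup.index_top] at h1
      exact hp.one_lt.ne h1
    have hBcard : Nat.card B * p = p ^ (2 * n + 1) := by
      have h := Subgroup.card_mul_index B
      rw [h1, hcard] at h
      exact h
    have hBcard' : Nat.card B = p ^ (2 * n) := by
      rw [pow_succ] at hBcard
      exact Nat.eq_of_mul_eq_mul_right hp.pos hBcard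
    let φ : E →* E := MonoidHom.mk' (fun h => ⁅x, h⁆)
      (fun a b => Cfsg.Agent.S4585.comm_mul_right x a b (hcenE _ _))
    let ψ : ↥B →* E := φ.comp B.subtype
    have hrange : ψ.range ≤ Subgroup.center E := by
      rintro _ ⟨b, rfl⟩
      exact hcenE x b
    have hr : Nat.card ψ.range ≤ p := by
      have := Subgroup.card_le_of_le hrange
      rwa [hZc] at this
    have hkercen : ∀ b : ↥B, b ∈ ψ.ker → (b : E) ∈ Subgroup.center E := by
      intro b hb
      have hxb : x * (b : E) = (b : E) * x :=
        commutatorElement_eq_one_iff_mul_comm.mp (MonoidHom.mem_ker.mp hb)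
      have hBle : B ≤ Subgroup.centralizer ({(b : E)} : Set E) := by
        intro u hu
        rw [Subgroup.mem_centralizer_iff]
        intro h hh
        rw [Set.mem_singleton_iff.mp hh]
        exact hB _ b.2 u hu
      have hxC : x ∈ Subgroup.centralizer ({(b : E)} : Set E) := by
        rw [Subgroup.mem_centralizer_iff]
        intro h hh
        rw [Set.mem_singleton_iff.mp hh]
        exact hxb.symm
      have hlt : B < Subgroup.centralizer ({(b : E)} : Set E) := by
        rw [SetLike.lt_iff_le_and_exists]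
        exact ⟨hBle, x, hxC, hx⟩
      have hCidx : (Subgroup.centralizer ({(b : E)} : Set E)).index ∣ p := by
        rw [← h1]; exact Subgroup.index_dvd_of_le hBle
      have hCtop : Subgroup.centralizer ({(b : E)} : Set E) = ⊤ := by
        rcases (Nat.dvd_prime hp).mp hCidx with h2 | h2
        · exact Subgroup.index_eq_one.mp h2
        · exfalso
          have hc1 := Subgroup.card_mul_index (Subgroup.centralizer ({(b : E)} : Set E))
          rw [h2, hcard, pow_succ] at hc1
          have hc2 := Nat.eq_of_mul_eq_mul_right hp.pos hc1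
          have hlt' := Cfsg.Agent.S4585.card_lt hlt
          rw [hc2, hBcard'] at hlt'
          exact lt_irrefl _ hlt'
      rw [Subgroup.mem_center_iff]
      intro g
      have hg : g ∈ Subgroup.centralizer ({(b : E)} : Set E) := by rw [hCtop]; trivial
      exact (Subgroup.mem_centralizer_iff.mp hg (b : E) (Set.mem_singleton _)).symm
    have hk : Nat.card ψ.ker ≤ p := by
      let f : ↥ψ.ker → ↥(Subgroup.center E) := fun b => ⟨((b : ↥B) : E), hkercen b.1 b.2⟩
      have hf : Function.Injective f := by
        intro b₁ b₂ h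
        have h0 : (f b₁).1 = (f b₂).1 := congrArg Subtype.val h
        have h' : ((b₁ : ↥B) : E) = ((b₂ : ↥B) : E) := h0
        exact Subtype.ext (Subtype.ext h')
      have := Nat.card_le_card_of_injective f hf
      rwa [hZc] at this
    have hprod : Nat.card ψ.ker * Nat.card ψ.range = Nat.card ↥B := by
      rw [← Subgroup.index_ker, Subgroup.card_mul_index]
    have hle : p ^ (2 * n) ≤ p * p := by
      rw [← hBcard', ← hprod]
      exact Nat.mul_le_mul hk hr
    have h2n : 2 * n ≤ 2 := by
      rw [← pow_two] at hle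
      exact (Nat.pow_le_pow_iff_right hp.one_lt).mp hle
    omega

/-- Let S be a finite p-group with an extraspecial subgroup of index p. Then S has an abelian subgroup of index p if and only if S has order p⁴. -/
theorem result {S : Type*} [Group S] [Finite S] (p : ℕ) [Fact p.Prime] (hS : IsPGroup p S) (Q : Subgroup S) (hQ : Cfsg.IsExtraspecial p ↥Q) (hQi : Q.index = p) :
    (∃ A : Subgroup S, IsMulCommutative ↥A ∧ A.index = p) ↔ Nat.card S = p ^ 4 := by
  classical
  have hp : p.Prime := Fact.out
  obtain ⟨n, hn, hQc, hScard⟩ := Cfsg.Agent.S3809.card_eq p Q hQ hQi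
  haveI hQn : Q.Normal := Cfsg.Agent.S3809.normal_of p Q hQ hQi
  constructor
  · rintro ⟨A, hAc, hAi⟩
    haveI := hAc
    haveI hAn : A.Normal := by
      apply Subgroup.normal_of_index_eq_minFac_card
      rw [hAi, hScard, Nat.pow_minFac (by omega), hp.minFac_eq]
    have hBidx : (A.subgroupOf Q).index ∣ p := by
      have := Subgroup.relIndex_dvd_index_of_normal (H := A) (K := Q)
      rwa [hAi] at this
    have hBcomm : ∀ u ∈ A.subgroupOf Q, ∀ v ∈ A.subgroupOf Q, u * v = v * u := by
      intro u hu v hv
      have huA : (u : S) ∈ A := Subgroup.mem_subgroupOf.mp hu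
      have hvA : (v : S) ∈ A := Subgroup.mem_subgroupOf.mp hv
      have h := mul_comm' (⟨(u : S), huA⟩ : ↥A) ⟨(v : S), hvA⟩
      have h' : (u : S) * (v : S) = (v : S) * (u : S) := congrArg Subtype.val h
      exact Subtype.ext h'
    have hn1 := lemmaX p n hQ hQc (A.subgroupOf Q) hBcomm hBidx
    obtain rfl : n = 1 := by omega
    exact hScard
  · intro hS4
    have hn1 : n = 1 := by
      rw [hScard] at hS4
      have := Nat.pow_right_injective hp.two_le hS4
      omega
    subst hn1
    have hQc3 : Nat.card ↥Q = p ^ 3 := hQc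
    haveI : Group.IsNilpotent S := hS.isNilpotent
    have hQQ : ⁅Q, Q⁆ = (Subgroup.center ↥Q).map Q.subtype := by
      rw [← Subgroup.map_subtype_commutator, hQ.1.2.2]
    obtain ⟨Z', hZ'⟩ : ∃ Z' : Subgroup S, Z' = (Subgroup.center ↥Q).map Q.subtype := ⟨_, rfl⟩
    have hZcard : Nat.card ↥Z' = p := by
      rw [hZ', Subgroup.card_map_of_injective Q.subtype_injective, hQ.2]
    haveI hZn : Z'.Normal := by
      rw [hZ', ← hQQ]; infer_instance
    have hZQ : Z' ≤ Q := by
      rw [hZ']; exact Subgroup.map_subtype_le _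
    have hZcen : ∀ z ∈ Z', z ∈ Subgroup.center S := by
      have h1 : ⁅Z', (⊤ : Subgroup S)⁆ ≤ Z' := Subgroup.commutator_le_left (H₁ := Z') (H₂ := ⊤)
      have hZne : Z' ≠ ⊥ := by
        intro h
        rw [h, Subgroup.card_bot] at hZcard
        exact hp.one_lt.ne hZcard
      have h2 : ⁅Z', (⊤ : Subgroup S)⁆ ≠ Z' := Cfsg.Agent.S4585.comm_ne Z' hZne
      have h3 : ⁅Z', (⊤ : Subgroup S)⁆ < Z' := lt_of_le_of_ne h1 h2
      have h4 : Nat.card ↥⁅Z', (⊤ : Subgroup S)⁆ ∣ p := by
        rw [← hZcard]; exact Subgroup.card_dvd_of_le h1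
      have h5 : ⁅Z', (⊤ : Subgroup S)⁆ = ⊥ := by
        rcases (Nat.dvd_prime hp).mp h4 with h | h
        · exact Subgroup.eq_bot_of_card_le _ (le_of_eq h)
        · exfalso
          have hlt := Cfsg.Agent.S4585.card_lt h3
          rw [h, hZcard] at hlt
          exact lt_irrefl _ hlt
      intro z hz
      rw [Subgroup.mem_center_iff]
      intro g
      have h6 : ⁅z, g⁆ ∈ ⁅Z', (⊤ : Subgroup S)⁆ :=
        Subgroup.commutator_mem_commutator hz (Subgroup.mem_top g)
      rw [h5, Subgroup.mem_bot, commutatorElement_eq_one_iff_mul_comm] at h6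
      exact h6.symm
    have hZltQ : Z' < Q := by
      refine lt_of_le_of_ne hZQ ?_
      intro h
      rw [h, hQc3] at hZcard
      have := Nat.pow_right_injective hp.two_le (hZcard.trans (pow_one p).symm)
      omega
    obtain ⟨a, haQ, haZ, hac⟩ : ∃ a : S, a ∈ Q ∧ a ∉ Z' ∧ ∀ s : S, ⁅a, s⁆ ∈ Z' := by
      by_contra hno
      push Not at hno
      have key : ∀ i : ℕ, ∃ a : S, a ∈ (⊤ : Subgroup S).lowerCentralSeries i ∧ a ∈ Q ∧ a ∉ Z' := by
        intro i
        induction i with
        | zero =>
          obtain ⟨a, haQ, haZ⟩ := SetLike.exists_of_lt hZltQ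
          exact ⟨a, Subgroup.mem_top a, haQ, haZ⟩
        | succ i ih =>
          obtain ⟨a, haL, haQ, haZ⟩ := ih
          obtain ⟨s, hs⟩ := hno a haQ haZ
          refine ⟨⁅a, s⁆, Subgroup.commutator_mem_commutator haL (Subgroup.mem_top s), ?_, hs⟩
          exact Subgroup.commutator_le_left (H₁ := Q) (H₂ := ⊤)
            (Subgroup.commutator_mem_commutator haQ (Subgroup.mem_top s))
      obtain ⟨a, haL, -, haZ⟩ := key (Group.nilpotencyClass S)
      rw [Subgroup.lowerCentralSeries_nilpotencyClass, Subgroup.mem_bot] at haL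
      apply haZ
      rw [haL]; exact Z'.one_mem
    let φ : S →* S := MonoidHom.mk' (fun s => ⁅a, s⁆)
      (fun u v => Cfsg.Agent.S4585.comm_mul_right a u v (hZcen _ (hac v)))
    have hker : ∀ s : S, s ∈ φ.ker ↔ a * s = s * a := by
      intro s
      rw [MonoidHom.mem_ker]
      exact commutatorElement_eq_one_iff_mul_comm
    have hrange : φ.range ≤ Z' := by
      rintro _ ⟨s, rfl⟩
      exact hac s
    have hidx : φ.ker.index ∣ p := by
      rw [Subgroup.index_ker, ← hZcard]
      exact Subgroup.card_dvd_of_le hrange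
    have hidx1 : φ.ker.index ≠ 1 := by
      intro h1
      have htop : φ.ker = ⊤ := Subgroup.index_eq_one.mp h1
      apply haZ
      have hacen : (⟨a, haQ⟩ : ↥Q) ∈ Subgroup.center ↥Q := by
        rw [Subgroup.mem_center_iff]
        intro g
        have hg : (g : S) ∈ φ.ker := by rw [htop]; trivial
        have hag := (hker g).mp hg
        exact Subtype.ext hag.symm
      rw [hZ']
      exact Subgroup.mem_map.mpr ⟨⟨a, haQ⟩, hacen, rfl⟩
    have hidxp : φ.ker.index = p := by
      rcases (Nat.dvd_prime hp).mp hidx with h | h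
      · exact absurd h hidx1
      · exact h
    have hTcard : Nat.card ↥φ.ker = p ^ 3 := by
      have h := Subgroup.card_mul_index φ.ker
      rw [hidxp, hScard] at h
      have h' : Nat.card ↥φ.ker * p = p ^ 3 * p := by rw [h]; ring
      exact Nat.eq_of_mul_eq_mul_right hp.pos h'
    have hWT : Z' ⊔ Subgroup.zpowers a ≤ φ.ker := by
      refine sup_le ?_ (Subgroup.zpowers_le.mpr ((hker a).mpr rfl))
      intro z hz
      exact (hker z).mpr (Subgroup.mem_center_iff.mp (hZcen z hz) a)
    have hZW : Z' < Z' ⊔ Subgroup.zpowers a := by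
      rw [SetLike.lt_iff_le_and_exists]
      exact ⟨le_sup_left, a, Subgroup.mem_sup_right (Subgroup.mem_zpowers a), haZ⟩
    have hWcard : p ^ 2 ≤ Nat.card ↥(Z' ⊔ Subgroup.zpowers a) :=
      Cfsg.Agent.S4585.card_step p hp hS4 Z' _ hZW 1 (le_of_eq (by rw [hZcard, pow_one]))
    have hWcen : ∀ w ∈ Z' ⊔ Subgroup.zpowers a, ∀ t ∈ φ.ker, w * t = t * w := by
      have hle : Z' ⊔ Subgroup.zpowers a ≤ Subgroup.centralizer (φ.ker : Set S) := by
        refine sup_le ?_ (Subgroup.zpowers_le.mpr ?_)
        · intro z hz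
          exact Subgroup.center_le_centralizer _ (hZcen z hz)
        · rw [Subgroup.mem_centralizer_iff]
          intro t ht
          exact ((hker t).mp ht).symm
      intro w hw t ht
      exact (Subgroup.mem_centralizer_iff.mp (hle hw) t ht).symm
    have hTcomm : IsMulCommutative ↥φ.ker := by
      have hle : (Z' ⊔ Subgroup.zpowers a).subgroupOf φ.ker ≤ Subgroup.center ↥φ.ker := by
        intro w hw
        rw [Subgroup.mem_center_iff]
        intro g
        exact Subtype.ext (hWcen _ (Subgroup.mem_subgroupOf.mp hw) _ g.2).symm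
      have hc1 : p ^ 2 ≤ Nat.card ↥(Subgroup.center ↥φ.ker) := by
        have h1 := Subgroup.card_le_of_le hle
        have h2 : Nat.card ↥((Z' ⊔ Subgroup.zpowers a).subgroupOf φ.ker)
            = Nat.card ↥(Z' ⊔ Subgroup.zpowers a) :=
          Nat.card_congr (Subgroup.subgroupOfEquivOfLe hWT).toEquiv
        rw [h2] at h1
        exact hWcard.trans h1
      have hc2 := Subgroup.card_mul_index (Subgroup.center ↥φ.ker)
      rw [hTcard] at hc2
      have hidxc : (Subgroup.center ↥φ.ker).index = 1 ∨ (Subgroup.center ↥φ.ker).index = p := by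
        have hd : (Subgroup.center ↥φ.ker).index ∣ p ^ 3 := Dvd.intro_left _ hc2
        obtain ⟨j, hj, hjeq⟩ := (Nat.dvd_prime_pow hp).mp hd
        have hjle : j ≤ 1 := by
          by_contra hj2
          push Not at hj2
          have h3 : p ^ 2 ≤ (Subgroup.center ↥φ.ker).index := by
            rw [hjeq]; exact Nat.pow_le_pow_right hp.pos hj2
          have h4 : p ^ 2 * p ^ 2 ≤ p ^ 3 := by
            rw [← hc2]; exact Nat.mul_le_mul hc1 h3
          have h5 : p ^ 3 * p ≤ p ^ 3 * 1 := by
            calc p ^ 3 * p = p ^ 2 * p ^ 2 := by ring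
              _ ≤ p ^ 3 := h4
              _ = p ^ 3 * 1 := (mul_one _).symm
          have h6 := Nat.le_of_mul_le_mul_left h5 (pow_pos hp.pos 3)
          have h7 := hp.two_le
          omega
        interval_cases j
        · left; simpa using hjeq
        · right; simpa using hjeq
      haveI : IsCyclic (↥φ.ker ⧸ Subgroup.center ↥φ.ker) := by
        rcases hidxc with h | h
        · haveI : Subsingleton (↥φ.ker ⧸ Subgroup.center ↥φ.ker) :=
            (Nat.card_eq_one_iff_unique.mp h).1
          infer_instance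
        · exact isCyclic_of_prime_card (p := p) h
      exact MonoidHom.isMulCommutative_of_isCyclic_of_ker_le_center
        (QuotientGroup.mk' (Subgroup.center ↥φ.ker)) (le_of_eq (QuotientGroup.ker_mk' _))
    exact ⟨φ.ker, hTcomm, hidxp⟩

end Cfsg.Agent.S3810
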