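import Cfsg.Statements.S3811
import Mathlib

set_option autoImplicit false
open Cfsg

namespace Cfsg.Agent.S3811

universe u

abbrev Nr {P : Type u} [Group P] (E : Subgroup P) : Subgroup P :=
  Subgroup.normalizer (E : Set P)

abbrev Cz {P : Type u} [Group P] (E : Subgroup P) : Subgroup P :=
  Subgroup.centralizer (E : Set P)

structure Soft (p : ℕ) {P : Type u} [Group P] (E : Subgroup P) : Prop where
  comm : ∀ a ∈ E, ∀ b ∈ E, a * b = b * a
  cent : Cz E ≤ E
  nidx : E.relIndex (Nr E) = p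

theorem arith (p k' cZ cE cN1 cN2 m n D D' : ℕ) (hp : 2 ≤ p) (hZpos : 0 < cZ)
    (hd1 : D + cZ = cE) (hd2 : D' + cZ = cN1) (hcard : cN2 * D ≤ D' * cN1)
    (c1 : p * cE = cN1) (c2 : n * cN1 = cN2) (c3 : m * cZ = cE) (hn : n = p ^ (k' + 2))
    (hm1 : m ≠ 1) : False := by
  have hm0 : m ≠ 0 := by
    intro h0
    rw [h0, zero_mul] at c3
    omega
  obtain ⟨m', rfl⟩ : ∃ m', m = m' + 2 := ⟨m - 2, by omega⟩
  have hD : D = (m' + 1) * cZ := by
    have h : D + cZ = (m' + 1) * cZ + cZ := by rw [hd1, ← c3]; ring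
    exact Nat.add_right_cancel h
  have hpn : p * p ≤ n := by
    rw [hn]
    calc p * p = p ^ 2 := (sq p).symm
      _ ≤ p ^ (k' + 2) := Nat.pow_le_pow_right (by omega) (by omega)
  have hN1pos : 0 < cN1 := by
    rw [← c1, ← c3]
    exact Nat.mul_pos (by omega) (Nat.mul_pos (by omega) hZpos)
  have h5 : n * D ≤ D' := by
    have h : n * D * cN1 ≤ D' * cN1 := by
      calc n * D * cN1 = cN2 * D := by rw [← c2]; ring
        _ ≤ D' * cN1 := hcard
    exact Nat.le_of_mul_le_mul_right h hN1pos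
  have h6 : p * p * ((m' + 1) * cZ) ≤ n * D := by
    rw [hD]; exact Nat.mul_le_mul_right _ hpn
  have h7 : p * p * ((m' + 1) * cZ) + cZ ≤ p * ((m' + 2) * cZ) := by
    calc p * p * ((m' + 1) * cZ) + cZ ≤ n * D + cZ := Nat.add_le_add_right h6 _
      _ ≤ D' + cZ := Nat.add_le_add_right h5 _
      _ = cN1 := hd2
      _ = p * cE := c1.symm
      _ = p * ((m' + 2) * cZ) := by rw [c3]
  have h8 : (m' + 2) * cZ ≤ p * ((m' + 1) * cZ) := by
    calc (m' + 2) * cZ ≤ 2 * ((m' + 1) * cZ) := by nlinarith [Nat.zero_le (m' * cZ)]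
      _ ≤ p * ((m' + 1) * cZ) := Nat.mul_le_mul_right _ hp
  have h9 : p * ((m' + 2) * cZ) ≤ p * p * ((m' + 1) * cZ) := by
    calc p * ((m' + 2) * cZ) ≤ p * (p * ((m' + 1) * cZ)) := Nat.mul_le_mul_left _ h8
      _ = p * p * ((m' + 1) * cZ) := by ring
  linarith

theorem qcomm {G : Type u} [Group G] (T : Subgroup G) [T.Normal] (x y : G) :
    QuotientGroup.mk' T x * QuotientGroup.mk' T y = QuotientGroup.mk' T y * QuotientGroup.mk' T x ↔
      x * y * x⁻¹ * y⁻¹ ∈ T := by
  rw [← QuotientGroup.eq_one_iff (N := T)]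
  have h : ((x * y * x⁻¹ * y⁻¹ : G) : G ⧸ T) =
      QuotientGroup.mk' T x * QuotientGroup.mk' T y * (QuotientGroup.mk' T x)⁻¹ *
        (QuotientGroup.mk' T y)⁻¹ := rfl
  rw [h]
  generalize QuotientGroup.mk' T x = a
  generalize QuotientGroup.mk' T y = b
  constructor
  · intro h1; rw [h1]; group
  · intro h1
    have h2 : a * b * a⁻¹ = b := mul_inv_eq_one.mp h1
    exact mul_inv_eq_iff_eq_mul.mp h2

section Basic
variable {P : Type u} [Group P] [Finite P]

theorem nz (H : Subgroup P) (g : P) (h : ∀ x ∈ H, g * x * g⁻¹ ∈ H) : g ∈ Nr H := by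
  rw [Subgroup.mem_normalizer_iff]
  intro x
  refine ⟨h x, fun hx => ?_⟩
  let φ : H → H := fun y => ⟨g * y * g⁻¹, h y y.2⟩
  have hinj : Function.Injective φ := by
    intro a b hab
    have h1 : g * (a : P) * g⁻¹ = g * (b : P) * g⁻¹ := congrArg Subtype.val hab
    exact Subtype.ext (mul_left_cancel (mul_right_cancel h1))
  obtain ⟨y, hy⟩ := Finite.surjective_of_injective hinj ⟨g * x * g⁻¹, hx⟩
  have h1 : g * (y : P) * g⁻¹ = g * x * g⁻¹ := congrArg Subtype.val hy
  have h2 : (y : P) = x := mul_left_cancel (mul_right_cancel h1)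
  rw [← h2]; exact y.2

theorem relcard (H K : Subgroup P) (h : H ≤ K) : H.relIndex K * Nat.card H = Nat.card K := by
  have h1 := Subgroup.index_mul_card (H.subgroupOf K)
  rw [Nat.card_congr (Subgroup.subgroupOfEquivOfLe h).toEquiv] at h1
  exact h1

theorem g1 {p : ℕ} (hp : p.Prime) (D N : Subgroup P) (hDN : D ≤ N)
    (h : D.relIndex N = p) (H : Subgroup P) (hDH : D ≤ H) : N ≤ H ∨ H ⊓ N ≤ D := by
  have h1 : D.relIndex (H ⊓ N) * (H ⊓ N).relIndex N = D.relIndex N :=
    Subgroup.relIndex_mul_relIndex D (H ⊓ N) N (le_inf hDH hDN) inf_le_right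
  rw [h] at h1
  have h2 : D.relIndex (H ⊓ N) ∣ p := Dvd.intro _ h1
  rcases (Nat.dvd_prime hp).mp h2 with h3 | h3
  · right; exact Subgroup.relIndex_eq_one.mp h3
  · left
    rw [h3] at h1
    have h4 : (H ⊓ N).relIndex N = 1 :=
      Nat.eq_of_mul_eq_mul_left hp.pos (by rw [h1, mul_one])
    exact (Subgroup.relIndex_eq_one.mp h4).trans inf_le_left

theorem l1 {p : ℕ} [Fact p.Prime] (hP : IsPGroup p P) (H K : Subgroup P) (hHK : H ≤ K)
    (hne : ¬ K ≤ H) : ∃ g ∈ K, g ∉ H ∧ g ∈ Nr H := by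
  haveI : Group.IsNilpotent ↥K := (hP.to_subgroup K).isNilpotent
  have hnc := Group.normalizerCondition_of_isNilpotent (G := ↥K)
  have hlt : H.subgroupOf K < ⊤ := by
    rw [lt_top_iff_ne_top]
    intro h
    exact hne (Subgroup.subgroupOf_eq_top.mp h)
  have h2 := hnc (H.subgroupOf K) hlt
  obtain ⟨k, hk1, hk2⟩ := SetLike.exists_of_lt h2
  refine ⟨k, k.2, fun h => hk2 (Subgroup.mem_subgroupOf.mpr h), ?_⟩
  apply nz
  intro x hx
  have h3 := (Subgroup.mem_normalizer_iff.mp hk1 ⟨x, hHK hx⟩).mp (Subgroup.mem_subgroupOf.mpr hx)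
  exact Subgroup.mem_subgroupOf.mp h3

theorem l2 {p : ℕ} [Fact p.Prime] (hP : IsPGroup p P) (D K : Subgroup P) (hDK : D ≤ K)
    (hne : ¬ K ≤ D) (h : D.relIndex (Nr D) = p) : Nr D ≤ K := by
  obtain ⟨g, hgK, hgD, hgN⟩ := l1 hP D K hDK hne
  rcases g1 (Fact.out : p.Prime) D _ Subgroup.le_normalizer h K hDK with h1 | h1
  · exact h1
  · exact absurd (h1 (Subgroup.mem_inf.mpr ⟨hgK, hgN⟩)) hgD

theorem soft_out {p : ℕ} [Fact p.Prime] (E : Subgroup P) (hE : Soft p E) :
    ∃ x0 ∈ Nr E, x0 ∉ E := by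
  by_contra hcon
  push_neg at hcon
  have h1 : E.relIndex (Nr E) = 1 := Subgroup.relIndex_eq_one.mpr hcon
  rw [hE.nidx] at h1
  exact (Fact.out : p.Prime).one_lt.ne' h1

theorem soft_one_lt {p : ℕ} [Fact p.Prime] (E : Subgroup P) (hE : Soft p E) :
    ∃ e ∈ E, e ≠ 1 := by
  by_contra hcon
  push_neg at hcon
  obtain ⟨x0, hx0N, hx0E⟩ := soft_out E hE
  apply hx0E
  apply hE.cent
  rw [Subgroup.mem_centralizer_iff]
  intro e he
  rw [hcon e he]; simp

theorem ab0 {p : ℕ} [Fact p.Prime] (E : Subgroup P) (hE : Soft p E)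
    (x y : P) (hx : x ∈ Nr E) (hy : y ∈ Nr E) : x * y * x⁻¹ * y⁻¹ ∈ E := by
  have hc : Nat.card (↥(Nr E) ⧸ E.subgroupOf (Nr E)) = p := by
    rw [← Subgroup.index_eq_card]; exact hE.nidx
  haveI : IsCyclic (↥(Nr E) ⧸ E.subgroupOf (Nr E)) := isCyclic_of_prime_card hc
  have hcm : ∀ a b : ↥(Nr E) ⧸ E.subgroupOf (Nr E), a * b = b * a := fun a b => by
    letI := IsCyclic.commGroup (α := ↥(Nr E) ⧸ E.subgroupOf (Nr E))
    exact mul_comm a b
  have h1 := (qcomm (E.subgroupOf (Nr E)) (⟨x, hx⟩ : ↥(Nr E)) ⟨y, hy⟩).mp (hcm _ _)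
  exact Subgroup.mem_subgroupOf.mp h1

theorem g2 {p : ℕ} [Fact p.Prime] (E : Subgroup P) (hE : Soft p E)
    (g : P) (hg : g ∉ Nr E) (hgN : g ∈ Nr (Nr E))
    (c : P) (hc1 : ∀ e ∈ E, e * c = c * e)
    (hc2 : ∀ e ∈ E, (g * e * g⁻¹) * c = c * (g * e * g⁻¹)) :
    ∀ x ∈ Nr E, x * c = c * x := by
  have hH : E ≤ Subgroup.centralizer ({c} : Set P) := by
    intro e he
    rw [Subgroup.mem_centralizer_iff]
    intro h hh
    rw [Set.mem_singleton_iff.mp hh]
    exact (hc1 e he).symm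
  rcases g1 (Fact.out : p.Prime) E _ Subgroup.le_normalizer hE.nidx _ hH with h1 | h1
  · intro x hx
    exact (Subgroup.mem_centralizer_iff.mp (h1 hx) c (Set.mem_singleton c)).symm
  · exfalso
    apply hg
    apply nz
    intro e he
    apply h1
    refine Subgroup.mem_inf.mpr ⟨?_, ?_⟩
    · rw [Subgroup.mem_centralizer_iff]
      intro h hh
      rw [Set.mem_singleton_iff.mp hh]
      exact (hc2 e he).symm
    · exact (Subgroup.mem_normalizer_iff.mp hgN e).mp (Subgroup.le_normalizer he)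

theorem cl2 {p : ℕ} [Fact p.Prime] (hP : IsPGroup p P) (E : Subgroup P) (hE : Soft p E)
    (hN : Nr E ≠ ⊤) (x y : P) (hx : x ∈ Nr E) (hy : y ∈ Nr E) :
    ∀ z ∈ Nr E, z * (x * y * x⁻¹ * y⁻¹) = (x * y * x⁻¹ * y⁻¹) * z := by
  obtain ⟨g, -, hgN, hgNN⟩ := l1 hP (Nr E) ⊤ le_top (fun h => hN (top_le_iff.mp h))
  have hgi : g⁻¹ ∈ Nr (Nr E) := Subgroup.inv_mem _ hgNN
  have hx' : g⁻¹ * x * g ∈ Nr E := by
    have h := (Subgroup.mem_normalizer_iff.mp hgi x).mp hx
    rwa [inv_inv] at h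
  have hy' : g⁻¹ * y * g ∈ Nr E := by
    have h := (Subgroup.mem_normalizer_iff.mp hgi y).mp hy
    rwa [inv_inv] at h
  have hc : x * y * x⁻¹ * y⁻¹ ∈ E := ab0 E hE x y hx hy
  have hc' : (g⁻¹ * x * g) * (g⁻¹ * y * g) * (g⁻¹ * x * g)⁻¹ * (g⁻¹ * y * g)⁻¹ ∈ E :=
    ab0 E hE _ _ hx' hy'
  refine g2 E hE g hgN hgNN (x * y * x⁻¹ * y⁻¹) ?_ ?_
  · intro e he; exact hE.comm e he _ hc
  · intro e he
    obtain ⟨c', hc'E, hc'eq⟩ : ∃ c' ∈ E, x * y * x⁻¹ * y⁻¹ = g * c' * g⁻¹ :=
      ⟨_, hc', by group⟩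
    rw [hc'eq]
    have h1 := hE.comm e he c' hc'E
    calc g * e * g⁻¹ * (g * c' * g⁻¹) = g * (e * c') * g⁻¹ := by group
      _ = g * (c' * e) * g⁻¹ := by rw [h1]
      _ = g * c' * g⁻¹ * (g * e * g⁻¹) := by group

open Classical in
noncomputable def rep (E : Subgroup P) (s : P) : P :=
  if h : ∃ g' ∈ Nr (Nr E), ∃ e' ∈ E, e' ∉ Cz (Nr E) ∧ g' * e' * g'⁻¹ = s then
    Classical.choose h else 1

noncomputable def psi (E : Subgroup P) (a : P × P) : P × P :=
  (a.1 * a.2 * a.1⁻¹, (rep E (a.1 * a.2 * a.1⁻¹))⁻¹ * a.1)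

theorem cnt {p : ℕ} [Fact p.Prime] (hP : IsPGroup p P) (E : Subgroup P) (hE : Soft p E)
    (hN : Nr E ≠ ⊤) : (Nr E).relIndex (Nr (Nr E)) = p := by
  have hp : p.Prime := Fact.out
  have hEN1 : E ≤ Nr E := Subgroup.le_normalizer
  have hN12 : Nr E ≤ Nr (Nr E) := Subgroup.le_normalizer
  have hZE : Cz (Nr E) ≤ E := (Subgroup.centralizer_le hEN1).trans hE.cent
  obtain ⟨x0, hx0N, hx0E⟩ := soft_out E hE
  have hEZ : ¬ E ≤ Cz (Nr E) := by
    intro h
    apply hx0E
    apply hE.cent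
    rw [Subgroup.mem_centralizer_iff]
    intro e he
    exact (Subgroup.mem_centralizer_iff.mp (h he) x0 hx0N).symm
  have hA : ∀ g ∈ Nr (Nr E), ∀ e ∈ E, g * e * g⁻¹ ∈ E → g * e * g⁻¹ ∉ Cz (Nr E) →
      g ∈ Nr E := by
    intro g hg e he hs hsZ
    by_contra hgN
    apply hsZ
    rw [Subgroup.mem_centralizer_iff]
    intro x hx
    refine g2 E hE g hgN hg (g * e * g⁻¹) ?_ ?_ x hx
    · intro e' he'; exact hE.comm e' he' _ hs
    · intro e' he'
      have h1 := hE.comm e' he' e he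
      calc g * e' * g⁻¹ * (g * e * g⁻¹) = g * (e' * e) * g⁻¹ := by group
        _ = g * (e * e') * g⁻¹ := by rw [h1]
        _ = g * e * g⁻¹ * (g * e' * g⁻¹) := by group
  have hZn : ∀ g ∈ Nr (Nr E), ∀ z, g * z * g⁻¹ ∈ Cz (Nr E) → z ∈ Cz (Nr E) := by
    intro g hg z hz
    rw [Subgroup.mem_centralizer_iff] at hz ⊢
    intro h hh
    have h1 : g * h * g⁻¹ ∈ Nr E := (Subgroup.mem_normalizer_iff.mp hg h).mp hh
    have h2 := hz _ h1
    have h3 : g * (h * z) * g⁻¹ = g * (z * h) * g⁻¹ := by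
      calc g * (h * z) * g⁻¹ = g * h * g⁻¹ * (g * z * g⁻¹) := by group
        _ = g * z * g⁻¹ * (g * h * g⁻¹) := h2
        _ = g * (z * h) * g⁻¹ := by group
    exact mul_left_cancel (mul_right_cancel h3)
  have hrep : ∀ g ∈ Nr (Nr E), ∀ e ∈ E, e ∉ Cz (Nr E) →
      (rep E (g * e * g⁻¹))⁻¹ * g ∈ Nr E := by
    intro g hg e he heZ
    have hex : ∃ g' ∈ Nr (Nr E), ∃ e' ∈ E, e' ∉ Cz (Nr E) ∧ g' * e' * g'⁻¹ = g * e * g⁻¹ :=
      ⟨g, hg, e, he, heZ, rfl⟩
    have hr : rep E (g * e * g⁻¹) = Classical.choose hex := by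
      unfold rep
      exact dif_pos hex
    obtain ⟨hg', e', he', he'Z, heq⟩ := Classical.choose_spec hex
    rw [hr]
    generalize Classical.choose hex = g' at hg' heq ⊢
    have h1 : (g'⁻¹ * g) * e * (g'⁻¹ * g)⁻¹ = e' := by
      have h2 : (g'⁻¹ * g) * e * (g'⁻¹ * g)⁻¹ = g'⁻¹ * (g * e * g⁻¹) * g' := by group
      rw [h2, ← heq]; group
    apply hA (g'⁻¹ * g) (Subgroup.mul_mem _ (Subgroup.inv_mem _ hg') hg) e he
    · rw [h1]; exact he'
    · rw [h1]; exact he'Z
  have hcard := Set.ncard_le_ncard_of_injOn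
    (s := ((Nr (Nr E) : Subgroup P) : Set P) ×ˢ ((E : Set P) \ (Cz (Nr E) : Set P)))
    (t := ((Nr E : Set P) \ (Cz (Nr E) : Set P)) ×ˢ ((Nr E : Subgroup P) : Set P))
    (psi E)
    (by
      rintro ⟨g, e⟩ ⟨hg, he, heZ⟩
      refine ⟨⟨?_, ?_⟩, hrep g hg e he heZ⟩
      · exact (Subgroup.mem_normalizer_iff.mp hg e).mp (hEN1 he)
      · intro hz
        exact heZ (hZn g hg e hz))
    (by
      rintro ⟨g, e⟩ _ ⟨g', e'⟩ _ h
      have h1 : g * e * g⁻¹ = g' * e' * g'⁻¹ := congrArg Prod.fst h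
      have h2 : (rep E (g * e * g⁻¹))⁻¹ * g = (rep E (g' * e' * g'⁻¹))⁻¹ * g' :=
        congrArg Prod.snd h
      rw [h1] at h2
      have h3 : g = g' := mul_left_cancel h2
      subst h3
      have h4 : e = e' := mul_left_cancel (mul_right_cancel h1)
      rw [h4])
    (Set.toFinite _)
  rw [Set.ncard_prod, Set.ncard_prod] at hcard
  have hd1 : ((E : Set P) \ (Cz (Nr E) : Set P)).ncard + (Cz (Nr E) : Set P).ncard =
      (E : Set P).ncard :=
    Set.ncard_sdiff_add_ncard_of_subset (fun x hx => hZE hx) (Set.toFinite _)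
  have hd2 : ((Nr E : Set P) \ (Cz (Nr E) : Set P)).ncard + (Cz (Nr E) : Set P).ncard =
      (Nr E : Set P).ncard :=
    Set.ncard_sdiff_add_ncard_of_subset (fun x hx => hEN1 (hZE hx)) (Set.toFinite _)
  have e1 : (E : Set P).ncard = Nat.card E := rfl
  have e2 : (Nr E : Set P).ncard = Nat.card (Nr E) := rfl
  have e3 : (Cz (Nr E) : Set P).ncard = Nat.card (Cz (Nr E)) := rfl
  have e4 : ((Nr (Nr E) : Subgroup P) : Set P).ncard = Nat.card (Nr (Nr E)) := rfl
  rw [e1, e3] at hd1
  rw [e2, e3] at hd2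
  rw [e4, e2] at hcard
  have c1 := relcard E (Nr E) hEN1
  rw [hE.nidx] at c1
  have c2 := relcard (Nr E) (Nr (Nr E)) hN12
  have c3 := relcard (Cz (Nr E)) E hZE
  have hZpos : 0 < Nat.card (Cz (Nr E)) := Nat.card_pos
  obtain ⟨k, hk⟩ := (hP.to_subgroup (Nr (Nr E))).index ((Nr E).subgroupOf (Nr (Nr E)))
  have hk' : (Nr E).relIndex (Nr (Nr E)) = p ^ k := hk
  have hm1 : (Cz (Nr E)).relIndex E ≠ 1 := fun h => hEZ (Subgroup.relIndex_eq_one.mp h)
  rcases k with _ | _ | k'
  · exfalso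
    rw [pow_zero] at hk'
    have h1 : Nr (Nr E) ≤ Nr E := Subgroup.relIndex_eq_one.mp hk'
    obtain ⟨g, -, hg1, hg2⟩ := l1 hP (Nr E) ⊤ le_top (fun h => hN (top_le_iff.mp h))
    exact hg1 (h1 hg2)
  · rw [hk']; simp
  · exfalso
    exact arith p k' _ _ _ _ _ _ _ _ hp.two_le hZpos hd1 hd2 hcard c1 c2 c3 hk' hm1

end Basic

section Quot
variable {P : Type u} [Group P] [Finite P] (T : Subgroup P) [T.Normal]

theorem q_comap_map (K : Subgroup P) (hTK : T ≤ K) :
    (K.map (QuotientGroup.mk' T)).comap (QuotientGroup.mk' T) = K :=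
  Subgroup.comap_map_eq_self (by rw [QuotientGroup.ker_mk']; exact hTK)

theorem q_nr (K : Subgroup P) (hTK : T ≤ K) :
    (Nr (K.map (QuotientGroup.mk' T))).comap (QuotientGroup.mk' T) = Nr K := by
  have h := Subgroup.comap_normalizer_eq_of_surjective (K.map (QuotientGroup.mk' T))
    (QuotientGroup.mk'_surjective T)
  rw [q_comap_map T K hTK] at h
  exact h

theorem q_relIndex (K L : Subgroup P) (hTK : T ≤ K) :
    (K.map (QuotientGroup.mk' T)).relIndex (L.map (QuotientGroup.mk' T)) = K.relIndex L := by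
  have h := Subgroup.relIndex_comap (K.map (QuotientGroup.mk' T)) (QuotientGroup.mk' T) L
  rw [q_comap_map T K hTK] at h
  exact h.symm

theorem q_nr_map (K : Subgroup P) (hTK : T ≤ K) :
    Nr (K.map (QuotientGroup.mk' T)) = (Nr K).map (QuotientGroup.mk' T) := by
  rw [← q_nr T K hTK,
    Subgroup.map_comap_eq_self_of_surjective (QuotientGroup.mk'_surjective T)]

theorem q_nidx (K : Subgroup P) (hTK : T ≤ K) :
    (K.map (QuotientGroup.mk' T)).relIndex (Nr (K.map (QuotientGroup.mk' T))) =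
      K.relIndex (Nr K) := by
  rw [q_nr_map T K hTK, q_relIndex T K (Nr K) hTK]

theorem q_index (K : Subgroup P) (hTK : T ≤ K) :
    (K.map (QuotientGroup.mk' T)).index = K.index := by
  have h := Subgroup.index_comap_of_surjective (K.map (QuotientGroup.mk' T))
    (QuotientGroup.mk'_surjective T)
  rw [q_comap_map T K hTK] at h
  exact h.symm

theorem q_ne_top (K : Subgroup P) (hTK : T ≤ K) (hK : K ≠ ⊤) :
    K.map (QuotientGroup.mk' T) ≠ ⊤ := by
  intro h
  apply hK
  rw [← q_comap_map T K hTK, h, Subgroup.comap_top]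

theorem q_card (hT : T ≠ ⊥) : Nat.card (P ⧸ T) < Nat.card P := by
  have h1 := Subgroup.card_eq_card_quotient_mul_card_subgroup T
  have h2 : 1 < Nat.card T := by
    haveI : Nontrivial T := (Subgroup.nontrivial_iff_ne_bot T).mpr hT
    exact Finite.one_lt_card
  have h3 : 0 < Nat.card (P ⧸ T) := Nat.card_pos
  rw [h1]
  nlinarith

theorem qs {p : ℕ} (F : Subgroup P) (hTF : T ≤ F)
    (hc : ∀ x ∈ F, ∀ y ∈ F, x * y * x⁻¹ * y⁻¹ ∈ T)
    (hs : ∀ x, (∀ f ∈ F, x * f * x⁻¹ * f⁻¹ ∈ T) → x ∈ F)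
    (hi : F.relIndex (Nr F) = p) : Soft p (F.map (QuotientGroup.mk' T)) := by
  refine ⟨?_, ?_, ?_⟩
  · rintro _ ⟨x, hx, rfl⟩ _ ⟨y, hy, rfl⟩
    exact (qcomm T x y).mpr (hc x hx y hy)
  · intro z hz
    obtain ⟨x, rfl⟩ := QuotientGroup.mk'_surjective T z
    refine Subgroup.mem_map_of_mem _ (hs x ?_)
    intro f hf
    rw [Subgroup.mem_centralizer_iff] at hz
    have h1 := hz (QuotientGroup.mk' T f) (Subgroup.mem_map_of_mem _ hf)
    exact (qcomm T x f).mp h1.symm
  · rw [q_nidx T F hTF]; exact hi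

theorem ab {p : ℕ} [Fact p.Prime] (E : Subgroup P) (hE : Soft p E)
    (h : ∀ x ∈ Nr E, ∀ e ∈ E, x * e * x⁻¹ * e⁻¹ ∈ T) :
    ∀ x ∈ Nr E, ∀ y ∈ Nr E, x * y * x⁻¹ * y⁻¹ ∈ T := by
  obtain ⟨x0, hx0N, hx0E⟩ := soft_out E hE
  have key : ∀ y : P, (∀ e ∈ E, y * e * y⁻¹ * e⁻¹ ∈ T) →
      (QuotientGroup.mk' T x0 * QuotientGroup.mk' T y =
        QuotientGroup.mk' T y * QuotientGroup.mk' T x0) →
      ∀ x ∈ Nr E, QuotientGroup.mk' T x * QuotientGroup.mk' T y =
        QuotientGroup.mk' T y * QuotientGroup.mk' T x := by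
    intro y hy1 hy2 x hx
    have hH : E ≤ (Subgroup.centralizer
        ({QuotientGroup.mk' T y} : Set (P ⧸ T))).comap (QuotientGroup.mk' T) := by
      intro e he
      rw [Subgroup.mem_comap, Subgroup.mem_centralizer_iff]
      intro z hz
      rw [Set.mem_singleton_iff.mp hz]
      exact (qcomm T y e).mpr (hy1 e he)
    rcases g1 (Fact.out : p.Prime) E _ Subgroup.le_normalizer hE.nidx _ hH with h1 | h1
    · have h2 := h1 hx
      rw [Subgroup.mem_comap, Subgroup.mem_centralizer_iff] at h2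
      exact (h2 _ (Set.mem_singleton _)).symm
    · exfalso
      apply hx0E
      apply h1
      refine Subgroup.mem_inf.mpr ⟨?_, hx0N⟩
      rw [Subgroup.mem_comap, Subgroup.mem_centralizer_iff]
      intro z hz
      rw [Set.mem_singleton_iff.mp hz]
      exact hy2.symm
  have s1 : ∀ y ∈ Nr E, QuotientGroup.mk' T y * QuotientGroup.mk' T x0 =
      QuotientGroup.mk' T x0 * QuotientGroup.mk' T y :=
    key x0 (h x0 hx0N) rfl
  intro x hx y hy
  exact (qcomm T x y).mp (key y (h y hy) (s1 y hy).symm x hx)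

theorem dich {p : ℕ} [Fact p.Prime] (E : Subgroup P) (hE : Soft p E) (hTE : T ≤ E) :
    (∀ x, (∀ e ∈ E, x * e * x⁻¹ * e⁻¹ ∈ T) → x ∈ E) ∨
      (∀ x ∈ Nr E, ∀ y ∈ Nr E, x * y * x⁻¹ * y⁻¹ ∈ T) := by
  have hH : E ≤ (Subgroup.centralizer
      ((E.map (QuotientGroup.mk' T) : Subgroup (P ⧸ T)) : Set (P ⧸ T))).comap
        (QuotientGroup.mk' T) := by
    intro e he
    rw [Subgroup.mem_comap, Subgroup.mem_centralizer_iff]
    rintro _ ⟨e', he', rfl⟩
    rw [← map_mul, ← map_mul, hE.comm e' he' e he]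
  rcases g1 (Fact.out : p.Prime) E _ Subgroup.le_normalizer hE.nidx _ hH with h1 | h1
  · right
    apply ab T E hE
    intro x hx e he
    have h2 := h1 hx
    rw [Subgroup.mem_comap, Subgroup.mem_centralizer_iff] at h2
    exact (qcomm T x e).mp (h2 _ (Subgroup.mem_map_of_mem _ he)).symm
  · left
    intro x hx
    apply h1
    refine Subgroup.mem_inf.mpr ⟨?_, ?_⟩
    · rw [Subgroup.mem_comap, Subgroup.mem_centralizer_iff]
      rintro _ ⟨e, he, rfl⟩
      exact ((qcomm T x e).mpr (hx e he)).symm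
    · apply nz
      intro e he
      have h3 : x * e * x⁻¹ = (x * e * x⁻¹ * e⁻¹) * e := by group
      rw [h3]
      exact E.mul_mem (hTE (hx e he)) he

end Quot

theorem ind1 (p : ℕ) [Fact p.Prime] : ∀ (n : ℕ) (P : Type u) [Group P] [Finite P],
    Nat.card P = n → IsPGroup p P → ∀ E : Subgroup P, Soft p E → ∀ K : Subgroup P, E ≤ K →
      K ≠ ⊤ → K.relIndex (Nr K) = p := by
  intro n
  induction n using Nat.strong_induction_on with
  | _ n ih =>
    intro P _ _ hn hP E hE K hEK hK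
    by_cases hKE : K ≤ E
    · have h0 : K = E := le_antisymm hKE hEK
      rw [h0]; exact hE.nidx
    have hN1K : Nr E ≤ K := l2 hP E K hEK hKE hE.nidx
    haveI : Nontrivial P := by
      by_contra hnt
      rw [not_nontrivial_iff_subsingleton] at hnt
      exact hK (Subsingleton.elim _ _)
    have hT : Subgroup.center P ≠ ⊥ := by
      haveI := hP.center_nontrivial
      exact (Subgroup.nontrivial_iff_ne_bot _).mp inferInstance
    have hTE : Subgroup.center P ≤ E := (Subgroup.center_le_centralizer _).trans hE.cent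
    have hlt : Nat.card (P ⧸ Subgroup.center P) < n := by
      rw [← hn]; exact q_card (Subgroup.center P) hT
    rcases dich (Subgroup.center P) E hE hTE with ha | hb
    · have hS : Soft p (E.map (QuotientGroup.mk' (Subgroup.center P))) :=
        qs (Subgroup.center P) E hTE (fun x hx y hy => by
          have h1 : x * y * x⁻¹ * y⁻¹ = 1 := by rw [hE.comm x hx y hy]; group
          rw [h1]; exact Subgroup.one_mem _) ha hE.nidx
      have h1 := ih _ hlt (P ⧸ Subgroup.center P) rfl (hP.to_quotient _) _ hS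
        (K.map (QuotientGroup.mk' (Subgroup.center P))) (Subgroup.map_mono hEK)
        (q_ne_top _ K (hTE.trans hEK) hK)
      rw [q_nidx _ K (hTE.trans hEK)] at h1
      exact h1
    · have hN1 : Nr E ≠ ⊤ := fun h => hK (top_le_iff.mp (by rw [← h]; exact hN1K))
      have hS : Soft p ((Nr E).map (QuotientGroup.mk' (Subgroup.center P))) :=
        qs (Subgroup.center P) (Nr E) (hTE.trans Subgroup.le_normalizer) hb (fun x hx => by
          apply nz
          intro e he
          have h3 : x * e * x⁻¹ = (x * e * x⁻¹ * e⁻¹) * e := by group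
          rw [h3]
          exact E.mul_mem (hTE (hx e (Subgroup.le_normalizer he))) he) (cnt hP E hE hN1)
      have h1 := ih _ hlt (P ⧸ Subgroup.center P) rfl (hP.to_quotient _) _ hS
        (K.map (QuotientGroup.mk' (Subgroup.center P))) (Subgroup.map_mono hN1K)
        (q_ne_top _ K (hTE.trans hEK) hK)
      rw [q_nidx _ K (hTE.trans hEK)] at h1
      exact h1

section Main
variable {P : Type u} [Group P] [Finite P]

theorem chain {p : ℕ} [Fact p.Prime] (hP : IsPGroup p P) (E : Subgroup P)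
    (hE : Soft p E) (K L : Subgroup P) (hK : E ≤ K) (hL : E ≤ L) : K ≤ L ∨ L ≤ K := by
  by_contra hcon
  push_neg at hcon
  obtain ⟨h1, h2⟩ := hcon
  have hD : K ⊓ L ≠ ⊤ := by
    intro h
    apply h1
    have h3 : L = ⊤ := top_le_iff.mp (by rw [← h]; exact inf_le_right)
    rw [h3]; exact le_top
  have hidx := ind1 p _ P rfl hP E hE (K ⊓ L) (le_inf hK hL) hD
  have hNK : Nr (K ⊓ L) ≤ K :=
    l2 hP (K ⊓ L) K inf_le_left (fun h => h1 (h.trans inf_le_right)) hidx
  have hNL : Nr (K ⊓ L) ≤ L :=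
    l2 hP (K ⊓ L) L inf_le_right (fun h => h2 (h.trans inf_le_left)) hidx
  have h4 := Subgroup.relIndex_eq_one.mpr (le_inf hNK hNL)
  rw [hidx] at h4
  exact (Fact.out : p.Prime).one_lt.ne' h4

theorem normal_of_index_p {p : ℕ} [Fact p.Prime] (hP : IsPGroup p P)
    (M : Subgroup P) (hM : M.index = p) : M.Normal := by
  apply Subgroup.normal_of_index_eq_minFac_card
  obtain ⟨k, hk⟩ := hP.exists_card_eq
  have hk0 : k ≠ 0 := by
    intro h0
    rw [h0, pow_zero] at hk
    have h1 : M.index ∣ Nat.card P := M.index_dvd_card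
    rw [hk, hM] at h1
    exact (Fact.out : p.Prime).one_lt.ne' (Nat.dvd_one.mp h1)
  rw [hM, hk, Nat.Prime.pow_minFac (Fact.out : p.Prime) hk0]

theorem zc_normal (M : Subgroup P) [hM : M.Normal] : (M ⊓ Cz M).Normal := by
  constructor
  intro n hn g
  obtain ⟨hn1, hn2⟩ := Subgroup.mem_inf.mp hn
  refine Subgroup.mem_inf.mpr ⟨hM.conj_mem n hn1 g, ?_⟩
  rw [Subgroup.mem_centralizer_iff] at hn2 ⊢
  intro m hm
  have h1 : g⁻¹ * m * g ∈ M := by
    have h := hM.conj_mem m hm g⁻¹
    rwa [inv_inv] at h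
  have h2 := hn2 _ h1
  calc m * (g * n * g⁻¹) = g * ((g⁻¹ * m * g) * n) * g⁻¹ := by group
    _ = g * (n * (g⁻¹ * m * g)) * g⁻¹ := by rw [h2]
    _ = g * n * g⁻¹ * m := by group

theorem zc_ne_bot {p : ℕ} [Fact p.Prime] (hP : IsPGroup p P) (M : Subgroup P)
    (hM : ∃ m ∈ M, m ≠ 1) : M ⊓ Cz M ≠ ⊥ := by
  obtain ⟨m0, hm0, hm01⟩ := hM
  haveI : Nontrivial ↥M := ⟨⟨⟨m0, hm0⟩, 1, fun h => hm01 (congrArg Subtype.val h)⟩⟩
  haveI := (hP.to_subgroup M).center_nontrivial
  obtain ⟨z, hz⟩ := exists_ne (1 : Subgroup.center ↥M)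
  intro hbot
  have hmem : ((z : ↥M) : P) ∈ M ⊓ Cz M := by
    refine Subgroup.mem_inf.mpr ⟨(z : ↥M).2, ?_⟩
    rw [Subgroup.mem_centralizer_iff]
    intro m hm
    have h1 := Subgroup.mem_center_iff.mp z.2 ⟨m, hm⟩
    exact congrArg Subtype.val h1
  rw [hbot, Subgroup.mem_bot] at hmem
  apply hz
  apply Subtype.ext
  apply Subtype.ext
  exact hmem

end Main

theorem ind2 (p : ℕ) [Fact p.Prime] : ∀ (n : ℕ) (P : Type u) [Group P] [Finite P],
    Nat.card P = n → IsPGroup p P → ∀ E : Subgroup P, Soft p E → Nr E ≠ ⊤ →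
      ∀ M : Subgroup P, E ≤ M → M.index = p →
      ∀ x ∈ Nr E, ∀ y ∈ Nr E, ∀ m ∈ M,
        (x * y * x⁻¹ * y⁻¹) * m = m * (x * y * x⁻¹ * y⁻¹) := by
  intro n
  induction n using Nat.strong_induction_on with
  | _ n ih =>
    intro P _ _ hn hP E hE hN1 M hEM hMi x hx y hy m0 hm0
    by_contra hcon
    have hp : p.Prime := Fact.out
    haveI hMn : M.Normal := normal_of_index_p hP M hMi
    haveI hYn : (M ⊓ Cz M).Normal := zc_normal M
    have hYE : M ⊓ Cz M ≤ E := inf_le_right.trans ((Subgroup.centralizer_le hEM).trans hE.cent)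
    have hYM : M ⊓ Cz M ≤ M := inf_le_left
    obtain ⟨e0, he0, he01⟩ := soft_one_lt E hE
    have hY0 : M ⊓ Cz M ≠ ⊥ := zc_ne_bot hP M ⟨e0, hEM he0, he01⟩
    have hlt : Nat.card (P ⧸ (M ⊓ Cz M)) < n := by rw [← hn]; exact q_card _ hY0
    have hMtop : M ≠ ⊤ := by
      intro h; rw [h, Subgroup.index_top] at hMi; exact hp.one_lt.ne hMi
    have hwN : ∀ z ∈ Nr E, z * (x * y * x⁻¹ * y⁻¹) = (x * y * x⁻¹ * y⁻¹) * z :=
      cl2 hP E hE hN1 x y hx hy
    obtain ⟨w, hw⟩ : ∃ w, w = x * y * x⁻¹ * y⁻¹ := ⟨_, rfl⟩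
    rw [← hw] at hcon hwN
    rcases dich (M ⊓ Cz M) E hE hYE with ha | hb
    · have hS : Soft p (E.map (QuotientGroup.mk' (M ⊓ Cz M))) :=
        qs (M ⊓ Cz M) E hYE (fun a ha' b hb' => by
          have h1 : a * b * a⁻¹ * b⁻¹ = 1 := by rw [hE.comm a ha' b hb']; group
          rw [h1]; exact Subgroup.one_mem _) ha hE.nidx
      have hN1' : Nr (E.map (QuotientGroup.mk' (M ⊓ Cz M))) ≠ ⊤ := by
        rw [q_nr_map _ E hYE]
        exact q_ne_top _ (Nr E) (hYE.trans Subgroup.le_normalizer) hN1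
      have hmemN : ∀ z ∈ Nr E, QuotientGroup.mk' (M ⊓ Cz M) z ∈
          Nr (E.map (QuotientGroup.mk' (M ⊓ Cz M))) := by
        intro z hz
        rw [q_nr_map _ E hYE]
        exact Subgroup.mem_map_of_mem _ hz
      have hstar : ∀ m ∈ M, w * m * w⁻¹ * m⁻¹ ∈ M ⊓ Cz M := by
        intro m hm
        have h1 := ih _ hlt (P ⧸ (M ⊓ Cz M)) rfl (hP.to_quotient _) _ hS hN1'
          (M.map (QuotientGroup.mk' (M ⊓ Cz M))) (Subgroup.map_mono hEM)
          (by rw [q_index _ M hYM]; exact hMi)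
          _ (hmemN x hx) _ (hmemN y hy) _ (Subgroup.mem_map_of_mem _ hm)
        apply (qcomm (M ⊓ Cz M) w m).mp
        rw [hw]
        simp only [map_mul, map_inv]
        exact h1
      obtain ⟨g, -, hgM, -⟩ := l1 hP M ⊤ le_top (fun h => hMtop (top_le_iff.mp h))
      have huE : g * w * g⁻¹ ∈ E := by
        apply ha
        intro e he
        have h1 : g⁻¹ * e * g ∈ M := by
          have h := hMn.conj_mem e (hEM he) g⁻¹
          rwa [inv_inv] at h
        have h2 := hstar _ h1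
        have h3 := hYn.conj_mem _ h2 g
        have h4 : g * (w * (g⁻¹ * e * g) * w⁻¹ * (g⁻¹ * e * g)⁻¹) * g⁻¹ =
            (g * w * g⁻¹) * e * (g * w * g⁻¹)⁻¹ * e⁻¹ := by group
        rw [h4] at h3
        exact h3
      have hEu : E ≤ Subgroup.centralizer ({g * w * g⁻¹} : Set P) := by
        intro e he
        rw [Subgroup.mem_centralizer_iff]
        intro z hz
        rw [Set.mem_singleton_iff.mp hz]
        exact hE.comm _ huE e he
      have hEw : E ≤ Subgroup.centralizer ({w} : Set P) := by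
        intro e he
        rw [Subgroup.mem_centralizer_iff]
        intro z hz
        rw [Set.mem_singleton_iff.mp hz]
        exact (hwN e (Subgroup.le_normalizer he)).symm
      have hfin : ∀ C : Subgroup P, E ≤ C → g ∈ Nr C → M ≤ C := by
        intro C hEC hgC
        by_contra hMC
        have hCM : C ≤ M := by
          rcases chain hP E hE M C hEM hEC with h | h
          · exact absurd h hMC
          · exact h
        have hCtop : C ≠ ⊤ := fun h => hMC (by rw [h]; exact le_top)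
        have hidx := ind1 p _ P rfl hP E hE C hEC hCtop
        rcases chain hP E hE (Nr C) M (hEC.trans Subgroup.le_normalizer) hEM with h | h
        · exact hgM (h hgC)
        · rcases g1 hp C (Nr C) Subgroup.le_normalizer hidx M hCM with h' | h'
          · exact hgM (h' hgC)
          · exact hMC (fun z hz => h' (Subgroup.mem_inf.mpr ⟨hz, h hz⟩))
      rcases chain hP E hE (Subgroup.centralizer ({w} : Set P))
          (Subgroup.centralizer ({g * w * g⁻¹} : Set P)) hEw hEu with h | h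
      · have hg' : g⁻¹ ∈ Nr (Subgroup.centralizer ({w} : Set P)) := by
          apply nz
          intro z hz
          have h1 := h hz
          rw [Subgroup.mem_centralizer_iff] at h1 ⊢
          intro c hc
          rw [Set.mem_singleton_iff.mp hc]
          have h2 := h1 _ (Set.mem_singleton _)
          calc w * (g⁻¹ * z * g⁻¹⁻¹) = g⁻¹ * ((g * w * g⁻¹) * z) * g := by group
            _ = g⁻¹ * (z * (g * w * g⁻¹)) * g := by rw [h2]
            _ = g⁻¹ * z * g⁻¹⁻¹ * w := by group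
        have hg'' : g ∈ Nr (Subgroup.centralizer ({w} : Set P)) := by
          have h5 := Subgroup.inv_mem _ hg'
          rwa [inv_inv] at h5
        have hMC := hfin _ hEw hg''
        apply hcon
        exact Subgroup.mem_centralizer_iff.mp (hMC hm0) w (Set.mem_singleton _)
      · have hg' : g ∈ Nr (Subgroup.centralizer ({g * w * g⁻¹} : Set P)) := by
          apply nz
          intro z hz
          have h1 := h hz
          rw [Subgroup.mem_centralizer_iff] at h1 ⊢
          intro c hc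
          rw [Set.mem_singleton_iff.mp hc]
          have h2 := h1 _ (Set.mem_singleton _)
          calc (g * w * g⁻¹) * (g * z * g⁻¹) = g * (w * z) * g⁻¹ := by group
            _ = g * (z * w) * g⁻¹ := by rw [h2]
            _ = g * z * g⁻¹ * (g * w * g⁻¹) := by group
        have hMC := hfin _ hEu hg'
        apply hcon
        have h1 : g * m0 * g⁻¹ ∈ M := hMn.conj_mem m0 hm0 g
        have h2 := Subgroup.mem_centralizer_iff.mp (hMC h1) _ (Set.mem_singleton _)
        have h3 : g * (w * m0) * g⁻¹ = g * (m0 * w) * g⁻¹ := by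
          calc g * (w * m0) * g⁻¹ = (g * w * g⁻¹) * (g * m0 * g⁻¹) := by group
            _ = (g * m0 * g⁻¹) * (g * w * g⁻¹) := h2
            _ = g * (m0 * w) * g⁻¹ := by group
        exact mul_left_cancel (mul_right_cancel h3)
    · apply hcon
      have h1 : w ∈ M ⊓ Cz M := by rw [hw]; exact hb x hx y hy
      exact (Subgroup.mem_centralizer_iff.mp (Subgroup.mem_inf.mp h1).2 m0 hm0).symm

theorem lower {p : ℕ} [Fact p.Prime] {P : Type u} [Group P] [Finite P] (hP : IsPGroup p P)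
    (E : Subgroup P) (hE : Soft p E) (K : Subgroup P) (hEK : E ≤ K) (i : ℕ)
    (hi : E.relIndex K = p ^ i) : i + 1 ≤ Group.nilpotencyClass ↥K := by
  have hp : p.Prime := Fact.out
  haveI : Group.IsNilpotent ↥K := (hP.to_subgroup K).isNilpotent
  have hstep : ∀ j : ℕ,
      Nat.card ↥(E ⊔ (Subgroup.upperCentralSeries ↥K (j + 1)).map K.subtype) ≤
        Nat.card E * p ^ j := by
    intro j
    induction j with
    | zero =>
      have h1 : E ⊔ (Subgroup.upperCentralSeries ↥K (0 + 1)).map K.subtype = E := by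
        apply sup_eq_left.mpr
        rw [zero_add, Subgroup.upperCentralSeries_one]
        rintro _ ⟨z, hz, rfl⟩
        apply hE.cent
        rw [Subgroup.mem_centralizer_iff]
        intro e he
        have h2 := Subgroup.mem_center_iff.mp hz ⟨e, hEK he⟩
        exact congrArg Subtype.val h2
      rw [h1]; simp
    | succ j ihj =>
      have hle : E ⊔ (Subgroup.upperCentralSeries ↥K (j + 1 + 1)).map K.subtype ≤
          Nr (E ⊔ (Subgroup.upperCentralSeries ↥K (j + 1)).map K.subtype) := by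
        apply sup_le
        · exact le_sup_left.trans Subgroup.le_normalizer
        · rintro _ ⟨z, hz, rfl⟩
          apply nz
          have hmap : (E ⊔ (Subgroup.upperCentralSeries ↥K (j + 1)).map K.subtype).map
              (MulAut.conj (z : P)).toMonoidHom ≤
                E ⊔ (Subgroup.upperCentralSeries ↥K (j + 1)).map K.subtype := by
            rw [Subgroup.map_sup]
            apply sup_le
            · rintro _ ⟨e, he, rfl⟩
              have h1 := Subgroup.mem_upperCentralSeries_succ_iff.mp hz (⟨e, hEK he⟩ : ↥K)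
              have h2 : ((z : P) * e * (z : P)⁻¹ * e⁻¹) ∈
                  (Subgroup.upperCentralSeries ↥K (j + 1)).map K.subtype :=
                ⟨_, h1, by simp [commutatorElement_def]⟩
              have h3 : (MulAut.conj (z : P)).toMonoidHom e =
                  ((z : P) * e * (z : P)⁻¹ * e⁻¹) * e := by
                simp [MulAut.conj_apply]
              rw [h3]
              exact Subgroup.mul_mem _ (Subgroup.mem_sup_right h2) (Subgroup.mem_sup_left he)
            · rintro _ ⟨_, ⟨w, hw, rfl⟩, rfl⟩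
              apply Subgroup.mem_sup_right
              have hnorm : (Subgroup.upperCentralSeries ↥K (j + 1)).Normal := inferInstance
              refine ⟨z * w * z⁻¹, hnorm.conj_mem w hw z, ?_⟩
              simp [MulAut.conj_apply]
          intro x hx
          have h4 := hmap (Subgroup.mem_map_of_mem _ hx)
          simpa [MulAut.conj_apply] using h4
      by_cases hHtop : E ⊔ (Subgroup.upperCentralSeries ↥K (j + 1)).map K.subtype = ⊤
      · calc Nat.card ↥(E ⊔ (Subgroup.upperCentralSeries ↥K (j + 1 + 1)).map K.subtype)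
            ≤ Nat.card P := Subgroup.card_le_card_group _
          _ = Nat.card ↥(E ⊔ (Subgroup.upperCentralSeries ↥K (j + 1)).map K.subtype) := by
              rw [hHtop]; exact (Subgroup.card_top).symm
          _ ≤ Nat.card E * p ^ j := ihj
          _ ≤ Nat.card E * p ^ (j + 1) :=
              Nat.mul_le_mul_left _ (Nat.pow_le_pow_right hp.pos (Nat.le_succ j))
      · have hidx := ind1 p _ P rfl hP E hE _ le_sup_left hHtop
        have hc := relcard _ _ (Subgroup.le_normalizer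
          (H := E ⊔ (Subgroup.upperCentralSeries ↥K (j + 1)).map K.subtype))
        rw [hidx] at hc
        calc Nat.card ↥(E ⊔ (Subgroup.upperCentralSeries ↥K (j + 1 + 1)).map K.subtype)
            ≤ Nat.card ↥(Nr (E ⊔ (Subgroup.upperCentralSeries ↥K (j + 1)).map K.subtype)) :=
              Subgroup.card_le_of_le hle
          _ = p * Nat.card ↥(E ⊔ (Subgroup.upperCentralSeries ↥K (j + 1)).map K.subtype) :=
              hc.symm
          _ ≤ p * (Nat.card E * p ^ j) := Nat.mul_le_mul_left _ ihj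
          _ = Nat.card E * p ^ (j + 1) := by ring
  have htop : Subgroup.upperCentralSeries ↥K (Group.nilpotencyClass ↥K) = ⊤ :=
    Subgroup.upperCentralSeries_nilpotencyClass
  rcases Nat.eq_zero_or_pos (Group.nilpotencyClass ↥K) with h0 | hpos
  · exfalso
    rw [h0, Subgroup.upperCentralSeries_zero] at htop
    obtain ⟨e0, he0, he01⟩ := soft_one_lt E hE
    have h1 : (⟨e0, hEK he0⟩ : ↥K) ∈ (⊥ : Subgroup ↥K) := by rw [htop]; exact Subgroup.mem_top _
    rw [Subgroup.mem_bot] at h1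
    exact he01 (congrArg Subtype.val h1)
  · obtain ⟨c', hc'⟩ : ∃ c', Group.nilpotencyClass ↥K = c' + 1 :=
      ⟨Group.nilpotencyClass ↥K - 1, by omega⟩
    have h1 := hstep c'
    rw [← hc', htop] at h1
    have h2 : K ≤ E ⊔ (⊤ : Subgroup ↥K).map K.subtype := by
      rw [← MonoidHom.range_eq_map, Subgroup.range_subtype]; exact le_sup_right
    have h3 : Nat.card ↥K ≤ Nat.card E * p ^ c' := (Subgroup.card_le_of_le h2).trans h1
    have h4 := relcard E K hEK
    rw [hi] at h4
    have hEpos : 0 < Nat.card E := Nat.card_pos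
    have h5 : p ^ i ≤ p ^ c' := by
      have h6 : p ^ i * Nat.card E ≤ p ^ c' * Nat.card E := by rw [h4]; linarith
      exact Nat.le_of_mul_le_mul_right h6 hEpos
    have h6 : i ≤ c' := (Nat.pow_le_pow_iff_right hp.one_lt).mp h5
    omega

theorem ind3 (p : ℕ) [Fact p.Prime] : ∀ (n : ℕ) (P : Type u) [Group P] [Finite P],
    Nat.card P = n → IsPGroup p P → ∀ E : Subgroup P, Soft p E →
      ∀ M : Subgroup P, E ≤ M → M.index = p →
      ∀ k : ℕ, E.relIndex M = p ^ k → Group.nilpotencyClass ↥M ≤ k + 1 := by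
  intro n
  induction n using Nat.strong_induction_on with
  | _ n ih =>
    intro P _ _ hn hP E hE M hEM hMi k hk
    have hp : p.Prime := Fact.out
    haveI hMnil : Group.IsNilpotent ↥M := (hP.to_subgroup M).isNilpotent
    by_cases hME : M ≤ E
    · have h1 : Group.nilpotencyClass ↥M ≤ 1 := by
        rw [Group.IsNilpotent.nilpotencyClass_le_one_iff]
        exact ⟨⟨fun a b => Subtype.ext (hE.comm a (hME a.2) b (hME b.2))⟩⟩
      omega
    have hN1M : Nr E ≤ M := l2 hP E M hEM hME hE.nidx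
    have hMtop : M ≠ ⊤ := by
      intro h; rw [h, Subgroup.index_top] at hMi; exact hp.one_lt.ne hMi
    have hN1 : Nr E ≠ ⊤ := fun h => hMtop (top_le_iff.mp (by rw [← h]; exact hN1M))
    haveI hMn : M.Normal := normal_of_index_p hP M hMi
    haveI hYn : (M ⊓ Cz M).Normal := zc_normal M
    have hYE : M ⊓ Cz M ≤ E := inf_le_right.trans ((Subgroup.centralizer_le hEM).trans hE.cent)
    have hYM : M ⊓ Cz M ≤ M := inf_le_left
    obtain ⟨e0, he0, he01⟩ := soft_one_lt E hE
    have hY0 : M ⊓ Cz M ≠ ⊥ := zc_ne_bot hP M ⟨e0, hEM he0, he01⟩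
    have hlt : Nat.card (P ⧸ (M ⊓ Cz M)) < n := by rw [← hn]; exact q_card _ hY0
    have hb : ∀ x ∈ Nr E, ∀ y ∈ Nr E, x * y * x⁻¹ * y⁻¹ ∈ M ⊓ Cz M := by
      intro x hx y hy
      refine Subgroup.mem_inf.mpr ⟨?_, ?_⟩
      · exact M.mul_mem (M.mul_mem (M.mul_mem (hN1M hx) (hN1M hy)) (M.inv_mem (hN1M hx)))
          (M.inv_mem (hN1M hy))
      · rw [Subgroup.mem_centralizer_iff]
        intro m hm
        exact (ind2 p _ P rfl hP E hE hN1 M hEM hMi x hx y hy m hm).symm
    have hN2 : (Nr E).relIndex (Nr (Nr E)) = p := cnt hP E hE hN1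
    have hS : Soft p ((Nr E).map (QuotientGroup.mk' (M ⊓ Cz M))) :=
      qs (M ⊓ Cz M) (Nr E) (hYE.trans Subgroup.le_normalizer) hb (fun x hx => by
        apply nz
        intro e he
        have h3 : x * e * x⁻¹ = (x * e * x⁻¹ * e⁻¹) * e := by group
        rw [h3]
        exact E.mul_mem (hYE (hx e (Subgroup.le_normalizer he))) he) hN2
    have hr := Subgroup.relIndex_mul_relIndex E (Nr E) M Subgroup.le_normalizer hN1M
    rw [hE.nidx, hk] at hr
    have hk0 : k ≠ 0 := by
      intro h0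
      rw [h0, pow_zero] at hr
      have h1 : p ∣ 1 := Dvd.intro _ hr
      exact hp.one_lt.ne' (Nat.dvd_one.mp h1)
    obtain ⟨k', rfl⟩ : ∃ k', k = k' + 1 := ⟨k - 1, by omega⟩
    have hr' : (Nr E).relIndex M = p ^ k' := by
      have h1 : p * (Nr E).relIndex M = p * p ^ k' := by rw [hr]; ring
      exact Nat.eq_of_mul_eq_mul_left hp.pos h1
    have hcl := ih _ hlt (P ⧸ (M ⊓ Cz M)) rfl (hP.to_quotient _) _ hS
      (M.map (QuotientGroup.mk' (M ⊓ Cz M))) (Subgroup.map_mono hN1M)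
      (by rw [q_index _ M hYM]; exact hMi) k'
      (by rw [q_relIndex _ (Nr E) M (hYE.trans Subgroup.le_normalizer)]; exact hr')
    haveI : Group.IsNilpotent ↥(M.map (QuotientGroup.mk' (M ⊓ Cz M))) :=
      ((hP.to_quotient _).to_subgroup _).isNilpotent
    have hker : ((QuotientGroup.mk' (M ⊓ Cz M)).subgroupMap M).ker ≤ Subgroup.center ↥M := by
      intro z hz
      rw [MonoidHom.mem_ker] at hz
      have h1 : QuotientGroup.mk' (M ⊓ Cz M) (z : P) = 1 := congrArg Subtype.val hz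
      have h2 : (z : P) ∈ M ⊓ Cz M := (QuotientGroup.eq_one_iff (z : P)).mp h1
      rw [Subgroup.mem_center_iff]
      intro g
      apply Subtype.ext
      exact Subgroup.mem_centralizer_iff.mp (Subgroup.mem_inf.mp h2).2 g g.2
    have h7 := Group.nilpotencyClass_le_of_ker_le_center
      ((QuotientGroup.mk' (M ⊓ Cz M)).subgroupMap M) hker
    omega

/-- Let P be a finite p-group and E an abelian subgroup of P that contains its centralizer, has index p in its normalizer, and has index at least p² in P. Then the subgroups of P containing E are totally ordered by inclusion, each proper one has index p in its normalizer (so they form the normalizer tower of E, with all steps of index p), and the i-th member of the tower above E has nilpotency class i + 1 whenever it is a proper subgroup of P. -/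
theorem result {P : Type*} [Group P] [Finite P] (p : ℕ) [Fact p.Prime] (hP : IsPGroup p P)
    (E : Subgroup P) (hEab : IsMulCommutative ↥E) (hC : Subgroup.centralizer (E : Set P) ≤ E)
    (hN : (E.subgroupOf (Subgroup.normalizer (E : Set P))).index = p) (hidx : p ^ 2 ≤ E.index) :
    (∀ K L : Subgroup P, E ≤ K → E ≤ L → K ≤ L ∨ L ≤ K) ∧
      (∀ K : Subgroup P, E ≤ K → K ≠ ⊤ → (K.subgroupOf (Subgroup.normalizer (K : Set P))).index = p) ∧
      ∀ (i : ℕ) (K : Subgroup P) [Group.IsNilpotent ↥K], E ≤ K → K ≠ ⊤ → K.index * p ^ i = E.index →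
        Group.nilpotencyClass ↥K = i + 1 := by
  have hE : Soft p E :=
    ⟨fun a ha b hb => congrArg Subtype.val (hEab.is_comm.comm ⟨a, ha⟩ ⟨b, hb⟩), hC, hN⟩
  refine ⟨fun K L hK hL => chain hP E hE K L hK hL,
    fun K hK hKt => ind1 p _ P rfl hP E hE K hK hKt, ?_⟩
  intro i K _ hEK hKt hi
  have hp : p.Prime := Fact.out
  have hrel : E.relIndex K = p ^ i := by
    have h1 := Subgroup.relIndex_mul_index hEK
    have hK0 : 0 < K.index := Nat.pos_of_ne_zero Subgroup.index_ne_zero_of_finite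
    have h2 : K.index * E.relIndex K = K.index * p ^ i := by
      rw [hi, mul_comm]; exact h1
    exact Nat.eq_of_mul_eq_mul_left hK0 h2
  apply le_antisymm
  · by_cases hKE : K ≤ E
    · have h1 : Group.nilpotencyClass ↥K ≤ 1 := by
        rw [Group.IsNilpotent.nilpotencyClass_le_one_iff]
        exact ⟨⟨fun a b => Subtype.ext (hE.comm a (hKE a.2) b (hKE b.2))⟩⟩
      omega
    · have hN1K : Nr E ≤ K := l2 hP E K hEK hKE hE.nidx
      have hKi : K.relIndex (Nr K) = p := ind1 p _ P rfl hP E hE K hEK hKt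
      have hKL : K ≤ Nr K := Subgroup.le_normalizer
      have hS : Soft p (E.subgroupOf (Nr K)) := by
        refine ⟨?_, ?_, ?_⟩
        · intro a ha b hb
          exact Subtype.ext (hE.comm a (Subgroup.mem_subgroupOf.mp ha) b
            (Subgroup.mem_subgroupOf.mp hb))
        · intro z hz
          rw [Subgroup.mem_subgroupOf]
          apply hE.cent
          rw [Subgroup.mem_centralizer_iff] at hz ⊢
          intro e he
          have h1 := hz ⟨e, hKL (hEK he)⟩ (Subgroup.mem_subgroupOf.mpr he)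
          exact congrArg Subtype.val h1
        · have h1 : Nr (E.subgroupOf (Nr K)) = (Nr E).subgroupOf (Nr K) :=
            (Subgroup.subgroupOf_normalizer_eq (hEK.trans hKL)).symm
          rw [h1, Subgroup.relIndex_subgroupOf (hN1K.trans hKL)]
          exact hE.nidx
      have h3 := ind3 p _ ↥(Nr K) rfl (hP.to_subgroup _) (E.subgroupOf (Nr K)) hS
        (K.subgroupOf (Nr K))
        (fun z hz => Subgroup.mem_subgroupOf.mpr (hEK (Subgroup.mem_subgroupOf.mp hz)))
        hKi i (by rw [Subgroup.relIndex_subgroupOf hKL]; exact hrel)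
      haveI : Group.IsNilpotent ↥(K.subgroupOf (Nr K)) :=
        ((hP.to_subgroup _).to_subgroup _).isNilpotent
      have h4 := Group.nilpotencyClass_le_of_surjective
        (Subgroup.subgroupOfEquivOfLe hKL).toMonoidHom
        (Subgroup.subgroupOfEquivOfLe hKL).surjective
      exact h4.trans h3
  · exact lower hP E hE K hEK i hrel

end Cfsg.Agent.S3811
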