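import Cfsg.Statements.S3819
import Mathlib
import Cfsg.Agent.Helper25.Bal2
import Cfsg.Agent.S1459

set_option autoImplicit false
open Cfsg

namespace Cfsg.Agent.S3819

/-- Let G be a finite group with Sylow p-subgroup P and H = O_{p'}(G), and suppose G = PH and the commutator subgroup [H, P] is solvable. Let q be a prime and z an element of q-power order of C_H(P). Then (O_{q'}(C_H(z)) ∩ O_{q'}(C_H(P))) · [O_{q'}(C_H(z)), P] ≤ O_{q'}(H). -/
theorem result {G : Type*} [Group G] [Finite G] {p : ℕ} [Fact p.Prime]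
    (P : Sylow p G) (hPH : Cfsg.pPrimeCore p G ⊔ (P : Subgroup G) = ⊤)
    (hsol : Group.IsSolvable ↥⁅Cfsg.pPrimeCore p G, (P : Subgroup G)⁆)
    {q : ℕ} [Fact q.Prime] (z : G) (hzH : z ∈ Cfsg.pPrimeCore p G) (hzP : z ∈ Subgroup.centralizer ((P : Subgroup G) : Set G))
    (hz : ∃ k : ℕ, orderOf z = q ^ k) :
    ((Cfsg.pPrimeCore q ↥(Cfsg.pPrimeCore p G ⊓ Subgroup.centralizer ({z} : Set G))).map
        (Cfsg.pPrimeCore p G ⊓ Subgroup.centralizer ({z} : Set G)).subtype ⊓
      (Cfsg.pPrimeCore q ↥(Cfsg.pPrimeCore p G ⊓ Subgroup.centralizer ((P : Subgroup G) : Set G))).map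
        (Cfsg.pPrimeCore p G ⊓ Subgroup.centralizer ((P : Subgroup G) : Set G)).subtype) ⊔
    ⁅(Cfsg.pPrimeCore q ↥(Cfsg.pPrimeCore p G ⊓ Subgroup.centralizer ({z} : Set G))).map
        (Cfsg.pPrimeCore p G ⊓ Subgroup.centralizer ({z} : Set G)).subtype, (P : Subgroup G)⁆ ≤
    (Cfsg.pPrimeCore q ↥(Cfsg.pPrimeCore p G)).map (Cfsg.pPrimeCore p G).subtype := by
  classical
  set H : Subgroup G := Cfsg.pPrimeCore p G with hH
  haveI hHn : H.Normal := Cfsg.Agent.Helper23.pPrimeCore_normal_fin p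
  have hHcop : (Nat.card H).Coprime p := Cfsg.Agent.Helper23.pPrimeCore_coprime p
  set L : Subgroup G := ⁅H, (P : Subgroup G)⁆ with hL
  haveI hLn : L.Normal := Cfsg.Agent.S1459.comm_normal H (P : Subgroup G) hPH
  have hLH : L ≤ H := Subgroup.commutator_le_left H (P : Subgroup G)
  set Cz : Subgroup G := H ⊓ Subgroup.centralizer ({z} : Set G) with hCz
  set CP : Subgroup G := H ⊓ Subgroup.centralizer ((P : Subgroup G) : Set G) with hCP
  set D : Subgroup G := (Cfsg.pPrimeCore q ↥Cz).map Cz.subtype with hD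
  set E : Subgroup G := (Cfsg.pPrimeCore q ↥CP).map CP.subtype with hE
  have hDCz : D ≤ Cz := by rintro _ ⟨d, _, rfl⟩; exact d.2
  have hECP : E ≤ CP := by rintro _ ⟨d, _, rfl⟩; exact d.2
  have hDq : (Nat.card D).Coprime q := by
    rw [hD, Subgroup.card_map_of_injective (Subgroup.subtype_injective _)]
    exact Cfsg.Agent.Helper23.pPrimeCore_coprime q
  have hEq : (Nat.card E).Coprime q := by
    rw [hE, Subgroup.card_map_of_injective (Subgroup.subtype_injective _)]
    exact Cfsg.Agent.Helper23.pPrimeCore_coprime q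
  have hDnorm : ∀ c ∈ Cz, ∀ d ∈ D, c * d * c⁻¹ ∈ D := by
    intro c hc d hd
    obtain ⟨d', hd', rfl⟩ := hd
    have hn : (Cfsg.pPrimeCore q ↥Cz).Normal := Cfsg.Agent.Helper23.pPrimeCore_normal_fin q
    exact ⟨⟨c, hc⟩ * d' * ⟨c, hc⟩⁻¹, hn.conj_mem d' hd' ⟨c, hc⟩, rfl⟩
  have hEnorm : ∀ c ∈ CP, ∀ e ∈ E, c * e * c⁻¹ ∈ E := by
    intro c hc d hd
    obtain ⟨d', hd', rfl⟩ := hd
    have hn : (Cfsg.pPrimeCore q ↥CP).Normal := Cfsg.Agent.Helper23.pPrimeCore_normal_fin q
    exact ⟨⟨c, hc⟩ * d' * ⟨c, hc⟩⁻¹, hn.conj_mem d' hd' ⟨c, hc⟩, rfl⟩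
  have hLcop : (Nat.card L).Coprime p :=
    Nat.Coprime.coprime_dvd_left (Subgroup.card_dvd_of_le hLH) hHcop
  have hELn : ∀ h ∈ H, ∀ x ∈ E ⊔ L, h * x * h⁻¹ ∈ E ⊔ L := by
    intro h hh x hx
    have hv : ∀ c ∈ (P : Subgroup G), h⁻¹ * c * h * c⁻¹ ∈ L := by
      intro c hc
      have h1 := Subgroup.commutator_mem_commutator (H₁ := H) (H₂ := (P : Subgroup G))
        (H.inv_mem hh) hc
      rw [commutatorElement_def, inv_inv] at h1
      exact h1
    obtain ⟨n, hn, hfix⟩ :=
      Cfsg.Agent.Helper23.exists_fixed_lift L hLcop (P : Subgroup G) P.isPGroup' h hv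
    have hcCP : h * n ∈ CP :=
      Subgroup.mem_inf.mpr ⟨H.mul_mem hh (hLH hn),
        Subgroup.mem_centralizer_iff.mpr (fun y hy => hfix y hy)⟩
    have hnEL : n ∈ E ⊔ L := (le_sup_right : L ≤ E ⊔ L) hn
    have hx1 : n⁻¹ * x * n ∈ E ⊔ L :=
      Subgroup.mul_mem _ (Subgroup.mul_mem _ (Subgroup.inv_mem _ hnEL) hx) hnEL
    have hconj := Cfsg.Agent.Helper25.Bal.conj_sup_mem (A := E) (B := L) (c := h * n)
      (fun a ha => (le_sup_left : E ≤ E ⊔ L) (hEnorm _ hcCP a ha))
      (fun b hb => (le_sup_right : L ≤ E ⊔ L) (hLn.conj_mem b hb _)) _ hx1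
    have e : h * n * (n⁻¹ * x * n) * (h * n)⁻¹ = h * x * h⁻¹ := by group
    rw [e] at hconj
    exact hconj
  have hcore := Cfsg.Agent.Helper25.Bal.core_le H L D E z hLH hsol (hECP.trans inf_le_left) hEq
    hELn hzH hz hDq
    (by
      intro d hd
      have h1 := (Subgroup.mem_inf.mp (hDCz hd)).2
      rw [Subgroup.mem_centralizer_iff] at h1
      exact h1 z (Set.mem_singleton z))
    (by
      intro c hc hcz d hd
      apply hDnorm c (Subgroup.mem_inf.mpr ⟨hc, ?_⟩) d hd
      rw [Subgroup.mem_centralizer_iff]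
      intro y hy
      rw [Set.mem_singleton_iff] at hy
      rw [hy]; exact hcz.symm)
  apply sup_le
  · exact (inf_le_inf_left D le_sup_left).trans hcore
  · refine le_trans (le_inf ?_ ?_) hcore
    · rw [Subgroup.commutator_le]
      intro d hd x hx
      have c1 : Commute x z := (Subgroup.mem_centralizer_iff.mp hzP) x hx
      have hxN : x ∈ Subgroup.normalizer (Cz : Set G) := by
        apply Cfsg.Agent.Helper25.Bal.mem_normalizer_of_conj
        · intro a ha
          have ha' := Subgroup.mem_inf.mp ha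
          have c2 : Commute a z := ((Subgroup.mem_centralizer_iff.mp ha'.2) z rfl).symm
          refine Subgroup.mem_inf.mpr ⟨hHn.conj_mem a ha'.1 x, ?_⟩
          rw [Subgroup.mem_centralizer_iff]
          intro y hy
          rw [Set.mem_singleton_iff] at hy
          rw [hy]
          exact ((c1.mul_left c2).mul_left c1.inv_left).eq.symm
        · intro a ha
          have ha' := Subgroup.mem_inf.mp ha
          have c2 : Commute a z := ((Subgroup.mem_centralizer_iff.mp ha'.2) z rfl).symm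
          refine Subgroup.mem_inf.mpr ⟨?_, ?_⟩
          · have h5 := hHn.conj_mem a ha'.1 x⁻¹
            rw [inv_inv] at h5
            exact h5
          · rw [Subgroup.mem_centralizer_iff]
            intro y hy
            rw [Set.mem_singleton_iff] at hy
            rw [hy]
            exact ((c1.inv_left.mul_left c2).mul_left c1).eq.symm
      obtain ⟨d₀, hd₀, rfl⟩ := hd
      obtain ⟨d', hd', hd'e⟩ := Cfsg.Agent.Helper9.char_conj_mem (Cfsg.pPrimeCore q ↥Cz)
        (Cfsg.Agent.Helper9.pPrimeCore_characteristic q _) x hxN (d₀⁻¹) (Subgroup.inv_mem _ hd₀)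
      rw [commutatorElement_def]
      refine ⟨d₀ * d', Subgroup.mul_mem _ hd₀ hd', ?_⟩
      rw [map_mul]
      show (d₀ : G) * (d' : G) = (d₀ : G) * x * (d₀ : G)⁻¹ * x⁻¹
      rw [hd'e]
      simp [mul_assoc]
    · exact (Subgroup.commutator_mono (hDCz.trans inf_le_left) le_rfl).trans le_sup_right

end Cfsg.Agent.S3819
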