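import Mathlib
import Cfsg.Statements.S3824
import Cfsg.Agent.Helper19.SylowQuot
import Cfsg.Agent.Helper24.CharBurnside

set_option autoImplicit false
open Cfsg

namespace Cfsg.Agent.S3824

universe u

theorem aux (n : ℕ) : ∀ (G : Type u) [Group G] [Finite G], Nat.card G = n →
    ∀ A : Subgroup G, (∀ a ∈ A, ∀ b ∈ A, a * b = b * a) → (∃ k : ℕ, A.index = 2 ^ k) →
    Group.IsSolvable G := by
  induction n using Nat.strong_induction_on with
  | _ n ih =>
    intro G _ _ hn A hA hidx
    obtain ⟨k, hk⟩ := hidx
    by_cases hex : ∃ N : Subgroup G, N.Normal ∧ N ≠ ⊥ ∧ N ≠ ⊤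
    · obtain ⟨N, hN, hNbot, hNtop⟩ := hex
      haveI := hN
      have hNlt : Nat.card N < n := by
        rw [← hn]
        exact lt_of_le_of_ne (Subgroup.card_le_card_group N)
          (fun h => hNtop (Subgroup.eq_top_of_card_eq N h))
      have hQlt : Nat.card (G ⧸ N) < n := by
        rw [← hn, ← Subgroup.card_mul_index N]
        have h1 : 1 < Nat.card N := (Subgroup.one_lt_card_iff_ne_bot N).mpr hNbot
        have h2 : 0 < N.index := Nat.pos_of_ne_zero Subgroup.index_ne_zero_of_finite
        show N.index < Nat.card N * N.index
        nlinarith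
      haveI hNs : Group.IsSolvable N := by
        refine ih _ hNlt N rfl (A.subgroupOf N) ?_ ?_
        · intro a ha b hb
          apply Subtype.ext
          exact hA a ha b hb
        · have hd : A.relIndex N ∣ 2 ^ k := by
            rw [← Cfsg.Agent.Helper19.relIndex_sup_normal A N, ← hk]
            exact Subgroup.relIndex_dvd_index_of_le le_sup_left
          obtain ⟨j, -, hj⟩ := (Nat.dvd_prime_pow Nat.prime_two).mp hd
          exact ⟨j, hj⟩
      haveI hQs : Group.IsSolvable (G ⧸ N) := by
        refine ih _ hQlt (G ⧸ N) rfl (A.map (QuotientGroup.mk' N)) ?_ ?_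
        · rintro _ ⟨a, ha, rfl⟩ _ ⟨b, hb, rfl⟩
          rw [← map_mul, ← map_mul, hA a ha b hb]
        · have hd : (A.map (QuotientGroup.mk' N)).index ∣ 2 ^ k :=
            hk ▸ Subgroup.index_map_dvd (H := A) (QuotientGroup.mk'_surjective N)
          obtain ⟨j, -, hj⟩ := (Nat.dvd_prime_pow Nat.prime_two).mp hd
          exact ⟨j, hj⟩
      exact solvable_of_ker_le_range N.subtype (QuotientGroup.mk' N)
        (by rw [QuotientGroup.ker_mk', Subgroup.range_subtype])
    · rcases subsingleton_or_nontrivial G with hs | hnt
      · exact isSolvable_of_comm (fun a b => Subsingleton.elim _ _)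
      · haveI : IsSimpleGroup G :=
          { toNontrivial := hnt
            eq_bot_or_eq_top_of_normal := fun N hN => by
              by_contra hc
              rw [not_or] at hc
              exact hex ⟨N, hN, hc.1, hc.2⟩ }
        rcases A.bot_or_exists_ne_one with hAbot | ⟨g, hgA, hg1⟩
        · have hcard : Nat.card G = 2 ^ k := by
            rw [← hk, hAbot, Subgroup.index_bot]
          haveI : Fact (Nat.Prime 2) := ⟨Nat.prime_two⟩
          have hp : IsPGroup 2 G := IsPGroup.of_card hcard
          haveI := hp.isNilpotent
          infer_instance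
        · have hle : A ≤ Subgroup.centralizer ({g} : Set G) := by
            intro a ha
            rw [Subgroup.mem_centralizer_iff]
            intro x hx
            rw [Set.mem_singleton_iff] at hx
            rw [hx]
            exact hA g hgA a ha
          have hd : (Subgroup.centralizer ({g} : Set G)).index ∣ 2 ^ k :=
            hk ▸ Subgroup.index_dvd_of_le hle
          obtain ⟨j, -, hj⟩ := (Nat.dvd_prime_pow Nat.prime_two).mp hd
          have hprime := Cfsg.Agent.Helper24.prime_card_of_simple_of_primepow_class
            2 j Nat.prime_two g hg1 hj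
          haveI : Fact (Nat.card G).Prime := ⟨hprime⟩
          have hp : IsPGroup (Nat.card G) G := IsPGroup.of_card (n := 1) (pow_one _).symm
          haveI := hp.isNilpotent
          infer_instance

/-- Every finite group having an abelian subgroup whose index is a power of 2 is solvable. -/
theorem result {G : Type*} [Group G] [Finite G]
    (A : Subgroup G) (hA : IsMulCommutative A) (hidx : ∃ k : ℕ, A.index = 2 ^ k) : Group.IsSolvable G := by
  exact aux _ G rfl A (fun a ha b hb => setLike_mul_comm ha hb) hidx

end Cfsg.Agent.S3824
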