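import Cfsg.Statements.S3862
import Mathlib
import Cfsg.Agent.Helper8.TwoLocal
import Cfsg.Agent.Helper1.Frobenius

set_option autoImplicit false
open Cfsg

namespace Cfsg.Agent.S3862

/-- If every 2-element of the finite group G that is conjugate to its inverse lies in the centre of G, then G has a normal 2-complement. -/
theorem result {G : Type*} [Group G] [Finite G] (h : ∀ x : G, (∃ j : ℕ, orderOf x = 2 ^ j) → IsConj x x⁻¹ → x ∈ Subgroup.center G) : Cfsg.HasNormalPComplement 2 G := by
  haveI : Fact (Nat.Prime 2) := ⟨Nat.prime_two⟩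
  apply Cfsg.Agent.Helper1.npc_of_local
  intro Q hQ g hg hgo
  have hinv : ∀ s : G, s ^ 2 = 1 → s ∈ Subgroup.center G := by
    intro s hs
    apply h s
    · have hd : orderOf s ∣ 2 := orderOf_dvd_of_pow_eq_one hs
      rcases (Nat.dvd_prime Nat.prime_two).mp hd with h1 | h1
      · exact ⟨0, by rw [h1, pow_zero]⟩
      · exact ⟨1, by rw [h1, pow_one]⟩
    · have e : s⁻¹ = s := by
        rw [inv_eq_iff_mul_eq_one, ← pow_two]; exact hs
      exact Eq.mpr (congrArg (IsConj s) e) (IsConj.refl s)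
  obtain ⟨a, ha⟩ : ∃ a : MulAut G, a = MulAut.conj g := ⟨_, rfl⟩
  have hak : a ^ orderOf g = 1 := by rw [ha, ← map_pow, pow_orderOf_eq_one, map_one]
  have hainv : ∀ q ∈ Q, a q ∈ Q := by
    intro q hq
    rw [ha, MulAut.conj_apply]
    exact (Subgroup.mem_normalizer_iff.mp hg q).mp hq
  have hfix4 : ∀ t ∈ Q, t ^ 4 = 1 → a t = t := by
    intro t htQ ht4
    by_contra hne
    obtain ⟨t', ht'⟩ : ∃ t', t' = g * t * g⁻¹ := ⟨_, rfl⟩
    have hat : a t = t' := by rw [ha, MulAut.conj_apply, ht']
    rw [hat] at hne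
    have ht'Q : t' ∈ Q := by rw [← hat]; exact hainv t htQ
    obtain ⟨z, hz⟩ : ∃ z, z = t ^ 2 := ⟨_, rfl⟩
    have hz2 : z ^ 2 = 1 := by rw [hz, ← pow_mul]; exact ht4
    have hzc : z ∈ Subgroup.center G := hinv z hz2
    have hzcomm : ∀ w : G, w * z = z * w := fun w => Subgroup.mem_center_iff.mp hzc w
    have ht'2 : t' ^ 2 = z := by
      rw [ht', conj_pow, ← hz, hzcomm g, mul_inv_cancel_right]
    obtain ⟨u, hu⟩ : ∃ u, u = t * t' := ⟨_, rfl⟩
    have huQ : u ∈ Q := by rw [hu]; exact Q.mul_mem htQ ht'Q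
    have hinvt' : t'⁻¹ = t' * z := by
      apply inv_eq_of_mul_eq_one_right
      rw [← mul_assoc, ← pow_two, ht'2, ← pow_two, hz2]
    have hconj : t * u * t⁻¹ = u⁻¹ := by
      calc t * u * t⁻¹ = (t * t) * t' * t⁻¹ := by rw [hu]; group
        _ = z * t' * t⁻¹ := by rw [← pow_two, ← hz]
        _ = t' * z * t⁻¹ := by rw [hzcomm t']
        _ = t'⁻¹ * t⁻¹ := by rw [← hinvt']
        _ = u⁻¹ := by rw [hu, mul_inv_rev]
    have hupow : ∃ j : ℕ, orderOf u = 2 ^ j := by
      obtain ⟨j, hj⟩ := IsPGroup.iff_orderOf.mp hQ ⟨u, huQ⟩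
      exact ⟨j, by rw [← hj, Subgroup.orderOf_mk]⟩
    have huc : u ∈ Subgroup.center G := h u hupow (isConj_iff.mpr ⟨t, hconj⟩)
    have hcomm : t * t' = t' * t := by
      have h1 := Subgroup.mem_center_iff.mp huc t
      rw [hu] at h1
      have h2 : t * (t * t') = t * (t' * t) := by rw [h1, mul_assoc]
      exact mul_left_cancel h2
    obtain ⟨s, hs⟩ : ∃ s, s = t' * t⁻¹ := ⟨_, rfl⟩
    have hs2 : s ^ 2 = 1 := by
      have hc : Commute t' t⁻¹ := Commute.inv_right (show Commute t' t from hcomm.symm)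
      rw [hs, hc.mul_pow, ht'2, inv_pow, ← hz, mul_inv_cancel]
    have hsc := hinv s hs2
    have hscomm : ∀ w : G, w * s = s * w := fun w => Subgroup.mem_center_iff.mp hsc w
    have ht's : t' = s * t := by rw [hs]; group
    have h1 : g * t = s * t * g := by
      have e : g * t = g * t * g⁻¹ * g := by group
      rw [e, ← ht', ht's]
    have hg2 : g ^ 2 * t = t * g ^ 2 := by
      calc g ^ 2 * t = g * (g * t) := by rw [pow_two, mul_assoc]
        _ = g * (s * t * g) := by rw [h1]
        _ = s * (g * t) * g := by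
            have e1 : g * (s * t * g) = (g * s) * (t * g) := by simp only [mul_assoc]
            have e2 : s * (g * t) * g = (s * g) * (t * g) := by simp only [mul_assoc]
            rw [e1, e2, hscomm g]
        _ = s * (s * t * g) * g := by rw [h1]
        _ = (s * s) * t * g * g := by simp only [mul_assoc]
        _ = t * g ^ 2 := by rw [← pow_two, hs2, one_mul, pow_two, mul_assoc]
    have hodd : Odd (orderOf g) := Nat.coprime_two_left.mp hgo.symm
    obtain ⟨w, hw⟩ := hodd
    have hgt : g * t = t * g := by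
      have h2 : g = (g ^ 2) ^ (w + 1) := by
        rw [← pow_mul]
        have e : 2 * (w + 1) = orderOf g + 1 := by omega
        rw [e, pow_succ, pow_orderOf_eq_one, one_mul]
      have hc : Commute (g ^ 2) t := hg2
      have h3 := (hc.pow_left (w + 1)).eq
      rw [← h2] at h3
      exact h3
    apply hne
    rw [ht']
    calc g * t * g⁻¹ = t * g * g⁻¹ := by rw [hgt]
      _ = t := by group
  have key := Cfsg.Agent.Helper8.aut_fix_of_fix_order_four a (orderOf g) hak hgo _ Q rfl hQ
    hainv hfix4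
  rw [Subgroup.mem_centralizer_iff]
  intro q hq
  have h1 := key q hq
  rw [ha, MulAut.conj_apply] at h1
  calc q * g = g * q * g⁻¹ * g := by rw [h1]
    _ = g * q := by group

end Cfsg.Agent.S3862
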