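import Cfsg.Statements.S3868
import Mathlib
import Cfsg.Agent.Helper1.IrredCyc
import Cfsg.Agent.Helper3.ElemAb
import Cfsg.Agent.Helper5.Grp
import Cfsg.Agent.S0023
import Cfsg.Agent.S0043

set_option autoImplicit false

open Cfsg

namespace Cfsg.Agent.S3868

/-- A Sylow subgroup of a normal subgroup `M`, normal in `M`, is normal in the whole group. -/
theorem normal_of_sylow_normal {G : Type*} [Group G] [Finite G] {p : ℕ} [Fact p.Prime]
    (M : Subgroup G) [M.Normal] (R : Sylow p M) (hR : (R : Subgroup M).Normal) :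
    ((R : Subgroup M).map M.subtype).Normal := by
  have h1 := Sylow.normalizer_sup_eq_top R
  have h2 : M ≤ Subgroup.normalizer (((R : Subgroup M).map M.subtype : Subgroup G) : Set G) := by
    intro m hm
    apply Helper5.mem_normalizer_of_conj_mem
    rintro _ ⟨r, hr, rfl⟩
    exact ⟨⟨m, hm⟩ * r * ⟨m, hm⟩⁻¹, hR.conj_mem r hr ⟨m, hm⟩, rfl⟩
  rw [sup_eq_left.mpr h2] at h1
  exact Subgroup.normalizer_eq_top_iff.mp h1

theorem zpowers_solvable {G : Type*} [Group G] (a : G) : Group.IsSolvable (Subgroup.zpowers a) := by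
  apply isSolvable_of_comm
  rintro ⟨x, hx⟩ ⟨y, hy⟩
  obtain ⟨i, rfl⟩ := Subgroup.mem_zpowers_iff.mp hx
  obtain ⟨j, rfl⟩ := Subgroup.mem_zpowers_iff.mp hy
  apply Subtype.ext
  show a ^ i * a ^ j = a ^ j * a ^ i
  rw [← zpow_add, ← zpow_add, add_comm]

theorem solvable_of_card_dvd_prime {p : ℕ} [Fact p.Prime] {K : Type*} [Group K] (h : Nat.card K ∣ p) :
    Group.IsSolvable K := by
  haveI := isCyclic_of_card_dvd_prime h
  obtain ⟨g, hg⟩ := IsCyclic.exists_generator (α := K)
  apply isSolvable_of_comm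
  intro a b
  obtain ⟨i, rfl⟩ := Subgroup.mem_zpowers_iff.mp (hg a)
  obtain ⟨j, rfl⟩ := Subgroup.mem_zpowers_iff.mp (hg b)
  rw [← zpow_add, ← zpow_add, add_comm]

/-- Structure of the non-simple minimal non-p-closed groups. Call a finite group p-closed when its Sylow p-subgroups are normal, and minimal non-p-closed when it is not p-closed but every proper subgroup and every proper quotient is. If such a group G is not simple, then there is a prime q ≠ p such that G has order p · q^e, where e is the multiplicative order of q modulo p, and G has a normal subgroup A of order q^e that is elementary abelian and is a minimal normal subgroup of G (so G is the semidirect product of A by a group of order p acting irreducibly). -/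
theorem result {G : Type*} [Group G] [Finite G] {p : ℕ} [Fact p.Prime]
    (hnc : ¬ Cfsg.IsPClosed p G) (hsub : ∀ H : Subgroup G, H ≠ ⊤ → Cfsg.IsPClosed p ↥H)
    (hquo : ∀ (N : Subgroup G) [N.Normal], N ≠ ⊥ → Cfsg.IsPClosed p (G ⧸ N)) (hns : ¬ IsSimpleGroup G) :
    ∃ q : ℕ, q.Prime ∧ q ≠ p ∧ Nat.card G = p * q ^ orderOf (q : ZMod p) ∧
      ∃ A : Subgroup G, A.Normal ∧ Nat.card ↥A = q ^ orderOf (q : ZMod p) ∧ Cfsg.IsElementaryAbelian q A ∧
        ∀ B : Subgroup G, B.Normal → B ≤ A → B = ⊥ ∨ B = A := by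
  classical
  have hp : p.Prime := Fact.out
  have hex : ∃ P : Sylow p G, ¬ (P : Subgroup G).Normal := by
    by_contra h; push_neg at h; exact hnc h
  obtain ⟨P, hPn⟩ := hex
  -- for every nontrivial normal subgroup `N`, `P N = G`
  have hPN : ∀ N : Subgroup G, N.Normal → N ≠ ⊥ → (P : Subgroup G) ⊔ N = ⊤ := by
    intro N hNn hN
    haveI := hNn
    by_contra hne
    have h1 : ((P.mapSurjective (QuotientGroup.mk'_surjective N) : Sylow p (G ⧸ N)) :
        Subgroup (G ⧸ N)).Normal := hquo N hN _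
    rw [Sylow.coe_mapSurjective] at h1
    have h2 : (((P : Subgroup G).map (QuotientGroup.mk' N)).comap (QuotientGroup.mk' N)).Normal :=
      h1.comap _
    rw [Subgroup.comap_map_eq, QuotientGroup.ker_mk'] at h2
    haveI := h2
    have h3 := hsub ((P : Subgroup G) ⊔ N) hne (P.subtype le_sup_left)
    have h4 := normal_of_sylow_normal ((P : Subgroup G) ⊔ N) (P.subtype le_sup_left) h3
    rw [Sylow.coe_subtype, Subgroup.subgroupOf_map_subtype, inf_of_le_left le_sup_left] at h4
    exact hPn h4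
  -- no nontrivial normal `p`-subgroup
  have hOp : ∀ K : Subgroup G, K.Normal → IsPGroup p K → K = ⊥ := by
    intro K hKn hKp
    by_contra hK
    have h1 := hPN K hKn hK
    have h2 : K ≤ (P : Subgroup G) := by
      obtain ⟨Q, hQ⟩ := hKp.exists_le_sylow
      obtain ⟨g, rfl⟩ := MulAction.exists_smul_eq G Q P
      intro k hk
      rw [Helper5.mem_sylow_smul]
      exact hQ (by have := hKn.conj_mem k hk g⁻¹; simpa using this)
    rw [sup_eq_left.mpr h2] at h1
    apply hPn
    rw [h1]; infer_instance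
  -- proper normal subgroups are `p'`-groups
  have hp' : ∀ M : Subgroup G, M.Normal → M ≠ ⊤ → ¬ p ∣ Nat.card M := by
    intro M hMn hM hdvd
    haveI := hMn
    obtain ⟨R⟩ : Nonempty (Sylow p M) := inferInstance
    have h1 := hsub M hM R
    have h2 := normal_of_sylow_normal M R h1
    have h3 := hOp _ h2 (R.2.map M.subtype)
    have h4 : (R : Subgroup M) = ⊥ :=
      (Subgroup.map_eq_bot_iff_of_injective _ M.subtype_injective).mp h3
    have h5 : ¬ p ∣ (R : Subgroup M).index := R.not_dvd_index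
    rw [h4, Subgroup.index_bot] at h5
    exact h5 hdvd
  haveI hGnt : Nontrivial G := by
    by_contra h
    rw [not_nontrivial_iff_subsingleton] at h
    apply hPn
    constructor; intro n hn g; rw [Subsingleton.elim (g * n * g⁻¹) n]; exact hn
  have hex2 : ∃ N : Subgroup G, N.Normal ∧ N ≠ ⊥ ∧ N ≠ ⊤ := by
    by_contra h
    push_neg at h
    exact hns { exists_pair_ne := hGnt.exists_pair_ne
                eq_bot_or_eq_top_of_normal := fun N hN => by
                  by_cases hb : N = ⊥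
                  · exact Or.inl hb
                  · exact Or.inr (h N hN hb) }
  obtain ⟨N0, hN0n, hN0b, hN0t⟩ := hex2
  obtain ⟨N, ⟨hNn, hNb⟩, hNmin⟩ := Set.Finite.exists_minimalFor
    (fun N : Subgroup G => Nat.card N) {N : Subgroup G | N.Normal ∧ N ≠ ⊥} (Set.toFinite _)
    ⟨N0, hN0n, hN0b⟩
  have hNt : N ≠ ⊤ := by
    intro h
    have h1 : Nat.card N ≤ Nat.card N0 :=
      hNmin (show N0 ∈ {N : Subgroup G | N.Normal ∧ N ≠ ⊥} from ⟨hN0n, hN0b⟩)
        (Subgroup.card_le_of_le (by rw [h]; exact le_top))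
    rw [h, Subgroup.card_top] at h1
    exact hN0t ((Subgroup.card_eq_iff_eq_top N0).mp
      (le_antisymm (Subgroup.card_le_card_group N0) h1))
  have hminN : ∀ B : Subgroup G, B.Normal → B ≤ N → B = ⊥ ∨ B = N := by
    intro B hBn hBN
    by_cases hB : B = ⊥
    · exact Or.inl hB
    · right
      have h1 : Nat.card N ≤ Nat.card B :=
        hNmin (show B ∈ {N : Subgroup G | N.Normal ∧ N ≠ ⊥} from ⟨hBn, hB⟩)
          (Subgroup.card_le_of_le hBN)
      exact Subgroup.eq_of_le_of_card_ge hBN h1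
  haveI := hNn
  have hpN : ¬ p ∣ Nat.card N := hp' N hNn hNt
  have hPb : (P : Subgroup G) ≠ ⊥ := by
    intro h; apply hPn; rw [h]; infer_instance
  have hpP : p ∣ Nat.card (P : Subgroup G) := by
    obtain ⟨n, hn⟩ := IsPGroup.iff_card.mp P.2
    have hn0 : n ≠ 0 := by
      rintro rfl
      rw [pow_zero] at hn
      exact hPb (Subgroup.card_eq_one.mp hn)
    have h2 : Nat.card (P : Subgroup G) = p ^ n := hn
    rw [h2]
    exact dvd_pow_self p hn0
  obtain ⟨⟨a, haP⟩, hao⟩ := exists_prime_orderOf_dvd_card' (G := ↥(P : Subgroup G)) p hpP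
  have hao' : orderOf a = p := by rw [← hao]; exact (Subgroup.orderOf_mk a haP).symm
  have hap : a ^ p = 1 := by rw [← hao']; exact pow_orderOf_eq_one a
  have hza : Nat.card (Subgroup.zpowers a) = p := by rw [Nat.card_zpowers, hao']
  -- an invariant `p'`-subgroup with `⟨a⟩ M ≠ G` is centralized by `a`
  have hL2 : ∀ M : Subgroup G, ¬ p ∣ Nat.card M → (∀ m ∈ M, a * m * a⁻¹ ∈ M) →
      Subgroup.zpowers a ⊔ M ≠ ⊤ → ∀ m ∈ M, a * m * a⁻¹ = m := by
    intro M hpM haM hne m hm
    obtain ⟨H, hHdef⟩ : ∃ H : Subgroup G, H = Subgroup.zpowers a ⊔ M := ⟨_, rfl⟩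
    rw [← hHdef] at hne
    have haH : a ∈ H := by rw [hHdef]; exact Subgroup.mem_sup_left (Subgroup.mem_zpowers a)
    have hmH : m ∈ H := by rw [hHdef]; exact Subgroup.mem_sup_right hm
    have hzaH : IsPGroup p (Subgroup.zpowers (⟨a, haH⟩ : H)) :=
      IsPGroup.of_card (n := 1) (by rw [Nat.card_zpowers, Subgroup.orderOf_mk, hao', pow_one])
    obtain ⟨S, hS⟩ := hzaH.exists_le_sylow
    have hSn : (S : Subgroup H).Normal := hsub H hne S
    have haS : (⟨a, haH⟩ : H) ∈ (S : Subgroup H) := hS (Subgroup.mem_zpowers _)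
    have hcS : (⟨a, haH⟩ : H) * (⟨m, hmH⟩ * (⟨a, haH⟩ : H)⁻¹ * (⟨m, hmH⟩ : H)⁻¹) ∈ (S : Subgroup H) :=
      (S : Subgroup H).mul_mem haS (hSn.conj_mem _ ((S : Subgroup H).inv_mem haS) ⟨m, hmH⟩)
    obtain ⟨k, hk⟩ := S.2 ⟨_, hcS⟩
    have hk' : (a * (m * a⁻¹ * m⁻¹)) ^ p ^ k = 1 := by
      have := congrArg (fun z : H => (z : G)) (congrArg Subtype.val hk)
      simpa using this
    have hcM : a * (m * a⁻¹ * m⁻¹) ∈ M := by
      have e : a * (m * a⁻¹ * m⁻¹) = a * m * a⁻¹ * m⁻¹ := by group
      rw [e]; exact M.mul_mem (haM m hm) (M.inv_mem hm)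
    have h1 : orderOf (a * (m * a⁻¹ * m⁻¹)) ∣ p ^ k := orderOf_dvd_of_pow_eq_one hk'
    have h2 : orderOf (a * (m * a⁻¹ * m⁻¹)) ∣ Nat.card M := by
      have := orderOf_dvd_natCard (⟨_, hcM⟩ : M)
      rwa [Subgroup.orderOf_mk] at this
    have h3 : Nat.Coprime (p ^ k) (Nat.card M) :=
      Nat.Coprime.pow_left k ((Nat.Prime.coprime_iff_not_dvd hp).mpr hpM)
    have h4 : orderOf (a * (m * a⁻¹ * m⁻¹)) ∣ 1 := by
      have := Nat.dvd_gcd h1 h2
      rwa [Nat.Coprime.gcd_eq_one h3] at this
    have h5 := orderOf_eq_one_iff.mp (Nat.dvd_one.mp h4)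
    have e : a * m * a⁻¹ = (a * (m * a⁻¹ * m⁻¹)) * m := by group
    rw [e, h5, one_mul]
  -- `a` does not centralize `N`
  have hnotcent : ¬ ∀ n ∈ N, a * n * a⁻¹ = n := by
    intro hc
    have hCn : (Subgroup.centralizer (N : Set G)).Normal := inferInstance
    have haC : a ∈ Subgroup.centralizer (N : Set G) := by
      rw [Subgroup.mem_centralizer_iff]
      intro n hn
      have := hc n hn
      rw [mul_inv_eq_iff_eq_mul] at this; exact this.symm
    have hCt : Subgroup.centralizer (N : Set G) = ⊤ := by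
      by_contra hne
      apply hp' _ hCn hne
      have h1 : orderOf a ∣ Nat.card (Subgroup.centralizer (N : Set G)) := by
        have := orderOf_dvd_natCard (⟨a, haC⟩ : Subgroup.centralizer (N : Set G))
        rwa [Subgroup.orderOf_mk] at this
      rwa [hao'] at h1
    have hNP : N ≤ Subgroup.normalizer ((P : Subgroup G) : Set G) := by
      intro n hn
      apply Helper5.mem_normalizer_of_conj_mem
      intro x hx
      have : x ∈ Subgroup.centralizer (N : Set G) := by rw [hCt]; trivial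
      have h1 := Subgroup.mem_centralizer_iff.mp this n hn
      rw [h1, mul_inv_cancel_right]; exact hx
    have h2 : (P : Subgroup G) ⊔ N ≤ Subgroup.normalizer ((P : Subgroup G) : Set G) :=
      sup_le Subgroup.le_normalizer hNP
    rw [hPN N hNn hNb] at h2
    exact hPn (Subgroup.normalizer_eq_top_iff.mp (top_le_iff.mp h2))
  have hNa : ∀ n ∈ N, a * n * a⁻¹ ∈ N := fun n hn => hNn.conj_mem n hn a
  have haN : Subgroup.zpowers a ⊔ N = ⊤ := by
    by_contra hne
    exact hnotcent (hL2 N hpN hNa hne)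
  have hcopN : (Nat.card (Subgroup.zpowers a)).Coprime (Nat.card N) := by
    rw [hza]; exact (Nat.Prime.coprime_iff_not_dvd hp).mpr hpN
  have hzN : Subgroup.zpowers a ≤ Subgroup.normalizer (N : Set G) := by
    rw [Subgroup.normalizer_eq_top]; exact le_top
  have hcardG : Nat.card G = p * Nat.card N := by
    have h1 := Helper3.card_mul_card_eq_of_le_normalizer (Subgroup.zpowers a) N hzN
    have h2 : Subgroup.zpowers a ⊓ N = ⊥ := Subgroup.inf_eq_bot_of_coprime hcopN
    rw [h2, Subgroup.card_bot, mul_one, haN, Subgroup.card_top, hza] at h1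
    exact h1.symm
  -- `N` is a `q`-group
  obtain ⟨K, hKdef⟩ : ∃ K : Subgroup G, K = N ⊓ Subgroup.centralizer ({a} : Set G) := ⟨_, rfl⟩
  have hKne : ¬ N ≤ K := by
    intro h
    apply hnotcent
    intro n hn
    have h1 : n ∈ K := h hn
    rw [hKdef] at h1
    have h2 := Subgroup.mem_centralizer_iff.mp h1.2 a rfl
    rw [h2, mul_inv_cancel_right]
  have hrel : K.relIndex N ≠ 1 := fun h => hKne (Subgroup.relIndex_eq_one.mp h)
  obtain ⟨q, hq, hqdvd⟩ := Nat.exists_prime_and_dvd hrel
  haveI : Fact q.Prime := ⟨hq⟩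
  have hqN : q ∣ Nat.card N := hqdvd.trans (Subgroup.relIndex_dvd_card K N)
  have hqp : q ≠ p := fun h => hpN (by rw [← h]; exact hqN)
  obtain ⟨Q, hQ⟩ := S0023.result (Subgroup.zpowers a) N hzN hcopN (Or.inl (zpowers_solvable a)) q
  obtain ⟨Q', hQ'def⟩ : ∃ Q' : Subgroup G, Q' = (Q : Subgroup N).map N.subtype := ⟨_, rfl⟩
  rw [← hQ'def] at hQ
  have hQ'N : Q' ≤ N := by rw [hQ'def]; exact Subgroup.map_subtype_le _
  have haQ : ∀ m ∈ Q', a * m * a⁻¹ ∈ Q' := fun m hm =>
    Helper5.conj_mem_of_mem_normalizer (hQ (Subgroup.mem_zpowers a)) hm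
  have hpQ : ¬ p ∣ Nat.card Q' := fun h => hpN (h.trans (Subgroup.card_dvd_of_le hQ'N))
  have hQN : Q' = N := by
    by_contra hne
    have hsup : Subgroup.zpowers a ⊔ Q' ≠ ⊤ := by
      intro htop
      apply hne
      have h1 := Helper3.card_mul_card_eq_of_le_normalizer (Subgroup.zpowers a) Q' hQ
      rw [htop, Subgroup.card_top, hza, hcardG] at h1
      have h2 : Nat.card Q' = Nat.card N * Nat.card (Subgroup.zpowers a ⊓ Q' : Subgroup G) := by
        apply Nat.eq_of_mul_eq_mul_left hp.pos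
        rw [h1, mul_assoc]
      have h3 : Nat.card N ≤ Nat.card Q' := by
        rw [h2]; exact Nat.le_mul_of_pos_right _ Nat.card_pos
      exact Subgroup.eq_of_le_of_card_ge hQ'N h3
    have hc := hL2 Q' hpQ haQ hsup
    have hQK : Q' ≤ K := by
      intro m hm
      rw [hKdef, Subgroup.mem_inf]
      refine ⟨hQ'N hm, ?_⟩
      rw [Subgroup.mem_centralizer_iff]
      rintro _ rfl
      have := hc m hm
      rw [mul_inv_eq_iff_eq_mul] at this; exact this
    have h1 : K.relIndex N ∣ Q'.relIndex N := Subgroup.relIndex_dvd_of_le_left N hQK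
    have h2 : ¬ q ∣ Q'.relIndex N := by
      have h3 := Q.not_dvd_index
      rw [Subgroup.relIndex, Subgroup.subgroupOf, hQ'def,
        Subgroup.comap_map_eq_self_of_injective N.subtype_injective]
      exact h3
    exact h2 (hqdvd.trans h1)
  have hNq : IsPGroup q N := by
    have := Q.2.map N.subtype
    rw [← hQ'def, hQN] at this
    exact this
  haveI : Group.IsSolvable N := by
    haveI := hNq.isNilpotent
    infer_instance
  haveI : Group.IsSolvable (G ⧸ N) := by
    apply solvable_of_card_dvd_prime (p := p)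
    have h1 := Subgroup.card_mul_index N
    rw [hcardG, mul_comm] at h1
    have h2 := Nat.eq_of_mul_eq_mul_right Nat.card_pos h1
    rw [← Subgroup.index_eq_card, h2]
  haveI : Group.IsSolvable G :=
    solvable_of_ker_le_range N.subtype (QuotientGroup.mk' N) (by simp)
  obtain ⟨hNc, r, hr, hNr⟩ := S0043.result N hNb hminN
  have hrq : r = q := by
    obtain ⟨⟨n, hnN⟩, hn1⟩ := Subgroup.ne_bot_iff_exists_ne_one.mp hNb
    have hn1' : n ≠ 1 := fun h => hn1 (Subtype.ext h)
    have h1 : orderOf n ∣ r := orderOf_dvd_of_pow_eq_one (hNr n hnN)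
    have h2 : orderOf n = r :=
      ((Nat.dvd_prime hr).mp h1).resolve_left (fun h => hn1' (orderOf_eq_one_iff.mp h))
    obtain ⟨k, hk⟩ := hNq ⟨n, hnN⟩
    have hk' : n ^ q ^ k = 1 := congrArg Subtype.val hk
    have h3 : r ∣ q ^ k := by rw [← h2]; exact orderOf_dvd_of_pow_eq_one hk'
    exact (Nat.prime_dvd_prime_iff_eq hr hq).mp (hr.dvd_of_dvd_pow h3)
  rw [hrq] at hNr
  haveI := hNc
  have hcommN : ∀ x ∈ N, ∀ y ∈ N, x * y = y * x := fun x hx y hy => setLike_mul_comm hx hy
  have hKL : Nat.card N = q ^ orderOf (q : ZMod p) :=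
    Helper1.card_of_irred_conj hqp N hcommN hNr a (by intro n _; rw [hap]; simp) (by
      by_contra hcon; push_neg at hcon; exact hnotcent hcon) (by
      intro B hBN hBa
      have hBn : Subgroup.normalizer (B : Set G) = ⊤ := by
        rw [eq_top_iff, ← haN]
        apply sup_le
        · rw [Subgroup.zpowers_le]
          exact Helper5.mem_normalizer_of_conj_mem B a hBa
        · intro n hn
          apply Helper5.mem_normalizer_of_conj_mem
          intro b hb
          have : n * b * n⁻¹ = b := by rw [hcommN n hn b (hBN hb), mul_inv_cancel_right]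
          rw [this]; exact hb
      exact hminN B (Subgroup.normalizer_eq_top_iff.mp hBn) hBN)
  exact ⟨q, hq, hqp, by rw [hcardG, hKL], N, hNn, hKL,
    Helper3.isElementaryAbelian_iff.mpr ⟨hcommN, hNr⟩, hminN⟩

end Cfsg.Agent.S3868
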