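import Cfsg.Statements.S3869
import Mathlib
import Cfsg.Agent.Helper1.IrredCyc
import Cfsg.Agent.Helper3.ElemAb
import Cfsg.Agent.Helper5.Grp

set_option autoImplicit false

open Cfsg

namespace Cfsg.Agent.S3869

/-- A subgroup properly containing a subgroup of prime index is everything. -/
theorem eq_top_of_index_prime {G : Type*} [Group G] {p : ℕ} (hp : p.Prime) (A C : Subgroup G)
    (hidx : A.index = p) (hAC : A ≤ C) (y : G) (hyC : y ∈ C) (hyA : y ∉ A) : C = ⊤ := by
  have h1 : A.relIndex C * C.index = A.index := Subgroup.relIndex_mul_index hAC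
  rw [hidx] at h1
  have h2 : A.relIndex C ≠ 1 := by
    intro h
    rw [Subgroup.relIndex_eq_one] at h
    exact hyA (h hyC)
  have h3 : A.relIndex C ∣ p := Dvd.intro _ h1
  have h4 : A.relIndex C = p := ((Nat.dvd_prime hp).mp h3).resolve_left h2
  rw [h4] at h1
  have h5 : C.index = 1 := Nat.eq_of_mul_eq_mul_left hp.pos (h1.trans (mul_one p).symm)
  exact Subgroup.index_eq_one.mp h5

/-- If an element outside an abelian subgroup of prime index centralizes it, the group is abelian. -/
theorem comm_of_centralizing {G : Type*} [Group G] {p : ℕ} (hp : p.Prime) (A : Subgroup G)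
    (hidx : A.index = p) (hcomm : ∀ a ∈ A, ∀ b ∈ A, a * b = b * a) (y : G) (hyA : y ∉ A)
    (hy : ∀ a ∈ A, y * a = a * y) : ∀ g h : G, g * h = h * g := by
  have hC : Subgroup.centralizer (A : Set G) = ⊤ :=
    eq_top_of_index_prime hp A _ hidx
      (fun a ha => Subgroup.mem_centralizer_iff.mpr (fun b hb => hcomm b hb a ha)) y
      (Subgroup.mem_centralizer_iff.mpr (fun a ha => (hy a ha).symm)) hyA
  have hA : ∀ a ∈ A, ∀ g : G, a * g = g * a := by
    intro a ha g
    have : g ∈ Subgroup.centralizer (A : Set G) := by rw [hC]; trivial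
    exact Subgroup.mem_centralizer_iff.mp this a ha
  have hZ : Subgroup.center G = ⊤ := by
    refine eq_top_of_index_prime hp A _ hidx
      (fun a ha => Subgroup.mem_center_iff.mpr (fun g => (hA a ha g).symm)) y ?_ hyA
    have hCy : Subgroup.centralizer ({y} : Set G) = ⊤ := by
      refine eq_top_of_index_prime hp A _ hidx (fun a ha => ?_) y ?_ hyA
      · rw [Subgroup.mem_centralizer_iff]
        rintro _ rfl
        exact (hA a ha _).symm
      · rw [Subgroup.mem_centralizer_iff]
        rintro _ rfl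
        rfl
    rw [Subgroup.mem_center_iff]
    intro g
    have : g ∈ Subgroup.centralizer ({y} : Set G) := by rw [hCy]; trivial
    exact (Subgroup.mem_centralizer_iff.mp this y rfl).symm
  intro g h
  have : g ∈ Subgroup.center G := by rw [hZ]; trivial
  exact (Subgroup.mem_center_iff.mp this h).symm

theorem isPClosed_of_comm {p : ℕ} {K : Type*} [Group K] (h : ∀ a b : K, a * b = b * a) :
    IsPClosed p K := by
  intro P
  constructor
  intro n hn g
  have : g * n * g⁻¹ = n := by rw [h g n, mul_inv_cancel_right]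
  rw [this]; exact hn

theorem isPClosed_of_card_dvd {p : ℕ} [Fact p.Prime] {K : Type*} [Group K] (h : Nat.card K ∣ p) :
    IsPClosed p K := by
  haveI := isCyclic_of_card_dvd_prime h
  obtain ⟨g, hg⟩ := IsCyclic.exists_generator (α := K)
  apply isPClosed_of_comm
  intro a b
  obtain ⟨i, rfl⟩ := Subgroup.mem_zpowers_iff.mp (hg a)
  obtain ⟨j, rfl⟩ := Subgroup.mem_zpowers_iff.mp (hg b)
  rw [← zpow_add, ← zpow_add, add_comm]

/-- an element that is both a `p`-element and of order dividing `q` is trivial -/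
theorem eq_one_of_pow_coprime {G : Type*} [Group G] {p q : ℕ} (hp : p.Prime) (hq : q.Prime)
    (hpq : q ≠ p) (c : G) (k : ℕ) (h1 : c ^ p ^ k = 1) (h2 : c ^ q = 1) : c = 1 := by
  have h3 : orderOf c ∣ Nat.gcd (p ^ k) q :=
    Nat.dvd_gcd (orderOf_dvd_of_pow_eq_one h1) (orderOf_dvd_of_pow_eq_one h2)
  have h4 : Nat.gcd (p ^ k) q = 1 := Nat.Coprime.pow_left k ((Nat.coprime_primes hp hq).mpr hpq.symm)
  rw [h4] at h3
  exact orderOf_eq_one_iff.mp (Nat.dvd_one.mp h3)

/-- Let p and q be distinct primes and G a finite non-abelian group with a normal elementary abelian q-subgroup A that is a minimal normal subgroup of G and has index p. Then A has order q^e with e the multiplicative order of q modulo p, and G is minimal non-p-closed: its Sylow p-subgroups are not normal, while in every proper subgroup and in every proper quotient of G the Sylow p-subgroups are normal. -/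
theorem result {G : Type*} [Group G] [Finite G] {p q : ℕ} [Fact p.Prime] (hq : q.Prime) (hpq : q ≠ p)
    (hna : ¬ IsMulCommutative G) (A : Subgroup G) [A.Normal] (hA : Cfsg.IsElementaryAbelian q A) (hidx : A.index = p)
    (hmin : ∀ B : Subgroup G, B.Normal → B ≤ A → B = ⊥ ∨ B = A) :
    Nat.card ↥A = q ^ orderOf (q : ZMod p) ∧ ¬ Cfsg.IsPClosed p G ∧ (∀ H : Subgroup G, H ≠ ⊤ → Cfsg.IsPClosed p ↥H) ∧
      ∀ (N : Subgroup G) [N.Normal], N ≠ ⊥ → Cfsg.IsPClosed p (G ⧸ N) := by
  classical
  have hp : p.Prime := Fact.out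
  haveI : Fact q.Prime := ⟨hq⟩
  obtain ⟨hcomm, hexp⟩ := Helper3.isElementaryAbelian_iff.mp hA
  have hnab : ¬ ∀ g h : G, g * h = h * g := fun h => hna (isMulCommutative_iff.mpr h)
  have hnc : ∀ y : G, y ∉ A → ¬ ∀ a ∈ A, y * a = a * y :=
    fun y hy h => hnab (comm_of_centralizing hp A hidx hcomm y hy h)
  have hcard : Nat.card G = p * Nat.card A := by
    rw [← hidx, mul_comm]; exact (Subgroup.card_mul_index A).symm
  obtain ⟨x, hxo⟩ := exists_prime_orderOf_dvd_card' (G := G) p (by rw [hcard]; exact dvd_mul_right _ _)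
  have hxA : x ∉ A := by
    intro hx
    have h1 : orderOf x ∣ q := orderOf_dvd_of_pow_eq_one (hexp x hx)
    rw [hxo] at h1
    exact hpq ((Nat.prime_dvd_prime_iff_eq hp hq).mp h1).symm
  have hxp : x ^ p = 1 := by rw [← hxo]; exact pow_orderOf_eq_one x
  have hx1 : ∃ a ∈ A, x * a * x⁻¹ ≠ a := by
    by_contra hcon
    push_neg at hcon
    refine hnc x hxA (fun a ha => ?_)
    have := hcon a ha
    rw [mul_inv_eq_iff_eq_mul] at this
    exact this
  have hirr : ∀ B : Subgroup G, B ≤ A → (∀ b ∈ B, x * b * x⁻¹ ∈ B) → B = ⊥ ∨ B = A := by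
    intro B hBA hBx
    have hN : Subgroup.normalizer (B : Set G) = ⊤ := by
      refine eq_top_of_index_prime hp A _ hidx (fun a ha => ?_) x ?_ hxA
      · apply Helper5.mem_normalizer_of_conj_mem
        intro b hb
        have : a * b * a⁻¹ = b := by rw [hcomm a ha b (hBA hb), mul_inv_cancel_right]
        rw [this]; exact hb
      · exact Helper5.mem_normalizer_of_conj_mem B x hBx
    exact hmin B (Subgroup.normalizer_eq_top_iff.mp hN) hBA
  have hKL : Nat.card A = q ^ orderOf (q : ZMod p) :=
    Helper1.card_of_irred_conj hpq A hcomm hexp x (by intro a _; rw [hxp]; simp) hx1 hirr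
  refine ⟨hKL, ?_, ?_, ?_⟩
  · intro hcl
    have hxP : IsPGroup p (Subgroup.zpowers x) :=
      IsPGroup.of_card (n := 1) (by rw [Nat.card_zpowers, hxo, pow_one])
    obtain ⟨P, hP⟩ := hxP.exists_le_sylow
    have hPn : (P : Subgroup G).Normal := hcl P
    have hxP' : x ∈ (P : Subgroup G) := hP (Subgroup.mem_zpowers x)
    obtain ⟨a, ha, hne⟩ := hx1
    apply hne
    have hcP : x * a * x⁻¹ * a⁻¹ ∈ (P : Subgroup G) := by
      have h1 : a * x⁻¹ * a⁻¹ ∈ (P : Subgroup G) := hPn.conj_mem _ ((P : Subgroup G).inv_mem hxP') a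
      have h2 := (P : Subgroup G).mul_mem hxP' h1
      have e : x * (a * x⁻¹ * a⁻¹) = x * a * x⁻¹ * a⁻¹ := by group
      rw [e] at h2; exact h2
    have hcA : x * a * x⁻¹ * a⁻¹ ∈ A :=
      A.mul_mem (‹A.Normal›.conj_mem a ha x) (A.inv_mem ha)
    obtain ⟨k, hk⟩ := P.2 ⟨_, hcP⟩
    have hk' : (x * a * x⁻¹ * a⁻¹) ^ p ^ k = 1 := congrArg Subtype.val hk
    have h1 := eq_one_of_pow_coprime hp hq hpq _ k hk' (hexp _ hcA)
    exact mul_inv_eq_one.mp h1
  · intro H hH
    by_cases hHA : H ≤ A
    · exact isPClosed_of_comm (fun a b => Subtype.ext (hcomm a (hHA a.2) b (hHA b.2)))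
    · obtain ⟨y, hyH, hyA⟩ := SetLike.not_le_iff_exists.mp hHA
      have hAH : ¬ A ≤ H := fun h => hH (eq_top_of_index_prime hp A H hidx h y hyH hyA)
      have hN : Subgroup.normalizer ((A ⊓ H : Subgroup G) : Set G) = ⊤ := by
        refine eq_top_of_index_prime hp A _ hidx (fun a ha => ?_) y ?_ hyA
        · apply Helper5.mem_normalizer_of_conj_mem
          intro b hb
          have : a * b * a⁻¹ = b := by rw [hcomm a ha b hb.1, mul_inv_cancel_right]
          rw [this]; exact hb
        · apply Helper5.mem_normalizer_of_conj_mem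
          intro b hb
          exact ⟨‹A.Normal›.conj_mem b hb.1 y, H.mul_mem (H.mul_mem hyH hb.2) (H.inv_mem hyH)⟩
      have hbot : A ⊓ H = ⊥ := by
        rcases hmin (A ⊓ H) (Subgroup.normalizer_eq_top_iff.mp hN) inf_le_left with h | h
        · exact h
        · exact absurd (inf_eq_left.mp h) hAH
      apply isPClosed_of_card_dvd
      have h1 : A.relIndex H ∣ A.index := Subgroup.relIndex_dvd_index_of_normal A H
      rw [← Subgroup.inf_relIndex_right, hbot, Subgroup.relIndex_bot_left, hidx] at h1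
      exact h1
  · intro N _ hN
    rcases hmin (A ⊓ N) inferInstance inf_le_left with h | h
    · exfalso
      obtain ⟨⟨n, hnN⟩, hn1⟩ := (Subgroup.ne_bot_iff_exists_ne_one.mp hN)
      have hn1' : n ≠ 1 := fun h => hn1 (Subtype.ext h)
      have hnA : n ∉ A := by
        intro hnA
        have : n ∈ A ⊓ N := ⟨hnA, hnN⟩
        rw [h] at this
        exact hn1' (Subgroup.mem_bot.mp this)
      refine hnc n hnA (fun a ha => ?_)
      have hc : n * a * n⁻¹ * a⁻¹ ∈ A ⊓ N := by
        refine ⟨A.mul_mem (‹A.Normal›.conj_mem a ha n) (A.inv_mem ha), ?_⟩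
        have h1 : a * n⁻¹ * a⁻¹ ∈ N := ‹N.Normal›.conj_mem _ (N.inv_mem hnN) a
        have h2 := N.mul_mem hnN h1
        have e : n * (a * n⁻¹ * a⁻¹) = n * a * n⁻¹ * a⁻¹ := by group
        rw [e] at h2; exact h2
      rw [h, Subgroup.mem_bot] at hc
      have h3 := mul_inv_eq_one.mp hc
      exact mul_inv_eq_iff_eq_mul.mp h3
    · have hAN : A ≤ N := inf_eq_left.mp h
      apply isPClosed_of_card_dvd
      have h1 : N.index ∣ A.index := Subgroup.index_dvd_of_le hAN
      rw [hidx] at h1
      exact h1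

end Cfsg.Agent.S3869
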