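import Mathlib
import Cfsg.Statements.S3870
import Cfsg.Agent.Helper19.PGroup

set_option autoImplicit false
open Cfsg

namespace Cfsg.Agent.S3870

open Cfsg.Agent.Helper19

/-- Let G be a finite simple group whose Sylow p-subgroups are not normal but such that every proper subgroup of G has a normal Sylow p-subgroup. Then any two distinct Sylow p-subgroups of G intersect trivially, and for every Sylow p-subgroup P the normalizer of every non-identity subgroup of P lies in the normalizer of P. -/
theorem result {G : Type*} [Group G] [Finite G] [IsSimpleGroup G] {p : ℕ} [Fact p.Prime]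
    (hnc : ¬ Cfsg.IsPClosed p G) (hsub : ∀ H : Subgroup G, H ≠ ⊤ → Cfsg.IsPClosed p ↥H) :
    (∀ P Q : Sylow p G, P ≠ Q → (P : Subgroup G) ⊓ (Q : Subgroup G) = ⊥) ∧
      ∀ (P : Sylow p G) (R : Subgroup G), R ≤ P → R ≠ ⊥ →
        Subgroup.normalizer (R : Set G) ≤ Subgroup.normalizer ((P : Subgroup G) : Set G) := by
  have TI : ∀ D : Subgroup G, ∀ P Q : Sylow p G, P ≠ Q → (P : Subgroup G) ⊓ Q = D → D = ⊥ := by
    intro D
    induction D using WellFoundedGT.induction with
    | ind D ih =>
      intro P Q hPQ hD
      by_contra hD0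
      have hDP : D ≤ P := hD ▸ inf_le_left
      have hDQ : D ≤ Q := hD ▸ inf_le_right
      have hDltP : D < (P : Subgroup G) := by
        refine lt_of_le_of_ne hDP (fun h => hPQ ?_)
        have h1 : (P : Subgroup G) ≤ Q := h ▸ hDQ
        exact Sylow.ext (P.is_maximal' Q.isPGroup' h1).symm
      have hDltQ : D < (Q : Subgroup G) := by
        refine lt_of_le_of_ne hDQ (fun h => hPQ ?_)
        have h1 : (Q : Subgroup G) ≤ P := h ▸ hDP
        exact Sylow.ext (Q.is_maximal' P.isPGroup' h1)
      have hN : Subgroup.normalizer (D : Set G) ≠ ⊤ := by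
        intro htop
        have hnorm : D.Normal := Subgroup.normalizer_eq_top_iff.mp htop
        rcases hnorm.eq_bot_or_eq_top with h | h
        · exact hD0 h
        · rw [h] at hDltP
          exact not_top_lt hDltP
      obtain ⟨S, hS⟩ := exists_sylow_ge_of_normal_sylow _ (hsub _ hN)
      obtain ⟨x, hxP, hxN, hxD⟩ := exists_mem_normalizer_not_mem P.isPGroup' hDltP
      obtain ⟨y, hyQ, hyN, hyD⟩ := exists_mem_normalizer_not_mem Q.isPGroup' hDltQ
      have hDS : D ≤ S := hS D Subgroup.le_normalizer (P.isPGroup'.to_le hDP)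
      have hxS : x ∈ (S : Subgroup G) :=
        hS (Subgroup.zpowers x) (by rw [Subgroup.zpowers_le]; exact hxN)
          (P.isPGroup'.to_le (by rw [Subgroup.zpowers_le]; exact hxP)) (Subgroup.mem_zpowers x)
      have hyS : y ∈ (S : Subgroup G) :=
        hS (Subgroup.zpowers y) (by rw [Subgroup.zpowers_le]; exact hyN)
          (Q.isPGroup'.to_le (by rw [Subgroup.zpowers_le]; exact hyQ)) (Subgroup.mem_zpowers y)
      have hPS : P = S := by
        by_contra hne
        have hlt : D < (P : Subgroup G) ⊓ S := by
          refine lt_of_le_of_ne (le_inf hDP hDS) (fun h => hxD ?_)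
          rw [h]; exact ⟨hxP, hxS⟩
        have := ih _ hlt P S hne rfl
        rw [this] at hlt
        exact not_lt_bot hlt
      have hQS : Q = S := by
        by_contra hne
        have hlt : D < (Q : Subgroup G) ⊓ S := by
          refine lt_of_le_of_ne (le_inf hDQ hDS) (fun h => hyD ?_)
          rw [h]; exact ⟨hyQ, hyS⟩
        have := ih _ hlt Q S hne rfl
        rw [this] at hlt
        exact not_lt_bot hlt
      exact hPQ (hPS.trans hQS.symm)
  refine ⟨fun P Q hPQ => TI _ P Q hPQ rfl, fun P R hRP hR0 g hg => ?_⟩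
  refine (Sylow.smul_eq_iff_mem_normalizer (P := P)).mp ?_
  by_contra hne
  have h1 := TI _ P (g • P) (Ne.symm hne) rfl
  apply hR0
  rw [eq_bot_iff, ← h1]
  exact le_inf hRP (le_smul_sylow_of_mem_normalizer P hRP hg)

end Cfsg.Agent.S3870
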