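import Cfsg.Statements.S3873
import Cfsg.Agent.Helper1.IrredCyc
import Cfsg.Agent.Helper3.HallInv
import Cfsg.Agent.Helper3.ItoLemma
import Cfsg.Agent.Helper3.Subnormal
import Cfsg.Agent.S0023

set_option autoImplicit false
open Cfsg

namespace Cfsg.Agent.S3873

theorem sub_pow_eq_one {G : Type*} [Group G] (K : Subgroup G) (x : K) (n : ℕ) :
    x ^ n = 1 ↔ (x : G) ^ n = 1 := by
  rw [← Subgroup.coe_pow, OneMemClass.coe_eq_one]

theorem omega_sub {G : Type*} [Group G] {p : ℕ}
    (hsub : ∀ K : Subgroup G, K ≠ ⊤ → (∃ H : Subgroup ↥K, (H : Set ↥K) = {g : ↥K | g ^ p = 1}))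
    (K : Subgroup G) (hK : K ≠ ⊤) : ∃ W : Subgroup G, ∀ x, x ∈ W ↔ x ∈ K ∧ x ^ p = 1 := by
  obtain ⟨H, hH⟩ := hsub K hK
  have hmem : ∀ y : K, y ∈ H ↔ y ^ p = 1 := fun y => Set.ext_iff.1 hH y
  refine ⟨H.map K.subtype, fun x => ⟨?_, ?_⟩⟩
  · rintro ⟨y, hy, rfl⟩
    exact ⟨y.2, (sub_pow_eq_one K y p).1 ((hmem y).1 hy)⟩
  · rintro ⟨hxK, hxp⟩
    exact ⟨⟨x, hxK⟩, (hmem _).2 ((sub_pow_eq_one K ⟨x, hxK⟩ p).2 hxp), rfl⟩

theorem pow_mem_of_quo {G : Type*} [Group G] {p : ℕ}
    (hquo : ∀ (N : Subgroup G) [N.Normal], N ≠ ⊥ →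
      (∃ H : Subgroup (G ⧸ N), (H : Set (G ⧸ N)) = {g : (G ⧸ N) | g ^ p = 1}))
    {a b : G} (hgen : Subgroup.closure {a, b} = ⊤) (ha : a ^ p = 1) (hb : b ^ p = 1)
    (N : Subgroup G) [N.Normal] (hN : N ≠ ⊥) (g : G) : g ^ p ∈ N := by
  obtain ⟨H, hH⟩ := hquo N hN
  have hmem : ∀ y : G ⧸ N, y ∈ H ↔ y ^ p = 1 := fun y => Set.ext_iff.1 hH y
  have hle : Subgroup.closure {a, b} ≤ H.comap (QuotientGroup.mk' N) := by
    rw [Subgroup.closure_le]
    intro x hx
    have hx' : x = a ∨ x = b := hx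
    show (QuotientGroup.mk' N x) ∈ H
    rw [hmem]
    rcases hx' with h | h
    · rw [h, ← map_pow, ha, map_one]
    · rw [h, ← map_pow, hb, map_one]
  have hg : g ∈ H.comap (QuotientGroup.mk' N) := hle (by rw [hgen]; trivial)
  have h1 : (QuotientGroup.mk' N g) ^ p = 1 := (hmem _).1 hg
  rw [← map_pow] at h1
  exact (QuotientGroup.eq_one_iff _).1 h1

theorem mem_normalizer_of_conj_mem {G : Type*} [Group G] [Finite G] (B : Subgroup G) (x : G)
    (h : ∀ b ∈ B, x * b * x⁻¹ ∈ B) : x ∈ Subgroup.normalizer (B : Set G) := by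
  rw [Subgroup.mem_normalizer_iff]
  intro y
  refine ⟨h y, fun hy => ?_⟩
  let f : B → B := fun b => ⟨x * b * x⁻¹, h b b.2⟩
  have hinj : Function.Injective f := by
    intro b c hbc
    have h1 : x * (b : G) * x⁻¹ = x * (c : G) * x⁻¹ := congrArg Subtype.val hbc
    exact Subtype.ext (mul_left_cancel (mul_right_cancel h1))
  have hsurj := Finite.surjective_of_injective hinj
  obtain ⟨b, hb⟩ := hsurj ⟨x * y * x⁻¹, hy⟩
  have h1 : x * (b : G) * x⁻¹ = x * y * x⁻¹ := congrArg Subtype.val hb
  have hyb : (b : G) = y := mul_left_cancel (mul_right_cancel h1)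
  rw [← hyb]; exact b.2

theorem zpowers_pow {G : Type*} [Group G] {p : ℕ} {c : G} (hc : c ^ p = 1) {x : G}
    (hx : x ∈ Subgroup.zpowers c) : x ^ p = 1 := by
  obtain ⟨k, rfl⟩ := Subgroup.mem_zpowers_iff.1 hx
  rw [← zpow_natCast, ← zpow_mul, mul_comm, zpow_mul, zpow_natCast, hc, one_zpow]

theorem comm_zpowers {G : Type*} [Group G] {m c : G} (h : m * c = c * m) {x : G}
    (hx : x ∈ Subgroup.zpowers c) : m * x = x * m := by
  obtain ⟨k, rfl⟩ := Subgroup.mem_zpowers_iff.1 hx
  exact (Commute.zpow_right (show Commute m c from h) k)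

theorem mem_of_pow_of_index {G : Type*} [Group G] [Finite G] {p : ℕ} (hp : p.Prime)
    (P : Subgroup G) [P.Normal] (hidx : ¬ p ∣ P.index) {a : G} (ha : a ^ p = 1) : a ∈ P := by
  have h1 : orderOf (QuotientGroup.mk' P a) ∣ p :=
    orderOf_dvd_of_pow_eq_one (by rw [← map_pow, ha, map_one])
  have h2 : orderOf (QuotientGroup.mk' P a) ∣ P.index := by
    rw [Subgroup.index_eq_card]; exact orderOf_dvd_natCard _
  rcases (Nat.dvd_prime hp).1 h1 with h | h
  · rw [orderOf_eq_one_iff] at h
    exact (QuotientGroup.eq_one_iff _).1 h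
  · rw [h] at h2; exact absurd h2 hidx

/-- a subgroup normalized by `L` and by `c`, where `L ⊔ zpowers c = ⊤`, is normal. -/
theorem normal_of_gen {G : Type*} [Group G] (L : Subgroup G) (c : G)
    (hLc : L ⊔ Subgroup.zpowers c = ⊤) (B : Subgroup G)
    (hL : L ≤ Subgroup.normalizer (B : Set G)) (hc : c ∈ Subgroup.normalizer (B : Set G)) :
    B.Normal := by
  rw [← Subgroup.normalizer_eq_top_iff, eq_top_iff, ← hLc]
  exact sup_le hL ((Subgroup.zpowers_le).2 hc)

/-- Say that a finite group is p-exponent closed when its elements of order dividing p form a subgroup. Let G be a finite group that is not p-exponent closed, but all of whose proper subgroups and proper quotients are, and suppose G is neither simple nor a p-group. Then there is a prime q ≠ p such that G has order p · q^e, where e is the multiplicative order of q modulo p, and G has a normal elementary abelian subgroup of order q^e that is a minimal normal subgroup of G. -/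
theorem result {G : Type*} [Group G] [Finite G] {p : ℕ} [Fact p.Prime]
    (hnc : ¬ (∃ H : Subgroup G, (H : Set G) = {g : G | g ^ p = 1})) (hsub : ∀ K : Subgroup G, K ≠ ⊤ → (∃ H : Subgroup ↥K, (H : Set ↥K) = {g : ↥K | g ^ p = 1}))
    (hquo : ∀ (N : Subgroup G) [N.Normal], N ≠ ⊥ → (∃ H : Subgroup (G ⧸ N), (H : Set (G ⧸ N)) = {g : (G ⧸ N) | g ^ p = 1}))
    (hns : ¬ IsSimpleGroup G) (hnp : ¬ IsPGroup p G) :
    ∃ q : ℕ, q.Prime ∧ q ≠ p ∧ Nat.card G = p * q ^ orderOf (q : ZMod p) ∧
      ∃ A : Subgroup G, A.Normal ∧ Nat.card ↥A = q ^ orderOf (q : ZMod p) ∧ Cfsg.IsElementaryAbelian q A ∧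
        ∀ B : Subgroup G, B.Normal → B ≤ A → B = ⊥ ∨ B = A := by
  classical
  have hp : p.Prime := Fact.out
  -- Step 0: two elements of order p whose product does not have order dividing p
  obtain ⟨a, b, ha, hb, hab⟩ : ∃ a b : G, a ^ p = 1 ∧ b ^ p = 1 ∧ (a * b) ^ p ≠ 1 := by
    by_contra hcon
    push Not at hcon
    apply hnc
    exact ⟨{ carrier := {g : G | g ^ p = 1}
             mul_mem' := fun {x y} hx hy => hcon x y hx hy
             one_mem' := one_pow p
             inv_mem' := fun {x} hx => by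
               show x⁻¹ ^ p = 1
               rw [inv_pow, show x ^ p = 1 from hx, inv_one] }, rfl⟩
  have ha1 : a ≠ 1 := by
    rintro rfl
    rw [one_mul] at hab
    exact hab hb
  have hb1 : b ≠ 1 := by
    rintro rfl
    rw [mul_one] at hab
    exact hab ha
  -- Step 2: G = ⟨a, b⟩
  have hgen : Subgroup.closure {a, b} = ⊤ := by
    by_contra hne
    obtain ⟨W, hW⟩ := omega_sub hsub _ hne
    have haW : a ∈ W := (hW a).2 ⟨Subgroup.subset_closure (Set.mem_insert _ _), ha⟩
    have hbW : b ∈ W := (hW b).2 ⟨Subgroup.subset_closure (Set.mem_insert_of_mem _ rfl), hb⟩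
    exact hab ((hW _).1 (W.mul_mem haW hbW)).2
  have hnt : Nontrivial G := ⟨⟨(a * b) ^ p, 1, hab⟩⟩
  obtain ⟨N₀, hN₀n, hN₀b, hN₀t⟩ : ∃ N₀ : Subgroup G, N₀.Normal ∧ N₀ ≠ ⊥ ∧ N₀ ≠ ⊤ := by
    by_contra hcon
    push Not at hcon
    apply hns
    exact { toNontrivial := hnt
            eq_bot_or_eq_top_of_normal := fun H hH => by
              by_contra h
              push Not at h
              exact h.2 (hcon H hH h.1) }
  haveI := hN₀n
  obtain ⟨L, hLmin, hLN⟩ := Cfsg.Agent.Helper3.exists_isMinNormal_le N₀ hN₀b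
  have hLn : L.Normal := hLmin.1
  haveI := hLn
  have hL0 : L ≠ ⊥ := hLmin.2.1
  have hLtop : L ≠ ⊤ := by
    rintro rfl
    exact hN₀t (top_le_iff.1 hLN)
  have hLpow : ∀ g : G, g ^ p ∈ L := pow_mem_of_quo hquo hgen ha hb L hL0
  -- Step 3: L has no elements of order p
  have hLp : ∀ x ∈ L, x ^ p = 1 → x = 1 := by
    obtain ⟨W, hW⟩ := omega_sub hsub L hLtop
    have hWn : W.Normal := by
      refine ⟨fun x hx g => ?_⟩
      rw [hW] at hx ⊢
      refine ⟨hLn.conj_mem x hx.1 g, ?_⟩
      rw [conj_pow, hx.2, mul_one, mul_inv_cancel]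
    have hWL : W ≤ L := fun x hx => ((hW x).1 hx).1
    rcases hLmin.2.2 W hWn hWL with h | h
    · intro x hxL hxp
      have : x ∈ W := (hW x).2 ⟨hxL, hxp⟩
      rw [h] at this
      exact Subgroup.mem_bot.1 this
    · exfalso
      apply hnp
      intro g
      refine ⟨2, ?_⟩
      rw [pow_two, pow_mul]
      have : g ^ p ∈ W := by rw [h]; exact hLpow g
      exact ((hW _).1 this).2
  have hpL : ¬ p ∣ Nat.card L := by
    intro hdvd
    obtain ⟨x, hx⟩ := exists_prime_orderOf_dvd_card' p hdvd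
    have h1 : x ^ p = 1 := by rw [← hx]; exact pow_orderOf_eq_one x
    have h2 : (x : G) = 1 := hLp x x.2 ((sub_pow_eq_one L x p).1 h1)
    have h3 : x = 1 := Subtype.ext h2
    rw [h3, orderOf_one] at hx
    exact hp.one_lt.ne hx
  -- zpowers of an element of order p meets L trivially
  have hzL : ∀ c : G, c ^ p = 1 → Subgroup.zpowers c ⊓ L = ⊥ := by
    intro c hc
    rw [Subgroup.eq_bot_iff_forall]
    intro x hx
    exact hLp x hx.2 (zpowers_pow hc hx.1)
  have hzcard : ∀ c : G, c ^ p = 1 → c ≠ 1 → Nat.card (Subgroup.zpowers c) = p := by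
    intro c hc hc1
    rw [Nat.card_zpowers, orderOf_eq_prime hc hc1]
  -- Lemma Z
  have lemZ : ∀ (M : Subgroup G) (c : G), M ≤ L → c ^ p = 1 → M ⊔ Subgroup.zpowers c ≠ ⊤ →
      ∀ m ∈ M, m * c = c * m := by
    intro M c hML hc hne m hm
    obtain ⟨W, hW⟩ := omega_sub hsub _ hne
    have hcK : c ∈ M ⊔ Subgroup.zpowers c :=
      (le_sup_right : Subgroup.zpowers c ≤ _) (Subgroup.mem_zpowers c)
    have hmK : m ∈ M ⊔ Subgroup.zpowers c := (le_sup_left : M ≤ _) hm
    have hcW : c ∈ W := (hW c).2 ⟨hcK, hc⟩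
    have h1 : m * c * m⁻¹ ∈ W := by
      rw [hW]
      refine ⟨Subgroup.mul_mem _ (Subgroup.mul_mem _ hmK hcK) (Subgroup.inv_mem _ hmK), ?_⟩
      rw [conj_pow, hc, mul_one, mul_inv_cancel]
    have h2 : m * c * m⁻¹ * c⁻¹ ∈ W := W.mul_mem h1 (W.inv_mem hcW)
    have h3 : m * c * m⁻¹ * c⁻¹ ∈ L := by
      have : m * c * m⁻¹ * c⁻¹ = m * (c * m⁻¹ * c⁻¹) := by group
      rw [this]
      exact L.mul_mem (hML hm) (hLn.conj_mem _ (L.inv_mem (hML hm)) c)
    have h4 : m * c * m⁻¹ * c⁻¹ = 1 := hLp _ h3 ((hW _).1 h2).2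
    have h5 : m * c = c * m := by
      have : m * c = (m * c * m⁻¹ * c⁻¹) * (c * m) := by group
      rw [this, h4, one_mul]
    exact h5
  -- Lemma N
  have lemN : ∀ P : Subgroup G, P.Normal → IsPGroup p P → ¬ p ∣ P.index → False := by
    intro P hPn hPp hPidx
    haveI := hPn
    have haP : a ∈ P := mem_of_pow_of_index hp P hPidx ha
    have hbP : b ∈ P := mem_of_pow_of_index hp P hPidx hb
    have habP : (a * b) ^ p ∈ P := P.pow_mem (P.mul_mem haP hbP) p
    obtain ⟨k, hk⟩ := hPp ⟨(a * b) ^ p, habP⟩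
    have hk' : ((a * b) ^ p) ^ (p ^ k) = 1 := (sub_pow_eq_one P _ _).1 hk
    have h1 : orderOf ((a * b) ^ p) ∣ p ^ k := orderOf_dvd_of_pow_eq_one hk'
    have h2 : orderOf ((a * b) ^ p) ∣ Nat.card L := Subgroup.orderOf_dvd_natCard L (hLpow _)
    have hcop : (p ^ k).Coprime (Nat.card L) :=
      Nat.Coprime.pow_left k ((Nat.Prime.coprime_iff_not_dvd hp).2 hpL)
    have h3 : orderOf ((a * b) ^ p) = 1 := Nat.eq_one_of_dvd_coprimes hcop h1 h2
    exact hab (orderOf_eq_one_iff.1 h3)
  -- Step 5: some c of order p with L ⊔ ⟨c⟩ = ⊤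
  obtain ⟨c, hc, hc1, hLc⟩ : ∃ c : G, c ^ p = 1 ∧ c ≠ 1 ∧ L ⊔ Subgroup.zpowers c = ⊤ := by
    by_contra hcon
    push Not at hcon
    have hza := lemZ L a le_rfl ha (hcon a ha ha1)
    have hzb := lemZ L b le_rfl hb (hcon b hb hb1)
    have hcent : ∀ m ∈ L, ∀ g : G, g * m = m * g := by
      intro m hm g
      have hle : Subgroup.closure {a, b} ≤ Subgroup.centralizer ({m} : Set G) := by
        rw [Subgroup.closure_le]
        intro x hx
        have hx' : x = a ∨ x = b := hx
        show x ∈ Subgroup.centralizer ({m} : Set G)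
        rw [Subgroup.mem_centralizer_iff]
        intro y hy
        rw [Set.mem_singleton_iff] at hy
        rcases hx' with h | h
        · rw [h, hy]; exact hza m hm
        · rw [h, hy]; exact hzb m hm
      have hg : g ∈ Subgroup.centralizer ({m} : Set G) := hle (by rw [hgen]; trivial)
      exact ((Subgroup.mem_centralizer_iff.1 hg) m rfl).symm
    obtain ⟨P⟩ : Nonempty (Sylow p G) := inferInstance
    have hPidx : ¬ p ∣ (P : Subgroup G).index := P.not_dvd_index
    have hQp : IsPGroup p (G ⧸ L) := by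
      intro g
      refine ⟨1, ?_⟩
      induction g using QuotientGroup.induction_on with
      | H g =>
        rw [pow_one, ← QuotientGroup.mk_pow]
        exact (QuotientGroup.eq_one_iff _).2 (hLpow g)
    obtain ⟨n, hn⟩ := IsPGroup.iff_card.1 hQp
    have hLidx : L.index = p ^ n := by rw [Subgroup.index_eq_card]; exact hn
    have hPL : (P : Subgroup G) ⊔ L = ⊤ := by
      rw [← Subgroup.index_eq_one]
      have h1 : ((P : Subgroup G) ⊔ L).index ∣ (P : Subgroup G).index :=
        Subgroup.index_dvd_of_le le_sup_left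
      have h2 : ((P : Subgroup G) ⊔ L).index ∣ p ^ n := by
        rw [← hLidx]; exact Subgroup.index_dvd_of_le le_sup_right
      have hcop : (p ^ n).Coprime (P : Subgroup G).index :=
        Nat.Coprime.pow_left n ((Nat.Prime.coprime_iff_not_dvd hp).2 hPidx)
      exact Nat.eq_one_of_dvd_coprimes hcop h2 h1
    have hPn : (P : Subgroup G).Normal := by
      rw [← Subgroup.normalizer_eq_top_iff, eq_top_iff, ← hPL]
      refine sup_le Subgroup.le_normalizer ?_
      intro m hm
      rw [Subgroup.mem_normalizer_iff]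
      intro h
      have : m * h * m⁻¹ = h := by
        rw [← hcent m hm h, mul_inv_cancel_right]
      rw [this]
    exact lemN P hPn P.isPGroup' hPidx
  have hcard_z : Nat.card (Subgroup.zpowers c) = p := hzcard c hc hc1
  have hcardG : Nat.card G = Nat.card L * p := by
    have h1 := Cfsg.Agent.Helper3.HallInv.card_sup_of_inf_eq_bot L (Subgroup.zpowers c) (hzL c hc)
    rw [sup_comm, hLc, Subgroup.card_top, hcard_z] at h1
    exact h1
  -- c does not centralize L
  have hnotcent : ¬ ∀ m ∈ L, m * c = c * m := by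
    intro hcen
    have hzn : (Subgroup.zpowers c).Normal := by
      refine normal_of_gen L c hLc _ ?_ (Subgroup.le_normalizer (Subgroup.mem_zpowers c))
      intro m hm
      rw [Subgroup.mem_normalizer_iff]
      intro h
      constructor
      · intro hh
        have : m * h * m⁻¹ = h := by
          rw [comm_zpowers (hcen m hm) hh, mul_inv_cancel_right]
        rw [this]; exact hh
      · intro hh
        have h1 : m * (m * h * m⁻¹) = (m * h * m⁻¹) * m := comm_zpowers (hcen m hm) hh
        have h2 : m * h = h * m := by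
          have e1 : m * (m * h * m⁻¹) = m * (m * h) * m⁻¹ := by group
          have e2 : (m * h * m⁻¹) * m = m * (h * m) * m⁻¹ := by group
          rw [e1, e2] at h1
          exact mul_left_cancel (mul_right_cancel h1)
        have : m * h * m⁻¹ = h := by rw [h2, mul_inv_cancel_right]
        rw [← this]; exact hh
    have hidx : (Subgroup.zpowers c).index = Nat.card L := by
      have h1 := Subgroup.card_mul_index (Subgroup.zpowers c)
      rw [hcard_z, hcardG, mul_comm] at h1
      exact Nat.eq_of_mul_eq_mul_right hp.pos h1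
    refine lemN _ hzn (IsPGroup.of_card (n := 1) (by rw [hcard_z, pow_one])) ?_
    rw [hidx]; exact hpL
  -- Step 6
  have hinvM : ∀ M : Subgroup G, M ≤ L → M ≠ L → c ∈ Subgroup.normalizer (M : Set G) →
      ∀ m ∈ M, m * c = c * m := by
    intro M hML hMne hcM
    by_cases htop : M ⊔ Subgroup.zpowers c = ⊤
    · have hMn : M.Normal := normal_of_gen M c htop M Subgroup.le_normalizer hcM
      rcases hLmin.2.2 M hMn hML with h | h
      · intro m hm
        rw [h] at hm
        rw [Subgroup.mem_bot.1 hm, one_mul, mul_one]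
      · exact absurd h hMne
    · exact lemZ M c hML hc htop
  -- Step 7: L is a q-group
  have hAK : Subgroup.zpowers c ≤ Subgroup.normalizer (L : Set G) := by
    rw [Subgroup.normalizer_eq_top_iff.2 hLn]; exact le_top
  have hcop : (Nat.card (Subgroup.zpowers c)).Coprime (Nat.card L) := by
    rw [hcard_z]; exact (Nat.Prime.coprime_iff_not_dvd hp).2 hpL
  have hsolv : Group.IsSolvable (Subgroup.zpowers c) := by
    have h1 : IsPGroup p (Subgroup.zpowers c) :=
      IsPGroup.of_card (n := 1) (by rw [hcard_z, pow_one])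
    haveI := h1.isNilpotent
    infer_instance
  obtain ⟨q, hq, hLq⟩ : ∃ q : ℕ, q.Prime ∧ IsPGroup q L := by
    obtain ⟨C, hCdef⟩ : ∃ C : Subgroup G, C = L ⊓ Subgroup.centralizer ({c} : Set G) := ⟨_, rfl⟩
    have hCL : C ≤ L := by rw [hCdef]; exact inf_le_left
    have hCne : C ≠ L := by
      intro h
      apply hnotcent
      intro m hm
      have hmC : m ∈ C := by rw [h]; exact hm
      rw [hCdef] at hmC
      exact (Subgroup.mem_centralizer_iff.1 hmC.2 c rfl).symm
    have hdvd : Nat.card C ∣ Nat.card L := Subgroup.card_dvd_of_le hCL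
    obtain ⟨k, hk⟩ := hdvd
    have hk1 : k ≠ 1 := by
      rintro rfl
      rw [mul_one] at hk
      exact hCne (Subgroup.eq_of_le_of_card_ge hCL hk.le)
    obtain ⟨q, hqdef⟩ : ∃ q : ℕ, q = k.minFac := ⟨_, rfl⟩
    have hq : q.Prime := by rw [hqdef]; exact Nat.minFac_prime hk1
    have hqk : q ∣ k := by rw [hqdef]; exact Nat.minFac_dvd k
    haveI : Fact q.Prime := ⟨hq⟩
    obtain ⟨R, hR⟩ := Cfsg.Agent.S0023.result (Subgroup.zpowers c) L hAK hcop (Or.inl hsolv) q
    refine ⟨q, hq, ?_⟩
    by_contra hnq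
    have hRne : (R : Subgroup L).map L.subtype ≠ L := by
      intro h
      apply hnq
      intro x
      have hxR : x ∈ (R : Subgroup L) := by
        have hx : (x : G) ∈ (R : Subgroup L).map L.subtype := by rw [h]; exact x.2
        obtain ⟨y, hy, hyx⟩ := hx
        have hyx' : y = x := Subtype.ext hyx
        rw [← hyx']; exact hy
      obtain ⟨j, hj⟩ := R.isPGroup' ⟨x, hxR⟩
      exact ⟨j, (sub_pow_eq_one (R : Subgroup L) ⟨x, hxR⟩ _).1 hj⟩
    have hcen := hinvM _ (Subgroup.map_subtype_le _) hRne (hR (Subgroup.mem_zpowers c))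
    have hRC : (R : Subgroup L).map L.subtype ≤ C := by
      intro m hm
      rw [hCdef]
      refine ⟨Subgroup.map_subtype_le _ hm, ?_⟩
      show m ∈ Subgroup.centralizer ({c} : Set G)
      rw [Subgroup.mem_centralizer_iff]
      intro y hy
      rw [Set.mem_singleton_iff] at hy
      rw [hy]; exact (hcen m hm).symm
    have hcardR : Nat.card ((R : Subgroup L).map L.subtype) =
        q ^ (Nat.card L).factorization q := by
      rw [Subgroup.card_map_of_injective L.subtype_injective]
      exact R.card_eq_multiplicity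
    have h1 : q ^ (Nat.card L).factorization q ∣ Nat.card C := by
      rw [← hcardR]; exact Subgroup.card_dvd_of_le hRC
    have h2 : q ^ (Nat.card L).factorization q * q ∣ Nat.card C * k := Nat.mul_dvd_mul h1 hqk
    rw [← hk, ← pow_succ] at h2
    exact Nat.pow_succ_factorization_not_dvd Nat.card_pos.ne' hq h2
  haveI : Fact q.Prime := ⟨hq⟩
  obtain ⟨n, hn⟩ := IsPGroup.iff_card.1 hLq
  have hn0 : n ≠ 0 := by
    rintro rfl
    rw [pow_zero] at hn
    exact hL0 (Subgroup.eq_bot_of_card_eq L hn)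
  have hqp : q ≠ p := by
    rintro rfl
    exact hpL (by rw [hn]; exact dvd_pow_self q hn0)
  have hLsolv : Group.IsSolvable L := by
    haveI := hLq.isNilpotent
    infer_instance
  have hLcomm := Cfsg.Agent.Helper3.HallInv.minNormal_comm_of_solvable L hLmin hLsolv
  obtain ⟨q', hq', hLexp'⟩ := Cfsg.Agent.Helper3.minNormal_abelian_exp L hLmin hLcomm
  have hqq : q' = q := by
    obtain ⟨x, hxL, hx1⟩ : ∃ x ∈ L, x ≠ 1 := by
      by_contra hcon
      push Not at hcon
      exact hL0 ((Subgroup.eq_bot_iff_forall L).2 hcon)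
    haveI : Fact q'.Prime := ⟨hq'⟩
    have h1 : orderOf x = q' := orderOf_eq_prime (hLexp' x hxL) hx1
    have h2 : orderOf x ∣ Nat.card L := Subgroup.orderOf_dvd_natCard L hxL
    rw [h1, hn] at h2
    exact (Nat.prime_dvd_prime_iff_eq hq' hq).1 (hq'.dvd_of_dvd_pow h2)
  have hLexp : ∀ x ∈ L, x ^ q = 1 := hqq ▸ hLexp'
  -- Step 8: irreducibility
  have hirr : ∀ B : Subgroup G, B ≤ L → (∀ b ∈ B, c * b * c⁻¹ ∈ B) → B = ⊥ ∨ B = L := by
    intro B hBL hBc
    have hBn : B.Normal := by
      refine normal_of_gen L c hLc B ?_ (mem_normalizer_of_conj_mem B c hBc)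
      intro m hm
      rw [Subgroup.mem_normalizer_iff]
      intro h
      constructor
      · intro hh
        have : m * h * m⁻¹ = h := by
          rw [hLcomm m hm h (hBL hh), mul_inv_cancel_right]
        rw [this]; exact hh
      · intro hh
        have hhL : h ∈ L := by
          have h1 : m * h * m⁻¹ ∈ L := hBL hh
          have : h = m⁻¹ * (m * h * m⁻¹) * m := by group
          rw [this]
          exact L.mul_mem (L.mul_mem (L.inv_mem hm) h1) hm
        have : m * h * m⁻¹ = h := by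
          rw [hLcomm m hm h hhL, mul_inv_cancel_right]
        rw [← this]; exact hh
    exact hLmin.2.2 B hBn hBL
  have hcard : Nat.card L = q ^ orderOf (q : ZMod p) := by
    refine Cfsg.Agent.Helper1.card_of_irred_conj hqp L hLcomm hLexp c ?_ ?_ hirr
    · intro x _
      rw [hc, one_mul, inv_one, mul_one]
    · by_contra hcon
      push Not at hcon
      apply hnotcent
      intro m hm
      have h := hcon m hm
      have e : c * m = (c * m * c⁻¹) * c := by group
      rw [e, h]
  exact ⟨q, hq, hqp, by rw [hcardG, hcard, mul_comm], L, hLn, hcard,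
    ⟨⟨⟨fun x y => Subtype.ext (hLcomm x x.2 y y.2)⟩⟩, hLexp⟩, hLmin.2.2⟩

end Cfsg.Agent.S3873
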