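import Mathlib
import Cfsg.Statements.S3889

set_option autoImplicit false
open Cfsg

namespace Cfsg.Agent.S3889

/-- A finite abelian group that is the union of a family of proper subgroups any two of which intersect trivially is elementary abelian: its exponent is a prime. -/
theorem result {G : Type*} [CommGroup G] [Finite G] (𝓑 : Set (Subgroup G)) (hprop : ∀ B ∈ 𝓑, B ≠ ⊤)
    (hcov : ∀ g : G, ∃ B ∈ 𝓑, g ∈ B) (hdisj : ∀ B ∈ 𝓑, ∀ C ∈ 𝓑, B ≠ C → B ⊓ C = ⊥) :
    (Monoid.exponent G).Prime := by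
  -- Step 1
  have step1 : ∀ B ∈ 𝓑, ∀ a ∈ B, ∀ b : G, b ∉ B → ∀ k : ℕ, b ^ k = 1 → a ^ k = 1 := by
    intro B hB a ha b hb k hbk
    obtain ⟨C, hC, habC⟩ := hcov (a * b)
    have hCB : B ≠ C := by
      rintro rfl
      exact hb ((Subgroup.mul_mem_cancel_left B ha).mp habC)
    have h1 : a ^ k ∈ B := B.pow_mem ha k
    have h2 : a ^ k ∈ C := by
      have := C.pow_mem habC k
      rwa [mul_pow, hbk, mul_one] at this
    have h3 : a ^ k ∈ B ⊓ C := ⟨h1, h2⟩
    rw [hdisj B hB C hC hCB] at h3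
    exact Subgroup.mem_bot.mp h3
  -- Step 2
  have step2 : ∀ B ∈ 𝓑, ∀ a ∈ B, a ≠ 1 → ∀ b : G, b ∉ B → orderOf a = orderOf b := by
    intro B hB a ha ha1 b hb
    apply Nat.dvd_antisymm
    · exact orderOf_dvd_of_pow_eq_one (step1 B hB a ha b hb _ (pow_orderOf_eq_one b))
    · obtain ⟨C, hC, hbC⟩ := hcov b
      have hCB : B ≠ C := by
        rintro rfl
        exact hb hbC
      have haC : a ∉ C := by
        intro haC
        have h3 : a ∈ B ⊓ C := ⟨ha, haC⟩
        rw [hdisj B hB C hC hCB] at h3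
        exact ha1 (Subgroup.mem_bot.mp h3)
      exact orderOf_dvd_of_pow_eq_one (step1 C hC b hbC a haC _ (pow_orderOf_eq_one a))
  have exists_not_mem : ∀ B ∈ 𝓑, ∃ b : G, b ∉ B := by
    intro B hB
    by_contra h
    apply hprop B hB
    rw [eq_top_iff]
    intro g _
    by_contra hg
    exact h ⟨g, hg⟩
  -- Step 3
  have step3 : ∀ a a' : G, a ≠ 1 → a' ≠ 1 → orderOf a = orderOf a' := by
    intro a a' ha ha'
    obtain ⟨B, hB, haB⟩ := hcov a
    obtain ⟨b, hb⟩ := exists_not_mem B hB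
    by_cases ha'B : a' ∈ B
    · rw [step2 B hB a haB ha b hb, step2 B hB a' ha'B ha' b hb]
    · exact step2 B hB a haB ha a' ha'B
  -- Step 4
  obtain ⟨B, hB, -⟩ := hcov 1
  obtain ⟨b, hb⟩ := exists_not_mem B hB
  have hb1 : b ≠ 1 := by
    rintro rfl
    exact hb B.one_mem
  set n := orderOf b with hn
  have hn1 : n ≠ 1 := by
    intro h
    exact hb1 (orderOf_eq_one_iff.mp h)
  have hnpos : 0 < n := orderOf_pos b
  have hnprime : n.Prime := by
    have hp : (Nat.minFac n).Prime := Nat.minFac_prime hn1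
    have hpd : Nat.minFac n ∣ n := Nat.minFac_dvd n
    obtain ⟨m, hm⟩ := hpd
    have hm0 : m ≠ 0 := by
      rintro rfl
      rw [mul_zero] at hm
      omega
    have hmd : m ∣ orderOf b := ⟨Nat.minFac n, by rw [← hn]; exact hm.trans (mul_comm _ _)⟩
    have hord : orderOf (b ^ m) = Nat.minFac n := by
      rw [orderOf_pow_of_dvd hm0 hmd, ← hn]
      exact Nat.div_eq_of_eq_mul_left (Nat.pos_of_ne_zero hm0) hm
    have hbm1 : b ^ m ≠ 1 := by
      intro h
      rw [h, orderOf_one] at hord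
      exact hp.one_lt.ne hord
    have := step3 (b ^ m) b hbm1 hb1
    rw [hord] at this
    rw [hn, ← this]
    exact hp
  have hexp : Monoid.exponent G = n := by
    apply Nat.dvd_antisymm
    · apply Monoid.exponent_dvd_of_forall_pow_eq_one
      intro g
      by_cases hg : g = 1
      · rw [hg, one_pow]
      · rw [hn, ← step3 g b hg hb1]
        exact pow_orderOf_eq_one g
    · exact Monoid.order_dvd_exponent b
  rw [hexp]
  exact hnprime

end Cfsg.Agent.S3889
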