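import Cfsg.Statements.S3890
import Cfsg.Agent.Helper2.NilCover

set_option autoImplicit false
open Cfsg

namespace Cfsg.Agent.S3890

/-- A cover of a group is a finite set of proper subgroups whose union is the whole group; it is minimal when no cover has fewer members, and nilpotent when all its members are nilpotent. Let G be a finite group with trivial center admitting a nilpotent minimal cover 𝓐, and let P be an abelian Sylow p-subgroup of G that is not normal. Then either P is elementary abelian of order greater than p, or P is a Sylow p-subgroup of some member A of 𝓐, the normalizer N of P is a maximal subgroup of G, N meets each of its conjugates by elements outside N in a subgroup of order prime to p, and the centralizer of P equals A. -/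
theorem result {G : Type*} [Group G] [Finite G] (hZ : Subgroup.center G = ⊥) (𝓐 : Finset (Subgroup G))
    (h𝓐 : ((∀ A ∈ 𝓐, A ≠ ⊤) ∧ (∀ g : G, ∃ A ∈ 𝓐, g ∈ A)) ∧ (∀ 𝓑 : Finset (Subgroup G), (∀ A ∈ 𝓑, A ≠ ⊤) ∧ (∀ g : G, ∃ A ∈ 𝓑, g ∈ A) → 𝓐.card ≤ 𝓑.card) ∧ (∀ A ∈ 𝓐, Group.IsNilpotent ↥A)) {p : ℕ} [Fact p.Prime] (P : Sylow p G) (hab : IsMulCommutative ↥(P : Subgroup G))
    (hnn : ¬ (P : Subgroup G).Normal) :
    (Cfsg.IsElementaryAbelian p (P : Subgroup G) ∧ p < Nat.card ↥(P : Subgroup G)) ∨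
    (∃ A ∈ 𝓐, (P : Subgroup G) ≤ A ∧ ¬ p ∣ ((P : Subgroup G).subgroupOf A).index ∧
      IsCoatom (Subgroup.normalizer ((P : Subgroup G) : Set G)) ∧
      (∀ g : G, g ∉ Subgroup.normalizer ((P : Subgroup G) : Set G) →
        ¬ p ∣ Nat.card ↥(Subgroup.normalizer ((P : Subgroup G) : Set G) ⊓
          (Subgroup.normalizer ((P : Subgroup G) : Set G)).map (MulAut.conj g).toMonoidHom)) ∧
      Subgroup.centralizer ((P : Subgroup G) : Set G) = A) := by
  have hab' : ∀ a ∈ (P : Subgroup G), ∀ b ∈ (P : Subgroup G), a * b = b * a :=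
    fun a ha b hb => congrArg Subtype.val (hab.is_comm.comm ⟨a, ha⟩ ⟨b, hb⟩)
  by_cases hEA : Cfsg.IsElementaryAbelian p (P : Subgroup G) ∧ p < Nat.card ↥(P : Subgroup G)
  · exact Or.inl hEA
  · right
    have hH : ∃ x ∈ (P : Subgroup G), ∀ y ∈ (P : Subgroup G),
        x ^ p ≠ 1 ∨ y ∈ Subgroup.zpowers x := by
      by_cases h1 : ∀ a ∈ (P : Subgroup G), a ^ p = 1
      · have hcard : ¬ p < Nat.card ↥(P : Subgroup G) := fun hlt => hEA ⟨⟨hab, h1⟩, hlt⟩
        rcases Subgroup.bot_or_exists_ne_one (P : Subgroup G) with h0 | ⟨z, hz, hz1⟩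
        · exfalso; apply hnn; rw [h0]; infer_instance
        · have hzo : orderOf z = p := orderOf_eq_prime (h1 z hz) hz1
          have hle : Subgroup.zpowers z ≤ (P : Subgroup G) := Subgroup.zpowers_le.mpr hz
          have hcz : Nat.card ↥(Subgroup.zpowers z) = p := by rw [Nat.card_zpowers, hzo]
          have heq : Subgroup.zpowers z = (P : Subgroup G) :=
            Subgroup.eq_of_le_of_card_ge hle (by rw [hcz]; exact not_lt.mp hcard)
          exact ⟨z, hz, fun y hy => Or.inr (by rw [heq]; exact hy)⟩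
      · obtain ⟨a, ha, ha1⟩ : ∃ a ∈ (P : Subgroup G), a ^ p ≠ 1 := by
          by_contra hcon
          exact h1 (fun a ha => by_contra (fun ha1 => hcon ⟨a, ha, ha1⟩))
        exact ⟨a, ha, fun y _ => Or.inl ha1⟩
    have hyp : Helper2.NilCover.Hyp p 𝓐 :=
      ⟨hZ, h𝓐.1.1, h𝓐.1.2, h𝓐.2.1, h𝓐.2.2, Helper2.NilCover.abAll P hab'⟩
    obtain ⟨A, hA, hPA, hcent, hco, hTI, -⟩ := Helper2.NilCover.core hyp P hH hnn
    refine ⟨A, hA, hPA, ?_, hco, hTI, hcent⟩
    intro hd
    have hd' : p ∣ (P : Subgroup G).relIndex A := hd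
    have h1 : (P : Subgroup G).relIndex A * A.index = (P : Subgroup G).index :=
      Subgroup.relIndex_mul_index hPA
    have h2 : p ∣ (P : Subgroup G).index := by rw [← h1]; exact Dvd.dvd.mul_right hd' _
    exact P.not_dvd_index h2

end Cfsg.Agent.S3890
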