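import Cfsg.Statements.S3891
import Cfsg.Agent.Helper2.NilCover

set_option autoImplicit false
open Cfsg

namespace Cfsg.Agent.S3891

/-- A cover of a group is a finite set of proper subgroups whose union is the whole group; it is minimal when no cover has fewer members, and nilpotent when all its members are nilpotent. Let G be a finite group with trivial center admitting a nilpotent minimal cover, and let P be a non-normal Sylow p-subgroup of G that is cyclic, or abelian but not elementary abelian. Then the centralizer of P is nilpotent and the normalizer of P is the unique maximal subgroup of G containing the centralizer of P. -/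
theorem result {G : Type*} [Group G] [Finite G] (hZ : Subgroup.center G = ⊥) (𝓐 : Finset (Subgroup G))
    (h𝓐 : ((∀ A ∈ 𝓐, A ≠ ⊤) ∧ (∀ g : G, ∃ A ∈ 𝓐, g ∈ A)) ∧ (∀ 𝓑 : Finset (Subgroup G), (∀ A ∈ 𝓑, A ≠ ⊤) ∧ (∀ g : G, ∃ A ∈ 𝓑, g ∈ A) → 𝓐.card ≤ 𝓑.card) ∧ (∀ A ∈ 𝓐, Group.IsNilpotent ↥A)) {p : ℕ} [Fact p.Prime] (P : Sylow p G)
    (hP : IsCyclic ↥(P : Subgroup G) ∨ (IsMulCommutative ↥(P : Subgroup G) ∧ ¬ Cfsg.IsElementaryAbelian p (P : Subgroup G)))
    (hnn : ¬ (P : Subgroup G).Normal) :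
    Group.IsNilpotent ↥(Subgroup.centralizer ((P : Subgroup G) : Set G)) ∧
      IsCoatom (Subgroup.normalizer ((P : Subgroup G) : Set G)) ∧
      ∀ M : Subgroup G, IsCoatom M → Subgroup.centralizer ((P : Subgroup G) : Set G) ≤ M →
        M = Subgroup.normalizer ((P : Subgroup G) : Set G) := by
  have hab' : ∀ a ∈ (P : Subgroup G), ∀ b ∈ (P : Subgroup G), a * b = b * a := by
    rcases hP with hc | ⟨hc, -⟩
    · intro a ha b hb
      obtain ⟨g, hg⟩ := hc.exists_zpow_surjective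
      obtain ⟨i, hi⟩ := hg ⟨a, ha⟩
      obtain ⟨j, hj⟩ := hg ⟨b, hb⟩
      have e : (⟨a, ha⟩ : ↥(P : Subgroup G)) * ⟨b, hb⟩ = ⟨b, hb⟩ * ⟨a, ha⟩ := by
        rw [← hi, ← hj]
        exact zpow_mul_comm g i j
      exact congrArg Subtype.val e
    · intro a ha b hb
      exact congrArg Subtype.val (hc.is_comm.comm ⟨a, ha⟩ ⟨b, hb⟩)
  have hH : ∃ x ∈ (P : Subgroup G), ∀ y ∈ (P : Subgroup G),
      x ^ p ≠ 1 ∨ y ∈ Subgroup.zpowers x := by
    rcases hP with hc | ⟨hc, hne⟩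
    · obtain ⟨g, hg⟩ := hc.exists_zpow_surjective
      refine ⟨(g : G), g.2, fun y hy => Or.inr ?_⟩
      obtain ⟨i, hi⟩ := hg ⟨y, hy⟩
      exact Subgroup.mem_zpowers_iff.mpr ⟨i, by simpa using congrArg Subtype.val hi⟩
    · by_contra hcon
      apply hne
      refine ⟨hc, fun a ha => ?_⟩
      by_contra ha1
      exact hcon ⟨a, ha, fun y _ => Or.inl ha1⟩
  have hyp : Helper2.NilCover.Hyp p 𝓐 :=
    ⟨hZ, h𝓐.1.1, h𝓐.1.2, h𝓐.2.1, h𝓐.2.2, Helper2.NilCover.abAll P hab'⟩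
  obtain ⟨A, hA, hPA, hcent, hco, hTI, hL2⟩ := Helper2.NilCover.core hyp P hH hnn
  refine ⟨?_, hco, ?_⟩
  · rw [hcent]
    exact h𝓐.2.2 A hA
  · intro M hM hle
    have h1 := hL2 M hM.1 hle
    have h2 : Subgroup.normalizer ((P : Subgroup G) : Set G) ≤ M ∨
        ¬ Subgroup.normalizer ((P : Subgroup G) : Set G) ≤ M := em _
    rcases lt_or_eq_of_le h1 with hlt | heq
    · exact absurd (hM.2 _ hlt) hco.1
    · exact heq

end Cfsg.Agent.S3891
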