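import Cfsg.Statements.S4106
import Mathlib

set_option autoImplicit false
open Cfsg

namespace Cfsg.Agent.S4106

universe u

/-- classes of `s`-elements -/
abbrev SCls (s : Finset ℕ) (G : Type u) [Group G] : Type u :=
  {C : ConjClasses G // ∀ q : ℕ, q.Prime →
    (∃ g : G, ConjClasses.mk g = C ∧ q ∣ orderOf g) → q ∈ s}

theorem cls_iff {G : Type*} [Group G] (x : G) (q : ℕ) :
    (∃ g : G, ConjClasses.mk g = ConjClasses.mk x ∧ q ∣ orderOf g) ↔ q ∣ orderOf x := by
  constructor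
  · rintro ⟨g, hg, hq⟩
    obtain ⟨c, hc⟩ := isConj_iff.mp (ConjClasses.mk_eq_mk_iff_isConj.mp hg)
    have h2 := MulEquiv.orderOf_eq (MulAut.conj c) g
    rw [MulAut.conj_apply, hc] at h2
    rw [h2]; exact hq
  · intro hq
    exact ⟨x, rfl, hq⟩

theorem decomp {G : Type*} [Group G] [Finite G] (p : ℕ) (hp : p.Prime) (x : G) :
    ∃ w v0 : G, w * v0 = x ∧ Commute w v0 ∧ (∃ b : ℕ, w ^ (p ^ b) = 1) ∧
      ∀ q : ℕ, q.Prime → q ∣ orderOf v0 → q ∣ orderOf x ∧ q ≠ p := by
  obtain ⟨b, r, hr, hn⟩ := Nat.exists_eq_pow_mul_and_not_dvd (orderOf_pos x).ne' p hp.ne_one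
  have hcop : Nat.Coprime (p ^ b) r :=
    Nat.Coprime.pow_left b ((Nat.Prime.coprime_iff_not_dvd hp).mpr hr)
  obtain ⟨α, β, hαβ⟩ := Nat.isCoprime_iff_coprime.mpr hcop
  have e1 : β * (r : ℤ) * ((p ^ b : ℕ) : ℤ) = ((orderOf x : ℕ) : ℤ) * β := by
    rw [hn]; push_cast; ring
  have e2 : α * ((p ^ b : ℕ) : ℤ) * (r : ℤ) = ((orderOf x : ℕ) : ℤ) * α := by
    rw [hn]; push_cast; ring
  refine ⟨x ^ (β * (r : ℤ)), x ^ (α * ((p ^ b : ℕ) : ℤ)), ?_, ?_, ⟨b, ?_⟩, ?_⟩
  · rw [← zpow_add, add_comm, hαβ, zpow_one]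
  · exact (Commute.refl x).zpow_zpow _ _
  · rw [← zpow_natCast, ← zpow_mul, e1, zpow_mul, zpow_natCast, pow_orderOf_eq_one, one_zpow]
  · intro q hq hqd
    have h1 : (x ^ (α * ((p ^ b : ℕ) : ℤ))) ^ r = 1 := by
      rw [← zpow_natCast, ← zpow_mul, e2, zpow_mul, zpow_natCast, pow_orderOf_eq_one, one_zpow]
    have h2 : orderOf (x ^ (α * ((p ^ b : ℕ) : ℤ))) ∣ r := orderOf_dvd_of_pow_eq_one h1
    have h3 : orderOf (x ^ (α * ((p ^ b : ℕ) : ℤ))) ∣ orderOf x := by
      apply orderOf_dvd_of_pow_eq_one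
      rw [← zpow_natCast, ← zpow_mul, mul_comm, zpow_mul, zpow_natCast, pow_orderOf_eq_one,
        one_zpow]
    refine ⟨hqd.trans h3, ?_⟩
    rintro rfl
    exact hr (hqd.trans h2)

theorem conj_into_sylow {G : Type*} [Group G] [Finite G] {p : ℕ} [Fact p.Prime] (P : Sylow p G)
    (w : G) (hw : ∃ b : ℕ, w ^ (p ^ b) = 1) : ∃ g : G, g * w * g⁻¹ ∈ (P : Subgroup G) := by
  obtain ⟨b, hb⟩ := hw
  have hpg : IsPGroup p (Subgroup.zpowers w) := by
    rintro ⟨y, hy⟩
    obtain ⟨k, rfl⟩ := Subgroup.mem_zpowers_iff.mp hy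
    refine ⟨b, Subtype.ext ?_⟩
    show (w ^ k) ^ (p ^ b) = 1
    rw [← zpow_natCast, ← zpow_mul, mul_comm, zpow_mul, zpow_natCast, hb, one_zpow]
  obtain ⟨Q, hQ⟩ := hpg.exists_le_sylow
  obtain ⟨g, hg⟩ := MulAction.exists_smul_eq G Q P
  refine ⟨g, ?_⟩
  have hwQ : w ∈ (Q : Subgroup G) := hQ (Subgroup.mem_zpowers w)
  have h1 : g * w * g⁻¹ ∈ ((g • Q : Sylow p G) : Subgroup G) := by
    rw [Sylow.coe_subgroup_smul]
    exact Subgroup.smul_mem_pointwise_smul w (MulAut.conj g) _ hwQ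
  rw [hg] at h1
  exact h1

theorem bound (s : Finset ℕ) : ∀ (G : Type u) [Group G] [Finite G] (m c : ℕ),
    Nat.card G ∣ m * c → 0 < m → (∀ q ∈ s, q.Prime ∧ ¬ q ∣ c) →
    Nat.card (SCls s G) ≤ m := by
  classical
  induction s using Finset.induction_on with
  | empty =>
    intro G _ _ m c hdvd hm hs
    have key : ∀ C : SCls ∅ G, C.1 = ConjClasses.mk 1 := by
      rintro ⟨C, hC⟩
      obtain ⟨g, rfl⟩ := ConjClasses.mk_surjective C
      show ConjClasses.mk g = ConjClasses.mk 1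
      have h1 : orderOf g = 1 := by
        by_contra hne
        have := hC (orderOf g).minFac (Nat.minFac_prime hne) ⟨g, rfl, Nat.minFac_dvd _⟩
        simp at this
      rw [orderOf_eq_one_iff.mp h1]
    have hsub : Subsingleton (SCls ∅ G) :=
      ⟨fun C D => Subtype.ext ((key C).trans (key D).symm)⟩
    exact (Finite.card_le_one_iff_subsingleton.mpr hsub).trans hm
  | insert p s' hp ih =>
    intro G _ _ m c hdvd hm hs
    have hpp : p.Prime := (hs p (Finset.mem_insert_self p s')).1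
    have hpc : ¬ p ∣ c := (hs p (Finset.mem_insert_self p s')).2
    haveI : Fact p.Prime := ⟨hpp⟩
    obtain ⟨P⟩ : Nonempty (Sylow p G) := inferInstance
    obtain ⟨e, he⟩ := IsPGroup.iff_card.mp P.isPGroup'
    have hPm : Nat.card (P : Subgroup G) ∣ m := by
      have h1 : Nat.card (P : Subgroup G) ∣ m * c :=
        (Subgroup.card_subgroup_dvd_card (P : Subgroup G)).trans hdvd
      have h2 : (Nat.card (P : Subgroup G)).Coprime c := by
        rw [he]
        exact Nat.Coprime.pow_left e ((Nat.Prime.coprime_iff_not_dvd hpp).mpr hpc)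
      exact h2.dvd_of_dvd_mul_right h1
    obtain ⟨m', hm'⟩ := hPm
    have hm'pos : 0 < m' := by
      rcases Nat.eq_zero_or_pos m' with h0 | h0
      · rw [h0, mul_zero] at hm'; omega
      · exact h0
    have hs' : ∀ q ∈ s', q.Prime ∧ ¬ q ∣ Nat.card (P : Subgroup G) * c := by
      intro q hq
      have hq' := hs q (Finset.mem_insert_of_mem hq)
      refine ⟨hq'.1, fun hd => ?_⟩
      rcases (Nat.Prime.dvd_mul hq'.1).mp hd with h1 | h1
      · rw [he] at h1
        have h2 := hq'.1.dvd_of_dvd_pow h1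
        have h3 : q = p := (Nat.prime_dvd_prime_iff_eq hq'.1 hpp).mp h2
        exact hp (h3 ▸ hq)
      · exact hq'.2 h1
    have hcent : ∀ u : ↥(P : Subgroup G),
        Nat.card (SCls s' ↥(Subgroup.centralizer ({(u : G)} : Set G))) ≤ m' := by
      intro u
      refine ih ↥(Subgroup.centralizer ({(u : G)} : Set G)) m' (Nat.card (P : Subgroup G) * c)
        ?_ hm'pos hs'
      have h1 : Nat.card ↥(Subgroup.centralizer ({(u : G)} : Set G)) ∣ Nat.card G :=
        Subgroup.card_subgroup_dvd_card _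
      have h2 : m * c = m' * (Nat.card (P : Subgroup G) * c) := by rw [hm']; ring
      rw [← h2]
      exact h1.trans hdvd
    have hfun : ∀ (t : Σ u : ↥(P : Subgroup G),
          SCls s' ↥(Subgroup.centralizer ({(u : G)} : Set G)))
        (C C' : SCls (insert p s') G),
        (∃ v : ↥(Subgroup.centralizer ({(t.1 : G)} : Set G)),
          ConjClasses.mk v = t.2.1 ∧ ConjClasses.mk ((t.1 : G) * (v : G)) = C.1) →
        (∃ v : ↥(Subgroup.centralizer ({(t.1 : G)} : Set G)),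
          ConjClasses.mk v = t.2.1 ∧ ConjClasses.mk ((t.1 : G) * (v : G)) = C'.1) →
        C = C' := by
      rintro ⟨u, D⟩ C C' ⟨v, hv1, hv2⟩ ⟨v', hv1', hv2'⟩
      apply Subtype.ext
      rw [← hv2, ← hv2']
      obtain ⟨d, hd⟩ := isConj_iff.mp (ConjClasses.mk_eq_mk_iff_isConj.mp (hv1.trans hv1'.symm))
      rw [ConjClasses.mk_eq_mk_iff_isConj, isConj_iff]
      refine ⟨(d : G), ?_⟩
      have hd' : (d : G) * (v : G) * (d : G)⁻¹ = (v' : G) := congrArg Subtype.val hd
      have hdu : (u : G) * (d : G) = (d : G) * (u : G) :=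
        Subgroup.mem_centralizer_iff.mp d.2 (u : G) (Set.mem_singleton _)
      rw [← hd']
      calc (d : G) * ((u : G) * (v : G)) * (d : G)⁻¹
          = ((d : G) * (u : G)) * (v : G) * (d : G)⁻¹ := by group
        _ = ((u : G) * (d : G)) * (v : G) * (d : G)⁻¹ := by rw [hdu]
        _ = (u : G) * ((d : G) * (v : G) * (d : G)⁻¹) := by group
    have hex : ∀ C : SCls (insert p s') G,
        ∃ t : (Σ u : ↥(P : Subgroup G), SCls s' ↥(Subgroup.centralizer ({(u : G)} : Set G))),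
          ∃ v : ↥(Subgroup.centralizer ({(t.1 : G)} : Set G)),
            ConjClasses.mk v = t.2.1 ∧ ConjClasses.mk ((t.1 : G) * (v : G)) = C.1 := by
      rintro ⟨C, hC⟩
      obtain ⟨x, rfl⟩ := ConjClasses.mk_surjective C
      have hxs : ∀ q : ℕ, q.Prime → q ∣ orderOf x → q ∈ insert p s' :=
        fun q hq hd => hC q hq ⟨x, rfl, hd⟩
      obtain ⟨w, v0, hwv, hcomm, hw, hv0⟩ := decomp p hpp x
      obtain ⟨g, hg⟩ := conj_into_sylow P w hw
      have hvc : g * v0 * g⁻¹ ∈ Subgroup.centralizer ({(g * w * g⁻¹ : G)} : Set G) := by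
        rw [Subgroup.mem_centralizer_iff]
        intro h hh
        rw [Set.mem_singleton_iff] at hh
        rw [hh]
        have hc := hcomm.eq
        calc g * w * g⁻¹ * (g * v0 * g⁻¹) = g * (w * v0) * g⁻¹ := by group
          _ = g * (v0 * w) * g⁻¹ := by rw [hc]
          _ = g * v0 * g⁻¹ * (g * w * g⁻¹) := by group
      refine ⟨⟨⟨g * w * g⁻¹, hg⟩, ⟨ConjClasses.mk ⟨g * v0 * g⁻¹, hvc⟩, ?_⟩⟩,
        ⟨g * v0 * g⁻¹, hvc⟩, rfl, ?_⟩
      · intro q hq hex
        have hq1 : q ∣ orderOf (⟨g * v0 * g⁻¹, hvc⟩ :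
            ↥(Subgroup.centralizer ({(g * w * g⁻¹ : G)} : Set G))) := (cls_iff _ q).mp hex
        rw [← Subgroup.orderOf_coe] at hq1
        have hq2 : orderOf (g * v0 * g⁻¹) = orderOf v0 := by
          have h2 := MulEquiv.orderOf_eq (MulAut.conj g) v0
          rwa [MulAut.conj_apply] at h2
        have hq1' : q ∣ orderOf (g * v0 * g⁻¹) := hq1
        rw [hq2] at hq1'
        obtain ⟨h3, h4⟩ := hv0 q hq hq1'
        rcases Finset.mem_insert.mp (hxs q hq h3) with h5 | h5
        · exact absurd h5 h4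
        · exact h5
      · show ConjClasses.mk (g * w * g⁻¹ * (g * v0 * g⁻¹)) = ConjClasses.mk x
        rw [ConjClasses.mk_eq_mk_iff_isConj, isConj_comm, isConj_iff]
        refine ⟨g, ?_⟩
        rw [← hwv]; group
    choose f hf using hex
    have hinj : Function.Injective f := by
      intro C C' h
      exact hfun (f C) C C' (hf C) (by rw [h]; exact hf C')
    haveI : Fintype ↥(P : Subgroup G) := Fintype.ofFinite _
    calc Nat.card (SCls (insert p s') G)
        ≤ Nat.card (Σ u : ↥(P : Subgroup G),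
            SCls s' ↥(Subgroup.centralizer ({(u : G)} : Set G))) :=
          Nat.card_le_card_of_injective f hinj
      _ = ∑ u : ↥(P : Subgroup G),
            Nat.card (SCls s' ↥(Subgroup.centralizer ({(u : G)} : Set G))) := Nat.card_sigma
      _ ≤ ∑ _u : ↥(P : Subgroup G), m' := Finset.sum_le_sum (fun u _ => hcent u)
      _ = Nat.card (P : Subgroup G) * m' := by
          rw [Finset.sum_const, Finset.card_univ, smul_eq_mul, Nat.card_eq_fintype_card]
      _ = m := hm'.symm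

/-- Let G be a finite group, π a set of primes and m the π-part of the order of G. Then the number of conjugacy classes of G consisting of π-elements (elements whose order is divisible only by primes in π) is at most m. -/
theorem result {G : Type*} [Group G] [Finite G]
    (π : Set ℕ) (hπ : ∀ q ∈ π, q.Prime)
    (m : ℕ) (hm : m ∣ Nat.card G) (hmπ : ∀ q : ℕ, q.Prime → q ∣ m → q ∈ π)
    (hm' : ∀ q ∈ π, ¬ q ∣ Nat.card G / m) :
    Nat.card {C : ConjClasses G // ∀ q : ℕ, q.Prime → (∃ g : G, ConjClasses.mk g = C ∧ q ∣ orderOf g) → q ∈ π} ≤ m := by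
  classical
  have hmpos : 0 < m := Nat.pos_of_dvd_of_pos hm Nat.card_pos
  have hb := bound ((Nat.card G).primeFactors.filter (· ∈ π)) G m (Nat.card G / m)
    (dvd_of_eq (Nat.mul_div_cancel' hm).symm) hmpos
    (by
      intro q hq
      have hq' := (Finset.mem_filter.mp hq).2
      exact ⟨hπ q hq', hm' q hq'⟩)
  refine le_trans ?_ hb
  apply Nat.card_le_card_of_injective
    (fun C : {C : ConjClasses G // ∀ q : ℕ, q.Prime →
        (∃ g : G, ConjClasses.mk g = C ∧ q ∣ orderOf g) → q ∈ π} =>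
      (⟨C.1, fun q hq hex => by
        obtain ⟨g, hg, hd⟩ := hex
        exact Finset.mem_filter.mpr ⟨Nat.mem_primeFactors.mpr
          ⟨hq, hd.trans (orderOf_dvd_natCard g), Nat.card_pos.ne'⟩, C.2 q hq ⟨g, hg, hd⟩⟩⟩ :
        SCls ((Nat.card G).primeFactors.filter (· ∈ π)) G))
  intro C D h
  have h' := congrArg
    (fun z : SCls ((Nat.card G).primeFactors.filter (· ∈ π)) G => (z.1 : ConjClasses G)) h
  exact Subtype.ext h'

end Cfsg.Agent.S4106
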