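import Cfsg.Statements.S3897
import Cfsg.Agent.S4106
import Cfsg.Agent.S0001
import Mathlib

set_option autoImplicit false
open Cfsg

namespace Cfsg.Agent.S3897

abbrev KP (G : Type*) [Group G] (p : ℕ) :=
  {c : ConjClasses G // ∀ x ∈ c.carrier, ∃ k : ℕ, orderOf x = p ^ k}

theorem key {G : Type*} [Group G] [Finite G] {p : ℕ} [Fact p.Prime] (P : Sylow p G)
    (h : G) (hh : h ∈ Subgroup.normalizer (P : Set G))
    (u : G) (hu : u ∈ (P : Subgroup G)) (hne : h * u * h⁻¹ ≠ u) :
    2 * p * Nat.card (KP G p) ≤ (p + 1) * Nat.card ↥(P : Subgroup G) := by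
  classical
  have hp : p.Prime := Fact.out
  have hrep : ∀ c : KP G p, ∃ s : G, s ∈ (P : Subgroup G) ∧ ConjClasses.mk s = c.1 := by
    intro c
    obtain ⟨x, hx⟩ := ConjClasses.exists_rep c.1
    obtain ⟨k, hk⟩ := c.2 x (ConjClasses.mem_carrier_iff_mk_eq.mpr hx)
    obtain ⟨g, hg⟩ := Cfsg.Agent.S4106.conj_into_sylow P x
      ⟨k, by rw [← hk]; exact pow_orderOf_eq_one x⟩
    refine ⟨g * x * g⁻¹, hg, ?_⟩
    rw [← hx]
    exact (ConjClasses.mk_eq_mk_iff_isConj.mpr (isConj_iff.mpr ⟨g, rfl⟩)).symm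
  choose s hsP hsc using hrep
  have hcs : ∀ c c' : KP G p, ConjClasses.mk (s c) = ConjClasses.mk (s c') → c = c' := by
    intro c c' hcc
    apply Subtype.ext
    rw [← hsc c, ← hsc c', hcc]
  have hconj : ∀ x : G, ConjClasses.mk (h * x * h⁻¹) = ConjClasses.mk x := fun x =>
    (ConjClasses.mk_eq_mk_iff_isConj.mpr (isConj_iff.mpr ⟨h, rfl⟩)).symm
  obtain ⟨C, hCdef⟩ : ∃ C : Subgroup G,
      C = (P : Subgroup G) ⊓ Subgroup.centralizer ({h} : Set G) := ⟨_, rfl⟩
  have hmemC : ∀ x : G, x ∈ (P : Subgroup G) → h * x * h⁻¹ = x → x ∈ C := by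
    intro x hx hxc
    rw [hCdef]
    refine ⟨hx, ?_⟩
    show x ∈ Subgroup.centralizer ({h} : Set G)
    rw [Subgroup.mem_centralizer_iff]
    intro y hy
    rw [Set.mem_singleton_iff.mp hy]
    calc h * x = h * x * h⁻¹ * h := by group
      _ = x * h := by rw [hxc]
  have hCP : C ≤ (P : Subgroup G) := by rw [hCdef]; exact inf_le_left
  have hCne : C ≠ (P : Subgroup G) := by
    intro hEq
    have huC : u ∈ C := by rw [hEq]; exact hu
    rw [hCdef] at huC
    have h1 := Subgroup.mem_centralizer_iff.mp huC.2 h (Set.mem_singleton h)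
    apply hne
    rw [h1]; group
  have hnorm : ∀ x : G, x ∈ (P : Subgroup G) → h * x * h⁻¹ ∈ (P : Subgroup G) := fun x hx =>
    (Subgroup.mem_set_normalizer_iff.mp hh x).mp hx
  obtain ⟨f2, hf2a, hf2b⟩ : ∃ f2 : KP G p → ↥(P : Subgroup G) ⊕ ↥C,
      (∀ c, h * s c * h⁻¹ = s c → ∃ hm : s c ∈ C, f2 c = Sum.inr ⟨s c, hm⟩) ∧
      (∀ c, h * s c * h⁻¹ ≠ s c → ∃ hm : h * s c * h⁻¹ ∈ (P : Subgroup G),
        f2 c = Sum.inl ⟨h * s c * h⁻¹, hm⟩) := by
    refine ⟨fun c => if hc : h * s c * h⁻¹ = s c then Sum.inr ⟨s c, hmemC _ (hsP c) hc⟩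
      else Sum.inl ⟨h * s c * h⁻¹, hnorm _ (hsP c)⟩, ?_, ?_⟩
    · intro c hc
      exact ⟨hmemC _ (hsP c) hc, dif_pos hc⟩
    · intro c hc
      exact ⟨hnorm _ (hsP c), dif_neg hc⟩
  have hΨ : Function.Injective
      (Sum.elim (fun c : KP G p => (Sum.inl ⟨s c, hsP c⟩ : ↥(P : Subgroup G) ⊕ ↥C)) f2) := by
    rintro (c | c) (c' | c') hcc
    · have h1 : (Sum.inl ⟨s c, hsP c⟩ : ↥(P : Subgroup G) ⊕ ↥C) = Sum.inl ⟨s c', hsP c'⟩ := hcc
      have h2 : s c = s c' := congrArg Subtype.val (Sum.inl.inj h1)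
      rw [hcs c c' (by rw [h2])]
    · have h1 : (Sum.inl ⟨s c, hsP c⟩ : ↥(P : Subgroup G) ⊕ ↥C) = f2 c' := hcc
      by_cases hfix : h * s c' * h⁻¹ = s c'
      · obtain ⟨hm, he⟩ := hf2a c' hfix
        rw [he] at h1
        exact absurd h1 Sum.inl_ne_inr
      · obtain ⟨hm, he⟩ := hf2b c' hfix
        rw [he] at h1
        have h2 : s c = h * s c' * h⁻¹ := congrArg Subtype.val (Sum.inl.inj h1)
        have h3 : c = c' := hcs c c' (by rw [h2, hconj])
        subst h3
        exact absurd h2.symm hfix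
    · have h1 : f2 c = (Sum.inl ⟨s c', hsP c'⟩ : ↥(P : Subgroup G) ⊕ ↥C) := hcc
      by_cases hfix : h * s c * h⁻¹ = s c
      · obtain ⟨hm, he⟩ := hf2a c hfix
        rw [he] at h1
        exact absurd h1 Sum.inr_ne_inl
      · obtain ⟨hm, he⟩ := hf2b c hfix
        rw [he] at h1
        have h2 : h * s c * h⁻¹ = s c' := congrArg Subtype.val (Sum.inl.inj h1)
        have h3 : c = c' := hcs c c' (by rw [← h2, hconj])
        subst h3
        exact absurd h2 hfix
    · have h1 : f2 c = f2 c' := hcc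
      by_cases hfix : h * s c * h⁻¹ = s c <;> by_cases hfix' : h * s c' * h⁻¹ = s c'
      · obtain ⟨hm, he⟩ := hf2a c hfix
        obtain ⟨hm', he'⟩ := hf2a c' hfix'
        rw [he, he'] at h1
        have h2 : s c = s c' := congrArg Subtype.val (Sum.inr.inj h1)
        rw [hcs c c' (by rw [h2])]
      · obtain ⟨hm, he⟩ := hf2a c hfix
        obtain ⟨hm', he'⟩ := hf2b c' hfix'
        rw [he, he'] at h1
        exact absurd h1 Sum.inr_ne_inl
      · obtain ⟨hm, he⟩ := hf2b c hfix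
        obtain ⟨hm', he'⟩ := hf2a c' hfix'
        rw [he, he'] at h1
        exact absurd h1 Sum.inl_ne_inr
      · obtain ⟨hm, he⟩ := hf2b c hfix
        obtain ⟨hm', he'⟩ := hf2b c' hfix'
        rw [he, he'] at h1
        have h2 : h * s c * h⁻¹ = h * s c' * h⁻¹ := congrArg Subtype.val (Sum.inl.inj h1)
        have h3 : s c = s c' := mul_left_cancel (mul_right_cancel h2)
        rw [hcs c c' (by rw [h3])]
  have hcard := Nat.card_le_card_of_injective _ hΨ
  rw [Nat.card_sum, Nat.card_sum] at hcard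
  obtain ⟨n, hn⟩ := IsPGroup.iff_card.mp P.isPGroup'
  obtain ⟨m, hm⟩ := IsPGroup.iff_card.mp (P.isPGroup'.to_le hCP)
  have hdvd : Nat.card ↥C ∣ Nat.card ↥(P : Subgroup G) := Subgroup.card_dvd_of_le hCP
  rw [hm, hn] at hdvd
  have hmn : m ≤ n := (Nat.pow_dvd_pow_iff_le_right hp.one_lt).mp hdvd
  have hmn' : m ≠ n := by
    intro hEq
    apply hCne
    exact Subgroup.eq_of_le_of_card_ge hCP (le_of_eq (by rw [hm, hn, hEq]))
  have hCp : Nat.card ↥C * p ≤ Nat.card ↥(P : Subgroup G) := by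
    rw [hm, hn, ← pow_succ]
    exact Nat.pow_le_pow_right hp.pos (by omega)
  calc 2 * p * Nat.card (KP G p) = p * (Nat.card (KP G p) + Nat.card (KP G p)) := by ring
    _ ≤ p * (Nat.card ↥(P : Subgroup G) + Nat.card ↥C) := Nat.mul_le_mul_left p hcard
    _ = p * Nat.card ↥(P : Subgroup G) + Nat.card ↥C * p := by ring
    _ ≤ p * Nat.card ↥(P : Subgroup G) + Nat.card ↥(P : Subgroup G) :=
        Nat.add_le_add_left hCp _
    _ = (p + 1) * Nat.card ↥(P : Subgroup G) := by ring

/-- Let p be an odd prime and G a finite group with Sylow p-subgroup P, and write k_p(G) for the number of conjugacy classes of G consisting of p-elements (elements of p-power order, the identity included). Then k_p(G) > (p + 1)|P|/(2p) if and only if G has a normal p-complement and P is abelian. -/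
theorem result {G : Type*} [Group G] [Finite G] {p : ℕ} [Fact p.Prime] (hp : p ≠ 2) (P : Sylow p G) :
    (p + 1) * Nat.card ↥(P : Subgroup G) < 2 * p * Nat.card {c : ConjClasses G // ∀ x ∈ c.carrier, ∃ k : ℕ, orderOf x = p ^ k} ↔
      Cfsg.HasNormalPComplement p G ∧ IsMulCommutative ↥(P : Subgroup G) := by
  classical
  have hp' : p.Prime := Fact.out
  constructor
  · intro hlt
    have hcen : ∀ h ∈ Subgroup.normalizer (P : Set G), ∀ u ∈ (P : Subgroup G),
        h * u * h⁻¹ = u := by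
      intro h hh u hu
      by_contra hne
      exact absurd (key P h hh u hu hne) (not_le.mpr hlt)
    have hNC : Subgroup.normalizer (P : Set G) ≤ Subgroup.centralizer (P : Set G) := by
      intro h hh
      rw [Subgroup.mem_centralizer_iff]
      intro u hu
      have h1 := hcen h hh u hu
      calc u * h = h * u * h⁻¹ * h := by rw [h1]
        _ = h * u := by group
    refine ⟨⟨P, (MonoidHom.transferSylow P hNC).ker, inferInstance,
      MonoidHom.ker_transferSylow_isComplement' P hNC⟩, ⟨⟨fun a b => Subtype.ext ?_⟩⟩⟩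
    have h1 := hcen (a : G) (Subgroup.le_normalizer a.2) (b : G) b.2
    show (a : G) * (b : G) = (b : G) * (a : G)
    calc (a : G) * b = a * b * (a : G)⁻¹ * a := by group
      _ = b * a := by rw [h1]
  · rintro ⟨⟨P', N, hN, hcomp⟩, hab⟩
    have := hN
    have hcardP : Nat.card ↥(P : Subgroup G) = Nat.card ↥(P' : Subgroup G) := by
      rw [Sylow.card_eq_multiplicity, Sylow.card_eq_multiplicity]
    have hcop : (Nat.card ↥N).Coprime (Nat.card ↥(P : Subgroup G)) := by
      rw [hcardP, ← hcomp.index_eq_card]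
      exact P'.card_coprime_index.symm
    have hmul : Nat.card ↥N * Nat.card ↥(P : Subgroup G) = Nat.card G := by
      rw [hcardP]; exact hcomp.card_mul_card
    have hcomp2 : N.IsComplement' (P : Subgroup G) := Subgroup.isComplement'_of_coprime hmul hcop
    have hdisj : N ⊓ (P : Subgroup G) = ⊥ := hcomp2.disjoint.eq_bot
    have hsup : N ⊔ (P : Subgroup G) = ⊤ := hcomp2.sup_eq_top
    have hcomm : ∀ a ∈ (P : Subgroup G), ∀ b ∈ (P : Subgroup G), a * b = b * a := by
      intro a ha b hb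
      exact congrArg Subtype.val (hab.is_comm.comm ⟨a, ha⟩ ⟨b, hb⟩)
    have hinj : ∀ x ∈ (P : Subgroup G), ∀ y ∈ (P : Subgroup G), IsConj x y → x = y := by
      intro x hx y hy hxy
      obtain ⟨g, hg⟩ := isConj_iff.mp hxy
      have hgmem : g ∈ (P : Subgroup G) ⊔ N := by rw [sup_comm, hsup]; exact Subgroup.mem_top g
      obtain ⟨u, hu, n, hn, rfl⟩ := (Cfsg.Agent.S0001.mem_sup_normal (P : Subgroup G) N g).mp hgmem
      have h2 : u⁻¹ * y * u = n * x * n⁻¹ := by rw [← hg]; group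
      have h3 : u⁻¹ * y * u = y := by
        have h0 := hcomm y hy u hu
        calc u⁻¹ * y * u = u⁻¹ * (y * u) := by group
          _ = u⁻¹ * (u * y) := by rw [h0]
          _ = y := by group
      have h1 : n * x * n⁻¹ = y := by rw [← h2, h3]
      have h4 : y * x⁻¹ ∈ N ⊓ (P : Subgroup G) := by
        refine ⟨?_, Subgroup.mul_mem _ hy (Subgroup.inv_mem _ hx)⟩
        have h5 : y * x⁻¹ = n * (x * n⁻¹ * x⁻¹) := by rw [← h1]; group
        rw [h5]
        exact N.mul_mem hn (hN.conj_mem _ (N.inv_mem hn) x)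
      rw [hdisj, Subgroup.mem_bot] at h4
      exact (mul_inv_eq_one.mp h4).symm
    have hord : ∀ x ∈ (P : Subgroup G), ∀ z : G, ConjClasses.mk z = ConjClasses.mk x →
        ∃ k : ℕ, orderOf z = p ^ k := by
      intro x hx z hz
      obtain ⟨c, hc⟩ := isConj_iff.mp (ConjClasses.mk_eq_mk_iff_isConj.mp hz)
      have h2 := MulEquiv.orderOf_eq (MulAut.conj c) z
      rw [MulAut.conj_apply, hc] at h2
      obtain ⟨k, hk⟩ := (IsPGroup.iff_orderOf.mp P.isPGroup') ⟨x, hx⟩
      refine ⟨k, ?_⟩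
      rw [← h2, ← hk]
      exact Subgroup.orderOf_coe (⟨x, hx⟩ : ↥(P : Subgroup G))
    have hfinj : Function.Injective (fun x : ↥(P : Subgroup G) =>
        (⟨ConjClasses.mk (x : G), fun z hz =>
          hord x x.2 z (ConjClasses.mem_carrier_iff_mk_eq.mp hz)⟩ : KP G p)) := by
      intro a b hab'
      have h1 : ConjClasses.mk (a : G) = ConjClasses.mk (b : G) := congrArg Subtype.val hab'
      exact Subtype.ext (hinj a a.2 b b.2 (ConjClasses.mk_eq_mk_iff_isConj.mp h1))
    have hle : Nat.card ↥(P : Subgroup G) ≤ Nat.card (KP G p) :=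
      Nat.card_le_card_of_injective _ hfinj
    have hpos : 0 < Nat.card ↥(P : Subgroup G) := Nat.card_pos
    have hp2 : 2 ≤ p := hp'.two_le
    calc (p + 1) * Nat.card ↥(P : Subgroup G) < 2 * p * Nat.card ↥(P : Subgroup G) :=
          Nat.mul_lt_mul_of_pos_right (by omega) hpos
      _ ≤ 2 * p * Nat.card (KP G p) := Nat.mul_le_mul_left _ hle

end Cfsg.Agent.S3897
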