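import Mathlib
import Cfsg.Statements.S3899
import Cfsg.Agent.S3897
import Cfsg.Agent.S4106

set_option autoImplicit false
open Cfsg

namespace Cfsg.Agent.S3899

universe u

open Cfsg.Agent.S4106 in
/-- Classes of `(insert q s')`-elements inject into pairs (class of `q`-elements, class of
`s'`-elements of the centralizer of a representative). -/
theorem refined {G : Type u} [Group G] [Finite G] (q : ℕ) (hq : q.Prime) (s' : Finset ℕ) (m' : ℕ)
    (hcent : ∀ u : G, Nat.card (SCls s' ↥(Subgroup.centralizer ({u} : Set G))) ≤ m') :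
    Nat.card (SCls (insert q s') G) ≤ Nat.card (Cfsg.Agent.S3897.KP G q) * m' := by
  classical
  have hrep : ∀ c : Cfsg.Agent.S3897.KP G q, ∃ x : G, ConjClasses.mk x = c.1 :=
    fun c => ConjClasses.exists_rep c.1
  choose rep hrepc using hrep
  have hfun : ∀ (t : Σ c : Cfsg.Agent.S3897.KP G q,
        SCls s' ↥(Subgroup.centralizer ({rep c} : Set G)))
      (C C' : SCls (insert q s') G),
      (∃ v : ↥(Subgroup.centralizer ({rep t.1} : Set G)),
        ConjClasses.mk v = t.2.1 ∧ ConjClasses.mk (rep t.1 * (v : G)) = C.1) →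
      (∃ v : ↥(Subgroup.centralizer ({rep t.1} : Set G)),
        ConjClasses.mk v = t.2.1 ∧ ConjClasses.mk (rep t.1 * (v : G)) = C'.1) →
      C = C' := by
    rintro ⟨c, D⟩ C C' ⟨v, hv1, hv2⟩ ⟨v', hv1', hv2'⟩
    apply Subtype.ext
    rw [← hv2, ← hv2']
    obtain ⟨d, hd⟩ := isConj_iff.mp (ConjClasses.mk_eq_mk_iff_isConj.mp (hv1.trans hv1'.symm))
    rw [ConjClasses.mk_eq_mk_iff_isConj, isConj_iff]
    refine ⟨(d : G), ?_⟩
    have hd' : (d : G) * (v : G) * (d : G)⁻¹ = (v' : G) := congrArg Subtype.val hd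
    have hdu : rep c * (d : G) = (d : G) * rep c :=
      Subgroup.mem_centralizer_iff.mp d.2 (rep c) (Set.mem_singleton _)
    rw [← hd']
    calc (d : G) * (rep c * (v : G)) * (d : G)⁻¹
        = ((d : G) * rep c) * (v : G) * (d : G)⁻¹ := by group
      _ = (rep c * (d : G)) * (v : G) * (d : G)⁻¹ := by rw [hdu]
      _ = rep c * ((d : G) * (v : G) * (d : G)⁻¹) := by group
  have hex : ∀ C : SCls (insert q s') G,
      ∃ t : (Σ c : Cfsg.Agent.S3897.KP G q, SCls s' ↥(Subgroup.centralizer ({rep c} : Set G))),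
        ∃ v : ↥(Subgroup.centralizer ({rep t.1} : Set G)),
          ConjClasses.mk v = t.2.1 ∧ ConjClasses.mk (rep t.1 * (v : G)) = C.1 := by
    rintro ⟨C, hC⟩
    obtain ⟨x, rfl⟩ := ConjClasses.mk_surjective C
    have hxs : ∀ r : ℕ, r.Prime → r ∣ orderOf x → r ∈ insert q s' :=
      fun r hr hd => hC r hr ⟨x, rfl, hd⟩
    obtain ⟨w, v0, hwv, hcomm, hw, hv0⟩ := decomp q hq x
    have hwcls : ∀ y ∈ (ConjClasses.mk w).carrier, ∃ k : ℕ, orderOf y = q ^ k := by
      intro y hy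
      rw [ConjClasses.mem_carrier_iff_mk_eq] at hy
      obtain ⟨d, hd⟩ := isConj_iff.mp (ConjClasses.mk_eq_mk_iff_isConj.mp hy)
      have h2 := MulEquiv.orderOf_eq (MulAut.conj d) y
      rw [MulAut.conj_apply, hd] at h2
      obtain ⟨b, hb⟩ := hw
      have h3 : orderOf w ∣ q ^ b := orderOf_dvd_of_pow_eq_one hb
      obtain ⟨k, -, hk⟩ := (Nat.dvd_prime_pow hq).mp h3
      exact ⟨k, by rw [← h2, hk]⟩
    obtain ⟨c, hcdef⟩ : ∃ c : Cfsg.Agent.S3897.KP G q, c = ⟨ConjClasses.mk w, hwcls⟩ := ⟨_, rfl⟩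
    have hc1 : ConjClasses.mk (rep c) = ConjClasses.mk w := by rw [hrepc c, hcdef]
    obtain ⟨g, hg⟩ := isConj_iff.mp (ConjClasses.mk_eq_mk_iff_isConj.mp hc1.symm)
    have hvc : g * v0 * g⁻¹ ∈ Subgroup.centralizer ({rep c} : Set G) := by
      rw [Subgroup.mem_centralizer_iff]
      intro h hh
      rw [Set.mem_singleton_iff] at hh
      rw [hh, ← hg]
      have hc := hcomm.eq
      calc g * w * g⁻¹ * (g * v0 * g⁻¹) = g * (w * v0) * g⁻¹ := by group
        _ = g * (v0 * w) * g⁻¹ := by rw [hc]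
        _ = g * v0 * g⁻¹ * (g * w * g⁻¹) := by group
    refine ⟨⟨c, ⟨ConjClasses.mk ⟨g * v0 * g⁻¹, hvc⟩, ?_⟩⟩, ⟨g * v0 * g⁻¹, hvc⟩, rfl, ?_⟩
    · intro r hr hex
      have hq1 : r ∣ orderOf (⟨g * v0 * g⁻¹, hvc⟩ :
          ↥(Subgroup.centralizer ({rep c} : Set G))) := (cls_iff _ r).mp hex
      rw [← Subgroup.orderOf_coe] at hq1
      have hq2 : orderOf (g * v0 * g⁻¹) = orderOf v0 := by
        have h2 := MulEquiv.orderOf_eq (MulAut.conj g) v0
        rwa [MulAut.conj_apply] at h2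
      have hq1' : r ∣ orderOf (g * v0 * g⁻¹) := hq1
      rw [hq2] at hq1'
      obtain ⟨h3, h4⟩ := hv0 r hr hq1'
      rcases Finset.mem_insert.mp (hxs r hr h3) with h5 | h5
      · exact absurd h5 h4
      · exact h5
    · show ConjClasses.mk (rep c * (g * v0 * g⁻¹)) = ConjClasses.mk x
      rw [ConjClasses.mk_eq_mk_iff_isConj, isConj_comm, isConj_iff]
      refine ⟨g, ?_⟩
      rw [← hwv, ← hg]; group
  choose f hf using hex
  have hinj : Function.Injective f := by
    intro C C' h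
    exact hfun (f C) C C' (hf C) (by rw [h]; exact hf C')
  haveI : Fintype (Cfsg.Agent.S3897.KP G q) := Fintype.ofFinite _
  calc Nat.card (SCls (insert q s') G)
      ≤ Nat.card (Σ c : Cfsg.Agent.S3897.KP G q,
          SCls s' ↥(Subgroup.centralizer ({rep c} : Set G))) :=
        Nat.card_le_card_of_injective f hinj
    _ = ∑ c : Cfsg.Agent.S3897.KP G q,
          Nat.card (SCls s' ↥(Subgroup.centralizer ({rep c} : Set G))) := Nat.card_sigma
    _ ≤ ∑ _c : Cfsg.Agent.S3897.KP G q, m' := Finset.sum_le_sum (fun c _ => hcent (rep c))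
    _ = Nat.card (Cfsg.Agent.S3897.KP G q) * m' := by
        rw [Finset.sum_const, Finset.card_univ, smul_eq_mul, Nat.card_eq_fintype_card]

theorem split (n : ℕ) (hn : n ≠ 0) (s : Finset ℕ) :
    ∃ c : ℕ, (∏ r ∈ s, r ^ n.factorization r) * c = n ∧ ∀ r ∈ s, r.Prime → ¬ r ∣ c := by
  classical
  refine ⟨∏ r ∈ n.primeFactors \ s, r ^ n.factorization r, ?_, ?_⟩
  · have h1 : ∏ r ∈ s, r ^ n.factorization r =
        ∏ r ∈ n.primeFactors ∩ s, r ^ n.factorization r := by
      symm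
      apply Finset.prod_subset Finset.inter_subset_right
      intro x hx hx'
      have h2 : x ∉ n.primeFactors := fun h => hx' (Finset.mem_inter.mpr ⟨h, hx⟩)
      rw [← Nat.support_factorization, Finsupp.mem_support_iff, not_not] at h2
      rw [h2, pow_zero]
    rw [h1, Finset.prod_inter_mul_prod_sdiff]
    exact (Nat.prod_primeFactors_pow_factorization hn).symm
  · intro r hr hrp hdvd
    rw [Prime.dvd_finsetProd_iff hrp.prime] at hdvd
    obtain ⟨a, ha, hda⟩ := hdvd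
    have h2 := hrp.dvd_of_dvd_pow hda
    rw [Finset.mem_sdiff, Nat.mem_primeFactors] at ha
    have h3 : r = a := (Nat.prime_dvd_prime_iff_eq hrp ha.1.1).mp h2
    exact ha.2 (h3 ▸ hr)

open Cfsg.Agent.S4106 in
theorem cent_bound {G : Type u} [Group G] [Finite G] (s : Finset ℕ) (hs : ∀ r ∈ s, r.Prime)
    (u : G) :
    Nat.card (SCls s ↥(Subgroup.centralizer ({u} : Set G))) ≤
      ∏ r ∈ s, r ^ (Nat.card G).factorization r := by
  obtain ⟨c, hc, hcs⟩ := split (Nat.card G) Nat.card_pos.ne' s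
  refine bound s ↥(Subgroup.centralizer ({u} : Set G)) _ c ?_ ?_ ?_
  · rw [hc]; exact Subgroup.card_subgroup_dvd_card _
  · exact Finset.prod_pos (fun r hr => pow_pos (hs r hr).pos _)
  · intro r hr; exact ⟨hs r hr, hcs r hr (hs r hr)⟩

theorem card_conv {G : Type u} [Group G] (π : Finset ℕ) :
    Nat.card {c : ConjClasses G // ∀ x ∈ c.carrier, ∀ r : ℕ, r.Prime → r ∣ orderOf x → r ∈ π} =
      Nat.card (Cfsg.Agent.S4106.SCls π G) := by
  apply Nat.card_congr
  apply Equiv.subtypeEquivRight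
  intro c
  constructor
  · rintro h r hr ⟨g, hg, hd⟩
    exact h g (ConjClasses.mem_carrier_iff_mk_eq.mpr hg) r hr hd
  · intro h x hx r hr hd
    exact h r hr ⟨x, ConjClasses.mem_carrier_iff_mk_eq.mp hx, hd⟩

theorem result {G : Type*} [Group G] [Finite G] (π : Finset ℕ) (hπ : ∀ r ∈ π, r.Prime) (h2 : 2 ∉ π) (p : ℕ) (hp : p ∈ π)
    (hmin : ∀ r ∈ π, p ≤ r) (hk : (p + 1) * π.prod (fun r => r ^ (Nat.card G).factorization r) < 2 * p * Nat.card {c : ConjClasses G // ∀ x ∈ c.carrier, ∀ r : ℕ, r.Prime → r ∣ orderOf x → r ∈ π}) :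
    (∃ N : Subgroup G, N.Normal ∧ (∀ r : ℕ, r.Prime → r ∣ Nat.card ↥N → r ∉ π) ∧ ∀ r : ℕ, r.Prime → r ∣ N.index → r ∈ π) ∧ ∃ H : Subgroup G, Cfsg.IsPiHall (↑π : Set ℕ) H ∧ IsMulCommutative ↥H := by
  classical
  rw [card_conv] at hk
  have hex : ∀ q ∈ π, ∃ K : Subgroup G, K.Normal ∧ ¬ q ∣ Nat.card K ∧
      (∃ e : ℕ, K.index = q ^ e) ∧ ∀ a b : G, a * b * a⁻¹ * b⁻¹ ∈ K := by
    intro q hq
    have hqp : q.Prime := hπ q hq
    haveI : Fact q.Prime := ⟨hqp⟩
    have hq2 : q ≠ 2 := fun h => h2 (h ▸ hq)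
    have hpq : p ≤ q := hmin q hq
    have hkq : Nat.card (Cfsg.Agent.S4106.SCls π G) ≤
        Nat.card (Cfsg.Agent.S3897.KP G q) *
          ∏ r ∈ π.erase q, r ^ (Nat.card G).factorization r := by
      have h1 := refined q hqp (π.erase q) (∏ r ∈ π.erase q, r ^ (Nat.card G).factorization r)
        (fun u => cent_bound (π.erase q) (fun r hr => hπ r (Finset.mem_of_mem_erase hr)) u)
      rwa [Finset.insert_erase hq] at h1
    have hprod : (∏ r ∈ π.erase q, r ^ (Nat.card G).factorization r) *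
        q ^ (Nat.card G).factorization q =
        π.prod (fun r => r ^ (Nat.card G).factorization r) := Finset.prod_erase_mul π _ hq
    have hM'pos : 0 < ∏ r ∈ π.erase q, r ^ (Nat.card G).factorization r :=
      Finset.prod_pos (fun r hr => pow_pos (hπ r (Finset.mem_of_mem_erase hr)).pos _)
    have hineq : ∀ Q : Sylow q G, (q + 1) * Nat.card ↥(Q : Subgroup G) <
        2 * q * Nat.card (Cfsg.Agent.S3897.KP G q) := by
      intro Q
      rw [Sylow.card_eq_multiplicity]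
      obtain ⟨M', hM'⟩ : ∃ M' : ℕ, M' = ∏ r ∈ π.erase q, r ^ (Nat.card G).factorization r :=
        ⟨_, rfl⟩
      obtain ⟨A, hA⟩ : ∃ A : ℕ, A = q ^ (Nat.card G).factorization q := ⟨_, rfl⟩
      obtain ⟨kq, hkqdef⟩ : ∃ kq : ℕ, kq = Nat.card (Cfsg.Agent.S3897.KP G q) := ⟨_, rfl⟩
      obtain ⟨kπ, hkπdef⟩ : ∃ kπ : ℕ, kπ = Nat.card (Cfsg.Agent.S4106.SCls π G) := ⟨_, rfl⟩
      rw [← hM', ← hA] at hprod
      rw [← hM', ← hkqdef, ← hkπdef] at hkq
      rw [← hprod, ← hkπdef] at hk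
      rw [← hM'] at hM'pos
      rw [← hA, ← hkqdef]
      have hq0 : 0 < q := hqp.pos
      have h3 : (p + 1) * A < 2 * p * kq := by
        by_contra hcon
        push_neg at hcon
        have h4 : 2 * p * kq * M' ≤ (p + 1) * A * M' := Nat.mul_le_mul_right M' hcon
        have h5 : 2 * p * kπ ≤ 2 * p * (kq * M') := Nat.mul_le_mul_left _ hkq
        nlinarith
      by_contra hcon
      push_neg at hcon
      have h6 : p * (2 * q * kq) ≤ p * ((q + 1) * A) := Nat.mul_le_mul_left p hcon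
      have h7 : (p + 1) * A * q < 2 * p * kq * q := Nat.mul_lt_mul_of_pos_right h3 hq0
      have h8 : p * A ≤ q * A := Nat.mul_le_mul_right A hpq
      nlinarith
    obtain ⟨Q₀⟩ : Nonempty (Sylow q G) := inferInstance
    obtain ⟨⟨P', K, hKn, hKc⟩, -⟩ := (Cfsg.Agent.S3897.result hq2 Q₀).mp (hineq Q₀)
    have hP'comm : IsMulCommutative ↥(P' : Subgroup G) :=
      ((Cfsg.Agent.S3897.result hq2 P').mp (hineq P')).2
    refine ⟨K, hKn, ?_, ?_, ?_⟩
    · have h1 : (P' : Subgroup G).index = Nat.card K := hKc.index_eq_card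
      rw [← h1]
      exact P'.not_dvd_index
    · have h1 : K.index = Nat.card (P' : Subgroup G) := hKc.symm.index_eq_card
      obtain ⟨e, he⟩ := IsPGroup.iff_card.mp P'.isPGroup'
      exact ⟨e, h1.trans he⟩
    · intro a b
      haveI := hKn
      have hdec : ∀ g : G, ∃ u ∈ (P' : Subgroup G),
          QuotientGroup.mk' K g = QuotientGroup.mk' K u := by
        intro g
        have hg : g ∈ K ⊔ (P' : Subgroup G) := by
          rw [hKc.sup_eq_top]; exact Subgroup.mem_top g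
        obtain ⟨k, hk', u, hu, rfl⟩ := Subgroup.mem_sup_of_normal_left.mp hg
        refine ⟨u, hu, ?_⟩
        have hk1 : QuotientGroup.mk' K k = 1 := (QuotientGroup.eq_one_iff k).mpr hk'
        rw [map_mul, hk1, one_mul]
      obtain ⟨u, hu, hau⟩ := hdec a
      obtain ⟨v, hv, hbv⟩ := hdec b
      have huv : u * v = v * u := by
        have := hP'comm.is_comm.comm (⟨u, hu⟩ : ↥(P' : Subgroup G)) ⟨v, hv⟩
        exact congrArg Subtype.val this
      have h1 : QuotientGroup.mk' K (a * b * a⁻¹ * b⁻¹) = 1 := by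
        rw [map_mul, map_mul, map_mul, map_inv, map_inv, hau, hbv, ← map_inv, ← map_inv,
          ← map_mul, ← map_mul, ← map_mul]
        have : u * v * u⁻¹ * v⁻¹ = 1 := by rw [huv]; group
        rw [this, map_one]
      exact (QuotientGroup.eq_one_iff _).mp h1
  choose K hKn hKq hKidx hKcomm using hex
  obtain ⟨N, hNdef⟩ : ∃ N : Subgroup G, N = ⨅ q : {x // x ∈ π}, K q.1 q.2 := ⟨_, rfl⟩
  have hNle : ∀ q (hq : q ∈ π), N ≤ K q hq := fun q hq =>
    hNdef ▸ iInf_le (fun q : {x // x ∈ π} => K q.1 q.2) ⟨q, hq⟩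
  haveI hNn : N.Normal := by
    rw [hNdef]
    exact Subgroup.normal_iInf_normal (fun q => hKn q.1 q.2)
  have hN1 : ∀ r : ℕ, r.Prime → r ∣ Nat.card ↥N → r ∉ π := by
    intro r hr hd hrπ
    exact hKq r hrπ (hd.trans (Subgroup.card_dvd_of_le (hNle r hrπ)))
  have hN2 : ∀ r : ℕ, r.Prime → r ∣ N.index → r ∈ π := by
    intro r hr hd
    by_contra hrπ
    haveI : Fact r.Prime := ⟨hr⟩
    obtain ⟨R⟩ : Nonempty (Sylow r G) := inferInstance
    have hRN : (R : Subgroup G) ≤ N := by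
      rw [hNdef]
      refine le_iInf (fun q => ?_)
      intro x hx
      haveI := hKn q.1 q.2
      obtain ⟨e, he⟩ := hKidx q.1 q.2
      have h1 : orderOf (QuotientGroup.mk' (K q.1 q.2) x) ∣ orderOf x := orderOf_map_dvd _ x
      obtain ⟨j, hj⟩ := (IsPGroup.iff_orderOf.mp R.isPGroup') ⟨x, hx⟩
      have h2' : orderOf x = r ^ j :=
        (Subgroup.orderOf_coe (⟨x, hx⟩ : ↥(R : Subgroup G))).trans hj
      have h3 : orderOf (QuotientGroup.mk' (K q.1 q.2) x) ∣ q.1 ^ e := by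
        rw [← he, Subgroup.index_eq_card]
        exact orderOf_dvd_natCard _
      have hne : r ≠ q.1 := by
        intro h
        exact hrπ (h ▸ q.2)
      have hcop : Nat.Coprime (r ^ j) (q.1 ^ e) :=
        Nat.Coprime.pow j e ((Nat.coprime_primes hr (hπ q.1 q.2)).mpr hne)
      have h4 : orderOf (QuotientGroup.mk' (K q.1 q.2) x) = 1 :=
        Nat.eq_one_of_dvd_coprimes hcop (h2' ▸ h1) h3
      exact (QuotientGroup.eq_one_iff x).mp (orderOf_eq_one_iff.mp h4)
    exact R.not_dvd_index (hd.trans (Subgroup.index_dvd_of_le hRN))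
  have hcop : Nat.Coprime (Nat.card N) N.index :=
    Nat.coprime_of_dvd (fun r hr h1 h2' => hN1 r hr h1 (hN2 r hr h2'))
  obtain ⟨H, hH⟩ := Subgroup.exists_right_complement'_of_coprime hcop
  refine ⟨⟨N, hNn, hN1, hN2⟩, H, ⟨?_, ?_⟩, ?_⟩
  · intro r hr hd
    have h1 : N.index = Nat.card H := hH.symm.index_eq_card
    exact Finset.mem_coe.mpr (hN2 r hr (by rw [h1]; exact hd))
  · intro r hr hrπ hd
    have h1 : H.index = Nat.card N := hH.index_eq_card
    exact hN1 r hr (by rw [← h1]; exact hd) (Finset.mem_coe.mp hrπ)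
  · refine ⟨⟨fun a b => Subtype.ext ?_⟩⟩
    have hN : (a : G) * b * (a : G)⁻¹ * (b : G)⁻¹ ∈ N := by
      rw [hNdef]
      exact Subgroup.mem_iInf.mpr (fun q => hKcomm q.1 q.2 a b)
    have hHm : (a : G) * b * (a : G)⁻¹ * (b : G)⁻¹ ∈ H :=
      H.mul_mem (H.mul_mem (H.mul_mem a.2 b.2) (H.inv_mem a.2)) (H.inv_mem b.2)
    have h1 : (a : G) * b * (a : G)⁻¹ * (b : G)⁻¹ = 1 :=
      Subgroup.disjoint_def.mp hH.disjoint hN hHm
    show (a : G) * (b : G) = (b : G) * (a : G)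
    calc (a : G) * b = ((a : G) * b * (a : G)⁻¹ * (b : G)⁻¹) * b * a := by group
      _ = b * a := by rw [h1, one_mul]

end Cfsg.Agent.S3899
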