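import Mathlib
import Cfsg.Statements.S3908
import Cfsg.Agent.S0016

set_option autoImplicit false
open Cfsg

namespace Cfsg.Agent.S3908

lemma comm4 {Q : Type*} [Group Q] (b c u v : Q) (hbc : b * c = c * b)
    (hu : ∀ g : Q, g * u = u * g) (hv : ∀ g : Q, g * v = v * g) :
    b * u * (c * v) = c * v * (b * u) := by
  calc b * u * (c * v) = b * (u * c) * v := by simp only [mul_assoc]
    _ = b * (c * u) * v := by rw [← hu c]
    _ = (b * c) * (u * v) := by simp only [mul_assoc]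
    _ = (c * b) * (v * u) := by rw [hbc, ← hu v]
    _ = c * (b * v) * u := by simp only [mul_assoc]
    _ = c * (v * b) * u := by rw [hv b]
    _ = c * v * (b * u) := by simp only [mul_assoc]

lemma imc_map {Q G : Type*} [Group Q] [Group G] (f : Q →* G) (A : Subgroup Q)
    (hA : ∀ a ∈ A, ∀ b ∈ A, a * b = b * a) : IsMulCommutative ↥(A.map f) := by
  refine ⟨⟨fun u v => Subtype.ext ?_⟩⟩
  obtain ⟨u, hu⟩ := u
  obtain ⟨v, hv⟩ := v
  obtain ⟨u', hu', rfl⟩ := Subgroup.mem_map.mp hu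
  obtain ⟨v', hv', rfl⟩ := Subgroup.mem_map.mp hv
  show f u' * f v' = f v' * f u'
  rw [← map_mul, ← map_mul, hA u' hu' v' hv']

lemma key {Q : Type*} [Group Q] [Finite Q] {p : ℕ} [Fact p.Prime] (hQ : IsPGroup p Q)
    (x : Q) (hx : x ^ p ≠ 1) (H K : Subgroup Q) (hH : Nat.card H = p) (hK : Nat.card K = p)
    (hne : H ≠ K) :
    ∃ A B : Subgroup Q, (∀ a ∈ A, ∀ b ∈ A, a * b = b * a) ∧ (∀ a ∈ B, ∀ b ∈ B, a * b = b * a) ∧
      Nat.card A = Nat.card B ∧ (∀ a ∈ A, a ^ p = 1) ∧ ∃ b ∈ B, b ^ p ≠ 1 := by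
  have hp : p.Prime := Fact.out
  haveI : Nontrivial Q := ⟨⟨x, 1, fun h => hx (by rw [h, one_pow])⟩⟩
  haveI := hQ.center_nontrivial
  have hdvd : p ∣ Nat.card (Subgroup.center Q) := by
    rcases (hQ.to_subgroup (Subgroup.center Q)).card_eq_or_dvd with h | h
    · exact absurd h (ne_of_gt Finite.one_lt_card)
    · exact h
  obtain ⟨z', hz'⟩ := exists_prime_orderOf_dvd_card' p hdvd
  obtain ⟨z, hzdef⟩ : ∃ z : Q, z = (z' : Q) := ⟨_, rfl⟩
  have hzc : z ∈ Subgroup.center Q := hzdef ▸ z'.2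
  have hzo : orderOf z = p := by rw [hzdef, Subgroup.orderOf_coe]; exact hz'
  obtain ⟨L, hL, hLz⟩ : ∃ L : Subgroup Q, Nat.card L = p ∧ L ≠ Subgroup.zpowers z := by
    by_cases h : H = Subgroup.zpowers z
    · exact ⟨K, hK, fun h' => hne (h.trans h'.symm)⟩
    · exact ⟨H, hH, h⟩
  have hZcard : Nat.card (Subgroup.zpowers z) = p := by rw [Nat.card_zpowers, hzo]
  obtain ⟨a, haL, haz⟩ : ∃ a ∈ L, a ∉ Subgroup.zpowers z := by
    by_contra hcon
    push_neg at hcon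
    exact hLz (Subgroup.eq_of_le_of_card_ge hcon (by rw [hL, hZcard]))
  have hap : a ^ p = 1 := by
    have := Subgroup.orderOf_dvd_natCard L haL
    rw [hL] at this
    exact orderOf_dvd_iff_pow_eq_one.mp this
  have hzp : z ^ p = 1 := by rw [← hzo]; exact pow_orderOf_eq_one z
  have hzpc : ∀ (j : ℤ) (g : Q), g * z ^ j = z ^ j * g := fun j g =>
    Subgroup.mem_center_iff.mp ((Subgroup.center Q).zpow_mem hzc j) g
  haveI hZn : (Subgroup.zpowers z).Normal := by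
    refine ⟨fun n hn g => ?_⟩
    obtain ⟨k, rfl⟩ := Subgroup.mem_zpowers_iff.mp hn
    have : g * z ^ k * g⁻¹ = z ^ k := by
      rw [hzpc k g, mul_inv_cancel_right]
    rw [this]; exact hn
  obtain ⟨E, hEdef⟩ : ∃ E : Subgroup Q, E = Subgroup.zpowers a ⊔ Subgroup.zpowers z := ⟨_, rfl⟩
  have hEmem : ∀ e ∈ E, ∃ i j : ℤ, e = a ^ i * z ^ j := by
    intro e he
    rw [hEdef, Subgroup.mem_sup_of_normal_right] at he
    obtain ⟨h, hh, n, hn, rfl⟩ := he
    obtain ⟨i, rfl⟩ := Subgroup.mem_zpowers_iff.mp hh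
    obtain ⟨j, rfl⟩ := Subgroup.mem_zpowers_iff.mp hn
    exact ⟨i, j, rfl⟩
  have hEcomm : ∀ e ∈ E, ∀ f ∈ E, e * f = f * e := by
    intro e he f hf
    obtain ⟨i, j, rfl⟩ := hEmem e he
    obtain ⟨k, l, rfl⟩ := hEmem f hf
    exact comm4 _ _ _ _ (by rw [← zpow_add, ← zpow_add, add_comm]) (hzpc j) (hzpc l)
  have hEexp : ∀ e ∈ E, e ^ p = 1 := by
    intro e he
    obtain ⟨i, j, rfl⟩ := hEmem e he
    have hc : Commute (a ^ i) (z ^ j) := hzpc j (a ^ i)
    rw [hc.mul_pow]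
    have h1 : (a ^ i) ^ p = 1 := by
      rw [← zpow_natCast, ← zpow_mul, mul_comm, zpow_mul, zpow_natCast, hap, one_zpow]
    have h2 : (z ^ j) ^ p = 1 := by
      rw [← zpow_natCast, ← zpow_mul, mul_comm, zpow_mul, zpow_natCast, hzp, one_zpow]
    rw [h1, h2, one_mul]
  have hZE : Subgroup.zpowers z ≤ E := hEdef ▸ le_sup_right
  have haE : a ∈ E := by
    rw [hEdef]
    exact (le_sup_left : Subgroup.zpowers a ≤ _) (Subgroup.mem_zpowers a)
  obtain ⟨k, hk⟩ := IsPGroup.iff_card.mp (hQ.to_subgroup E)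
  have hk2 : 2 ≤ k := by
    by_contra hlt
    push_neg at hlt
    have hle : Nat.card E ≤ Nat.card (Subgroup.zpowers z) := by
      rw [hk, hZcard]
      calc p ^ k ≤ p ^ 1 := Nat.pow_le_pow_right hp.pos (by omega)
        _ = p := pow_one p
    have := Subgroup.eq_of_le_of_card_ge hZE hle
    exact haz (this ▸ haE)
  obtain ⟨A, hAE, hAcard⟩ := Sylow.exists_subgroup_le_card_pow_prime_of_le_card (n := 2) hp hQ
    (H := E) (by rw [hk]; exact Nat.pow_le_pow_right hp.pos hk2)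
  obtain ⟨y, hy1, hy2⟩ : ∃ y : Q, y ^ p ≠ 1 ∧ y ^ p ^ 2 = 1 := by
    have hex : ∃ n : ℕ, x ^ p ^ n = 1 := hQ x
    classical
    obtain ⟨n, hn, hmin⟩ : ∃ n, x ^ p ^ n = 1 ∧ ∀ m < n, x ^ p ^ m ≠ 1 :=
      ⟨Nat.find hex, Nat.find_spec hex, fun m hm => Nat.find_min hex hm⟩
    have hn2 : 2 ≤ n := by
      by_contra hlt
      push_neg at hlt
      interval_cases n
      · rw [pow_zero, pow_one] at hn; exact hx (by rw [hn, one_pow])
      · rw [pow_one] at hn; exact hx hn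
    refine ⟨x ^ p ^ (n - 2), ?_, ?_⟩
    · rw [← pow_mul, ← pow_succ]
      have : n - 2 + 1 < n := by omega
      exact hmin _ this
    · rw [← pow_mul, ← pow_add]
      have : n - 2 + 2 = n := by omega
      rw [this]; exact hn
  have hyo : orderOf y = p ^ 2 := orderOf_eq_prime_pow (n := 1) (by rwa [pow_one]) hy2
  refine ⟨A, Subgroup.zpowers y, fun a ha b hb => hEcomm a (hAE ha) b (hAE hb), ?_, ?_,
    fun a ha => hEexp a (hAE ha), y, Subgroup.mem_zpowers y, hy1⟩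
  · intro a ha b hb
    obtain ⟨i, rfl⟩ := Subgroup.mem_zpowers_iff.mp ha
    obtain ⟨j, rfl⟩ := Subgroup.mem_zpowers_iff.mp hb
    rw [← zpow_add, ← zpow_add, add_comm]
  · rw [hAcard, Nat.card_zpowers, hyo]

lemma uniq {G : Type*} [Group G] [Finite G]
    (hB : ∀ A B : Subgroup G, IsMulCommutative ↥A → IsMulCommutative ↥B →
      Nat.card ↥A = Nat.card ↥B → ∃ g : G, B = A.map (MulAut.conj g).toMonoidHom)
    (p : ℕ) [Fact p.Prime] (P : Sylow p G) (x : ↥(P : Subgroup G)) (hx : x ^ p ≠ 1) :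
    ∀ H K : Subgroup ↥(P : Subgroup G), Nat.card H = p → Nat.card K = p → H = K := by
  intro H K hH hK
  by_contra hne
  obtain ⟨A, B, hA, hB', hcard, hAexp, b, hbB, hbp⟩ := key P.isPGroup' x hx H K hH hK hne
  have hinj : Function.Injective (P : Subgroup G).subtype := Subgroup.subtype_injective _
  obtain ⟨g, hg⟩ := hB _ _ (imc_map (P : Subgroup G).subtype A hA)
    (imc_map (P : Subgroup G).subtype B hB')
    (by rw [Subgroup.card_map_of_injective hinj, Subgroup.card_map_of_injective hinj, hcard])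
  have hb : (P : Subgroup G).subtype b ∈ (B.map (P : Subgroup G).subtype) :=
    Subgroup.mem_map_of_mem _ hbB
  rw [hg] at hb
  obtain ⟨a', ha', hab⟩ := Subgroup.mem_map.mp hb
  obtain ⟨a, ha, rfl⟩ := Subgroup.mem_map.mp ha'
  apply hbp
  have h1 : (P : Subgroup G).subtype (b ^ p) = 1 := by
    rw [map_pow, ← hab, ← map_pow, ← map_pow, hAexp a ha, map_one, map_one]
  exact hinj (h1.trans (map_one _).symm)

theorem result {G : Type*} [Group G] [Finite G] (hB : ∀ A B : Subgroup G, IsMulCommutative ↥A → IsMulCommutative ↥B → Nat.card ↥A = Nat.card ↥B → ∃ g : G, B = A.map (MulAut.conj g).toMonoidHom) :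
    (∀ P : Sylow 2 G, IsCyclic ↥(P : Subgroup G) ∨ Cfsg.IsElementaryAbelian 2 (P : Subgroup G) ∨ ∃ k : ℕ, Nonempty (↥(P : Subgroup G) ≃* QuaternionGroup (2 ^ k))) ∧
    ∀ (p : ℕ) [Fact p.Prime], p ≠ 2 → ∀ P : Sylow p G, IsCyclic ↥(P : Subgroup G) ∨ ∀ x ∈ (P : Subgroup G), x ^ p = 1 := by
  refine ⟨fun P => ?_, fun p _ hp2 P => ?_⟩
  · by_cases hexp : ∀ x : ↥(P : Subgroup G), x ^ 2 = 1
    · right; left
      refine ⟨⟨⟨fun a b => ?_⟩⟩, fun a ha => ?_⟩
      · have h1 : a⁻¹ = a := inv_eq_of_mul_eq_one_left (by rw [← pow_two]; exact hexp a)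
        have h2 : b⁻¹ = b := inv_eq_of_mul_eq_one_left (by rw [← pow_two]; exact hexp b)
        have h3 : (a * b)⁻¹ = a * b :=
          inv_eq_of_mul_eq_one_left (by rw [← pow_two]; exact hexp (a * b))
        calc a * b = (a * b)⁻¹ := h3.symm
          _ = b⁻¹ * a⁻¹ := mul_inv_rev a b
          _ = b * a := by rw [h1, h2]
      · simpa using congrArg Subtype.val (hexp ⟨a, ha⟩)
    · push_neg at hexp
      obtain ⟨x, hx⟩ := hexp
      rcases Cfsg.Agent.S0016.result 2 P.isPGroup' (uniq hB 2 P x hx) with h | ⟨_, k, hk⟩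
      · left; exact h
      · right; right; exact ⟨k, hk⟩
  · by_cases hexp : ∀ x : ↥(P : Subgroup G), x ^ p = 1
    · right; intro x hx; simpa using congrArg Subtype.val (hexp ⟨x, hx⟩)
    · push_neg at hexp
      obtain ⟨x, hx⟩ := hexp
      rcases Cfsg.Agent.S0016.result p P.isPGroup' (uniq hB p P x hx) with h | ⟨h2, _⟩
      · left; exact h
      · exact absurd h2 hp2

end Cfsg.Agent.S3908
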