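import Cfsg.Statements.S3918
import Mathlib
import Cfsg.Agent.Helper1.RankTwo
import Cfsg.Agent.S0129
import Cfsg.Agent.Helper8.MaxClass

set_option autoImplicit false
open Cfsg

namespace Cfsg.Agent.S3918

theorem forward {G : Type*} [Group G] [Finite G] {p : ℕ} [Fact p.Prime] (hp : p ≠ 2)
    (hG : IsPGroup p G) (hna : ¬ IsMulCommutative G)
    (h : ∀ H : Subgroup G, ¬ IsCyclic ↥H → Subgroup.centralizer (H : Set G) ≤ H) :
    Nat.card G = p ^ 3 := by
  have hpp : p.Prime := Fact.out
  have h4 : p < p ^ 2 := by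
    calc p = p ^ 1 := (pow_one p).symm
      _ < p ^ 2 := Nat.pow_lt_pow_right hpp.one_lt (by norm_num)
  have hnc : ¬ IsCyclic G := by
    intro hc
    exact hna IsCyclic.isMulCommutative
  obtain ⟨z, x, -, -, -, -, hM2, hMp, hMn⟩ := Cfsg.Agent.Helper1.rank_two_data hp hG hnc
  obtain ⟨M, hM⟩ : ∃ M, M = Subgroup.zpowers x ⊔ Subgroup.zpowers z := ⟨_, rfl⟩
  rw [← hM] at hM2 hMp hMn
  have hMnc : ¬ IsCyclic ↥M := by
    intro hc
    obtain ⟨g, hg⟩ := IsCyclic.exists_ofOrder_eq_natCard (α := ↥M)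
    have h1 : g ^ p = 1 := by
      apply Subtype.ext
      rw [Subgroup.coe_pow, Subgroup.coe_one]
      exact hMp g g.2
    have h2 := orderOf_dvd_of_pow_eq_one h1
    rw [hg, hM2] at h2
    have h3 := Nat.le_of_dvd hpp.pos h2
    omega
  have hCM : Subgroup.centralizer (M : Set G) ≤ M := h M hMnc
  have hidx := Cfsg.Agent.S0129.index_centralizer_le hG 2 M hMn hM2
  have hsum : (∑ i ∈ Finset.range 2, i) = 1 := by decide
  rw [hsum, pow_one] at hidx
  have hMi : M.index ≤ p :=
    le_trans (Nat.le_of_dvd (Nat.pos_of_ne_zero Subgroup.index_ne_zero_of_finite)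
      (Subgroup.index_dvd_of_le hCM)) hidx
  have hMcomm : IsMulCommutative ↥M := IsPGroup.isMulCommutative_of_card_eq_prime_sq hM2
  have hMne : M.index ≠ 1 := by
    intro h1
    have htop : M = ⊤ := Subgroup.index_eq_one.mp h1
    apply hna
    refine ⟨⟨fun a b => ?_⟩⟩
    have ha : a ∈ M := by rw [htop]; exact Subgroup.mem_top a
    have hb : b ∈ M := by rw [htop]; exact Subgroup.mem_top b
    exact congrArg Subtype.val (hMcomm.is_comm.comm (⟨a, ha⟩ : ↥M) ⟨b, hb⟩)
  have hdvd : M.index ∣ Nat.card G := Subgroup.index_dvd_card M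
  obtain ⟨n, hn⟩ := IsPGroup.iff_card.mp hG
  rw [hn] at hdvd
  obtain ⟨j, hj, hj2⟩ := (Nat.dvd_prime_pow hpp).mp hdvd
  have hj1 : j = 1 := by
    rcases Nat.lt_or_ge j 2 with hlt | hge
    · have : j ≠ 0 := by
        rintro rfl
        exact hMne (by rw [hj2, pow_zero])
      omega
    · exfalso
      have h1 : p ^ 2 ≤ p ^ j := Nat.pow_le_pow_right hpp.pos hge
      rw [hj2] at hMi
      omega
  rw [← Subgroup.card_mul_index M, hM2, hj2, hj1]
  ring

theorem backward {G : Type*} [Group G] [Finite G] {p : ℕ} [Fact p.Prime]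
    (hna : ¬ IsMulCommutative G) (hc : Nat.card G = p ^ 3) (H : Subgroup G)
    (hH : ¬ IsCyclic ↥H) : Subgroup.centralizer (H : Set G) ≤ H := by
  have hpp : p.Prime := Fact.out
  have hdvd : Nat.card H ∣ p ^ 3 := by
    rw [← hc]; exact Subgroup.card_subgroup_dvd_card H
  obtain ⟨k, hk, hHk⟩ := (Nat.dvd_prime_pow hpp).mp hdvd
  have hk2 : 2 ≤ k := by
    by_contra hcon
    apply hH
    have : k = 0 ∨ k = 1 := by omega
    rcases this with rfl | rfl
    · rw [pow_zero] at hHk
      haveI : Subsingleton ↥H := (Nat.card_eq_one_iff_unique.mp hHk).1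
      infer_instance
    · rw [pow_one] at hHk
      exact isCyclic_of_prime_card hHk
  rcases Nat.lt_or_ge k 3 with hlt | hge
  · have hk2' : k = 2 := by omega
    subst hk2'
    intro g hg
    by_contra hgH
    obtain ⟨C, hC⟩ : ∃ C, C = Subgroup.centralizer (H : Set G) := ⟨_, rfl⟩
    rw [← hC] at hg
    have hHcomm : IsMulCommutative ↥H := IsPGroup.isMulCommutative_of_card_eq_prime_sq hHk
    have hHC : H ≤ C := by
      rw [hC]
      intro a ha
      rw [Subgroup.mem_centralizer_iff]
      intro b hb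
      exact congrArg Subtype.val (hHcomm.is_comm.comm (⟨b, hb⟩ : ↥H) ⟨a, ha⟩)
    have hCdvd : Nat.card C ∣ p ^ 3 := by
      rw [← hc]; exact Subgroup.card_subgroup_dvd_card C
    obtain ⟨j, hj, hCj⟩ := (Nat.dvd_prime_pow hpp).mp hCdvd
    have hHCcard : Nat.card H ≤ Nat.card C := Subgroup.card_le_of_le hHC
    have hj2 : j ≠ 2 := by
      rintro rfl
      have : H = C := Subgroup.eq_of_le_of_card_ge hHC (by rw [hHk, hCj])
      exact hgH (this ▸ hg)
    have hj3 : j = 3 := by
      rw [hHk, hCj] at hHCcard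
      have : 2 ≤ j := (Nat.pow_le_pow_iff_right hpp.one_lt).mp hHCcard
      omega
    have hCtop : C = ⊤ := Subgroup.eq_top_of_card_eq C (by rw [hCj, hj3, hc])
    have hHZ : H ≤ Subgroup.center G := by
      intro a ha
      rw [Subgroup.mem_center_iff]
      intro b
      have hb : b ∈ C := by rw [hCtop]; exact Subgroup.mem_top b
      rw [hC, Subgroup.mem_centralizer_iff] at hb
      exact (hb a ha).symm
    obtain ⟨m, hm1, hm3, hmne, hZ, -⟩ :=
      Cfsg.Agent.Helper8.center_card (p := p) (X := G) 3 (by norm_num) hc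
    have hHZc := Subgroup.card_le_of_le hHZ
    rw [hHk, hZ] at hHZc
    have hm2 : 2 ≤ m := (Nat.pow_le_pow_iff_right hpp.one_lt).mp hHZc
    have hm3' : m = 3 := by omega
    apply hna
    have hZtop : Subgroup.center G = ⊤ :=
      Subgroup.eq_top_of_card_eq _ (by rw [hZ, hm3', hc])
    refine ⟨⟨fun a b => ?_⟩⟩
    have ha : a ∈ Subgroup.center G := by rw [hZtop]; exact Subgroup.mem_top a
    exact (Subgroup.mem_center_iff.mp ha b).symm
  · have hk3 : k = 3 := by omega
    have hHtop : H = ⊤ := Subgroup.eq_top_of_card_eq H (by rw [hHk, hk3, hc])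
    rw [hHtop]
    exact le_top

/-- Say that a group has self-centralizing non-cyclic subgroups when every non-cyclic subgroup H satisfies C_G(H) ≤ H. For an odd prime p, a finite non-abelian p-group has self-centralizing non-cyclic subgroups if and only if it has order p³. -/
theorem result {G : Type*} [Group G] [Finite G] {p : ℕ} [Fact p.Prime] (hp : p ≠ 2) (hG : IsPGroup p G) (hna : ¬ IsMulCommutative G) :
    (∀ H : Subgroup G, ¬ IsCyclic ↥H → Subgroup.centralizer (H : Set G) ≤ H) ↔ Nat.card G = p ^ 3 := by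
  constructor
  · exact forward hp hG hna
  · intro hc H hH
    exact backward hna hc H hH

end Cfsg.Agent.S3918
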