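import Mathlib
import Cfsg.Statements.S3919
import Cfsg.Agent.S0016
import Cfsg.Agent.S0112
import Cfsg.Agent.Helper8.MaxClass

set_option autoImplicit false
open Cfsg

namespace Cfsg.Agent.S3919

lemma comm4 {Q : Type*} [Group Q] (b c u v : Q) (hbc : b * c = c * b)
    (hu : ∀ g : Q, g * u = u * g) (hv : ∀ g : Q, g * v = v * g) :
    b * u * (c * v) = c * v * (b * u) := by
  calc b * u * (c * v) = b * (u * c) * v := by simp only [mul_assoc]
    _ = b * (c * u) * v := by rw [← hu c]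
    _ = (b * c) * (u * v) := by simp only [mul_assoc]
    _ = (c * b) * (v * u) := by rw [hbc, ← hu v]
    _ = c * (b * v) * u := by simp only [mul_assoc]
    _ = c * (v * b) * u := by rw [hv b]
    _ = c * v * (b * u) := by simp only [mul_assoc]

/-- Two distinct subgroups of order 2 in a 2-group give an elementary abelian subgroup of order 4. -/
lemma four_sub {Q : Type*} [Group Q] [Finite Q] (hQ : IsPGroup 2 Q)
    (H K : Subgroup Q) (hH : Nat.card H = 2) (hK : Nat.card K = 2) (hne : H ≠ K) :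
    ∃ A : Subgroup Q, Nat.card A = 2 ^ 2 ∧ (∀ a ∈ A, ∀ b ∈ A, a * b = b * a) ∧
      (∀ a ∈ A, a ^ 2 = 1) := by
  haveI : Fact (Nat.Prime 2) := ⟨Nat.prime_two⟩
  have hp : Nat.Prime 2 := Nat.prime_two
  haveI : Nontrivial Q := Subgroup.nontrivial_iff.mp ⟨⟨H, K, hne⟩⟩
  haveI := hQ.center_nontrivial
  have hdvd : 2 ∣ Nat.card (Subgroup.center Q) := by
    rcases (hQ.to_subgroup (Subgroup.center Q)).card_eq_or_dvd with h | h
    · exact absurd h (ne_of_gt Finite.one_lt_card)
    · exact h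
  obtain ⟨z', hz'⟩ := exists_prime_orderOf_dvd_card' 2 hdvd
  obtain ⟨z, hzdef⟩ : ∃ z : Q, z = (z' : Q) := ⟨_, rfl⟩
  have hzc : z ∈ Subgroup.center Q := hzdef ▸ z'.2
  have hzo : orderOf z = 2 := by rw [hzdef, Subgroup.orderOf_coe]; exact hz'
  obtain ⟨L, hL, hLz⟩ : ∃ L : Subgroup Q, Nat.card L = 2 ∧ L ≠ Subgroup.zpowers z := by
    by_cases h : H = Subgroup.zpowers z
    · exact ⟨K, hK, fun h' => hne (h.trans h'.symm)⟩
    · exact ⟨H, hH, h⟩
  have hZcard : Nat.card (Subgroup.zpowers z) = 2 := by rw [Nat.card_zpowers, hzo]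
  obtain ⟨a, haL, haz⟩ : ∃ a ∈ L, a ∉ Subgroup.zpowers z := by
    by_contra hcon
    push_neg at hcon
    exact hLz (Subgroup.eq_of_le_of_card_ge hcon (by rw [hL, hZcard]))
  have hap : a ^ 2 = 1 := by
    have := Subgroup.orderOf_dvd_natCard L haL
    rw [hL] at this
    exact orderOf_dvd_iff_pow_eq_one.mp this
  have hzp : z ^ 2 = 1 := by rw [← hzo]; exact pow_orderOf_eq_one z
  have hzpc : ∀ (j : ℤ) (g : Q), g * z ^ j = z ^ j * g := fun j g =>
    Subgroup.mem_center_iff.mp ((Subgroup.center Q).zpow_mem hzc j) g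
  haveI hZn : (Subgroup.zpowers z).Normal := by
    refine ⟨fun n hn g => ?_⟩
    obtain ⟨k, rfl⟩ := Subgroup.mem_zpowers_iff.mp hn
    have : g * z ^ k * g⁻¹ = z ^ k := by
      rw [hzpc k g, mul_inv_cancel_right]
    rw [this]; exact hn
  obtain ⟨E, hEdef⟩ : ∃ E : Subgroup Q, E = Subgroup.zpowers a ⊔ Subgroup.zpowers z := ⟨_, rfl⟩
  have hEmem : ∀ e ∈ E, ∃ i j : ℤ, e = a ^ i * z ^ j := by
    intro e he
    rw [hEdef, Subgroup.mem_sup_of_normal_right] at he
    obtain ⟨h, hh, n, hn, rfl⟩ := he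
    obtain ⟨i, rfl⟩ := Subgroup.mem_zpowers_iff.mp hh
    obtain ⟨j, rfl⟩ := Subgroup.mem_zpowers_iff.mp hn
    exact ⟨i, j, rfl⟩
  have hEcomm : ∀ e ∈ E, ∀ f ∈ E, e * f = f * e := by
    intro e he f hf
    obtain ⟨i, j, rfl⟩ := hEmem e he
    obtain ⟨k, l, rfl⟩ := hEmem f hf
    exact comm4 _ _ _ _ (by rw [← zpow_add, ← zpow_add, add_comm]) (hzpc j) (hzpc l)
  have hEexp : ∀ e ∈ E, e ^ 2 = 1 := by
    intro e he
    obtain ⟨i, j, rfl⟩ := hEmem e he
    have hc : Commute (a ^ i) (z ^ j) := hzpc j (a ^ i)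
    rw [hc.mul_pow]
    have h1 : (a ^ i) ^ 2 = 1 := by
      rw [← zpow_natCast, ← zpow_mul, mul_comm, zpow_mul, zpow_natCast, hap, one_zpow]
    have h2 : (z ^ j) ^ 2 = 1 := by
      rw [← zpow_natCast, ← zpow_mul, mul_comm, zpow_mul, zpow_natCast, hzp, one_zpow]
    rw [h1, h2, one_mul]
  have hZE : Subgroup.zpowers z ≤ E := hEdef ▸ le_sup_right
  have haE : a ∈ E := by
    rw [hEdef]
    exact (le_sup_left : Subgroup.zpowers a ≤ _) (Subgroup.mem_zpowers a)
  obtain ⟨k, hk⟩ := IsPGroup.iff_card.mp (hQ.to_subgroup E)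
  have hk2 : 2 ≤ k := by
    by_contra hlt
    push_neg at hlt
    have hle : Nat.card E ≤ Nat.card (Subgroup.zpowers z) := by
      rw [hk, hZcard]
      calc 2 ^ k ≤ 2 ^ 1 := Nat.pow_le_pow_right (by norm_num) (by omega)
        _ = 2 := pow_one 2
    have := Subgroup.eq_of_le_of_card_ge hZE hle
    exact haz (this ▸ haE)
  obtain ⟨A, hAE, hAcard⟩ := Sylow.exists_subgroup_le_card_pow_prime_of_le_card (n := 2) hp hQ
    (H := E) (by rw [hk]; exact Nat.pow_le_pow_right (by norm_num) hk2)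
  exact ⟨A, hAcard, fun a ha b hb => hEcomm a (hAE ha) b (hAE hb), fun a ha => hEexp a (hAE ha)⟩

lemma zmod_double (m : ℕ) [NeZero m] (j : ZMod (2 * m)) (h : j + j = 0) :
    j = 0 ∨ j = (m : ZMod (2 * m)) := by
  haveI : NeZero (2 * m) := ⟨by have := NeZero.ne m; omega⟩
  have hv : ((j.val + j.val : ℕ) : ZMod (2 * m)) = 0 := by
    rw [Nat.cast_add, ZMod.natCast_zmod_val]; exact h
  rw [ZMod.natCast_eq_zero_iff] at hv
  obtain ⟨c, hc⟩ := hv
  have hlt : j.val < 2 * m := ZMod.val_lt j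
  have hc2 : c < 2 := by
    by_contra hcon
    push_neg at hcon
    have : 2 * m * 2 ≤ 2 * m * c := Nat.mul_le_mul_left _ hcon
    omega
  interval_cases c
  · left
    have : j.val = 0 := by omega
    exact (ZMod.val_eq_zero j).mp this
  · right
    have h1 : j.val = m := by omega
    have h2 := ZMod.natCast_zmod_val j
    rw [h1] at h2
    exact h2.symm

lemma quat_cent (m : ℕ) [NeZero m] (w : QuaternionGroup m)
    (h : w * QuaternionGroup.xa 0 = QuaternionGroup.xa 0 * w) :
    w ∈ Subgroup.zpowers (QuaternionGroup.xa (0 : ZMod (2 * m))) := by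
  have hx : QuaternionGroup.xa (0 : ZMod (2 * m)) ∈
      Subgroup.zpowers (QuaternionGroup.xa (0 : ZMod (2 * m))) := Subgroup.mem_zpowers _
  have hsq : QuaternionGroup.a (m : ZMod (2 * m)) ∈
      Subgroup.zpowers (QuaternionGroup.xa (0 : ZMod (2 * m))) := by
    rw [← QuaternionGroup.xa_sq 0]; exact Subgroup.pow_mem _ hx 2
  cases w with
  | a j =>
    rw [QuaternionGroup.a_mul_xa, QuaternionGroup.xa_mul_a] at h
    have h1 : (0 : ZMod (2 * m)) - j = 0 + j := QuaternionGroup.xa.inj h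
    have h2 : j + j = 0 := by linear_combination -h1
    rcases zmod_double m j h2 with rfl | rfl
    · rw [← QuaternionGroup.one_def]; exact Subgroup.one_mem _
    · exact hsq
  | xa j =>
    rw [QuaternionGroup.xa_mul_xa, QuaternionGroup.xa_mul_xa] at h
    have h1 : (m : ZMod (2 * m)) + 0 - j = (m : ZMod (2 * m)) + j - 0 := QuaternionGroup.a.inj h
    have h2 : j + j = 0 := by linear_combination -h1
    rcases zmod_double m j h2 with rfl | rfl
    · exact hx
    · have : QuaternionGroup.xa (m : ZMod (2 * m)) =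
          QuaternionGroup.xa 0 * QuaternionGroup.a (m : ZMod (2 * m)) := by
        rw [QuaternionGroup.xa_mul_a, zero_add]
      rw [this]; exact Subgroup.mul_mem _ hx hsq

lemma invol_unique {G : Type*} [Group G] [Finite G] (c u v : G) (hu : u ∈ Subgroup.zpowers c)
    (hv : v ∈ Subgroup.zpowers c) (hu1 : u ≠ 1) (hv1 : v ≠ 1) (hu2 : u ^ 2 = 1) (hv2 : v ^ 2 = 1) :
    u = v := by
  by_contra hne
  haveI : DecidableEq ↥(Subgroup.zpowers c) := Classical.decEq _
  haveI : Fintype ↥(Subgroup.zpowers c) := Fintype.ofFinite _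
  have h := IsCyclic.card_pow_eq_one_le (α := ↥(Subgroup.zpowers c)) (n := 2) (by norm_num)
  have hcard : ({1, ⟨u, hu⟩, ⟨v, hv⟩} : Finset ↥(Subgroup.zpowers c)).card = 3 := by
    rw [Finset.card_eq_three]
    refine ⟨1, ⟨u, hu⟩, ⟨v, hv⟩, ?_, ?_, ?_, rfl⟩
    · intro h'; exact hu1 (congrArg Subtype.val h').symm
    · intro h'; exact hv1 (congrArg Subtype.val h').symm
    · intro h'; exact hne (congrArg Subtype.val h')
  have h3 := le_trans (Finset.card_le_card
    (s := ({1, ⟨u, hu⟩, ⟨v, hv⟩} : Finset ↥(Subgroup.zpowers c))) (fun a ha => by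
      simp only [Finset.mem_insert, Finset.mem_singleton] at ha
      rw [Finset.mem_filter]
      refine ⟨Finset.mem_univ _, ?_⟩
      rcases ha with rfl | rfl | rfl
      · exact one_pow 2
      · exact Subtype.ext hu2
      · exact Subtype.ext hv2)) h
  rw [hcard] at h3
  omega

lemma exists_self_centralizing {G : Type*} [Group G] [Finite G] (hna : ¬ IsMulCommutative G)
    (hG2 : IsPGroup 2 G)
    (hself : ∀ H : Subgroup G, ¬ IsCyclic ↥H → Subgroup.centralizer (H : Set G) ≤ H) :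
    ∃ A : Subgroup G, Nat.card A = 2 ^ 2 ∧ Subgroup.centralizer (A : Set G) = A := by
  haveI : Fact (Nat.Prime 2) := ⟨Nat.prime_two⟩
  by_cases huniq : ∀ H K : Subgroup G, Nat.card H = 2 → Nat.card K = 2 → H = K
  · rcases Cfsg.Agent.S0016.result 2 hG2 huniq with hcyc | ⟨_, k, ⟨e⟩⟩
    · exfalso
      obtain ⟨g, hg⟩ := IsCyclic.exists_generator (α := G)
      apply hna
      refine ⟨⟨fun a b => ?_⟩⟩
      obtain ⟨i, rfl⟩ := Subgroup.mem_zpowers_iff.mp (hg a)
      obtain ⟨j, rfl⟩ := Subgroup.mem_zpowers_iff.mp (hg b)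
      rw [← zpow_add, ← zpow_add, add_comm]
    · haveI : NeZero (2 ^ k) := ⟨by positivity⟩
      obtain ⟨t, ht⟩ : ∃ t : G, t = e.symm (QuaternionGroup.xa 0) := ⟨_, rfl⟩
      have het : e t = QuaternionGroup.xa 0 := by rw [ht, MulEquiv.apply_symm_apply]
      have hto : orderOf t = 4 := by
        rw [← MulEquiv.orderOf_eq e t, het]; exact QuaternionGroup.orderOf_xa 0
      refine ⟨Subgroup.zpowers t, by rw [Nat.card_zpowers, hto]; norm_num, ?_⟩
      apply le_antisymm
      · intro y hy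
        have hyt : t * y = y * t := Subgroup.mem_centralizer_iff.mp hy t (Subgroup.mem_zpowers t)
        have h1 : e y * QuaternionGroup.xa 0 = QuaternionGroup.xa 0 * e y := by
          rw [← het, ← map_mul, ← map_mul, hyt]
        have h3 := quat_cent (2 ^ k) (e y) h1
        obtain ⟨i, hi⟩ := Subgroup.mem_zpowers_iff.mp h3
        refine Subgroup.mem_zpowers_iff.mpr ⟨i, ?_⟩
        apply e.injective
        rw [map_zpow, het, hi]
      · intro y hy
        obtain ⟨i, rfl⟩ := Subgroup.mem_zpowers_iff.mp hy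
        apply Subgroup.mem_centralizer_iff.mpr
        intro h hh
        obtain ⟨j, rfl⟩ := Subgroup.mem_zpowers_iff.mp hh
        rw [← zpow_add, ← zpow_add, add_comm]
  · push_neg at huniq
    obtain ⟨H, K, hH, hK, hne⟩ := huniq
    obtain ⟨A, hA, hAc, hAe⟩ := four_sub hG2 H K hH hK hne
    refine ⟨A, hA, le_antisymm (hself A ?_) ?_⟩
    · intro hcyc
      obtain ⟨g, hg⟩ := IsCyclic.exists_ofOrder_eq_natCard (α := ↥A)
      have h2 : g ^ 2 = 1 := Subtype.ext (by simpa using hAe g g.2)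
      have := orderOf_dvd_of_pow_eq_one h2
      rw [hg, hA] at this
      norm_num at this
    · intro a ha
      exact Subgroup.mem_centralizer_iff.mpr (fun h hh => hAc h hh a ha)

lemma self_centralizing_of_maxclass {G : Type*} [Group G] [Finite G] (hna : ¬ IsMulCommutative G)
    (n : ℕ) (hn3 : 3 ≤ n) (hG : Nat.card G = 2 ^ n) (hclass : Group.nilpotencyClass G = n - 1)
    (H : Subgroup G) (hH : ¬ IsCyclic ↥H) : Subgroup.centralizer (H : Set G) ≤ H := by
  haveI : Fact (Nat.Prime 2) := ⟨Nat.prime_two⟩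
  have hG2 : IsPGroup 2 G := IsPGroup.of_card hG
  obtain ⟨c, hidx⟩ := Cfsg.Agent.Helper8.exists_cyclic_index_two n hn3 G hG hclass
  obtain ⟨hZ2, -, -⟩ := Cfsg.Agent.Helper8.maxclass_center (p := 2) n hn3 hG hclass
  obtain ⟨⟨z, hzZ⟩, hz1, hzuniq⟩ := (Nat.card_eq_two_iff' (1 : Subgroup.center G)).1 hZ2
  have hz1' : z ≠ 1 := fun h => hz1 (Subtype.ext h)
  have hZ : ∀ w ∈ Subgroup.center G, w = 1 ∨ w = z := by
    intro w hw
    by_cases h : w = 1
    · exact Or.inl h
    · right
      exact congrArg Subtype.val (hzuniq ⟨w, hw⟩ (fun h' => h (congrArg Subtype.val h')))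
  have hzc : ∀ g : G, g * z = z * g := fun g => Subgroup.mem_center_iff.mp hzZ g
  have hz2 : z ^ 2 = 1 := by
    have := Subgroup.orderOf_dvd_natCard (Subgroup.center G) hzZ
    rw [hZ2] at this
    exact orderOf_dvd_iff_pow_eq_one.mp this
  obtain ⟨C, hCdef⟩ : ∃ C : Subgroup G, C = Subgroup.zpowers c := ⟨_, rfl⟩
  rw [← hCdef] at hidx
  have hCmem : ∀ x ∈ C, ∃ i : ℤ, x = c ^ i := by
    intro x hx
    rw [hCdef] at hx
    obtain ⟨i, hi⟩ := Subgroup.mem_zpowers_iff.mp hx
    exact ⟨i, hi.symm⟩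
  have hCcomm : ∀ x ∈ C, ∀ y ∈ C, x * y = y * x := by
    intro x hx y hy
    obtain ⟨i, rfl⟩ := hCmem x hx
    obtain ⟨j, rfl⟩ := hCmem y hy
    rw [← zpow_add, ← zpow_add, add_comm]
  have hout : ∀ x : G, x ∉ C → ∀ g : G, g ∉ C → x * g⁻¹ ∈ C := by
    intro x hx g hg
    exact (Subgroup.mul_mem_iff_of_index_two hidx).mpr
      ⟨fun h => absurd h hx, fun h => absurd (C.inv_mem_iff.mp h) hg⟩
  have hzC : z ∈ C := by
    by_contra hzC
    apply hna
    have hdec : ∀ x : G, ∃ u ∈ C, ∃ w : G, (∀ g : G, g * w = w * g) ∧ x = u * w := by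
      intro x
      by_cases hx : x ∈ C
      · exact ⟨x, hx, 1, fun g => by rw [mul_one, one_mul], (mul_one x).symm⟩
      · refine ⟨x * z⁻¹, hout x hx z hzC, z, hzc, ?_⟩
        rw [inv_mul_cancel_right]
    refine ⟨⟨fun a b => ?_⟩⟩
    obtain ⟨u, hu, w, hw, rfl⟩ := hdec a
    obtain ⟨u', hu', w', hw', rfl⟩ := hdec b
    exact comm4 u u' w w' (hCcomm u hu u' hu') hw hw'
  have hcent : ∀ g : G, g ∉ C → ∀ x ∈ C, x * g = g * x → x ∈ Subgroup.center G := by
    intro g hg x hx hxg
    rw [Subgroup.mem_center_iff]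
    intro y
    by_cases hy : y ∈ C
    · exact hCcomm y hy x hx
    · have h1 := hout y hy g hg
      have h2 : (y * g⁻¹) * x = x * (y * g⁻¹) := hCcomm _ h1 x hx
      calc y * x = (y * g⁻¹) * g * x := by rw [inv_mul_cancel_right]
        _ = (y * g⁻¹) * (x * g) := by rw [mul_assoc (y * g⁻¹) g x, ← hxg]
        _ = ((y * g⁻¹) * x) * g := by rw [← mul_assoc]
        _ = x * (y * g⁻¹) * g := by rw [h2]
        _ = x * y := by rw [mul_assoc, inv_mul_cancel_right]
  obtain ⟨g, hgH, hgC⟩ : ∃ g ∈ H, g ∉ C := by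
    by_contra hcon
    push_neg at hcon
    have hle : H ≤ Subgroup.zpowers c := fun y hy => hCdef ▸ hcon y hy
    haveI := Subgroup.isCyclic_zpowers c
    exact hH (Subgroup.isCyclic_of_le hle)
  have hzH : z ∈ H := by
    by_contra hzH
    have hHC : ∀ h ∈ H, h ∈ C → h = 1 := by
      intro h hh hhC
      by_contra h1
      have hdvd : 2 ∣ Nat.card (Subgroup.zpowers h) := by
        rcases (hG2.to_subgroup (Subgroup.zpowers h)).card_eq_or_dvd with h' | h'
        · exfalso
          rw [Nat.card_zpowers, orderOf_eq_one_iff] at h'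
          exact h1 h'
        · exact h'
      obtain ⟨u', hu'⟩ := exists_prime_orderOf_dvd_card' 2 hdvd
      have huo : orderOf (u' : G) = 2 := by rw [Subgroup.orderOf_coe]; exact hu'
      have hu2 : (u' : G) ^ 2 = 1 := by rw [← huo]; exact pow_orderOf_eq_one _
      have hu1 : (u' : G) ≠ 1 := by
        intro h'
        rw [h', orderOf_one] at huo
        omega
      have huH : (u' : G) ∈ H := (Subgroup.zpowers_le.mpr hh) u'.2
      have huC : (u' : G) ∈ Subgroup.zpowers c := by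
        rw [← hCdef]; exact (Subgroup.zpowers_le.mpr hhC) u'.2
      have := invol_unique c (u' : G) z huC (hCdef ▸ hzC) hu1 hz1' hu2 hz2
      exact hzH (this ▸ huH)
    apply hH
    have hle : H ≤ Subgroup.zpowers g := by
      intro y hy
      by_cases hyC : y ∈ C
      · rw [hHC y hy hyC]; exact Subgroup.one_mem _
      · have h1 := hout y hyC g hgC
        have h2 := hHC _ (H.mul_mem hy (H.inv_mem hgH)) h1
        have : y = g := by rw [mul_inv_eq_one] at h2; exact h2
        rw [this]; exact Subgroup.mem_zpowers g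
    haveI := Subgroup.isCyclic_zpowers g
    exact Subgroup.isCyclic_of_le hle
  intro x hx
  have hxg : g * x = x * g := Subgroup.mem_centralizer_iff.mp hx g hgH
  by_cases hxC : x ∈ C
  · rcases hZ x (hcent g hgC x hxC hxg.symm) with h | h
    · rw [h]; exact H.one_mem
    · rw [h]; exact hzH
  · have h1 := hout x hxC g hgC
    have h2 : (x * g⁻¹) * g = g * (x * g⁻¹) := by
      rw [inv_mul_cancel_right, ← mul_assoc, hxg, mul_inv_cancel_right]
    rcases hZ _ (hcent g hgC _ h1 h2) with h | h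
    · have : x = g := by rw [mul_inv_eq_one] at h; exact h
      rw [this]; exact hgH
    · have : x = z * g := by rw [← h, inv_mul_cancel_right]
      rw [this]; exact H.mul_mem hzH hgH

theorem result {G : Type*} [Group G] [Finite G] (hna : ¬ IsMulCommutative G) (n : ℕ) (hG : Nat.card G = 2 ^ n) :
    (∀ H : Subgroup G, ¬ IsCyclic ↥H → Subgroup.centralizer (H : Set G) ≤ H) ↔ (⊤ : Subgroup G).lowerCentralSeries (n - 2) ≠ ⊥ := by
  haveI : Fact (Nat.Prime 2) := ⟨Nat.prime_two⟩
  have hG2 : IsPGroup 2 G := IsPGroup.of_card hG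
  haveI : Group.IsNilpotent G := hG2.isNilpotent
  have hcl := Cfsg.Agent.Helper8.class_le (p := 2) n G hG
  have hn3 : 3 ≤ n := by
    by_contra hlt
    push_neg at hlt
    have h1 : Group.nilpotencyClass G ≤ 1 := by
      rcases Nat.lt_or_ge n 2 with h | h
      · exact le_trans hcl.1 (by omega)
      · exact le_trans (hcl.2 h) (by omega)
    exact hna (Group.IsNilpotent.nilpotencyClass_le_one_iff.mp h1)
  have hiff : (⊤ : Subgroup G).lowerCentralSeries (n - 2) ≠ ⊥ ↔
      Group.nilpotencyClass G = n - 1 := by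
    rw [Ne, Subgroup.lowerCentralSeries_eq_bot_iff_nilpotencyClass_le]
    have := hcl.2 (by omega)
    constructor <;> intro h <;> omega
  rw [hiff]
  constructor
  · intro hself
    obtain ⟨A, hA, hC⟩ := exists_self_centralizing hna hG2 hself
    exact Cfsg.Agent.S0112.result (p := 2) n hG A hA hC
  · intro hclass H hH
    exact self_centralizing_of_maxclass hna n hn3 hG hclass H hH

end Cfsg.Agent.S3919
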