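import Cfsg.Statements.S3939
import Cfsg.Agent.S0199
import Cfsg.Agent.Helper14.Basic
import Cfsg.Agent.Helper14.Conj
import Cfsg.Agent.Helper14.PElem
import Cfsg.Agent.Helper14.CoprimeAut2

set_option autoImplicit false
open Cfsg

namespace Cfsg.Agent.S3939

open Cfsg.Agent.Helper14

theorem nilpotent_of_le {G : Type*} [Group G] {H K : Subgroup G} (h : H ≤ K)
    (hK : Group.IsNilpotent ↥K) : Group.IsNilpotent ↥H := by
  have := hK
  exact Group.nilpotent_of_mulEquiv (Subgroup.subgroupOfEquivOfLe h)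

theorem ucs_restrict {G : Type*} [Group G] (H : Subgroup G) :
    ∀ (n : ℕ) (h : ↥H), (h : G) ∈ Subgroup.upperCentralSeries G n →
      h ∈ Subgroup.upperCentralSeries ↥H n := by
  intro n
  induction n with
  | zero =>
    intro h hh
    rw [Subgroup.upperCentralSeries_zero, Subgroup.mem_bot] at hh ⊢
    exact Subtype.ext hh
  | succ n ih =>
    intro h hh
    rw [Subgroup.mem_upperCentralSeries_succ_iff] at hh ⊢
    intro y
    apply ih
    have := hh (y : G)
    rw [commutatorElement_def] at this ⊢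
    exact this

theorem nilpotent_of_mem_ucs {G : Type*} [Group G] (x g : G) (n : ℕ)
    (hg : g ∈ Subgroup.upperCentralSeries G n) :
    Group.IsNilpotent ↥(Subgroup.closure ({x, g} : Set G)) := by
  obtain ⟨H, hH⟩ : ∃ H : Subgroup G, H = Subgroup.closure ({x, g} : Set G) := ⟨_, rfl⟩
  have h1 : Subgroup.closure ((Subtype.val : ↥H → G) ⁻¹' ({x, g} : Set G)) = ⊤ := by
    subst hH
    exact Subgroup.closure_closure_coe_preimage
  rw [← hH]
  have hxH : x ∈ H := by rw [hH]; exact Subgroup.subset_closure (Set.mem_insert x _)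
  have hgH : g ∈ H := by rw [hH]; exact Subgroup.subset_closure (Set.mem_insert_of_mem x rfl)
  have hgZ : (⟨g, hgH⟩ : ↥H) ∈ Subgroup.upperCentralSeries ↥H n :=
    ucs_restrict H n ⟨g, hgH⟩ hg
  obtain ⟨Z, hZ⟩ : ∃ Z : Subgroup ↥H, Z = Subgroup.upperCentralSeries ↥H n := ⟨_, rfl⟩
  have hZn : Z.Normal := by rw [hZ]; infer_instance
  have hgen : ∀ a : ↥H, ∃ i : ℤ, (QuotientGroup.mk a : ↥H ⧸ Z) =
      (QuotientGroup.mk (⟨x, hxH⟩ : ↥H) : ↥H ⧸ Z) ^ i := by
    have hle : (⊤ : Subgroup ↥H) ≤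
        (Subgroup.zpowers (QuotientGroup.mk (⟨x, hxH⟩ : ↥H) : ↥H ⧸ Z)).comap
          (QuotientGroup.mk' Z) := by
      rw [← h1, Subgroup.closure_le]
      intro a ha
      rw [Set.mem_preimage] at ha
      rw [SetLike.mem_coe, Subgroup.mem_comap]
      rcases ha with ha | ha
      · have e : a = ⟨x, hxH⟩ := Subtype.ext ha
        rw [e]
        exact Subgroup.mem_zpowers _
      · have e : a = ⟨g, hgH⟩ := Subtype.ext ha
        rw [e]
        have h2 : (QuotientGroup.mk' Z) ⟨g, hgH⟩ = 1 := by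
          show ((⟨g, hgH⟩ : ↥H) : ↥H ⧸ Z) = 1
          rw [QuotientGroup.eq_one_iff, hZ]; exact hgZ
        rw [h2]; exact Subgroup.one_mem _
    intro a
    have h3 := hle (Subgroup.mem_top a)
    rw [Subgroup.mem_comap] at h3
    obtain ⟨i, hi⟩ := Subgroup.mem_zpowers_iff.mp h3
    exact ⟨i, hi.symm⟩
  refine ⟨⟨n + 1, ?_⟩⟩
  rw [eq_top_iff]
  intro a _
  rw [Subgroup.mem_upperCentralSeries_succ_iff]
  intro b
  rw [commutatorElement_def, ← hZ]
  apply (QuotientGroup.eq_one_iff (N := Z) _).mp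
  obtain ⟨i, hi⟩ := hgen a
  obtain ⟨j, hj⟩ := hgen b
  rw [QuotientGroup.mk_mul, QuotientGroup.mk_mul, QuotientGroup.mk_mul, QuotientGroup.mk_inv,
    QuotientGroup.mk_inv, hi, hj, ← zpow_neg, ← zpow_neg, ← zpow_add, ← zpow_add, ← zpow_add]
  have e : i + j + -i + -j = 0 := by ring
  rw [e, zpow_zero]

theorem sylow_sup_closure {G : Type*} [Group G] [Finite G] {p : ℕ} [Fact p.Prime]
    (P : Sylow p G) :
    (P : Subgroup G) ⊔ Subgroup.closure {w : G | ∃ m : ℕ, m.Coprime p ∧ w ^ m = 1} = ⊤ := by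
  rw [← Subgroup.index_eq_one, Nat.eq_one_iff_not_exists_prime_dvd]
  intro q hq hdvd
  have hqf : Fact q.Prime := ⟨hq⟩
  by_cases hqp : q = p
  · rw [hqp] at hdvd
    exact P.not_dvd_index (dvd_trans hdvd (Subgroup.index_dvd_of_le le_sup_left))
  · obtain ⟨Q⟩ : Nonempty (Sylow q G) := inferInstance
    have hQle : (Q : Subgroup G) ≤ (P : Subgroup G) ⊔
        Subgroup.closure {w : G | ∃ m : ℕ, m.Coprime p ∧ w ^ m = 1} := by
      intro w hw
      apply Subgroup.mem_sup_right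
      apply Subgroup.subset_closure
      obtain ⟨k, hk⟩ := Q.isPGroup' ⟨w, hw⟩
      refine ⟨q ^ k, ?_, ?_⟩
      · exact Nat.Coprime.pow_left k ((Nat.coprime_primes hq (Fact.out : p.Prime)).mpr hqp)
      · exact congrArg Subtype.val hk
    exact Q.not_dvd_index (dvd_trans hdvd (Subgroup.index_dvd_of_le hQle))

theorem pelem_mem {G : Type*} [Group G] [Finite G] (p : ℕ) [Fact p.Prime] (u : G) (a : ℕ)
    (hu : u ^ p ^ a = 1)
    (hnil : ∀ x : G, Group.IsNilpotent ↥(Subgroup.closure ({x, u} : Set G))) :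
    u ∈ ⨆ n : ℕ, Subgroup.upperCentralSeries G n := by
  classical
  obtain ⟨T, hT⟩ : ∃ T : Set G, T = {w : G | ∃ m : ℕ, m.Coprime p ∧ w ^ m = 1} := ⟨_, rfl⟩
  have hB1 : ∀ w ∈ T, w * u = u * w := by
    intro w hw
    rw [hT] at hw
    obtain ⟨m, hm, hwm⟩ := hw
    obtain ⟨H, hH⟩ : ∃ H : Subgroup G, H = Subgroup.closure ({w, u} : Set G) := ⟨_, rfl⟩
    have hHnil : Group.IsNilpotent ↥H := by rw [hH]; exact hnil w
    have hwH : w ∈ H := by rw [hH]; exact Subgroup.subset_closure (Set.mem_insert w _)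
    have huH : u ∈ H := by
      rw [hH]; exact Subgroup.subset_closure (Set.mem_insert_of_mem w rfl)
    obtain ⟨c, hc⟩ := hHnil.nilpotent'
    have h1 := commute_of_mem_ucs c (⟨u, huH⟩ : ↥H) ⟨w, hwH⟩ (p ^ a) m
      (Nat.Coprime.pow_left a (Nat.Coprime.symm hm)) (Subtype.ext hu) (Subtype.ext hwm)
      (by rw [hc]; exact Subgroup.mem_top _)
    exact congrArg Subtype.val h1
  have hX : IsPGroup p ↥(Subgroup.zpowers u) := isPGroup_zpowers_of_pow u a hu
  have hBS : ∀ y : G, IsPGroup p ↥(Subgroup.zpowers u ⊔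
      (Subgroup.zpowers u).map (MulAut.conj y).toMonoidHom) := by
    intro y
    obtain ⟨H, hH⟩ : ∃ H : Subgroup G, H = Subgroup.closure ({y, u} : Set G) := ⟨_, rfl⟩
    have hHnil : Group.IsNilpotent ↥H := by rw [hH]; exact hnil y
    have hyH : y ∈ H := by rw [hH]; exact Subgroup.subset_closure (Set.mem_insert y _)
    have huH : u ∈ H := by
      rw [hH]; exact Subgroup.subset_closure (Set.mem_insert_of_mem y rfl)
    obtain ⟨Q⟩ : Nonempty (Sylow p ↥H) := inferInstance
    have hQn : (Q : Subgroup ↥H).Normal := inferInstance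
    have huQ : (⟨u, huH⟩ : ↥H) ∈ (Q : Subgroup ↥H) := by
      have hpg : IsPGroup p ↥(Subgroup.zpowers (⟨u, huH⟩ : ↥H)) :=
        isPGroup_zpowers_of_pow _ a (Subtype.ext hu)
      obtain ⟨Q', hQ'⟩ := hpg.exists_le_sylow
      obtain ⟨h, hh⟩ := MulAction.exists_smul_eq ↥H Q Q'
      rw [Sylow.smul_eq_of_normal] at hh
      rw [hh]
      exact hQ' (Subgroup.mem_zpowers _)
    have hle : Subgroup.zpowers u ⊔ (Subgroup.zpowers u).map (MulAut.conj y).toMonoidHom ≤
        (Q : Subgroup ↥H).map H.subtype := by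
      have h1 : Subgroup.zpowers u ≤ (Q : Subgroup ↥H).map H.subtype := by
        rw [Subgroup.zpowers_le]
        exact Subgroup.mem_map.mpr ⟨⟨u, huH⟩, huQ, rfl⟩
      refine sup_le h1 ?_
      intro z hz
      rw [mem_map_conj] at hz
      obtain ⟨q, hq, hqz⟩ := Subgroup.mem_map.mp (h1 hz)
      refine Subgroup.mem_map.mpr
        ⟨(⟨y, hyH⟩ : ↥H) * q * (⟨y, hyH⟩ : ↥H)⁻¹, hQn.conj_mem q hq ⟨y, hyH⟩, ?_⟩
      show y * (q : G) * y⁻¹ = z
      have hqz' : (q : G) = y⁻¹ * z * y := hqz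
      rw [hqz']; group
    exact (Q.isPGroup'.map H.subtype).to_le hle
  obtain ⟨N, hNn, hNp, hXN⟩ := Cfsg.Agent.S0199.result (Subgroup.zpowers u) hX hBS
  have huN : u ∈ N := hXN (Subgroup.mem_zpowers u)
  obtain ⟨P⟩ : Nonempty (Sylow p G) := inferInstance
  have hNP : N ≤ (P : Subgroup G) := (le_pCore hNn hNp).trans (pCore_le_sylow P)
  have hPnil : Group.IsNilpotent ↥(P : Subgroup G) := P.isPGroup'.isNilpotent
  obtain ⟨c, hc⟩ := hPnil.nilpotent'
  have hTconj : ∀ w ∈ T, ∀ y : G, y * w * y⁻¹ ∈ T := by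
    intro w hw y
    rw [hT] at hw ⊢
    obtain ⟨m, hm, hwm⟩ := hw
    exact ⟨m, hm, by rw [conj_pow, hwm]; group⟩
  have hKconj : ∀ z : G, z ∈ N → (∀ w ∈ T, w * z = z * w) → ∀ y : G,
      (y * z * y⁻¹ ∈ N ∧ ∀ w ∈ T, w * (y * z * y⁻¹) = (y * z * y⁻¹) * w) := by
    intro z hzN hzT y
    refine ⟨hNn.conj_mem z hzN y, ?_⟩
    intro w hw
    have h1 := hzT (y⁻¹ * w * y⁻¹⁻¹) (hTconj w hw y⁻¹)
    rw [inv_inv] at h1
    calc w * (y * z * y⁻¹) = y * ((y⁻¹ * w * y) * z) * y⁻¹ := by group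
      _ = y * (z * (y⁻¹ * w * y)) * y⁻¹ := by rw [h1]
      _ = (y * z * y⁻¹) * w := by group
  have hKinv : ∀ z : G, (∀ w ∈ T, w * z = z * w) → ∀ w ∈ T, w * z⁻¹ = z⁻¹ * w := by
    intro z hz w hw
    have h1 := hz w hw
    calc w * z⁻¹ = z⁻¹ * (z * w) * z⁻¹ := by group
      _ = z⁻¹ * (w * z) * z⁻¹ := by rw [h1]
      _ = z⁻¹ * w := by group
  have hPR := sylow_sup_closure P
  rw [← hT] at hPR
  have claim : ∀ (i : ℕ) (z : G), z ∈ N → (∀ w ∈ T, w * z = z * w) →
      ∀ hz : z ∈ (P : Subgroup G),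
      (⟨z, hz⟩ : ↥(P : Subgroup G)) ∈ Subgroup.upperCentralSeries ↥(P : Subgroup G) i →
      z ∈ Subgroup.upperCentralSeries G i := by
    intro i
    induction i with
    | zero =>
      intro z _ _ hz h0
      rw [Subgroup.upperCentralSeries_zero, Subgroup.mem_bot] at h0 ⊢
      exact congrArg Subtype.val h0
    | succ i ih =>
      intro z hzN hzT hz hsucc
      rw [Subgroup.mem_upperCentralSeries_succ_iff]
      obtain ⟨Z, hZ⟩ : ∃ Z : Subgroup G, Z = Subgroup.upperCentralSeries G i := ⟨_, rfl⟩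
      have hZn : Z.Normal := by rw [hZ]; infer_instance
      obtain ⟨D, hD⟩ : ∃ D : Subgroup G, ∀ y : G, y ∈ D ↔ z * y * z⁻¹ * y⁻¹ ∈ Z := by
        refine ⟨{ carrier := {y | z * y * z⁻¹ * y⁻¹ ∈ Z}, mul_mem' := ?_, one_mem' := ?_,
                  inv_mem' := ?_ }, fun y => Iff.rfl⟩
        · intro y₁ y₂ h₁ h₂
          have e : z * (y₁ * y₂) * z⁻¹ * (y₁ * y₂)⁻¹ =
              (z * y₁ * z⁻¹ * y₁⁻¹) * (y₁ * (z * y₂ * z⁻¹ * y₂⁻¹) * y₁⁻¹) := by group
          show z * (y₁ * y₂) * z⁻¹ * (y₁ * y₂)⁻¹ ∈ Z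
          rw [e]
          exact Z.mul_mem h₁ (hZn.conj_mem _ h₂ y₁)
        · show z * 1 * z⁻¹ * 1⁻¹ ∈ Z
          have e : z * 1 * z⁻¹ * (1 : G)⁻¹ = 1 := by group
          rw [e]; exact Z.one_mem
        · intro y h
          have e : z * y⁻¹ * z⁻¹ * y⁻¹⁻¹ = y⁻¹ * (z * y * z⁻¹ * y⁻¹)⁻¹ * y⁻¹⁻¹ := by group
          show z * y⁻¹ * z⁻¹ * y⁻¹⁻¹ ∈ Z
          rw [e]
          exact hZn.conj_mem _ (Z.inv_mem h) y⁻¹
      have hPD : (P : Subgroup G) ≤ D := by
        intro y hy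
        rw [hD]
        have hyz := hKconj z⁻¹ (N.inv_mem hzN) (hKinv z hzT) y
        have hcN : z * y * z⁻¹ * y⁻¹ ∈ N := by
          have e : z * y * z⁻¹ * y⁻¹ = z * (y * z⁻¹ * y⁻¹) := by group
          rw [e]; exact N.mul_mem hzN hyz.1
        have hcT : ∀ w ∈ T, w * (z * y * z⁻¹ * y⁻¹) = (z * y * z⁻¹ * y⁻¹) * w := by
          intro w hw
          have h1 := hzT w hw
          have h2 := hyz.2 w hw
          calc w * (z * y * z⁻¹ * y⁻¹) = (w * z) * (y * z⁻¹ * y⁻¹) := by group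
            _ = (z * w) * (y * z⁻¹ * y⁻¹) := by rw [h1]
            _ = z * (w * (y * z⁻¹ * y⁻¹)) := by group
            _ = z * ((y * z⁻¹ * y⁻¹) * w) := by rw [h2]
            _ = (z * y * z⁻¹ * y⁻¹) * w := by group
        have hcP : z * y * z⁻¹ * y⁻¹ ∈ (P : Subgroup G) := hNP hcN
        rw [hZ]
        apply ih _ hcN hcT hcP
        have h3 := (Subgroup.mem_upperCentralSeries_succ_iff.mp hsucc) ⟨y, hy⟩
        rw [commutatorElement_def] at h3
        exact h3
      have hTD : Subgroup.closure T ≤ D := by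
        rw [Subgroup.closure_le]
        intro w hw
        rw [SetLike.mem_coe, hD]
        have h1 := hzT w hw
        have e : z * w * z⁻¹ * w⁻¹ = 1 := by
          rw [← h1]; group
        rw [e]; exact Z.one_mem
      have hDtop : D = ⊤ := by
        rw [eq_top_iff, ← hPR]
        exact sup_le hPD hTD
      intro y
      rw [commutatorElement_def, ← hZ, ← hD, hDtop]
      exact Subgroup.mem_top y
  have h5 := claim c u huN hB1 (hNP huN) (by rw [hc]; exact Subgroup.mem_top _)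
  exact (le_iSup (fun n => Subgroup.upperCentralSeries G n) c) h5

theorem mem_hyper {G : Type*} [Group G] [Finite G] : ∀ (k : ℕ) (g : G), orderOf g = k →
    (∀ x : G, Group.IsNilpotent ↥(Subgroup.closure ({x, g} : Set G))) →
    g ∈ ⨆ n : ℕ, Subgroup.upperCentralSeries G n := by
  intro k
  induction k using Nat.strong_induction_on with
  | _ k ih =>
    intro g hk hnil
    by_cases hg1 : g = 1
    · rw [hg1]; exact Subgroup.one_mem _
    have hk1 : k ≠ 1 := by
      intro h; rw [h] at hk; exact hg1 (orderOf_eq_one_iff.mp hk)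
    have hkpos : 0 < k := by rw [← hk]; exact orderOf_pos g
    obtain ⟨p, hp, hpk⟩ := Nat.exists_prime_and_dvd hk1
    have hpf : Fact p.Prime := ⟨hp⟩
    obtain ⟨a, m, hpm, hkam⟩ := Nat.exists_eq_pow_mul_and_not_dvd hkpos.ne' p hp.ne_one
    have ha : a ≠ 0 := by
      rintro rfl
      rw [pow_zero, one_mul] at hkam
      rw [hkam] at hpk; exact hpm hpk
    have hmpos : 0 < m := by
      rcases Nat.eq_zero_or_pos m with h | h
      · rw [h, mul_zero] at hkam; omega
      · exact h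
    have hcop : Nat.Coprime m (p ^ a) :=
      Nat.Coprime.pow_right a ((Nat.Prime.coprime_iff_not_dvd hp).mpr hpm).symm
    have hu : (g ^ m) ^ p ^ a = 1 := by
      rw [← pow_mul, mul_comm, ← hkam, ← hk, pow_orderOf_eq_one]
    have hv : (g ^ p ^ a) ^ m = 1 := by
      rw [← pow_mul, ← hkam, ← hk, pow_orderOf_eq_one]
    have hsub : ∀ (j : ℕ) (x : G),
        Group.IsNilpotent ↥(Subgroup.closure ({x, g ^ j} : Set G)) := by
      intro j x
      apply nilpotent_of_le _ (hnil x)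
      have hxc : x ∈ Subgroup.closure ({x, g} : Set G) :=
        Subgroup.subset_closure (Set.mem_insert x _)
      have hgc : g ∈ Subgroup.closure ({x, g} : Set G) :=
        Subgroup.subset_closure (Set.mem_insert_of_mem x (Set.mem_singleton g))
      rw [Subgroup.closure_le]
      intro y hy
      rcases hy with hy | hy
      · rw [hy]; exact hxc
      · rw [Set.mem_singleton_iff] at hy
        rw [hy]
        exact Subgroup.pow_mem _ hgc j
    have hu_mem := pelem_mem p (g ^ m) a hu (hsub m)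
    have hv_mem : g ^ p ^ a ∈ ⨆ n : ℕ, Subgroup.upperCentralSeries G n := by
      have hord : orderOf (g ^ p ^ a) < k := by
        have h1 : orderOf (g ^ p ^ a) ∣ m := orderOf_dvd_of_pow_eq_one hv
        have h2 : orderOf (g ^ p ^ a) ≤ m := Nat.le_of_dvd hmpos h1
        have h4 : 2 ≤ p ^ a := by
          calc 2 ≤ p := hp.two_le
            _ = p ^ 1 := (pow_one p).symm
            _ ≤ p ^ a := Nat.pow_le_pow_right hp.pos (Nat.one_le_iff_ne_zero.mpr ha)
        have h3 : m < p ^ a * m := by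
          calc m < 2 * m := by omega
            _ ≤ p ^ a * m := Nat.mul_le_mul_right m h4
        rw [hkam]
        exact lt_of_le_of_lt h2 h3
      exact ih _ hord (g ^ p ^ a) rfl (hsub (p ^ a))
    have hbez := Nat.gcd_eq_gcd_ab m (p ^ a)
    rw [hcop.gcd_eq_one] at hbez
    have hgz : g = (g ^ m) ^ (Nat.gcdA m (p ^ a)) * (g ^ p ^ a) ^ (Nat.gcdB m (p ^ a)) := by
      rw [← zpow_natCast, ← zpow_natCast, ← zpow_mul, ← zpow_mul, ← zpow_add, ← hbez]
      simp
    rw [hgz]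
    exact Subgroup.mul_mem _ (Subgroup.zpow_mem _ hu_mem _) (Subgroup.zpow_mem _ hv_mem _)


/-- In a finite group G the set of elements g such that the subgroup generated by g and x is nilpotent for every x ∈ G is exactly the hypercenter of G (the last term of the upper central series). -/
theorem result {G : Type*} [Group G] [Finite G] (g : G) :
    (∀ x : G, Group.IsNilpotent ↥(Subgroup.closure ({x, g} : Set G))) ↔ g ∈ ⨆ n : ℕ, Subgroup.upperCentralSeries G n := by
  constructor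
  · intro h
    exact mem_hyper _ g rfl h
  · intro hg x
    have hdir : Directed (· ≤ ·) (fun n : ℕ => Subgroup.upperCentralSeries G n) :=
      (Subgroup.upperCentralSeries_mono G).directed_le
    obtain ⟨n, hn⟩ := (Subgroup.mem_iSup_of_directed hdir).mp hg
    exact nilpotent_of_mem_ucs x g n hn

end Cfsg.Agent.S3939
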