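import Cfsg.Statements.S3946
import Mathlib
import Cfsg.Agent.Helper21.Kegel
-- import your own Cfsg.Agent.* helpers here

set_option autoImplicit false
open Cfsg

namespace Cfsg.Agent.S3946

/-- Call an automorphism α of order n of a group G splitting when x · α(x) · α²(x) ⋯ α^(n−1)(x) = 1 for every x ∈ G. A finite group admitting a splitting automorphism of prime order is nilpotent (this contains the case of a fixed-point-free automorphism of prime order). -/
theorem result {G : Type*} [Group G] [Finite G] (α : MulAut G) (hp : (orderOf α).Prime)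
    (hsplit : ∀ x : G, (((List.range (orderOf α)).map (fun i : ℕ => (α ^ i) x)).prod = 1)) : Group.IsNilpotent G := by
  classical
  haveI : Finite (MulAut G) := MulEquiv.finite_left
  have hα1 : α ≠ 1 := by
    intro h
    rw [h, orderOf_one] at hp
    exact Nat.not_prime_one hp
  have hαp : α ^ orderOf α = 1 := pow_orderOf_eq_one α
  have hpow : ∀ (g : G) (a : ↥(Subgroup.zpowers α)) (n : ℕ),
      (⟨g, a⟩ : G ⋊[(Subgroup.zpowers α).subtype] ↥(Subgroup.zpowers α)) ^ n =
        ⟨((List.range n).map (fun i : ℕ => ((a : MulAut G) ^ i) g)).prod, a ^ n⟩ := by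
    intro g a n
    induction n with
    | zero => rfl
    | succ n ih =>
      rw [pow_succ, ih, List.range_succ, List.map_append, List.prod_append,
        SemidirectProduct.mul_def]
      simp only [List.map_cons, List.map_nil, List.prod_cons, List.prod_nil, mul_one, pow_succ]
      rfl
  haveI : Finite (G ⋊[(Subgroup.zpowers α).subtype] ↥(Subgroup.zpowers α)) :=
    Finite.of_equiv _ SemidirectProduct.equivProd.symm
  -- elements of the coset `Gα` have `p`-th power one
  have hα' : ∀ g : G, (⟨g, ⟨α, Subgroup.mem_zpowers α⟩⟩ :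
      G ⋊[(Subgroup.zpowers α).subtype] ↥(Subgroup.zpowers α)) ^ orderOf α = 1 := by
    intro g
    rw [hpow]
    apply SemidirectProduct.ext
    · exact hsplit g
    · exact Subtype.ext hαp
  have hout : ∀ s : G ⋊[(Subgroup.zpowers α).subtype] ↥(Subgroup.zpowers α),
      s ∉ (SemidirectProduct.inl : G →* G ⋊[(Subgroup.zpowers α).subtype]
        ↥(Subgroup.zpowers α)).range → s ^ orderOf α = 1 := by
    intro s hs
    rw [SemidirectProduct.range_inl_eq_ker_rightHom, MonoidHom.mem_ker] at hs
    obtain ⟨g, a⟩ := s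
    have ha1 : a ≠ 1 := hs
    obtain ⟨j, hj⟩ : ∃ j : ℕ, α ^ j = (a : MulAut G) := by
      have h1 : (a : MulAut G) ∈ Subgroup.zpowers α := a.2
      have hfin : IsOfFinOrder α := isOfFinOrder_of_finite α
      rw [← hfin.mem_powers_iff_mem_zpowers] at h1
      exact Submonoid.mem_powers_iff _ _ |>.1 h1
    have hpj : ¬ orderOf α ∣ j := by
      rintro ⟨c, rfl⟩
      rw [pow_mul, hαp, one_pow] at hj
      exact ha1 (Subtype.ext hj.symm)
    have hcop : j.Coprime (orderOf α) := by
      rw [Nat.coprime_comm]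
      exact (Nat.Prime.coprime_iff_not_dvd hp).2 hpj
    obtain ⟨m, -, hm⟩ := Nat.exists_mul_mod_eq_one_of_coprime hcop hp.one_lt
    have haj : a = (⟨α, Subgroup.mem_zpowers α⟩ : ↥(Subgroup.zpowers α)) ^ j :=
      Subtype.ext hj.symm
    -- the map g ↦ left component of (g, α)^j
    have hinj : Function.Injective (fun g₀ : G =>
        ((⟨g₀, ⟨α, Subgroup.mem_zpowers α⟩⟩ :
          G ⋊[(Subgroup.zpowers α).subtype] ↥(Subgroup.zpowers α)) ^ j).left) := by
      intro g₁ g₂ h12
      have h1 : (⟨g₁, ⟨α, Subgroup.mem_zpowers α⟩⟩ :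
          G ⋊[(Subgroup.zpowers α).subtype] ↥(Subgroup.zpowers α)) ^ j =
          (⟨g₂, ⟨α, Subgroup.mem_zpowers α⟩⟩ :
          G ⋊[(Subgroup.zpowers α).subtype] ↥(Subgroup.zpowers α)) ^ j := by
        apply SemidirectProduct.ext
        · exact h12
        · rw [hpow, hpow]
      have h2 : ∀ g₀ : G, ((⟨g₀, ⟨α, Subgroup.mem_zpowers α⟩⟩ :
          G ⋊[(Subgroup.zpowers α).subtype] ↥(Subgroup.zpowers α)) ^ j) ^ m =
          ⟨g₀, ⟨α, Subgroup.mem_zpowers α⟩⟩ := by
        intro g₀
        rw [← pow_mul, ← Nat.mod_add_div (j * m) (orderOf α), pow_add, pow_mul, hα', one_pow,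
          mul_one, hm, pow_one]
      have h3 := congrArg (fun s => s ^ m) h1
      simp only [h2] at h3
      exact congrArg SemidirectProduct.left h3
    obtain ⟨g₀, hg₀⟩ := (Finite.injective_iff_surjective.1 hinj) g
    have hs' : (⟨g, a⟩ : G ⋊[(Subgroup.zpowers α).subtype] ↥(Subgroup.zpowers α)) =
        (⟨g₀, ⟨α, Subgroup.mem_zpowers α⟩⟩ :
          G ⋊[(Subgroup.zpowers α).subtype] ↥(Subgroup.zpowers α)) ^ j := by
      apply SemidirectProduct.ext
      · exact hg₀.symm
      · rw [hpow]; exact haj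
    rw [hs', ← pow_mul, mul_comm, pow_mul, hα', one_pow]
  have htop : (SemidirectProduct.inl : G →* G ⋊[(Subgroup.zpowers α).subtype]
        ↥(Subgroup.zpowers α)).range ≠ ⊤ := by
    intro h
    have h1 : (⟨1, ⟨α, Subgroup.mem_zpowers α⟩⟩ :
        G ⋊[(Subgroup.zpowers α).subtype] ↥(Subgroup.zpowers α)) ∈
        (SemidirectProduct.inl : G →* G ⋊[(Subgroup.zpowers α).subtype]
        ↥(Subgroup.zpowers α)).range := by rw [h]; trivial
    rw [SemidirectProduct.range_inl_eq_ker_rightHom, MonoidHom.mem_ker] at h1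
    have h2 : (⟨α, Subgroup.mem_zpowers α⟩ : ↥(Subgroup.zpowers α)) = 1 := h1
    exact hα1 (congrArg Subtype.val h2)
  haveI := Cfsg.Agent.Helper21.kegel_nilpotent (orderOf α) hp _ htop hout
  exact Group.nilpotent_of_mulEquiv
    (MonoidHom.ofInjective (SemidirectProduct.inl_injective
      (φ := (Subgroup.zpowers α).subtype))).symm

end Cfsg.Agent.S3946
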