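import Cfsg.Statements.S3971
import Mathlib
import Cfsg.Agent.Helper8.TwoLocal
import Cfsg.Agent.Helper1.Frobenius

set_option autoImplicit false
open Cfsg

namespace Cfsg.Agent.S3971

/-- Let `G` be a finite group of order `2 ^ a * n` with `n` odd and not divisible by `3`, and suppose `G` has an element of order `2 ^ (a - 1)` (so a Sylow `2`-subgroup has a cyclic subgroup of index at most `2`). Then `G` has a normal subgroup of order `n`. -/
theorem result {G : Type*} [Group G] [Finite G] (a n : ℕ) (hG : Nat.card G = 2 ^ a * n) (hn : Odd n) (h3 : ¬ 3 ∣ n) (hx : ∃ x : G, orderOf x = 2 ^ (a - 1)) : ∃ N : Subgroup G, N.Normal ∧ Nat.card N = n := by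
  haveI : Fact (Nat.Prime 2) := ⟨Nat.prime_two⟩
  obtain ⟨x, hx⟩ := hx
  have hxp : IsPGroup 2 (Subgroup.zpowers x) :=
    Cfsg.Agent.Helper8.isPGroup_zpowers Nat.prime_two (k := a - 1)
      (by rw [← hx]; exact pow_orderOf_eq_one x)
  obtain ⟨P, hP⟩ := hxp.exists_le_sylow
  have hxP : x ∈ (P : Subgroup G) := hP (Subgroup.mem_zpowers x)
  obtain ⟨k, hk⟩ := IsPGroup.iff_card.mp P.isPGroup'
  have hk' : Nat.card (P : Subgroup G) = 2 ^ k := hk
  have hcopn : Nat.Coprime (2 ^ k) n := Nat.Coprime.pow_left k (Nat.coprime_two_left.mpr hn)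
  have hPdvd : 2 ^ k ∣ 2 ^ a := by
    have h1 : Nat.card (P : Subgroup G) ∣ Nat.card G := Subgroup.card_subgroup_dvd_card _
    rw [hG, hk'] at h1
    exact hcopn.dvd_of_dvd_mul_right h1
  have hka : k ≤ a := (Nat.pow_dvd_pow_iff_le_right (by norm_num)).mp hPdvd
  have hPc : Nat.card (P : Subgroup G) ≤ 2 * orderOf x := by
    rw [hx, hk']
    have h2 : 2 ^ k ≤ 2 ^ a := Nat.pow_le_pow_right (by norm_num) hka
    have h4 : 2 ^ a ≤ 2 * 2 ^ (a - 1) := by
      rcases Nat.eq_zero_or_pos a with h0 | h0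
      · rw [h0]; norm_num
      · have e : a = (a - 1) + 1 := by omega
        conv_lhs => rw [e, pow_succ]
        omega
    omega
  have hL : Cfsg.Agent.Helper1.LocalP 2 G := by
    apply Cfsg.Agent.Helper1.localP_of_sylow P
    intro Q hQP g hg hgo
    by_contra hgc
    obtain ⟨y, r, hr, hyN, hyC, hyr, hyg, hry⟩ :=
      Cfsg.Agent.S0499.exists_prime_action Q g hg hgc
    have hr2 : r ≠ 2 := by
      intro h2
      rw [h2] at hry
      have h5 := Nat.Coprime.eq_one_of_dvd hgo.symm (dvd_trans hry hyg)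
      omega
    have hr3 : r = 3 :=
      Cfsg.Agent.Helper8.three_of_cyclic_index_two (P : Subgroup G) Q x P.isPGroup' hxP hPc hQP
        y r hr hr2 hyN hyC hyr
    apply h3
    have hrG : r ∣ Nat.card G := dvd_trans hry (orderOf_dvd_natCard y)
    rw [hG, hr3] at hrG
    rcases (Nat.Prime.dvd_mul Nat.prime_three).mp hrG with h | h
    · exfalso
      have h6 := Nat.Prime.dvd_of_dvd_pow Nat.prime_three h
      omega
    · exact h
  obtain ⟨N, hN, hc, hcop⟩ :=
    Cfsg.Agent.Helper1.compl_of_npc P (Cfsg.Agent.Helper1.npc_of_local hL)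
  refine ⟨N, hN, ?_⟩
  have hmul := hc.card_mul_card
  rw [hG, hk'] at hmul
  have h2a : 2 ^ a ∣ 2 ^ k := by
    have h1 : 2 ^ a ∣ Nat.card N * 2 ^ k := ⟨n, hmul⟩
    have hc2 : Nat.Coprime (2 ^ a) (Nat.card N) := Nat.Coprime.pow_left a hcop.symm
    exact hc2.dvd_of_dvd_mul_left h1
  have hak : a ≤ k := (Nat.pow_dvd_pow_iff_le_right (by norm_num)).mp h2a
  have hak' : k = a := le_antisymm hka hak
  rw [hak'] at hmul
  have h7 : Nat.card N * 2 ^ a = n * 2 ^ a := by rw [hmul]; ring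
  exact Nat.eq_of_mul_eq_mul_right (by positivity) h7

end Cfsg.Agent.S3971
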