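-- S3982: proof by helper7
import Cfsg.Statements.S3982
import Mathlib
import Cfsg.Agent.S0023
import Cfsg.Agent.Helper7.Large
import Cfsg.Agent.Helper5.Grp
import Cfsg.Agent.Helper14.PIrred
import Cfsg.Agent.Helper1.Fitting
import Cfsg.Agent.Helper19.Nilpotent

set_option autoImplicit false
open Cfsg

namespace Cfsg.Agent.S3982

/-- Let p be an odd prime and G a finite group of even order divisible by p in which the centralizer of every non-identity p-element has odd order. If some nontrivial p-subgroup of G has a normalizer of even order, then the normalizer of every Sylow p-subgroup of G has even order. -/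
theorem result {G : Type*} [Group G] [Finite G] (p : ℕ) [Fact p.Prime] (hp2 : p ≠ 2) (hpG : p ∣ Nat.card G) (h2G : 2 ∣ Nat.card G) (hC : ∀ g : G, g ≠ 1 → (∃ k : ℕ, orderOf g = p ^ k) → Odd (Nat.card ↥(Subgroup.centralizer ({g} : Set G)))) (Q : Subgroup G) (hQ : IsPGroup p ↥Q) (hQ1 : Q ≠ ⊥) (hev : Even (Nat.card ↥(Subgroup.normalizer (Q : Set G)))) (P : Sylow p G) : Even (Nat.card ↥(Subgroup.normalizer ((P : Subgroup G) : Set G))) := by
  classical
  haveI : Fact (Nat.Prime 2) := ⟨Nat.prime_two⟩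
  -- an involution in N(Q)
  obtain ⟨t', ht'⟩ := exists_prime_orderOf_dvd_card' (G := ↥(Subgroup.normalizer (Q : Set G))) 2
    (even_iff_two_dvd.1 hev)
  obtain ⟨t, htN, hto⟩ : ∃ t : G, t ∈ Subgroup.normalizer (Q : Set G) ∧ orderOf t = 2 :=
    ⟨(t' : G), t'.2, (Subgroup.orderOf_coe t').trans ht'⟩
  have ht2 : t * t = 1 := by
    have h := pow_orderOf_eq_one t
    rw [hto, pow_two] at h
    exact h
  have hti : t⁻¹ = t := inv_eq_of_mul_eq_one_left ht2
  have ht2i : t⁻¹ * t⁻¹ = 1 := by rw [hti]; exact ht2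
  have ht1 : t ≠ 1 := by
    intro h
    rw [h, orderOf_one] at hto
    omega
  obtain ⟨q, hqQ, hq1⟩ : ∃ q ∈ Q, q ≠ 1 := by
    obtain ⟨a, ha⟩ := Subgroup.ne_bot_iff_exists_ne_one.1 hQ1
    exact ⟨a, a.2, fun h => ha (Subtype.ext h)⟩
  -- nonidentity p-elements do not commute with involutions
  have hodd_cent : ∀ c : G, c ≠ 1 → (∃ k : ℕ, orderOf c = p ^ k) → ∀ s : G, orderOf s = 2 →
      s * c ≠ c * s := by
    intro c hc1 hck s hs hcomm
    have hodd := hC c hc1 hck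
    have hs_mem : s ∈ Subgroup.centralizer ({c} : Set G) := by
      rw [Subgroup.mem_centralizer_iff]
      intro h hh
      rw [Set.mem_singleton_iff] at hh
      rw [hh]; exact hcomm.symm
    have h1 := orderOf_dvd_natCard (⟨s, hs_mem⟩ : ↥(Subgroup.centralizer ({c} : Set G)))
    have h2 : orderOf s = orderOf (⟨s, hs_mem⟩ : ↥(Subgroup.centralizer ({c} : Set G))) :=
      Subgroup.orderOf_coe ⟨s, hs_mem⟩
    rw [← h2, hs] at h1
    exact (Nat.not_even_iff_odd.2 hodd) (even_iff_two_dvd.2 h1)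
  -- maximal t-invariant p-subgroup containing Q
  obtain ⟨R, ⟨hRp, hQR, htR⟩, hmax⟩ := Set.exists_max_image
    {R : Subgroup G | IsPGroup p ↥R ∧ Q ≤ R ∧ t ∈ Subgroup.normalizer (R : Set G)}
    (fun R : Subgroup G => Nat.card ↥R) (Set.toFinite _) ⟨Q, hQ, le_refl Q, htN⟩
  have hRord : ∀ c ∈ R, ∃ k : ℕ, orderOf c = p ^ k := by
    intro c hc
    obtain ⟨k, hk⟩ := (IsPGroup.iff_orderOf.1 hRp) ⟨c, hc⟩
    exact ⟨k, (Subgroup.orderOf_coe (⟨c, hc⟩ : ↥R)).trans hk⟩
  have htconj : ∀ r ∈ R, t * r * t⁻¹ ∈ R := fun r hr =>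
    (Subgroup.mem_normalizer_iff.1 htR r).1 hr
  have hfix : ∀ c ∈ R, t * c * t⁻¹ = c → c = 1 := by
    intro c hc hcomm
    by_contra hc1
    refine hodd_cent c hc1 (hRord c hc) t hto ?_
    calc t * c = t * c * t⁻¹ * t := by group
      _ = c * t := by rw [hcomm]
  -- t inverts R
  have hinv : ∀ r ∈ R, t * r * t⁻¹ = r⁻¹ := by
    let f : ↥R → ↥R := fun r => ⟨(r : G)⁻¹ * (t * r * t⁻¹), R.mul_mem (R.inv_mem r.2) (htconj r r.2)⟩
    have hfinj : Function.Injective f := by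
      intro a b hab
      have hab' : (a : G)⁻¹ * (t * a * t⁻¹) = (b : G)⁻¹ * (t * b * t⁻¹) := congrArg Subtype.val hab
      have h2 : (t * a * t⁻¹ : G) = a * ((b : G)⁻¹ * (t * b * t⁻¹)) := by
        rw [← hab']; group
      have h1 : t * ((b : G) * (a : G)⁻¹) * t⁻¹ = (b : G) * (a : G)⁻¹ := by
        calc t * ((b : G) * (a : G)⁻¹) * t⁻¹ = (t * b * t⁻¹) * (t * a * t⁻¹)⁻¹ := by group
          _ = (t * b * t⁻¹) * (a * ((b : G)⁻¹ * (t * b * t⁻¹)))⁻¹ := by rw [h2]
          _ = b * (a : G)⁻¹ := by group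
      have h3 := hfix _ (R.mul_mem b.2 (R.inv_mem a.2)) h1
      rw [mul_inv_eq_one] at h3
      exact Subtype.ext h3.symm
    have hfsurj : Function.Surjective f := Finite.injective_iff_surjective.1 hfinj
    intro r hr
    obtain ⟨s, hs⟩ := hfsurj ⟨r, hr⟩
    have hs' : (s : G)⁻¹ * (t * s * t⁻¹) = r := congrArg Subtype.val hs
    rw [← hs']
    calc t * ((s : G)⁻¹ * (t * s * t⁻¹)) * t⁻¹
        = t * (s : G)⁻¹ * t⁻¹ * (t * t) * s * (t⁻¹ * t⁻¹) := by group
      _ = t * (s : G)⁻¹ * t⁻¹ * s := by rw [ht2, ht2i, mul_one, mul_one]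
      _ = ((s : G)⁻¹ * (t * s * t⁻¹))⁻¹ := by group
  -- R is a Sylow subgroup
  have key : ∃ P₀ : Sylow p G, (P₀ : Subgroup G) = R := by
    obtain ⟨P₀, hRP₀⟩ := hRp.exists_le_sylow
    refine ⟨P₀, ?_⟩
    by_contra hne
    have hlt : R < (P₀ : Subgroup G) := lt_of_le_of_ne hRP₀ (Ne.symm hne)
    haveI : Group.IsNilpotent ↥(P₀ : Subgroup G) := P₀.isPGroup'.isNilpotent
    have hlt0 : R.subgroupOf (P₀ : Subgroup G) < ⊤ := by
      rw [lt_top_iff_ne_top, Ne, Subgroup.subgroupOf_eq_top]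
      exact not_le_of_gt hlt
    have hlt' := Group.normalizerCondition_of_isNilpotent (G := ↥(P₀ : Subgroup G)) _ hlt0
    obtain ⟨x', hx'N, hx'R⟩ := SetLike.exists_of_lt hlt'
    obtain ⟨x, hxP, hxR, hxconj⟩ : ∃ x : G, x ∈ (P₀ : Subgroup G) ∧ x ∉ R ∧
        ∀ r ∈ R, x * r * x⁻¹ ∈ R := by
      refine ⟨(x' : G), x'.2, fun h => hx'R (Subgroup.mem_subgroupOf.2 h), ?_⟩
      intro r hr
      have h1 := (Subgroup.mem_normalizer_iff.1 hx'N ⟨r, hRP₀ hr⟩).1 (Subgroup.mem_subgroupOf.2 hr)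
      exact Subgroup.mem_subgroupOf.1 h1
    have hxN : x ∈ Subgroup.normalizer (R : Set G) :=
      Helper5.mem_normalizer_of_conj_mem R x hxconj
    obtain ⟨W, hW⟩ : ∃ W : Subgroup G, W = R ⊔ Subgroup.zpowers x := ⟨_, rfl⟩
    have hRW : R ≤ W := hW ▸ le_sup_left
    have hxW : x ∈ W := hW ▸ Subgroup.mem_sup_right (Subgroup.mem_zpowers x)
    have hWP : W ≤ (P₀ : Subgroup G) := by
      rw [hW]
      exact sup_le hRP₀ (Subgroup.zpowers_le.2 hxP)
    have hWN : W ≤ Subgroup.normalizer (R : Set G) := by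
      rw [hW]
      exact sup_le Subgroup.le_normalizer (Subgroup.zpowers_le.2 hxN)
    have hWp : IsPGroup p ↥W := P₀.isPGroup'.to_le hWP
    obtain ⟨y, hyR, hy1, hyW⟩ : ∃ y ∈ R, y ≠ 1 ∧ ∀ w ∈ W, w * y = y * w := by
      haveI : Group.IsNilpotent ↥W := hWp.isNilpotent
      haveI : (R.subgroupOf W).Normal := (Subgroup.normal_subgroupOf_iff_le_normalizer hRW).2 hWN
      have hne' : R.subgroupOf W ≠ ⊥ := by
        intro h
        have hmem : (⟨q, hRW (hQR hqQ)⟩ : ↥W) ∈ R.subgroupOf W := Subgroup.mem_subgroupOf.2 (hQR hqQ)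
        rw [h, Subgroup.mem_bot] at hmem
        exact hq1 (congrArg Subtype.val hmem)
      have hcen := Helper19.inf_center_ne_bot_of_normal (R.subgroupOf W) hne'
      obtain ⟨a, ha1⟩ := (Subgroup.ne_bot_iff_exists_ne_one.1 hcen)
      have haR : ((a : ↥W) : G) ∈ R := Subgroup.mem_subgroupOf.1 (Subgroup.mem_inf.1 a.2).1
      have haZ : (a : ↥W) ∈ Subgroup.center ↥W := (Subgroup.mem_inf.1 a.2).2
      refine ⟨((a : ↥W) : G), haR, ?_, ?_⟩
      · intro h
        apply ha1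
        apply Subtype.ext
        apply Subtype.ext
        exact h
      · intro w hw
        have h1 := Subgroup.mem_center_iff.1 haZ ⟨w, hw⟩
        exact congrArg Subtype.val h1
    obtain ⟨K₁, hK₁⟩ : ∃ K₁ : Subgroup G, K₁ = Subgroup.centralizer ({y} : Set G) ⊓
        Subgroup.normalizer (R : Set G) := ⟨_, rfl⟩
    have hK₁odd : Odd (Nat.card ↥K₁) := by
      rw [hK₁]
      exact Odd.of_dvd_nat (hC y hy1 (hRord y hyR)) (Subgroup.card_dvd_of_le inf_le_left)
    have hWK₁ : W ≤ K₁ := by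
      rw [hK₁]
      refine le_inf ?_ hWN
      intro w hw
      rw [Subgroup.mem_centralizer_iff]
      intro h hh
      rw [Set.mem_singleton_iff] at hh
      rw [hh]; exact (hyW w hw).symm
    have hRK₁ : R ≤ K₁ := hRW.trans hWK₁
    have hK₁N : K₁ ≤ Subgroup.normalizer (R : Set G) := by
      rw [hK₁]; exact inf_le_right
    have hy_inv : t * y * t⁻¹ = y⁻¹ := hinv y hyR
    have hy' : y = t * y⁻¹ * t⁻¹ := by
      calc y = (y⁻¹)⁻¹ := (inv_inv y).symm
        _ = (t * y * t⁻¹)⁻¹ := by rw [hy_inv]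
        _ = t * y⁻¹ * t⁻¹ := by group
    have htK₁ : t ∈ Subgroup.normalizer (K₁ : Set G) := by
      apply Helper5.mem_normalizer_of_conj_mem
      intro k hk
      rw [hK₁] at hk ⊢
      obtain ⟨hkC, hkN⟩ := Subgroup.mem_inf.1 hk
      refine Subgroup.mem_inf.2 ⟨?_, ?_⟩
      · rw [Subgroup.mem_centralizer_iff] at hkC ⊢
        have hk' : y * k = k * y := hkC y (Set.mem_singleton y)
        have hky : y⁻¹ * k = k * y⁻¹ := by
          calc y⁻¹ * k = y⁻¹ * (k * y) * y⁻¹ := by group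
            _ = y⁻¹ * (y * k) * y⁻¹ := by rw [hk']
            _ = k * y⁻¹ := by group
        intro h hh
        rw [Set.mem_singleton_iff] at hh
        rw [hh]
        calc y * (t * k * t⁻¹) = (t * y⁻¹ * t⁻¹) * (t * k * t⁻¹) := by rw [← hy']
          _ = t * (y⁻¹ * k) * t⁻¹ := by group
          _ = t * (k * y⁻¹) * t⁻¹ := by rw [hky]
          _ = (t * k * t⁻¹) * (t * y⁻¹ * t⁻¹) := by group
          _ = (t * k * t⁻¹) * y := by rw [← hy']
      · exact Subgroup.mul_mem _ (Subgroup.mul_mem _ htR hkN) (Subgroup.inv_mem _ htR)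
    -- a t-invariant Sylow p-subgroup of K₁
    have hsolv : Group.IsSolvable ↥(Subgroup.zpowers t) := by
      apply Group.isSolvable_of_comm
      intro a b
      obtain ⟨m, hm⟩ := Subgroup.mem_zpowers_iff.1 a.2
      obtain ⟨n, hn⟩ := Subgroup.mem_zpowers_iff.1 b.2
      apply Subtype.ext
      show (a : G) * (b : G) = (b : G) * (a : G)
      rw [← hm, ← hn]
      exact (Commute.zpow_zpow_self t m n).eq
    have hcop : (Nat.card ↥(Subgroup.zpowers t)).Coprime (Nat.card ↥K₁) := by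
      rw [Nat.card_zpowers, hto]
      exact (Nat.Prime.coprime_iff_not_dvd Nat.prime_two).2
        (fun h => Nat.not_even_iff_odd.2 hK₁odd (even_iff_two_dvd.2 h))
    obtain ⟨P₁, hP₁⟩ := Cfsg.Agent.S0023.result (Subgroup.zpowers t) K₁
      (Subgroup.zpowers_le.2 htK₁) hcop (Or.inl hsolv) p
    have hR'p : IsPGroup p ↥((P₁ : Subgroup ↥K₁).map K₁.subtype) := P₁.isPGroup'.map K₁.subtype
    have htR' : t ∈ Subgroup.normalizer (((P₁ : Subgroup ↥K₁).map K₁.subtype : Subgroup G) : Set G) :=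
      hP₁ (Subgroup.mem_zpowers t)
    have hRR' : R ≤ (P₁ : Subgroup ↥K₁).map K₁.subtype := by
      have hnorm : (R.subgroupOf K₁).Normal :=
        (Subgroup.normal_subgroupOf_iff_le_normalizer hRK₁).2 hK₁N
      have hpg : IsPGroup p ↥(R.subgroupOf K₁) := hRp.comap_subtype
      have hle : R.subgroupOf K₁ ≤ (P₁ : Subgroup ↥K₁) :=
        (Helper1.le_pCore hnorm hpg).trans (Helper14.pCore_le_sylow P₁)
      intro r hr
      exact Subgroup.mem_map.2 ⟨⟨r, hRK₁ hr⟩, hle (Subgroup.mem_subgroupOf.2 hr), rfl⟩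
    have hle1 : Nat.card ↥((P₁ : Subgroup ↥K₁).map K₁.subtype) ≤ Nat.card ↥R :=
      hmax _ ⟨hR'p, hQR.trans hRR', htR'⟩
    have hle2 : Nat.card ↥W ≤ Nat.card ↥((P₁ : Subgroup ↥K₁).map K₁.subtype) := by
      obtain ⟨P₂, hP₂⟩ := (hWp.comap_subtype (K := K₁)).exists_le_sylow
      have e1 : Nat.card ↥(W.subgroupOf K₁) = Nat.card ↥W :=
        Nat.card_congr (Subgroup.subgroupOfEquivOfLe hWK₁).toEquiv
      have e2 : Nat.card ↥(W.subgroupOf K₁) ≤ Nat.card ↥(P₂ : Subgroup ↥K₁) :=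
        Subgroup.card_le_of_le hP₂
      have e3 : Nat.card ↥(P₂ : Subgroup ↥K₁) = Nat.card ↥(P₁ : Subgroup ↥K₁) :=
        (Sylow.card_eq_multiplicity P₂).trans (Sylow.card_eq_multiplicity P₁).symm
      have e4 : Nat.card ↥((P₁ : Subgroup ↥K₁).map K₁.subtype) = Nat.card ↥(P₁ : Subgroup ↥K₁) :=
        Subgroup.card_map_of_injective K₁.subtype_injective
      rw [e4, ← e3, ← e1]
      exact e2
    have hRWeq : R = W := Subgroup.eq_of_le_of_card_ge hRW (hle2.trans hle1)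
    exact hxR (hRWeq ▸ hxW)
  -- conjugate to P
  obtain ⟨P₀, hP₀⟩ := key
  obtain ⟨g, hg⟩ := Helper7.exists_conj_le_sylow (P₀ : Subgroup G) P₀.isPGroup' P
  have hinjg : Function.Injective ((MulAut.conj g).toMonoidHom : G →* G) := (MulAut.conj g).injective
  have hcard : Nat.card ↥(P : Subgroup G) ≤
      Nat.card ↥((P₀ : Subgroup G).map (MulAut.conj g).toMonoidHom) := by
    rw [Subgroup.card_map_of_injective hinjg]
    exact le_of_eq ((Sylow.card_eq_multiplicity P).trans (Sylow.card_eq_multiplicity P₀).symm)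
  have hmap : (P₀ : Subgroup G).map (MulAut.conj g).toMonoidHom = (P : Subgroup G) :=
    Subgroup.eq_of_le_of_card_ge hg hcard
  have hsN : g * t * g⁻¹ ∈ Subgroup.normalizer ((P : Subgroup G) : Set G) := by
    apply Helper5.mem_normalizer_of_conj_mem
    intro q' hq'
    rw [← hmap] at hq' ⊢
    obtain ⟨r, hr, rfl⟩ := Subgroup.mem_map.1 hq'
    refine Subgroup.mem_map.2 ⟨t * r * t⁻¹, ?_, ?_⟩
    · rw [hP₀] at hr ⊢
      exact htconj r hr
    · simp only [MulEquiv.coe_toMonoidHom, MulAut.conj_apply]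
      group
  have hs2 : (g * t * g⁻¹) ^ 2 = 1 := by
    rw [pow_two]
    calc g * t * g⁻¹ * (g * t * g⁻¹) = g * (t * t) * g⁻¹ := by group
      _ = 1 := by rw [ht2]; group
  have hs1 : g * t * g⁻¹ ≠ 1 := by
    intro h
    apply ht1
    calc t = g⁻¹ * (g * t * g⁻¹) * g := by group
      _ = 1 := by rw [h]; group
  have hso : orderOf (g * t * g⁻¹) = 2 := orderOf_eq_prime hs2 hs1
  rw [even_iff_two_dvd]
  have h1 := orderOf_dvd_natCard
    (⟨g * t * g⁻¹, hsN⟩ : ↥(Subgroup.normalizer ((P : Subgroup G) : Set G)))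
  have h2 : orderOf (g * t * g⁻¹) =
      orderOf (⟨g * t * g⁻¹, hsN⟩ : ↥(Subgroup.normalizer ((P : Subgroup G) : Set G))) :=
    Subgroup.orderOf_coe ⟨g * t * g⁻¹, hsN⟩
  rw [← h2, hso] at h1
  exact h1

end Cfsg.Agent.S3982
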