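import Cfsg.Statements.S3986
import Mathlib

set_option autoImplicit false
open Cfsg

namespace Cfsg.Agent.S3986

theorem orderOf_eq_pow_of_mem_sylow {G : Type*} [Group G] (q : ℕ) [Fact q.Prime] (Q : Sylow q G)
    (y : G) (hy : y ∈ (Q : Subgroup G)) : ∃ b : ℕ, orderOf y = q ^ b := by
  obtain ⟨k, hk⟩ := Q.isPGroup' ⟨y, hy⟩
  have h1 : y ^ (q ^ k) = 1 := by
    have := congrArg Subtype.val hk
    rw [Subgroup.coe_pow] at this
    exact this
  obtain ⟨b, _, hb⟩ := (Nat.dvd_prime_pow (Fact.out : q.Prime)).mp (orderOf_dvd_of_pow_eq_one h1)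
  exact ⟨b, hb⟩

theorem mem_of_pow_mem_of_coprime {G : Type*} [Group G] (C : Subgroup G) (k : G) (m n : ℕ)
    (hm : k ^ m = 1) (hn : k ^ n ∈ C) (hcop : Nat.Coprime m n) : k ∈ C := by
  have hbez := Nat.gcd_eq_gcd_ab m n
  rw [hcop.gcd_eq_one] at hbez
  have hg : k = (k ^ m) ^ (Nat.gcdA m n) * (k ^ n) ^ (Nat.gcdB m n) := by
    rw [← zpow_natCast, ← zpow_natCast, ← zpow_mul, ← zpow_mul, ← zpow_add, ← hbez]
    simp
  rw [hg, hm, one_zpow, one_mul]
  exact Subgroup.zpow_mem _ hn _

/-- Let p be a prime and G a finite group. Then some Sylow p-subgroup of G is a direct factor of G (it is normal and has a normal complement) if and only if every element of p-power order commutes with every element whose order is a power of a prime other than p. -/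
theorem result {G : Type*} [Group G] [Finite G] (p : ℕ) [Fact p.Prime] : (∃ (P : Sylow p G) (K : Subgroup G), (P : Subgroup G).Normal ∧ K.Normal ∧ (P : Subgroup G) ⊓ K = ⊥ ∧ (P : Subgroup G) ⊔ K = ⊤) ↔ ∀ x y : G, (∃ a : ℕ, orderOf x = p ^ a) → (∃ q b : ℕ, q.Prime ∧ q ≠ p ∧ orderOf y = q ^ b) → x * y = y * x := by
  have hp : p.Prime := Fact.out
  constructor
  · rintro ⟨P, K, hPn, hKn, hinf, hsup⟩ x y ⟨a, ha⟩ ⟨q, b, hq, hqp, hy⟩
    have hdisj : Disjoint (P : Subgroup G) K := disjoint_iff.mpr hinf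
    -- x ∈ P
    have hxP : x ∈ (P : Subgroup G) := by
      have hzp : IsPGroup p ↥(Subgroup.zpowers x) := IsPGroup.of_card ((Nat.card_zpowers x).trans ha)
      have hN : Subgroup.normalizer ((P : Subgroup G) : Set G) = ⊤ := Subgroup.normalizer_eq_top_iff.mpr hPn
      have h1 : x ∈ Subgroup.zpowers x ⊓ Subgroup.normalizer ((P : Subgroup G) : Set G) := by
        rw [hN]; exact Subgroup.mem_inf.mpr ⟨Subgroup.mem_zpowers _, Subgroup.mem_top _⟩
      have h3 : x ∈ Subgroup.zpowers x ⊓ (P : Subgroup G) := by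
        rw [← hzp.inf_normalizer_sylow P]; exact h1
      exact (Subgroup.mem_inf.mp h3).2
    -- y = u v
    have hyT : y ∈ ((P : Subgroup G) ⊔ K : Subgroup G) := by rw [hsup]; exact Subgroup.mem_top _
    have hyS : y ∈ (((P : Subgroup G) ⊔ K : Subgroup G) : Set G) := hyT
    rw [Subgroup.mul_normal] at hyS
    obtain ⟨u, hu, v, hv, huv⟩ := Set.mem_mul.mp hyS
    have hcomm : Commute u v := Subgroup.commute_of_normal_of_disjoint _ _ hPn hKn hdisj u v hu hv
    have h1 : u ^ (q ^ b) * v ^ (q ^ b) = 1 := by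
      rw [← hcomm.mul_pow, huv, ← hy, pow_orderOf_eq_one]
    have hu1 : u ^ (q ^ b) = 1 := by
      have h2 : u ^ (q ^ b) ∈ (P : Subgroup G) ⊓ K := by
        refine Subgroup.mem_inf.mpr ⟨Subgroup.pow_mem _ hu _, ?_⟩
        have : u ^ (q ^ b) = (v ^ (q ^ b))⁻¹ := eq_inv_of_mul_eq_one_left h1
        rw [this]
        exact Subgroup.inv_mem _ (Subgroup.pow_mem _ hv _)
      rw [hinf, Subgroup.mem_bot] at h2
      exact h2
    obtain ⟨k, hk⟩ := orderOf_eq_pow_of_mem_sylow p P u hu
    have hu_one : u = 1 := by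
      have hd1 : orderOf u ∣ q ^ b := orderOf_dvd_of_pow_eq_one hu1
      have hd2 : orderOf u ∣ p ^ k := by rw [hk]
      have hcop : Nat.Coprime (q ^ b) (p ^ k) := Nat.Coprime.pow _ _ ((Nat.coprime_primes hq hp).mpr hqp)
      have := Nat.dvd_gcd hd1 hd2
      rw [hcop.gcd_eq_one] at this
      exact orderOf_eq_one_iff.mp (Nat.dvd_one.mp this)
    rw [hu_one, one_mul] at huv
    rw [← huv]
    exact (Subgroup.commute_of_normal_of_disjoint _ _ hPn hKn hdisj x v hxP hv).eq
  · intro h
    obtain ⟨P⟩ := (Sylow.nonempty : Nonempty (Sylow p G))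
    -- Sylow q-subgroups centralize P
    have hQC : ∀ (q : ℕ) [Fact q.Prime], q ≠ p → ∀ Q : Sylow q G,
        (Q : Subgroup G) ≤ Subgroup.centralizer ((P : Subgroup G) : Set G) := by
      intro q _ hqp Q y hy
      rw [Subgroup.mem_centralizer_iff]
      intro x hx
      obtain ⟨b, hb⟩ := orderOf_eq_pow_of_mem_sylow q Q y hy
      obtain ⟨a, ha⟩ := orderOf_eq_pow_of_mem_sylow p P x hx
      exact h x y ⟨a, ha⟩ ⟨q, b, Fact.out, hqp, hb⟩
    -- P is normal
    have hPn : (P : Subgroup G).Normal := by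
      rw [← Subgroup.normalizer_eq_top_iff, ← Subgroup.index_eq_one, Nat.eq_one_iff_not_exists_prime_dvd]
      intro q hq hdvd
      by_cases hqp : q = p
      · subst hqp
        exact P.not_dvd_index (hdvd.trans (Subgroup.index_dvd_of_le Subgroup.le_normalizer))
      · haveI : Fact q.Prime := ⟨hq⟩
        obtain ⟨Q⟩ := (Sylow.nonempty : Nonempty (Sylow q G))
        exact Q.not_dvd_index (hdvd.trans (Subgroup.index_dvd_of_le
          ((hQC q hqp Q).trans (Subgroup.centralizer_le_normalizer _))))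
    haveI := hPn
    have hCn : (Subgroup.centralizer ((P : Subgroup G) : Set G)).Normal := Subgroup.normal_centralizer
    obtain ⟨n, hn⟩ := IsPGroup.iff_card.mp P.isPGroup'
    have hcopP : Nat.Coprime (Nat.card (P : Subgroup G)) (P : Subgroup G).index := by
      rw [hn]
      exact Nat.Coprime.pow_left _ ((Nat.Prime.coprime_iff_not_dvd hp).mpr P.not_dvd_index)
    obtain ⟨K, hK⟩ := Subgroup.exists_right_complement'_of_coprime hcopP
    have hKcard : Nat.card K = (P : Subgroup G).index := by
      have h1 := hK.card_mul_card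
      have h2 := (P : Subgroup G).card_mul_index
      have hpos : 0 < Nat.card (P : Subgroup G) := Nat.card_pos
      exact Nat.eq_of_mul_eq_mul_left hpos (h1.trans h2.symm)
    have hKC : K ≤ Subgroup.centralizer ((P : Subgroup G) : Set G) := by
      intro k hk
      have hk1 : k ^ (Nat.card K) = 1 := by
        have := pow_card_eq_one' (G := K) (x := ⟨k, hk⟩)
        have h2 := congrArg Subtype.val this
        rw [Subgroup.coe_pow] at h2
        exact h2
      have hk2 : k ^ (Subgroup.centralizer ((P : Subgroup G) : Set G)).index ∈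
          Subgroup.centralizer ((P : Subgroup G) : Set G) := Subgroup.pow_index_mem _ k
      refine mem_of_pow_mem_of_coprime _ k _ _ hk1 hk2 ?_
      by_contra hnc
      obtain ⟨q, hq, hq1, hq2⟩ := Nat.Prime.not_coprime_iff_dvd.mp hnc
      have hqp : q ≠ p := by
        rintro rfl
        rw [hKcard] at hq1
        exact P.not_dvd_index hq1
      haveI : Fact q.Prime := ⟨hq⟩
      obtain ⟨Q⟩ := (Sylow.nonempty : Nonempty (Sylow q G))
      exact Q.not_dvd_index (hq2.trans (Subgroup.index_dvd_of_le (hQC q hqp Q)))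
    have hKn : K.Normal := by
      rw [← Subgroup.normalizer_eq_top_iff, ← top_le_iff, ← hK.sup_eq_top]
      apply sup_le
      · intro x hx
        apply Subgroup.centralizer_le_normalizer
        rw [Subgroup.mem_centralizer_iff]
        intro k hk
        have := hKC hk
        rw [Subgroup.mem_centralizer_iff] at this
        exact (this x hx).symm
      · exact Subgroup.le_normalizer
    exact ⟨P, K, hPn, hKn, disjoint_iff.mp hK.disjoint, hK.sup_eq_top⟩

end Cfsg.Agent.S3986
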