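import Mathlib
import Cfsg.Statements.S4010
import Cfsg.Agent.Helper19.LinP1
import Cfsg.Agent.Helper19.LinP2

set_option autoImplicit false

open Cfsg

namespace Cfsg.Agent.S4010


/-- Let F be a field, n ≥ 1, and P a finite p-group (p a prime) admitting an injective homomorphism into the general linear group of degree n over F. Then the derived length of P is at most ⌊log₂ n⌋ + 1: that term of the derived series of P is trivial. -/
theorem result {P : Type*} [Group P] [Finite P] (p : ℕ) [Fact p.Prime] (hP : IsPGroup p P) (F : Type*) [Field F] (n : ℕ) (hn : 1 ≤ n) (ρ : P →* Matrix.GeneralLinearGroup (Fin n) F) (hρ : Function.Injective ρ) : derivedSeries P (Nat.log 2 n + 1) = ⊥ := by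
  classical
  obtain ⟨ρ', hρ'⟩ : ∃ ρ' : P →* ((Fin n → F) →ₗ[F] (Fin n → F)),
      ∀ g, ρ' g = Matrix.toLin' (ρ g : Matrix (Fin n) (Fin n) F) := by
    refine ⟨{ toFun := fun g => Matrix.toLin' (ρ g : Matrix (Fin n) (Fin n) F),
              map_one' := ?_, map_mul' := ?_ }, fun g => rfl⟩
    · rw [map_one, Units.val_one, Matrix.toLin'_one]; rfl
    · intro a b
      rw [map_mul, Units.val_mul, Matrix.toLin'_mul]; rfl
  have hinj : Function.Injective ρ' := by
    intro a b hab
    rw [hρ', hρ'] at hab
    apply hρ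
    apply Units.ext
    exact Matrix.toLin'.injective hab
  have hfin : Module.finrank F (Fin n → F) = n := Module.finrank_fin_fun F
  rw [eq_bot_iff]
  intro x hx
  rw [Subgroup.mem_bot]
  apply hinj
  rw [map_one]
  by_cases hp0 : (p : F) = 0
  · exact Cfsg.Agent.Helper19.LinP.charp_case hP hp0 ρ' (Nat.log 2 n + 1)
      (by rw [hfin]; exact (Nat.lt_pow_succ_log_self (by norm_num) n).le) x hx
  · exact Cfsg.Agent.Helper19.LinP.main p hp0 n P hP (Fin n → F) hfin ρ' x hx

end Cfsg.Agent.S4010
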