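import Cfsg.Statements.S4024
import Mathlib
import Cfsg.Agent.Helper8.SameOrd2
import Cfsg.Agent.S4023
import Cfsg.Agent.S1236

set_option autoImplicit false
open Cfsg

namespace Cfsg.Agent.S4024

/-- Let p be an odd prime and G a finite group in which any two p-subgroups of the same order are conjugate, with Sylow p-subgroup P. If H is a normal p-solvable subgroup of G whose order is divisible by p, then P is abelian, and either P ≤ H or P is cyclic. -/
theorem result {G : Type*} [Group G] [Finite G]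
    {p : ℕ} [Fact p.Prime] (hp : p ≠ 2) (hC : ∀ H K : Subgroup G, IsPGroup p H → IsPGroup p K → Nat.card H = Nat.card K →
      ∃ g : G, K = H.map (MulAut.conj g).toMonoidHom) (P : Sylow p G)
    (H : Subgroup G) [H.Normal] (hsolv : Cfsg.IsPSolvable p H) (hdiv : p ∣ Nat.card H) :
    IsMulCommutative P ∧ ((P : Subgroup G) ≤ H ∨ IsCyclic P) := by
  rcases Cfsg.Agent.S4023.result hC P with h | h | h | h
  · refine ⟨?_, Or.inr h⟩
    obtain ⟨g, hg⟩ := h.exists_generator
    exact ⟨⟨fun a b => Cfsg.Agent.S1236.zp_comm g a b (hg a) (hg b)⟩⟩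
  · exact ⟨h.1, Or.inl (Cfsg.Agent.Helper8.SameOrd.le_of_exp hC P H hdiv h.2)⟩
  · exact absurd h.1 hp
  · exfalso
    obtain ⟨-, hna, hcard, hexp⟩ := h
    have hexp' : ∀ x ∈ (P : Subgroup G), x ^ p = 1 := by
      intro x hx
      have h1 : (⟨x, hx⟩ : ↥(P : Subgroup G)) ^ p = 1 := by
        have h0 := Monoid.pow_exponent_eq_one (⟨x, hx⟩ : ↥(P : Subgroup G))
        have h00 : Monoid.exponent ↥(P : Subgroup G) = p := hexp
        rw [h00] at h0
        exact h0
      exact congrArg Subtype.val h1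
    exact Cfsg.Agent.Helper8.SameOrd.nonab_false hC P H hsolv
      (Cfsg.Agent.Helper8.SameOrd.le_of_exp hC P H hdiv hexp') (fun hc => hna ⟨⟨hc⟩⟩) hcard hexp'

end Cfsg.Agent.S4024
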