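import Cfsg.Statements.S4195
import Mathlib
-- import your own Cfsg.Agent.* helpers here

set_option autoImplicit false
open Cfsg

namespace Cfsg.Agent.S4195

theorem card_conj_eq_index {G : Type*} [Group G] (x : G) :
    Nat.card {y : G // IsConj x y} = (Subgroup.centralizer ({x} : Set G)).index := by
  have h1 : (Subgroup.centralizer ({x} : Set G)).index =
      (MulAction.stabilizer (ConjAct G) x).index := by
    rw [ConjAct.stabilizer_eq_centralizer]; rfl
  rw [h1, MulAction.index_stabilizer, ← Nat.card_coe_set_eq]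
  apply Nat.card_congr
  exact Equiv.subtypeEquivRight (fun y => by rw [ConjAct.mem_orbit_conjAct, isConj_comm])

theorem sq_eq_one_of_real {G : Type*} [Group G] [Finite G] (x : G) (P : Sylow 2 G)
    (hP : (P : Subgroup G) ≤ Subgroup.centralizer ({x} : Set G)) (hreal : IsConj x x⁻¹) :
    x ^ 2 = 1 := by
  classical
  have : Fact (Nat.Prime 2) := ⟨Nat.prime_two⟩
  let α := {y : G // IsConj x y}
  haveI : Fintype α := Fintype.ofFinite α
  have hcard : ¬ 2 ∣ Fintype.card α := by
    have h1 : (Subgroup.centralizer ({x} : Set G)).index ∣ (P : Subgroup G).index :=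
      Subgroup.index_dvd_of_le hP
    have h2 : ¬ 2 ∣ (P : Subgroup G).index := P.not_dvd_index
    have h3 : Fintype.card α = (Subgroup.centralizer ({x} : Set G)).index := by
      rw [← Nat.card_eq_fintype_card]
      exact card_conj_eq_index x
    rw [h3]
    exact fun h => h2 (h.trans h1)
  have hinv : ∀ y : G, IsConj x y → IsConj x y⁻¹ := by
    intro y hy
    obtain ⟨c, hc⟩ := isConj_iff.mp hy
    refine hreal.trans (isConj_iff.mpr ⟨c, ?_⟩)
    rw [← hc]; group
  let σ : Equiv.Perm α :=
    ⟨fun y => ⟨y.1⁻¹, hinv y.1 y.2⟩, fun y => ⟨y.1⁻¹, hinv y.1 y.2⟩,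
      fun y => by ext; simp, fun y => by ext; simp⟩
  have hσ : σ ^ 2 ^ 1 = 1 := by
    ext y
    simp [σ, pow_two]
  obtain ⟨a, ha⟩ := Equiv.Perm.exists_fixed_point_of_prime hcard hσ
  have ha1 : (a.1)⁻¹ = a.1 := congrArg Subtype.val ha
  obtain ⟨c, hc⟩ := isConj_iff.mp a.2
  have ha2 : a.1 ^ 2 = 1 := by
    rw [pow_two]
    nth_rewrite 1 [← ha1]
    group
  have hx : x = c⁻¹ * a.1 * c := by rw [← hc]; group
  have ha3 : a.1 * a.1 = 1 := by rw [← pow_two]; exact ha2
  rw [hx, pow_two]
  calc c⁻¹ * a.1 * c * (c⁻¹ * a.1 * c) = c⁻¹ * (a.1 * a.1) * c := by group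
    _ = 1 := by rw [ha3]; group


/-- Let x be a non-identity element of a finite group G whose centralizer contains a Sylow 2-subgroup of G. If x is conjugate to its inverse, then x has order 2. -/
theorem result {G : Type*} [Group G] [Finite G] (x : G) (hx : x ≠ 1) (P : Sylow 2 G) (hP : (P : Subgroup G) ≤ Subgroup.centralizer ({x} : Set G)) (hreal : IsConj x x⁻¹) : orderOf x = 2 := by
  have h := sq_eq_one_of_real x P hP hreal
  exact orderOf_eq_prime h hx

end Cfsg.Agent.S4195
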