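import Cfsg.Statements.S4034
import Mathlib
import Cfsg.Agent.S4195
import Cfsg.Agent.S4309
import Cfsg.Agent.Helper1.Hall
import Cfsg.Agent.Helper1.Solv
import Cfsg.Agent.Helper1.Fitting
import Cfsg.Agent.Helper23.PSolv
import Cfsg.Agent.Helper24.CharBurnside
-- import your own Cfsg.Agent.* helpers here

set_option autoImplicit false
open Cfsg

namespace Cfsg.Agent.S4034

universe u

theorem ncard_carrier {G : Type*} [Group G] (x : G) :
    (ConjClasses.mk x).carrier.ncard = (Subgroup.centralizer ({x} : Set G)).index := by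
  rw [← Cfsg.Agent.S4195.card_conj_eq_index, ← Nat.card_coe_set_eq]
  apply Nat.card_congr
  exact Equiv.subtypeEquivRight (fun y => by
    rw [ConjClasses.mem_carrier_iff_mk_eq, ConjClasses.mk_eq_mk_iff_isConj, isConj_comm])

theorem dvd_pow_aux {p : ℕ} (hp : p.Prime) {d k : ℕ} (h : d ∣ p ^ k) : ∃ j : ℕ, d = p ^ j := by
  obtain ⟨j, -, hj⟩ := (Nat.dvd_prime_pow hp).mp h
  exact ⟨j, hj⟩

/-- every `p`-regular element has centralizer of `p`-power index -/
def Q (p : ℕ) (G : Type*) [Group G] : Prop :=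
  ∀ x : G, (orderOf x).Coprime p →
    ∃ k : ℕ, (Subgroup.centralizer ({x} : Set G)).index = p ^ k

/-- there is an abelian `p`-complement -/
def Q' (p : ℕ) (G : Type*) [Group G] : Prop :=
  ∃ H : Subgroup G, (∀ a ∈ H, ∀ b ∈ H, a * b = b * a) ∧ (Nat.card H).Coprime p ∧
    ∃ k : ℕ, H.index = p ^ k

theorem Q_subgroup {p : ℕ} (hp : p.Prime) {G : Type*} [Group G] [Finite G] (N : Subgroup G)
    [N.Normal] (h : Q p G) : Q p N := by
  intro x hx
  obtain ⟨k, hk⟩ := h (x : G) (by rwa [Subgroup.orderOf_coe])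
  have h1 : Subgroup.centralizer ({x} : Set N) =
      (Subgroup.centralizer ({(x : G)} : Set G)).subgroupOf N := by
    ext y
    simp only [Subgroup.mem_centralizer_iff, Set.mem_singleton_iff, forall_eq,
      Subgroup.mem_subgroupOf]
    constructor
    · intro hy
      have := congrArg Subtype.val hy
      simpa using this
    · intro hy
      exact Subtype.ext (by simpa using hy)
  have h2 : (Subgroup.centralizer ({x} : Set N)).index =
      (Subgroup.centralizer ({(x : G)} : Set G)).relIndex N := by rw [h1]; rfl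
  rw [h2, Cfsg.Agent.S4309.relIndex_eq_relIndex_sup]
  exact dvd_pow_aux hp (hk ▸ Subgroup.relIndex_dvd_index_of_le le_sup_left)

theorem exists_lift {p : ℕ} (hp : p.Prime) {G : Type*} [Group G] [Finite G] (N : Subgroup G)
    [N.Normal] (y : G ⧸ N) (hy : (orderOf y).Coprime p) :
    ∃ x : G, (x : G ⧸ N) = y ∧ (orderOf x).Coprime p := by
  obtain ⟨g, rfl⟩ := QuotientGroup.mk_surjective y
  obtain ⟨a, m, hm, hgm⟩ :=
    Nat.exists_eq_pow_mul_and_not_dvd (orderOf_pos g).ne' p hp.ne_one
  have hcop : (p ^ a).Coprime (orderOf (g : G ⧸ N)) := Nat.Coprime.pow_left a hy.symm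
  obtain ⟨j, hj⟩ := exists_pow_eq_self_of_coprime hcop
  refine ⟨(g ^ p ^ a) ^ j, ?_, ?_⟩
  · rw [QuotientGroup.mk_pow, QuotientGroup.mk_pow]; exact hj
  · have h1 : orderOf (g ^ p ^ a) = m := by
      rw [orderOf_pow_of_dvd (pow_ne_zero a hp.ne_zero) (hgm ▸ Dvd.intro _ rfl), hgm]
      exact Nat.mul_div_cancel_left m (pow_pos hp.pos a)
    have h2 : orderOf ((g ^ p ^ a) ^ j) ∣ m := h1 ▸ orderOf_pow_dvd j
    exact Nat.Coprime.coprime_dvd_left h2 ((Nat.Prime.coprime_iff_not_dvd hp).mpr hm).symm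

theorem Q_quotient {p : ℕ} (hp : p.Prime) {G : Type*} [Group G] [Finite G] (N : Subgroup G)
    [N.Normal] (h : Q p G) : Q p (G ⧸ N) := by
  intro y hy
  obtain ⟨x, rfl, hx⟩ := exists_lift hp N y hy
  obtain ⟨k, hk⟩ := h x hx
  have h1 : (Subgroup.centralizer ({x} : Set G)).map (QuotientGroup.mk' N) ≤
      Subgroup.centralizer ({(x : G ⧸ N)} : Set (G ⧸ N)) := by
    rintro _ ⟨c, hc, rfl⟩
    have hc' : c ∈ Subgroup.centralizer ({x} : Set G) := hc
    rw [Subgroup.mem_centralizer_iff] at hc' ⊢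
    intro z hz
    rw [Set.mem_singleton_iff] at hz
    subst hz
    have := hc' x rfl
    show (x : G ⧸ N) * (c : G ⧸ N) = (c : G ⧸ N) * (x : G ⧸ N)
    rw [← QuotientGroup.mk_mul, ← QuotientGroup.mk_mul, this]
  have h2 := (Subgroup.index_dvd_of_le h1).trans
    (Subgroup.index_map_dvd _ (QuotientGroup.mk'_surjective N))
  rw [hk] at h2
  exact dvd_pow_aux hp h2

theorem Q'_subgroup {p : ℕ} (hp : p.Prime) {G : Type*} [Group G] [Finite G] (N : Subgroup G)
    [N.Normal] (h : Q' p G) : Q' p N := by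
  obtain ⟨H, hc, hH, k, hk⟩ := h
  refine ⟨H.subgroupOf N, ?_, ?_, ?_⟩
  · intro a ha b hb
    exact Subtype.ext (hc a ha b hb)
  · exact Nat.Coprime.coprime_dvd_left
      (Subgroup.card_comap_dvd_of_injective H N.subtype N.subtype_injective) hH
  · have h2 : (H.subgroupOf N).index = H.relIndex N := rfl
    rw [h2, Cfsg.Agent.S4309.relIndex_eq_relIndex_sup]
    exact dvd_pow_aux hp (hk ▸ Subgroup.relIndex_dvd_index_of_le le_sup_left)

theorem Q'_quotient {p : ℕ} (hp : p.Prime) {G : Type*} [Group G] [Finite G] (N : Subgroup G)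
    [N.Normal] (h : Q' p G) : Q' p (G ⧸ N) := by
  obtain ⟨H, hc, hH, k, hk⟩ := h
  refine ⟨H.map (QuotientGroup.mk' N), ?_, ?_, ?_⟩
  · rintro _ ⟨a, ha, rfl⟩ _ ⟨b, hb, rfl⟩
    rw [← map_mul, ← map_mul, hc a ha b hb]
  · exact Nat.Coprime.coprime_dvd_left (Subgroup.card_map_dvd H _) hH
  · exact dvd_pow_aux hp (hk ▸ Subgroup.index_map_dvd H (QuotientGroup.mk'_surjective N))

theorem solvable_of_normal {G : Type*} [Group G] (N : Subgroup G) [N.Normal]
    (h1 : Group.IsSolvable N) (h2 : Group.IsSolvable (G ⧸ N)) : Group.IsSolvable G :=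
  Group.isSolvable_of_ker_le_range N.subtype (QuotientGroup.mk' N) (by simp)

theorem simple_or {G : Type*} [Group G] [Nontrivial G] :
    (∃ N : Subgroup G, N.Normal ∧ N ≠ ⊥ ∧ N ≠ ⊤) ∨ IsSimpleGroup G := by
  by_cases h : ∃ N : Subgroup G, N.Normal ∧ N ≠ ⊥ ∧ N ≠ ⊤
  · exact Or.inl h
  · right
    push Not at h
    exact
      { exists_pair_ne := exists_pair_ne G
        eq_bot_or_eq_top_of_normal := fun N hN => by
          by_cases hb : N = ⊥
          · exact Or.inl hb
          · exact Or.inr (h N hN hb) }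

theorem solvable_induction (P : ∀ (G : Type u) [Group G], Prop)
    (hsub : ∀ (G : Type u) [Group G] [Finite G] (N : Subgroup G) [N.Normal], P G → P N)
    (hquot : ∀ (G : Type u) [Group G] [Finite G] (N : Subgroup G) [N.Normal], P G → P (G ⧸ N))
    (hsimple : ∀ (G : Type u) [Group G] [Finite G] [IsSimpleGroup G], P G → Group.IsSolvable G) :
    ∀ n : ℕ, ∀ (G : Type u) [Group G] [Finite G], Nat.card G = n → P G → Group.IsSolvable G := by
  intro n
  induction n using Nat.strong_induction_on with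
  | _ n ih =>
    intro G _ _ hn hP
    rcases subsingleton_or_nontrivial G with hs | hnt
    · infer_instance
    · rcases simple_or (G := G) with ⟨N, hN, hb, ht⟩ | hsimp
      · haveI := hN
        have c1 : Nat.card N < n := by
          rw [← hn]
          exact lt_of_le_of_ne (Subgroup.card_le_card_group N)
            (fun h => ht (Subgroup.eq_top_of_card_eq N h))
        have c2 : Nat.card (G ⧸ N) < n := by
          rw [← hn, ← Subgroup.index_eq_card]
          have h1 := Subgroup.card_mul_index N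
          have h2 : 1 < Nat.card N := (Subgroup.one_lt_card_iff_ne_bot N).mpr hb
          have h3 : 0 < N.index := Nat.pos_of_ne_zero Subgroup.index_ne_zero_of_finite
          nlinarith
        exact solvable_of_normal N (ih _ c1 N rfl (hsub G N hP))
          (ih _ c2 (G ⧸ N) rfl (hquot G N hP))
      · exact hsimple G hP

theorem simple_case {p : ℕ} (hp : p.Prime) {G : Type u} [Group G] [Finite G] [IsSimpleGroup G]
    (h : (∃ k : ℕ, Nat.card G = p ^ k) ∨ ∃ g : G, g ≠ 1 ∧
      ∃ k : ℕ, (Subgroup.centralizer ({g} : Set G)).index = p ^ k) :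
    Group.IsSolvable G := by
  rcases h with ⟨k, hk⟩ | ⟨g, hg, k, hk⟩
  · haveI : Fact p.Prime := ⟨hp⟩
    have : Group.IsNilpotent G := (IsPGroup.of_card hk).isNilpotent
    infer_instance
  · have hpr := Cfsg.Agent.Helper24.prime_card_of_simple_of_primepow_class p k hp g hg hk
    haveI : Fact (Nat.card G).Prime := ⟨hpr⟩
    have : Group.IsNilpotent G :=
      (IsPGroup.of_card (p := Nat.card G) (n := 1) (pow_one _).symm).isNilpotent
    infer_instance

theorem pgroup_or_exists {p : ℕ} (hp : p.Prime) {G : Type*} [Group G] [Finite G] :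
    (∃ k : ℕ, Nat.card G = p ^ k) ∨ ∃ g : G, g ≠ 1 ∧ (orderOf g).Coprime p := by
  by_cases h : ∀ q : ℕ, q.Prime → q ∣ Nat.card G → q = p
  · left
    exact ⟨_, Nat.eq_prime_pow_of_unique_prime_dvd Nat.card_pos.ne'
      (fun {d} hd hdvd => h d hd hdvd)⟩
  · right
    push Not at h
    obtain ⟨q, hq, hdvd, hne⟩ := h
    haveI : Fact q.Prime := ⟨hq⟩
    obtain ⟨g, hg⟩ := exists_prime_orderOf_dvd_card' q hdvd
    refine ⟨g, ?_, ?_⟩
    · rintro rfl
      rw [orderOf_one] at hg
      exact hq.ne_one hg.symm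
    · rw [hg]; exact (Nat.coprime_primes hq hp).mpr hne

theorem solvable_of_Q {p : ℕ} (hp : p.Prime) (G : Type u) [Group G] [Finite G] (h : Q p G) :
    Group.IsSolvable G := by
  refine solvable_induction (fun G _ => Q p G) (fun G _ _ N _ h => Q_subgroup hp N h)
    (fun G _ _ N _ h => Q_quotient hp N h) ?_ _ G rfl h
  intro G _ _ _ hQ
  apply simple_case hp
  rcases pgroup_or_exists hp (G := G) with h1 | ⟨g, hg, hgo⟩
  · exact Or.inl h1
  · exact Or.inr ⟨g, hg, hQ g hgo⟩

theorem solvable_of_Q' {p : ℕ} (hp : p.Prime) (G : Type u) [Group G] [Finite G] (h : Q' p G) :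
    Group.IsSolvable G := by
  refine solvable_induction (fun G _ => Q' p G) (fun G _ _ N _ h => Q'_subgroup hp N h)
    (fun G _ _ N _ h => Q'_quotient hp N h) ?_ _ G rfl h
  intro G _ _ _ hQ
  apply simple_case hp
  obtain ⟨H, hc, hH, k, hk⟩ := hQ
  by_cases hb : H = ⊥
  · left
    refine ⟨k, ?_⟩
    rw [← hk, hb, Subgroup.index_bot]
  · right
    obtain ⟨g, hg1⟩ := (Subgroup.ne_bot_iff_exists_ne_one).mp hb
    refine ⟨(g : G), fun h => hg1 (Subtype.ext h), ?_⟩
    have hle : H ≤ Subgroup.centralizer ({(g : G)} : Set G) := by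
      intro y hy
      rw [Subgroup.mem_centralizer_iff]
      intro z hz
      rw [Set.mem_singleton_iff] at hz
      subst hz
      exact hc _ g.2 y hy
    exact dvd_pow_aux hp (hk ▸ Subgroup.index_dvd_of_le hle)

theorem comm_of_pCore_bot {p : ℕ} [Fact p.Prime] {G : Type*} [Group G] [Finite G]
    [Group.IsSolvable G] (h : Q p G) (hR : Cfsg.pCore p G = ⊥) (a b : G)
    (ha : (orderOf a).Coprime p) (hb : (orderOf b).Coprime p) : a * b = b * a := by
  have hp := (Fact.out : p.Prime)
  haveI hKn : (Cfsg.pPrimeCore p G).Normal := Cfsg.Agent.Helper23.pPrimeCore_normal_fin p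
  have hKc : (Nat.card (Cfsg.pPrimeCore p G)).Coprime p :=
    Cfsg.Agent.Helper23.pPrimeCore_coprime p
  have h1 : ∀ x : G, (orderOf x).Coprime p →
      Cfsg.pPrimeCore p G ≤ Subgroup.centralizer ({x} : Set G) := by
    intro x hx
    obtain ⟨k, hk⟩ := h x hx
    rw [← Subgroup.relIndex_eq_one]
    have d1 : (Subgroup.centralizer ({x} : Set G)).relIndex (Cfsg.pPrimeCore p G) ∣ p ^ k := by
      rw [← hk, Cfsg.Agent.S4309.relIndex_eq_relIndex_sup]
      exact Subgroup.relIndex_dvd_index_of_le le_sup_left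
    have d2 : (Subgroup.centralizer ({x} : Set G)).relIndex (Cfsg.pPrimeCore p G) ∣
        Nat.card (Cfsg.pPrimeCore p G) := Subgroup.relIndex_dvd_card _ _
    exact Nat.Coprime.eq_one_of_dvd
      (Nat.Coprime.coprime_dvd_left d2 (Nat.Coprime.pow_right k hKc)) d1
  have h2 : Subgroup.centralizer (Cfsg.pPrimeCore p G : Set G) ≤ Cfsg.pPrimeCore p G := by
    by_contra hnot
    obtain ⟨M, hMn, hMC, hMK, hMM⟩ := Cfsg.Agent.Helper1.exists_normal_commutator_le
      (Subgroup.centralizer (Cfsg.pPrimeCore p G : Set G)) (Cfsg.pPrimeCore p G) hnot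
    have hnil : Group.IsNilpotent M := by
      apply Cfsg.Agent.Helper1.isNilpotent_of_commutator_commutator_eq_bot
      rw [Subgroup.commutator_eq_bot_iff_le_centralizer]
      exact hMM.trans (Subgroup.le_centralizer_iff.mp hMC)
    have hMcop : (Nat.card M).Coprime p := by
      rw [Nat.coprime_comm, Nat.Prime.coprime_iff_not_dvd hp]
      intro hdvd
      have P : Sylow p M := default
      have hPn := Cfsg.Agent.Helper1.sylow_of_normal_nilpotent_normal hMn hnil p P
      have hPp : IsPGroup p ((P : Subgroup M).map M.subtype) := P.2.map _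
      have hle := Cfsg.Agent.Helper23.le_pCore hPn hPp
      rw [hR, le_bot_iff] at hle
      have hPbot : (P : Subgroup M) = ⊥ := by
        rw [eq_bot_iff]
        intro z hz
        have hz' : (M.subtype z) ∈ (P : Subgroup M).map M.subtype :=
          Subgroup.mem_map_of_mem _ hz
        rw [hle, Subgroup.mem_bot] at hz'
        exact Subgroup.mem_bot.mpr (Subtype.ext hz')
      exact P.ne_bot_of_dvd_card hdvd hPbot
    exact hMK (Cfsg.Agent.Helper23.le_pPrimeCore hMn hMcop)
  have ha' : a ∈ Cfsg.pPrimeCore p G := h2 (by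
    rw [Subgroup.mem_centralizer_iff]
    intro z hz
    have h3 := h1 a ha hz
    rw [Subgroup.mem_centralizer_iff] at h3
    exact (h3 a rfl).symm)
  have h4 := h1 b hb ha'
  rw [Subgroup.mem_centralizer_iff] at h4
  exact (h4 b rfl).symm

theorem comm_of_Q {p : ℕ} [Fact p.Prime] :
    ∀ n : ℕ, ∀ (G : Type u) [Group G] [Finite G] [Group.IsSolvable G], Nat.card G = n → Q p G →
      ∀ H : Subgroup G, (Nat.card H).Coprime p → ∀ a ∈ H, ∀ b ∈ H, a * b = b * a := by
  have hp := (Fact.out : p.Prime)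
  intro n
  induction n using Nat.strong_induction_on with
  | _ n ih =>
    intro G _ _ _ hn hQ H hH a ha b hb
    by_cases hR : Cfsg.pCore p G = ⊥
    · have hoa : (orderOf a).Coprime p := Nat.Coprime.coprime_dvd_left (by
        have := orderOf_dvd_natCard (⟨a, ha⟩ : H)
        rwa [Subgroup.orderOf_mk] at this) hH
      have hob : (orderOf b).Coprime p := Nat.Coprime.coprime_dvd_left (by
        have := orderOf_dvd_natCard (⟨b, hb⟩ : H)
        rwa [Subgroup.orderOf_mk] at this) hH
      exact comm_of_pCore_bot hQ hR a b hoa hob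
    · haveI hRn : (Cfsg.pCore p G).Normal := Cfsg.Agent.Helper23.pCore_normal_fin p
      have hRp : IsPGroup p (Cfsg.pCore p G) := Cfsg.Agent.Helper23.pCore_isPGroup p
      have c : Nat.card (G ⧸ Cfsg.pCore p G) < n := by
        rw [← hn, ← Subgroup.index_eq_card]
        have h1 := Subgroup.card_mul_index (Cfsg.pCore p G)
        have h2 : 1 < Nat.card (Cfsg.pCore p G) := (Subgroup.one_lt_card_iff_ne_bot _).mpr hR
        have h3 : 0 < (Cfsg.pCore p G).index :=
          Nat.pos_of_ne_zero Subgroup.index_ne_zero_of_finite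
        nlinarith
      haveI hsolv : Group.IsSolvable (G ⧸ Cfsg.pCore p G) :=
        Group.isSolvable_of_surjective (QuotientGroup.mk'_surjective (Cfsg.pCore p G))
      have key := ih _ c (G ⧸ Cfsg.pCore p G) rfl (Q_quotient hp (Cfsg.pCore p G) hQ)
        (H.map (QuotientGroup.mk' (Cfsg.pCore p G)))
        (Nat.Coprime.coprime_dvd_left (Subgroup.card_map_dvd H _) hH)
        (QuotientGroup.mk' (Cfsg.pCore p G) a) (Subgroup.mem_map_of_mem _ ha)
        (QuotientGroup.mk' (Cfsg.pCore p G) b) (Subgroup.mem_map_of_mem _ hb)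
      have hmem : (a * b)⁻¹ * (b * a) ∈ Cfsg.pCore p G := by
        rw [← QuotientGroup.eq]
        simpa using key
      have hmemH : (a * b)⁻¹ * (b * a) ∈ H :=
        H.mul_mem (H.inv_mem (H.mul_mem ha hb)) (H.mul_mem hb ha)
      have hinf : Cfsg.pCore p G ⊓ H = ⊥ := by
        obtain ⟨k, hk⟩ := hRp.exists_card_eq
        apply Disjoint.eq_bot
        apply Subgroup.disjoint_of_coprime_natCard
        rw [hk]
        exact Nat.Coprime.pow_left k hH.symm
      have h1 : (a * b)⁻¹ * (b * a) = 1 := by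
        have : (a * b)⁻¹ * (b * a) ∈ Cfsg.pCore p G ⊓ H := ⟨hmem, hmemH⟩
        rw [hinf] at this
        exact Subgroup.mem_bot.mp this
      exact inv_mul_eq_one.mp h1

theorem forward {p : ℕ} (hp : p.Prime) {G : Type u} [Group G] [Finite G] (h : Q p G) :
    ∃ H : Subgroup G, IsMulCommutative H ∧ ¬ p ∣ Nat.card H ∧ ∃ k : ℕ, H.index = p ^ k := by
  haveI : Fact p.Prime := ⟨hp⟩
  haveI : Group.IsSolvable G := solvable_of_Q hp G h
  obtain ⟨a, m, hm, hcard⟩ :=
    Nat.exists_eq_pow_mul_and_not_dvd (Nat.card_pos (α := G)).ne' p hp.ne_one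
  have hmp : m.Coprime p := ((Nat.Prime.coprime_iff_not_dvd hp).mpr hm).symm
  obtain ⟨⟨H, hH⟩, -⟩ := Cfsg.Agent.Helper1.hall_aux (Nat.card G) G rfl m (p ^ a)
    (by rw [hcard]; ring) (Nat.Coprime.pow_right a hmp)
  refine ⟨H, ?_, by rw [hH]; exact hm, a, ?_⟩
  · have hc := comm_of_Q (Nat.card G) G rfl h H (by rw [hH]; exact hmp)
    exact ⟨⟨fun x y => Subtype.ext (hc x x.2 y y.2)⟩⟩
  · have h1 := Subgroup.card_mul_index H
    rw [hH, hcard, mul_comm] at h1
    exact Nat.eq_of_mul_eq_mul_right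
      (Nat.pos_of_ne_zero (by rintro rfl; exact hm (dvd_zero p))) h1

theorem backward {p : ℕ} (hp : p.Prime) {G : Type u} [Group G] [Finite G] (h : Q' p G) (x : G)
    (hx : (orderOf x).Coprime p) : ∃ k : ℕ, (ConjClasses.mk x).carrier.ncard = p ^ k := by
  haveI : Group.IsSolvable G := solvable_of_Q' hp G h
  obtain ⟨H, hc, hH, k, hk⟩ := h
  have hcard : Nat.card G = Nat.card H * p ^ k := by rw [← hk, Subgroup.card_mul_index]
  obtain ⟨-, hdom⟩ := Cfsg.Agent.Helper1.hall_aux (Nat.card G) G rfl (Nat.card H) (p ^ k) hcard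
    (Nat.Coprime.pow_right k hH)
  obtain ⟨g, hg⟩ := hdom H (Subgroup.zpowers x) rfl
    (by rw [Nat.card_zpowers]; exact Nat.Coprime.pow_right k hx)
  have hx' : g⁻¹ * x * g ∈ H := hg x (Subgroup.mem_zpowers x)
  have heq : ConjClasses.mk x = ConjClasses.mk (g⁻¹ * x * g) := by
    rw [ConjClasses.mk_eq_mk_iff_isConj, isConj_iff]
    exact ⟨g⁻¹, by simp⟩
  rw [heq, ncard_carrier]
  have hle : H ≤ Subgroup.centralizer ({g⁻¹ * x * g} : Set G) := by
    intro y hy
    rw [Subgroup.mem_centralizer_iff]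
    intro z hz
    rw [Set.mem_singleton_iff] at hz
    subst hz
    exact hc _ hx' y hy
  exact dvd_pow_aux hp (hk ▸ Subgroup.index_dvd_of_le hle)


/-- Let G be a finite group and p a prime. Every conjugacy class of p-regular elements of G (elements of order prime to p) has p-power size if and only if G has an abelian p-complement, i.e. an abelian subgroup of order prime to p and p-power index. -/
theorem result {G : Type*} [Group G] [Finite G] {p : ℕ} (hp : p.Prime) :
    (∀ x : G, (orderOf x).Coprime p → ∃ k : ℕ, (ConjClasses.mk x).carrier.ncard = p ^ k) ↔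
    (∃ H : Subgroup G, IsMulCommutative H ∧ ¬ p ∣ Nat.card H ∧ ∃ k : ℕ, H.index = p ^ k) := by
  constructor
  · intro h
    have hQ : Q p G := fun x hx => by
      obtain ⟨k, hk⟩ := h x hx
      exact ⟨k, by rw [← ncard_carrier]; exact hk⟩
    exact forward hp hQ
  · rintro ⟨H, hc, hH, k, hk⟩ x hx
    refine backward hp ⟨H, ?_, ?_, k, hk⟩ x hx
    · intro a ha b hb
      have := hc.is_comm.comm (⟨a, ha⟩ : H) ⟨b, hb⟩
      simpa using congrArg Subtype.val this
    · exact ((Nat.Prime.coprime_iff_not_dvd hp).mpr hH).symm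

end Cfsg.Agent.S4034
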