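import Cfsg.Statements.S4035
import Cfsg.Agent.Helper20.Basic
import Cfsg.Agent.Helper20.TI
import Cfsg.Agent.Helper20.Union
import Cfsg.Agent.S3986
import Mathlib

set_option autoImplicit false
open Cfsg
open scoped Pointwise

namespace Cfsg.Agent.S4035

open Cfsg.Agent.Helper20

/-- Let G be a finite group and p a prime such that p divides the size of no conjugacy class of p-regular elements (elements of order prime to p). Then G is the internal direct product of a Sylow p-subgroup P and a normal subgroup H of order prime to p: P is normal, P ⊓ H = 1 and PH = G. -/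
theorem result {G : Type*} [Group G] [Finite G] {p : ℕ} [Fact p.Prime]
    (h : ∀ x : G, (orderOf x).Coprime p → ¬ p ∣ (ConjClasses.mk x).carrier.ncard) (P : Sylow p G) :
    (P : Subgroup G).Normal ∧ ∃ H : Subgroup G, H.Normal ∧ ¬ p ∣ Nat.card H ∧
      (P : Subgroup G) ⊓ H = ⊥ ∧ (P : Subgroup G) ⊔ H = ⊤ := by
  have hp : p.Prime := Fact.out
  obtain ⟨A, r, hr, hAr, hpow⟩ := exists_card_eq_pow_mul G p hp
  have hrcop : Nat.Coprime r p := Nat.coprime_comm.mp ((Nat.Prime.coprime_iff_not_dvd hp).mpr hr)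
  have step1 : ∀ y : G, (orderOf y).Coprime p →
      ∃ P₁ : Sylow p G, (P₁ : Subgroup G) ≤ Subgroup.centralizer ({y} : Set G) := by
    intro y hy
    apply exists_sylow_le_centralizer
    rw [← ncard_carrier_eq]
    exact h y hy
  have hPn : (P : Subgroup G).Normal := by
    rw [← Subgroup.normalizer_eq_top_iff]
    apply eq_top_of_forall_conj_mem
    intro x
    have hyord : (orderOf (x ^ (p ^ A))).Coprime p := by
      have h1 : (x ^ (p ^ A)) ^ r = 1 := by rw [← pow_mul, ← hAr]; exact pow_card_eq_one'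
      exact Nat.Coprime.coprime_dvd_left (orderOf_dvd_of_pow_eq_one h1) hrcop
    obtain ⟨P₁, hP₁⟩ := step1 _ hyord
    have htC : x ^ r ∈ Subgroup.centralizer ({x ^ (p ^ A)} : Set G) := by
      rw [Subgroup.mem_centralizer_iff]
      intro z hz; rw [Set.mem_singleton_iff] at hz; rw [hz]
      rw [← pow_add, ← pow_add, add_comm]
    have hzp : IsPGroup p ↥(Subgroup.zpowers
        (⟨x ^ r, htC⟩ : ↥(Subgroup.centralizer ({x ^ (p ^ A)} : Set G)))) := by
      apply isPGroup_zpowers_of_pow_eq_one p _ A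
      apply Subtype.ext
      rw [Subgroup.coe_pow]
      exact hpow x
    obtain ⟨c, hc⟩ := exists_conj_mem_sylow p (P₁.subtype hP₁) _ hzp
    have hc1 := hc _ (Subgroup.mem_zpowers _)
    rw [Sylow.coe_subtype, Subgroup.mem_subgroupOf] at hc1
    have hc2 : (c : G)⁻¹ * x ^ r * (c : G) ∈ (P₁ : Subgroup G) := hc1
    have htP' : x ^ r ∈ (((c : G) • P₁ : Sylow p G) : Subgroup G) := by
      rw [Sylow.coe_subgroup_smul, mem_conj_smul]; exact hc2
    have hP'C : (((c : G) • P₁ : Sylow p G) : Subgroup G) ≤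
        Subgroup.centralizer ({x ^ (p ^ A)} : Set G) := by
      intro w hw
      rw [Sylow.coe_subgroup_smul, mem_conj_smul] at hw
      have h1 := hP₁ hw
      have e : w = (c : G) * ((c : G)⁻¹ * w * (c : G)) * (c : G)⁻¹ := by group
      rw [e]
      exact Subgroup.mul_mem _ (Subgroup.mul_mem _ c.2 h1) (Subgroup.inv_mem _ c.2)
    have hyN : x ^ (p ^ A) ∈ Subgroup.normalizer
        ((((c : G) • P₁ : Sylow p G) : Subgroup G) : Set G) := by
      apply Subgroup.centralizer_le_normalizer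
      rw [Subgroup.mem_centralizer_iff]
      intro w hw
      have h1 := hP'C hw
      rw [Subgroup.mem_centralizer_iff] at h1
      exact (h1 _ (Set.mem_singleton _)).symm
    have htN : x ^ r ∈ Subgroup.normalizer
        ((((c : G) • P₁ : Sylow p G) : Subgroup G) : Set G) := Subgroup.le_normalizer htP'
    have hxN := mem_of_pow_mem_of_pow_mem_of_coprime _ x _ _ hyN htN
      (Nat.Coprime.pow_left _ ((Nat.Prime.coprime_iff_not_dvd hp).mpr hr))
    obtain ⟨g, hg⟩ := MulAction.exists_smul_eq G P ((c : G) • P₁)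
    refine ⟨g, ?_⟩
    rw [← hg, Sylow.coe_subgroup_smul] at hxN
    rw [Subgroup.mem_normalizer_iff] at hxN ⊢
    intro w
    have h1 := hxN (g * w * g⁻¹)
    rw [mem_conj_smul, mem_conj_smul] at h1
    have e1 : g⁻¹ * (g * w * g⁻¹) * g = w := by group
    have e2 : g⁻¹ * (x * (g * w * g⁻¹) * x⁻¹) * g = g⁻¹ * x * g * w * (g⁻¹ * x * g)⁻¹ := by group
    rw [e1, e2] at h1
    exact h1
  haveI := hPn
  have hcomm : ∀ x y : G, (∃ a : ℕ, orderOf x = p ^ a) →
      (∃ q b : ℕ, q.Prime ∧ q ≠ p ∧ orderOf y = q ^ b) → x * y = y * x := by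
    rintro x y ⟨a, ha⟩ ⟨q, b, hq, hqp, hb⟩
    have hyord : (orderOf y).Coprime p := by
      rw [hb]; exact Nat.Coprime.pow_left _ ((Nat.coprime_primes hq hp).mpr hqp)
    obtain ⟨P₁, hP₁⟩ := step1 y hyord
    have hP₁eq : P₁ = P := by
      obtain ⟨g, hg⟩ := MulAction.exists_smul_eq G P P₁
      rw [← hg]
      exact Sylow.smul_eq_of_normal
    rw [hP₁eq] at hP₁
    have hxP : x ∈ (P : Subgroup G) := by
      apply mem_sylow_of_mem_normalizer p P x a
      · rw [← ha]; exact pow_orderOf_eq_one x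
      · rw [Subgroup.normalizer_eq_top_iff.mpr hPn]; exact Subgroup.mem_top _
    have h1 := hP₁ hxP
    rw [Subgroup.mem_centralizer_iff] at h1
    exact (h1 y (Set.mem_singleton y)).symm
  obtain ⟨P₀, K, hP₀n, hKn, hinf, hsup⟩ := (Cfsg.Agent.S3986.result p).mpr hcomm
  have hP₀ : P₀ = P := by
    obtain ⟨g, hg⟩ := MulAction.exists_smul_eq G P P₀
    rw [← hg]; exact Sylow.smul_eq_of_normal
  rw [hP₀] at hinf hsup
  refine ⟨hPn, K, hKn, ?_, hinf, hsup⟩
  intro hdvd
  obtain ⟨k, hk⟩ := exists_prime_orderOf_dvd_card' p hdvd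
  have hkp : (k : G) ^ (p ^ 1) = 1 := by
    have h1 : k ^ p = 1 := by rw [← hk]; exact pow_orderOf_eq_one k
    have h2 := congrArg Subtype.val h1
    rw [Subgroup.coe_pow] at h2
    rw [pow_one]; exact h2
  have hkP : (k : G) ∈ (P : Subgroup G) := by
    apply mem_sylow_of_mem_normalizer p P _ 1 hkp
    rw [Subgroup.normalizer_eq_top_iff.mpr hPn]; exact Subgroup.mem_top _
  have hk1 : (k : G) ∈ (P : Subgroup G) ⊓ K := Subgroup.mem_inf.mpr ⟨hkP, k.2⟩
  rw [hinf, Subgroup.mem_bot] at hk1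
  have hk2 : k = 1 := Subtype.ext hk1
  rw [hk2, orderOf_one] at hk
  exact hp.one_lt.ne hk

end Cfsg.Agent.S4035
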