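import Cfsg.Statements.S4039
import Mathlib
import Cfsg.Agent.Helper21.NilMax
import Cfsg.Agent.Helper10.NpcMin
-- import your own Cfsg.Agent.* helpers here

set_option autoImplicit false
open Cfsg

namespace Cfsg.Agent.S4039

universe u

theorem solvable_aux : ∀ (n : ℕ) (G : Type u) [Group G] [Finite G], Nat.card G = n →
    ∀ M : Subgroup G, IsCoatom M → Group.IsNilpotent ↥M →
    Group.nilpotencyClass ↥M ≤ 2 → Group.IsSolvable G := by
  intro n
  induction n using Nat.strong_induction_on with
  | _ n ih =>
  intro G _ _ hn M hmax hnil hcl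
  haveI := hnil
  have hMsolv : Group.IsSolvable ↥M := inferInstance
  have hcent : ∀ a b c : ↥M, (a * b * a⁻¹ * b⁻¹) * c = c * (a * b * a⁻¹ * b⁻¹) := by
    intro a b c
    have h1 : Subgroup.upperCentralSeries ↥M 2 = ⊤ := by
      rw [eq_top_iff, ← Subgroup.upperCentralSeries_nilpotencyClass (G := ↥M)]
      exact Subgroup.upperCentralSeries_mono _ hcl
    have h2 : a ∈ Subgroup.upperCentralSeries ↥M (1 + 1) := by rw [h1]; trivial
    have h3 := (Subgroup.mem_upperCentralSeries_succ_iff).1 h2 b
    rw [Subgroup.upperCentralSeries_one, Subgroup.mem_center_iff] at h3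
    have := h3 c
    rw [commutatorElement_def] at this
    exact this.symm
  by_cases hcore : M.normalCore = ⊥
  swap
  · have hCM : M.normalCore ≤ M := Subgroup.normalCore_le M
    have hcard : Nat.card (G ⧸ M.normalCore) < n := by
      rw [← hn]; exact Cfsg.Agent.Helper10.card_quot_lt_of_ne_bot hcore
    have hker : (QuotientGroup.mk' M.normalCore).ker ≤ M := by
      rw [QuotientGroup.ker_mk']; exact hCM
    have hsurj := QuotientGroup.mk'_surjective M.normalCore
    have hmax' : IsCoatom (M.map (QuotientGroup.mk' M.normalCore)) := by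
      constructor
      · intro h
        apply hmax.1
        have h2 := Subgroup.comap_map_eq_self hker
        rw [h, Subgroup.comap_top] at h2
        exact h2.symm
      · intro X hX
        have h1 : M ≤ X.comap (QuotientGroup.mk' M.normalCore) :=
          (Subgroup.map_le_iff_le_comap).1 hX.le
        have h3 : (X.comap (QuotientGroup.mk' M.normalCore)).map
            (QuotientGroup.mk' M.normalCore) = X :=
          Subgroup.map_comap_eq_self_of_surjective hsurj X
        have h2 : M ≠ X.comap (QuotientGroup.mk' M.normalCore) := by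
          intro h
          rw [← h] at h3
          exact hX.ne h3
        have h4 := hmax.2 _ (lt_of_le_of_ne h1 h2)
        rw [h4, Subgroup.map_top_of_surjective _ hsurj] at h3
        exact h3.symm
    haveI : Group.IsNilpotent ↥(M.map (QuotientGroup.mk' M.normalCore)) :=
      Group.nilpotent_of_surjective ((QuotientGroup.mk' M.normalCore).subgroupMap M)
        (MonoidHom.subgroupMap_surjective _ _)
    have hcl' : Group.nilpotencyClass ↥(M.map (QuotientGroup.mk' M.normalCore)) ≤ 2 :=
      le_trans (Group.nilpotencyClass_le_of_surjective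
        ((QuotientGroup.mk' M.normalCore).subgroupMap M)
        (MonoidHom.subgroupMap_surjective _ _)) hcl
    haveI : Group.IsSolvable (G ⧸ M.normalCore) :=
      ih _ hcard (G ⧸ M.normalCore) rfl _ hmax' inferInstance hcl'
    haveI : Group.IsSolvable ↥M.normalCore := Cfsg.Agent.Lead.isSolvable_of_le hCM hMsolv
    exact Group.isSolvable_of_ker_le_range M.normalCore.subtype (QuotientGroup.mk' M.normalCore)
      (by rw [QuotientGroup.ker_mk', Subgroup.range_subtype])
  · refine Cfsg.Agent.Helper21.solvable_of_npc M hmax hnil ?_
    intro p hp hpM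
    haveI : Fact p.Prime := ⟨hp⟩
    obtain ⟨S, hSM, hSbot, hNS, hfac⟩ :=
      Cfsg.Agent.Helper21.sylow_of_nilpotent_maximal M hmax hnil hcore p hpM
    refine ⟨?_, hfac⟩
    have hnilN : Group.IsNilpotent ↥(Subgroup.normalizer ((S : Subgroup G) : Set G)) := by
      rw [hNS]; exact hnil
    have hact := Cfsg.Agent.Helper21.nilpotent_act S hnilN
    refine Cfsg.Agent.Helper21.npc_class_two p S ?_ hact ?_
    · intro a ha b hb c hc
      have := hcent ⟨a, hSM ha⟩ ⟨b, hSM hb⟩ ⟨c, hSM hc⟩
      exact congrArg Subtype.val this
    · intro X hXS hXbot hSX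
      rw [hNS]
      have hMX : M ≤ Subgroup.normalizer (X : Set G) := by
        intro m hm
        have hmN : m ∈ Subgroup.normalizer ((S : Subgroup G) : Set G) := by rw [hNS]; exact hm
        have key : ∀ m' ∈ Subgroup.normalizer ((S : Subgroup G) : Set G), ∀ d ∈ X,
            m' * d * m'⁻¹ ∈ X := by
          intro m' hm' d hd
          obtain ⟨s, hs, hsd⟩ := hact m' hm' d (hXS hd)
          rw [hsd]
          exact (Subgroup.mem_normalizer_iff.1 (hSX hs) d).1 hd
        rw [Subgroup.mem_normalizer_iff]
        intro d
        constructor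
        · exact key m hmN d
        · intro hd
          have := key m⁻¹ (Subgroup.inv_mem _ hmN) _ hd
          have h2 : m⁻¹ * (m * d * m⁻¹) * m⁻¹⁻¹ = d := by group
          rwa [h2] at this
      exact (Cfsg.Agent.Helper21.normalizer_eq_of_le_max M hmax hcore X (hXS.trans hSM) hMX
        hXbot).le


/-- A finite group possessing a maximal subgroup that is nilpotent of class at most 2 is solvable. -/
theorem result {G : Type*} [Group G] [Finite G]
    (M : Subgroup G) (hmax : IsCoatom M) (hnil : Group.IsNilpotent M) (hcl : Group.nilpotencyClass ↥M ≤ 2) :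
    Group.IsSolvable G := by
  exact solvable_aux _ G rfl M hmax hnil hcl

end Cfsg.Agent.S4039
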