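import Cfsg.Statements.S4040
import Mathlib
import Cfsg.Agent.Helper21.Thompson
import Cfsg.Agent.S0023
import Cfsg.Agent.Helper10.NpcMin
-- import your own Cfsg.Agent.* helpers here

set_option autoImplicit false
open Cfsg

namespace Cfsg.Agent.S4040

universe u

/-- For a nilpotent maximal subgroup `M` with trivial core and an odd prime `p ∣ |M|`, the
group `G` has a normal `p`-complement and the Sylow `p`-subgroup of `M` is Sylow in `G`. -/
theorem npc_of_nilpotent_maximal {G : Type u} [Group G] [Finite G] (M : Subgroup G)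
    (hmax : IsCoatom M) (hnil : Group.IsNilpotent ↥M) (hcore : M.normalCore = ⊥) (p : ℕ)
    [hp : Fact p.Prime] (hp2 : p ≠ 2) (hpM : p ∣ Nat.card ↥M) :
    Cfsg.HasNormalPComplement p G ∧
      (Nat.card G).factorization p = (Nat.card ↥M).factorization p := by
  obtain ⟨P₀⟩ : Nonempty (Sylow p ↥M) := inferInstance
  haveI := hnil
  have hP₀n : (P₀ : Subgroup ↥M).Normal := inferInstance
  have hPM : (P₀ : Subgroup ↥M).map M.subtype ≤ M := Subgroup.map_subtype_le _
  have hPpg : IsPGroup p ↥((P₀ : Subgroup ↥M).map M.subtype) := P₀.isPGroup'.map M.subtype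
  have hPcard : Nat.card ↥((P₀ : Subgroup ↥M).map M.subtype) =
      p ^ (Nat.card ↥M).factorization p := by
    rw [Subgroup.card_map_of_injective M.subtype_injective]
    exact P₀.card_eq_multiplicity
  have hPbot : (P₀ : Subgroup ↥M).map M.subtype ≠ ⊥ := by
    intro h
    rw [h, Subgroup.card_bot] at hPcard
    have hpos : 0 < (Nat.card ↥M).factorization p :=
      hp.out.factorization_pos_of_dvd (Nat.card_pos (α := ↥M)).ne' hpM
    rcases Nat.pow_eq_one.1 hPcard.symm with h4 | h4
    · exact hp.out.one_lt.ne' h4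
    · omega
  have hMN : M ≤ Subgroup.normalizer (((P₀ : Subgroup ↥M).map M.subtype : Subgroup G) : Set G) := by
    intro m hm
    exact Cfsg.Agent.Lead.map_subtype_normalizer M (P₀ : Subgroup ↥M) ⟨m, hm⟩
      (by rw [Subgroup.normalizer_eq_top]; trivial)
  have hnorm_bot : ∀ X : Subgroup G, X ≤ M → Subgroup.normalizer (X : Set G) = ⊤ → X = ⊥ := by
    intro X hXM hX
    haveI : X.Normal := Subgroup.normalizer_eq_top_iff.1 hX
    have := (Subgroup.normal_le_normalCore (H := M) (N := X)).2 hXM
    rw [hcore] at this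
    exact le_bot_iff.1 this
  have hNP : Subgroup.normalizer (((P₀ : Subgroup ↥M).map M.subtype : Subgroup G) : Set G) = M := by
    rcases eq_or_lt_of_le hMN with h | h
    · exact h.symm
    · exact absurd (hnorm_bot _ hPM (hmax.2 _ h)) hPbot
  obtain ⟨S, hPS⟩ := hPpg.exists_le_sylow
  have hSP : (S : Subgroup G) = (P₀ : Subgroup ↥M).map M.subtype := by
    by_contra hne
    have hlt : ((P₀ : Subgroup ↥M).map M.subtype).subgroupOf (S : Subgroup G) < ⊤ := by
      rw [lt_top_iff_ne_top]
      intro h
      rw [Subgroup.subgroupOf_eq_top] at h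
      exact hne (le_antisymm h hPS)
    haveI : Group.IsNilpotent ↥(S : Subgroup G) := S.isPGroup'.isNilpotent
    have hnc := Group.normalizerCondition_of_isNilpotent (G := ↥(S : Subgroup G)) _ hlt
    obtain ⟨x, hxN, hxP⟩ := SetLike.exists_of_lt hnc
    have key : ∀ z : ↥(S : Subgroup G), z ∈ Subgroup.normalizer
        ((((P₀ : Subgroup ↥M).map M.subtype).subgroupOf (S : Subgroup G) : Subgroup _) : Set _) →
        ∀ y ∈ (P₀ : Subgroup ↥M).map M.subtype,
          (z : G) * y * (z : G)⁻¹ ∈ (P₀ : Subgroup ↥M).map M.subtype := by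
      intro z hz y hy
      have := (Subgroup.mem_normalizer_iff.1 hz ⟨y, hPS hy⟩).1 (Subgroup.mem_subgroupOf.2 hy)
      exact Subgroup.mem_subgroupOf.1 this
    have hxNG : (x : G) ∈ Subgroup.normalizer
        (((P₀ : Subgroup ↥M).map M.subtype : Subgroup G) : Set G) := by
      rw [Subgroup.mem_normalizer_iff]
      intro y
      constructor
      · exact key x hxN y
      · intro hy
        have := key x⁻¹ (Subgroup.inv_mem _ hxN) _ hy
        have h2 : ((x⁻¹ : ↥(S : Subgroup G)) : G) * ((x : G) * y * (x : G)⁻¹) *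
            ((x⁻¹ : ↥(S : Subgroup G)) : G)⁻¹ = y := by
          rw [Subgroup.coe_inv]; group
        rwa [h2] at this
    have hxM : (x : G) ∈ M := by rw [hNP] at hxNG; exact hxNG
    have hQpg : IsPGroup p ↥(((S : Subgroup G) ⊓ M).subgroupOf M) :=
      (S.isPGroup'.to_le inf_le_left).comap_subtype
    have hle : (P₀ : Subgroup ↥M) ≤ ((S : Subgroup G) ⊓ M).subgroupOf M := by
      intro y hy
      rw [Subgroup.mem_subgroupOf]
      exact ⟨hPS (Subgroup.mem_map_of_mem M.subtype hy), y.2⟩
    have heq := P₀.is_maximal' hQpg hle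
    apply hxP
    rw [Subgroup.mem_subgroupOf]
    have hmem : (⟨(x : G), hxM⟩ : ↥M) ∈ ((S : Subgroup G) ⊓ M).subgroupOf M :=
      Subgroup.mem_subgroupOf.2 ⟨x.2, hxM⟩
    rw [heq] at hmem
    exact Subgroup.mem_map_of_mem M.subtype hmem
  have hWS : Cfsg.Agent.Helper23.zjSub p true (S : Subgroup G) ≤ S :=
    Cfsg.Agent.Helper23.zjSub_le p true _
  have hSbot : (S : Subgroup G) ≠ ⊥ := by rw [hSP]; exact hPbot
  have hWbot : Cfsg.Agent.Helper23.zjSub p true (S : Subgroup G) ≠ ⊥ := by
    intro h
    have h1 := Cfsg.Agent.Helper21.inducedFunctor_zjW p true (S : Subgroup G)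
    rw [h] at h1
    have h2 : Cfsg.Agent.Helper21.zjW p true ↥(S : Subgroup G) = ⊥ :=
      (Subgroup.map_eq_bot_iff_of_injective _ (Subgroup.subtype_injective _)).1 h1
    haveI : Nontrivial ↥(S : Subgroup G) := (Subgroup.nontrivial_iff_ne_bot _).2 hSbot
    exact (Cfsg.Agent.Helper21.zjW_char p true).1 ↥(S : Subgroup G) S.isPGroup' inferInstance h2
  have hNS_W : Subgroup.normalizer ((S : Subgroup G) : Set G) ≤
      Subgroup.normalizer (Cfsg.Agent.Helper23.zjSub p true (S : Subgroup G) : Set G) := by
    intro x hx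
    rw [Subgroup.mem_normalizer_iff]
    intro w
    constructor
    · intro hw
      exact Cfsg.Agent.Helper23.zjSub_conj_mem hx hw
    · intro hw
      have := Cfsg.Agent.Helper23.zjSub_conj_mem (p := p) (e := true)
        (Subgroup.inv_mem _ hx) hw
      have h2 : x⁻¹ * (x * w * x⁻¹) * x⁻¹⁻¹ = w := by group
      rwa [h2] at this
  have hMW : M ≤ Subgroup.normalizer
      (Cfsg.Agent.Helper23.zjSub p true (S : Subgroup G) : Set G) := by
    refine le_trans ?_ hNS_W
    rw [hSP]; exact hMN
  have hNW : Subgroup.normalizer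
      (Cfsg.Agent.Helper23.zjSub p true (S : Subgroup G) : Set G) = M := by
    rcases eq_or_lt_of_le hMW with h | h
    · exact h.symm
    · refine absurd (hnorm_bot _ (hWS.trans ?_) (hmax.2 _ h)) hWbot
      rw [hSP]; exact hPM
  have hnpcW : Cfsg.HasNormalPComplement p ↥(Subgroup.normalizer
      (Cfsg.Agent.Helper23.zjSub p true (S : Subgroup G) : Set G)) := by
    rw [hNW]
    exact Cfsg.Agent.Helper1.npc_of_local (Cfsg.Agent.Helper21.localP_of_nilpotent hnil p)
  refine ⟨Cfsg.Agent.Helper21.npc_of_zj hp2 true S hnpcW, ?_⟩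
  have h1 := S.card_eq_multiplicity
  rw [hSP, hPcard] at h1
  exact (Nat.pow_right_injective hp.out.two_le h1).symm

theorem solvable_aux : ∀ (n : ℕ) (G : Type u) [Group G] [Finite G], Nat.card G = n →
    ∀ M : Subgroup G, IsCoatom M → Group.IsNilpotent ↥M → Odd (Nat.card ↥M) →
    Group.IsSolvable G := by
  intro n
  induction n using Nat.strong_induction_on with
  | _ n ih =>
  intro G _ _ hn M hmax hnil hodd
  haveI := hnil
  have hMsolv : Group.IsSolvable ↥M := inferInstance
  by_cases hcore : M.normalCore = ⊥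
  swap
  · have hCM : M.normalCore ≤ M := Subgroup.normalCore_le M
    have hcard : Nat.card (G ⧸ M.normalCore) < n := by
      rw [← hn]; exact Cfsg.Agent.Helper10.card_quot_lt_of_ne_bot hcore
    have hker : (QuotientGroup.mk' M.normalCore).ker ≤ M := by
      rw [QuotientGroup.ker_mk']; exact hCM
    have hsurj := QuotientGroup.mk'_surjective M.normalCore
    have hmax' : IsCoatom (M.map (QuotientGroup.mk' M.normalCore)) := by
      constructor
      · intro h
        apply hmax.1
        have h2 := Subgroup.comap_map_eq_self hker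
        rw [h, Subgroup.comap_top] at h2
        exact h2.symm
      · intro X hX
        have h1 : M ≤ X.comap (QuotientGroup.mk' M.normalCore) :=
          (Subgroup.map_le_iff_le_comap).1 hX.le
        have h3 : (X.comap (QuotientGroup.mk' M.normalCore)).map
            (QuotientGroup.mk' M.normalCore) = X :=
          Subgroup.map_comap_eq_self_of_surjective hsurj X
        have h2 : M ≠ X.comap (QuotientGroup.mk' M.normalCore) := by
          intro h
          rw [← h] at h3
          exact hX.ne h3
        have h4 := hmax.2 _ (lt_of_le_of_ne h1 h2)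
        rw [h4, Subgroup.map_top_of_surjective _ hsurj] at h3
        exact h3.symm
    haveI : Group.IsNilpotent ↥(M.map (QuotientGroup.mk' M.normalCore)) :=
      Group.nilpotent_of_surjective ((QuotientGroup.mk' M.normalCore).subgroupMap M)
        (MonoidHom.subgroupMap_surjective _ _)
    have hodd' : Odd (Nat.card ↥(M.map (QuotientGroup.mk' M.normalCore))) :=
      hodd.of_dvd_nat (Subgroup.card_map_dvd _ _)
    haveI : Group.IsSolvable (G ⧸ M.normalCore) :=
      ih _ hcard (G ⧸ M.normalCore) rfl _ hmax' inferInstance hodd'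
    haveI : Group.IsSolvable ↥M.normalCore := Cfsg.Agent.Lead.isSolvable_of_le hCM hMsolv
    exact Group.isSolvable_of_ker_le_range M.normalCore.subtype (QuotientGroup.mk' M.normalCore)
      (by rw [QuotientGroup.ker_mk', Subgroup.range_subtype])
  · have hfacts : ∀ p : ℕ, p.Prime → p ∣ Nat.card ↥M → Cfsg.HasNormalPComplement p G ∧
        (Nat.card G).factorization p = (Nat.card ↥M).factorization p := by
      intro p hp hpM
      haveI : Fact p.Prime := ⟨hp⟩
      have hp2 : p ≠ 2 := by
        rintro rfl
        exact (Nat.not_even_iff_odd.2 hodd) (even_iff_two_dvd.2 hpM)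
      exact npc_of_nilpotent_maximal M hmax hnil hcore p hp2 hpM
    have hmul : ∀ p : ℕ, p.Prime → p ∣ Nat.card ↥M → ∀ a b : G, (orderOf a).Coprime p →
        (orderOf b).Coprime p → (orderOf (a * b)).Coprime p := by
      intro p hp hpM a b ha hb
      haveI : Fact p.Prime := ⟨hp⟩
      obtain ⟨K, k, hKn, hKcop, hKidx⟩ := Cfsg.Agent.Helper16.npc_exists (hfacts p hp hpM).1
      haveI := hKn
      have hKchar : ∀ g : G, g ∈ K ↔ (orderOf g).Coprime p := by
        intro g
        constructor
        · intro hg
          exact Nat.Coprime.coprime_dvd_left (Subgroup.orderOf_dvd_natCard K hg) hKcop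
        · intro hg
          have h1 : ((g : G ⧸ K)) ^ (p ^ k) = 1 := by
            rw [← hKidx, Subgroup.index_eq_card]; exact pow_card_eq_one'
          have h2 : ((g : G ⧸ K)) ^ (orderOf g) = 1 := by
            rw [← QuotientGroup.mk_pow, pow_orderOf_eq_one]; rfl
          have h3 := orderOf_dvd_of_pow_eq_one h1
          have h4 := orderOf_dvd_of_pow_eq_one h2
          have h5 : orderOf (g : G ⧸ K) = 1 :=
            Nat.eq_one_of_dvd_coprimes (Nat.Coprime.pow_right k hg) h4 h3
          rw [orderOf_eq_one_iff] at h5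
          exact (QuotientGroup.eq_one_iff g).1 h5
      exact (hKchar _).1 (K.mul_mem ((hKchar a).2 ha) ((hKchar b).2 hb))
    let K : Subgroup G :=
      { carrier := {g | (orderOf g).Coprime (Nat.card ↥M)}
        one_mem' := by
          show (orderOf (1 : G)).Coprime _
          rw [orderOf_one]; exact Nat.coprime_one_left _
        mul_mem' := by
          intro a b ha hb
          show (orderOf (a * b)).Coprime _
          refine Nat.coprime_of_dvd ?_
          intro k hk hk1 hk2
          have := hmul k hk hk2 a b (Nat.Coprime.coprime_dvd_right hk2 ha)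
            (Nat.Coprime.coprime_dvd_right hk2 hb)
          exact hk.one_lt.ne' (Nat.Coprime.eq_one_of_dvd this.symm hk1)
        inv_mem' := by
          intro a ha
          show (orderOf a⁻¹).Coprime _
          rw [orderOf_inv]; exact ha }
    have hKmem : ∀ g : G, g ∈ K ↔ (orderOf g).Coprime (Nat.card ↥M) := fun g => Iff.rfl
    have hKn : K.Normal := ⟨fun a ha g => by
      rw [hKmem] at ha ⊢
      have : orderOf (g * a * g⁻¹) = orderOf a := (MulAut.conj g).orderOf_eq a
      rw [this]; exact ha⟩
    have hKcop : (Nat.card ↥M).Coprime (Nat.card ↥K) := by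
      refine Nat.coprime_of_dvd ?_
      intro k hk hk1 hk2
      haveI : Fact k.Prime := ⟨hk⟩
      obtain ⟨x, hx⟩ := exists_prime_orderOf_dvd_card' (G := ↥K) k hk2
      have hx' : orderOf (x : G) = k := by rw [Subgroup.orderOf_coe]; exact hx
      have := (hKmem (x : G)).1 x.2
      rw [hx'] at this
      exact hk.one_lt.ne' (Nat.Coprime.eq_one_of_dvd this hk1)
    have hKM : K ⊓ M = ⊥ := Cfsg.Agent.Lead.inf_eq_bot_of_coprime' hKcop.symm
    have hKbot : K ≠ ⊥ := by
      intro hK
      apply hmax.1
      rw [← Subgroup.card_eq_iff_eq_top]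
      refine Nat.eq_of_factorization_eq (Nat.card_pos).ne' (Nat.card_pos).ne' ?_
      intro p
      by_cases hp : p.Prime
      · by_cases hpM : p ∣ Nat.card ↥M
        · exact ((hfacts p hp hpM).2).symm
        · have hpG : ¬ p ∣ Nat.card G := by
            intro hpG
            haveI : Fact p.Prime := ⟨hp⟩
            obtain ⟨x, hx⟩ := exists_prime_orderOf_dvd_card' (G := G) p hpG
            have hxK : x ∈ K := by
              rw [hKmem, hx]
              exact (Nat.Prime.coprime_iff_not_dvd hp).2 hpM
            rw [hK, Subgroup.mem_bot] at hxK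
            rw [hxK, orderOf_one] at hx
            exact hp.one_lt.ne hx
          rw [Nat.factorization_eq_zero_of_not_dvd hpM, Nat.factorization_eq_zero_of_not_dvd hpG]
      · rw [Nat.factorization_eq_zero_of_not_prime _ hp,
          Nat.factorization_eq_zero_of_not_prime _ hp]
    have hKcard : 1 < Nat.card ↥K := (Subgroup.one_lt_card_iff_ne_bot K).2 hKbot
    obtain ⟨q, hq, hqK⟩ := Nat.exists_prime_and_dvd hKcard.ne'
    haveI : Fact q.Prime := ⟨hq⟩
    haveI := hKn
    obtain ⟨Q₀, hQ₀⟩ := Cfsg.Agent.S0023.result M K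
      (by rw [Subgroup.normalizer_eq_top]; exact le_top) hKcop (Or.inl hMsolv) q
    have hQK : (Q₀ : Subgroup ↥K).map K.subtype ≤ K := Subgroup.map_subtype_le _
    have hQcard : Nat.card ↥((Q₀ : Subgroup ↥K).map K.subtype) =
        q ^ (Nat.card ↥K).factorization q := by
      rw [Subgroup.card_map_of_injective K.subtype_injective]
      exact Q₀.card_eq_multiplicity
    have hQbot : (Q₀ : Subgroup ↥K).map K.subtype ≠ ⊥ := by
      intro h
      rw [h, Subgroup.card_bot] at hQcard
      have hpos : 0 < (Nat.card ↥K).factorization q :=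
        hq.factorization_pos_of_dvd (Nat.card_pos (α := ↥K)).ne' hqK
      rcases Nat.pow_eq_one.1 hQcard.symm with h4 | h4
      · exact hq.one_lt.ne' h4
      · omega
    have hQM : ¬ (Q₀ : Subgroup ↥K).map K.subtype ≤ M := by
      intro h
      apply hQbot
      rw [eq_bot_iff, ← hKM]
      exact le_inf hQK h
    have hsup : M ⊔ (Q₀ : Subgroup ↥K).map K.subtype = ⊤ := by
      apply hmax.2
      rcases eq_or_lt_of_le (le_sup_left : M ≤ M ⊔ (Q₀ : Subgroup ↥K).map K.subtype) with h | h
      · exfalso
        apply hQM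
        have h2 : (Q₀ : Subgroup ↥K).map K.subtype ≤ M ⊔ (Q₀ : Subgroup ↥K).map K.subtype :=
          le_sup_right
        rwa [← h] at h2
      · exact h
    have hQn : ((Q₀ : Subgroup ↥K).map K.subtype).Normal := by
      rw [← Subgroup.normalizer_eq_top_iff, eq_top_iff, ← hsup]
      exact sup_le hQ₀ Subgroup.le_normalizer
    haveI := hQn
    have hsurj : Function.Surjective
        ((QuotientGroup.mk' ((Q₀ : Subgroup ↥K).map K.subtype)).comp M.subtype) := by
      intro y
      obtain ⟨g, rfl⟩ := QuotientGroup.mk'_surjective _ y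
      have hg : g ∈ M ⊔ (Q₀ : Subgroup ↥K).map K.subtype := by rw [hsup]; trivial
      obtain ⟨m, hm, a, ha, rfl⟩ := Subgroup.mem_sup_of_normal_right.1 hg
      refine ⟨⟨m, hm⟩, ?_⟩
      show ((m : G) : G ⧸ (Q₀ : Subgroup ↥K).map K.subtype) = ((m * a : G) : G ⧸ _)
      rw [QuotientGroup.eq, inv_mul_cancel_left]
      exact ha
    haveI : Group.IsSolvable (G ⧸ (Q₀ : Subgroup ↥K).map K.subtype) := Group.isSolvable_of_surjective hsurj
    haveI : Group.IsNilpotent ↥((Q₀ : Subgroup ↥K).map K.subtype) :=
      IsPGroup.isNilpotent (Q₀.isPGroup'.map K.subtype)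
    exact Group.isSolvable_of_ker_le_range ((Q₀ : Subgroup ↥K).map K.subtype).subtype
      (QuotientGroup.mk' ((Q₀ : Subgroup ↥K).map K.subtype))
      (by rw [QuotientGroup.ker_mk', Subgroup.range_subtype])


/-- A finite group possessing a maximal subgroup that is nilpotent of odd order is solvable. -/
theorem result {G : Type*} [Group G] [Finite G]
    (M : Subgroup G) (hmax : IsCoatom M) (hnil : Group.IsNilpotent M) (hodd : Odd (Nat.card M)) :
    Group.IsSolvable G := by
  exact solvable_aux _ G rfl M hmax hnil hodd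

end Cfsg.Agent.S4040
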