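import Cfsg.Statements.S4050
import Cfsg.Agent.Helper3.PiClosed
-- import your own Cfsg.Agent.* helpers here

set_option autoImplicit false
open Cfsg

namespace Cfsg.Agent.S4050

/-- Let π be a set of primes and G a finite group. The π-elements of G (elements whose order is divisible only by primes of π) form a subgroup if and only if G is π-separable (it has a chain of normal subgroups from 1 to G with each successive index divisible only by primes in π or only by primes outside π) and N_G(H)/C_G(H) is a π'-group for every nontrivial π'-subgroup H of G. -/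
theorem result {G : Type*} [Group G] [Finite G] (π : Set ℕ)
    (hπ : ∀ p ∈ π, p.Prime) :
    (∃ K : Subgroup G, ∀ x : G, x ∈ K ↔ ∀ p : ℕ, p.Prime → p ∣ orderOf x → p ∈ π) ↔
    ((∃ (n : ℕ) (H : Fin (n + 1) → Subgroup G), H 0 = ⊥ ∧ H (Fin.last n) = ⊤ ∧ Monotone H ∧ (∀ i, (H i).Normal) ∧
      ∀ i : Fin n, (∀ q : ℕ, q.Prime → q ∣ (H i.castSucc).relIndex (H i.succ) → q ∈ π) ∨
        (∀ q : ℕ, q.Prime → q ∣ (H i.castSucc).relIndex (H i.succ) → q ∉ π)) ∧
     (∀ H : Subgroup G, H ≠ ⊥ → (∀ p : ℕ, p.Prime → p ∣ Nat.card ↥H → p ∉ π) →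
        ∀ p : ℕ, p.Prime → p ∣ (Subgroup.centralizer (H : Set G)).relIndex (Subgroup.normalizer (H : Set G)) → p ∉ π)) := by
  constructor
  · rintro ⟨K, hK⟩
    have hK' : ∀ x, x ∈ K ↔ Cfsg.Agent.Helper3.PiClosed.IsPi π x := hK
    have hKn : K.Normal := by
      refine ⟨fun y hy g => ?_⟩
      rw [hK'] at hy ⊢
      exact Cfsg.Agent.Helper3.PiClosed.isPi_conj hy g
    refine ⟨⟨2, ![⊥, K, ⊤], rfl, rfl, ?_, ?_, ?_⟩,
      Cfsg.Agent.Helper3.PiClosed.hom_of_closed K hK'⟩
    · rw [Fin.monotone_iff_le_succ]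
      intro i
      fin_cases i
      · show (⊥ : Subgroup G) ≤ K
        exact bot_le
      · show K ≤ (⊤ : Subgroup G)
        exact le_top
    · intro i
      fin_cases i
      · show (⊥ : Subgroup G).Normal
        infer_instance
      · exact hKn
      · show (⊤ : Subgroup G).Normal
        infer_instance
    · intro i
      fin_cases i
      · left
        intro q hq hd
        have hd' : q ∣ (⊥ : Subgroup G).relIndex K := hd
        rw [Subgroup.relIndex_bot_left] at hd'
        exact Cfsg.Agent.Helper3.PiClosed.closed_card K (fun x hx => (hK' x).1 hx) q hq hd'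
      · right
        intro q hq hd hqπ
        have hd' : q ∣ K.relIndex (⊤ : Subgroup G) := hd
        exact Cfsg.Agent.Helper3.PiClosed.closed_relIndex K ⊤ (fun x _ hx => (hK' x).2 hx)
          q hq hqπ hd'
  · rintro ⟨⟨n, H, h0, hl, hmono, hnorm, hfac⟩, hhom⟩
    exact Cfsg.Agent.Helper3.PiClosed.closed_of_chain π n G
      (Cfsg.Agent.Helper3.PiClosed.homE_of_hom hhom) ⟨H, h0, hl, hmono, hnorm, hfac⟩

end Cfsg.Agent.S4050
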