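import Cfsg.Statements.S4051
import Cfsg.Agent.Helper3.PiClosed
-- import your own Cfsg.Agent.* helpers here

set_option autoImplicit false
open Cfsg

namespace Cfsg.Agent.S4051

/-- Let π be a set of primes and G a finite group such that N_G(H)/C_G(H) is a π'-group for every nontrivial π'-subgroup H of G. If K is a normal subgroup of G such that the π-elements of K form a subgroup and the π-elements of G/K form a subgroup, then the π-elements of G form a subgroup. -/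
theorem result {G : Type*} [Group G] [Finite G] (π : Set ℕ)
    (hπ : ∀ p ∈ π, p.Prime) (hhom : (∀ H : Subgroup G, H ≠ ⊥ → (∀ p : ℕ, p.Prime → p ∣ Nat.card ↥H → p ∉ π) →
        ∀ p : ℕ, p.Prime → p ∣ (Subgroup.centralizer (H : Set G)).relIndex (Subgroup.normalizer (H : Set G)) → p ∉ π))
    (K : Subgroup G) [K.Normal]
    (hK : ∃ L : Subgroup ↥K, ∀ x : ↥K, x ∈ L ↔ ∀ p : ℕ, p.Prime → p ∣ orderOf x → p ∈ π)
    (hQ : ∃ L : Subgroup (G ⧸ K), ∀ x : G ⧸ K, x ∈ L ↔ ∀ p : ℕ, p.Prime → p ∣ orderOf x → p ∈ π) :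
    (∃ K : Subgroup G, ∀ x : G, x ∈ K ↔ ∀ p : ℕ, p.Prime → p ∣ orderOf x → p ∈ π) := by
  have hE := Cfsg.Agent.Helper3.PiClosed.homE_of_hom hhom
  have hK' : ∃ L : Subgroup ↥K, ∀ x : ↥K, x ∈ L ↔ Cfsg.Agent.Helper3.PiClosed.IsPi π x := hK
  obtain ⟨Lb, hLb0⟩ := hQ
  have hLb : ∀ x : G ⧸ K, x ∈ Lb ↔ Cfsg.Agent.Helper3.PiClosed.IsPi π x := hLb0
  obtain ⟨f, hfdef⟩ : ∃ f : G →* G ⧸ K, f = QuotientGroup.mk' K := ⟨_, rfl⟩
  have hfs : Function.Surjective f := by rw [hfdef]; exact QuotientGroup.mk'_surjective K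
  have hfker : f.ker = K := by rw [hfdef]; exact QuotientGroup.ker_mk' K
  have hfK : ∀ y, f y = 1 ↔ y ∈ K := by
    intro y; rw [← MonoidHom.mem_ker, hfker]
  have hrel : ∀ L : Subgroup G, K.relIndex L = Nat.card (L.map f) := by
    intro L
    have h := Subgroup.relIndex_ker f (K := L)
    rw [hfker] at h
    exact h
  haveI hLbn : Lb.Normal := by
    refine ⟨fun y hy g => ?_⟩
    rw [hLb] at hy ⊢
    exact Cfsg.Agent.Helper3.PiClosed.isPi_conj hy g
  obtain ⟨M, hMdef⟩ : ∃ M : Subgroup G, M = Lb.comap f := ⟨_, rfl⟩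
  have hMmem : ∀ y, y ∈ M ↔ f y ∈ Lb := by intro y; rw [hMdef]; rfl
  haveI hMn : M.Normal := by
    rw [hMdef]
    exact hLbn.comap f
  have hKM : K ≤ M := by
    intro y hy; rw [hMmem, (hfK y).2 hy]; exact Lb.one_mem
  have hMmap : M.map f = Lb := by
    rw [hMdef]
    exact Subgroup.map_comap_eq_self_of_surjective hfs Lb
  have hMcl : ∃ L : Subgroup M, ∀ x : M, x ∈ L ↔ Cfsg.Agent.Helper3.PiClosed.IsPi π x := by
    refine Cfsg.Agent.Helper3.PiClosed.closed_step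
      (Cfsg.Agent.Helper3.PiClosed.homE_subgroup M hE) (K.subgroupOf M) ?_ (Or.inl ?_)
    · exact Cfsg.Agent.Helper3.PiClosed.closed_of_equiv
        (Subgroup.subgroupOfEquivOfLe hKM).symm hK'
    · intro q hq hd
      have hd' : q ∣ K.relIndex M := hd
      rw [hrel M, hMmap] at hd'
      exact Cfsg.Agent.Helper3.PiClosed.closed_card Lb (fun x hx => (hLb x).1 hx) q hq hd'
  refine Cfsg.Agent.Helper3.PiClosed.closed_step hE M hMcl (Or.inr ?_)
  intro q hq hd hqπ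
  rw [hMdef, Subgroup.index_comap_of_surjective _ hfs, ← Subgroup.relIndex_top_right] at hd
  exact Cfsg.Agent.Helper3.PiClosed.closed_relIndex Lb ⊤ (fun x _ hx => (hLb x).2 hx)
    q hq hqπ hd

end Cfsg.Agent.S4051
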