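-- Statement S4072: every non-abelian subgroup self-normalizing implies solvable or simple
import Cfsg.Statements.S4072
import Mathlib
import Cfsg.Agent.Helper1.Frobenius

set_option autoImplicit false
open Cfsg

namespace Cfsg.Agent.S4072

/-- iterated conjugation when `g a g⁻¹ = c a` and `c` commutes with `g` -/
theorem conj_pow_aux {G : Type*} [Group G] (g a c : G) (hc : g * a * g⁻¹ = c * a)
    (hgc : g * c = c * g) : ∀ i : ℕ, g ^ i * a * (g ^ i)⁻¹ = c ^ i * a := by
  intro i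
  induction i with
  | zero => simp
  | succ i ih =>
    have hgci : g * c ^ i = c ^ i * g :=
      (Commute.pow_right (show Commute g c from hgc) i).eq
    calc g ^ (i + 1) * a * (g ^ (i + 1))⁻¹ = g * (g ^ i * a * (g ^ i)⁻¹) * g⁻¹ := by
          rw [pow_succ']; group
      _ = g * (c ^ i * a) * g⁻¹ := by rw [ih]
      _ = (g * c ^ i) * a * g⁻¹ := by rw [mul_assoc g (c ^ i) a]
      _ = (c ^ i * g) * a * g⁻¹ := by rw [hgci]
      _ = c ^ i * (g * a * g⁻¹) := by simp only [mul_assoc]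
      _ = c ^ i * (c * a) := by rw [hc]
      _ = c ^ (i + 1) * a := by rw [pow_succ, mul_assoc]

theorem pow_orderOf_aux {G : Type*} [Group G] (g a c : G) (hc : g * a * g⁻¹ = c * a)
    (hgc : g * c = c * g) : c ^ orderOf g = 1 := by
  have h := conj_pow_aux g a c hc hgc (orderOf g)
  rw [pow_orderOf_eq_one, one_mul, inv_one, mul_one] at h
  have h2 : c ^ orderOf g * a = 1 * a := by rw [one_mul]; exact h.symm
  exact mul_right_cancel h2

theorem eq_one_of_pow_coprime {G : Type*} [Group G] (c : G) (m n : ℕ)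
    (h1 : c ^ m = 1) (h2 : c ^ n = 1) (hcop : Nat.Coprime m n) : c = 1 := by
  have d1 : orderOf c ∣ m := orderOf_dvd_of_pow_eq_one h1
  have d2 : orderOf c ∣ n := orderOf_dvd_of_pow_eq_one h2
  have d3 : orderOf c ∣ 1 := by
    have h5 := Nat.dvd_gcd d1 d2
    rwa [Nat.Coprime.gcd_eq_one hcop] at h5
  exact orderOf_eq_one_iff.mp (Nat.dvd_one.mp d3)

/-- the subgroup of commutators `g a g⁻¹ a⁻¹`, `a ∈ Q`, for abelian `Q` normalized by `g` -/
def commSub {G : Type*} [Group G] (Q : Subgroup G) (g : G)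
    (hcomm : ∀ x ∈ Q, ∀ y ∈ Q, x * y = y * x) (hconj : ∀ x ∈ Q, g * x * g⁻¹ ∈ Q) :
    Subgroup G where
  carrier := {c | ∃ a ∈ Q, c = g * a * g⁻¹ * a⁻¹}
  one_mem' := ⟨1, Q.one_mem, by group⟩
  mul_mem' := by
    rintro _ _ ⟨a, ha, rfl⟩ ⟨b, hb, rfl⟩
    refine ⟨a * b, Q.mul_mem ha hb, ?_⟩
    have h1 : a⁻¹ * (g * b * g⁻¹) = (g * b * g⁻¹) * a⁻¹ :=
      hcomm _ (Q.inv_mem ha) _ (hconj b hb)
    have h2 : a⁻¹ * b⁻¹ = b⁻¹ * a⁻¹ := hcomm _ (Q.inv_mem ha) _ (Q.inv_mem hb)
    calc g * a * g⁻¹ * a⁻¹ * (g * b * g⁻¹ * b⁻¹)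
        = g * a * g⁻¹ * (a⁻¹ * (g * b * g⁻¹)) * b⁻¹ := by group
      _ = g * a * g⁻¹ * ((g * b * g⁻¹) * a⁻¹) * b⁻¹ := by rw [h1]
      _ = g * (a * b) * g⁻¹ * (a⁻¹ * b⁻¹) := by group
      _ = g * (a * b) * g⁻¹ * (b⁻¹ * a⁻¹) := by rw [h2]
      _ = g * (a * b) * g⁻¹ * (a * b)⁻¹ := by group
  inv_mem' := by
    rintro _ ⟨a, ha, rfl⟩
    refine ⟨a⁻¹, Q.inv_mem ha, ?_⟩
    have h1 : a * (g * a⁻¹ * g⁻¹) = (g * a⁻¹ * g⁻¹) * a :=
      hcomm _ ha _ (hconj _ (Q.inv_mem ha))
    calc (g * a * g⁻¹ * a⁻¹)⁻¹ = a * (g * a⁻¹ * g⁻¹) := by group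
      _ = (g * a⁻¹ * g⁻¹) * a := h1
      _ = g * a⁻¹ * g⁻¹ * a⁻¹⁻¹ := by group

theorem mem_commSub {G : Type*} [Group G] (Q : Subgroup G) (g : G)
    (hcomm : ∀ x ∈ Q, ∀ y ∈ Q, x * y = y * x) (hconj : ∀ x ∈ Q, g * x * g⁻¹ ∈ Q) (c : G) :
    c ∈ commSub Q g hcomm hconj ↔ ∃ a ∈ Q, c = g * a * g⁻¹ * a⁻¹ := Iff.rfl

/-- If the centre contains an element of order `p` and all non-abelian subgroups are
self-normalizing, every `p'`-element normalizing a `p`-subgroup centralizes it. -/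
theorem localP_of_central {G : Type*} [Group G] [Finite G]
    (hS : ∀ H : Subgroup G, ¬ IsMulCommutative H → Subgroup.normalizer (H : Set G) = H)
    (p : ℕ) [Fact p.Prime] (z : G) (hz : z ∈ Subgroup.center G) (hzo : orderOf z = p) :
    Cfsg.Agent.Helper1.LocalP p G := by
  have hp : p.Prime := Fact.out
  have hzp : z ^ p = 1 := by rw [← hzo]; exact pow_orderOf_eq_one z
  intro Q hQ g hg hgo
  have hpow : ∀ x ∈ Q, ∃ j : ℕ, x ^ (p ^ j) = 1 := by
    intro x hx
    obtain ⟨j, hj⟩ := hQ ⟨x, hx⟩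
    refine ⟨j, ?_⟩
    have h3 := congrArg (fun y : ↥Q => (y : G)) hj
    simpa using h3
  by_cases hQc : IsMulCommutative ↥Q
  · by_contra hgc
    rw [Subgroup.mem_centralizer_iff] at hgc
    push Not at hgc
    obtain ⟨a, haQ', hne⟩ := hgc
    have haQ : a ∈ Q := haQ'
    have hcomm : ∀ x ∈ Q, ∀ y ∈ Q, x * y = y * x := by
      intro x hx y hy
      exact congrArg Subtype.val (hQc.is_comm.comm (⟨x, hx⟩ : ↥Q) ⟨y, hy⟩)
    have hconj : ∀ x ∈ Q, g * x * g⁻¹ ∈ Q :=
      fun x hx => (Subgroup.mem_normalizer_iff.mp hg x).mp hx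
    obtain ⟨K, hK⟩ : ∃ K : Subgroup G, K = commSub Q g hcomm hconj := ⟨_, rfl⟩
    have hKmem : ∀ c, c ∈ K ↔ ∃ a ∈ Q, c = g * a * g⁻¹ * a⁻¹ := by
      intro c; rw [hK]; exact mem_commSub Q g hcomm hconj c
    have hKQ : K ≤ Q := by
      intro c hc
      obtain ⟨b, hb, rfl⟩ := (hKmem c).mp hc
      exact Q.mul_mem (hconj b hb) (Q.inv_mem hb)
    have hgK : g ∈ Subgroup.normalizer (K : Set G) := by
      apply Cfsg.Agent.Helper5.mem_normalizer_of_conj_mem
      intro c hc
      obtain ⟨b, hb, rfl⟩ := (hKmem c).mp hc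
      exact (hKmem _).mpr ⟨g * b * g⁻¹, hconj b hb, by group⟩
    have hzn : Subgroup.zpowers g ≤ Subgroup.normalizer (K : Set G) := by
      rw [Subgroup.zpowers_le]; exact hgK
    obtain ⟨H₀, hH₀⟩ : ∃ H₀ : Subgroup G, H₀ = K ⊔ Subgroup.zpowers g := ⟨_, rfl⟩
    have hH₀mem : ∀ x ∈ H₀, ∃ k ∈ K, ∃ i : ℤ, x = k * g ^ i := by
      intro x hx
      rw [hH₀] at hx
      have hx' : x ∈ ((K ⊔ Subgroup.zpowers g : Subgroup G) : Set G) := hx
      rw [Subgroup.coe_mul_of_right_le_normalizer_left K _ hzn, Set.mem_mul] at hx'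
      obtain ⟨k, hk, y, hy, rfl⟩ := hx'
      obtain ⟨i, rfl⟩ := Subgroup.mem_zpowers_iff.mp hy
      exact ⟨k, hk, i, rfl⟩
    have hcK : g * a * g⁻¹ * a⁻¹ ∈ K := (hKmem _).mpr ⟨a, haQ, rfl⟩
    have hH₀nc : ¬ IsMulCommutative ↥H₀ := by
      intro hc
      apply hne
      have hcH : g * a * g⁻¹ * a⁻¹ ∈ H₀ := by
        rw [hH₀]; exact (le_sup_left : K ≤ K ⊔ Subgroup.zpowers g) hcK
      have hgH : g ∈ H₀ := by
        rw [hH₀]
        exact (le_sup_right : Subgroup.zpowers g ≤ K ⊔ Subgroup.zpowers g)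
          (Subgroup.mem_zpowers g)
      have hcomm2 : g * (g * a * g⁻¹ * a⁻¹) = (g * a * g⁻¹ * a⁻¹) * g :=
        congrArg Subtype.val (hc.is_comm.comm (⟨g, hgH⟩ : ↥H₀) ⟨_, hcH⟩)
      have hca : g * a * g⁻¹ = (g * a * g⁻¹ * a⁻¹) * a := by group
      have hcn := pow_orderOf_aux g a _ hca hcomm2
      obtain ⟨j, hj⟩ := hpow _ (hKQ hcK)
      have hc1 : g * a * g⁻¹ * a⁻¹ = 1 :=
        eq_one_of_pow_coprime _ (p ^ j) (orderOf g) hj hcn (Nat.Coprime.pow_left j hgo.symm)
      calc a * g = (g * a * g⁻¹ * a⁻¹)⁻¹ * (g * a) := by group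
        _ = g * a := by rw [hc1, inv_one, one_mul]
    have hnorm := hS H₀ hH₀nc
    have hzN : z ∈ Subgroup.normalizer (H₀ : Set G) := by
      rw [Subgroup.mem_normalizer_iff]
      intro x
      have e : z * x * z⁻¹ = x := by
        have h1 := Subgroup.mem_center_iff.mp hz x
        rw [← h1, mul_inv_cancel_right]
      rw [e]
    rw [hnorm] at hzN
    obtain ⟨k, hk, i, hzk⟩ := hH₀mem z hzN
    obtain ⟨j, hj⟩ := hpow k (hKQ hk)
    have hgi : g ^ i = k⁻¹ * z := by rw [hzk]; group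
    have hcomm3 : Commute k⁻¹ z := Subgroup.mem_center_iff.mp hz k⁻¹
    have h1 : (g ^ i) ^ (p ^ (j + 1)) = 1 := by
      rw [hgi, hcomm3.mul_pow, inv_pow, pow_succ, pow_mul, hj, one_pow, inv_one, one_mul,
        mul_comm (p ^ j) p, pow_mul, hzp, one_pow]
    have h2 : (g ^ i) ^ (orderOf g) = 1 := by
      rw [← zpow_natCast, ← zpow_mul, mul_comm, zpow_mul, zpow_natCast, pow_orderOf_eq_one,
        one_zpow]
    have hgi1 : g ^ i = 1 :=
      eq_one_of_pow_coprime _ (p ^ (j + 1)) (orderOf g) h1 h2 (Nat.Coprime.pow_left _ hgo.symm)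
    rw [hgi1, mul_one] at hzk
    obtain ⟨b, hb, hkb⟩ := (hKmem k).mp hk
    have hzb : g * b * g⁻¹ = z * b := by rw [hzk, hkb]; group
    have hgz : g * z = z * g := Subgroup.mem_center_iff.mp hz g
    have hzn' := pow_orderOf_aux g b z hzb hgz
    have hz1 : z = 1 := eq_one_of_pow_coprime z p (orderOf g) hzp hzn' hgo.symm
    rw [hz1, orderOf_one] at hzo
    exact hp.ne_one hzo.symm
  · have hgQ : g ∈ Q := by
      have h1 := hS Q hQc
      rw [h1] at hg; exact hg
    obtain ⟨j, hj⟩ := hpow g hgQ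
    have hg1 : g = 1 := eq_one_of_pow_coprime g (p ^ j) (orderOf g) hj (pow_orderOf_eq_one g)
      (Nat.Coprime.pow_left j hgo.symm)
    rw [hg1]; exact Subgroup.one_mem _

/-- A finite group in which every nontrivial subgroup is self-normalizing is solvable. -/
theorem solvable_of_selfnorm {Q : Type*} [Group Q] [Finite Q]
    (h : ∀ H : Subgroup Q, H ≠ ⊥ → Subgroup.normalizer (H : Set Q) = H) :
    Group.IsSolvable Q := by
  by_cases htriv : Subsingleton Q
  · infer_instance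
  · rw [not_subsingleton_iff_nontrivial] at htriv
    have hcard : Nat.card Q ≠ 1 := by
      intro h1
      have h2 := (Nat.card_eq_one_iff_unique.mp h1).1
      exact not_subsingleton Q h2
    obtain ⟨p, hp, hpd⟩ := Nat.exists_prime_and_dvd hcard
    haveI : Fact p.Prime := ⟨hp⟩
    obtain ⟨P⟩ : Nonempty (Sylow p Q) := inferInstance
    have hPbot : (P : Subgroup Q) ≠ ⊥ := P.ne_bot_of_dvd_card hpd
    have hNP := h P hPbot
    haveI : Nontrivial ↥(P : Subgroup Q) := (Subgroup.nontrivial_iff_ne_bot _).mpr hPbot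
    have hZnt : Nontrivial (Subgroup.center ↥(P : Subgroup Q)) := P.2.center_nontrivial
    obtain ⟨Z, hZdef⟩ : ∃ Z : Subgroup Q,
        Z = (Subgroup.center ↥(P : Subgroup Q)).map (P : Subgroup Q).subtype := ⟨_, rfl⟩
    have hZmem : ∀ y, y ∈ Z ↔ ∃ c ∈ Subgroup.center ↥(P : Subgroup Q), (c : Q) = y := by
      intro y; rw [hZdef]; exact Subgroup.mem_map
    have hZbot : Z ≠ ⊥ := by
      intro hZ
      obtain ⟨x, hx, hx1⟩ := (Subgroup.nontrivial_iff_exists_ne_one _).mp hZnt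
      have h1 : (x : Q) ∈ Z := (hZmem _).mpr ⟨x, hx, rfl⟩
      rw [hZ, Subgroup.mem_bot] at h1
      exact hx1 (Subtype.ext h1)
    have hNZ := h Z hZbot
    have hPZ : (P : Subgroup Q) ≤ Z := by
      have hPn : (P : Subgroup Q) ≤ Subgroup.normalizer (Z : Set Q) := by
        intro x hx
        apply Cfsg.Agent.Helper5.mem_normalizer_of_conj_mem
        intro y hy
        obtain ⟨c, hc, rfl⟩ := (hZmem y).mp hy
        have h1 := Subgroup.mem_center_iff.mp hc ⟨x, hx⟩
        have h2 : x * (c : Q) = c * x := congrArg Subtype.val h1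
        have e : x * (c : Q) * x⁻¹ = c := by rw [h2, mul_inv_cancel_right]
        rw [e]; exact (hZmem _).mpr ⟨c, hc, rfl⟩
      rw [hNZ] at hPn; exact hPn
    have hPcomm : ∀ x ∈ (P : Subgroup Q), ∀ y ∈ (P : Subgroup Q), x * y = y * x := by
      intro x hx y hy
      obtain ⟨c, hc, rfl⟩ := (hZmem x).mp (hPZ hx)
      have h1 := Subgroup.mem_center_iff.mp hc ⟨y, hy⟩
      exact (congrArg Subtype.val h1).symm
    have hPc : Subgroup.normalizer ((P : Subgroup Q) : Set Q)
        ≤ Subgroup.centralizer ((P : Subgroup Q) : Set Q) := by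
      rw [hNP]
      intro x hx
      rw [Subgroup.mem_centralizer_iff]
      intro y hy
      exact hPcomm y hy x hx
    have hcompl := MonoidHom.ker_transferSylow_isComplement' P hPc
    have hKbot : (MonoidHom.transferSylow P hPc).ker = ⊥ := by
      by_contra hK
      have h1 := h _ hK
      rw [Subgroup.normalizer_eq_top] at h1
      have hd := hcompl.disjoint
      rw [← h1] at hd
      exact hPbot (top_disjoint.mp hd)
    have hPtop : (P : Subgroup Q) = ⊤ := by
      have h1 := hcompl.sup_eq_top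
      rwa [hKbot, bot_sup_eq] at h1
    exact Group.isSolvable_of_comm (fun a b =>
      hPcomm a (by rw [hPtop]; trivial) b (by rw [hPtop]; trivial))

/-- A finite group in which every non-abelian subgroup is self-normalizing is solvable or simple. -/
theorem result {G : Type*} [Group G] [Finite G] (hS : ∀ H : Subgroup G, ¬ IsMulCommutative H → Subgroup.normalizer (H : Set G) = H) :
    Group.IsSolvable G ∨ IsSimpleGroup G := by
  by_cases hsol : Group.IsSolvable G
  · left; exact hsol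
  right
  have hnt : Nontrivial G := by
    by_contra hnt
    rw [not_nontrivial_iff_subsingleton] at hnt
    exact hsol inferInstance
  have h1 : ∀ N : Subgroup G, N.Normal → N ≠ ⊤ → IsMulCommutative ↥N := by
    intro N hN hNtop
    by_contra hc
    have h2 := hS N hc
    haveI := hN
    rw [Subgroup.normalizer_eq_top] at h2
    exact hNtop h2.symm
  have h2 : ∀ (N : Subgroup G) [N.Normal], N ≠ ⊤ → Group.IsSolvable (G ⧸ N) → False := by
    intro N hN hNtop hq
    have hc := h1 N hN hNtop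
    haveI : Group.IsSolvable ↥N := Group.isSolvable_of_comm (fun a b => hc.is_comm.comm a b)
    apply hsol
    exact Group.isSolvable_of_ker_le_range N.subtype (QuotientGroup.mk' N) (by
      rw [QuotientGroup.ker_mk', Subgroup.range_subtype])
  have hZ : Subgroup.center G = ⊥ := by
    by_contra hZ
    have hcard : Nat.card (Subgroup.center G) ≠ 1 := by
      intro hc1; exact hZ ((Subgroup.eq_bot_iff_card _).mpr hc1)
    obtain ⟨p, hp, hpd⟩ := Nat.exists_prime_and_dvd hcard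
    haveI : Fact p.Prime := ⟨hp⟩
    obtain ⟨⟨z, hz⟩, hzo⟩ := exists_prime_orderOf_dvd_card' p hpd
    have hzo' : orderOf z = p := by rw [← hzo]; exact (Subgroup.orderOf_mk z hz).symm
    have hL := localP_of_central hS p z hz hzo'
    obtain ⟨P, N, hN, hc⟩ := Cfsg.Agent.Helper1.npc_of_local hL
    have hpG : p ∣ Nat.card G := by
      rw [← hzo']; exact orderOf_dvd_natCard z
    have hPbot : (P : Subgroup G) ≠ ⊥ := P.ne_bot_of_dvd_card hpG
    have hNtop : N ≠ ⊤ := by
      intro hN1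
      have hd := hc.disjoint
      rw [hN1] at hd
      exact hPbot (top_disjoint.mp hd)
    haveI := hN
    apply h2 N hNtop
    have hidx : N.index = Nat.card (P : Subgroup G) := hc.symm.index_eq_card
    have hpg : IsPGroup p (G ⧸ N) := by
      obtain ⟨k, hk⟩ := IsPGroup.iff_card.mp P.2
      apply IsPGroup.of_card (n := k)
      rw [← hk, ← hidx]; exact (Subgroup.index_eq_card N).symm
    haveI := hpg.isNilpotent
    infer_instance
  refine @IsSimpleGroup.mk G _ hnt (fun N hN => ?_)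
  by_contra hcon
  push Not at hcon
  obtain ⟨hNbot, hNtop⟩ := hcon
  haveI := hN
  have hNc := h1 N hN hNtop
  obtain ⟨A, hA⟩ : ∃ A : Subgroup G, A = Subgroup.centralizer (N : Set G) := ⟨_, rfl⟩
  have hAn : A.Normal := by rw [hA]; infer_instance
  have hAmem : ∀ x, x ∈ A ↔ ∀ n ∈ N, n * x = x * n := by
    intro x; rw [hA]; exact Subgroup.mem_centralizer_iff
  have hAtop : A ≠ ⊤ := by
    intro hAt
    apply hNbot
    rw [eq_bot_iff, ← hZ]
    intro x hx
    rw [Subgroup.mem_center_iff]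
    intro g
    have hg : g ∈ A := by rw [hAt]; trivial
    exact ((hAmem g).mp hg x hx).symm
  haveI := hAn
  apply h2 A hAtop
  apply solvable_of_selfnorm
  intro H hH
  have hsurj : Function.Surjective (QuotientGroup.mk' A) := QuotientGroup.mk'_surjective A
  have hnc : ¬ IsMulCommutative ↥(H.comap (QuotientGroup.mk' A)) := by
    intro hc
    apply hH
    rw [eq_bot_iff]
    intro y hy
    obtain ⟨x, rfl⟩ := hsurj y
    have hxH : x ∈ H.comap (QuotientGroup.mk' A) := hy
    have hxA : x ∈ A := by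
      rw [hAmem]
      intro n hn
      have hnA : n ∈ A := by
        rw [hAmem]
        intro m hm
        exact congrArg Subtype.val (hNc.is_comm.comm (⟨m, hm⟩ : ↥N) ⟨n, hn⟩)
      have hnH : n ∈ H.comap (QuotientGroup.mk' A) := by
        rw [Subgroup.mem_comap]
        have e : (QuotientGroup.mk' A) n = 1 := (QuotientGroup.eq_one_iff n).mpr hnA
        rw [e]; exact H.one_mem
      exact congrArg Subtype.val
        (hc.is_comm.comm (⟨n, hnH⟩ : ↥(H.comap (QuotientGroup.mk' A))) ⟨x, hxH⟩)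
    rw [Subgroup.mem_bot]
    exact (QuotientGroup.eq_one_iff x).mpr hxA
  have hn := hS _ hnc
  rw [← Subgroup.comap_normalizer_eq_of_surjective H hsurj] at hn
  exact Subgroup.comap_injective hsurj hn

end Cfsg.Agent.S4072
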