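import Cfsg.Statements.S4097
import Cfsg.Agent.Lead.FrobConj
import Cfsg.Agent.Helper1.Frob
import Cfsg.Agent.Helper23.FixedLift
import Mathlib

set_option autoImplicit false
open Cfsg

open scoped Pointwise
namespace Cfsg.Agent.S4097

universe u

theorem main : ∀ (n : ℕ) (G : Type u) [Group G] [Finite G], Nat.card G = n →
    ∀ (A : Subgroup G), Group.IsSolvable A →
    (∀ S : Subgroup G, A ≤ S → Group.IsSolvable S → ∀ a ∈ A, ∀ s ∈ S, a * s = s * a) →
    A ≤ Subgroup.center G := by
  intro n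
  induction n using Nat.strong_induction_on with
  | _ n ih =>
  intro G _ _ hn A hA hc
  by_contra hnot
  obtain ⟨a0, ha0, ha0Z⟩ := SetLike.not_le_iff_exists.mp hnot
  obtain ⟨C, hCdef⟩ : ∃ C : Subgroup G, C = Subgroup.centralizer (A : Set G) := ⟨_, rfl⟩
  have hCmem : ∀ x : G, x ∈ C ↔ ∀ a ∈ A, a * x = x * a := by
    intro x; rw [hCdef]; exact Subgroup.mem_centralizer_iff
  have hAC : A ≤ C := fun a ha => (hCmem a).mpr (fun b hb => hc A le_rfl hA b hb a ha)
  have hZC : Subgroup.center G ≤ C := by rw [hCdef]; exact Subgroup.center_le_centralizer _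
  have hCtop : C ≠ ⊤ := by
    intro h
    apply ha0Z
    rw [Subgroup.mem_center_iff]
    intro g
    have hg : g ∈ C := h ▸ Subgroup.mem_top g
    exact ((hCmem g).mp hg a0 ha0).symm
  -- proper subgroups containing A centralize A
  have hb : ∀ K : Subgroup G, A ≤ K → K ≠ ⊤ → K ≤ C := by
    intro K hAK hK
    have hlt : Nat.card K < n := by
      rw [← hn]
      exact lt_of_le_of_ne (Subgroup.card_le_card_group K)
        (fun h => hK ((Subgroup.card_eq_iff_eq_top K).mp h))
    have hsolA' : Group.IsSolvable ↥(A.subgroupOf K) :=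
      Group.isSolvable_of_isSolvable_injective
        (f := (Subgroup.subgroupOfEquivOfLe hAK).toMonoidHom)
        (Subgroup.subgroupOfEquivOfLe hAK).injective
    have hc' : ∀ S' : Subgroup ↥K, A.subgroupOf K ≤ S' → Group.IsSolvable S' →
        ∀ a ∈ A.subgroupOf K, ∀ s ∈ S', a * s = s * a := by
      intro S' hAS' hS' a ha s hs
      have hS : Group.IsSolvable ↥(S'.map K.subtype) :=
        Group.isSolvable_of_surjective (f := K.subtype.subgroupMap S')
          (MonoidHom.subgroupMap_surjective _ _)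
      have hAS : A ≤ S'.map K.subtype := fun x hx =>
        ⟨⟨x, hAK hx⟩, hAS' (Subgroup.mem_subgroupOf.mpr hx), rfl⟩
      have h1 := hc (S'.map K.subtype) hAS hS (a : G) (Subgroup.mem_subgroupOf.mp ha) (s : G)
        ⟨s, hs, rfl⟩
      exact Subtype.ext h1
    have key := ih (Nat.card K) hlt ↥K rfl (A.subgroupOf K) hsolA' hc'
    intro k hk
    rw [hCmem]
    intro a ha
    have h1 : (⟨a, hAK ha⟩ : ↥K) ∈ Subgroup.center ↥K := key (Subgroup.mem_subgroupOf.mpr ha)
    have h2 := Subgroup.mem_center_iff.mp h1 ⟨k, hk⟩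
    exact (congrArg Subtype.val h2).symm
  -- C is not normal
  have hCnn : ¬ C.Normal := by
    intro hCn
    obtain ⟨D, hDdef⟩ : ∃ D : Subgroup G, D = C ⊓ Subgroup.centralizer (C : Set G) := ⟨_, rfl⟩
    have hDmem : ∀ x, x ∈ D ↔ x ∈ C ∧ ∀ c ∈ C, c * x = x * c := by
      intro x; rw [hDdef, Subgroup.mem_inf, Subgroup.mem_centralizer_iff]; exact Iff.rfl
    have hDn : D.Normal := by
      refine ⟨fun x hx g => (hDmem _).mpr ⟨hCn.conj_mem x ((hDmem x).mp hx).1 g, ?_⟩⟩
      intro c hcC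
      have hc1 : g⁻¹ * c * g ∈ C := by simpa using hCn.conj_mem c hcC g⁻¹
      have h := ((hDmem x).mp hx).2 (g⁻¹ * c * g) hc1
      calc c * (g * x * g⁻¹) = g * (g⁻¹ * c * g * x) * g⁻¹ := by group
        _ = g * (x * (g⁻¹ * c * g)) * g⁻¹ := by rw [h]
        _ = g * x * g⁻¹ * c := by group
    have hDcomm : ∀ a b : ↥D, a * b = b * a := fun a b =>
      Subtype.ext (((hDmem b).mp b.2).2 a ((hDmem a).mp a.2).1)
    have hAD : A ≤ D := fun a ha =>
      (hDmem a).mpr ⟨hAC ha, fun c hcC => ((hCmem c).mp hcC a ha).symm⟩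
    apply hCtop
    rw [eq_top_iff]
    intro g _
    rw [hCmem]
    intro a ha
    have hZsol : Group.IsSolvable ↥(Subgroup.zpowers g) := Group.isSolvable_of_comm (fun x y => by
      obtain ⟨i, hi⟩ := Subgroup.mem_zpowers_iff.mp x.2
      obtain ⟨j, hj⟩ := Subgroup.mem_zpowers_iff.mp y.2
      apply Subtype.ext
      show (x : G) * (y : G) = (y : G) * (x : G)
      rw [← hi, ← hj, ← zpow_add, ← zpow_add, add_comm])
    have hnorm : Subgroup.zpowers g ≤ Subgroup.normalizer (D : Set G) := by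
      rw [Subgroup.normalizer_eq_top_iff.mpr hDn]; exact le_top
    have hS := Cfsg.Agent.Helper23.isSolvable_sup_of_le_normalizer
      (Group.isSolvable_of_comm hDcomm) hZsol hnorm
    exact hc _ (hAD.trans le_sup_left) hS a ha g (Subgroup.mem_sup_right (Subgroup.mem_zpowers g))
  have hN : Subgroup.normalizer (C : Set G) ≤ C :=
    hb _ (hAC.trans Subgroup.le_normalizer)
      (fun htop => hCnn (Subgroup.normalizer_eq_top_iff.mp htop))
  -- the Frobenius property
  have hfrob : ∀ g x : G, g ∉ C → x ∈ C → g⁻¹ * x * g ∈ C → x ∈ Subgroup.center G := by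
    intro g x hg hx hgx
    by_contra hxZ
    obtain ⟨L, hLdef⟩ : ∃ L : Subgroup G, L = Subgroup.centralizer ({x} : Set G) := ⟨_, rfl⟩
    have hLmem : ∀ y, y ∈ L ↔ x * y = y * x := by
      intro y
      rw [hLdef, Subgroup.mem_centralizer_iff]
      constructor
      · intro h; exact h x rfl
      · intro h z hz; rw [Set.mem_singleton_iff.mp hz]; exact h
    have hL : L ≠ ⊤ := by
      intro h
      apply hxZ
      rw [Subgroup.mem_center_iff]
      intro y
      have hy : y ∈ L := h ▸ Subgroup.mem_top y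
      exact ((hLmem y).mp hy).symm
    have hAL : A ≤ L := fun a ha => (hLmem a).mpr (((hCmem x).mp hx a ha).symm)
    have hLC : L ≤ C := hb L hAL hL
    have hconjA : ∀ a ∈ A, g * a * g⁻¹ ∈ C := by
      intro a ha
      apply hLC
      rw [hLmem]
      have h1 := (hCmem _).mp hgx a ha
      calc x * (g * a * g⁻¹) = g * (g⁻¹ * x * g * a) * g⁻¹ := by group
        _ = g * (a * (g⁻¹ * x * g)) * g⁻¹ := by rw [← h1]
        _ = g * a * g⁻¹ * x := by group
    obtain ⟨K, hmemK, hcardK⟩ : ∃ K : Subgroup G, (∀ y, y ∈ K ↔ g * y * g⁻¹ ∈ C) ∧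
        Nat.card K = Nat.card C := by
      refine ⟨C.map (MulAut.conj g⁻¹).toMonoidHom, fun y => ⟨?_, ?_⟩, ?_⟩
      · rintro ⟨c, hcC, rfl⟩
        have e : g * ((MulAut.conj g⁻¹).toMonoidHom c) * g⁻¹ = c := by
          show g * (g⁻¹ * c * g⁻¹⁻¹) * g⁻¹ = c
          group
        rw [e]; exact hcC
      · intro hy
        refine ⟨g * y * g⁻¹, hy, ?_⟩
        show g⁻¹ * (g * y * g⁻¹) * g⁻¹⁻¹ = y
        group
      · exact Subgroup.card_map_of_injective (MulAut.conj g⁻¹).injective
    have hAK : A ≤ K := fun a ha => (hmemK a).mpr (hconjA a ha)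
    have hKtop : K ≠ ⊤ := by
      intro h
      apply hCtop
      rw [eq_top_iff]
      intro y _
      have h1 : g⁻¹ * y * g ∈ K := h ▸ Subgroup.mem_top _
      have h2 := (hmemK _).mp h1
      have e : g * (g⁻¹ * y * g) * g⁻¹ = y := by group
      rwa [e] at h2
    have hKC : K ≤ C := hb K hAK hKtop
    have hKeq : K = C := Subgroup.eq_of_le_of_card_ge hKC (le_of_eq hcardK.symm)
    have hgN : g ∈ Subgroup.normalizer (C : Set G) := by
      refine Subgroup.mem_set_normalizer_iff.mpr fun y => ?_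
      have h1 := hmemK y
      rw [hKeq] at h1
      exact h1
    exact hg (hN hgN)
  -- pass to G / Z(G)
  set π := QuotientGroup.mk' (Subgroup.center G) with hπ
  have hpre : ∀ y : G, π y ∈ C.map π → y ∈ C := by
    rintro y ⟨c, hcC, hcy⟩
    have h1 : c⁻¹ * y ∈ Subgroup.center G := QuotientGroup.eq.mp hcy
    have e : y = c * (c⁻¹ * y) := by group
    rw [e]
    exact C.mul_mem hcC (hZC h1)
  have hF : Cfsg.IsFrobeniusComplement (C.map π) := by
    refine ⟨?_, ?_, ?_⟩
    · intro h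
      have h1 : π a0 ∈ C.map π := ⟨a0, hAC ha0, rfl⟩
      rw [h, Subgroup.mem_bot] at h1
      exact ha0Z ((QuotientGroup.eq_one_iff a0).mp h1)
    · intro h
      apply hCtop
      rw [eq_top_iff]
      intro y _
      exact hpre y (h ▸ Subgroup.mem_top _)
    · intro gb hgb
      obtain ⟨g, rfl⟩ := QuotientGroup.mk'_surjective (Subgroup.center G) gb
      have hg : g ∉ C := fun hgC => hgb ⟨g, hgC, rfl⟩
      rw [eq_bot_iff]
      rintro xb ⟨hx1, hx2⟩
      obtain ⟨x, hxC, rfl⟩ := hx1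
      have hx3 := (Cfsg.Agent.Helper1.mem_conj_smul_iff _ _ _).mp hx2
      have hx4 : g⁻¹ * x * g ∈ C := by
        apply hpre
        rw [map_mul, map_mul, map_inv]
        exact hx3
      have hx5 := hfrob g x hg hxC hx4
      rw [Subgroup.mem_bot]
      exact (QuotientGroup.eq_one_iff x).mpr hx5
  obtain ⟨Nb, d⟩ := Cfsg.Agent.Lead.exists_frobData _ hF
  obtain ⟨Vb, hVcomm, hVne, hVN, hVnorm⟩ := d.exists_invariant_abelian
  obtain ⟨W, hWdef⟩ : ∃ W : Subgroup G, W = Vb.comap π := ⟨_, rfl⟩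
  have hWmem : ∀ w : G, w ∈ W ↔ π w ∈ Vb := by intro w; rw [hWdef]; exact Subgroup.mem_comap
  have hVsol : Group.IsSolvable ↥Vb :=
    Group.isSolvable_of_comm (fun a b => hVcomm.is_comm.comm a b)
  have hZWsol : Group.IsSolvable ↥((Subgroup.center G).subgroupOf W) :=
    Group.isSolvable_of_comm (fun a b => Subtype.ext (Subtype.ext
      (Subgroup.mem_center_iff.mp (Subgroup.mem_subgroupOf.mp b.2) ((a : ↥W) : G))))
  have hWsol : Group.IsSolvable ↥W := by
    refine Group.isSolvable_of_ker_le_range (((Subgroup.center G).subgroupOf W).subtype)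
      ((π.comp W.subtype).codRestrict Vb (fun w => (hWmem w).mp w.2)) ?_
    intro w hw
    have h1 : π (w : G) = 1 := congrArg Subtype.val (MonoidHom.mem_ker.mp hw)
    have h2 : (w : G) ∈ Subgroup.center G := (QuotientGroup.eq_one_iff _).mp h1
    exact ⟨⟨w, Subgroup.mem_subgroupOf.mpr h2⟩, rfl⟩
  have hAW : A ≤ Subgroup.normalizer (W : Set G) := by
    intro a ha
    have hab : π a ∈ C.map π := ⟨a, hAC ha, rfl⟩
    have hn' := Subgroup.mem_set_normalizer_iff.mp (hVnorm hab)
    refine Subgroup.mem_set_normalizer_iff.mpr fun w => ?_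
    show w ∈ W ↔ a * w * a⁻¹ ∈ W
    rw [hWmem, hWmem, map_mul, map_mul, map_inv]
    exact hn' (π w)
  have hS : Group.IsSolvable ↥(W ⊔ A) :=
    Cfsg.Agent.Helper23.isSolvable_sup_of_le_normalizer hWsol hA hAW
  obtain ⟨vb, hvb, hvb1⟩ : ∃ vb ∈ Vb, vb ≠ 1 := by
    by_contra hcon
    apply hVne
    rw [Subgroup.eq_bot_iff_forall]
    intro y hy
    by_contra hy1
    exact hcon ⟨y, hy, hy1⟩
  obtain ⟨v, rfl⟩ := QuotientGroup.mk'_surjective (Subgroup.center G) vb
  have hvW : v ∈ W := (hWmem v).mpr hvb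
  have hcomm := hc (W ⊔ A) le_sup_right hS a0 ha0 v (Subgroup.mem_sup_left hvW)
  have hbar : π v * π a0 = π a0 * π v := by rw [← map_mul, ← map_mul, hcomm]
  have ha0b : π a0 ∈ C.map π := ⟨a0, hAC ha0, rfl⟩
  have ha0b1 : π a0 ≠ 1 := fun h => ha0Z ((QuotientGroup.eq_one_iff a0).mp h)
  exact hvb1 (d.comm ha0b ha0b1 (hVN hvb) hbar)

/-- Let A be a solvable subgroup of a finite group G such that A lies in the centre of every solvable subgroup of G containing A. Then A lies in the centre of G. -/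
theorem result {G : Type*} [Group G] [Finite G]
    (A : Subgroup G) (hA : Group.IsSolvable A)
    (hc : ∀ S : Subgroup G, A ≤ S → Group.IsSolvable S → ∀ a ∈ A, ∀ s ∈ S, a * s = s * a) : A ≤ Subgroup.center G := by
  exact main (Nat.card G) G rfl A hA hc

end Cfsg.Agent.S4097
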