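import Cfsg.Statements.S4113
import Mathlib
import Cfsg.Agent.S0001

set_option autoImplicit false
open Cfsg

namespace Cfsg.Agent.S4113

/-- Let G be a finite group, M ≤ N non-trivial proper normal subgroups, and H a subgroup with HM = G and H ∩ M = 1. Then every element of G outside N acts fixed-point-freely on M (C_G(x) ≤ N for every x ∈ M, x ≠ 1) if and only if H ∩ gHg⁻¹ ≤ H ∩ N for every g outside H, with H proper and non-trivial and H ∩ N proper in H. -/
theorem result {G : Type*} [Group G] [Finite G] (N M : Subgroup G) [N.Normal] [M.Normal] (hMN : M ≤ N) (hM1 : M ≠ ⊥) (hN2 : N ≠ ⊤)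
    (H : Subgroup G) (hHM : H ⊔ M = ⊤) (hHM' : H ⊓ M = ⊥) :
    (∀ x ∈ M, x ≠ 1 → Subgroup.centralizer ({x} : Set G) ≤ N) ↔
      (H ≠ ⊥ ∧ H ≠ ⊤ ∧ H ⊓ N < H ∧ ∀ g : G, g ∉ H → H ⊓ H.map (MulAut.conj g).toMonoidHom ≤ N) := by
  have hdecomp : ∀ g : G, ∃ h ∈ H, ∃ m ∈ M, g = h * m := fun g =>
    (Cfsg.Agent.S0001.mem_sup_normal H M g).mp (by rw [hHM]; exact Subgroup.mem_top g)
  have hmapmem : ∀ (g y : G), y ∈ H.map (MulAut.conj g).toMonoidHom ↔ g⁻¹ * y * g ∈ H := by
    intro g y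
    constructor
    · rintro ⟨z, hz, rfl⟩
      show g⁻¹ * (g * z * g⁻¹) * g ∈ H
      have e : g⁻¹ * (g * z * g⁻¹) * g = z := by group
      rw [e]
      exact hz
    · intro h
      refine ⟨g⁻¹ * y * g, h, ?_⟩
      show g * (g⁻¹ * y * g) * g⁻¹ = y
      group
  constructor
  · intro hC
    refine ⟨?_, ?_, ?_, ?_⟩
    · intro hbot
      rw [hbot, bot_sup_eq] at hHM
      rw [hHM] at hMN
      exact hN2 (top_le_iff.mp hMN)
    · intro htop
      rw [htop, top_inf_eq] at hHM'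
      exact hM1 hHM'
    · refine lt_of_le_of_ne inf_le_left ?_
      intro h
      have hHN : H ≤ N := inf_eq_left.mp h
      apply hN2
      rw [eq_top_iff, ← hHM]
      exact sup_le hHN hMN
    · intro g hg y hy
      obtain ⟨hy1, hy2⟩ := Subgroup.mem_inf.mp hy
      rw [hmapmem] at hy2
      obtain ⟨h, hh, m, hm, rfl⟩ := hdecomp g
      have hm1 : m ≠ 1 := by
        rintro rfl
        apply hg
        rw [mul_one]
        exact hh
      have hy'H : h⁻¹ * y * h ∈ H := H.mul_mem (H.mul_mem (H.inv_mem hh) hy1) hh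
      have h3 : m⁻¹ * (h⁻¹ * y * h) * m ∈ H := by
        have e : (h * m)⁻¹ * y * (h * m) = m⁻¹ * (h⁻¹ * y * h) * m := by group
        rw [← e]
        exact hy2
      have h4 : (h⁻¹ * y * h)⁻¹ * (m⁻¹ * (h⁻¹ * y * h) * m) ∈ H ⊓ M := by
        refine Subgroup.mem_inf.mpr ⟨H.mul_mem (H.inv_mem hy'H) h3, ?_⟩
        have e : (h⁻¹ * y * h)⁻¹ * (m⁻¹ * (h⁻¹ * y * h) * m) =
            ((h⁻¹ * y * h)⁻¹ * m⁻¹ * (h⁻¹ * y * h)⁻¹⁻¹) * m := by group
        rw [e]
        exact M.mul_mem (Subgroup.Normal.conj_mem inferInstance _ (M.inv_mem hm) _) hm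
      rw [hHM', Subgroup.mem_bot] at h4
      have h6 : h⁻¹ * y * h = m⁻¹ * (h⁻¹ * y * h) * m := inv_mul_eq_one.mp h4
      have h5 : h⁻¹ * y * h ∈ Subgroup.centralizer ({m} : Set G) := by
        rw [Subgroup.mem_centralizer_iff]
        intro z hz
        rw [Set.mem_singleton_iff] at hz
        rw [hz]
        calc m * (h⁻¹ * y * h) = m * (m⁻¹ * (h⁻¹ * y * h) * m) := by rw [← h6]
          _ = h⁻¹ * y * h * m := by group
      have h7 : h⁻¹ * y * h ∈ N := hC m hm hm1 h5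
      have e : y = h * (h⁻¹ * y * h) * h⁻¹ := by group
      rw [e]
      exact Subgroup.Normal.conj_mem inferInstance _ h7 _
  · rintro ⟨-, -, -, hTI⟩ x hxM hx1 c hc
    rw [Subgroup.mem_centralizer_iff] at hc
    have hcx : x * c = c * x := hc x (Set.mem_singleton x)
    obtain ⟨h, hh, m, hm, rfl⟩ := hdecomp c
    suffices hhN : h ∈ N from N.mul_mem hhN (hMN hm)
    by_contra hhN
    have hfpf : ∀ u ∈ M, u * h = h * u → u = 1 := by
      intro u hu hcomm
      by_contra hu1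
      have huH : u ∉ H := fun huH => hu1 (by
        have h8 : u ∈ H ⊓ M := Subgroup.mem_inf.mpr ⟨huH, hu⟩
        rw [hHM', Subgroup.mem_bot] at h8
        exact h8)
      apply hhN
      apply hTI u huH
      refine Subgroup.mem_inf.mpr ⟨hh, ?_⟩
      rw [hmapmem]
      have e : u⁻¹ * h * u = h := by
        rw [mul_assoc, ← hcomm]; group
      rw [e]
      exact hh
    have hfmem : ∀ u : M, h⁻¹ * (u : G) * h * (u : G)⁻¹ ∈ M := fun u => by
      have h1 : h⁻¹ * (u : G) * h ∈ M := by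
        have h9 := Subgroup.Normal.conj_mem (inferInstance : M.Normal) _ u.2 h⁻¹
        rwa [inv_inv] at h9
      exact M.mul_mem h1 (M.inv_mem u.2)
    have hinj : Function.Injective
        (fun u : M => (⟨h⁻¹ * (u : G) * h * (u : G)⁻¹, hfmem u⟩ : M)) := by
      intro u v huv
      have h1 : h⁻¹ * (u : G) * h * (u : G)⁻¹ = h⁻¹ * (v : G) * h * (v : G)⁻¹ :=
        congrArg Subtype.val huv
      have h3 : (u : G) * h * (u : G)⁻¹ = (v : G) * h * (v : G)⁻¹ := by
        calc (u : G) * h * (u : G)⁻¹ = h * (h⁻¹ * (u : G) * h * (u : G)⁻¹) := by group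
          _ = h * (h⁻¹ * (v : G) * h * (v : G)⁻¹) := by rw [h1]
          _ = (v : G) * h * (v : G)⁻¹ := by group
      have h2 : ((v : G)⁻¹ * u) * h = h * ((v : G)⁻¹ * u) := by
        calc ((v : G)⁻¹ * u) * h = (v : G)⁻¹ * ((u : G) * h * (u : G)⁻¹) * u := by group
          _ = (v : G)⁻¹ * ((v : G) * h * (v : G)⁻¹) * u := by rw [h3]
          _ = h * ((v : G)⁻¹ * u) := by group
      have h4 := hfpf _ (M.mul_mem (M.inv_mem v.2) u.2) h2
      apply Subtype.ext
      exact (inv_mul_eq_one.mp h4).symm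
    obtain ⟨u, hu⟩ := (Finite.injective_iff_surjective.mp hinj) ⟨m, hm⟩
    have hu' : h⁻¹ * (u : G) * h * (u : G)⁻¹ = m := congrArg Subtype.val hu
    have e : h * m = (u : G) * h * (u : G)⁻¹ := by
      rw [← hu']; group
    rw [e] at hcx
    have h5 : ((u : G)⁻¹ * x * u) * h = h * ((u : G)⁻¹ * x * u) := by
      calc ((u : G)⁻¹ * x * u) * h = (u : G)⁻¹ * (x * ((u : G) * h * (u : G)⁻¹)) * u := by group
        _ = (u : G)⁻¹ * (((u : G) * h * (u : G)⁻¹) * x) * u := by rw [hcx]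
        _ = h * ((u : G)⁻¹ * x * u) := by group
    have h6 : (u : G)⁻¹ * x * u ∈ M := by
      have h9 := Subgroup.Normal.conj_mem (inferInstance : M.Normal) _ hxM (u : G)⁻¹
      rwa [inv_inv] at h9
    have h7 := hfpf _ h6 h5
    apply hx1
    have e2 : x = u * ((u : G)⁻¹ * x * u) * (u : G)⁻¹ := by group
    rw [e2, h7]
    group

end Cfsg.Agent.S4113
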