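import Cfsg.Statements.S4126
import Cfsg.Agent.Helper15.Fusion
import Cfsg.Agent.Helper3.Coprime

set_option autoImplicit false
open Cfsg

namespace Cfsg.Agent.S4126




/-- Let G be a finite group and p a prime. Suppose every element of order p, and when p = 2 also every element of order 4, has a conjugacy class of p-power size. Then G has a normal p-complement. -/
theorem result {G : Type*} [Group G] [Finite G] (p : ℕ) [Fact p.Prime]
    (h : ∀ x : G, (orderOf x = p ∨ (p = 2 ∧ orderOf x = 4)) → ∃ a : ℕ, (Subgroup.centralizer ({x} : Set G)).index = p ^ a) :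
    Cfsg.HasNormalPComplement p G := by
  obtain ⟨P⟩ : Nonempty (Sylow p G) := inferInstance
  have hp : p.Prime := Fact.out
  apply Cfsg.Agent.Helper15.npc_of_fusion_small P
  intro a ha hap g hg
  by_cases ha1 : a = 1
  · refine ⟨1, one_mem _, ?_⟩
    rw [ha1]; group
  have hord : orderOf a = p ∨ (p = 2 ∧ orderOf a = 4) := by
    rcases hap with h1 | ⟨h2, h4⟩
    · left
      exact orderOf_eq_prime h1 ha1
    · have hd : orderOf a ∣ 2 ^ 2 := by
        have := orderOf_dvd_of_pow_eq_one h4
        norm_num at this ⊢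
        exact this
      obtain ⟨k, hk, hk2⟩ := (Nat.dvd_prime_pow Nat.prime_two).mp hd
      have hk0 : k ≠ 0 := by
        intro h0
        rw [h0, pow_zero] at hk2
        exact ha1 (orderOf_eq_one_iff.mp hk2)
      have hk12 : k = 1 ∨ k = 2 := by omega
      rcases hk12 with h1 | h2'
      · left
        rw [hk2, h1, h2]; norm_num
      · right
        refine ⟨h2, ?_⟩
        rw [hk2, h2']; norm_num
  obtain ⟨b, hb⟩ := h a hord
  have hcop : (P : Subgroup G).index.Coprime (Subgroup.centralizer ({a} : Set G)).index := by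
    rw [hb]
    apply Nat.Coprime.pow_right
    exact (Nat.Coprime.symm ((Nat.Prime.coprime_iff_not_dvd hp).mpr P.not_dvd_index))
  obtain ⟨u, hu, c, hc, hgc⟩ :=
    Cfsg.Agent.Helper3.prod_of_coprime_index (P : Subgroup G) (Subgroup.centralizer ({a} : Set G)) hcop g
  refine ⟨u, hu, ?_⟩
  have hca : a * c = c * a := (Subgroup.mem_centralizer_iff.mp hc) a (Set.mem_singleton a)
  have e1 : c * a * c⁻¹ = a := by
    rw [← hca]; group
  rw [hgc]
  calc u * c * a * (u * c)⁻¹ = u * (c * a * c⁻¹) * u⁻¹ := by group
    _ = u * a * u⁻¹ := by rw [e1]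

end Cfsg.Agent.S4126
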