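import Cfsg.Statements.S4127
import Cfsg.Agent.S0028
import Cfsg.Agent.S4177
import Cfsg.Agent.Helper16.NPC
import Cfsg.Agent.Helper14.Conj

set_option autoImplicit false
open Cfsg

namespace Cfsg.Agent.S4127

/-- Jordan: a transitive action of a finite group in which every element has a fixed point
is on at most one point. -/
theorem jordan {L X : Type*} [Group L] [Finite L] [MulAction L X] [Finite X]
    [MulAction.IsPretransitive L X] (h : ∀ g : L, ∃ ω : X, g • ω = ω) : Subsingleton X := by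
  classical
  rcases isEmpty_or_nonempty X with hX | hX
  · infer_instance
  have : Fintype L := Fintype.ofFinite L
  have : Fintype X := Fintype.ofFinite X
  have : ∀ g : L, Fintype (MulAction.fixedBy X g) := fun g => Fintype.ofFinite _
  have : Fintype (MulAction.orbitRel.Quotient L X) := Fintype.ofFinite _
  have hsum := MulAction.sum_card_fixedBy_eq_card_orbits_mul_card_group L X
  have horb : Fintype.card (MulAction.orbitRel.Quotient L X) = 1 := by
    rw [Fintype.card_eq_one_iff]
    obtain ⟨x0⟩ := hX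
    refine ⟨Quotient.mk'' x0, fun q => ?_⟩
    induction q using Quotient.inductionOn' with
    | h y =>
      apply Quotient.sound'
      exact MulAction.exists_smul_eq L x0 y
  rw [horb, one_mul] at hsum
  have hge : ∀ g : L, 1 ≤ Fintype.card (MulAction.fixedBy X g) := fun g => by
    obtain ⟨ω, hω⟩ := h g
    exact Fintype.card_pos_iff.mpr ⟨⟨ω, hω⟩⟩
  have h1 : Fintype.card (MulAction.fixedBy X (1 : L)) = Fintype.card X := by
    apply Fintype.card_congr
    exact (Equiv.subtypeUnivEquiv (fun x => by rw [MulAction.mem_fixedBy, one_smul]))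
  have hsplit : ∑ g : L, Fintype.card (MulAction.fixedBy X g) =
      Fintype.card (MulAction.fixedBy X (1 : L)) +
        ∑ g ∈ Finset.univ.erase (1 : L), Fintype.card (MulAction.fixedBy X g) :=
    (Finset.add_sum_erase Finset.univ _ (Finset.mem_univ 1)).symm
  have hlow : (Finset.univ.erase (1 : L)).card ≤
      ∑ g ∈ Finset.univ.erase (1 : L), Fintype.card (MulAction.fixedBy X g) := by
    have := Finset.card_nsmul_le_sum (Finset.univ.erase (1 : L))
      (fun g => Fintype.card (MulAction.fixedBy X g)) 1 (fun g _ => hge g)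
    simpa using this
  have hcard : (Finset.univ.erase (1 : L)).card = Fintype.card L - 1 := by
    rw [Finset.card_erase_of_mem (Finset.mem_univ _), Finset.card_univ]
  have hLpos : 0 < Fintype.card L := Fintype.card_pos
  have hXle : Fintype.card X ≤ 1 := by omega
  exact Fintype.card_le_one_iff_subsingleton.mp hXle

/-- decomposition of an element into commuting `p`-part and `p'`-part -/
theorem pq_decomp {L : Type*} [Group L] [Finite L] (p : ℕ) [hp : Fact p.Prime] (g : L) :
    ∃ u y : L, g = u * y ∧ Commute u y ∧ (∃ j, orderOf u = p ^ j) ∧ ¬ p ∣ orderOf y := by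
  have hn : orderOf g ≠ 0 := (orderOf_pos g).ne'
  obtain ⟨e, m, hpm, hnm⟩ := Nat.exists_eq_pow_mul_and_not_dvd hn p hp.out.ne_one
  have hcop : Nat.Coprime m (p ^ e) :=
    Nat.Coprime.pow_right e ((Nat.Prime.coprime_iff_not_dvd hp.out).mpr hpm).symm
  have hbez := Nat.gcd_eq_gcd_ab m (p ^ e)
  rw [hcop.gcd_eq_one] at hbez
  obtain ⟨A, hA⟩ : ∃ A : ℤ, A = Nat.gcdA m (p ^ e) := ⟨_, rfl⟩
  obtain ⟨B, hB⟩ : ∃ B : ℤ, B = Nat.gcdB m (p ^ e) := ⟨_, rfl⟩
  rw [← hA, ← hB] at hbez
  have hgz : g = (g ^ m) ^ A * (g ^ p ^ e) ^ B := by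
    rw [← zpow_natCast, ← zpow_natCast, ← zpow_mul, ← zpow_mul, ← zpow_add, ← hbez]
    simp
  have hcomm : Commute ((g ^ m) ^ A) ((g ^ p ^ e) ^ B) :=
    (((Commute.refl g).pow_pow m (p ^ e)).zpow_zpow _ _)
  have h1 : (g ^ m) ^ (p ^ e) = 1 := by
    rw [← pow_mul, mul_comm, ← hnm, pow_orderOf_eq_one]
  have h2 : (g ^ p ^ e) ^ m = 1 := by
    rw [← pow_mul, ← hnm, pow_orderOf_eq_one]
  have hu : ((g ^ m) ^ A) ^ (p ^ e) = 1 := by
    rw [← zpow_natCast ((g ^ m) ^ A) (p ^ e), ← zpow_mul, mul_comm, zpow_mul, zpow_natCast, h1,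
      one_zpow]
  have hy : ((g ^ p ^ e) ^ B) ^ m = 1 := by
    rw [← zpow_natCast ((g ^ p ^ e) ^ B) m, ← zpow_mul, mul_comm, zpow_mul, zpow_natCast, h2,
      one_zpow]
  refine ⟨_, _, hgz, hcomm, ?_, ?_⟩
  · obtain ⟨j, -, hj⟩ := (Nat.dvd_prime_pow hp.out).mp (orderOf_dvd_of_pow_eq_one hu)
    exact ⟨j, hj⟩
  · intro hd
    exact hpm (hd.trans (orderOf_dvd_of_pow_eq_one hy))

/-- if the class of `y` has size prime to `p`, some Sylow `p`-subgroup centralizes `y` and can
be chosen to contain a given `p`-element commuting with `y`. -/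
theorem sylow_centralized {L : Type*} [Group L] [Finite L] {p : ℕ} [hp : Fact p.Prime] (y u : L)
    (hy : ¬ p ∣ (Subgroup.centralizer ({y} : Set L)).index) (hu : ∃ j, orderOf u = p ^ j)
    (huy : u * y = y * u) : ∃ R : Sylow p L, u ∈ R ∧ ∀ r ∈ R, y * r = r * y := by
  obtain ⟨M, hM⟩ : ∃ M : Subgroup L, M = Subgroup.centralizer ({y} : Set L) := ⟨_, rfl⟩
  have huM : u ∈ M := by
    rw [hM, Subgroup.mem_centralizer_iff]
    intro h hh
    rw [Set.mem_singleton_iff] at hh
    rw [hh]
    exact huy.symm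
  have hzp : IsPGroup p (Subgroup.zpowers u) := by
    obtain ⟨j, hj⟩ := hu
    exact IsPGroup.of_card (n := j) (by rw [Nat.card_zpowers, hj])
  obtain ⟨R₀, hR₀⟩ := Cfsg.Agent.Helper14.exists_sylow_sub_ge M (Subgroup.zpowers u)
    (Subgroup.zpowers_le.mpr huM) hzp
  have hcard : Nat.card ((R₀ : Subgroup M).map M.subtype) = p ^ (Nat.card L).factorization p := by
    rw [Subgroup.card_map_of_injective M.subtype_injective, Sylow.card_eq_multiplicity]
    congr 1
    have h1 : Nat.card M * M.index = Nat.card L := Subgroup.card_mul_index M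
    rw [← h1, Nat.factorization_mul (Nat.card_pos.ne') (Subgroup.index_ne_zero_of_finite)]
    have h2 : M.index.factorization p = 0 := Nat.factorization_eq_zero_of_not_dvd (hM ▸ hy)
    simp [h2]
  refine ⟨Sylow.ofCard _ hcard, ?_, ?_⟩
  · show u ∈ (R₀ : Subgroup M).map M.subtype
    exact hR₀ (Subgroup.mem_zpowers u)
  · intro r hr
    have hr' : r ∈ (R₀ : Subgroup M).map M.subtype := hr
    obtain ⟨m, -, rfl⟩ := hr'
    have hm : (m : L) ∈ Subgroup.centralizer ({y} : Set L) := by rw [← hM]; exact m.2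
    rw [Subgroup.mem_centralizer_iff] at hm
    exact hm y (Set.mem_singleton y)

/-- Camina's lemma: if every `p'`-element has class size prime to `p`, then `p'`-elements
commute with `p`-elements and there is a normal `p`-complement. -/
theorem camina {L : Type*} [Group L] [Finite L] (p : ℕ) [hp : Fact p.Prime]
    (hc : ∀ y : L, ¬ p ∣ orderOf y → ¬ p ∣ (Subgroup.centralizer ({y} : Set L)).index) :
    (∀ y u : L, ¬ p ∣ orderOf y → (∃ j, orderOf u = p ^ j) → y * u = u * y) ∧
    ∃ K : Subgroup L, K.Normal ∧ (Nat.card K).Coprime p ∧ ∃ f, K.index = p ^ f := by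
  have hsub : Subsingleton (Sylow p L) := by
    apply jordan (L := L)
    intro g
    obtain ⟨u, y, hg, hcomm, hu, hy⟩ := pq_decomp p g
    obtain ⟨R, huR, hR⟩ := sylow_centralized y u (hc y hy) hu hcomm.eq
    refine ⟨R, ?_⟩
    rw [Sylow.smul_eq_iff_mem_normalizer, hg]
    refine Subgroup.mul_mem _ (Subgroup.le_normalizer huR) ?_
    apply Subgroup.centralizer_le_normalizer
    rw [Subgroup.mem_centralizer_iff]
    intro h hh
    exact (hR h hh).symm
  obtain ⟨S⟩ : Nonempty (Sylow p L) := inferInstance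
  have hSn : (S : Subgroup L).Normal := Sylow.normal_of_subsingleton S
  have hcomm : ∀ y u : L, ¬ p ∣ orderOf y → (∃ j, orderOf u = p ^ j) → y * u = u * y := by
    intro y u hy hu
    obtain ⟨R, -, hR⟩ := sylow_centralized y 1 (hc y hy) ⟨0, by simp⟩ (by simp)
    have hzp : IsPGroup p (Subgroup.zpowers u) := by
      obtain ⟨j, hj⟩ := hu
      exact IsPGroup.of_card (n := j) (by rw [Nat.card_zpowers, hj])
    obtain ⟨R', hR'⟩ := hzp.exists_le_sylow
    have hRR : R' = R := Subsingleton.elim _ _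
    exact hR u (hRR ▸ hR' (Subgroup.mem_zpowers u))
  refine ⟨hcomm, ?_⟩
  obtain ⟨K, hK⟩ := Subgroup.exists_right_complement'_of_coprime (N := (S : Subgroup L))
    S.card_coprime_index
  have hKcard : Nat.card K = (S : Subgroup L).index := (hK.symm.index_eq_card).symm
  have hKidx : K.index = Nat.card (S : Subgroup L) := hK.index_eq_card
  have hKcop : (Nat.card K).Coprime p := by
    rw [hKcard]; exact ((Nat.Prime.coprime_iff_not_dvd hp.out).mpr S.not_dvd_index).symm
  obtain ⟨f, hf⟩ := IsPGroup.iff_card.mp S.isPGroup'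
  refine ⟨K, ?_, hKcop, f, by rw [hKidx, hf]⟩
  have hKp : ∀ w ∈ K, ¬ p ∣ orderOf w := fun w hw hd =>
    (Nat.Prime.coprime_iff_not_dvd hp.out).mp hKcop.symm
      (hd.trans (Subgroup.orderOf_dvd_natCard K hw))
  constructor
  intro k hk g
  obtain ⟨⟨⟨s, hs⟩, ⟨k', hk'⟩⟩, hsk, -⟩ := (Subgroup.isComplement'_def.mp hK).existsUnique g
  have hsk' : g = s * k' := hsk.symm
  have hsp : ∃ j, orderOf s = p ^ j := by
    obtain ⟨j, hj⟩ := (IsPGroup.iff_orderOf.mp S.isPGroup') ⟨s, hs⟩
    exact ⟨j, by rw [← hj]; exact (Subgroup.orderOf_coe (⟨s, hs⟩ : ↥(S : Subgroup L)))⟩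
  have hw : k' * k * k'⁻¹ ∈ K := K.mul_mem (K.mul_mem hk' hk) (K.inv_mem hk')
  have hc1 : (k' * k * k'⁻¹) * s = s * (k' * k * k'⁻¹) := hcomm _ s (hKp _ hw) hsp
  have e : g * k * g⁻¹ = k' * k * k'⁻¹ := by
    rw [hsk', mul_inv_rev]
    have e1 : s * k' * k * (k'⁻¹ * s⁻¹) = s * (k' * k * k'⁻¹) * s⁻¹ := by group
    rw [e1, ← hc1, mul_inv_cancel_right]
  rw [e]
  exact hw


/-- Let G be a finite group, p a prime and p^a the largest power of p dividing the size of any conjugacy class of G. If some element of p-power order has a conjugacy class of size exactly p^a, then G has a normal p-complement. -/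
theorem result {G : Type*} [Group G] [Finite G] (p : ℕ) [Fact p.Prime]
    (a : ℕ) (hmax : ∀ y : G, ¬ p ^ (a + 1) ∣ (Subgroup.centralizer ({y} : Set G)).index)
    (hx : ∃ x : G, (∃ k : ℕ, orderOf x = p ^ k) ∧ (Subgroup.centralizer ({x} : Set G)).index = p ^ a) :
    Cfsg.HasNormalPComplement p G := by
  obtain ⟨x, ⟨k, hxk⟩, hidx⟩ := hx
  have hp : p.Prime := Fact.out
  obtain ⟨H, hH⟩ : ∃ H : Subgroup G, H = Subgroup.centralizer ({x} : Set G) := ⟨_, rfl⟩
  have hHidx : H.index = p ^ a := by rw [hH]; exact hidx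
  have hmemH : ∀ g : G, g ∈ H ↔ x * g = g * x := by
    intro g
    rw [hH, Subgroup.mem_centralizer_iff]
    constructor
    · intro h; exact h x (Set.mem_singleton x)
    · intro h z hz
      rw [Set.mem_singleton_iff] at hz
      rw [hz]; exact h
  have hxpk : x ^ (p ^ k) = 1 := by rw [← hxk]; exact pow_orderOf_eq_one x
  -- step 2: class sizes of p'-elements of H are prime to p
  have hcH : ∀ y : ↥H, ¬ p ∣ orderOf y →
      ¬ p ∣ (Subgroup.centralizer ({y} : Set ↥H)).index := by
    intro y hy hdiv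
    have hyG : ¬ p ∣ orderOf (y : G) := by rw [Subgroup.orderOf_coe]; exact hy
    have hxy : x * (y : G) = (y : G) * x := (hmemH _).mp y.2
    have hle : Subgroup.centralizer ({x * (y : G)} : Set G) ≤
        H ⊓ Subgroup.centralizer ({(y : G)} : Set G) := by
      intro g hg
      rw [Subgroup.mem_centralizer_iff] at hg
      have hgz : x * (y : G) * g = g * (x * (y : G)) := hg _ (Set.mem_singleton _)
      have hzc : Commute (x * (y : G)) g := hgz
      have hyn : (y : G) ^ orderOf (y : G) = 1 := pow_orderOf_eq_one _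
      have hzn : (x * (y : G)) ^ orderOf (y : G) = x ^ orderOf (y : G) := by
        rw [(show Commute x (y : G) from hxy).mul_pow, hyn, mul_one]
      have hxn : Commute (x ^ orderOf (y : G)) g := hzn ▸ hzc.pow_left (orderOf (y : G))
      have hcop : Nat.Coprime (orderOf (y : G)) (p ^ k) :=
        Nat.Coprime.pow_right k ((Nat.Prime.coprime_iff_not_dvd hp).mpr hyG).symm
      have hbez := Nat.gcd_eq_gcd_ab (orderOf (y : G)) (p ^ k)
      rw [hcop.gcd_eq_one] at hbez
      obtain ⟨A, hA⟩ : ∃ A : ℤ, A = Nat.gcdA (orderOf (y : G)) (p ^ k) := ⟨_, rfl⟩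
      obtain ⟨B, hB⟩ : ∃ B : ℤ, B = Nat.gcdB (orderOf (y : G)) (p ^ k) := ⟨_, rfl⟩
      rw [← hA, ← hB] at hbez
      have hxe : x = (x ^ orderOf (y : G)) ^ A := by
        have h0 : x = (x ^ orderOf (y : G)) ^ A * (x ^ p ^ k) ^ B := by
          rw [← zpow_natCast, ← zpow_natCast, ← zpow_mul, ← zpow_mul, ← zpow_add, ← hbez]
          simp
        rw [hxpk, one_zpow, mul_one] at h0
        exact h0
      have hgx : x * g = g * x := by
        have h3 : Commute ((x ^ orderOf (y : G)) ^ A) g := hxn.zpow_left A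
        rw [← hxe] at h3
        exact h3
      refine Subgroup.mem_inf.mpr ⟨(hmemH g).mpr hgx, ?_⟩
      rw [Subgroup.mem_centralizer_iff]
      intro h hh
      rw [Set.mem_singleton_iff] at hh
      rw [hh]
      have h4 : x * ((y : G) * g) = x * (g * (y : G)) := by
        rw [← mul_assoc, hgz, ← mul_assoc, ← hgx, mul_assoc]
      exact mul_left_cancel h4
    have hd1 : (H ⊓ Subgroup.centralizer ({(y : G)} : Set G)).index ∣
        (Subgroup.centralizer ({x * (y : G)} : Set G)).index := Subgroup.index_dvd_of_le hle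
    have hd2 : (Subgroup.centralizer ({(y : G)} : Set G)).relIndex H * H.index =
        (H ⊓ Subgroup.centralizer ({(y : G)} : Set G)).index := by
      rw [← Subgroup.inf_relIndex_left]
      exact Subgroup.relIndex_mul_index inf_le_left
    have hsub : (Subgroup.centralizer ({y} : Set ↥H)) =
        (Subgroup.centralizer ({(y : G)} : Set G)).subgroupOf H := by
      ext g
      rw [Subgroup.mem_subgroupOf, Subgroup.mem_centralizer_iff, Subgroup.mem_centralizer_iff]
      constructor
      · intro h z hz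
        rw [Set.mem_singleton_iff] at hz
        rw [hz]
        have h5 : y * g = g * y := h y (Set.mem_singleton y)
        have h6 : ((y * g : ↥H) : G) = ((g * y : ↥H) : G) := congrArg Subtype.val h5
        exact h6
      · intro h z hz
        rw [Set.mem_singleton_iff] at hz
        rw [hz]
        exact Subtype.ext (h _ (Set.mem_singleton _))
    have hd3 : p ∣ (Subgroup.centralizer ({(y : G)} : Set G)).relIndex H := by
      rw [hsub] at hdiv; exact hdiv
    apply hmax (x * (y : G))
    refine Dvd.dvd.trans ?_ hd1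
    rw [← hd2, hHidx, pow_succ, mul_comm]
    exact Nat.mul_dvd_mul hd3 (dvd_refl _)
  -- step 3
  obtain ⟨hcommH, KH, hKHn, hKHcop, f, hKHidx⟩ := camina (L := ↥H) p hcH
  -- step 4: the normal closure of x is a p-group
  have hxp : IsPGroup p (Subgroup.zpowers x) :=
    IsPGroup.of_card (n := k) (by rw [Nat.card_zpowers, hxk])
  obtain ⟨P, hP⟩ := hxp.exists_le_sylow
  have hxP : x ∈ (P : Subgroup G) := hP (Subgroup.mem_zpowers x)
  have hconjP : ∀ g : G, g * x * g⁻¹ ∈ (P : Subgroup G) := by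
    intro g
    have hcop : (H.index).Coprime (P : Subgroup G).index := by
      rw [hHidx]
      exact Nat.Coprime.pow_left a ((Nat.Prime.coprime_iff_not_dvd hp).mpr P.not_dvd_index)
    obtain ⟨β, hβ, α, hα, rfl⟩ :=
      Cfsg.Agent.S4177.exists_mul_of_coprime_index H (P : Subgroup G) hcop g
    have hαx : x * α = α * x := (hmemH α).mp hα
    have e : β * α * x * (β * α)⁻¹ = β * x * β⁻¹ := by
      rw [mul_inv_rev, mul_assoc β α x, ← hαx]; group
    rw [e]
    exact (P : Subgroup G).mul_mem ((P : Subgroup G).mul_mem hβ hxP) ((P : Subgroup G).inv_mem hβ)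
  obtain ⟨N, hNdef⟩ : ∃ N : Subgroup G, N = Subgroup.normalClosure ({x} : Set G) := ⟨_, rfl⟩
  have hNn : N.Normal := by rw [hNdef]; exact Subgroup.normalClosure_normal
  have hxN : x ∈ N := by rw [hNdef]; exact Subgroup.subset_normalClosure (Set.mem_singleton x)
  have hNP : N ≤ (P : Subgroup G) := by
    rw [hNdef]
    show Subgroup.closure (Group.conjugatesOfSet ({x} : Set G)) ≤ _
    rw [Subgroup.closure_le]
    intro z hz
    rw [Group.mem_conjugatesOfSet_iff] at hz
    obtain ⟨w, hw, hwz⟩ := hz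
    rw [Set.mem_singleton_iff] at hw
    rw [hw, isConj_iff] at hwz
    obtain ⟨c, rfl⟩ := hwz
    exact hconjP c
  have hNp : IsPGroup p N := P.isPGroup'.to_le hNP
  -- step 5: p'-elements of H centralize N
  have hcentN : ∀ y : G, y ∈ H → ¬ p ∣ orderOf y → ∀ n ∈ N, y * n = n * y := by
    intro y hyH hyp n hn
    have hyx : Commute y x := ((hmemH y).mp hyH).symm
    have hQ : (Nat.card (Subgroup.zpowers y)).Coprime p := by
      rw [Nat.card_zpowers]; exact ((Nat.Prime.coprime_iff_not_dvd hp).mpr hyp).symm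
    have hPQ : Subgroup.zpowers x ≤ Subgroup.centralizer (Subgroup.zpowers y : Set G) := by
      rw [Subgroup.zpowers_le, Subgroup.mem_centralizer_iff]
      intro h hh
      obtain ⟨i, rfl⟩ := Subgroup.mem_zpowers_iff.mp hh
      exact (hyx.zpow_left i).eq
    have hnorm : Subgroup.normalizer (N : Set G) = ⊤ := Subgroup.normalizer_eq_top_iff.mpr hNn
    have hPU : Subgroup.zpowers x ≤ Subgroup.normalizer (N : Set G) := by rw [hnorm]; exact le_top
    have hQU : Subgroup.zpowers y ≤ Subgroup.normalizer (N : Set G) := by rw [hnorm]; exact le_top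
    have hC : N ⊓ Subgroup.centralizer (Subgroup.zpowers x : Set G) ≤
        Subgroup.centralizer (Subgroup.zpowers y : Set G) := by
      intro n hn
      obtain ⟨hnN, hnx⟩ := Subgroup.mem_inf.mp hn
      rw [Subgroup.mem_centralizer_iff] at hnx
      have hxn : x * n = n * x := hnx x (Subgroup.mem_zpowers x)
      have hnH : n ∈ H := (hmemH n).mpr hxn
      have hnp : ∃ j, orderOf (⟨n, hnH⟩ : ↥H) = p ^ j := by
        obtain ⟨j, hj⟩ := (IsPGroup.iff_orderOf.mp hNp) ⟨n, hnN⟩
        have h1 : orderOf (⟨n, hnH⟩ : ↥H) = orderOf n :=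
          (Subgroup.orderOf_coe (⟨n, hnH⟩ : ↥H)).symm
        have h2 : orderOf (⟨n, hnN⟩ : ↥N) = orderOf n :=
          (Subgroup.orderOf_coe (⟨n, hnN⟩ : ↥N)).symm
        exact ⟨j, by rw [h1, ← h2, hj]⟩
      have hyp' : ¬ p ∣ orderOf (⟨y, hyH⟩ : ↥H) := by
        have h1 : orderOf (⟨y, hyH⟩ : ↥H) = orderOf y :=
          (Subgroup.orderOf_coe (⟨y, hyH⟩ : ↥H)).symm
        rw [h1]; exact hyp
      have hcomm := hcommH ⟨y, hyH⟩ ⟨n, hnH⟩ hyp' hnp
      have hyn : y * n = n * y := congrArg Subtype.val hcomm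
      rw [Subgroup.mem_centralizer_iff]
      intro h hh
      obtain ⟨i, rfl⟩ := Subgroup.mem_zpowers_iff.mp hh
      exact ((show Commute y n from hyn).zpow_left i).eq
    have hres := Cfsg.Agent.S0028.result p (Subgroup.zpowers x) (Subgroup.zpowers y) N hxp hQ hNp
      hPQ hPU hQU hC
    have h1 : y ∈ Subgroup.centralizer (N : Set G) := hres (Subgroup.mem_zpowers y)
    rw [Subgroup.mem_centralizer_iff] at h1
    exact (h1 n hn).symm
  -- step 6: the complement
  obtain ⟨K, hKdef⟩ : ∃ K : Subgroup G, K = KH.map H.subtype := ⟨_, rfl⟩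
  have hKcard : Nat.card K = Nat.card KH := by
    rw [hKdef]; exact Subgroup.card_map_of_injective H.subtype_injective
  have hKidx : K.index = p ^ (f + a) := by
    rw [hKdef, Subgroup.index_map_subtype, hKHidx, hHidx, pow_add]
  have hKnormal : K.Normal := by
    constructor
    intro k hk g
    rw [hKdef] at hk ⊢
    obtain ⟨k0, hk0, rfl⟩ := hk
    show g * (k0 : G) * g⁻¹ ∈ KH.map H.subtype
    have hk0p : ¬ p ∣ orderOf k0 := fun hd =>
      (Nat.Prime.coprime_iff_not_dvd hp).mp hKHcop.symm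
        (hd.trans (Subgroup.orderOf_dvd_natCard KH hk0))
    have hk0G : ¬ p ∣ orderOf (k0 : G) := by rw [Subgroup.orderOf_coe]; exact hk0p
    have hcn := hcentN (k0 : G) k0.2 hk0G
    have hmem : g * (k0 : G) * g⁻¹ ∈ H := by
      rw [hmemH]
      have hin : g⁻¹ * x * g ∈ N := by
        have h0 := hNn.conj_mem x hxN g⁻¹
        rwa [inv_inv] at h0
      have h1 := hcn (g⁻¹ * x * g) hin
      have e1 : x * (g * (k0 : G) * g⁻¹) = g * ((g⁻¹ * x * g) * (k0 : G)) * g⁻¹ := by group
      rw [e1, ← h1]; group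
    refine ⟨⟨_, hmem⟩, ?_, rfl⟩
    apply Cfsg.Agent.Helper16.mem_of_index_pow_of_coprime KH f hKHidx
    have e1 : orderOf (⟨g * (k0 : G) * g⁻¹, hmem⟩ : ↥H) = orderOf k0 := by
      rw [← Subgroup.orderOf_coe, ← Subgroup.orderOf_coe]
      have h0 := (MulAut.conj g).orderOf_eq (k0 : G)
      rwa [MulAut.conj_apply] at h0
    rw [e1]
    exact ((Nat.Prime.coprime_iff_not_dvd hp).mpr hk0p).symm
  have hKcop : (Nat.card K).Coprime p := by rw [hKcard]; exact hKHcop
  exact Cfsg.Agent.Helper16.npc_of_normal K hKcop (f + a) hKidx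

end Cfsg.Agent.S4127
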