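import Cfsg.Statements.S4135
import Cfsg.Agent.Helper3.Theta
import Cfsg.Agent.S4134
import Cfsg.Agent.Helper3.CycSylow
import Cfsg.Agent.Helper28.S4135x
import Cfsg.Agent.Helper28.S4135y
import Cfsg.Agent.Helper1.S4135a

set_option autoImplicit false
open Cfsg

namespace Cfsg.Agent.S4135

section aux

variable {G : Type*} [Group G] [Finite G]

/-- the two-class-size hypothesis on `N` -/
def Hyp2 (N : Subgroup G) (m : ℕ) : Prop :=
  ∀ x ∈ N, (Subgroup.centralizer ({x} : Set G)).index = 1 ∨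
    (Subgroup.centralizer ({x} : Set G)).index = m

theorem idx_m (N : Subgroup G) (m : ℕ) (h : Hyp2 N m) {x : G} (hxN : x ∈ N)
    (hxZ : x ∉ Subgroup.center G) : (Subgroup.centralizer ({x} : Set G)).index = m := by
  rcases h x hxN with h1 | h1
  · exfalso
    apply hxZ
    rw [Subgroup.index_eq_one] at h1
    rw [Subgroup.mem_center_iff]
    intro g
    have h2 : g ∈ Subgroup.centralizer ({x} : Set G) := h1 ▸ Subgroup.mem_top g
    exact ((Cfsg.Agent.S4314.mem_cent x g).1 h2).symm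
  · exact h1

theorem he (N : Subgroup G) (m : ℕ) (h : Hyp2 N m) {w v : G} (hwN : w ∈ N)
    (hwZ : w ∉ Subgroup.center G) (hvN : v ∈ N) (hvZ : v ∉ Subgroup.center G)
    (hle : Subgroup.centralizer ({w} : Set G) ≤ Subgroup.centralizer ({v} : Set G)) :
    Subgroup.centralizer ({v} : Set G) = Subgroup.centralizer ({w} : Set G) := by
  have h1 := idx_m N m h hwN hwZ
  have h2 := idx_m N m h hvN hvZ
  have h3 := Subgroup.relIndex_mul_index hle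
  rw [h1, h2] at h3
  have hm : 0 < m := by
    rw [← h1]; exact Nat.pos_of_ne_zero Subgroup.index_ne_zero_of_finite
  have h4 : (Subgroup.centralizer ({w} : Set G)).relIndex (Subgroup.centralizer ({v} : Set G)) = 1 :=
    Nat.eq_of_mul_eq_mul_right hm (by rw [h3, one_mul])
  exact le_antisymm (Subgroup.relIndex_eq_one.mp h4) hle

theorem coprime_le (N : Subgroup G) (m : ℕ) (h : Hyp2 N m) {x y : G} (hxN : x ∈ N)
    (hxZ : x ∉ Subgroup.center G) (hyN : y ∈ N) (hxy : x * y = y * x)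
    (hco : Nat.Coprime (orderOf x) (orderOf y)) :
    Subgroup.centralizer ({x} : Set G) ≤ Subgroup.centralizer ({y} : Set G) := by
  have hc : Commute x y := hxy
  have key : ∀ d : G, (x * y) * d = d * (x * y) → x * d = d * x ∧ y * d = d * y := by
    intro d hd
    have hxyS : x * y ∈ Subgroup.centralizer ({d} : Set G) :=
      (Cfsg.Agent.S4314.mem_cent d (x * y)).2 hd.symm
    have h1 : x ^ orderOf y ∈ Subgroup.centralizer ({d} : Set G) := by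
      have e : (x * y) ^ orderOf y = x ^ orderOf y := by
        rw [hc.mul_pow, pow_orderOf_eq_one, mul_one]
      rw [← e]; exact Subgroup.pow_mem _ hxyS _
    have h2 : x ^ orderOf x ∈ Subgroup.centralizer ({d} : Set G) := by
      rw [pow_orderOf_eq_one]; exact Subgroup.one_mem _
    have hx : x ∈ Subgroup.centralizer ({d} : Set G) :=
      Cfsg.Agent.S4314.mem_of_pow_pow_coprime h1 h2 hco.symm
    have h3 : y ^ orderOf x ∈ Subgroup.centralizer ({d} : Set G) := by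
      have e : (x * y) ^ orderOf x = y ^ orderOf x := by
        rw [hc.mul_pow, pow_orderOf_eq_one, one_mul]
      rw [← e]; exact Subgroup.pow_mem _ hxyS _
    have h4 : y ^ orderOf y ∈ Subgroup.centralizer ({d} : Set G) := by
      rw [pow_orderOf_eq_one]; exact Subgroup.one_mem _
    have hy : y ∈ Subgroup.centralizer ({d} : Set G) :=
      Cfsg.Agent.S4314.mem_of_pow_pow_coprime h3 h4 hco
    exact ⟨((Cfsg.Agent.S4314.mem_cent d x).1 hx).symm, ((Cfsg.Agent.S4314.mem_cent d y).1 hy).symm⟩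
  have hxyZ : x * y ∉ Subgroup.center G := by
    intro hz
    apply hxZ
    rw [Subgroup.mem_center_iff] at hz ⊢
    intro g
    exact ((key g (hz g).symm).1).symm
  have hle1 : Subgroup.centralizer ({x * y} : Set G) ≤ Subgroup.centralizer ({x} : Set G) := by
    intro d hd
    rw [Cfsg.Agent.S4314.mem_cent] at hd ⊢
    exact (key d hd).1
  have heq := he N m h (N.mul_mem hxN hyN) hxyZ hxN hxZ hle1
  rw [heq]
  intro d hd
  rw [Cfsg.Agent.S4314.mem_cent] at hd ⊢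
  exact (key d hd).2

theorem relt_mem (N : Subgroup G) [N.Normal] (r : ℕ) [Fact r.Prime] (R : Sylow r G)
    (hRN : (R : Subgroup G) ≤ N) {g : G} {k : ℕ} (hg : g ^ r ^ k = 1) : g ∈ N := by
  have h1 : orderOf g ∣ r ^ k := orderOf_dvd_of_pow_eq_one hg
  obtain ⟨i, -, hi⟩ := (Nat.dvd_prime_pow Fact.out).1 h1
  have h2 : IsPGroup r (Subgroup.zpowers g) := by
    apply IsPGroup.of_card (n := i); rw [Nat.card_zpowers, hi]
  obtain ⟨Q', hQ'⟩ := h2.exists_le_sylow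
  obtain ⟨c, hc⟩ := MulAction.exists_smul_eq G R Q'
  have h3 : c⁻¹ * g * c ∈ (R : Subgroup G) := by
    rw [← Cfsg.Agent.Helper3.CycSylow.mem_smul_sylow, hc]; exact hQ' (Subgroup.mem_zpowers g)
  have h4 := (inferInstance : N.Normal).conj_mem _ (hRN h3) c
  have e : c * (c⁻¹ * g * c) * c⁻¹ = g := by group
  rw [e] at h4
  exact h4

theorem tA (N : Subgroup G) [N.Normal] (m : ℕ) (h : Hyp2 N m) (r : ℕ) [Fact r.Prime]
    (R : Sylow r G) (hRN : (R : Subgroup G) ≤ N) (x₀ : G) (hx₀R : x₀ ∈ (R : Subgroup G))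
    (hx₀Z : x₀ ∉ Subgroup.center G) (y : G) (hyN : y ∈ N) (hyZ : y ∉ Subgroup.center G)
    (hyr : Nat.Coprime (orderOf y) r) :
    ∃ w, w ∈ N ∧ w ∈ Subgroup.centralizer ({y} : Set G) ∧ w ∉ Subgroup.center G ∧
      (∃ k : ℕ, w ^ r ^ k = 1) ∧
      (∀ c ∈ N, c ∈ Subgroup.centralizer ({y} : Set G) →
        Subgroup.centralizer ({y} : Set G) ≤ Subgroup.centralizer ({c} : Set G)) := by
  have hr : r.Prime := Fact.out
  obtain ⟨w, hwC, hwZ, k, hwk⟩ := Cfsg.Agent.Helper28.S4135y.lemB m r R x₀ y hx₀R hx₀Z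
    (idx_m N m h (hRN hx₀R) hx₀Z) (idx_m N m h hyN hyZ)
  have hwN : w ∈ N := relt_mem N r R hRN hwk
  have how : orderOf w ∣ r ^ k := orderOf_dvd_of_pow_eq_one hwk
  have hyw : y * w = w * y := (Cfsg.Agent.S4314.mem_cent y w).1 hwC
  have hco : Nat.Coprime (orderOf y) (orderOf w) :=
    Nat.Coprime.coprime_dvd_right how (Nat.Coprime.pow_right k hyr)
  have h1 := coprime_le N m h hyN hyZ hwN hyw hco
  have h2 := he N m h hyN hyZ hwN hwZ h1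
  refine ⟨w, hwN, hwC, hwZ, ⟨k, hwk⟩, ?_⟩
  intro c hcN hcC
  obtain ⟨e, s, hs, ho⟩ := Nat.exists_eq_pow_mul_and_not_dvd (orderOf_pos c).ne' r hr.ne_one
  have hyc : y * c = c * y := (Cfsg.Agent.S4314.mem_cent y c).1 hcC
  have hwc : w * c = c * w := (Cfsg.Agent.S4314.mem_cent w c).1 (h2 ▸ hcC)
  have hc1 : (c ^ s) ^ r ^ e = 1 := by rw [← pow_mul, mul_comm, ← ho, pow_orderOf_eq_one]
  have hc2 : (c ^ r ^ e) ^ s = 1 := by rw [← pow_mul, ← ho, pow_orderOf_eq_one]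
  have ho1 : orderOf (c ^ s) ∣ r ^ e := orderOf_dvd_of_pow_eq_one hc1
  have ho2 : orderOf (c ^ r ^ e) ∣ s := orderOf_dvd_of_pow_eq_one hc2
  have hrs : Nat.Coprime r s := (Nat.Prime.coprime_iff_not_dvd hr).2 hs
  have hco1 : Nat.Coprime (orderOf y) (orderOf (c ^ s)) :=
    Nat.Coprime.coprime_dvd_right ho1 (Nat.Coprime.pow_right e hyr)
  have hco2 : Nat.Coprime (orderOf w) (orderOf (c ^ r ^ e)) :=
    Nat.Coprime.coprime_dvd_left how
      (Nat.Coprime.coprime_dvd_right ho2 (Nat.Coprime.pow_left k hrs))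
  have hcomm1 : y * c ^ s = c ^ s * y := Commute.pow_right (show Commute y c from hyc) s
  have hcomm2 : w * c ^ r ^ e = c ^ r ^ e * w :=
    Commute.pow_right (show Commute w c from hwc) _
  have hle1 := coprime_le N m h hyN hyZ (N.pow_mem hcN s) hcomm1 hco1
  have hle2 := coprime_le N m h hwN hwZ (N.pow_mem hcN _) hcomm2 hco2
  rw [h2] at hle2
  intro d hd
  have hd1 : c ^ s * d = d * c ^ s := (Cfsg.Agent.S4314.mem_cent _ d).1 (hle1 hd)
  have hd2 : c ^ r ^ e * d = d * c ^ r ^ e := (Cfsg.Agent.S4314.mem_cent _ d).1 (hle2 hd)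
  have hm1 : c ^ s ∈ Subgroup.centralizer ({d} : Set G) :=
    (Cfsg.Agent.S4314.mem_cent d _).2 hd1.symm
  have hm2 : c ^ r ^ e ∈ Subgroup.centralizer ({d} : Set G) :=
    (Cfsg.Agent.S4314.mem_cent d _).2 hd2.symm
  have hc : c ∈ Subgroup.centralizer ({d} : Set G) :=
    Cfsg.Agent.S4314.mem_of_pow_pow_coprime hm1 hm2 (Nat.Coprime.pow_right e hrs.symm)
  rw [Cfsg.Agent.S4314.mem_cent]
  exact ((Cfsg.Agent.S4314.mem_cent d c).1 hc).symm

theorem q_dvd (N : Subgroup G) [N.Normal] (m : ℕ) (h : Hyp2 N m) (r : ℕ) [Fact r.Prime]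
    (R : Sylow r G) (hRN : (R : Subgroup G) ≤ N) (hrm : r ∣ m)
    (p : ℕ) [Fact p.Prime] (y : G) (hyN : y ∈ N) (hyZ : y ∉ Subgroup.center G) (j : ℕ)
    (hyp : y ^ p ^ j = 1) : p ∣ m := by
  by_contra hpm
  have hz : IsPGroup p (Subgroup.zpowers y) := by
    have h1 : orderOf y ∣ p ^ j := orderOf_dvd_of_pow_eq_one hyp
    obtain ⟨i, -, hi⟩ := (Nat.dvd_prime_pow Fact.out).1 h1
    apply IsPGroup.of_card (n := i); rw [Nat.card_zpowers, hi]
  have hle : Subgroup.zpowers y ≤ N := by rw [Subgroup.zpowers_le]; exact hyN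
  have h2 := Cfsg.Agent.Helper1.S4135a.lemA N m h p hpm (Subgroup.zpowers y) hz hle
  have h3 : (R : Subgroup G) ≤ Subgroup.centralizer ({y} : Set G) := by
    intro t ht
    rw [Cfsg.Agent.S4314.mem_cent]
    exact h2 y (Subgroup.mem_zpowers y) t (hRN ht)
  have h4 : (Subgroup.centralizer ({y} : Set G)).index ∣ (R : Subgroup G).index :=
    Subgroup.index_dvd_of_le h3
  rw [idx_m N m h hyN hyZ] at h4
  exact R.not_dvd_index (hrm.trans h4)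

theorem hkey (C : Subgroup G) {c g : G} (hc : Subgroup.centralizer ({c} : Set G) = C)
    (hc' : Subgroup.centralizer ({g * c * g⁻¹} : Set G) = C) :
    g ∈ Subgroup.normalizer (C : Set G) := by
  rw [Subgroup.mem_normalizer_iff]
  intro d
  constructor
  · intro hd
    rw [← hc] at hd
    have hd' : c * d = d * c := (Cfsg.Agent.S4314.mem_cent c d).1 hd
    rw [← hc', Cfsg.Agent.S4314.mem_cent]
    calc g * c * g⁻¹ * (g * d * g⁻¹) = g * (c * d) * g⁻¹ := by group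
      _ = g * (d * c) * g⁻¹ := by rw [hd']
      _ = g * d * g⁻¹ * (g * c * g⁻¹) := by group
  · intro hd
    rw [← hc', Cfsg.Agent.S4314.mem_cent] at hd
    rw [← hc, Cfsg.Agent.S4314.mem_cent]
    calc c * d = g⁻¹ * (g * c * g⁻¹ * (g * d * g⁻¹)) * g := by group
      _ = g⁻¹ * (g * d * g⁻¹ * (g * c * g⁻¹)) * g := by rw [hd]
      _ = d * c := by group

@[reducible] def commInst (M : Subgroup G) (hcomm : ∀ a ∈ M, ∀ b ∈ M, a * b = b * a) :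
    CommGroup ↥M :=
  { (inferInstance : Group ↥M) with mul_comm := fun a b => Subtype.ext (hcomm a a.2 b b.2) }

theorem wit_mul {M : Subgroup G} (γ₁ γ₂ : MulAut ↥M) (g₁ g₂ : G)
    (h₁ : ∀ c : ↥M, ((γ₁ c : ↥M) : G) = g₁ * c * g₁⁻¹)
    (h₂ : ∀ c : ↥M, ((γ₂ c : ↥M) : G) = g₂ * c * g₂⁻¹) :
    ∀ c : ↥M, (((γ₁ * γ₂) c : ↥M) : G) = (g₁ * g₂) * c * (g₁ * g₂)⁻¹ := by
  intro c
  show ((γ₁ (γ₂ c) : ↥M) : G) = _
  rw [h₁, h₂]; group

theorem wit_inv {M : Subgroup G} (γ : MulAut ↥M) (g : G)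
    (h : ∀ c : ↥M, ((γ c : ↥M) : G) = g * c * g⁻¹) :
    ∀ c : ↥M, (((γ⁻¹) c : ↥M) : G) = g⁻¹ * c * g⁻¹⁻¹ := by
  intro c
  have h1 := h (γ⁻¹ c)
  rw [MulAut.apply_inv_self] at h1
  have e : ((γ⁻¹ c : ↥M) : G) = g⁻¹ * (g * ((γ⁻¹ c : ↥M) : G) * g⁻¹) * g⁻¹⁻¹ := by group
  rw [e, ← h1]

theorem wit_pow {M : Subgroup G} (γ : MulAut ↥M) (g : G)
    (h : ∀ c : ↥M, ((γ c : ↥M) : G) = g * c * g⁻¹) (n : ℕ) :
    ∀ c : ↥M, (((γ ^ n) c : ↥M) : G) = g ^ n * c * (g ^ n)⁻¹ := by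
  induction n with
  | zero => intro c; simp
  | succ n ih =>
    rw [pow_succ, pow_succ]
    exact wit_mul _ _ _ _ ih h

theorem wit_one {M : Subgroup G} (γ : MulAut ↥M) (g : G)
    (h : ∀ c : ↥M, ((γ c : ↥M) : G) = g * c * g⁻¹) (hg : ∀ c ∈ M, g * c * g⁻¹ = c) : γ = 1 := by
  apply MulEquiv.ext
  intro c
  apply Subtype.ext
  rw [h]
  exact hg c c.2

theorem gam (C M : Subgroup G) (hCM : ∀ d ∈ C, ∀ c ∈ M, d * c * d⁻¹ = c)
    (hcen : ∀ c ∈ M, c ∉ Subgroup.center G → Subgroup.centralizer ({c} : Set G) = C)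
    (hnorm : ∀ g ∈ Subgroup.normalizer (C : Set G), ∀ c ∈ M, g * c * g⁻¹ ∈ M) :
    ∃ (Z₀ : Subgroup ↥M) (Γ : Subgroup (MulAut ↥M)),
      (∀ c : ↥M, c ∈ Z₀ ↔ (c : G) ∈ Subgroup.center G) ∧
      (∀ γ ∈ Γ, ∀ z ∈ Z₀, γ z = z) ∧
      (∀ γ ∈ Γ, γ ≠ 1 → ∀ c : ↥M, γ c = c → c ∈ Z₀) ∧
      (∀ γ ∈ Γ, ∃ g ∈ Subgroup.normalizer (C : Set G),
        ∀ c : ↥M, ((γ c : ↥M) : G) = g * c * g⁻¹) ∧
      (∀ g ∈ Subgroup.normalizer (C : Set G), ∃ γ ∈ Γ,
        ∀ c : ↥M, ((γ c : ↥M) : G) = g * c * g⁻¹) := by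
  let Γ : Subgroup (MulAut ↥M) :=
    { carrier := {γ | ∃ g ∈ Subgroup.normalizer (C : Set G),
        ∀ c : ↥M, ((γ c : ↥M) : G) = g * c * g⁻¹}
      mul_mem' := by
        rintro a b ⟨g₁, hg₁, h₁⟩ ⟨g₂, hg₂, h₂⟩
        exact ⟨g₁ * g₂, Subgroup.mul_mem _ hg₁ hg₂, wit_mul a b g₁ g₂ h₁ h₂⟩
      one_mem' := ⟨1, Subgroup.one_mem _, fun c => by simp⟩
      inv_mem' := by
        rintro a ⟨g, hg, h⟩
        exact ⟨g⁻¹, Subgroup.inv_mem _ hg, wit_inv a g h⟩ }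
  have hΓmem : ∀ γ, γ ∈ Γ ↔ ∃ g ∈ Subgroup.normalizer (C : Set G),
      ∀ c : ↥M, ((γ c : ↥M) : G) = g * c * g⁻¹ := fun γ => Iff.rfl
  refine ⟨(Subgroup.center G).subgroupOf M, Γ, fun c => Subgroup.mem_subgroupOf, ?_, ?_,
    fun γ hγ => (hΓmem γ).1 hγ, ?_⟩
  · intro γ hγ z hz
    obtain ⟨g, -, hg⟩ := (hΓmem γ).1 hγ
    rw [Subgroup.mem_subgroupOf] at hz
    apply Subtype.ext
    rw [hg]
    have h3 := Subgroup.mem_center_iff.1 hz g
    rw [h3, mul_inv_cancel_right]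
  · intro γ hγ hγ1 c hc
    rw [Subgroup.mem_subgroupOf]
    by_contra hcZ
    obtain ⟨g, -, hg⟩ := (hΓmem γ).1 hγ
    apply hγ1
    have h1 : g * (c : G) * g⁻¹ = c := by rw [← hg, hc]
    have h2 : g ∈ C := by
      rw [← hcen c c.2 hcZ, Cfsg.Agent.S4314.mem_cent]
      calc (c : G) * g = g * c * g⁻¹ * g := by rw [h1]
        _ = g * c := by group
    exact wit_one γ g hg (hCM g h2)
  · intro g hg
    have hg' : ∀ c ∈ M, g⁻¹ * c * g ∈ M := by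
      intro c hc
      have h3 := hnorm g⁻¹ (Subgroup.inv_mem _ hg) c hc
      rwa [inv_inv] at h3
    let γ : MulAut ↥M :=
      { toFun := fun c => ⟨g * c * g⁻¹, hnorm g hg c c.2⟩
        invFun := fun c => ⟨g⁻¹ * c * g, hg' c c.2⟩
        left_inv := fun c => Subtype.ext (by
          show g⁻¹ * (g * (c : G) * g⁻¹) * g = c
          group)
        right_inv := fun c => Subtype.ext (by
          show g * (g⁻¹ * (c : G) * g) * g⁻¹ = c
          group)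
        map_mul' := fun a b => Subtype.ext (by
          show g * ((a : G) * (b : G)) * g⁻¹ = g * a * g⁻¹ * (g * b * g⁻¹)
          group) }
    exact ⟨γ, ⟨g, hg, fun c => rfl⟩, fun c => rfl⟩

theorem tker (C M : Subgroup G) (hMC : M ≤ C) (hCM : ∀ d ∈ C, ∀ c ∈ M, d * c * d⁻¹ = c)
    (hcen : ∀ c ∈ M, c ∉ Subgroup.center G → Subgroup.centralizer ({c} : Set G) = C)
    (hnorm : ∀ g ∈ Subgroup.normalizer (C : Set G), ∀ c ∈ M, g * c * g⁻¹ ∈ M)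
    {r q : ℕ} [Fact r.Prime] [Fact q.Prime] (hrq : r ≠ q)
    (w : G) (hwM : w ∈ M) (hwZ : w ∉ Subgroup.center G) (k : ℕ) (hwr : w ^ r ^ k = 1)
    (y : G) (hyM : y ∈ M) (hyZ : y ∉ Subgroup.center G) (j : ℕ) (hyq : y ^ q ^ j = 1)
    (gβ : G) (hgβN : gβ ∈ Subgroup.normalizer (C : Set G)) (hgβC : gβ ∉ C) (kβ : ℕ)
    (hgβq : gβ ^ q ^ kβ = 1)
    (a : G) (haN : a ∈ Subgroup.normalizer (C : Set G))
    (hau : ∀ u ∈ M, (∃ i : ℕ, u ^ r ^ i = 1) → a * u * a⁻¹ * u⁻¹ ∈ Subgroup.center G) :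
    a ∈ C := by
  have hcomm : ∀ a ∈ M, ∀ b ∈ M, a * b = b * a := by
    intro a ha b hb
    have h3 := hCM a (hMC ha) b hb
    calc a * b = a * b * a⁻¹ * a := by group
      _ = b * a := by rw [h3]
  obtain ⟨Z₀, Γ, hZ₀, h1, h2, hwit, hex⟩ := gam C M hCM hcen hnorm
  obtain ⟨β, hβΓ, hβ⟩ := hex gβ hgβN
  obtain ⟨α, hαΓ, hα⟩ := hex a haN
  have hnotC : ∀ (γ : MulAut ↥M) (g : G), (∀ c : ↥M, ((γ c : ↥M) : G) = g * c * g⁻¹) →
      γ = 1 → g ∈ C := by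
    intro γ g hg h
    have h3 := hg ⟨w, hwM⟩
    rw [h] at h3
    have h4 : g * w * g⁻¹ = w := h3.symm
    rw [← hcen w hwM hwZ, Cfsg.Agent.S4314.mem_cent]
    calc w * g = g * w * g⁻¹ * g := by rw [h4]
      _ = g * w := by group
  have hpow1 : ∀ (γ : MulAut ↥M) (g : G), (∀ c : ↥M, ((γ c : ↥M) : G) = g * c * g⁻¹) →
      ∀ n : ℕ, g ^ n = 1 → γ ^ n = 1 := by
    intro γ g hg n hn
    apply wit_one (γ ^ n) (g ^ n) (wit_pow γ g hg n)
    intro c _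
    rw [hn]; simp
  have hβ1 : β ≠ 1 := fun h => hgβC (hnotC β gβ hβ h)
  have hβq : β ^ q ^ kβ = 1 := hpow1 β gβ hβ _ hgβq
  have hw' : (⟨w, hwM⟩ : ↥M) ∉ Z₀ := fun h => hwZ ((hZ₀ _).1 h)
  have hy' : (⟨y, hyM⟩ : ↥M) ∉ Z₀ := fun h => hyZ ((hZ₀ _).1 h)
  have hwr' : (⟨w, hwM⟩ : ↥M) ^ r ^ k = 1 := Subtype.ext hwr
  have hyq' : (⟨y, hyM⟩ : ↥M) ^ q ^ j = 1 := Subtype.ext hyq
  have hαu : ∀ u : ↥M, (∃ i : ℕ, u ^ r ^ i = 1) → α u * u⁻¹ ∈ Z₀ := by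
    intro u hu
    obtain ⟨i, hi⟩ := hu
    rw [hZ₀]
    have h3 : ((α u * u⁻¹ : ↥M) : G) = a * u * a⁻¹ * (u : G)⁻¹ := by
      rw [Subgroup.coe_mul, hα, Subgroup.coe_inv]
    rw [h3]
    exact hau u u.2 ⟨i, congrArg Subtype.val hi⟩
  have hα1 : α = 1 :=
    @Cfsg.Agent.Helper3.Theta.ker_trivial ↥M (commInst M hcomm) _ Z₀ Γ h1 h2 r q _ _ hrq
      ⟨w, hwM⟩ hw' k hwr' ⟨y, hyM⟩ hy' j hyq' β hβΓ hβ1 kβ hβq α hαΓ hαu
  exact hnotC α a hα hα1

theorem ttheta (C M : Subgroup G) (hMC : M ≤ C) (hCM : ∀ d ∈ C, ∀ c ∈ M, d * c * d⁻¹ = c)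
    (hcen : ∀ c ∈ M, c ∉ Subgroup.center G → Subgroup.centralizer ({c} : Set G) = C)
    (hnorm : ∀ g ∈ Subgroup.normalizer (C : Set G), ∀ c ∈ M, g * c * g⁻¹ ∈ M)
    (N : Subgroup G) [N.Normal]
    {r q : ℕ} [Fact r.Prime] [Fact q.Prime] (hrq : r ≠ q)
    (w : G) (hwM : w ∈ M) (hwZ : w ∉ Subgroup.center G) (k : ℕ) (hwr : w ^ r ^ k = 1)
    (y : G) (hyM : y ∈ M) (hyZ : y ∉ Subgroup.center G) (j : ℕ) (hyq : y ^ q ^ j = 1)
    (gα : G) (hgαN : gα ∈ Subgroup.normalizer (C : Set G)) (hgαC : gα ∉ C) (hgαN' : gα ∈ N)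
    (kα : ℕ) (hgαr : gα ^ r ^ kα = 1)
    (gβ : G) (hgβN : gβ ∈ Subgroup.normalizer (C : Set G)) (hgβC : gβ ∉ C) (kβ : ℕ)
    (hgβq : gβ ^ q ^ kβ = 1)
    (hXp : ∀ p : ℕ, p.Prime → ∀ k ∈ Subgroup.normalizer (C : Set G), k ∈ N → k ∉ C →
      ∀ e : ℕ, k ^ p ^ e = 1 → ∃ c ∈ M, c ∉ Subgroup.center G ∧ ∃ i : ℕ, c ^ p ^ i = 1) :
    False := by
  have hcomm : ∀ a ∈ M, ∀ b ∈ M, a * b = b * a := by
    intro a ha b hb
    have h3 := hCM a (hMC ha) b hb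
    calc a * b = a * b * a⁻¹ * a := by group
      _ = b * a := by rw [h3]
  obtain ⟨Z₀, Γ, hZ₀, h1, h2, hwit, hex⟩ := gam C M hCM hcen hnorm
  obtain ⟨β, hβΓ, hβ⟩ := hex gβ hgβN
  obtain ⟨α, hαΓ, hα⟩ := hex gα hgαN
  have hnotC : ∀ (γ : MulAut ↥M) (g : G), (∀ c : ↥M, ((γ c : ↥M) : G) = g * c * g⁻¹) →
      γ = 1 → g ∈ C := by
    intro γ g hg h
    have h3 := hg ⟨w, hwM⟩
    rw [h] at h3
    have h4 : g * w * g⁻¹ = w := h3.symm
    rw [← hcen w hwM hwZ, Cfsg.Agent.S4314.mem_cent]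
    calc w * g = g * w * g⁻¹ * g := by rw [h4]
      _ = g * w := by group
  have hpow1 : ∀ (γ : MulAut ↥M) (g : G), (∀ c : ↥M, ((γ c : ↥M) : G) = g * c * g⁻¹) →
      ∀ n : ℕ, g ^ n = 1 → γ ^ n = 1 := by
    intro γ g hg n hn
    apply wit_one (γ ^ n) (g ^ n) (wit_pow γ g hg n)
    intro c _
    rw [hn]; simp
  have hβ1 : β ≠ 1 := fun h => hgβC (hnotC β gβ hβ h)
  have hβq : β ^ q ^ kβ = 1 := hpow1 β gβ hβ _ hgβq
  have hα1 : α ≠ 1 := fun h => hgαC (hnotC α gα hα h)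
  have hαr : α ^ r ^ kα = 1 := hpow1 α gα hα _ hgαr
  have hw' : (⟨w, hwM⟩ : ↥M) ∉ Z₀ := fun h => hwZ ((hZ₀ _).1 h)
  have hy' : (⟨y, hyM⟩ : ↥M) ∉ Z₀ := fun h => hyZ ((hZ₀ _).1 h)
  have hwr' : (⟨w, hwM⟩ : ↥M) ^ r ^ k = 1 := Subtype.ext hwr
  have hyq' : (⟨y, hyM⟩ : ↥M) ^ q ^ j = 1 := Subtype.ext hyq
  let X : Subgroup (MulAut ↥M) :=
    { carrier := {γ | ∃ g ∈ Subgroup.normalizer (C : Set G), g ∈ N ∧
        ∀ c : ↥M, ((γ c : ↥M) : G) = g * c * g⁻¹}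
      mul_mem' := by
        rintro a b ⟨g₁, hg₁, hn₁, h₁⟩ ⟨g₂, hg₂, hn₂, h₂⟩
        exact ⟨g₁ * g₂, Subgroup.mul_mem _ hg₁ hg₂, N.mul_mem hn₁ hn₂, wit_mul a b g₁ g₂ h₁ h₂⟩
      one_mem' := ⟨1, Subgroup.one_mem _, N.one_mem, fun c => by simp⟩
      inv_mem' := by
        rintro a ⟨g, hg, hn, h⟩
        exact ⟨g⁻¹, Subgroup.inv_mem _ hg, N.inv_mem hn, wit_inv a g h⟩ }
  have hXmem : ∀ γ, γ ∈ X ↔ ∃ g ∈ Subgroup.normalizer (C : Set G), g ∈ N ∧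
      ∀ c : ↥M, ((γ c : ↥M) : G) = g * c * g⁻¹ := fun γ => Iff.rfl
  have hext : ∀ (γ γ' : MulAut ↥M) (g : G), (∀ c : ↥M, ((γ c : ↥M) : G) = g * c * g⁻¹) →
      (∀ c : ↥M, ((γ' c : ↥M) : G) = g * c * g⁻¹) → γ = γ' := by
    intro γ γ' g h h'
    apply MulEquiv.ext
    intro c
    apply Subtype.ext
    rw [h, h']
  have hXΓ : X ≤ Γ := by
    intro γ hγ
    obtain ⟨g, hg, -, h⟩ := (hXmem γ).1 hγ
    obtain ⟨γ', hγ', h'⟩ := hex g hg
    rw [hext γ γ' g h h']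
    exact hγ'
  have hαX : α ∈ X := (hXmem α).2 ⟨gα, hgαN, hgαN', hα⟩
  have hXn : ∀ γ ∈ Γ, ∀ ξ ∈ X, γ * ξ * γ⁻¹ ∈ X := by
    intro γ hγ ξ hξ
    obtain ⟨g, hg, h⟩ := hwit γ hγ
    obtain ⟨k', hk', hkN, h'⟩ := (hXmem ξ).1 hξ
    rw [hXmem]
    refine ⟨g * k' * g⁻¹, Subgroup.mul_mem _ (Subgroup.mul_mem _ hg hk') (Subgroup.inv_mem _ hg),
      (inferInstance : N.Normal).conj_mem k' hkN g, ?_⟩
    exact wit_mul (γ * ξ) γ⁻¹ (g * k') g⁻¹ (wit_mul γ ξ g k' h h') (wit_inv γ g h)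
  have hXp' : ∀ p : ℕ, p.Prime → ∀ ξ ∈ X, ξ ≠ 1 → ξ ^ p = 1 →
      ∃ c : ↥M, c ∉ Z₀ ∧ ∃ i : ℕ, c ^ p ^ i = 1 := by
    intro p hp ξ hξ hξ1 hξp
    obtain ⟨k', hk', hkN, h'⟩ := (hXmem ξ).1 hξ
    obtain ⟨e, s, hs, ho⟩ := Nat.exists_eq_pow_mul_and_not_dvd (orderOf_pos k').ne' p hp.ne_one
    have hks : (k' ^ s) ^ p ^ e = 1 := by rw [← pow_mul, mul_comm, ← ho, pow_orderOf_eq_one]
    have hksC : k' ^ s ∉ C := by
      intro hC
      have h3 : ξ ^ s = 1 := wit_one (ξ ^ s) (k' ^ s) (wit_pow ξ k' h' s) (hCM _ hC)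
      have h4 : ξ ^ s ∈ (⊥ : Subgroup (MulAut ↥M)) := by rw [h3]; exact Subgroup.one_mem _
      have h5 : ξ ^ p ∈ (⊥ : Subgroup (MulAut ↥M)) := by rw [hξp]; exact Subgroup.one_mem _
      have h6 := Cfsg.Agent.S4314.mem_of_pow_pow_coprime h4 h5
        ((Nat.Prime.coprime_iff_not_dvd hp).2 hs).symm
      exact hξ1 (Subgroup.mem_bot.1 h6)
    obtain ⟨c, hcM, hcZ, i, hci⟩ := hXp p hp (k' ^ s) (Subgroup.pow_mem _ hk' s)
      (N.pow_mem hkN s) hksC e hks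
    exact ⟨⟨c, hcM⟩, fun h => hcZ ((hZ₀ _).1 h), i, Subtype.ext hci⟩
  exact @Cfsg.Agent.Helper3.Theta.theta ↥M (commInst M hcomm) _ Z₀ Γ X hXΓ h1 h2 hXn r q _ _ hrq
    ⟨w, hwM⟩ hw' k hwr' ⟨y, hyM⟩ hy' j hyq' α hαX hα1 kα hαr β hβΓ hβ1 kβ hβq hXp'

theorem nset (N : Subgroup G) [N.Normal] (m : ℕ) (h : Hyp2 N m) (r : ℕ) [Fact r.Prime]
    (R : Sylow r G) (hRN : (R : Subgroup G) ≤ N) (x₀ : G) (hx₀R : x₀ ∈ (R : Subgroup G))
    (hx₀Z : x₀ ∉ Subgroup.center G) (y : G) (hyN : y ∈ N) (hyZ : y ∉ Subgroup.center G)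
    (hyr : Nat.Coprime (orderOf y) r) :
    ∃ w, w ∈ Subgroup.centralizer ({y} : Set G) ⊓ N ∧ w ∉ Subgroup.center G ∧
      (∃ k : ℕ, w ^ r ^ k = 1) ∧
      (∀ d ∈ Subgroup.centralizer ({y} : Set G),
        ∀ c ∈ Subgroup.centralizer ({y} : Set G) ⊓ N, d * c * d⁻¹ = c) ∧
      (∀ c ∈ Subgroup.centralizer ({y} : Set G) ⊓ N, c ∉ Subgroup.center G →
        Subgroup.centralizer ({c} : Set G) = Subgroup.centralizer ({y} : Set G)) ∧
      (∀ g ∈ Subgroup.normalizer ((Subgroup.centralizer ({y} : Set G) : Subgroup G) : Set G),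
        ∀ c ∈ Subgroup.centralizer ({y} : Set G) ⊓ N,
          g * c * g⁻¹ ∈ Subgroup.centralizer ({y} : Set G) ⊓ N) := by
  obtain ⟨w, hwN, hwC, hwZ, hwk, hcen⟩ := tA N m h r R hRN x₀ hx₀R hx₀Z y hyN hyZ hyr
  refine ⟨w, ⟨hwC, hwN⟩, hwZ, hwk, ?_, ?_, ?_⟩
  · intro d hd c hc
    have h1 := hcen c hc.2 hc.1 hd
    have h2 : c * d = d * c := (Cfsg.Agent.S4314.mem_cent c d).1 h1
    rw [← h2, mul_inv_cancel_right]
  · intro c hc hcZ
    exact he N m h hyN hyZ hc.2 hcZ (hcen c hc.2 hc.1)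
  · intro g hg c hc
    exact ⟨(Subgroup.mem_normalizer_iff.1 hg c).1 hc.1, (inferInstance : N.Normal).conj_mem c hc.2 g⟩

theorem elt (N : Subgroup G) [N.Normal] (m : ℕ) (h : Hyp2 N m) (y : G) (hyN : y ∈ N)
    (hyZ : y ∉ Subgroup.center G)
    (hcen : ∀ c ∈ Subgroup.centralizer ({y} : Set G) ⊓ N, c ∉ Subgroup.center G →
      Subgroup.centralizer ({c} : Set G) = Subgroup.centralizer ({y} : Set G))
    (p : ℕ) [Fact p.Prime] (hpm : p ∣ m) (c : G)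
    (hc : c ∈ Subgroup.centralizer ({y} : Set G) ⊓ N) (hcZ : c ∉ Subgroup.center G)
    (hcp : ∃ k : ℕ, c ^ p ^ k = 1) :
    ∃ g, g ∈ Subgroup.normalizer ((Subgroup.centralizer ({y} : Set G) : Subgroup G) : Set G) ∧
      g ∉ Subgroup.centralizer ({y} : Set G) ∧ ∃ k : ℕ, g ^ p ^ k = 1 := by
  have hidx : p ∣ (Subgroup.centralizer ({y} : Set G)).index := by
    rw [idx_m N m h hyN hyZ]; exact hpm
  obtain ⟨g, hgC, hgp, hgc⟩ := Cfsg.Agent.Helper28.S4135x.lemC _ p hidx c hc.1 hcp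
  refine ⟨g, ?_, hgC, hgp⟩
  have hc' : g * c * g⁻¹ ∈ Subgroup.centralizer ({y} : Set G) ⊓ N :=
    ⟨hgc, (inferInstance : N.Normal).conj_mem c hc.2 g⟩
  have hcZ' : g * c * g⁻¹ ∉ Subgroup.center G := by
    have h3 := Cfsg.Agent.S4314.conj_not_center (g := g⁻¹) hcZ
    rwa [inv_inv] at h3
  exact hkey _ (hcen c hc hcZ) (hcen _ hc' hcZ')

theorem exMr (N : Subgroup G) (r : ℕ) [Fact r.Prime] (y : G)
    (hcomm : ∀ a ∈ Subgroup.centralizer ({y} : Set G) ⊓ N,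
      ∀ b ∈ Subgroup.centralizer ({y} : Set G) ⊓ N, a * b = b * a) :
    ∃ S : Sylow r G, ∀ u ∈ Subgroup.centralizer ({y} : Set G) ⊓ N,
      (∃ i : ℕ, u ^ r ^ i = 1) → u ∈ (S : Subgroup G) := by
  let Mr : Subgroup G :=
    { carrier := {u | u ∈ Subgroup.centralizer ({y} : Set G) ⊓ N ∧ ∃ i : ℕ, u ^ r ^ i = 1}
      mul_mem' := by
        rintro a b ⟨ha, i, hi⟩ ⟨hb, j, hj⟩
        refine ⟨Subgroup.mul_mem _ ha hb, i + j, ?_⟩
        have hc : Commute a b := hcomm a ha b hb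
        rw [hc.mul_pow, pow_add, pow_mul, hi, one_pow, one_mul, mul_comm (r ^ i), pow_mul, hj,
          one_pow]
      one_mem' := ⟨Subgroup.one_mem _, 0, one_pow _⟩
      inv_mem' := by
        rintro a ⟨ha, i, hi⟩
        exact ⟨Subgroup.inv_mem _ ha, i, by rw [inv_pow, hi, inv_one]⟩ }
  have hMr : IsPGroup r Mr := by
    rintro ⟨u, hu⟩
    obtain ⟨i, hi⟩ := hu.2
    exact ⟨i, Subtype.ext hi⟩
  obtain ⟨S, hS⟩ := hMr.exists_le_sylow
  exact ⟨S, fun u hu hi => hS ⟨hu, hi⟩⟩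

theorem cop_of_pow {p r : ℕ} (hp : p.Prime) (hr : r.Prime) (hrp : r ≠ p) {y : G} {j : ℕ}
    (hyp : y ^ p ^ j = 1) : Nat.Coprime (orderOf y) r :=
  Nat.Coprime.coprime_dvd_left (orderOf_dvd_of_pow_eq_one hyp)
    (Nat.Coprime.pow_left j ((Nat.coprime_primes hp hr).2 (Ne.symm hrp)))

theorem aC (N : Subgroup G) [N.Normal] (m : ℕ) (h : Hyp2 N m) (r : ℕ) [Fact r.Prime]
    (R : Sylow r G) (hRN : (R : Subgroup G) ≤ N) (hrm : r ∣ m) (x₀ : G)
    (hx₀R : x₀ ∈ (R : Subgroup G)) (hx₀Z : x₀ ∉ Subgroup.center G)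
    (p : ℕ) [Fact p.Prime] (hrp : r ≠ p) (y : G) (hyN : y ∈ N) (hyZ : y ∉ Subgroup.center G)
    (j : ℕ) (hyp : y ^ p ^ j = 1)
    (S : Sylow r G) (hS : ∀ u ∈ Subgroup.centralizer ({y} : Set G) ⊓ N,
      (∃ i : ℕ, u ^ r ^ i = 1) → u ∈ (S : Subgroup G))
    (a : G) (hacm : ∀ g ∈ (S : Subgroup G), ∃ z ∈ Subgroup.center G, g * a * g⁻¹ = z * a) :
    a ∈ Subgroup.centralizer ({y} : Set G) := by
  have hyr : Nat.Coprime (orderOf y) r := cop_of_pow Fact.out Fact.out hrp hyp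
  obtain ⟨w, hwM, hwZ, ⟨k, hwk⟩, hCM, hcen, hnorm⟩ :=
    nset N m h r R hRN x₀ hx₀R hx₀Z y hyN hyZ hyr
  have hyM : y ∈ Subgroup.centralizer ({y} : Set G) ⊓ N :=
    ⟨Cfsg.Agent.S4134.self_mem_cent y, hyN⟩
  have hpm : p ∣ m := q_dvd N m h r R hRN hrm p y hyN hyZ j hyp
  obtain ⟨gβ, hgβN, hgβC, kβ, hgβ⟩ := elt N m h y hyN hyZ hcen p hpm y hyM hyZ ⟨j, hyp⟩
  have hau : ∀ u ∈ Subgroup.centralizer ({y} : Set G) ⊓ N, (∃ i : ℕ, u ^ r ^ i = 1) →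
      a * u * a⁻¹ * u⁻¹ ∈ Subgroup.center G := by
    intro u hu hi
    obtain ⟨z, hz, hzu⟩ := hacm u (hS u hu hi)
    have e : a * u * a⁻¹ * u⁻¹ = a * (u * a * u⁻¹)⁻¹ := by group
    rw [e, hzu, mul_inv_rev, mul_inv_cancel_left]
    exact Subgroup.inv_mem _ hz
  have haN : a ∈ Subgroup.normalizer
      ((Subgroup.centralizer ({y} : Set G) : Subgroup G) : Set G) := by
    have h1 := hau w hwM ⟨k, hwk⟩
    have h2 : a * w * a⁻¹ = (a * w * a⁻¹ * w⁻¹) * w := by group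
    have h3 : a * w * a⁻¹ ∈ Subgroup.centralizer ({y} : Set G) ⊓ N := by
      refine ⟨?_, (inferInstance : N.Normal).conj_mem w hwM.2 a⟩
      rw [h2]
      exact Subgroup.mul_mem _ (Cfsg.Agent.S4134.center_le_cent y h1) hwM.1
    have h4 : a * w * a⁻¹ ∉ Subgroup.center G := by
      have h5 := Cfsg.Agent.S4314.conj_not_center (g := a⁻¹) hwZ
      rwa [inv_inv] at h5
    exact hkey _ (hcen w hwM hwZ) (hcen _ h3 h4)
  exact tker _ _ inf_le_left hCM hcen hnorm hrp w hwM hwZ k hwk y hyM hyZ j hyp gβ hgβN hgβC kβ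
    hgβ a haN hau

theorem canon (N : Subgroup G) [N.Normal] (m : ℕ) (h : Hyp2 N m) (r : ℕ) [Fact r.Prime]
    (R : Sylow r G) (hRN : (R : Subgroup G) ≤ N) (hrm : r ∣ m) (x₀ : G)
    (hx₀R : x₀ ∈ (R : Subgroup G)) (hx₀Z : x₀ ∉ Subgroup.center G)
    (q : ℕ) [Fact q.Prime] (hrq : r ≠ q) (y : G) (hyN : y ∈ N) (hyZ : y ∉ Subgroup.center G)
    (j : ℕ) (hyq : y ^ q ^ j = 1)
    (p : ℕ) [Fact p.Prime] (hrp : r ≠ p) (y₂ : G) (hy₂N : y₂ ∈ N)
    (hy₂Z : y₂ ∉ Subgroup.center G) (e : ℕ) (hy₂p : y₂ ^ p ^ e = 1) :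
    ∃ t : G, t * y₂ * t⁻¹ ∈ Subgroup.centralizer ({y} : Set G) := by
  have hyr : Nat.Coprime (orderOf y) r := cop_of_pow Fact.out Fact.out hrq hyq
  have hy₂r : Nat.Coprime (orderOf y₂) r := cop_of_pow Fact.out Fact.out hrp hy₂p
  obtain ⟨w, hwM, hwZ, hwk, hCM, hcen, hnorm⟩ :=
    nset N m h r R hRN x₀ hx₀R hx₀Z y hyN hyZ hyr
  obtain ⟨w₂, hw₂M, hw₂Z, hw₂k, hCM₂, hcen₂, hnorm₂⟩ :=
    nset N m h r R hRN x₀ hx₀R hx₀Z y₂ hy₂N hy₂Z hy₂r
  have hcomm : ∀ a ∈ Subgroup.centralizer ({y} : Set G) ⊓ N,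
      ∀ b ∈ Subgroup.centralizer ({y} : Set G) ⊓ N, a * b = b * a := by
    intro a ha b hb
    have h3 := hCM a ha.1 b hb
    calc a * b = a * b * a⁻¹ * a := by group
      _ = b * a := by rw [h3]
  have hcomm₂ : ∀ a ∈ Subgroup.centralizer ({y₂} : Set G) ⊓ N,
      ∀ b ∈ Subgroup.centralizer ({y₂} : Set G) ⊓ N, a * b = b * a := by
    intro a ha b hb
    have h3 := hCM₂ a ha.1 b hb
    calc a * b = a * b * a⁻¹ * a := by group
      _ = b * a := by rw [h3]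
  obtain ⟨S₁, hS₁⟩ := exMr N r y hcomm
  obtain ⟨S₂, hS₂⟩ := exMr N r y₂ hcomm₂
  have hS₁Z : ¬ (S₁ : Subgroup G) ≤ Subgroup.center G := by
    intro hle
    obtain ⟨c, hc⟩ := MulAction.exists_smul_eq G S₁ R
    have h1 : c⁻¹ * x₀ * c ∈ (S₁ : Subgroup G) := by
      rw [← Cfsg.Agent.Helper3.CycSylow.mem_smul_sylow, hc]; exact hx₀R
    exact (Cfsg.Agent.S4314.conj_not_center (g := c) hx₀Z) (hle h1)
  obtain ⟨a₁, ha₁S, ha₁Z, ha₁cm⟩ := Cfsg.Agent.S4134.exists_central_mod (S₁ : Subgroup G)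
    S₁.isPGroup' (Subgroup.center G) hS₁Z
  have ha₁C := aC N m h r R hRN hrm x₀ hx₀R hx₀Z q hrq y hyN hyZ j hyq S₁ hS₁ a₁ ha₁cm
  have ha₁N : a₁ ∈ N := by
    obtain ⟨i, hi⟩ := S₁.isPGroup' ⟨a₁, ha₁S⟩
    exact relt_mem N r R hRN (show a₁ ^ r ^ i = 1 from congrArg Subtype.val hi)
  have hca₁ := hcen a₁ ⟨ha₁C, ha₁N⟩ ha₁Z
  obtain ⟨c, hc⟩ := MulAction.exists_smul_eq G S₁ S₂
  have ha₂cm : ∀ g ∈ (S₂ : Subgroup G), ∃ z ∈ Subgroup.center G,
      g * (c * a₁ * c⁻¹) * g⁻¹ = z * (c * a₁ * c⁻¹) := by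
    intro g hg
    have hg' : c⁻¹ * g * c ∈ (S₁ : Subgroup G) := by
      rw [← Cfsg.Agent.Helper3.CycSylow.mem_smul_sylow, hc]; exact hg
    obtain ⟨z, hz, hzg⟩ := ha₁cm _ hg'
    refine ⟨z, hz, ?_⟩
    have hzc : ∀ b : G, b * z = z * b := Subgroup.mem_center_iff.1 hz
    calc g * (c * a₁ * c⁻¹) * g⁻¹
        = c * ((c⁻¹ * g * c) * a₁ * (c⁻¹ * g * c)⁻¹) * c⁻¹ := by group
      _ = c * (z * a₁) * c⁻¹ := by rw [hzg]
      _ = (c * z) * a₁ * c⁻¹ := by group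
      _ = (z * c) * a₁ * c⁻¹ := by rw [hzc c]
      _ = z * (c * a₁ * c⁻¹) := by group
  have ha₂C := aC N m h r R hRN hrm x₀ hx₀R hx₀Z p hrp y₂ hy₂N hy₂Z e hy₂p S₂ hS₂
    (c * a₁ * c⁻¹) ha₂cm
  refine ⟨c⁻¹, ?_⟩
  rw [inv_inv, ← hca₁, Cfsg.Agent.S4314.mem_cent]
  have h5 : y₂ * (c * a₁ * c⁻¹) = (c * a₁ * c⁻¹) * y₂ :=
    (Cfsg.Agent.S4314.mem_cent y₂ _).1 ha₂C
  calc a₁ * (c⁻¹ * y₂ * c) = c⁻¹ * ((c * a₁ * c⁻¹) * y₂) * c := by group
    _ = c⁻¹ * (y₂ * (c * a₁ * c⁻¹)) * c := by rw [h5]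
    _ = c⁻¹ * y₂ * c * a₁ := by group

theorem core (N : Subgroup G) [N.Normal] (m : ℕ) (h : Hyp2 N m) (r : ℕ) [Fact r.Prime]
    (R : Sylow r G) (hRN : (R : Subgroup G) ≤ N) (hrm : r ∣ m) (x₀ : G)
    (hx₀R : x₀ ∈ (R : Subgroup G)) (hx₀Z : x₀ ∉ Subgroup.center G)
    (q : ℕ) [Fact q.Prime] (hrq : r ≠ q) (y : G) (hyN : y ∈ N) (hyZ : y ∉ Subgroup.center G)
    (j : ℕ) (hyq : y ^ q ^ j = 1) : False := by
  have hyr : Nat.Coprime (orderOf y) r := cop_of_pow Fact.out Fact.out hrq hyq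
  obtain ⟨w, hwM, hwZ, ⟨k, hwk⟩, hCM, hcen, hnorm⟩ :=
    nset N m h r R hRN x₀ hx₀R hx₀Z y hyN hyZ hyr
  have hyM : y ∈ Subgroup.centralizer ({y} : Set G) ⊓ N :=
    ⟨Cfsg.Agent.S4134.self_mem_cent y, hyN⟩
  have hqm : q ∣ m := q_dvd N m h r R hRN hrm q y hyN hyZ j hyq
  obtain ⟨gβ, hgβN, hgβC, kβ, hgβ⟩ := elt N m h y hyN hyZ hcen q hqm y hyM hyZ ⟨j, hyq⟩
  obtain ⟨gα, hgαN, hgαC, kα, hgα⟩ := elt N m h y hyN hyZ hcen r hrm w hwM hwZ ⟨k, hwk⟩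
  have hgαN' : gα ∈ N := relt_mem N r R hRN hgα
  refine ttheta _ _ inf_le_left hCM hcen hnorm N hrq w hwM hwZ k hwk y hyM hyZ j hyq gα hgαN
    hgαC hgαN' kα hgα gβ hgβN hgβC kβ hgβ ?_
  intro p hp k' hk'N hk'N' hk'C e hk'p
  haveI : Fact p.Prime := ⟨hp⟩
  by_cases hpr : p = r
  · exact ⟨w, hwM, hwZ, k, by rw [hpr]; exact hwk⟩
  · have hk'Z : k' ∉ Subgroup.center G := fun hz => hk'C (Cfsg.Agent.S4134.center_le_cent y hz)
    obtain ⟨t, ht⟩ := canon N m h r R hRN hrm x₀ hx₀R hx₀Z q hrq y hyN hyZ j hyq p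
      (Ne.symm hpr) k' hk'N' hk'Z e hk'p
    refine ⟨t * k' * t⁻¹, ⟨ht, (inferInstance : N.Normal).conj_mem k' hk'N' t⟩, ?_, e, ?_⟩
    · have h3 := Cfsg.Agent.S4314.conj_not_center (g := t⁻¹) hk'Z
      rwa [inv_inv] at h3
    · rw [conj_pow, hk'p]; group

end aux


/-- Let G be a finite group, r a prime and R a Sylow r-subgroup of G that is not central, N a normal subgroup of G containing R, and m a natural number such that every element of N has a conjugacy class in G of size 1 or m. Then N is nilpotent. -/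
theorem result {G : Type*} [Group G] [Finite G] (r : ℕ) [Fact r.Prime]
    (R : Sylow r G) (hR : ¬ (R : Subgroup G) ≤ Subgroup.center G) (N : Subgroup G) [N.Normal] (hRN : (R : Subgroup G) ≤ N)
    (m : ℕ) (h : ∀ x ∈ N, (Subgroup.centralizer ({x} : Set G)).index = 1 ∨ (Subgroup.centralizer ({x} : Set G)).index = m) : Group.IsNilpotent N := by
  classical
  have hr : r.Prime := Fact.out
  have hH : Hyp2 N m := h
  obtain ⟨x₀, hx₀R, hx₀Z⟩ : ∃ x₀ ∈ (R : Subgroup G), x₀ ∉ Subgroup.center G := by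
    by_contra hcon
    push Not at hcon
    exact hR hcon
  have key : ∀ x ∈ N, ∃ k : ℕ, ∀ n ∈ N, x ^ r ^ k * n = n * x ^ r ^ k := by
    intro x hxN
    obtain ⟨e, s, hs, ho⟩ := Nat.exists_eq_pow_mul_and_not_dvd (orderOf_pos x).ne' r hr.ne_one
    have hrs : Nat.Coprime r s := (Nat.Prime.coprime_iff_not_dvd hr).2 hs
    have hx2 : (x ^ r ^ e) ^ s = 1 := by rw [← pow_mul, ← ho, pow_orderOf_eq_one]
    have ho2 : orderOf (x ^ r ^ e) ∣ s := orderOf_dvd_of_pow_eq_one hx2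
    by_cases hrm : r ∣ m
    · refine ⟨e, ?_⟩
      have hcen : x ^ r ^ e ∈ Subgroup.center G := by
        by_contra hnc
        have hex : ∃ n : ℕ, ∃ y ∈ N, y ∉ Subgroup.center G ∧ Nat.Coprime (orderOf y) r ∧
            orderOf y = n :=
          ⟨_, x ^ r ^ e, N.pow_mem hxN _, hnc, Nat.Coprime.coprime_dvd_left ho2 hrs.symm, rfl⟩
        obtain ⟨y, hyN, hyZ, hyr, hyo⟩ := Nat.find_spec hex
        have hmin : ∀ y' ∈ N, y' ∉ Subgroup.center G → Nat.Coprime (orderOf y') r →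
            Nat.find hex ≤ orderOf y' :=
          fun y' h1 h2 h3 => Nat.find_min' hex ⟨y', h1, h2, h3, rfl⟩
        rw [← hyo] at hmin
        have hy1 : orderOf y ≠ 1 := by
          intro h1
          rw [orderOf_eq_one_iff] at h1
          exact hyZ (h1 ▸ Subgroup.one_mem _)
        obtain ⟨q, hq, hqo⟩ := Nat.exists_prime_and_dvd hy1
        obtain ⟨j, b, hb, hob⟩ := Nat.exists_eq_pow_mul_and_not_dvd (orderOf_pos y).ne' q hq.ne_one
        have hqb : Nat.Coprime q b := (Nat.Prime.coprime_iff_not_dvd hq).2 hb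
        have hj0 : j ≠ 0 := by
          intro h0
          rw [h0, pow_zero, one_mul] at hob
          exact hb (hob ▸ hqo)
        have hb1 : b = 1 := by
          by_contra hb1
          have hbpos : 0 < b := Nat.pos_of_ne_zero (fun h0 => hb (h0 ▸ dvd_zero q))
          have hb2 : 1 < b := by omega
          have hqj : 2 ≤ q ^ j := (hq.two_le).trans (Nat.le_self_pow hj0 q)
          have hqjpos : 0 < q ^ j := by omega
          have h1 : (y ^ q ^ j) ^ b = 1 := by rw [← pow_mul, ← hob, pow_orderOf_eq_one]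
          have h2 : (y ^ b) ^ q ^ j = 1 := by rw [← pow_mul, mul_comm, ← hob, pow_orderOf_eq_one]
          have ho1 : orderOf (y ^ q ^ j) ∣ b := orderOf_dvd_of_pow_eq_one h1
          have ho2' : orderOf (y ^ b) ∣ q ^ j := orderOf_dvd_of_pow_eq_one h2
          have hdvd1 : b ∣ orderOf y := ⟨q ^ j, by rw [hob, mul_comm]⟩
          have hdvd2 : q ^ j ∣ orderOf y := ⟨b, hob⟩
          have hlt1 : orderOf (y ^ q ^ j) < orderOf y := by
            calc orderOf (y ^ q ^ j) ≤ b := Nat.le_of_dvd hbpos ho1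
              _ < 2 * b := by omega
              _ ≤ q ^ j * b := Nat.mul_le_mul_right b hqj
              _ = orderOf y := hob.symm
          have hlt2 : orderOf (y ^ b) < orderOf y := by
            calc orderOf (y ^ b) ≤ q ^ j := Nat.le_of_dvd hqjpos ho2'
              _ < q ^ j * b := lt_mul_of_one_lt_right hqjpos hb2
              _ = orderOf y := hob.symm
          have hc1 : y ^ q ^ j ∈ Subgroup.center G := by
            by_contra hn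
            have h3 := hmin _ (N.pow_mem hyN _) hn
              (Nat.Coprime.coprime_dvd_left (ho1.trans hdvd1) hyr)
            omega
          have hc2 : y ^ b ∈ Subgroup.center G := by
            by_contra hn
            have h3 := hmin _ (N.pow_mem hyN _) hn
              (Nat.Coprime.coprime_dvd_left (ho2'.trans hdvd2) hyr)
            omega
          exact hyZ (Cfsg.Agent.S4314.mem_of_pow_pow_coprime hc1 hc2 (Nat.Coprime.pow_left j hqb))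
        rw [hb1, mul_one] at hob
        haveI : Fact q.Prime := ⟨hq⟩
        have hrq : r ≠ q := by
          intro hrq
          have h3 : r ∣ orderOf y := hrq ▸ hqo
          have h4 := Nat.Coprime.eq_one_of_dvd hyr.symm h3
          exact hr.one_lt.ne' h4
        exact core N m hH r R hRN hrm x₀ hx₀R hx₀Z q hrq y hyN hyZ j
          (by rw [← hob]; exact pow_orderOf_eq_one y)
      intro n _
      exact (Subgroup.mem_center_iff.1 hcen n).symm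
    · refine ⟨0, ?_⟩
      rw [pow_zero, pow_one]
      have hRc := Cfsg.Agent.Helper1.S4135a.lemA N m h r hrm (R : Subgroup G) R.isPGroup' hRN
      intro n hnN
      have hx1 : (x ^ s) ^ r ^ e = 1 := by rw [← pow_mul, mul_comm, ← ho, pow_orderOf_eq_one]
      have h1 : x ^ s ∈ Subgroup.centralizer ({n} : Set G) := by
        rw [Cfsg.Agent.S4314.mem_cent]
        have ho1 : orderOf (x ^ s) ∣ r ^ e := orderOf_dvd_of_pow_eq_one hx1
        obtain ⟨i, -, hi⟩ := (Nat.dvd_prime_pow hr).1 ho1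
        have hz : IsPGroup r (Subgroup.zpowers (x ^ s)) := by
          apply IsPGroup.of_card (n := i); rw [Nat.card_zpowers, hi]
        obtain ⟨Q', hQ'⟩ := hz.exists_le_sylow
        obtain ⟨c, hc⟩ := MulAction.exists_smul_eq G R Q'
        have h3 : c⁻¹ * x ^ s * c ∈ (R : Subgroup G) := by
          rw [← Cfsg.Agent.Helper3.CycSylow.mem_smul_sylow, hc]
          exact hQ' (Subgroup.mem_zpowers _)
        have h4 := hRc _ h3 (c⁻¹ * n * c) (by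
          have h5 := (inferInstance : N.Normal).conj_mem n hnN c⁻¹
          rwa [inv_inv] at h5)
        calc n * x ^ s = c * ((c⁻¹ * n * c) * (c⁻¹ * x ^ s * c)) * c⁻¹ := by group
          _ = c * ((c⁻¹ * x ^ s * c) * (c⁻¹ * n * c)) * c⁻¹ := by rw [h4]
          _ = x ^ s * n := by group
      have h2 : x ^ r ^ e ∈ Subgroup.centralizer ({n} : Set G) := by
        rw [Cfsg.Agent.S4314.mem_cent]
        have hx₀x : x₀ * x ^ r ^ e = x ^ r ^ e * x₀ := hRc x₀ hx₀R _ (N.pow_mem hxN _)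
        obtain ⟨i, hi⟩ := R.isPGroup' ⟨x₀, hx₀R⟩
        have hx₀i : x₀ ^ r ^ i = 1 := congrArg Subtype.val hi
        have hox₀ : orderOf x₀ ∣ r ^ i := orderOf_dvd_of_pow_eq_one hx₀i
        have hco : Nat.Coprime (orderOf x₀) (orderOf (x ^ r ^ e)) :=
          Nat.Coprime.coprime_dvd_left hox₀
            (Nat.Coprime.coprime_dvd_right ho2 (Nat.Coprime.pow_left i hrs))
        have hle := coprime_le N m hH (hRN hx₀R) hx₀Z (N.pow_mem hxN _) hx₀x hco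
        have hn : n ∈ Subgroup.centralizer ({x₀} : Set G) := by
          rw [Cfsg.Agent.S4314.mem_cent]; exact hRc x₀ hx₀R n hnN
        exact ((Cfsg.Agent.S4314.mem_cent _ n).1 (hle hn)).symm
      have h3 := Cfsg.Agent.S4314.mem_of_pow_pow_coprime h1 h2 (Nat.Coprime.pow_right e hrs.symm)
      exact ((Cfsg.Agent.S4314.mem_cent n x).1 h3).symm
  have hP : IsPGroup r (↥N ⧸ Subgroup.center ↥N) := by
    intro xb
    induction xb using QuotientGroup.induction_on with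
    | H x =>
      obtain ⟨k, hk⟩ := key x x.2
      refine ⟨k, ?_⟩
      rw [← QuotientGroup.mk_pow, QuotientGroup.eq_one_iff, Subgroup.mem_center_iff]
      intro n
      apply Subtype.ext
      exact (hk n n.2).symm
  haveI := hP.isNilpotent
  exact Group.of_quotient_center_nilpotent inferInstance

end Cfsg.Agent.S4135
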