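import Mathlib
import Cfsg.Statements.S4143
import Cfsg.Agent.S0112
import Cfsg.Agent.Helper19.PCenter
import Cfsg.Agent.Helper19.PGroup
import Cfsg.Agent.Helper7.Components

set_option autoImplicit false
open Cfsg
open scoped Pointwise

namespace Cfsg.Agent.S4143

theorem card_pow_of_le {X : Type*} [Group X] [Finite X] {p : ℕ} [Fact p.Prime] {K B : Subgroup X}
    (hB : Nat.card B = p ^ 3) (hKB : K ≤ B) : ∃ j, j ≤ 3 ∧ Nat.card K = p ^ j := by
  have hp : p.Prime := Fact.out
  have h := Subgroup.card_dvd_of_le hKB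
  rw [hB] at h
  exact (Nat.dvd_prime_pow hp).mp h

theorem eq_top_of_between {X : Type*} [Group X] [Finite X] {p : ℕ} [Fact p.Prime]
    {A K B : Subgroup X} (hA : Nat.card A = p ^ 2) (hB : Nat.card B = p ^ 3) (hAK : A ≤ K)
    (hKB : K ≤ B) {a : X} (haK : a ∈ K) (haA : a ∉ A) : K = B := by
  have hp : p.Prime := Fact.out
  obtain ⟨j, hj, hKj⟩ := card_pow_of_le hB hKB
  have h2 : p ^ 2 ∣ p ^ j := by
    rw [← hA, ← hKj]; exact Subgroup.card_dvd_of_le hAK
  have h2j : 2 ≤ j := (Nat.pow_dvd_pow_iff_le_right hp.one_lt).mp h2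
  have hj3 : j = 2 ∨ j = 3 := by omega
  rcases hj3 with rfl | rfl
  · exfalso
    have : A = K := Subgroup.eq_of_le_of_card_ge hAK (by rw [hA, hKj])
    exact haA (this ▸ haK)
  · exact Subgroup.eq_of_le_of_card_ge hKB (by rw [hB, hKj])

theorem card_sq_of_between {X : Type*} [Group X] [Finite X] {p : ℕ} [Fact p.Prime]
    {Z K B : Subgroup X} (hZ : Nat.card Z = p) (hB : Nat.card B = p ^ 3) (hZK : Z ≤ K)
    (hKB : K ≤ B) {a b : X} (hbK : b ∈ K) (hbZ : b ∉ Z) (haB : a ∈ B) (haK : a ∉ K) :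
    Nat.card K = p ^ 2 := by
  have hp : p.Prime := Fact.out
  obtain ⟨j, hj, hKj⟩ := card_pow_of_le hB hKB
  have h1 : p ∣ p ^ j := by
    have := Subgroup.card_dvd_of_le hZK
    rwa [hZ, hKj] at this
  have hj0 : j ≠ 0 := by
    rintro rfl
    rw [pow_zero] at h1
    exact hp.one_lt.ne' (Nat.dvd_one.mp h1)
  have hj1 : j ≠ 1 := by
    rintro rfl
    have : Z = K := Subgroup.eq_of_le_of_card_ge hZK (by rw [hZ, hKj, pow_one])
    exact hbZ (this ▸ hbK)
  have hj3 : j ≠ 3 := by
    rintro rfl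
    have : K = B := Subgroup.eq_of_le_of_card_ge hKB (by rw [hB, hKj])
    exact haK (this ▸ haB)
  have : j = 2 := by omega
  rw [hKj, this]

theorem card_center_of_nonabelian {p : ℕ} [Fact p.Prime] {B : Type*} [Group B] [Finite B]
    (hB : Nat.card B = p ^ 3) (hna : ¬ IsMulCommutative B) :
    Nat.card (Subgroup.center B) = p := by
  have hp : p.Prime := Fact.out
  have hBp : IsPGroup p B := IsPGroup.of_card hB
  have hdvd : Nat.card (Subgroup.center B) ∣ p ^ 3 := by
    rw [← hB]; exact Subgroup.card_subgroup_dvd_card _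
  obtain ⟨j, hj, hcj⟩ := (Nat.dvd_prime_pow hp).mp hdvd
  haveI : Nontrivial B := by
    rw [← Finite.one_lt_card_iff_nontrivial, hB]
    exact Nat.one_lt_pow (by norm_num) hp.one_lt
  have hj0 : j ≠ 0 := by
    rintro rfl
    haveI := hBp.center_nontrivial
    have := Finite.one_lt_card (α := Subgroup.center B)
    rw [hcj, pow_zero] at this
    exact lt_irrefl _ this
  have hj3 : j ≠ 3 := by
    rintro rfl
    apply hna
    have htop : Subgroup.center B = ⊤ := Subgroup.eq_top_of_card_eq _ (by rw [hcj, hB])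
    exact ⟨⟨fun x y => by
      have hy : y ∈ Subgroup.center B := by rw [htop]; trivial
      exact (Subgroup.mem_center_iff.mp hy x)⟩⟩
  have hj2 : j ≠ 2 := by
    rintro rfl
    apply hna
    have hq : Nat.card (B ⧸ Subgroup.center B) = p := by
      have h1 := Subgroup.card_eq_card_quotient_mul_card_subgroup (Subgroup.center B)
      rw [hB, hcj] at h1
      have hpos : 0 < p ^ 2 := pow_pos hp.pos 2
      have : p * p ^ 2 = Nat.card (B ⧸ Subgroup.center B) * p ^ 2 := by rw [← h1]; ring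
      exact (Nat.eq_of_mul_eq_mul_right hpos this).symm
    haveI : IsCyclic (B ⧸ Subgroup.center B) := isCyclic_of_prime_card hq
    have hcomm := commutative_of_cyclic_center_quotient (QuotientGroup.mk' (Subgroup.center B))
      (by rw [QuotientGroup.ker_mk'])
    exact ⟨⟨fun x y => hcomm x y⟩⟩
  have : j = 1 := by omega
  rw [hcj, this, pow_one]

/-- Let X be a finite p-group of order p^n containing a non-abelian subgroup B of order p³ with C_X(B) ≤ B. Then X has nilpotency class n − 1 (maximal class). -/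
theorem result {X : Type*} [Group X] [Finite X] {p : ℕ} [Fact p.Prime] (n : ℕ) (hX : Nat.card X = p ^ n)
    (B : Subgroup X) (hB : Nat.card B = p ^ 3) (hBna : ¬ IsMulCommutative B) (hC : Subgroup.centralizer (B : Set X) ≤ B) :
    Group.nilpotencyClass X = n - 1 := by
  classical
  have hp : p.Prime := Fact.out
  have hXp : IsPGroup p X := IsPGroup.of_card hX
  set Z : Subgroup X := Subgroup.centralizer (B : Set X) with hZdef
  set H : Subgroup X := Subgroup.normalizer (B : Set X) with hHdef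
  have hBH : B ≤ H := Subgroup.le_normalizer
  have hZH : Z ≤ H := hC.trans hBH
  have hZmap : (Subgroup.center ↥B).map B.subtype = Z := by
    rw [Helper7.map_center_subtype]
    exact inf_eq_right.mpr hC
  have hZcard : Nat.card Z = p := by
    rw [← hZmap, Subgroup.card_map_of_injective B.subtype_injective]
    exact card_center_of_nonabelian hB hBna
  have hZmem : ∀ z ∈ Z, ∀ y ∈ B, y * z = z * y :=
    fun z hz y hy => Subgroup.mem_centralizer_iff.mp hz y hy
  have hHZ : ∀ h ∈ H, ∀ z ∈ Z, h * z * h⁻¹ ∈ Z := by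
    intro h hh z hz
    rw [hZdef, Subgroup.mem_centralizer_iff]
    intro y hy
    have hy' : h⁻¹ * y * h ∈ B := (Subgroup.mem_normalizer_iff''.mp hh y).mp hy
    have h1 := hZmem z hz _ hy'
    calc y * (h * z * h⁻¹) = h * ((h⁻¹ * y * h) * z) * h⁻¹ := by group
      _ = h * (z * (h⁻¹ * y * h)) * h⁻¹ := by rw [h1]
      _ = h * z * h⁻¹ * y := by group
  haveI hZn : (Z.subgroupOf H).Normal := by
    rw [Subgroup.normal_subgroupOf_iff_le_normalizer hZH, Subgroup.le_normalizer_iff]
    exact hHZ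
  haveI hBn : (B.subgroupOf H).Normal := Subgroup.normal_in_normalizer
  have hHp : IsPGroup p ↥H := hXp.to_subgroup H
  have hQp : IsPGroup p (↥H ⧸ Z.subgroupOf H) := hHp.to_quotient _
  set N' : Subgroup (↥H ⧸ Z.subgroupOf H) :=
    (B.subgroupOf H).map (QuotientGroup.mk' (Z.subgroupOf H)) with hN'
  haveI hN'n : N'.Normal := Subgroup.Normal.map hBn _ (QuotientGroup.mk'_surjective _)
  obtain ⟨u, hu, v, hv, huv⟩ : ∃ u ∈ B, ∃ v ∈ B, u * v ≠ v * u := by
    by_contra hcon
    push_neg at hcon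
    exact hBna ⟨⟨fun x y => Subtype.ext (hcon x x.2 y y.2)⟩⟩
  have hN'dvd : p ∣ Nat.card N' := by
    have hN'p : IsPGroup p N' := hQp.to_subgroup N'
    rcases hN'p.card_eq_or_dvd with h1 | h1
    · exfalso
      have hbot : N' = ⊥ := Subgroup.card_eq_one.mp h1
      have hmem : QuotientGroup.mk' (Z.subgroupOf H) ⟨u, hBH hu⟩ ∈ N' :=
        Subgroup.mem_map_of_mem _ (Subgroup.mem_subgroupOf.mpr hu)
      rw [hbot, Subgroup.mem_bot] at hmem
      have h2 : (⟨u, hBH hu⟩ : ↥H) ∈ Z.subgroupOf H := (QuotientGroup.eq_one_iff _).mp hmem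
      have h3 : u ∈ Z := Subgroup.mem_subgroupOf.mp h2
      exact huv ((hZmem u h3 v hv).symm)
    · exact h1
  obtain ⟨abar, habar, hane, hacen⟩ := Helper19.exists_mem_center_of_normal hQp N' hN'dvd
  obtain ⟨a', ha'B, rfl⟩ := habar
  have haB : (a' : X) ∈ B := Subgroup.mem_subgroupOf.mp ha'B
  have haZ : (a' : X) ∉ Z := by
    intro h
    apply hane
    exact (QuotientGroup.eq_one_iff a').mpr (Subgroup.mem_subgroupOf.mpr h)
  set a : X := (a' : X) with ha
  have hkey : ∀ c ∈ H, a⁻¹ * c * a * c⁻¹ ∈ Z := by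
    intro c hc
    have h1 := Subgroup.mem_center_iff.mp hacen
      (QuotientGroup.mk' (Z.subgroupOf H) ((⟨c, hc⟩ : ↥H)⁻¹))
    rw [← map_mul, ← map_mul] at h1
    have h2 := QuotientGroup.eq.mp h1
    have h3 := Subgroup.mem_subgroupOf.mp h2
    have h4 : a⁻¹ * c * a * c⁻¹ =
        ((((⟨c, hc⟩ : ↥H)⁻¹ * a')⁻¹ * (a' * (⟨c, hc⟩ : ↥H)⁻¹) : ↥H) : X) := by
      simp [ha, mul_assoc]
    rw [h4]; exact h3
  obtain ⟨b, hbB, hab⟩ : ∃ b ∈ B, b * a ≠ a * b := by
    by_contra hcon
    push_neg at hcon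
    exact haZ (Subgroup.mem_centralizer_iff.mpr hcon)
  set z₁ : X := a⁻¹ * b * a * b⁻¹ with hz₁
  have hz₁Z : z₁ ∈ Z := hkey b (hBH hbB)
  have hz₁ne : z₁ ≠ 1 := by
    intro h
    apply hab
    have : b * a = a * (a⁻¹ * b * a * b⁻¹) * b := by group
    rw [this, ← hz₁, h, mul_one]
  have hba : b * a * b⁻¹ = a * z₁ := by rw [hz₁]; group
  set A : Subgroup X := B ⊓ Subgroup.centralizer ({b} : Set X) with hAdef
  have hAB : A ≤ B := inf_le_left
  have hbA : b ∈ A := ⟨hbB, Subgroup.mem_centralizer_iff.mpr (by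
    intro h hh; rw [Set.mem_singleton_iff] at hh; rw [hh])⟩
  have hAb : ∀ y ∈ A, b * y = y * b := by
    intro y hy
    exact Subgroup.mem_centralizer_iff.mp hy.2 b rfl
  have haA : a ∉ A := fun h => hab (hAb a h)
  have hZA : Z ≤ A := by
    intro z hz
    refine ⟨hC hz, Subgroup.mem_centralizer_iff.mpr ?_⟩
    intro h hh
    rw [Set.mem_singleton_iff] at hh
    rw [hh]
    exact hZmem z hz b hbB
  have hbZ : b ∉ Z := fun h => hab ((hZmem b h a haB).symm)
  have hAcard : Nat.card A = p ^ 2 := card_sq_of_between hZcard hB hZA hAB hbA hbZ haB haA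
  have hAcomm : ∀ x ∈ A, ∀ y ∈ A, x * y = y * x := by
    intro x hx y hy
    have hAp := IsPGroup.commutative_of_card_eq_prime_sq (p := p) (G := ↥A) hAcard
    have := hAp ⟨x, hx⟩ ⟨y, hy⟩
    exact congrArg Subtype.val this
  have hAnorm : ∀ h ∈ B, ∀ y ∈ A, h⁻¹ * y * h ∈ A := by
    have hidx : (A.subgroupOf B).index = (Nat.card ↥B).minFac := by
      have h1 := Subgroup.card_mul_index (A.subgroupOf B)
      have h2 : Nat.card (A.subgroupOf B) = p ^ 2 := by
        rw [← hAcard]
        exact Nat.card_congr (Subgroup.subgroupOfEquivOfLe hAB).toEquiv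
      rw [h2, hB] at h1
      have h3 : (A.subgroupOf B).index = p := by
        have hpos : 0 < p ^ 2 := pow_pos hp.pos 2
        have : p ^ 2 * (A.subgroupOf B).index = p ^ 2 * p := by rw [h1]; ring
        exact Nat.eq_of_mul_eq_mul_left hpos this
      rw [h3, hB, Nat.pow_minFac (by norm_num), hp.minFac_eq]
    have hn : (A.subgroupOf B).Normal := Subgroup.normal_of_index_eq_minFac_card hidx
    intro h hh y hy
    have := hn.conj_mem ⟨y, hAB hy⟩ (Subgroup.mem_subgroupOf.mpr hy) (⟨h, hh⟩ : ↥B)⁻¹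
    have h2 := Subgroup.mem_subgroupOf.mp this
    simpa using h2
  set C : Subgroup X := Subgroup.centralizer (A : Set X) with hCdef
  have hCmem : ∀ c ∈ C, ∀ y ∈ A, y * c = c * y :=
    fun c hc y hy => Subgroup.mem_centralizer_iff.mp hc y hy
  have hAC : A ≤ C := by
    intro x hx
    rw [hCdef, Subgroup.mem_centralizer_iff]
    intro y hy
    exact hAcomm y hy x hx
  have hCB : C ⊓ B ≤ A := by
    intro x hx
    refine ⟨hx.2, Subgroup.mem_centralizer_iff.mpr ?_⟩
    intro h hh
    rw [Set.mem_singleton_iff] at hh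
    rw [hh]
    exact hCmem x hx.1 b hbA
  have hpow : ∀ k : ℕ, b ^ k * a * (b ^ k)⁻¹ = a * z₁ ^ k := by
    intro k
    induction k with
    | zero => simp
    | succ k ih =>
      have hzb : b * z₁ ^ k = z₁ ^ k * b := by
        have hzk : z₁ ^ k ∈ Z := Z.pow_mem hz₁Z k
        exact hZmem _ hzk b hbB
      calc b ^ (k + 1) * a * (b ^ (k + 1))⁻¹ = b * (b ^ k * a * (b ^ k)⁻¹) * b⁻¹ := by
            rw [pow_succ']; group
        _ = b * (a * z₁ ^ k) * b⁻¹ := by rw [ih]
        _ = (b * a * b⁻¹) * (b * z₁ ^ k) * b⁻¹ := by group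
        _ = (a * z₁) * (z₁ ^ k * b) * b⁻¹ := by rw [hba, hzb]
        _ = a * z₁ ^ (k + 1) := by rw [pow_succ']; group
  have h6 : ∀ c ∈ H, c ∈ C → c ∈ B := by
    intro c hcH hcC
    have hz₀ : a⁻¹ * c * a * c⁻¹ ∈ Z := hkey c hcH
    obtain ⟨k, hk⟩ : ∃ k : ℕ, z₁ ^ k = a⁻¹ * c * a * c⁻¹ := by
      have hmem := mem_powers_of_prime_card (G := ↥Z) hZcard (g := ⟨z₁, hz₁Z⟩)
        (g' := ⟨a⁻¹ * c * a * c⁻¹, hz₀⟩) (by
          intro h; exact hz₁ne (congrArg Subtype.val h))
      obtain ⟨k, hk⟩ := hmem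
      exact ⟨k, by simpa using congrArg Subtype.val hk⟩
    have hca : c * a * c⁻¹ = a * z₁ ^ k := by rw [hk]; group
    set x : X := (b ^ k)⁻¹ * c with hx
    have hxa : a * x = x * a := by
      have h1 : x * a * x⁻¹ = a := by
        calc x * a * x⁻¹ = (b ^ k)⁻¹ * (c * a * c⁻¹) * (b ^ k) := by rw [hx]; group
          _ = (b ^ k)⁻¹ * (b ^ k * a * (b ^ k)⁻¹) * (b ^ k) := by rw [hca, hpow k]
          _ = a := by group
      calc a * x = (x * a * x⁻¹) * x := by rw [h1]
        _ = x * a := by group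
    have hxA : ∀ y ∈ A, y * x = x * y := by
      intro y hy
      have h1 : y * c = c * y := hCmem c hcC y hy
      have h2 : b ^ k * y = y * b ^ k := by
        have h3 : Commute b y := hAb y hy
        exact h3.pow_left k
      calc y * x = y * (b ^ k)⁻¹ * c := by rw [hx]; group
        _ = (b ^ k)⁻¹ * (b ^ k * y) * (b ^ k)⁻¹ * c := by group
        _ = (b ^ k)⁻¹ * (y * b ^ k) * (b ^ k)⁻¹ * c := by rw [h2]
        _ = (b ^ k)⁻¹ * (y * c) := by group
        _ = (b ^ k)⁻¹ * (c * y) := by rw [h1]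
        _ = x * y := by rw [hx]; group
    have hxZ : x ∈ Z := by
      have hK : B ⊓ Subgroup.centralizer ({x} : Set X) = B := by
        apply eq_top_of_between hAcard hB (a := a) ?_ inf_le_left ?_ haA
        · intro y hy
          exact ⟨hAB hy, Subgroup.mem_centralizer_iff.mpr (by
            intro h hh; rw [Set.mem_singleton_iff] at hh; rw [hh]; exact (hxA y hy).symm)⟩
        · exact ⟨haB, Subgroup.mem_centralizer_iff.mpr (by
            intro h hh; rw [Set.mem_singleton_iff] at hh; rw [hh]; exact hxa.symm)⟩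
      rw [hZdef, Subgroup.mem_centralizer_iff]
      intro y hy
      have hy' : y ∈ B ⊓ Subgroup.centralizer ({x} : Set X) := by rw [hK]; exact hy
      exact (Subgroup.mem_centralizer_iff.mp hy'.2 x rfl).symm
    have hc : c = b ^ k * x := by rw [hx]; group
    rw [hc]
    exact B.mul_mem (B.pow_mem hbB k) (hC hxZ)
  have hCA : C = A := by
    by_contra hne
    have hCnB : ¬ C ≤ B := by
      intro h
      exact hne (le_antisymm (fun x hx => hCB ⟨hx, h hx⟩) hAC)
    have hlt : B < B ⊔ C := by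
      refine lt_of_le_of_ne le_sup_left ?_
      intro h
      apply hCnB
      rw [h]
      exact le_sup_right
    have hBC : B ≤ Subgroup.normalizer (C : Set X) := by
      rw [Subgroup.le_normalizer_iff]
      intro h hh c hc
      rw [hCdef, Subgroup.mem_centralizer_iff]
      intro y hy
      have hy' := hAnorm h hh y hy
      have h1 := hCmem c hc _ hy'
      calc y * (h * c * h⁻¹) = h * ((h⁻¹ * y * h) * c) * h⁻¹ := by group
        _ = h * (c * (h⁻¹ * y * h)) * h⁻¹ := by rw [h1]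
        _ = h * c * h⁻¹ * y := by group
    have hPp : IsPGroup p ↥(B ⊔ C) := hXp.to_subgroup _
    obtain ⟨x, hxP, hxN, hxB⟩ := Helper19.exists_mem_normalizer_not_mem hPp hlt
    have hxmul : x ∈ (B : Set X) * (C : Set X) := by
      rw [← Subgroup.coe_mul_of_left_le_normalizer_right B C hBC]
      exact hxP
    obtain ⟨b', hb', c', hc', rfl⟩ := Set.mem_mul.mp hxmul
    have hc'H : c' ∈ H := by
      have : c' = b'⁻¹ * (b' * c') := by group
      rw [this]
      exact H.mul_mem (H.inv_mem (hBH hb')) hxN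
    exact hxB (B.mul_mem hb' (h6 c' hc'H hc'))
  exact S0112.result n hX A hAcard hCA

end Cfsg.Agent.S4143
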