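import Cfsg.Statements.S4155
import Cfsg.Agent.Helper15.Rank
import Cfsg.Agent.Helper9.CoprimeGen
import Cfsg.Agent.Helper1.Fitting
import Cfsg.Agent.Helper8.Nilp
import Cfsg.Agent.Helper23.PSolv

set_option autoImplicit false
open Cfsg

namespace Cfsg.Agent.S4155

/-- If `x ∉ N` commutes with `n ∈ N`, then `n ^ orderOf x = 1`. -/
theorem pow_eq_one_of_comm {G : Type*} [Group G] (N : Subgroup G)
    (heq : ∀ x : G, x ∉ N → ∀ n ∈ N, orderOf (x * n) = orderOf x)
    {x n : G} (hx : x ∉ N) (hn : n ∈ N) (hc : x * n = n * x) : n ^ orderOf x = 1 := by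
  have h1 : (x * n) ^ orderOf x = 1 := by
    rw [← heq x hx n hn]; exact pow_orderOf_eq_one _
  have h2 : (x * n) ^ orderOf x = x ^ orderOf x * n ^ orderOf x :=
    (show Commute x n from hc).mul_pow _
  rw [h2, pow_orderOf_eq_one, one_mul] at h1
  exact h1

theorem exists_other_prime {m : ℕ} (hm0 : m ≠ 0) (hm1 : m ≠ 1) (hnpp : ¬ IsPrimePow m)
    (q : ℕ) (hq : q.Prime) : ∃ r : ℕ, r.Prime ∧ r ≠ q ∧ r ∣ m := by
  by_contra hcon
  push Not at hcon
  have h := Nat.eq_prime_pow_of_unique_prime_dvd (n := m) (p := q) hm0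
    (fun {d} hd hdn => by
      by_contra hne
      exact hcon d hd hne hdn)
  apply hnpp
  have h' : IsPrimePow (q ^ m.primeFactorsList.length) := by
    apply IsPrimePow.pow hq.isPrimePow
    intro h0
    rw [h0, pow_zero] at h
    exact hm1 h
  rw [← h] at h'
  exact h'

theorem eq_one_of_pow_pow {G : Type*} [Group G] {x : G} {q r : ℕ} (hq : q.Prime) (hr : r.Prime)
    (hne : r ≠ q) {k j : ℕ} (h1 : x ^ (q ^ k) = 1) (h2 : x ^ (r ^ j) = 1) : x = 1 := by
  have d1 : orderOf x ∣ q ^ k := orderOf_dvd_of_pow_eq_one h1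
  have d2 : orderOf x ∣ r ^ j := orderOf_dvd_of_pow_eq_one h2
  have hcop : Nat.Coprime (q ^ k) (r ^ j) :=
    Nat.Coprime.pow _ _ ((Nat.coprime_primes hq hr).mpr (Ne.symm hne))
  have d3 := Nat.dvd_gcd d1 d2
  rw [hcop.gcd_eq_one] at d3
  exact orderOf_eq_one_iff.mp (Nat.dvd_one.mp d3)

/-- The normal Sylow subgroup of the nilpotent normal subgroup `N`. -/
theorem exists_syl {G : Type*} [Group G] [Finite G] (N : Subgroup G) [hNn : N.Normal]
    (hnil : Group.IsNilpotent N) (p : ℕ) [Fact p.Prime] :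
    ∃ T : Subgroup G, T.Normal ∧ T ≤ N ∧ IsPGroup p T ∧
      (∀ x ∈ N, (∃ k : ℕ, x ^ (p ^ k) = 1) → x ∈ T) ∧
      (p ∣ Nat.card N → ∃ n ∈ T, orderOf n = p) := by
  obtain ⟨T, hT1, hT2, hT3⟩ := Helper8.exists_sylow_of_nilpotent N hnil p
  refine ⟨T, ⟨fun x hx g => ?_⟩, hT1, hT2, hT3, ?_⟩
  · apply hT3 _ (hNn.conj_mem x (hT1 hx) g)
    obtain ⟨k, hk⟩ := Helper8.pelem_of_mem hT2 hx
    exact ⟨k, by rw [conj_pow, hk, mul_one, mul_inv_cancel]⟩
  · intro hdvd
    obtain ⟨n, hn⟩ := exists_prime_orderOf_dvd_card' (G := N) p hdvd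
    have hn' : orderOf (n : G) = p := by rw [← hn, Subgroup.orderOf_coe]
    refine ⟨n, hT3 _ n.2 ⟨1, ?_⟩, hn'⟩
    rw [pow_one, ← hn']
    exact pow_orderOf_eq_one _

theorem fitting_le {G : Type*} [Group G] [Finite G] (N : Subgroup G) [hNn : N.Normal]
    (hN1 : N ≠ ⊥)
    (heq : ∀ x : G, x ∉ N → ∀ n ∈ N, orderOf (x * n) = orderOf x)
    (hnil : Group.IsNilpotent N) (hnpp : ¬ IsPrimePow (Nat.card N)) :
    Cfsg.fittingSubgroup G ≤ N := by
  classical
  have L1 : ∀ (y : G) (r : ℕ), r.Prime → y ∈ Cfsg.fittingSubgroup G → y ∉ N →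
      r ∣ Nat.card N → ¬ r ∣ orderOf y → False := by
    intro y r hr hyF hyN hrN hry
    haveI : Fact r.Prime := ⟨hr⟩
    obtain ⟨n, hn⟩ := exists_prime_orderOf_dvd_card' (G := N) r hrN
    have hn' : orderOf (n : G) = r := by rw [← hn, Subgroup.orderOf_coe]
    have hnF : (n : G) ∈ Cfsg.fittingSubgroup G := Helper1.le_fitting hNn hnil n.2
    have hcop : (orderOf y).Coprime (orderOf (n : G)) := by
      rw [hn']
      exact Nat.Coprime.symm ((Nat.Prime.coprime_iff_not_dvd hr).mpr hry)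
    have hc := Helper8.comm_of_coprime_sub _ Helper1.fitting_isNilpotent hyF hnF hcop
    have h1 := pow_eq_one_of_comm N heq hyN n.2 hc
    have h2 : orderOf (n : G) ∣ orderOf y := orderOf_dvd_of_pow_eq_one h1
    rw [hn'] at h2
    exact hry h2
  have hcard : Nat.card N ≠ 1 := by
    intro h
    exact hN1 ((Subgroup.card_eq_one).mp h)
  intro x hxF
  by_contra hxN
  obtain ⟨r1, hr1, hr1N⟩ := Nat.exists_prime_and_dvd hcard
  obtain ⟨r2, hr2, hr21, hr2N⟩ := exists_other_prime Nat.card_pos.ne' hcard hnpp r1 hr1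
  have hfin : orderOf x ≠ 0 := (orderOf_pos x).ne'
  obtain ⟨a, m, hm, hn⟩ := Nat.exists_eq_pow_mul_and_not_dvd hfin r1 hr1.ne_one
  by_cases h1 : x ^ (r1 ^ a) ∈ N
  · by_cases h2 : x ^ m ∈ N
    · apply hxN
      exact Helper23.mem_of_pow_mem_of_coprime
        (Nat.Coprime.pow_left a ((Nat.Prime.coprime_iff_not_dvd hr1).mpr hm)) h1 h2
    · apply L1 (x ^ m) r2 hr2 (Subgroup.pow_mem _ hxF _) h2 hr2N
      intro hd
      have h3 : orderOf (x ^ m) ∣ r1 ^ a := by
        apply orderOf_dvd_of_pow_eq_one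
        rw [← pow_mul, mul_comm m, ← hn]
        exact pow_orderOf_eq_one x
      have h4 := hr2.dvd_of_dvd_pow (hd.trans h3)
      exact hr21 ((Nat.prime_dvd_prime_iff_eq hr2 hr1).mp h4)
  · apply L1 (x ^ (r1 ^ a)) r1 hr1 (Subgroup.pow_mem _ hxF _) h1 hr1N
    intro hd
    have h3 : orderOf (x ^ (r1 ^ a)) ∣ m := by
      apply orderOf_dvd_of_pow_eq_one
      rw [← pow_mul, ← hn]
      exact pow_orderOf_eq_one x
    exact hm (hd.trans h3)

/-- A `q`-subgroup with abelian image in `G ⧸ N` has cyclic image. -/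
theorem isCyclic_map {G : Type*} [Group G] [Finite G] (N : Subgroup G) [hNn : N.Normal]
    (hN1 : N ≠ ⊥)
    (heq : ∀ x : G, x ∉ N → ∀ n ∈ N, orderOf (x * n) = orderOf x)
    (hnil : Group.IsNilpotent N) (hnpp : ¬ IsPrimePow (Nat.card N))
    (q : ℕ) [hqf : Fact q.Prime] (S : Subgroup G) (hS : IsPGroup q S)
    (hab : IsMulCommutative ↥(S.map (QuotientGroup.mk' N))) :
    IsCyclic ↥(S.map (QuotientGroup.mk' N)) := by
  classical
  by_contra hncyc
  have hq : q.Prime := hqf.out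
  have hcard : Nat.card N ≠ 1 := by
    intro h
    exact hN1 ((Subgroup.card_eq_one).mp h)
  obtain ⟨r, hr, hrq, hrN⟩ := exists_other_prime Nat.card_pos.ne' hcard hnpp q hq
  haveI : Fact r.Prime := ⟨hr⟩
  obtain ⟨R, hRn, hRN, hRp, hR3, hRex⟩ := exists_syl N hnil r
  obtain ⟨C, hCn, hCN, hCp, hC3, -⟩ := exists_syl N hnil q
  haveI : C.Normal := hCn
  have hSN : ∀ x, x ∈ S → x ∈ N → x ∈ C := fun x hxS hxN =>
    hC3 x hxN (Helper8.pelem_of_mem hS hxS)
  have hCR : ∀ x, x ∈ C → x ∈ R → x = 1 := by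
    intro x hxC hxR
    obtain ⟨k, hk⟩ := Helper8.pelem_of_mem hCp hxC
    obtain ⟨j, hj⟩ := Helper8.pelem_of_mem hRp hxR
    exact eq_one_of_pow_pow hq hr hrq hk hj
  -- commutativity of the image in `G ⧸ C`
  haveI hAc : IsMulCommutative ↥(S.map (QuotientGroup.mk' C)) := by
    refine ⟨⟨fun a b => ?_⟩⟩
    obtain ⟨s, hs, hsa⟩ := Subgroup.mem_map.mp a.2
    obtain ⟨t, ht, htb⟩ := Subgroup.mem_map.mp b.2
    apply Subtype.ext
    have h1 := hab.is_comm.comm
      (⟨QuotientGroup.mk' N s, Subgroup.mem_map_of_mem _ hs⟩ : ↥(S.map (QuotientGroup.mk' N)))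
      ⟨QuotientGroup.mk' N t, Subgroup.mem_map_of_mem _ ht⟩
    have h2 : QuotientGroup.mk' N (s * t) = QuotientGroup.mk' N (t * s) := by
      have := congrArg Subtype.val h1
      simpa using this
    have h3 : (s * t)⁻¹ * (t * s) ∈ N := QuotientGroup.eq.mp h2
    have h4 : (s * t)⁻¹ * (t * s) ∈ C :=
      hSN _ (S.mul_mem (S.inv_mem (S.mul_mem hs ht)) (S.mul_mem ht hs)) h3
    have h5 : QuotientGroup.mk' C (s * t) = QuotientGroup.mk' C (t * s) := QuotientGroup.eq.mpr h4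
    show (a : G ⧸ C) * (b : G ⧸ C) = (b : G ⧸ C) * (a : G ⧸ C)
    rw [← hsa, ← htb, ← map_mul, ← map_mul]
    exact h5
  have hRbn : (R.map (QuotientGroup.mk' C)).Normal :=
    Subgroup.Normal.map hRn _ (QuotientGroup.mk'_surjective C)
  have hAK : S.map (QuotientGroup.mk' C) ≤
      Subgroup.normalizer ((R.map (QuotientGroup.mk' C) : Subgroup (G ⧸ C)) : Set (G ⧸ C)) := by
    rw [Subgroup.normalizer_eq_top_iff.mpr hRbn]
    exact le_top
  have hcop : (Nat.card ↥(S.map (QuotientGroup.mk' C))).Coprime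
      (Nat.card ↥(R.map (QuotientGroup.mk' C))) :=
    IsPGroup.coprime_card_of_ne q r (Ne.symm hrq) _ _ (hS.map _) (hRp.map _)
  have hA : ¬ IsCyclic ↥(S.map (QuotientGroup.mk' C)) := by
    intro hcyc
    apply hncyc
    have hCN' : C ≤ N.comap (MonoidHom.id G) := hCN
    have e : S.map (QuotientGroup.mk' N) =
        (S.map (QuotientGroup.mk' C)).map (QuotientGroup.map C N (MonoidHom.id G) hCN') := by
      rw [Subgroup.map_map]
      rfl
    rw [e]
    exact isCyclic_of_surjective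
      ((QuotientGroup.map C N (MonoidHom.id G) hCN').subgroupMap (S.map (QuotientGroup.mk' C)))
      (MonoidHom.subgroupMap_surjective _ _)
  have hfix : ∀ ab : G ⧸ C, ab ∈ S.map (QuotientGroup.mk' C) → ab ≠ 1 →
      R.map (QuotientGroup.mk' C) ⊓ Subgroup.centralizer {ab} = ⊥ := by
    intro ab hab hab1
    obtain ⟨a, haS, rfl⟩ := Subgroup.mem_map.mp hab
    rw [eq_bot_iff]
    intro nb hnb
    obtain ⟨hnbR, hnbc⟩ := Subgroup.mem_inf.mp hnb
    obtain ⟨n, hnR, rfl⟩ := Subgroup.mem_map.mp hnbR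
    rw [Subgroup.mem_bot]
    have haC : a ∉ C := fun h => hab1 ((QuotientGroup.eq_one_iff a).mpr h)
    have haN : a ∉ N := fun h => haC (hSN a haS h)
    have hcomm : QuotientGroup.mk' C a * QuotientGroup.mk' C n =
        QuotientGroup.mk' C n * QuotientGroup.mk' C a := Helper8.mem_cent.mp hnbc
    have h1 : (a * n)⁻¹ * (n * a) ∈ C := by
      apply QuotientGroup.eq.mp
      have h1' : QuotientGroup.mk' C (a * n) = QuotientGroup.mk' C (n * a) := by
        rw [map_mul, map_mul]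
        exact hcomm
      exact h1'
    have h2 : (a * n)⁻¹ * (n * a) ∈ R := by
      have h3 : a⁻¹ * n * a⁻¹⁻¹ ∈ R := hRn.conj_mem n hnR a⁻¹
      have h4 : (a * n)⁻¹ * (n * a) = n⁻¹ * (a⁻¹ * n * a⁻¹⁻¹) := by group
      rw [h4]
      exact R.mul_mem (R.inv_mem hnR) h3
    have h5 : (a * n)⁻¹ * (n * a) = 1 := hCR _ h1 h2
    have h6 : a * n = n * a := inv_mul_eq_one.mp h5
    have h7 := pow_eq_one_of_comm N heq haN (hRN hnR) h6
    obtain ⟨k, hk⟩ := Helper8.pelem_of_mem hS haS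
    obtain ⟨j, hj⟩ := Helper8.pelem_of_mem hRp hnR
    have h8 : n ^ (q ^ k) = 1 := by
      obtain ⟨c, hc⟩ := orderOf_dvd_of_pow_eq_one hk
      rw [hc, pow_mul, h7, one_pow]
    have h9 : n = 1 := eq_one_of_pow_pow hq hr hrq h8 hj
    rw [h9]
    exact map_one _
  have hgen := Helper9.coprime_generation (S.map (QuotientGroup.mk' C))
    (R.map (QuotientGroup.mk' C)) hA hAK hcop
  have hbot : Helper9.cgen (S.map (QuotientGroup.mk' C)) (R.map (QuotientGroup.mk' C)) = ⊥ := by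
    unfold Helper9.cgen
    rw [iSup_eq_bot]
    intro ab
    rw [iSup_eq_bot]
    intro hmem
    exact hfix ab hmem.1 hmem.2
  rw [hbot] at hgen
  obtain ⟨n₀, hn₀R, hn₀o⟩ := hRex hrN
  have h1 : QuotientGroup.mk' C n₀ ∈ R.map (QuotientGroup.mk' C) := Subgroup.mem_map_of_mem _ hn₀R
  rw [← hgen, Subgroup.mem_bot] at h1
  have h2 : n₀ ∈ C := (QuotientGroup.eq_one_iff n₀).mp h1
  have h3 : n₀ = 1 := hCR _ h2 hn₀R
  rw [h3, orderOf_one] at hn₀o
  exact hr.one_lt.ne hn₀o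


/-- Let G be a finite group and N a proper non-trivial normal nilpotent subgroup whose order is not a prime power, such that for every x outside N all elements of the coset xN have the same order as x. Then N is the Fitting subgroup of G, and for every prime q every Sylow q-subgroup of G/N is cyclic or generalized quaternion. -/
theorem result {G : Type*} [Group G] [Finite G] (N : Subgroup G) [N.Normal] (hN1 : N ≠ ⊥) (hN2 : N ≠ ⊤)
    (heq : ∀ x : G, x ∉ N → ∀ n ∈ N, orderOf (x * n) = orderOf x)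
    (hnil : Group.IsNilpotent N) (hnpp : ¬ IsPrimePow (Nat.card N)) :
    N = Cfsg.fittingSubgroup G ∧
    ∀ (q : ℕ) [Fact q.Prime] (Q : Sylow q (G ⧸ N)), IsCyclic (Q : Subgroup (G ⧸ N)) ∨ ∃ n : ℕ, Nonempty ((Q : Subgroup (G ⧸ N)) ≃* QuaternionGroup (2 ^ n)) := by
  classical
  refine ⟨le_antisymm (Helper1.le_fitting inferInstance hnil) (fitting_le N hN1 heq hnil hnpp), ?_⟩
  intro q _ Q
  obtain ⟨T⟩ : Nonempty (Sylow q G) := inferInstance
  have hcyc : ∀ E : Subgroup (G ⧸ N),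
      E ≤ ((T.mapSurjective (QuotientGroup.mk'_surjective N) : Sylow q (G ⧸ N)) :
        Subgroup (G ⧸ N)) → IsMulCommutative ↥E → IsCyclic ↥E := by
    intro E hE hEab
    have hmap : ((T : Subgroup G) ⊓ E.comap (QuotientGroup.mk' N)).map (QuotientGroup.mk' N)
        = E := by
      apply le_antisymm
      · rintro _ ⟨s, hs, rfl⟩
        exact (Subgroup.mem_inf.mp hs).2
      · intro e he
        have he' : e ∈ (T : Subgroup G).map (QuotientGroup.mk' N) := hE he
        obtain ⟨t, ht, rfl⟩ := Subgroup.mem_map.mp he'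
        exact Subgroup.mem_map_of_mem _ (Subgroup.mem_inf.mpr ⟨ht, he⟩)
    have hSq : IsPGroup q ↥((T : Subgroup G) ⊓ E.comap (QuotientGroup.mk' N)) :=
      T.2.to_le inf_le_left
    have h1 := isCyclic_map N hN1 heq hnil hnpp q _ hSq (by rw [hmap]; exact hEab)
    rw [hmap] at h1
    exact h1
  have hmain := Helper15.cyclic_or_quaternion_of_abelian_cyclic
    ((T.mapSurjective (QuotientGroup.mk'_surjective N) : Sylow q (G ⧸ N)) : Subgroup (G ⧸ N))
    (T.mapSurjective (QuotientGroup.mk'_surjective N)).2 hcyc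
  have e : ↥(Q : Subgroup (G ⧸ N)) ≃*
      ↥((T.mapSurjective (QuotientGroup.mk'_surjective N) : Sylow q (G ⧸ N)) :
        Subgroup (G ⧸ N)) := Sylow.equiv Q _
  rcases hmain with h | ⟨_, n, ⟨f⟩⟩
  · left
    exact e.isCyclic.mpr h
  · right
    exact ⟨n, ⟨e.trans f⟩⟩

end Cfsg.Agent.S4155
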