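import Mathlib
import Cfsg.Statements.S4172
import Cfsg.Agent.Helper26.S4172m
import Cfsg.Agent.Helper23.S4172a
import Cfsg.Agent.Helper15.S4172b
import Cfsg.Agent.Helper13.S4172c
import Cfsg.Agent.Helper21.S4172d
import Cfsg.Agent.Helper28.S4172e
import Cfsg.Agent.Helper21.S4172f
import Cfsg.Agent.Helper3.S4172g
import Cfsg.Agent.Helper20.S4172h
import Cfsg.Agent.Helper5.S4172i
-- import your own Cfsg.Agent.* helpers here

set_option autoImplicit false
open Cfsg

namespace Cfsg.Agent.S4172

/-- Let p be a prime and G a finite group with a non-commutative Sylow p-subgroup P whose Frattini subgroup has index p² in P (P is generated by two elements). Suppose G has no nontrivial normal subgroup of order prime to p and the Frattini subgroup of P contains no nontrivial normal subgroup of G. Then the generalized Fitting subgroup F*(G) is the unique minimal normal subgroup of G, the image of P in G/F*(G) is cyclic, and if F*(G) is not commutative then P permutes the components of G transitively by conjugation. -/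
theorem result {G : Type*} [Group G] [Finite G] (p : ℕ) [Fact p.Prime] (P : Sylow p G) (hna : ¬ IsMulCommutative (P : Subgroup G)) (hgen : (frattini ↥(P : Subgroup G)).index = p ^ 2) (hcore : Cfsg.pPrimeCore p G = ⊥) (hfrat : ((frattini ↥(P : Subgroup G)).map (P : Subgroup G).subtype).normalCore = ⊥) [hFn : (Cfsg.generalizedFittingSubgroup G).Normal] :
    (Cfsg.generalizedFittingSubgroup G ≠ ⊥ ∧ ∀ K : Subgroup G, K.Normal → K ≠ ⊥ → Cfsg.generalizedFittingSubgroup G ≤ K) ∧
      IsCyclic ↥((P : Subgroup G).map (QuotientGroup.mk' (Cfsg.generalizedFittingSubgroup G))) ∧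
      (¬ IsMulCommutative (Cfsg.generalizedFittingSubgroup G) → ∀ K L : Subgroup G, Cfsg.IsComponent K → Cfsg.IsComponent L → ∃ x ∈ (P : Subgroup G), L = K.map (MulAut.conj x).toMonoidHom) := by
  have hperfL : Group.IsPerfect ↥(Cfsg.layer G) :=
    Subgroup.isPerfect_iff.mpr Cfsg.Agent.Helper7.layer_perfect
  have hperf : ∀ x : ↥(Cfsg.layer G), x ∈ commutator ↥(Cfsg.layer G) := by
    intro x
    rw [hperfL.commutator_eq_top]
    exact Subgroup.mem_top x
  exact Cfsg.Agent.Helper26.S4172m.main p P hna
    ((frattini ↥(P : Subgroup G)).map (P : Subgroup G).subtype)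
    (fun X hXn hX => Cfsg.Agent.Helper23.S4172a.two_gen p P hgen X hXn hX)
    (fun K hK hK1 => Cfsg.Agent.Helper15.S4172b.normal_not_le p P hcore hfrat K hK hK1)
    (fun A K hPA hK hKA h => Cfsg.Agent.Helper21.S4172d.comp_not_le p hcore A K hK hKA
      (Cfsg.Agent.Helper13.S4172c.tate_rel p P A hPA h))
    (fun K L hK hL hne =>
      Cfsg.Agent.Helper28.S4172e.orbit_split (P : Subgroup G) K L hK hL hne)
    (fun N hN hNp hNE hc => Cfsg.Agent.Helper3.S4172g.no_central p P hfrat (Cfsg.layer G)
      (fun R z hz hzR =>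
        Cfsg.Agent.Helper21.S4172f.central_mem_commutator p hperf R z hz hzR)
      N hN hNp hNE hc)
    (fun M hM hnil =>
      Cfsg.Agent.Helper20.S4172h.nilpotent_normal_isPGroup p hcore M hM hnil)
    (fun M N hM hN hNM hMc hMp w hwM hwN hwP hPM =>
      Cfsg.Agent.Helper5.S4172i.trace p P M N hM hN hNM hMc hMp w hwM hwN hwP hPM)

end Cfsg.Agent.S4172
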