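import Cfsg.Statements.S4226
import Cfsg.Agent.Helper23.HW5

set_option autoImplicit false
open Cfsg

namespace Cfsg.Agent.S4226

/-- Let `P` be a Sylow `p`-subgroup of the finite group `G` with nilpotency class less than `p` (the term of index `p - 1` of the lower central series of `P`, indexed from `0`, is trivial), and let `N` be its normalizer. Then `O^p(N) = O^p(G) ∩ N`, where `O^p` denotes the subgroup generated by the elements of order prime to `p`; so the largest `p`-factor groups of `G` and of `N` are isomorphic. -/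
theorem result {G : Type*} [Group G] [Finite G] {p : ℕ} [Fact p.Prime] (P : Sylow p G) (hcl : (P : Subgroup G).lowerCentralSeries (p - 1) = ⊥) : Cfsg.pResidualOf p (Subgroup.normalizer ((P : Subgroup G) : Set G)) = Cfsg.pResidual p G ⊓ Subgroup.normalizer ((P : Subgroup G) : Set G) := by
  have hcl' : Cfsg.Agent.Helper23.HW.ClsP p G := Cfsg.Agent.Helper23.HW.ClsP.of_sylow P hcl
  have hB := Cfsg.Agent.Helper23.HW.hf_main (p := p) _ G rfl hcl' P
  obtain ⟨N, hN⟩ : ∃ N : Subgroup G, N = Subgroup.normalizer ((P : Subgroup G) : Set G) :=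
    ⟨_, rfl⟩
  rw [← hN] at hB ⊢
  have hPN : (P : Subgroup G) ≤ N := hN ▸ Subgroup.le_normalizer
  apply le_antisymm
  · exact le_inf (Cfsg.Agent.Helper6.map_pResidual_le p N)
      (Cfsg.Agent.Helper23.HW.pResidualOf_le N)
  · rintro x ⟨hxR, hxN⟩
    have h1 := Cfsg.Agent.Helper14.pResidual_sup_sylow (P.subtype hPN)
    haveI := Cfsg.Agent.Helper6.pResidual_normal p ↥N
    have h2 : (⟨x, hxN⟩ : ↥N) ∈ ((Cfsg.pResidual p ↥N ⊔
        ((P.subtype hPN : Sylow p ↥N) : Subgroup ↥N) : Subgroup ↥N) : Set ↥N) := by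
      rw [h1]; exact Set.mem_univ _
    rw [Subgroup.normal_mul] at h2
    obtain ⟨y, hy, u, hu, hyu⟩ := Set.mem_mul.mp h2
    have hyY : (y : G) ∈ Cfsg.pResidualOf p N := Subgroup.mem_map_of_mem N.subtype hy
    have huP : (u : G) ∈ (P : Subgroup G) := by
      have h3 : u ∈ ((P.subtype hPN : Sylow p ↥N) : Subgroup ↥N) := hu
      rw [Sylow.coe_subtype, Subgroup.mem_subgroupOf] at h3
      exact h3
    have hx : x = (y : G) * (u : G) := by
      have h3 := congrArg Subtype.val hyu
      exact h3.symm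
    have huR : (u : G) ∈ Cfsg.pResidual p G := by
      have h3 : (u : G) = (y : G)⁻¹ * x := by rw [hx]; group
      rw [h3]
      haveI := Cfsg.Agent.Helper6.pResidual_normal p G
      exact Subgroup.mul_mem _
        (Subgroup.inv_mem _ (Cfsg.Agent.Helper6.map_pResidual_le p N hyY)) hxR
    have huY : (u : G) ∈ Cfsg.pResidualOf p N := hB ⟨huP, huR⟩
    rw [hx]
    exact Subgroup.mul_mem _ hyY huY

end Cfsg.Agent.S4226
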