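import Cfsg.Statements.S4227
import Cfsg.Agent.Helper20.PLen
import Cfsg.Agent.Helper23.SolvPSolv
import Cfsg.Agent.Helper21.Kegel
import Cfsg.Agent.Helper8.Nilp
import Cfsg.Agent.Helper24.CharBurnside

set_option autoImplicit false
open Cfsg

namespace Cfsg.Agent.S4227

open Cfsg.Agent.Helper23 Cfsg.Agent.Helper20.PLen

theorem solvable_of_exp_six {G : Type*} [Group G] [Finite G] (h : ∀ x : G, x ^ 6 = 1) :
    Group.IsSolvable G := by
  have hpr : ∀ r : ℕ, r.Prime → r ∣ Nat.card G → r = 2 ∨ r = 3 := by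
    intro r hr hdvd
    haveI : Fact r.Prime := ⟨hr⟩
    obtain ⟨x, hx⟩ := exists_prime_orderOf_dvd_card' (G := G) r hdvd
    have h6 : r ∣ 2 * 3 := by rw [← hx]; exact orderOf_dvd_of_pow_eq_one (h x)
    rcases (Nat.Prime.dvd_mul hr).mp h6 with h2 | h3
    · left; exact (Nat.prime_dvd_prime_iff_eq hr Nat.prime_two).mp h2
    · right; exact (Nat.prime_dvd_prime_iff_eq hr Nat.prime_three).mp h3
  have hpos : Nat.card G ≠ 0 := Nat.card_pos.ne'
  have hc : ordCompl[2] (Nat.card G) ≠ 0 := (Nat.ordCompl_pos 2 hpos).ne'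
  have h3 : ordCompl[2] (Nat.card G) = 3 ^ (ordCompl[2] (Nat.card G)).primeFactorsList.length := by
    apply Nat.eq_prime_pow_of_unique_prime_dvd hc
    intro d hd hdvd
    have hdn : d ∣ Nat.card G := hdvd.trans (Nat.ordCompl_dvd (Nat.card G) 2)
    rcases hpr d hd hdn with rfl | rfl
    · exact absurd hdvd (Nat.not_dvd_ordCompl Nat.prime_two hpos)
    · rfl
  exact Helper24.isSolvable_of_card_prime_pow_mul 2 3 ((Nat.card G).factorization 2) _
    Nat.prime_two Nat.prime_three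
    (by rw [← h3]; exact (Nat.ordProj_mul_ordCompl_eq_self (Nat.card G) 2).symm)

theorem exp_quot {G : Type*} [Group G] (N : Subgroup G) [N.Normal] (h : ∀ x : G, x ^ 6 = 1) :
    ∀ x : G ⧸ N, x ^ 6 = 1 := by
  intro x
  obtain ⟨g, rfl⟩ := QuotientGroup.mk'_surjective N x
  rw [← map_pow, h g, map_one]

theorem pow_of_coprime {Y : Type*} [Group Y] (s : Y) (a b c : ℕ) (hab : a.Coprime c)
    (h1 : s ^ (b * a) = 1) (h2 : s ^ c = 1) : s ^ b = 1 := by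
  have : s ^ b ∈ (⊥ : Subgroup Y) :=
    mem_of_pow_mem_of_coprime hab (by rw [← pow_mul, h1]; exact Subgroup.one_mem _)
      (by rw [← pow_mul, mul_comm, pow_mul, h2, one_pow]; exact Subgroup.one_mem _)
  exact Subgroup.mem_bot.mp this

theorem comm_of_sq {Y : Type*} [Group Y] (a b : Y) (h1 : a ^ 2 = 1) (h2 : b ^ 2 = 1)
    (h3 : (a * b) ^ 2 = 1) : a * b = b * a := by
  have ha' : a⁻¹ = a := inv_eq_of_mul_eq_one_right (by rw [← pow_two]; exact h1)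
  have hb' : b⁻¹ = b := inv_eq_of_mul_eq_one_right (by rw [← pow_two]; exact h2)
  calc a * b = (a * b)⁻¹ := (inv_eq_of_mul_eq_one_right (by rw [← pow_two]; exact h3)).symm
    _ = b⁻¹ * a⁻¹ := mul_inv_rev a b
    _ = b * a := by rw [ha', hb']

theorem two_part {Y : Type*} [Group Y] [Finite Y] (h : ∀ x : Y, x ^ 6 = 1)
    (hsol : IsPSolvable 2 Y) (hbot : pPrimeCore 2 Y = ⊥) : ¬ 2 ∣ (pCore 2 Y).index := by
  haveI : Fact (Nat.Prime 2) := ⟨Nat.prime_two⟩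
  have hHH := hall_higman hsol hbot
  obtain ⟨S⟩ := (inferInstance : Nonempty (Sylow 2 Y))
  have hPS : pCore 2 Y ≤ S := le_sylow_of_normal (pCore_normal_fin 2) (pCore_isPGroup 2) S
  have hsq : ∀ s ∈ (S : Subgroup Y), s ^ 2 = 1 := by
    intro s hs
    obtain ⟨k, hk⟩ := S.2 ⟨s, hs⟩
    have hk' : s ^ 2 ^ k = 1 := congrArg Subtype.val hk
    exact pow_of_coprime s 3 2 (2 ^ k) (Nat.Coprime.pow_right k (by decide)) (h s) hk'
  have hcomm : ∀ a ∈ (S : Subgroup Y), ∀ b ∈ (S : Subgroup Y), a * b = b * a := by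
    intro a ha b hb
    exact comm_of_sq a b (hsq a ha) (hsq b hb) (hsq _ (Subgroup.mul_mem _ ha hb))
  have hSP : (S : Subgroup Y) ≤ pCore 2 Y := by
    intro s hs
    apply hHH
    rw [Subgroup.mem_centralizer_iff]
    intro u hu
    exact hcomm u (hPS hu) s hs
  have heq : pCore 2 Y = S := le_antisymm hPS hSP
  rw [heq]
  exact S.not_dvd_index

theorem six_swap {H : Type*} [Group H] (a a1 a2 b b1 b2 : H) (c1 : b * a1 = a1 * b)
    (c2 : b * a2 = a2 * b) (c3 : b1 * a2 = a2 * b1) :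
    a * b * (a1 * b1) * (a2 * b2) = (a * a1 * a2) * (b * b1 * b2) := by
  calc a * b * (a1 * b1) * (a2 * b2) = a * (b * a1) * b1 * a2 * b2 := by group
    _ = a * (a1 * b) * b1 * a2 * b2 := by rw [c1]
    _ = a * a1 * b * (b1 * a2) * b2 := by group
    _ = a * a1 * b * (a2 * b1) * b2 := by rw [c3]
    _ = a * a1 * (b * a2) * b1 * b2 := by group
    _ = a * a1 * (a2 * b) * b1 * b2 := by rw [c2]
    _ = (a * a1 * a2) * (b * b1 * b2) := by group

theorem cube_formula {H : Type*} [Group H] (v xb : H) :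
    (v * xb) ^ 3
      = v * (xb * v * xb⁻¹) * (xb * (xb * v * xb⁻¹) * xb⁻¹) * (xb * xb * xb) := by
  rw [pow_succ, pow_two]; group

theorem cube_eq {H : Type*} [Group H] (xb : H) (hx3 : xb ^ 3 = 1) : xb * xb * xb = 1 := by
  rw [← hx3, pow_succ, pow_two]

theorem conj3 {H : Type*} [Group H] (xb v : H) (hx3 : xb ^ 3 = 1) :
    xb * (xb * (xb * v * xb⁻¹) * xb⁻¹) * xb⁻¹ = v := by
  have : xb * (xb * (xb * v * xb⁻¹) * xb⁻¹) * xb⁻¹
      = (xb * xb * xb) * v * (xb * xb * xb)⁻¹ := by group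
  rw [this, cube_eq xb hx3, one_mul, inv_one, mul_one]

/-- The elements `v` of the elementary abelian normal `2`-subgroup `R` with
`v * v^x * v^(x^2) = 1`. -/
def trW {H : Type*} [Group H] (R : Subgroup H) (hRn : R.Normal) (hR2 : ∀ v ∈ R, v ^ 2 = 1)
    (xb : H) : Subgroup H where
  carrier := {v | v ∈ R ∧ v * (xb * v * xb⁻¹) * (xb * (xb * v * xb⁻¹) * xb⁻¹) = 1}
  one_mem' := ⟨R.one_mem, by group⟩
  mul_mem' := by
    rintro a b ⟨ha, ha'⟩ ⟨hb, hb'⟩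
    refine ⟨R.mul_mem ha hb, ?_⟩
    have hRc : ∀ a ∈ R, ∀ b ∈ R, a * b = b * a := fun a ha b hb =>
      comm_of_sq a b (hR2 a ha) (hR2 b hb) (hR2 _ (R.mul_mem ha hb))
    have hcj : ∀ v ∈ R, xb * v * xb⁻¹ ∈ R := fun v hv => hRn.conj_mem v hv xb
    have e1 : xb * (a * b) * xb⁻¹ = (xb * a * xb⁻¹) * (xb * b * xb⁻¹) := by group
    have e2 : xb * ((xb * a * xb⁻¹) * (xb * b * xb⁻¹)) * xb⁻¹
        = (xb * (xb * a * xb⁻¹) * xb⁻¹) * (xb * (xb * b * xb⁻¹) * xb⁻¹) := by group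
    rw [e1, e2, six_swap a (xb * a * xb⁻¹) (xb * (xb * a * xb⁻¹) * xb⁻¹) b (xb * b * xb⁻¹)
      (xb * (xb * b * xb⁻¹) * xb⁻¹) (hRc b hb _ (hcj a ha)) (hRc b hb _ (hcj _ (hcj a ha)))
      (hRc _ (hcj b hb) _ (hcj _ (hcj a ha))), ha', hb', one_mul]
  inv_mem' := by
    rintro a ⟨ha, ha'⟩
    have hinv : a⁻¹ = a := inv_eq_of_mul_eq_one_right (by rw [← pow_two]; exact hR2 a ha)
    rw [hinv]
    exact ⟨ha, ha'⟩

theorem mem_trW {H : Type*} [Group H] (R : Subgroup H) (hRn : R.Normal)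
    (hR2 : ∀ v ∈ R, v ^ 2 = 1) (xb v : H) :
    v ∈ trW R hRn hR2 xb ↔
      v ∈ R ∧ v * (xb * v * xb⁻¹) * (xb * (xb * v * xb⁻¹) * xb⁻¹) = 1 := Iff.rfl

theorem key_H {H : Type*} [Group H] (R : Subgroup H) (hRn : R.Normal)
    (hR2 : ∀ v ∈ R, v ^ 2 = 1) (xb : H) (hx3 : xb ^ 3 = 1) (r : H) (hr : r ∈ R)
    (hrx : r * xb ≠ xb * r) :
    ∃ (W : Subgroup H) (w : H), W ≤ R ∧ w ∈ W ∧ w ≠ 1 ∧
      ∀ g ∈ W ⊔ Subgroup.zpowers xb, g ∉ W → g ^ 3 = 1 := by
  have hRc : ∀ a ∈ R, ∀ b ∈ R, a * b = b * a := fun a ha b hb =>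
    comm_of_sq a b (hR2 a ha) (hR2 b hb) (hR2 _ (R.mul_mem ha hb))
  have hRinv : ∀ a ∈ R, a⁻¹ = a := fun a ha =>
    inv_eq_of_mul_eq_one_right (by rw [← pow_two]; exact hR2 a ha)
  have hRsq : ∀ a ∈ R, a * a = 1 := fun a ha => by rw [← pow_two]; exact hR2 a ha
  have hcj : ∀ v ∈ R, xb * v * xb⁻¹ ∈ R := fun v hv => hRn.conj_mem v hv xb
  have hWR : trW R hRn hR2 xb ≤ R := fun v hv => ((mem_trW R hRn hR2 xb v).mp hv).1
  -- `xb` normalizes `W`
  have hxW : ∀ v ∈ trW R hRn hR2 xb, xb * v * xb⁻¹ ∈ trW R hRn hR2 xb := by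
    intro v hv
    obtain ⟨hv, hv'⟩ := (mem_trW R hRn hR2 xb v).mp hv
    rw [mem_trW]
    refine ⟨hcj v hv, ?_⟩
    rw [conj3 xb v hx3]
    have m1 : xb * v * xb⁻¹ ∈ R := hcj v hv
    have m2 : xb * (xb * v * xb⁻¹) * xb⁻¹ ∈ R := hcj _ m1
    calc xb * v * xb⁻¹ * (xb * (xb * v * xb⁻¹) * xb⁻¹) * v
        = v * (xb * v * xb⁻¹ * (xb * (xb * v * xb⁻¹) * xb⁻¹)) :=
          (hRc v hv _ (R.mul_mem m1 m2)).symm
      _ = v * (xb * v * xb⁻¹) * (xb * (xb * v * xb⁻¹) * xb⁻¹) := by group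
      _ = 1 := hv'
  have hcube1 : ∀ v ∈ trW R hRn hR2 xb, (v * xb) ^ 3 = 1 := by
    intro v hv
    rw [cube_formula v xb, ((mem_trW R hRn hR2 xb v).mp hv).2, cube_eq xb hx3, one_mul]
  have hw_mem : r * (xb * r * xb⁻¹) ∈ trW R hRn hR2 xb := by
    have m1 : xb * r * xb⁻¹ ∈ R := hcj r hr
    have m2 : xb * (xb * r * xb⁻¹) * xb⁻¹ ∈ R := hcj _ m1
    rw [mem_trW]
    refine ⟨R.mul_mem hr m1, ?_⟩
    have e1 : xb * (r * (xb * r * xb⁻¹)) * xb⁻¹
        = (xb * r * xb⁻¹) * (xb * (xb * r * xb⁻¹) * xb⁻¹) := by group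
    have e2 : xb * ((xb * r * xb⁻¹) * (xb * (xb * r * xb⁻¹) * xb⁻¹)) * xb⁻¹
        = (xb * (xb * r * xb⁻¹) * xb⁻¹) * (xb * (xb * (xb * r * xb⁻¹) * xb⁻¹) * xb⁻¹) := by
      group
    rw [e1, e2, conj3 xb r hx3]
    calc r * (xb * r * xb⁻¹) * (xb * r * xb⁻¹ * (xb * (xb * r * xb⁻¹) * xb⁻¹))
          * (xb * (xb * r * xb⁻¹) * xb⁻¹ * r)
        = r * ((xb * r * xb⁻¹) * (xb * r * xb⁻¹))
          * ((xb * (xb * r * xb⁻¹) * xb⁻¹) * (xb * (xb * r * xb⁻¹) * xb⁻¹)) * r := by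
          simp only [mul_assoc]
      _ = 1 := by rw [hRsq _ m1, hRsq _ m2, mul_one, mul_one, hRsq r hr]
  have hw1 : r * (xb * r * xb⁻¹) ≠ 1 := by
    intro hw1
    apply hrx
    have h1 : r⁻¹ = xb * r * xb⁻¹ := inv_eq_of_mul_eq_one_right hw1
    rw [hRinv r hr] at h1
    calc r * xb = (xb * r * xb⁻¹) * xb := by rw [← h1]
      _ = xb * r := by group
  have hnorm : Subgroup.zpowers xb ≤ Subgroup.normalizer (trW R hRn hR2 xb : Set H) := by
    rw [Subgroup.zpowers_le, Subgroup.mem_normalizer_iff]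
    intro v
    constructor
    · exact hxW v
    · intro hv
      have h1 := hxW _ (hxW _ hv)
      rwa [conj3 xb v hx3] at h1
  refine ⟨trW R hRn hR2 xb, r * (xb * r * xb⁻¹), hWR, hw_mem, hw1, ?_⟩
  intro g hg hgW
  have hg' : g ∈ ((trW R hRn hR2 xb ⊔ Subgroup.zpowers xb : Subgroup H) : Set H) := hg
  rw [Subgroup.coe_mul_of_right_le_normalizer_left (trW R hRn hR2 xb) (Subgroup.zpowers xb)
    hnorm] at hg'
  obtain ⟨v, hv, y, hy, rfl⟩ := Set.mem_mul.mp hg'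
  obtain ⟨k, rfl⟩ := Subgroup.mem_zpowers_iff.mp hy
  have hv : v ∈ trW R hRn hR2 xb := hv
  have hk : xb ^ k = xb ^ (k % 3) := by
    conv_lhs => rw [← Int.emod_add_mul_ediv k 3]
    rw [zpow_add, zpow_mul, zpow_ofNat, hx3, one_zpow, mul_one]
  have hk0 : 0 ≤ k % 3 := Int.emod_nonneg k (by norm_num)
  have hk3 : k % 3 < 3 := Int.emod_lt_of_pos k (by norm_num)
  rw [hk] at hgW ⊢
  obtain h0 | h1 | h2 : k % 3 = 0 ∨ k % 3 = 1 ∨ k % 3 = 2 := by omega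
  · rw [h0, zpow_zero, mul_one] at hgW
    exact absurd hv hgW
  · rw [h1, zpow_one]
    exact hcube1 v hv
  · rw [h2, zpow_two]
    have hxi : (xb * xb)⁻¹ = xb := by
      apply inv_eq_of_mul_eq_one_left
      rw [← mul_assoc]; exact cube_eq xb hx3
    have hgi : (v * (xb * xb))⁻¹ = (xb * v⁻¹ * xb⁻¹) * xb := by
      rw [mul_inv_rev, hxi]; group
    have h3 := hcube1 _ (hxW _ ((trW R hRn hR2 xb).inv_mem hv))
    rw [← hgi, inv_pow, inv_eq_one] at h3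
    exact h3

theorem nilpotent_of_kegel {Y : Type*} [Group Y] [Finite Y] (Y1 H0 : Subgroup Y) (x : Y)
    (hx : x ∈ Y1) (hx0 : x ∉ H0) (hout : ∀ g ∈ Y1, g ∉ H0 → g ^ 3 = 1) :
    Group.IsNilpotent ↥(H0.subgroupOf Y1) := by
  apply Helper21.kegel_nilpotent 3 Nat.prime_three (H0.subgroupOf Y1)
  · intro htop
    have : (⟨x, hx⟩ : Y1) ∈ H0.subgroupOf Y1 := by rw [htop]; exact Subgroup.mem_top _
    rw [Subgroup.mem_subgroupOf] at this
    exact hx0 this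
  · rintro ⟨g, hg⟩ hgH
    rw [Subgroup.mem_subgroupOf] at hgH
    apply Subtype.ext
    show g ^ 3 = 1
    exact hout g hg hgH

theorem comm_of_nilpotent_sub {Y : Type*} [Group Y] (Y1 H0 : Subgroup Y) (hle : H0 ≤ Y1)
    (hnil : Group.IsNilpotent ↥(H0.subgroupOf Y1)) (a b : Y) (ha : a ∈ H0) (hb : b ∈ H0)
    (hcop : (orderOf a).Coprime (orderOf b)) : a * b = b * a := by
  haveI := hnil
  have h1 : orderOf (⟨⟨a, hle ha⟩, Subgroup.mem_subgroupOf.mpr ha⟩ : H0.subgroupOf Y1)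
      = orderOf a := by
    rw [Subgroup.orderOf_mk, Subgroup.orderOf_mk]
  have h2 : orderOf (⟨⟨b, hle hb⟩, Subgroup.mem_subgroupOf.mpr hb⟩ : H0.subgroupOf Y1)
      = orderOf b := by
    rw [Subgroup.orderOf_mk, Subgroup.orderOf_mk]
  have := Helper8.comm_of_coprime_nilpotent
    (⟨⟨a, hle ha⟩, Subgroup.mem_subgroupOf.mpr ha⟩ : H0.subgroupOf Y1)
    ⟨⟨b, hle hb⟩, Subgroup.mem_subgroupOf.mpr hb⟩ (by rw [h1, h2]; exact hcop)
  exact congrArg (fun z : H0.subgroupOf Y1 => ((z : Y1) : Y)) this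

theorem three_core {Y : Type*} [Group Y] [Finite Y] [Group.IsSolvable Y]
    (h : ∀ x : Y, x ^ 6 = 1) (P : Subgroup Y) [hPn : P.Normal] (hPp : IsPGroup 3 P)
    (hmax : ∀ X : Subgroup Y, X.Normal → IsPGroup 3 X → X ≤ P)
    (hHH : Subgroup.centralizer (P : Set Y) ≤ P) : ¬ 3 ∣ P.index := by
  haveI : Fact (Nat.Prime 3) := ⟨Nat.prime_three⟩
  haveI : Fact (Nat.Prime 2) := ⟨Nat.prime_two⟩
  intro hdvd
  have hH6 : ∀ x : Y ⧸ P, x ^ 6 = 1 := exp_quot P h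
  haveI : Group.IsSolvable (Y ⧸ P) := Group.isSolvable_of_surjective (QuotientGroup.mk'_surjective P)
  have hcardH : 3 ∣ Nat.card (Y ⧸ P) := by rw [← Subgroup.index_eq_card]; exact hdvd
  obtain ⟨xb, hxb⟩ := exists_prime_orderOf_dvd_card' (G := Y ⧸ P) 3 hcardH
  have hx3 : xb ^ 3 = 1 := by rw [← hxb]; exact pow_orderOf_eq_one xb
  have hx1 : xb ≠ 1 := by
    intro h1; rw [h1, orderOf_one] at hxb; norm_num at hxb
  -- `O_{2'}(Y / P) = 1`
  have hbot2 : pPrimeCore 2 (Y ⧸ P) = ⊥ := by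
    apply pPrimeCore_quotient_eq_bot
    intro X hXn hPX hrel
    apply hmax X hXn
    have hcX : (Nat.card X).Coprime 2 := by
      rw [card_eq_card_mul_relIndex hPX]
      obtain ⟨m, hm⟩ := hPp.exists_card_eq
      rw [hm]
      exact Nat.Coprime.mul_left (Nat.Coprime.pow_left m (by decide)) hrel
    intro g
    refine ⟨1, ?_⟩
    apply Subtype.ext
    show (g : Y) ^ 3 ^ 1 = 1
    rw [pow_one]
    have h1 : orderOf (g : Y) ∣ Nat.card X := Subgroup.orderOf_dvd_natCard X g.2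
    have h2 : orderOf (g : Y) ∣ 3 * 2 := orderOf_dvd_of_pow_eq_one (h g)
    have h3 : orderOf (g : Y) ∣ 3 :=
      Nat.Coprime.dvd_of_dvd_mul_right (hcX.coprime_dvd_left h1) h2
    exact orderOf_dvd_iff_pow_eq_one.mp h3
  have hHH2 : Subgroup.centralizer (pCore 2 (Y ⧸ P) : Set (Y ⧸ P)) ≤ pCore 2 (Y ⧸ P) :=
    hall_higman (isPSolvable_of_isSolvable 2 (Y ⧸ P)) hbot2
  have hRn : (pCore 2 (Y ⧸ P)).Normal := pCore_normal_fin 2
  have hRp : IsPGroup 2 (pCore 2 (Y ⧸ P)) := pCore_isPGroup 2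
  have hR2 : ∀ v ∈ pCore 2 (Y ⧸ P), v ^ 2 = 1 := by
    intro v hv
    obtain ⟨k, hk⟩ := hRp ⟨v, hv⟩
    have hk' : v ^ 2 ^ k = 1 := congrArg Subtype.val hk
    exact pow_of_coprime v 3 2 (2 ^ k) (Nat.Coprime.pow_right k (by decide)) (hH6 v) hk'
  have hxR : xb ∉ pCore 2 (Y ⧸ P) := by
    intro hx
    have h2 := hR2 xb hx
    apply hx1
    calc xb = xb ^ 3 * (xb ^ 2)⁻¹ := by group
      _ = 1 := by rw [hx3, h2, inv_one, mul_one]
  have hxC : xb ∉ Subgroup.centralizer (pCore 2 (Y ⧸ P) : Set (Y ⧸ P)) :=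
    fun hc => hxR (hHH2 hc)
  rw [Subgroup.mem_centralizer_iff] at hxC
  push Not at hxC
  obtain ⟨r, hr, hrx⟩ := hxC
  obtain ⟨W, w, hWR, hwW, hw1, hcube⟩ := key_H (pCore 2 (Y ⧸ P)) hRn hR2 xb hx3 r hr hrx
  have hπs : Function.Surjective (QuotientGroup.mk' P) := QuotientGroup.mk'_surjective P
  have hker : ∀ g : Y, QuotientGroup.mk' P g = 1 ↔ g ∈ P := fun g => by
    rw [QuotientGroup.mk'_apply, QuotientGroup.eq_one_iff]
  have hout : ∀ g : Y, g ∈ (W ⊔ Subgroup.zpowers xb).comap (QuotientGroup.mk' P) →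
      g ∉ W.comap (QuotientGroup.mk' P) → g ^ 3 = 1 := by
    intro g hg hgW
    have h1 : QuotientGroup.mk' P (g ^ 3) = 1 := by rw [map_pow]; exact hcube _ hg hgW
    have h2 : g ^ 3 ∈ P := (hker _).mp h1
    exact eq_one_of_isPGroup_of_pow_eq_one hPp h2 (k := 2) (by decide)
      (by rw [← pow_mul]; exact h g)
  have hH0Y1 : W.comap (QuotientGroup.mk' P) ≤
      (W ⊔ Subgroup.zpowers xb).comap (QuotientGroup.mk' P) := Subgroup.comap_mono le_sup_left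
  obtain ⟨x, hx⟩ := hπs xb
  have hxY1 : x ∈ (W ⊔ Subgroup.zpowers xb).comap (QuotientGroup.mk' P) := by
    rw [Subgroup.mem_comap, hx]
    exact (le_sup_right : Subgroup.zpowers xb ≤ W ⊔ Subgroup.zpowers xb)
      (Subgroup.mem_zpowers xb)
  have hxH0 : x ∉ W.comap (QuotientGroup.mk' P) := by
    rw [Subgroup.mem_comap, hx]
    exact fun hc => hxR (hWR hc)
  have hnil := nilpotent_of_kegel _ _ x hxY1 hxH0 hout
  obtain ⟨t, ht⟩ := hπs w
  have hw2 : w ^ 2 = 1 := hR2 w (hWR hwW)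
  have hw3 : w ^ 3 = w := by rw [pow_succ, hw2, one_mul]
  have ht3 : QuotientGroup.mk' P (t ^ 3) = w := by rw [map_pow, ht, hw3]
  have ht3H0 : t ^ 3 ∈ W.comap (QuotientGroup.mk' P) := by
    rw [Subgroup.mem_comap, ht3]; exact hwW
  have ht3P : t ^ 3 ∉ P := by
    intro hc
    rw [← hker, ht3] at hc
    exact hw1 hc
  have ht32 : (t ^ 3) ^ 2 = 1 := by rw [← pow_mul]; exact h t
  have hcent : t ^ 3 ∈ Subgroup.centralizer (P : Set Y) := by
    rw [Subgroup.mem_centralizer_iff]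
    intro u hu
    have huH0 : u ∈ W.comap (QuotientGroup.mk' P) := by
      rw [Subgroup.mem_comap, (hker u).mpr hu]; exact W.one_mem
    obtain ⟨k, hk⟩ := hPp ⟨u, hu⟩
    have hk' : u ^ 3 ^ k = 1 := congrArg Subtype.val hk
    have hcop : (orderOf u).Coprime (orderOf (t ^ 3)) :=
      Nat.Coprime.coprime_dvd_left (orderOf_dvd_of_pow_eq_one hk')
        (Nat.Coprime.coprime_dvd_right (orderOf_dvd_of_pow_eq_one ht32)
          (Nat.Coprime.pow_left k (by decide)))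
    exact comm_of_nilpotent_sub _ _ hH0Y1 hnil u (t ^ 3) huH0 ht3H0 hcop
  exact ht3P (hHH hcent)

theorem three_part {Y : Type*} [Group Y] [Finite Y] [Group.IsSolvable Y]
    (h : ∀ x : Y, x ^ 6 = 1) (hbot : pPrimeCore 3 Y = ⊥) : ¬ 3 ∣ (pCore 3 Y).index := by
  haveI : Fact (Nat.Prime 3) := ⟨Nat.prime_three⟩
  haveI : (pCore 3 Y).Normal := pCore_normal_fin 3
  exact three_core h (pCore 3 Y) (pCore_isPGroup 3) (fun X hXn hX => le_pCore hXn hX)
    (hall_higman (isPSolvable_of_isSolvable 3 Y) hbot)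

/-- A finite group in which every element has order dividing `6` has `2`-length at most `1` and `3`-length at most `1`. -/
theorem result {G : Type*} [Group G] [Finite G] (h : ∀ x : G, x ^ 6 = 1) : Cfsg.PLengthLE 2 1 G ∧ Cfsg.PLengthLE 3 1 G := by
  haveI : Fact (Nat.Prime 3) := ⟨Nat.prime_three⟩
  haveI : Fact (Nat.Prime 2) := ⟨Nat.prime_two⟩
  haveI hsolG : Group.IsSolvable G := solvable_of_exp_six h
  constructor
  · apply plen_one_of
    haveI : Group.IsSolvable (G ⧸ (upperPSeries 2 G 1).1) :=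
      Group.isSolvable_of_surjective (QuotientGroup.mk'_surjective _)
    exact two_part (exp_quot _ h) (isPSolvable_of_isSolvable 2 _) (pPrimeCore_quot_upper_one 2)
  · apply plen_one_of
    haveI : Group.IsSolvable (G ⧸ (upperPSeries 3 G 1).1) :=
      Group.isSolvable_of_surjective (QuotientGroup.mk'_surjective _)
    exact three_part (exp_quot _ h) (pPrimeCore_quot_upper_one 3)

end Cfsg.Agent.S4227
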