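-- Statement S4238: normal p-complement iff p'-reduced sections have an element of exponent order
import Cfsg.Statements.S4238
import Mathlib
import Cfsg.Agent.Helper1.Frobenius
import Cfsg.Agent.S4072

set_option autoImplicit false
open Cfsg
open scoped commutatorElement

namespace Cfsg.Agent.S4238

theorem exists_orderOf_eq_exponent {K : Type*} [Group K] [Finite K] (p : ℕ) [Fact p.Prime]
    (hK : IsPGroup p K) : ∃ k : K, orderOf k = Monoid.exponent K := by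
  have hp : p.Prime := Fact.out
  obtain ⟨k, hk⟩ := Finite.exists_max (fun x : K => orderOf x)
  refine ⟨k, Nat.dvd_antisymm (Monoid.order_dvd_exponent k) ?_⟩
  apply Monoid.exponent_dvd_of_forall_pow_eq_one
  intro x
  obtain ⟨n, hn⟩ := hK x
  obtain ⟨m, hm⟩ := hK k
  obtain ⟨a, -, ha⟩ := (Nat.dvd_prime_pow hp).mp (orderOf_dvd_of_pow_eq_one hn)
  obtain ⟨b, -, hb⟩ := (Nat.dvd_prime_pow hp).mp (orderOf_dvd_of_pow_eq_one hm)
  have h1 : orderOf x ≤ orderOf k := hk x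
  rw [ha, hb] at h1
  have hab : a ≤ b := (Nat.pow_le_pow_iff_right hp.one_lt).mp h1
  have h2 : orderOf x ∣ orderOf k := by rw [ha, hb]; exact pow_dvd_pow p hab
  exact orderOf_dvd_iff_pow_eq_one.mp h2

theorem forward {G : Type*} [Group G] [Finite G] (p : ℕ) [Fact p.Prime]
    (h : Cfsg.HasNormalPComplement p G) (H : Subgroup G) (N : Subgroup H) [N.Normal]
    (hK : Cfsg.pPrimeCore p (H ⧸ N) = ⊥) :
    ∃ k : H ⧸ N, orderOf k = Monoid.exponent (H ⧸ N) := by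
  have hp : p.Prime := Fact.out
  have hH : Cfsg.HasNormalPComplement p ↥H := Cfsg.Agent.Helper1.npc_subgroup H h
  obtain ⟨M, k, hM, hcop, hk⟩ := Cfsg.Agent.Helper16.npc_exists hH
  have hMN : M ≤ N := by
    intro x hx
    have h1 : M.map (QuotientGroup.mk' N) ≤ Cfsg.pPrimeCore p (H ⧸ N) := by
      apply le_sSup
      refine ⟨Subgroup.Normal.map hM _ (QuotientGroup.mk'_surjective N), ?_⟩
      exact Nat.Coprime.coprime_dvd_left (M.card_map_dvd _) hcop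
    rw [hK] at h1
    have h2 : QuotientGroup.mk' N x ∈ M.map (QuotientGroup.mk' N) :=
      Subgroup.mem_map_of_mem _ hx
    have h3 := h1 h2
    rw [Subgroup.mem_bot] at h3
    exact (QuotientGroup.eq_one_iff x).mp h3
  have hidx : N.index ∣ p ^ k := by rw [← hk]; exact Subgroup.index_dvd_of_le hMN
  obtain ⟨j, -, hj⟩ := (Nat.dvd_prime_pow hp).mp hidx
  have hcard : Nat.card (H ⧸ N) = p ^ j := by rw [← hj, Subgroup.index_eq_card]
  exact exists_orderOf_eq_exponent p (IsPGroup.of_card hcard)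

theorem lemA {K : Type*} [Group K] [Finite K] (p q : ℕ) [Fact p.Prime] (hq : q.Prime)
    (hpq : q ≠ p) (V : Subgroup K) [hVn : V.Normal] (hVp : IsPGroup p V)
    (hVab : ∀ a ∈ V, ∀ b ∈ V, a * b = b * a) (hV1 : V ≠ ⊥) (c : K) (hcq : c ^ q = 1)
    (hgen : ∀ k : K, ∃ v ∈ V, ∃ i : ℕ, k = v * c ^ i)
    (hfix : ∀ v ∈ V, c * v * c⁻¹ = v → v = 1) :
    Cfsg.pPrimeCore p K = ⊥ ∧ ¬ ∃ k : K, orderOf k = Monoid.exponent K := by
  have hp : p.Prime := Fact.out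
  have hcop : Nat.Coprime p q := (Nat.coprime_primes hp hq).mpr (Ne.symm hpq)
  have hVpow : ∀ v ∈ V, ∃ n : ℕ, v ^ (p ^ n) = 1 := by
    intro v hv
    obtain ⟨n, hn⟩ := hVp ⟨v, hv⟩
    exact ⟨n, by simpa using congrArg (fun z : ↥V => (z : K)) hn⟩
  have hVex : ∃ v ∈ V, v ≠ 1 := by
    by_contra hno
    push Not at hno
    exact hV1 ((Subgroup.eq_bot_iff_forall V).mpr hno)
  have hc1 : c ≠ 1 := by
    intro hc
    obtain ⟨v, hv, hv1⟩ := hVex
    exact hv1 (hfix v hv (by rw [hc]; simp))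
  have hpow : ∀ i : ℕ, c ^ i ≠ 1 → ∃ j : ℕ, (c ^ i) ^ j = c := by
    intro i hi
    have hqi : ¬ q ∣ i := by
      rintro ⟨t, rfl⟩
      exact hi (by rw [pow_mul, hcq, one_pow])
    have hcop' : Nat.Coprime i q := ((Nat.Prime.coprime_iff_not_dvd hq).mpr hqi).symm
    obtain ⟨j, -, hj⟩ := Nat.exists_mul_mod_eq_one_of_coprime hcop' hq.one_lt
    refine ⟨j, ?_⟩
    have e : i * j = q * (i * j / q) + 1 := by
      have h1 := Nat.div_add_mod (i * j) q
      rw [hj] at h1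
      exact h1.symm
    rw [← pow_mul, e, pow_add, pow_mul, hcq, one_pow, one_mul, pow_one]
  have hfixpow : ∀ i : ℕ, c ^ i ≠ 1 → ∀ v ∈ V, c ^ i * v * (c ^ i)⁻¹ = v → v = 1 := by
    intro i hi v hv hcv
    obtain ⟨j, hj⟩ := hpow i hi
    apply hfix v hv
    have hcomm : Commute (c ^ i) v := by
      show c ^ i * v = v * c ^ i
      calc c ^ i * v = c ^ i * v * (c ^ i)⁻¹ * c ^ i := by group
        _ = v * c ^ i := by rw [hcv]
    have hcomm2 : Commute c v := by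
      have h1 := hcomm.pow_left j
      rwa [hj] at h1
    calc c * v * c⁻¹ = v * c * c⁻¹ := by rw [hcomm2.eq]
      _ = v := by group
  have hVtriv : ∀ v ∈ V, ∀ m : ℕ, Nat.Coprime m p → v ^ m = 1 → v = 1 := by
    intro v hv m hm hvm
    obtain ⟨n, hn⟩ := hVpow v hv
    exact Cfsg.Agent.S4072.eq_one_of_pow_coprime v m (p ^ n) hvm hn (hm.pow_right n)
  have hVconj : ∀ a ∈ V, ∀ b ∈ V, a * b * a⁻¹ = b := by
    intro a ha b hb
    rw [hVab a ha b hb]; group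
  refine ⟨?_, ?_⟩
  · unfold Cfsg.pPrimeCore
    rw [eq_bot_iff]
    apply sSup_le
    rintro L ⟨hLn, hLc⟩
    intro x hx
    rw [Subgroup.mem_bot]
    have hLtriv : ∀ w ∈ L, w ∈ V → w = 1 := by
      intro w hwL hwV
      apply hVtriv w hwV (Nat.card L) hLc
      have h4 := orderOf_dvd_natCard (⟨w, hwL⟩ : L)
      rw [Subgroup.orderOf_mk] at h4
      exact orderOf_dvd_iff_pow_eq_one.mp h4
    have hxV : ∀ v ∈ V, x * v * x⁻¹ = v := by
      intro v hv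
      have h1 : x * v * x⁻¹ * v⁻¹ ∈ L := by
        have h2 : v * x⁻¹ * v⁻¹ ∈ L := hLn.conj_mem _ (L.inv_mem hx) v
        have e : x * v * x⁻¹ * v⁻¹ = x * (v * x⁻¹ * v⁻¹) := by group
        rw [e]; exact L.mul_mem hx h2
      have h3 : x * v * x⁻¹ * v⁻¹ ∈ V := V.mul_mem (hVn.conj_mem v hv x) (V.inv_mem hv)
      have h5 := hLtriv _ h1 h3
      calc x * v * x⁻¹ = x * v * x⁻¹ * v⁻¹ * v := by group
        _ = v := by rw [h5, one_mul]
    obtain ⟨v₀, hv₀, i, hxi⟩ := hgen x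
    have hci : c ^ i = 1 := by
      by_contra hci
      obtain ⟨v, hv, hv1⟩ := hVex
      apply hv1
      apply hfixpow i hci v hv
      have h6 := hxV v hv
      rw [hxi] at h6
      have h7 : c ^ i * v * (c ^ i)⁻¹ = v₀⁻¹ * v * v₀⁻¹⁻¹ := by
        calc c ^ i * v * (c ^ i)⁻¹
            = v₀⁻¹ * (v₀ * c ^ i * v * (v₀ * c ^ i)⁻¹) * v₀⁻¹⁻¹ := by group
          _ = v₀⁻¹ * v * v₀⁻¹⁻¹ := by rw [h6]
      rw [h7]
      exact hVconj _ (V.inv_mem hv₀) v hv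
    rw [hci, mul_one] at hxi
    rw [hxi] at hx ⊢
    exact hLtriv v₀ hx hv₀
  · rintro ⟨k, hk⟩
    have hE0 : Monoid.exponent K ≠ 0 := by
      rw [← hk]; exact (orderOf_pos k).ne'
    have hpE : p ∣ Monoid.exponent K := by
      obtain ⟨v, hv, hv1⟩ := hVex
      obtain ⟨n, hn⟩ := hVpow v hv
      obtain ⟨a, -, ha⟩ := (Nat.dvd_prime_pow hp).mp (orderOf_dvd_of_pow_eq_one hn)
      have ha0 : a ≠ 0 := by
        rintro rfl
        rw [pow_zero] at ha
        exact hv1 (orderOf_eq_one_iff.mp ha)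
      have h1 : p ∣ orderOf v := by rw [ha]; exact dvd_pow_self p ha0
      exact h1.trans (Monoid.order_dvd_exponent v)
    have hoc : orderOf c = q := by
      have h1 : orderOf c ∣ q := orderOf_dvd_of_pow_eq_one hcq
      rcases (Nat.dvd_prime hq).mp h1 with h2 | h2
      · exact absurd (orderOf_eq_one_iff.mp h2) hc1
      · exact h2
    have hqE : q ∣ Monoid.exponent K := by
      rw [← hoc]; exact Monoid.order_dvd_exponent c
    obtain ⟨z, hz⟩ : ∃ z : K, z = k ^ (Monoid.exponent K / p) := ⟨_, rfl⟩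
    obtain ⟨y, hy⟩ : ∃ y : K, y = k ^ (Monoid.exponent K / q) := ⟨_, rfl⟩
    have hoz : orderOf z = p := by
      rw [hz, orderOf_pow_of_dvd
        (Nat.div_pos (Nat.le_of_dvd (Nat.pos_of_ne_zero hE0) hpE) hp.pos).ne'
        (by rw [hk]; exact Nat.div_dvd_of_dvd hpE), hk]
      exact Nat.div_div_self hpE hE0
    have hoy : orderOf y = q := by
      rw [hy, orderOf_pow_of_dvd
        (Nat.div_pos (Nat.le_of_dvd (Nat.pos_of_ne_zero hE0) hqE) hq.pos).ne'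
        (by rw [hk]; exact Nat.div_dvd_of_dvd hqE), hk]
      exact Nat.div_div_self hqE hE0
    have hyz : Commute y z := by
      rw [hy, hz]; exact (Commute.refl k).pow_pow _ _
    have hqV : ∀ w : K, w ^ q ∈ V := by
      intro w
      obtain ⟨v, hv, i, hw⟩ := hgen w
      rw [← QuotientGroup.eq_one_iff]
      have h1 : ((w : K) : K ⧸ V) = (c : K ⧸ V) ^ i := by
        rw [hw, QuotientGroup.mk_mul, (QuotientGroup.eq_one_iff v).mpr hv, one_mul,
          QuotientGroup.mk_pow]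
      rw [QuotientGroup.mk_pow, h1, ← pow_mul, mul_comm, pow_mul, ← QuotientGroup.mk_pow, hcq,
        QuotientGroup.mk_one, one_pow]
    have hzV : z ∈ V := by
      obtain ⟨m, -, hm⟩ := Nat.exists_mul_mod_eq_one_of_coprime hcop.symm hp.one_lt
      have h1 : z ^ (q * m) = z := by
        rw [← pow_mod_orderOf, hoz, hm, pow_one]
      rw [← h1, pow_mul]
      exact V.pow_mem (hqV z) m
    have hyV : y ∉ V := by
      intro hyV
      have h1 : y = 1 :=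
        hVtriv y hyV q hcop.symm (by rw [← hoy]; exact pow_orderOf_eq_one y)
      rw [h1, orderOf_one] at hoy
      exact hq.one_lt.ne hoy
    obtain ⟨v', hv', j, hyj⟩ := hgen y
    have hcj : c ^ j ≠ 1 := by
      intro hcj
      rw [hcj, mul_one] at hyj
      exact hyV (by rw [hyj]; exact hv')
    have hz1 : z = 1 := by
      apply hfixpow j hcj z hzV
      have h1 : y * z * y⁻¹ = z := by rw [hyz.eq]; group
      rw [hyj] at h1
      have h2 : c ^ j * z * (c ^ j)⁻¹ ∈ V := hVn.conj_mem z hzV _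
      calc c ^ j * z * (c ^ j)⁻¹ = v' * (c ^ j * z * (c ^ j)⁻¹) * v'⁻¹ :=
            (hVconj v' hv' _ h2).symm
        _ = v' * c ^ j * z * (v' * c ^ j)⁻¹ := by group
        _ = z := h1
    rw [hz1, orderOf_one] at hoz
    exact hp.one_lt.ne hoz

theorem backward {G : Type*} [Group G] [Finite G] (p : ℕ) [Fact p.Prime]
    (hS : ∀ (H : Subgroup G) (N : Subgroup H) [N.Normal], Cfsg.pPrimeCore p (H ⧸ N) = ⊥ →
        ∃ k : H ⧸ N, orderOf k = Monoid.exponent (H ⧸ N)) :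
    Cfsg.HasNormalPComplement p G := by
  have hp : p.Prime := Fact.out
  apply Cfsg.Agent.Helper1.npc_of_local
  by_contra hL
  obtain ⟨𝒬, h𝒬⟩ : ∃ 𝒬 : Set (Subgroup G), 𝒬 = {Q : Subgroup G | IsPGroup p Q ∧
      ∃ g ∈ Subgroup.normalizer (Q : Set G), (orderOf g).Coprime p ∧
        g ∉ Subgroup.centralizer (Q : Set G)} := ⟨_, rfl⟩
  have hne : 𝒬.Nonempty := by
    by_contra hemp
    apply hL
    intro Q hQ g hg hgo
    by_contra hgc
    exact hemp ⟨Q, by rw [h𝒬]; exact ⟨hQ, g, hg, hgo, hgc⟩⟩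
  obtain ⟨Q, hQmem, hQmin⟩ :=
    Set.exists_min_image 𝒬 (fun Q => Nat.card Q) (Set.toFinite 𝒬) hne
  rw [h𝒬] at hQmem
  obtain ⟨hQp, g₀, hg₀N, hg₀o, hg₀C⟩ := hQmem
  obtain ⟨g, ⟨hgz, hgC⟩, hgmin⟩ := Set.exists_min_image
    {x : G | x ∈ Subgroup.zpowers g₀ ∧ x ∉ Subgroup.centralizer (Q : Set G)} orderOf
    (Set.toFinite _) ⟨g₀, Subgroup.mem_zpowers g₀, hg₀C⟩
  have hgN : g ∈ Subgroup.normalizer (Q : Set G) := (Subgroup.zpowers_le.mpr hg₀N) hgz
  have hgo : (orderOf g).Coprime p :=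
    Nat.Coprime.coprime_dvd_left (orderOf_dvd_of_mem_zpowers hgz) hg₀o
  have hg1 : g ≠ 1 := by
    intro hg1
    apply hgC
    rw [hg1]
    exact Subgroup.one_mem _
  have ho1 : orderOf g ≠ 1 := fun h => hg1 (orderOf_eq_one_iff.mp h)
  obtain ⟨q, hq, hqdvd⟩ := Nat.exists_prime_and_dvd ho1
  have hqp : q ≠ p := by
    intro hqp
    rw [hqp] at hqdvd
    have h1 := Nat.dvd_gcd hqdvd (dvd_refl p)
    rw [Nat.Coprime.gcd_eq_one hgo] at h1
    exact hp.one_lt.ne' (Nat.dvd_one.mp h1)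
  have hgqC : g ^ q ∈ Subgroup.centralizer (Q : Set G) := by
    by_contra hcon
    have h1 := hgmin (g ^ q) ⟨Subgroup.pow_mem _ hgz q, hcon⟩
    rw [orderOf_pow_of_dvd hq.ne_zero hqdvd] at h1
    exact absurd h1 (not_le.mpr (Nat.div_lt_self (orderOf_pos g) hq.one_lt))
  have hmin : ∀ D : Subgroup G, D ≤ Q → D ≠ Q → g ∈ Subgroup.normalizer (D : Set G) →
      g ∈ Subgroup.centralizer (D : Set G) := by
    intro D hDQ hDne hgD
    by_contra hgDC
    have h1 : D ∈ 𝒬 := by rw [h𝒬]; exact ⟨hQp.to_le hDQ, g, hgD, hgo, hgDC⟩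
    have h2 := hQmin D h1
    exact hDne (Subgroup.eq_of_le_of_card_ge hDQ h2)
  have hgQ : ∀ u ∈ Q, g * u * g⁻¹ ∈ Q :=
    fun u hu => (Subgroup.mem_normalizer_iff.mp hgN u).mp hu
  have hQpow : ∀ u ∈ Q, ∃ n : ℕ, u ^ (p ^ n) = 1 := by
    intro u hu
    obtain ⟨n, hn⟩ := hQp ⟨u, hu⟩
    exact ⟨n, by simpa using congrArg (fun z : ↥Q => (z : G)) hn⟩
  have hQtriv : ∀ u ∈ Q, u ^ orderOf g = 1 → u = 1 := by
    intro u hu hug
    obtain ⟨n, hn⟩ := hQpow u hu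
    exact Cfsg.Agent.S4072.eq_one_of_pow_coprime u (orderOf g) (p ^ n) hug hn (hgo.pow_right n)
  have hQne : Q ≠ ⊥ := by
    intro hQb
    apply hgC
    rw [Subgroup.mem_centralizer_iff]
    intro x hx
    rw [hQb] at hx
    have hx' : x ∈ (⊥ : Subgroup G) := hx
    have hx1 : x = 1 := Subgroup.mem_bot.mp hx'
    rw [hx1]; simp
  have hQ'Q : ⁅Q, Q⁆ ≤ Q := by
    rw [Subgroup.commutator_le]
    intro a ha b hb
    rw [commutatorElement_def]
    exact Q.mul_mem (Q.mul_mem (Q.mul_mem ha hb) (Q.inv_mem ha)) (Q.inv_mem hb)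
  have hQ'ne : ⁅Q, Q⁆ ≠ Q := by
    intro heq
    haveI : Nontrivial ↥Q := (Subgroup.nontrivial_iff_ne_bot Q).mpr hQne
    haveI : Group.IsNilpotent ↥Q := hQp.isNilpotent
    have h1 : commutator ↥Q < ⊤ := Group.IsSolvable.commutator_lt_top_of_nontrivial ↥Q
    have h2 : (commutator ↥Q).map Q.subtype = (⊤ : Subgroup ↥Q).map Q.subtype := by
      rw [commutator_def, Subgroup.map_commutator, ← MonoidHom.range_eq_map,
        Subgroup.range_subtype]
      exact heq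
    exact h1.ne (Subgroup.map_injective Q.subtype_injective h2)
  have hgQ' : g ∈ Subgroup.normalizer ((⁅Q, Q⁆ : Subgroup G) : Set G) := by
    apply Cfsg.Agent.Helper5.mem_normalizer_of_conj_mem
    have h1 : ⁅Q, Q⁆ ≤ (⁅Q, Q⁆ : Subgroup G).comap (MulAut.conj g).toMonoidHom := by
      rw [Subgroup.commutator_le]
      intro a ha b hb
      rw [Subgroup.mem_comap]
      show g * ⁅a, b⁆ * g⁻¹ ∈ ⁅Q, Q⁆
      rw [conjugate_commutatorElement]
      exact Subgroup.commutator_mem_commutator (hgQ a ha) (hgQ b hb)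
    intro x hx
    exact h1 hx
  obtain ⟨R, ⟨hQ'R, hRQ, hRne, hgR⟩, hRmax⟩ := Set.exists_max_image
    {D : Subgroup G | ⁅Q, Q⁆ ≤ D ∧ D ≤ Q ∧ D ≠ Q ∧ g ∈ Subgroup.normalizer (D : Set G)}
    (fun D => Nat.card D) (Set.toFinite _) ⟨⁅Q, Q⁆, le_refl _, hQ'Q, hQ'ne, hgQ'⟩
  have hR4 : ∀ D : Subgroup G, R ≤ D → D ≤ Q → g ∈ Subgroup.normalizer (D : Set G) →
      D = R ∨ D = Q := by
    intro D hRD hDQ hgD
    by_cases hDQ' : D = Q
    · exact Or.inr hDQ'
    · left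
      have h1 := hRmax D ⟨hQ'R.trans hRD, hDQ, hDQ', hgD⟩
      exact (Subgroup.eq_of_le_of_card_ge hRD h1).symm
  have hcommR : ∀ a ∈ Q, ∀ b ∈ Q, a * b * a⁻¹ * b⁻¹ ∈ R := by
    intro a ha b hb
    have h1 : ⁅a, b⁆ ∈ ⁅Q, Q⁆ := Subgroup.commutator_mem_commutator ha hb
    rw [commutatorElement_def] at h1
    exact hQ'R h1
  have hRnorm : ∀ u ∈ Q, ∀ r ∈ R, u * r * u⁻¹ ∈ R := by
    intro u hu r hr
    have h1 := hcommR u hu r (hRQ hr)
    have e : u * r * u⁻¹ = u * r * u⁻¹ * r⁻¹ * r := by group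
    rw [e]; exact R.mul_mem h1 hr
  have hgRc : g ∈ Subgroup.centralizer (R : Set G) := hmin R hRQ hRne hgR
  have hgRconj : ∀ r ∈ R, g * r * g⁻¹ ∈ R :=
    fun r hr => (Subgroup.mem_normalizer_iff.mp hgR r).mp hr
  have hR5 : ∀ u ∈ Q, g * u * g⁻¹ * u⁻¹ ∈ R → u ∈ R := by
    obtain ⟨D, hD⟩ : ∃ D : Subgroup G, ∀ u, u ∈ D ↔ (u ∈ Q ∧ g * u * g⁻¹ * u⁻¹ ∈ R) :=
      ⟨{ carrier := {u | u ∈ Q ∧ g * u * g⁻¹ * u⁻¹ ∈ R}
         mul_mem' := by
           rintro a b ⟨ha, ha'⟩ ⟨hb, hb'⟩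
           refine ⟨Q.mul_mem ha hb, ?_⟩
           have e : g * (a * b) * g⁻¹ * (a * b)⁻¹
               = (g * a * g⁻¹ * a⁻¹) * (a * (g * b * g⁻¹ * b⁻¹) * a⁻¹) := by group
           rw [e]
           exact R.mul_mem ha' (hRnorm a ha _ hb')
         one_mem' := ⟨Q.one_mem, by simp⟩
         inv_mem' := by
           rintro a ⟨ha, ha'⟩
           refine ⟨Q.inv_mem ha, ?_⟩
           have e : g * a⁻¹ * g⁻¹ * a⁻¹⁻¹ = a⁻¹ * (g * a * g⁻¹ * a⁻¹)⁻¹ * a⁻¹⁻¹ := by group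
           rw [e]
           exact hRnorm a⁻¹ (Q.inv_mem ha) _ (R.inv_mem ha') },
       fun u => Iff.rfl⟩
    have hRD : R ≤ D := by
      intro r hr
      rw [hD]
      exact ⟨hRQ hr, R.mul_mem (hgRconj r hr) (R.inv_mem hr)⟩
    have hDQ : D ≤ Q := fun u hu => ((hD u).mp hu).1
    have hgD : g ∈ Subgroup.normalizer (D : Set G) := by
      apply Cfsg.Agent.Helper5.mem_normalizer_of_conj_mem
      intro u hu
      obtain ⟨hu1, hu2⟩ := (hD u).mp hu
      rw [hD]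
      refine ⟨hgQ u hu1, ?_⟩
      have e : g * (g * u * g⁻¹) * g⁻¹ * (g * u * g⁻¹)⁻¹
          = g * (g * u * g⁻¹ * u⁻¹) * g⁻¹ := by group
      rw [e]
      exact hgRconj _ hu2
    rcases hR4 D hRD hDQ hgD with hDR | hDQ'
    · intro u hu hu'
      have h1 : u ∈ D := (hD u).mpr ⟨hu, hu'⟩
      rwa [hDR] at h1
    · exfalso
      apply hgC
      rw [Subgroup.mem_centralizer_iff]
      intro u hu
      have huD : u ∈ D := by rw [hDQ']; exact hu
      obtain ⟨-, hu2⟩ := (hD u).mp huD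
      have hc : g * u * g⁻¹ = (g * u * g⁻¹ * u⁻¹) * u := by group
      have hgc : g * (g * u * g⁻¹ * u⁻¹) = (g * u * g⁻¹ * u⁻¹) * g :=
        ((Subgroup.mem_centralizer_iff.mp hgRc) _ hu2).symm
      have h1 := Cfsg.Agent.S4072.pow_orderOf_aux g u _ hc hgc
      have h2 := hQtriv _ (hRQ hu2) h1
      calc u * g = (g * u * g⁻¹ * u⁻¹)⁻¹ * (g * u) := by group
        _ = g * u := by rw [h2, inv_one, one_mul]
  -- the section
  obtain ⟨Z, hZ⟩ : ∃ Z : Subgroup G, Z = Subgroup.zpowers (g ^ q) := ⟨_, rfl⟩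
  obtain ⟨H, hH⟩ : ∃ H : Subgroup G, H = Q ⊔ Subgroup.zpowers g := ⟨_, rfl⟩
  obtain ⟨N, hN⟩ : ∃ N : Subgroup G, N = R ⊔ Z := ⟨_, rfl⟩
  have hZg : Z ≤ Subgroup.zpowers g := by
    rw [hZ]; exact Subgroup.zpowers_le.mpr (Subgroup.pow_mem _ (Subgroup.mem_zpowers g) q)
  have hZC : Z ≤ Subgroup.centralizer (Q : Set G) := by
    rw [hZ]; exact Subgroup.zpowers_le.mpr hgqC
  have hgzN : Subgroup.zpowers g ≤ Subgroup.normalizer (Q : Set G) :=
    Subgroup.zpowers_le.mpr hgN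
  have hgzR : Subgroup.zpowers g ≤ Subgroup.normalizer (R : Set G) :=
    Subgroup.zpowers_le.mpr hgR
  have hHmem : ∀ x ∈ H, ∃ u ∈ Q, ∃ i : ℕ, x = u * g ^ i := by
    intro x hx
    have h1 : x ∈ ((Q ⊔ Subgroup.zpowers g : Subgroup G) : Set G) := by rw [← hH]; exact hx
    rw [Subgroup.coe_mul_of_right_le_normalizer_left Q (Subgroup.zpowers g) hgzN] at h1
    obtain ⟨u, hu, z, hz, rfl⟩ := Set.mem_mul.mp h1
    have hz' : z ∈ Submonoid.powers g := (mem_powers_iff_mem_zpowers).mpr hz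
    obtain ⟨i, rfl⟩ := (Submonoid.mem_powers_iff _ _).mp hz'
    exact ⟨u, hu, i, rfl⟩
  have hNmem : ∀ x ∈ N, ∃ r ∈ R, ∃ z ∈ Z, x = r * z := by
    intro x hx
    have h1 : x ∈ ((R ⊔ Z : Subgroup G) : Set G) := by rw [← hN]; exact hx
    rw [Subgroup.coe_mul_of_right_le_normalizer_left R Z (hZg.trans hgzR)] at h1
    obtain ⟨r, hr, z, hz, rfl⟩ := Set.mem_mul.mp h1
    exact ⟨r, hr, z, hz, rfl⟩
  have hZcomm : ∀ z ∈ Z, ∀ u ∈ Q, u * z * u⁻¹ = z := by
    intro z hz u hu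
    have h1 : u * z = z * u := (Subgroup.mem_centralizer_iff.mp (hZC hz)) u hu
    rw [h1]; group
  have hZg' : ∀ z ∈ Z, g * z * g⁻¹ = z := by
    intro z hz
    obtain ⟨k, rfl⟩ := Subgroup.mem_zpowers_iff.mp (hZg hz)
    have h1 : g * g ^ k = g ^ k * g := ((Commute.refl g).zpow_right k).eq
    rw [h1]; group
  have hRN : R ≤ N := by rw [hN]; exact le_sup_left
  have hZN : Z ≤ N := by rw [hN]; exact le_sup_right
  have hQH : Q ≤ H := by rw [hH]; exact le_sup_left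
  have hgH : g ∈ H := by
    rw [hH]; exact (le_sup_right : Subgroup.zpowers g ≤ Q ⊔ Subgroup.zpowers g) (Subgroup.mem_zpowers g)
  have hNH : N ≤ H := by
    rw [hN]
    refine sup_le (hRQ.trans hQH) ?_
    rw [hH]; exact hZg.trans le_sup_right
  have hQnormN : Q ≤ Subgroup.normalizer (N : Set G) := by
    intro u hu
    apply Cfsg.Agent.Helper5.mem_normalizer_of_conj_mem
    intro x hx
    obtain ⟨r, hr, z, hz, rfl⟩ := hNmem x hx
    have e : u * (r * z) * u⁻¹ = (u * r * u⁻¹) * (u * z * u⁻¹) := by group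
    rw [e, hZcomm z hz u hu]
    exact N.mul_mem (hRN (hRnorm u hu r hr)) (hZN hz)
  have hgnormN : g ∈ Subgroup.normalizer (N : Set G) := by
    apply Cfsg.Agent.Helper5.mem_normalizer_of_conj_mem
    intro x hx
    obtain ⟨r, hr, z, hz, rfl⟩ := hNmem x hx
    have e : g * (r * z) * g⁻¹ = (g * r * g⁻¹) * (g * z * g⁻¹) := by group
    rw [e, hZg' z hz]
    exact N.mul_mem (hRN (hgRconj r hr)) (hZN hz)
  have hHnormN : H ≤ Subgroup.normalizer (N : Set G) := by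
    rw [hH]
    exact sup_le hQnormN (Subgroup.zpowers_le.mpr hgnormN)
  have hHnormQ : H ≤ Subgroup.normalizer (Q : Set G) := by
    rw [hH]
    exact sup_le Subgroup.le_normalizer hgzN
  have hNQ : ∀ x ∈ N, x ∈ Q → x ∈ R := by
    intro x hxN hxQ
    obtain ⟨r, hr, z, hz, rfl⟩ := hNmem x hxN
    have hzQ : z ∈ Q := by
      have e : z = r⁻¹ * (r * z) := by group
      rw [e]; exact Q.mul_mem (Q.inv_mem (hRQ hr)) hxQ
    have hzo : z ^ orderOf g = 1 :=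
      orderOf_dvd_iff_pow_eq_one.mp (orderOf_dvd_of_mem_zpowers (hZg hz))
    rw [hQtriv z hzQ hzo, mul_one]
    exact hr
  haveI hNn : (N.subgroupOf H).Normal :=
    (Subgroup.normal_subgroupOf_iff_le_normalizer hNH).mpr hHnormN
  haveI hQn : (Q.subgroupOf H).Normal :=
    (Subgroup.normal_subgroupOf_iff_le_normalizer hQH).mpr hHnormQ
  obtain ⟨V, hV⟩ : ∃ V : Subgroup (↥H ⧸ N.subgroupOf H),
      V = (Q.subgroupOf H).map (QuotientGroup.mk' (N.subgroupOf H)) := ⟨_, rfl⟩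
  haveI hVn : V.Normal := by
    rw [hV]; exact Subgroup.Normal.map hQn _ (QuotientGroup.mk'_surjective _)
  have hVp : IsPGroup p V := by
    rw [hV]; exact (hQp.comap_subtype).map _
  have hVmem : ∀ v ∈ V, ∃ u, ∃ huH : u ∈ H, u ∈ Q ∧
      v = (QuotientGroup.mk (⟨u, huH⟩ : ↥H) : ↥H ⧸ N.subgroupOf H) := by
    intro v hv
    rw [hV] at hv
    obtain ⟨⟨u, huH⟩, hu, rfl⟩ := hv
    exact ⟨u, huH, hu, rfl⟩
  have hmemV : ∀ u (huH : u ∈ H), u ∈ Q →
      (QuotientGroup.mk (⟨u, huH⟩ : ↥H) : ↥H ⧸ N.subgroupOf H) ∈ V := by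
    intro u huH hu
    rw [hV]
    exact ⟨⟨u, huH⟩, hu, rfl⟩
  have hmk1 : ∀ u (huH : u ∈ H),
      (QuotientGroup.mk (⟨u, huH⟩ : ↥H) : ↥H ⧸ N.subgroupOf H) = 1 ↔ u ∈ N := by
    intro u huH
    rw [QuotientGroup.eq_one_iff]
    exact Subgroup.mem_subgroupOf
  have key : ∀ (x y : ↥H), (QuotientGroup.mk x : ↥H ⧸ N.subgroupOf H) = QuotientGroup.mk y ↔
      (x : G)⁻¹ * (y : G) ∈ N := by
    intro x y
    rw [QuotientGroup.eq, Subgroup.mem_subgroupOf]
    exact Iff.rfl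
  obtain ⟨c, hc⟩ : ∃ c : ↥H ⧸ N.subgroupOf H, c = QuotientGroup.mk (⟨g, hgH⟩ : ↥H) :=
    ⟨_, rfl⟩
  have hVab : ∀ a ∈ V, ∀ b ∈ V, a * b = b * a := by
    intro a ha b hb
    obtain ⟨a', haH, haQ, rfl⟩ := hVmem a ha
    obtain ⟨b', hbH, hbQ, rfl⟩ := hVmem b hb
    rw [← QuotientGroup.mk_mul, ← QuotientGroup.mk_mul]
    refine (key _ _).mpr ?_
    show (a' * b')⁻¹ * (b' * a') ∈ N
    have e : (a' * b')⁻¹ * (b' * a') = b'⁻¹ * a'⁻¹ * b'⁻¹⁻¹ * a'⁻¹⁻¹ := by group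
    rw [e]
    exact hRN (hcommR _ (Q.inv_mem hbQ) _ (Q.inv_mem haQ))
  have hV1 : V ≠ ⊥ := by
    intro hVb
    apply hRne
    apply le_antisymm hRQ
    intro u hu
    have h1 := hmemV u (hQH hu) hu
    rw [hVb, Subgroup.mem_bot, hmk1] at h1
    exact hNQ u h1 hu
  have hcq : c ^ q = 1 := by
    rw [hc, ← QuotientGroup.mk_pow]
    have h1 : ((⟨g, hgH⟩ : ↥H) ^ q) = ⟨g ^ q, H.pow_mem hgH q⟩ := Subtype.ext (by simp)
    rw [h1, hmk1]
    exact hZN (by rw [hZ]; exact Subgroup.mem_zpowers _)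
  have hgen : ∀ k : ↥H ⧸ N.subgroupOf H, ∃ v ∈ V, ∃ i : ℕ, k = v * c ^ i := by
    intro k
    obtain ⟨⟨x, hx⟩, rfl⟩ := QuotientGroup.mk_surjective k
    obtain ⟨u, hu, i, hxi⟩ := hHmem x hx
    refine ⟨QuotientGroup.mk (⟨u, hQH hu⟩ : ↥H), hmemV u (hQH hu) hu, i, ?_⟩
    rw [hc, ← QuotientGroup.mk_pow, ← QuotientGroup.mk_mul]
    have e : (⟨x, hx⟩ : ↥H) = ⟨u, hQH hu⟩ * ⟨g, hgH⟩ ^ i := Subtype.ext (by simp [hxi])
    rw [e]
  have hfix : ∀ v ∈ V, c * v * c⁻¹ = v → v = 1 := by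
    intro v hv hcv
    obtain ⟨u, huH, huQ, rfl⟩ := hVmem v hv
    rw [hc, ← QuotientGroup.mk_inv, ← QuotientGroup.mk_mul, ← QuotientGroup.mk_mul] at hcv
    have h1 := (key _ _).mp hcv
    have h2 : (g * u * g⁻¹)⁻¹ * u ∈ N := h1
    have h3 : (g * u * g⁻¹)⁻¹ * u ∈ R :=
      hNQ _ h2 (Q.mul_mem (Q.inv_mem (hgQ u huQ)) huQ)
    have h4 : g * u * g⁻¹ * u⁻¹ ∈ R := by
      have e : g * u * g⁻¹ * u⁻¹ = u * ((g * u * g⁻¹)⁻¹ * u)⁻¹ * u⁻¹ := by group
      rw [e]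
      exact hRnorm u huQ _ (R.inv_mem h3)
    have h5 : u ∈ R := hR5 u huQ h4
    exact (hmk1 u huH).mpr (hRN h5)
  obtain ⟨hcore, hno⟩ := lemA p q hq hqp V hVp hVab hV1 c hcq hgen hfix
  exact hno (hS H (N.subgroupOf H) hcore)

/-- Let G be a finite group and p a prime. Then G has a normal p-complement if and only if every section K = H/N of G (N a normal subgroup of a subgroup H) whose largest normal subgroup of order prime to p is trivial contains an element whose order equals the exponent of K. -/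
theorem result {G : Type*} [Group G] [Finite G] (p : ℕ) [Fact p.Prime] :
    Cfsg.HasNormalPComplement p G ↔
      ∀ (H : Subgroup G) (N : Subgroup H) [N.Normal], Cfsg.pPrimeCore p (H ⧸ N) = ⊥ →
        ∃ k : H ⧸ N, orderOf k = Monoid.exponent (H ⧸ N) := by
  constructor
  · intro h H N _ hK
    exact forward p h H N hK
  · intro hS
    exact backward p hS

end Cfsg.Agent.S4238
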