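-- Statement S4242: maximal subgroups of order divisible by p are nilpotent
import Cfsg.Statements.S4242
import Mathlib
import Cfsg.Agent.Helper1.Frobenius
import Cfsg.Agent.Helper8.Nilp
import Cfsg.Agent.Helper8.Nilp2
import Cfsg.Agent.Helper8.Schmidt2
import Cfsg.Agent.S4072

set_option autoImplicit false
open Cfsg

namespace Cfsg.Agent.S4242

theorem index_dvd_card_of_sup {G : Type*} [Group G] [Finite G] (N M : Subgroup G) [M.Normal]
    (h : N ⊔ M = ⊤) : N.index ∣ Nat.card M := by
  have hsurj : Function.Surjective ((QuotientGroup.mk' M).comp N.subtype) := by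
    intro y
    obtain ⟨g, rfl⟩ := QuotientGroup.mk'_surjective M y
    have hg : g ∈ N ⊔ M := by rw [h]; exact Subgroup.mem_top g
    obtain ⟨n, hn, m, hm, rfl⟩ := Subgroup.mem_sup_of_normal_right.mp hg
    refine ⟨⟨n, hn⟩, ?_⟩
    show (n : G ⧸ M) = ((n * m : G) : G ⧸ M)
    rw [QuotientGroup.mk_mul, (QuotientGroup.eq_one_iff m).mpr hm, mul_one]
  have h1 : M.index ∣ Nat.card N := by
    rw [Subgroup.index_eq_card]
    exact Subgroup.card_dvd_of_surjective _ hsurj
  obtain ⟨t, ht⟩ := h1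
  have h2 : Nat.card N * N.index = Nat.card G := N.card_mul_index
  have h3 : Nat.card M * M.index = Nat.card G := M.card_mul_index
  have hpos : 0 < M.index := Nat.pos_of_ne_zero Subgroup.index_ne_zero_of_finite
  refine ⟨t, ?_⟩
  have h4 : M.index * Nat.card M = M.index * (N.index * t) := by
    rw [mul_comm, h3, ← h2, ht]; ring
  exact Nat.eq_of_mul_eq_mul_left hpos h4

theorem case3 {G : Type*} [Group G] [Finite G] (p : ℕ) (hp : p.Prime)
    (Z K : Subgroup G) (hZn : Z.Normal) (hKn : K.Normal) (hZK : Z ⊓ K = ⊥) (hZKt : Z ⊔ K = ⊤)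
    (hZc : Nat.card Z = p) (hK : Cfsg.IsMinimalNonNilpotent K) (hpK : ¬ p ∣ Nat.card K)
    (M : Subgroup G) (hM : IsCoatom M) (hpM : p ∣ Nat.card M) : Group.IsNilpotent M := by
  haveI : Fact p.Prime := ⟨hp⟩
  have hcomm : ∀ z ∈ Z, ∀ k ∈ K, Commute z k :=
    fun z hz k hk =>
      Subgroup.commute_of_normal_of_disjoint Z K hZn hKn (disjoint_iff.mpr hZK) z k hz hk
  have hdec : ∀ g : G, ∃ z ∈ Z, ∃ k ∈ K, z * k = g := by
    intro g
    haveI := hKn
    have hg : g ∈ Z ⊔ K := by rw [hZKt]; exact Subgroup.mem_top g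
    exact Subgroup.mem_sup_of_normal_right.mp hg
  have hZM : Z ≤ M := by
    obtain ⟨y', hy'⟩ := exists_prime_orderOf_dvd_card' (G := ↥M) p hpM
    have hy : orderOf (y' : G) = p := by rw [Subgroup.orderOf_coe]; exact hy'
    obtain ⟨z, hz, k, hk, hzk⟩ := hdec (y' : G)
    have hzp : z ^ p = 1 := by
      have h4 := orderOf_dvd_natCard (⟨z, hz⟩ : Z)
      rw [Subgroup.orderOf_mk, hZc] at h4
      exact orderOf_dvd_iff_pow_eq_one.mp h4
    have hkp : k ^ p = 1 := by
      have h1 : (z * k) ^ p = 1 := by rw [hzk, ← hy]; exact pow_orderOf_eq_one _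
      rw [(hcomm z hz k hk).mul_pow, hzp, one_mul] at h1
      exact h1
    have hk1 : k = 1 := by
      have h4 := orderOf_dvd_natCard (⟨k, hk⟩ : K)
      rw [Subgroup.orderOf_mk] at h4
      exact Cfsg.Agent.S4072.eq_one_of_pow_coprime k p (Nat.card K) hkp
        (orderOf_dvd_iff_pow_eq_one.mp h4) ((Nat.Prime.coprime_iff_not_dvd hp).mpr hpK)
    rw [hk1, mul_one] at hzk
    have hyZ : (y' : G) ∈ Z := by rw [← hzk]; exact hz
    have heq : Subgroup.zpowers (y' : G) = Z := by
      apply Subgroup.eq_of_le_of_card_ge (Subgroup.zpowers_le.mpr hyZ)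
      rw [Nat.card_zpowers, hy, hZc]
    rw [← heq]
    exact Subgroup.zpowers_le.mpr y'.2
  obtain ⟨D, hD⟩ : ∃ D : Subgroup G, D = M ⊓ K := ⟨_, rfl⟩
  have hDK : D ≤ K := by rw [hD]; exact inf_le_right
  have hDne : D.subgroupOf K ≠ ⊤ := by
    intro h
    rw [Subgroup.subgroupOf_eq_top] at h
    have hKM : K ≤ M := h.trans (by rw [hD]; exact inf_le_left)
    exact hM.1 (top_le_iff.mp (by rw [← hZKt]; exact sup_le hZM hKM))
  haveI hDnil : Group.IsNilpotent D :=
    (Group.isNilpotent_congr (Subgroup.subgroupOfEquivOfLe hDK)).mp (hK.2 _ hDne)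
  haveI hZnil : Group.IsNilpotent Z :=
    (IsPGroup.of_card (n := 1) (by rw [hZc, pow_one])).isNilpotent
  obtain ⟨f, hf⟩ : ∃ f : ↥Z × ↥D →* G, f = MonoidHom.noncommCoprod Z.subtype D.subtype
      (fun a b => (show Commute (Z.subtype a) (D.subtype b) from hcomm a a.2 b (hDK b.2))) :=
    ⟨_, rfl⟩
  have hrange : f.range = Z ⊔ D := by
    rw [hf, MonoidHom.noncommCoprod_range, Subgroup.range_subtype, Subgroup.range_subtype]
  have hfnil : Group.IsNilpotent f.range :=
    Group.nilpotent_of_surjective f.rangeRestrict f.rangeRestrict_surjective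
  apply Cfsg.Agent.Helper8.isNilpotent_of_le hfnil
  rw [hrange]
  intro m hm
  obtain ⟨z, hz, k, hk, hzk⟩ := hdec m
  have hkM : k ∈ M := by
    have e : k = z⁻¹ * m := by rw [← hzk]; group
    rw [e]; exact M.mul_mem (M.inv_mem (hZM hz)) hm
  rw [← hzk]
  exact Subgroup.mul_mem _ ((le_sup_left : Z ≤ Z ⊔ D) hz)
    ((le_sup_right : D ≤ Z ⊔ D) (by rw [hD]; exact Subgroup.mem_inf.mpr ⟨hkM, hk⟩))

theorem forward {G : Type*} [Group G] [Finite G] (p : ℕ) (hp : p.Prime) (hpG : p ∣ Nat.card G)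
    (hMax : ∀ M : Subgroup G, IsCoatom M → p ∣ Nat.card M → Group.IsNilpotent M)
    (hnil : ¬ Group.IsNilpotent G) (hmin : ¬ Cfsg.IsMinimalNonNilpotent G) :
    ∃ Z K : Subgroup G, Z.Normal ∧ K.Normal ∧ Z ⊓ K = ⊥ ∧ Z ⊔ K = ⊤ ∧ Nat.card Z = p ∧
          Cfsg.IsMinimalNonNilpotent K ∧ ¬ p ∣ Nat.card K := by
  haveI : Fact p.Prime := ⟨hp⟩
  have hprop : ∀ L : Subgroup G, L ≠ ⊤ → p ∣ Nat.card L → Group.IsNilpotent L := by
    intro L hL hpL
    rcases eq_top_or_exists_le_coatom L with h | ⟨M', hM', hLM'⟩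
    · exact absurd h hL
    · exact Cfsg.Agent.Helper8.isNilpotent_of_le
        (hMax M' hM' (hpL.trans (Subgroup.card_dvd_of_le hLM'))) hLM'
  obtain ⟨M, hMco, hMnn⟩ : ∃ M : Subgroup G, IsCoatom M ∧ ¬ Group.IsNilpotent M := by
    by_contra hcon
    push Not at hcon
    apply hmin
    refine ⟨hnil, ?_⟩
    intro H hH
    rcases eq_top_or_exists_le_coatom H with h | ⟨M', hM', hHM'⟩
    · exact absurd h hH
    · exact Cfsg.Agent.Helper8.isNilpotent_of_le (hcon M' hM') hHM'
  have hpM : ¬ p ∣ Nat.card M := fun h => hMnn (hMax M hMco h)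
  have hMcop : ∀ m ∈ M, (orderOf m).Coprime p := by
    intro m hm
    have h4 := orderOf_dvd_natCard (⟨m, hm⟩ : M)
    rw [Subgroup.orderOf_mk] at h4
    exact Nat.Coprime.coprime_dvd_left h4 ((Nat.Prime.coprime_iff_not_dvd hp).mpr hpM).symm
  have hMp : ∀ m ∈ M, ∀ k : ℕ, m ^ (p ^ k) = 1 → m = 1 := by
    intro m hm k hk
    exact Cfsg.Agent.S4072.eq_one_of_pow_coprime m (orderOf m) (p ^ k) (pow_orderOf_eq_one m) hk
      ((hMcop m hm).pow_right k)
  obtain ⟨x, hx⟩ := exists_prime_orderOf_dvd_card' p hpG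
  have hxp : x ^ p = 1 := by rw [← hx]; exact pow_orderOf_eq_one x
  have hxM : x ∉ M := by
    intro h
    have h1 := hMp x h 1 (by rw [pow_one]; exact hxp)
    rw [h1, orderOf_one] at hx
    exact hp.one_lt.ne hx
  have hMZ : M ⊔ Subgroup.zpowers x = ⊤ := by
    apply hMco.2
    apply lt_of_le_of_ne le_sup_left
    intro h
    apply hxM
    rw [h]
    exact (le_sup_right : Subgroup.zpowers x ≤ M ⊔ Subgroup.zpowers x) (Subgroup.mem_zpowers x)
  -- M centralizes every normal p-subgroup
  have hN : ∀ Q : Subgroup G, Q.Normal → IsPGroup p Q → ∀ u ∈ Q, ∀ m ∈ M, u * m = m * u := by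
    intro Q hQn hQp u hu m hm
    by_cases hQb : Q = ⊥
    · rw [hQb, Subgroup.mem_bot] at hu
      rw [hu]; simp
    have hT : Q ⊔ Subgroup.zpowers m ≠ ⊤ := by
      intro hT
      apply hMnn
      apply Cfsg.Agent.Helper8.isNilpotent_of_comm
      refine fun a b => Cfsg.Agent.Helper8.comm_of_zpowers_eq_top (x := (⟨m, hm⟩ : M)) ?_ a b
      rw [eq_top_iff]
      rintro ⟨y, hy⟩ -
      have hy' : y ∈ Q ⊔ Subgroup.zpowers m := by rw [hT]; exact Subgroup.mem_top y
      haveI := hQn
      obtain ⟨u', hu', z, hz, huz⟩ := Subgroup.mem_sup_of_normal_left.mp hy'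
      have hzM : z ∈ M := (Subgroup.zpowers_le.mpr hm) hz
      have hu'M : u' ∈ M := by
        have e : u' = y * z⁻¹ := by rw [← huz]; group
        rw [e]; exact M.mul_mem hy (M.inv_mem hzM)
      obtain ⟨k, hk⟩ := Cfsg.Agent.Helper8.pelem_of_mem hQp hu'
      have hu1 : u' = 1 := hMp u' hu'M k hk
      rw [hu1, one_mul] at huz
      obtain ⟨j, hj⟩ := Subgroup.mem_zpowers_iff.mp hz
      rw [Subgroup.mem_zpowers_iff]
      refine ⟨j, Subtype.ext ?_⟩
      show (((⟨m, hm⟩ : M) ^ j : M) : G) = y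
      rw [Subgroup.coe_zpow]
      show m ^ j = y
      rw [hj, huz]
    have hpT : p ∣ Nat.card (Q ⊔ Subgroup.zpowers m : Subgroup G) := by
      have h1 : p ∣ Nat.card Q := by
        rcases hQp.card_eq_or_dvd with h | h
        · exact absurd (Subgroup.eq_bot_of_card_eq Q h) hQb
        · exact h
      exact h1.trans (Subgroup.card_dvd_of_le le_sup_left)
    have hTnil := hprop _ hT hpT
    obtain ⟨k, hk⟩ := Cfsg.Agent.Helper8.pelem_of_mem hQp hu
    have hcop : (orderOf u).Coprime (orderOf m) := by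
      obtain ⟨a, -, ha⟩ := (Nat.dvd_prime_pow hp).mp (orderOf_dvd_of_pow_eq_one hk)
      rw [ha]
      exact ((hMcop m hm).symm).pow_left a
    exact Cfsg.Agent.Helper8.comm_of_coprime_sub _ hTnil
      ((le_sup_left : Q ≤ Q ⊔ Subgroup.zpowers m) hu)
      ((le_sup_right : Subgroup.zpowers m ≤ Q ⊔ Subgroup.zpowers m) (Subgroup.mem_zpowers m))
      hcop
  -- final construction once x centralizes M
  have hfinal : (∀ m ∈ M, x * m = m * x) →
      ∃ Z K : Subgroup G, Z.Normal ∧ K.Normal ∧ Z ⊓ K = ⊥ ∧ Z ⊔ K = ⊤ ∧ Nat.card Z = p ∧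
          Cfsg.IsMinimalNonNilpotent K ∧ ¬ p ∣ Nat.card K := by
    intro hxc
    have hzc : ∀ z ∈ Subgroup.zpowers x, ∀ m ∈ M, z * m = m * z := by
      intro z hz m hm
      obtain ⟨j, rfl⟩ := Subgroup.mem_zpowers_iff.mp hz
      exact ((show Commute x m from hxc m hm).zpow_left j).eq
    have hZn : (Subgroup.zpowers x).Normal := by
      rw [← Subgroup.normalizer_eq_top_iff, eq_top_iff, ← hMZ]
      refine sup_le ?_ Subgroup.le_normalizer
      intro m hm
      apply Cfsg.Agent.Helper5.mem_normalizer_of_conj_mem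
      intro z hz
      have h1 := hzc z hz m hm
      have e : m * z * m⁻¹ = z := by rw [← h1]; group
      rw [e]; exact hz
    have hMn : M.Normal := by
      rw [← Subgroup.normalizer_eq_top_iff, eq_top_iff, ← hMZ]
      refine sup_le Subgroup.le_normalizer (Subgroup.zpowers_le.mpr ?_)
      apply Cfsg.Agent.Helper5.mem_normalizer_of_conj_mem
      intro m hm
      have e : x * m * x⁻¹ = m := by rw [hxc m hm]; group
      rw [e]; exact hm
    have hZM : Subgroup.zpowers x ⊓ M = ⊥ := by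
      rw [eq_bot_iff]
      intro y hy
      obtain ⟨hy1, hy2⟩ := Subgroup.mem_inf.mp hy
      rw [Subgroup.mem_bot]
      apply hMp y hy2 1
      rw [pow_one]
      have h1 : orderOf y ∣ p := by rw [← hx]; exact orderOf_dvd_of_mem_zpowers hy1
      exact orderOf_dvd_iff_pow_eq_one.mp h1
    have hKmin : Cfsg.IsMinimalNonNilpotent ↥M := by
      unfold Cfsg.IsMinimalNonNilpotent
      refine ⟨hMnn, ?_⟩
      intro L' hL'
      obtain ⟨L, hL⟩ : ∃ L : Subgroup G, L = L'.map M.subtype := ⟨_, rfl⟩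
      have hLM : L ≤ M := by
        rw [hL]; rintro _ ⟨y, _, rfl⟩; exact y.2
      have hT : L ⊔ Subgroup.zpowers x ≠ ⊤ := by
        intro hT
        apply hL'
        rw [eq_top_iff]
        rintro ⟨m, hm⟩ -
        have hm' : m ∈ L ⊔ Subgroup.zpowers x := by rw [hT]; exact Subgroup.mem_top m
        haveI := hZn
        obtain ⟨l, hl, z, hz, hlz⟩ := Subgroup.mem_sup_of_normal_right.mp hm'
        have hzM : z ∈ M := by
          have e : z = l⁻¹ * m := by rw [← hlz]; group
          rw [e]; exact M.mul_mem (M.inv_mem (hLM hl)) hm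
        have hz1 : z = 1 := by
          have h1 : z ∈ Subgroup.zpowers x ⊓ M := Subgroup.mem_inf.mpr ⟨hz, hzM⟩
          rw [hZM, Subgroup.mem_bot] at h1
          exact h1
        rw [hz1, mul_one] at hlz
        rw [hL] at hl
        obtain ⟨l', hl', hl'eq⟩ := hl
        have e : (⟨m, hm⟩ : M) = l' := by
          apply Subtype.ext
          show m = (l' : G)
          rw [← hlz, ← hl'eq]; rfl
        rw [e]; exact hl'
      have hpT : p ∣ Nat.card (L ⊔ Subgroup.zpowers x : Subgroup G) := by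
        have h4 := orderOf_dvd_natCard
          (⟨x, (le_sup_right : Subgroup.zpowers x ≤ L ⊔ Subgroup.zpowers x)
            (Subgroup.mem_zpowers x)⟩ : (L ⊔ Subgroup.zpowers x : Subgroup G))
        rw [Subgroup.orderOf_mk, hx] at h4
        exact h4
      have hTnil := hprop _ hT hpT
      have hLnil : Group.IsNilpotent L := Cfsg.Agent.Helper8.isNilpotent_of_le hTnil le_sup_left
      rw [hL] at hLnil
      exact Cfsg.Agent.Helper8.isNilpotent_of_map_injective M.subtype_injective L' hLnil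
    exact ⟨Subgroup.zpowers x, M, hZn, hMn, hZM, by rw [sup_comm]; exact hMZ,
      by rw [Nat.card_zpowers, hx], hKmin, hpM⟩
  apply hfinal
  by_cases hA : ∃ Q : Subgroup G, Q ≠ ⊥ ∧ Q.Normal ∧ IsPGroup p Q
  · obtain ⟨Q, hQb, hQn, hQp⟩ := hA
    have hQM := hN Q hQn hQp
    have hQMt : Q ⊔ M = ⊤ := by
      rw [sup_comm]
      apply hMco.2
      apply lt_of_le_of_ne le_sup_left
      intro h
      apply hQb
      rw [eq_bot_iff]
      intro u hu
      have huM : u ∈ M := by rw [h]; exact (le_sup_right : Q ≤ M ⊔ Q) hu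
      obtain ⟨k, hk⟩ := Cfsg.Agent.Helper8.pelem_of_mem hQp hu
      rw [Subgroup.mem_bot]
      exact hMp u huM k hk
    have hx' : x ∈ Q ⊔ M := by rw [hQMt]; exact Subgroup.mem_top x
    haveI := hQn
    obtain ⟨u, hu, m₀, hm₀, hum⟩ := Subgroup.mem_sup_of_normal_left.mp hx'
    have hcomm : Commute u m₀ := hQM u hu m₀ hm₀
    have h1 : u ^ p * m₀ ^ p = 1 := by rw [← hcomm.mul_pow, hum]; exact hxp
    have hm₀p : m₀ ^ p = (u ^ p)⁻¹ := eq_inv_of_mul_eq_one_right h1
    have hm₀Q : m₀ ^ p ∈ Q := by rw [hm₀p]; exact Q.inv_mem (Q.pow_mem hu p)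
    obtain ⟨k, hk⟩ := Cfsg.Agent.Helper8.pelem_of_mem hQp hm₀Q
    have h2 : m₀ ^ p = 1 := hMp _ (M.pow_mem hm₀ p) k hk
    have h3 : m₀ = 1 := hMp m₀ hm₀ 1 (by rw [pow_one]; exact h2)
    rw [h3, mul_one] at hum
    intro m hm
    rw [← hum]
    exact hQM u hu m hm
  · push Not at hA
    have hLoc : Cfsg.Agent.Helper1.LocalP p G := by
      intro Q hQp g hg hgo
      by_cases hQb : Q = ⊥
      · rw [hQb, Subgroup.mem_centralizer_iff]
        intro u hu
        have hu' : u ∈ (⊥ : Subgroup G) := hu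
        rw [Subgroup.mem_bot.mp hu']; simp
      have hLne : Subgroup.normalizer (Q : Set G) ≠ ⊤ := by
        intro h
        exact hA Q hQb (Subgroup.normalizer_eq_top_iff.mp h) hQp
      have hpL : p ∣ Nat.card (Subgroup.normalizer (Q : Set G)) := by
        have h1 : p ∣ Nat.card Q := by
          rcases hQp.card_eq_or_dvd with h | h
          · exact absurd (Subgroup.eq_bot_of_card_eq Q h) hQb
          · exact h
        exact h1.trans (Subgroup.card_dvd_of_le Subgroup.le_normalizer)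
      have hLnil := hprop _ hLne hpL
      rw [Subgroup.mem_centralizer_iff]
      intro u hu
      obtain ⟨k, hk⟩ := Cfsg.Agent.Helper8.pelem_of_mem hQp hu
      have hcop : (orderOf u).Coprime (orderOf g) := by
        obtain ⟨a, -, ha⟩ := (Nat.dvd_prime_pow hp).mp (orderOf_dvd_of_pow_eq_one hk)
        rw [ha]
        exact (hgo.symm).pow_left a
      exact Cfsg.Agent.Helper8.comm_of_coprime_sub _ hLnil (Subgroup.le_normalizer hu) hg hcop
    obtain ⟨K₀, k, hK₀n, hK₀cop, hK₀idx⟩ :=
      Cfsg.Agent.Helper16.npc_exists (Cfsg.Agent.Helper1.npc_of_local hLoc)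
    haveI := hK₀n
    have hMK : M ≤ K₀ := fun m hm =>
      Cfsg.Agent.Helper16.mem_of_index_pow_of_coprime K₀ k hK₀idx m (hMcop m hm)
    have hK₀ne : K₀ ≠ ⊤ := by
      intro h
      rw [h, Subgroup.card_top] at hK₀cop
      exact (Nat.Prime.coprime_iff_not_dvd hp).mp hK₀cop.symm hpG
    have hMeq : M = K₀ := by
      by_contra hne
      exact hK₀ne (hMco.2 K₀ (lt_of_le_of_ne hMK hne))
    have hMn : M.Normal := by rw [hMeq]; exact hK₀n
    haveI := hMn
    have hpelemM : ∀ y : G, (orderOf y).Coprime p → y ∈ M := by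
      intro y hy
      rw [hMeq]
      exact Cfsg.Agent.Helper16.mem_of_index_pow_of_coprime K₀ k hK₀idx y hy
    have hcent : M ≤ Subgroup.centralizer ({x} : Set G) := by
      apply Cfsg.Agent.Helper8.le_of_sylow_le
      intro q hqF
      have hq : q.Prime := hqF.out
      by_cases hqp : q = p
      · obtain ⟨Q⟩ : Nonempty (Sylow q ↥M) := inferInstance
        refine ⟨Q, ?_⟩
        rintro _ ⟨y, hy, rfl⟩
        obtain ⟨j, hj⟩ := Cfsg.Agent.Helper8.pelem_of_mem Q.2 hy
        have hj' : (y : G) ^ (p ^ j) = 1 := by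
          rw [← hqp, ← Subgroup.coe_pow, hj, Subgroup.coe_one]
        have hy1 : (y : G) = 1 := hMp _ y.2 j hj'
        show (y : G) ∈ Subgroup.centralizer ({x} : Set G)
        rw [hy1]; exact Subgroup.one_mem _
      · have hSylM : ∀ Q : Sylow q G, (Q : Subgroup G) ≤ M := by
          intro Q u hu
          apply hpelemM
          obtain ⟨j, hj⟩ := Cfsg.Agent.Helper8.pelem_of_mem Q.2 hu
          obtain ⟨a, -, ha⟩ := (Nat.dvd_prime_pow hq).mp (orderOf_dvd_of_pow_eq_one hj)
          rw [ha]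
          exact ((Nat.coprime_primes hq hp).mpr hqp).pow_left a
        obtain ⟨Q₀⟩ : Nonempty (Sylow q G) := inferInstance
        obtain ⟨Nq, hNq⟩ : ∃ Nq : Subgroup G,
            Nq = Subgroup.normalizer ((Q₀ : Subgroup G) : Set G) := ⟨_, rfl⟩
        have hF : Nq ⊔ M = ⊤ := by
          rw [hNq]; exact Sylow.normalizer_sup_eq_top' Q₀ (hSylM Q₀)
        have hcardS : Nat.card (Sylow q G) = Nq.index := by
          rw [hNq]; exact Sylow.card_eq_index_normalizer Q₀
        have hnd : ¬ p ∣ Nat.card (Sylow q G) := by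
          rw [hcardS]
          intro h
          exact hpM (h.trans (index_dvd_card_of_sup Nq M hF))
        have hZp : IsPGroup p (Subgroup.zpowers x) :=
          IsPGroup.of_card (n := 1) (by rw [Nat.card_zpowers, hx, pow_one])
        obtain ⟨Q₁, hQ₁⟩ := hZp.nonempty_fixed_point_of_prime_not_dvd_card (Sylow q G) hnd
        have hxN : Subgroup.zpowers x ≤ Subgroup.normalizer ((Q₁ : Subgroup G) : Set G) :=
          (Subgroup.sylow_mem_fixedPoints_iff (Subgroup.zpowers x)).mp hQ₁
        have hQ₁M := hSylM Q₁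
        have hT : (Q₁ : Subgroup G) ⊔ Subgroup.zpowers x ≠ ⊤ := by
          intro hT
          apply hMnn
          have hMQ : M ≤ (Q₁ : Subgroup G) := by
            intro m hm
            have hm' : m ∈ (((Q₁ : Subgroup G) ⊔ Subgroup.zpowers x : Subgroup G) : Set G) := by
              rw [hT]; exact Subgroup.mem_top m
            rw [Subgroup.coe_mul_of_right_le_normalizer_left (Q₁ : Subgroup G)
              (Subgroup.zpowers x) hxN] at hm'
            obtain ⟨u, hu, z, hz, huz⟩ := Set.mem_mul.mp hm'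
            have hu' : u ∈ (Q₁ : Subgroup G) := hu
            have hz' : z ∈ Subgroup.zpowers x := hz
            have hzM : z ∈ M := by
              have e : z = u⁻¹ * m := by rw [← huz]; group
              rw [e]; exact M.mul_mem (M.inv_mem (hQ₁M hu')) hm
            have hz1 : z = 1 := by
              apply hMp z hzM 1
              rw [pow_one]
              have h1 : orderOf z ∣ p := by rw [← hx]; exact orderOf_dvd_of_mem_zpowers hz'
              exact orderOf_dvd_iff_pow_eq_one.mp h1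
            rw [hz1, mul_one] at huz
            rw [← huz]; exact hu'
          exact (Q₁.2.to_le hMQ).isNilpotent
        have hpT : p ∣ Nat.card ((Q₁ : Subgroup G) ⊔ Subgroup.zpowers x : Subgroup G) := by
          have h4 := orderOf_dvd_natCard
            (⟨x, (le_sup_right : Subgroup.zpowers x ≤ (Q₁ : Subgroup G) ⊔ Subgroup.zpowers x)
              (Subgroup.mem_zpowers x)⟩ : ((Q₁ : Subgroup G) ⊔ Subgroup.zpowers x : Subgroup G))
          rw [Subgroup.orderOf_mk, hx] at h4
          exact h4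
        have hTnil := hprop _ hT hpT
        refine ⟨Q₁.subtype hQ₁M, ?_⟩
        rw [Sylow.coe_subtype, Subgroup.subgroupOf_map_subtype]
        intro u hu
        have huQ : u ∈ (Q₁ : Subgroup G) := (Subgroup.mem_inf.mp hu).1
        obtain ⟨j, hj⟩ := Cfsg.Agent.Helper8.pelem_of_mem Q₁.2 huQ
        have hcop : (orderOf x).Coprime (orderOf u) := by
          obtain ⟨a, -, ha⟩ := (Nat.dvd_prime_pow hq).mp (orderOf_dvd_of_pow_eq_one hj)
          rw [ha, hx]
          exact ((Nat.coprime_primes hp hq).mpr (Ne.symm hqp)).pow_right a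
        rw [Cfsg.Agent.Helper8.mem_cent]
        exact Cfsg.Agent.Helper8.comm_of_coprime_sub _ hTnil
          ((le_sup_right : Subgroup.zpowers x ≤ (Q₁ : Subgroup G) ⊔ Subgroup.zpowers x)
            (Subgroup.mem_zpowers x))
          ((le_sup_left : (Q₁ : Subgroup G) ≤ (Q₁ : Subgroup G) ⊔ Subgroup.zpowers x) huQ) hcop
    intro m hm
    exact Cfsg.Agent.Helper8.mem_cent.mp (hcent hm)

/-- Let G be a finite group and p a prime dividing its order. Every maximal subgroup of G of order divisible by p is nilpotent if and only if G is nilpotent, or G is a minimal non-nilpotent group, or G is the internal direct product of a normal subgroup of order p and a normal minimal non-nilpotent subgroup of order prime to p. -/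
theorem result {G : Type*} [Group G] [Finite G] (p : ℕ) (hp : p.Prime) (hpG : p ∣ Nat.card G) :
    (∀ M : Subgroup G, IsCoatom M → p ∣ Nat.card M → Group.IsNilpotent M) ↔
      (Group.IsNilpotent G ∨ Cfsg.IsMinimalNonNilpotent G ∨
        ∃ Z K : Subgroup G, Z.Normal ∧ K.Normal ∧ Z ⊓ K = ⊥ ∧ Z ⊔ K = ⊤ ∧ Nat.card Z = p ∧
          Cfsg.IsMinimalNonNilpotent K ∧ ¬ p ∣ Nat.card K) := by
  constructor
  · intro hMax
    by_cases hnil : Group.IsNilpotent G
    · exact Or.inl hnil
    by_cases hmin : Cfsg.IsMinimalNonNilpotent G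
    · exact Or.inr (Or.inl hmin)
    · exact Or.inr (Or.inr (forward p hp hpG hMax hnil hmin))
  · rintro (hnil | hmin | ⟨Z, K, hZn, hKn, hZK, hZKt, hZc, hK, hpK⟩)
    · intro M _ _
      haveI := hnil
      infer_instance
    · intro M hM _
      exact hmin.2 M hM.1
    · intro M hM hpM
      exact case3 p hp Z K hZn hKn hZK hZKt hZc hK hpK M hM hpM

end Cfsg.Agent.S4242
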