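import Cfsg.Statements.S4245
import Mathlib
import Cfsg.Agent.S4034
-- import your own Cfsg.Agent.* helpers here

set_option autoImplicit false
open Cfsg

namespace Cfsg.Agent.S4245

universe u

theorem relIndex_dvd_index_of_normal_right {G : Type*} [Group G] [Finite G] (A N : Subgroup G)
    [N.Normal] : A.relIndex N ∣ A.index := by
  have h1 : Nat.card ↥(A ⊓ N) * A.relIndex N = Nat.card N := by
    have := Subgroup.relIndex_mul_relIndex ⊥ (A ⊓ N) N bot_le inf_le_right
    rwa [Subgroup.relIndex_bot_left, Subgroup.relIndex_bot_left, Subgroup.inf_relIndex_right] at this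
  have h2 : Nat.card ↥(A ⊓ N) * N.relIndex A = Nat.card A := by
    have := Subgroup.relIndex_mul_relIndex ⊥ (A ⊓ N) A bot_le inf_le_left
    rwa [Subgroup.relIndex_bot_left, Subgroup.relIndex_bot_left, Subgroup.inf_relIndex_left] at this
  have h3 : Nat.card N * N.relIndex (A ⊔ N) = Nat.card ↥(A ⊔ N) := by
    have := Subgroup.relIndex_mul_relIndex ⊥ N (A ⊔ N) bot_le le_sup_right
    rwa [Subgroup.relIndex_bot_left, Subgroup.relIndex_bot_left] at this
  have h4 : Nat.card A * A.relIndex (A ⊔ N) = Nat.card ↥(A ⊔ N) := by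
    have := Subgroup.relIndex_mul_relIndex ⊥ A (A ⊔ N) bot_le le_sup_left
    rwa [Subgroup.relIndex_bot_left, Subgroup.relIndex_bot_left] at this
  rw [Subgroup.relIndex_sup_right] at h3
  have h5 : A.relIndex (A ⊔ N) = A.relIndex N := by
    have hpos : 0 < Nat.card A := Nat.card_pos
    have : Nat.card A * A.relIndex (A ⊔ N) = Nat.card A * A.relIndex N := by
      calc Nat.card A * A.relIndex (A ⊔ N) = Nat.card ↥(A ⊔ N) := h4
        _ = Nat.card N * N.relIndex A := h3.symm
        _ = (Nat.card ↥(A ⊓ N) * A.relIndex N) * N.relIndex A := by rw [h1]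
        _ = (Nat.card ↥(A ⊓ N) * N.relIndex A) * A.relIndex N := by ring
        _ = Nat.card A * A.relIndex N := by rw [h2]
    exact Nat.eq_of_mul_eq_mul_left hpos this
  rw [← h5]
  exact Subgroup.relIndex_dvd_index_of_le le_sup_left

/-- the hypothesis of the statement, as a property of a group -/
def Q (G : Type u) [Group G] : Prop :=
  ∃ (A : Subgroup G) (p s : ℕ) (B : Subgroup A) (_ : B.Normal) (r : ℕ), p.Prime ∧ A.index = p ^ s ∧
    IsCyclic B ∧ IsCyclic (A ⧸ B) ∧ Nat.card (A ⧸ B) = 2 ^ r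

theorem Q_sub (G : Type u) [Group G] [Finite G] (N : Subgroup G) [N.Normal] (h : Q G) : Q N := by
  obtain ⟨A, p, s, B, hBn, r, hp, hA, hB, hAB, hr⟩ := h
  let ι : A.subgroupOf N →* A :=
    ((N.subtype).comp (A.subgroupOf N).subtype).codRestrict A
      (fun x => Subgroup.mem_subgroupOf.mp x.2)
  have hι : Function.Injective ι := by
    intro x y hxy
    have : (ι x : G) = (ι y : G) := congrArg Subtype.val hxy
    exact Subtype.ext (Subtype.ext this)
  let φ : A.subgroupOf N →* A ⧸ B := (QuotientGroup.mk' B).comp ι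
  have hidx : (A.subgroupOf N).index ∣ p ^ s := by
    rw [← hA]; exact relIndex_dvd_index_of_normal_right A N
  obtain ⟨s', -, hs'⟩ := (Nat.dvd_prime_pow hp).1 hidx
  have hcard : Nat.card ((A.subgroupOf N) ⧸ φ.ker) ∣ 2 ^ r := by
    rw [← hr]
    exact Subgroup.card_dvd_of_injective (QuotientGroup.kerLift φ)
      (QuotientGroup.kerLift_injective φ)
  obtain ⟨r', -, hr'⟩ := (Nat.dvd_prime_pow Nat.prime_two).1 hcard
  have hB' : IsCyclic B := hB
  have hAB' : IsCyclic (A ⧸ B) := hAB
  refine ⟨A.subgroupOf N, p, s', φ.ker, inferInstance, r', hp, hs', ?_, ?_, hr'⟩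
  · let ψ : φ.ker →* B := (ι.comp φ.ker.subtype).codRestrict B (fun x => by
      have hx := x.2
      rw [MonoidHom.mem_ker] at hx
      exact (QuotientGroup.eq_one_iff _).mp hx)
    have hψ : Function.Injective ψ := by
      intro x y hxy
      have : ι x.1 = ι y.1 := congrArg Subtype.val hxy
      exact Subtype.ext (hι this)
    exact isCyclic_of_injective ψ hψ
  · exact isCyclic_of_injective (QuotientGroup.kerLift φ) (QuotientGroup.kerLift_injective φ)

theorem Q_quot (G : Type u) [Group G] [Finite G] (N : Subgroup G) [N.Normal] (h : Q G) :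
    Q (G ⧸ N) := by
  obtain ⟨A, p, s, B, hBn, r, hp, hA, hB, hAB, hr⟩ := h
  let π := QuotientGroup.mk' N
  have hπ : Function.Surjective π := QuotientGroup.mk'_surjective N
  let ρ : A →* A.map π := π.subgroupMap A
  have hρ : Function.Surjective ρ := π.subgroupMap_surjective A
  have hBn' : (B.map ρ).Normal := hBn.map ρ hρ
  have hidx : (A.map π).index ∣ p ^ s := by rw [← hA]; exact A.index_map_dvd hπ
  obtain ⟨s', -, hs'⟩ := (Nat.dvd_prime_pow hp).1 hidx
  let σ : A ⧸ B →* (A.map π) ⧸ (B.map ρ) :=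
    QuotientGroup.map B (B.map ρ) ρ (Subgroup.le_comap_map ρ B)
  have hσ : Function.Surjective σ := by
    intro y
    obtain ⟨y', rfl⟩ := QuotientGroup.mk_surjective y
    obtain ⟨a, rfl⟩ := hρ y'
    exact ⟨(a : A ⧸ B), rfl⟩
  have hcard : Nat.card ((A.map π) ⧸ (B.map ρ)) ∣ 2 ^ r := by
    rw [← hr]; exact Subgroup.card_dvd_of_surjective σ hσ
  obtain ⟨r', -, hr'⟩ := (Nat.dvd_prime_pow Nat.prime_two).1 hcard
  have hB' : IsCyclic B := hB
  have hAB' : IsCyclic (A ⧸ B) := hAB
  refine ⟨A.map π, p, s', B.map ρ, hBn', r', hp, hs', ?_, ?_, hr'⟩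
  · exact isCyclic_of_surjective (ρ.subgroupMap B) (ρ.subgroupMap_surjective B)
  · exact isCyclic_of_surjective σ hσ

theorem L1 {G : Type u} [Group G] [Finite G] [IsSimpleGroup G] (x : G) (hx : x ≠ 1)
    (H : Subgroup G) (hH : H ≤ Subgroup.centralizer {x}) (q k : ℕ) (hq : q.Prime)
    (hidx : H.index ∣ q ^ k) : Group.IsSolvable G := by
  have h1 : (Subgroup.centralizer ({x} : Set G)).index ∣ q ^ k :=
    (Subgroup.index_dvd_of_le hH).trans hidx
  obtain ⟨k', -, hk'⟩ := (Nat.dvd_prime_pow hq).1 h1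
  exact Cfsg.Agent.S4034.simple_case hq (Or.inr ⟨x, hx, k', hk'⟩)

theorem Q_simple (G : Type u) [Group G] [Finite G] [IsSimpleGroup G] (h : Q G) :
    Group.IsSolvable G := by
  obtain ⟨A, p, s, B, hBn, r, hp, hA, hB, hAB, hr⟩ := h
  have hB' : IsCyclic B := hB
  have hAB' : IsCyclic (A ⧸ B) := hAB
  have hBcomm : ∀ b b' : A, b ∈ B → b' ∈ B → b * b' = b' * b := by
    obtain ⟨b0, hb0⟩ := hB.exists_generator
    intro b b' hb hb'
    obtain ⟨i, hi⟩ := Subgroup.mem_zpowers_iff.mp (hb0 ⟨b, hb⟩)
    obtain ⟨j, hj⟩ := Subgroup.mem_zpowers_iff.mp (hb0 ⟨b', hb'⟩)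
    have h2 : (⟨b, hb⟩ : B) * ⟨b', hb'⟩ = ⟨b', hb'⟩ * ⟨b, hb⟩ := by
      rw [← hi, ← hj]; exact ((Commute.refl b0).zpow_zpow i j)
    exact congrArg Subtype.val h2
  have hcardA : Nat.card A = 2 ^ r * Nat.card B := by
    rw [Subgroup.card_eq_card_quotient_mul_card_subgroup B, hr]
  have hcardG : Nat.card G = 2 ^ r * Nat.card B * p ^ s := by
    rw [← Subgroup.card_mul_index A, hcardA, hA]
  by_cases hcase : p = 2 ∨ r = 0
  · have hBG : ∃ q k : ℕ, q.Prime ∧ (B.map A.subtype).index = q ^ k := by
      rw [Subgroup.index_map_subtype, Subgroup.index_eq_card, hr, hA]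
      rcases hcase with rfl | rfl
      · exact ⟨2, r + s, Nat.prime_two, (pow_add 2 r s).symm⟩
      · exact ⟨p, s, hp, by simp⟩
    obtain ⟨q, k, hq, hk⟩ := hBG
    by_cases hbot : B.map A.subtype = ⊥
    · rw [hbot, Subgroup.index_bot] at hk
      exact Cfsg.Agent.S4034.simple_case hq (Or.inl ⟨k, hk⟩)
    · obtain ⟨x, hxB, hx1⟩ : ∃ x ∈ B.map A.subtype, x ≠ 1 := by
        by_contra hcon
        push Not at hcon
        exact hbot ((Subgroup.eq_bot_iff_forall _).mpr hcon)
      refine L1 x hx1 (B.map A.subtype) ?_ q k hq (dvd_of_eq hk)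
      intro y hy
      rw [Subgroup.mem_centralizer_iff]
      intro z hz
      rw [Set.mem_singleton_iff] at hz
      subst hz
      obtain ⟨b, hb, rfl⟩ := Subgroup.mem_map.mp hxB
      obtain ⟨b', hb', rfl⟩ := Subgroup.mem_map.mp hy
      exact congrArg Subtype.val (hBcomm b b' hb hb')
  · push Not at hcase
    obtain ⟨hp2, hr0⟩ := hcase
    obtain ⟨g, hg⟩ := hAB.exists_generator
    obtain ⟨t, rfl⟩ := QuotientGroup.mk_surjective g
    have K1 : ∀ a : A, ∃ i : ℤ, ∃ b ∈ B, a = t ^ i * b := by
      intro a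
      obtain ⟨i, hi⟩ := Subgroup.mem_zpowers_iff.mp (hg (a : A ⧸ B))
      refine ⟨i, (t ^ i)⁻¹ * a, ?_, by group⟩
      apply QuotientGroup.eq.mp
      rw [← hi]; rfl
    have K2 : t ^ 2 ^ r ∈ B := by
      apply (QuotientGroup.eq_one_iff _).mp
      have := pow_card_eq_one' (G := A ⧸ B) (x := (t : A ⧸ B))
      rw [hr] at this
      exact this
    have K4 : ∀ x : A, x ∈ B → x * t = t * x → ∀ a : A, a * x = x * a := by
      intro x hxB hxt a
      obtain ⟨i, b, hb, rfl⟩ := K1 a
      have c1 : Commute x (t ^ i) := (Commute.zpow_right hxt i)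
      have c2 : x * b = b * x := hBcomm x b hxB hb
      calc t ^ i * b * x = t ^ i * (b * x) := by group
        _ = t ^ i * (x * b) := by rw [c2]
        _ = (t ^ i * x) * b := by group
        _ = (x * t ^ i) * b := by rw [c1.eq]
        _ = x * (t ^ i * b) := by group
    have K5 : ∀ x : A, x ≠ 1 → x ∈ B → x * t = t * x → Group.IsSolvable G := by
      intro x hx1 hxB hxt
      refine L1 (x : G) (by simpa using hx1) A ?_ p s hp (dvd_of_eq hA)
      intro y hy
      rw [Subgroup.mem_centralizer_iff]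
      intro z hz
      rw [Set.mem_singleton_iff] at hz
      subst hz
      exact (congrArg Subtype.val (K4 x hxB hxt ⟨y, hy⟩)).symm
    by_cases ht : t ^ 2 ^ r = 1
    · by_cases hev : 2 ∣ Nat.card B
      · obtain ⟨b0, hb0⟩ := hB.exists_generator
        have hord : orderOf b0 = Nat.card B := orderOf_eq_card_of_forall_mem_zpowers hb0
        obtain ⟨m, hm⟩ := hev
        have hmpos : 0 < m := by
          rcases Nat.eq_zero_or_pos m with h0 | h0
          · rw [h0, mul_zero] at hm
            exact absurd hm Nat.card_pos.ne'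
          · exact h0
        have hz1 : b0 ^ m ≠ 1 := pow_ne_one_of_lt_orderOf hmpos.ne' (by rw [hord, hm]; omega)
        have hz2 : (b0 ^ m) ^ (2 : ℤ) = 1 := by
          rw [zpow_ofNat, ← pow_mul, mul_comm, ← hm, ← hord, pow_orderOf_eq_one]
        have hc : t * (b0 : A) * t⁻¹ ∈ B := hBn.conj_mem (b0 : A) b0.2 t
        obtain ⟨k, hk⟩ := Subgroup.mem_zpowers_iff.mp (hb0 ⟨_, hc⟩)
        have hconj : t * ((b0 ^ m : B) : A) * t⁻¹ = (((b0 ^ m) ^ k : B) : A) := by
          have e1 : ((b0 ^ k : B) : A) = t * (b0 : A) * t⁻¹ := congrArg Subtype.val hk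
          calc t * ((b0 ^ m : B) : A) * t⁻¹ = t * (b0 : A) ^ m * t⁻¹ := by rfl
            _ = (t * (b0 : A) * t⁻¹) ^ m := (conj_pow).symm
            _ = ((b0 ^ k : B) : A) ^ m := by rw [e1]
            _ = (((b0 ^ k) ^ m : B) : A) := by rfl
            _ = (((b0 ^ m) ^ k : B) : A) := by
                congr 1
                rw [← zpow_natCast, ← zpow_mul, ← zpow_natCast, ← zpow_mul, mul_comm]
        rcases Int.even_or_odd k with ⟨j, hj⟩ | ⟨j, hj⟩
        · exfalso
          have : (b0 ^ m) ^ k = 1 := by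
            rw [hj, ← two_mul, zpow_mul, hz2, one_zpow]
          rw [this] at hconj
          have h1 : ((b0 ^ m : B) : A) = 1 := conj_eq_one_iff.mp hconj
          exact hz1 (Subtype.ext h1)
        · have : (b0 ^ m) ^ k = b0 ^ m := by
            rw [hj, zpow_add_one, zpow_mul, hz2, one_zpow, one_mul]
          rw [this] at hconj
          refine K5 ((b0 ^ m : B) : A) (fun h => hz1 (Subtype.ext h)) (b0 ^ m).2 ?_
          exact (mul_inv_eq_iff_eq_mul.mp hconj).symm
      · have ho1 : orderOf t ∣ 2 ^ r := orderOf_dvd_of_pow_eq_one ht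
        have ho2 : orderOf (t : A ⧸ B) = 2 ^ r := by
          rw [orderOf_eq_card_of_forall_mem_zpowers hg, hr]
        have ho3 : orderOf (t : A ⧸ B) ∣ orderOf t := orderOf_map_dvd (QuotientGroup.mk' B) t
        have ho : orderOf (t : G) = 2 ^ r := by
          rw [Subgroup.orderOf_coe]
          exact Nat.dvd_antisymm ho1 (ho2 ▸ ho3)
        have hcP : Nat.card (Subgroup.zpowers (t : G)) = 2 ^ r := by rw [Nat.card_zpowers, ho]
        have hidxP : (Subgroup.zpowers (t : G)).index = Nat.card B * p ^ s := by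
          have h1 := Subgroup.card_mul_index (Subgroup.zpowers (t : G))
          rw [hcP, hcardG, mul_assoc] at h1
          exact Nat.eq_of_mul_eq_mul_left (pow_pos (by norm_num) r) h1
        have hnd : ¬ 2 ∣ (Subgroup.zpowers (t : G)).index := by
          rw [hidxP]
          intro hd
          rcases (Nat.Prime.dvd_mul Nat.prime_two).1 hd with h1 | h1
          · exact hev h1
          · exact hp2 ((Nat.prime_dvd_prime_iff_eq Nat.prime_two hp).1
              (Nat.prime_two.dvd_of_dvd_pow h1)).symm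
        have : Fact (Nat.Prime 2) := ⟨Nat.prime_two⟩
        have hPG : IsPGroup 2 (Subgroup.zpowers (t : G)) := IsPGroup.of_card hcP
        let P : Sylow 2 G := hPG.toSylow hnd
        have hPc : IsCyclic (P : Subgroup G) :=
          (Subgroup.isCyclic_iff_exists_zpowers_eq_top _).mpr ⟨(t : G), rfl⟩
        have h2G : 2 ∣ Nat.card G := by
          rw [hcardG, mul_assoc]
          exact dvd_mul_of_dvd_left (dvd_pow_self 2 hr0) _
        have hmin : (Nat.card G).minFac = 2 := (Nat.minFac_eq_two_iff _).mpr h2G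
        have hc := IsCyclic.isComplement' hmin hPc
        have hcm := hc.card_mul_card
        have hcP' : Nat.card (P : Subgroup G) = 2 ^ r := hcP
        rw [hcP'] at hcm
        rcases (MonoidHom.normal_ker (MonoidHom.transferSylow P
          (hPc.normalizer_le_centralizer hmin))).eq_bot_or_eq_top with hK | hK
        · rw [hK, Subgroup.card_bot, one_mul] at hcm
          exact Cfsg.Agent.S4034.simple_case Nat.prime_two (Or.inl ⟨r, hcm.symm⟩)
        · exfalso
          rw [hK, Subgroup.card_top] at hcm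
          have h1 : 2 ^ r = 1 := by
            have hpos : 0 < Nat.card G := Nat.card_pos
            have : Nat.card G * 2 ^ r = Nat.card G * 1 := by rw [hcm, mul_one]
            exact Nat.eq_of_mul_eq_mul_left hpos this
          have : r = 0 := by
            rcases Nat.pow_eq_one.mp h1 with h | h
            · omega
            · exact h
          exact hr0 this
    · exact K5 (t ^ 2 ^ r) ht K2 (pow_mul_comm' t (2 ^ r))

/-- Let G be a finite group with a subgroup A of prime-power index. Suppose A has a normal cyclic subgroup B such that A/B is cyclic of order a power of 2. Then G is solvable. -/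
theorem result {G : Type*} [Group G] [Finite G] (A : Subgroup G) (p s : ℕ) (hp : p.Prime) (hA : A.index = p ^ s)
    (B : Subgroup A) [B.Normal] (hB : IsCyclic B) (hAB : IsCyclic (A ⧸ B)) (r : ℕ) (hr : Nat.card (A ⧸ B) = 2 ^ r) :
    Group.IsSolvable G := by
  exact Cfsg.Agent.S4034.solvable_induction Q Q_sub Q_quot Q_simple (Nat.card G) G rfl
    ⟨A, p, s, B, inferInstance, r, hp, hA, hB, hAB, hr⟩

end Cfsg.Agent.S4245
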