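import Cfsg.Statements.S4295
import Mathlib
import Cfsg.Agent.Helper21.FrobCons
import Cfsg.Agent.S4296
import Cfsg.Agent.S0261
-- import your own Cfsg.Agent.* helpers here

set_option autoImplicit false
open Cfsg

namespace Cfsg.Agent.S4295

open Cfsg.Agent.Helper21

/-- the matrices `I = [[0,-1],[1,0]]` and `J = [[x,y],[y,-x]]` with `x² + y² = -1` give a
fixed-point-free action of the quaternion group on `R²`. -/
theorem q8_matrix {R : Type*} [CommRing R] (x y : R) (hxy : x ^ 2 + y ^ 2 = -1)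
    (h2 : ∀ v : R, v = -v → v = 0) :
    ∃ f : QuaternionGroup 2 →* (Matrix (Fin 2) (Fin 2) R)ˣ, ∀ h : QuaternionGroup 2, h ≠ 1 →
      ∀ v : Fin 2 → R, Matrix.mulVec (f h : Matrix (Fin 2) (Fin 2) R) v = v → v = 0 := by
  have hxy' : x * x + y * y = -1 := by rw [← hxy]; ring
  obtain ⟨I, hI⟩ : ∃ I : (Matrix (Fin 2) (Fin 2) R)ˣ,
      (I : Matrix (Fin 2) (Fin 2) R) = !![0, -1; 1, 0] :=
    ⟨⟨!![0, -1; 1, 0], !![0, 1; -1, 0], by
      ext i j
      fin_cases i <;> fin_cases j <;> simp [Matrix.mul_apply, Fin.sum_univ_two], by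
      ext i j
      fin_cases i <;> fin_cases j <;> simp [Matrix.mul_apply, Fin.sum_univ_two]⟩, rfl⟩
  obtain ⟨J, hJ⟩ : ∃ J : (Matrix (Fin 2) (Fin 2) R)ˣ,
      (J : Matrix (Fin 2) (Fin 2) R) = !![x, y; y, -x] :=
    ⟨⟨!![x, y; y, -x], !![-x, -y; -y, x], by
      ext i j
      fin_cases i <;> fin_cases j <;> simp [Matrix.mul_apply, Fin.sum_univ_two]
      · linear_combination -hxy'
      · ring
      · ring
      · linear_combination -hxy', by
      ext i j
      fin_cases i <;> fin_cases j <;> simp [Matrix.mul_apply, Fin.sum_univ_two]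
      · linear_combination -hxy'
      · ring
      · ring
      · linear_combination -hxy'⟩, rfl⟩
  have hI2 : ((I ^ 2 : (Matrix (Fin 2) (Fin 2) R)ˣ) : Matrix (Fin 2) (Fin 2) R) = -1 := by
    rw [Units.val_pow_eq_pow_val, hI]
    ext i j
    fin_cases i <;> fin_cases j <;> simp [pow_two, Matrix.mul_apply, Fin.sum_univ_two]
  have hI4 : I ^ (2 * 2) = 1 := by
    apply Units.ext
    rw [pow_mul, Units.val_pow_eq_pow_val, hI2]
    simp
  have hJJ : J * J = I ^ 2 := by
    apply Units.ext
    rw [hI2, Units.val_mul, hJ]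
    ext i j
    fin_cases i <;> fin_cases j <;> simp [Matrix.mul_apply, Fin.sum_univ_two]
    · linear_combination hxy'
    · ring
    · ring
    · linear_combination hxy'
  have hJI : J * I * J⁻¹ = I⁻¹ := by
    rw [mul_inv_eq_iff_eq_mul]
    have hIinv : ((I⁻¹ : (Matrix (Fin 2) (Fin 2) R)ˣ) : Matrix (Fin 2) (Fin 2) R) =
        !![0, 1; -1, 0] := by
      have h1 : I⁻¹ = I ^ 3 := by
        rw [inv_eq_iff_mul_eq_one, ← pow_succ']
        exact hI4
      rw [h1, Units.val_pow_eq_pow_val, hI]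
      ext i j
      fin_cases i <;> fin_cases j <;>
        simp [pow_succ, Matrix.mul_apply, Fin.sum_univ_two]
    apply Units.ext
    rw [Units.val_mul, Units.val_mul, hIinv, hI, hJ]
    ext i j
    fin_cases i <;> fin_cases j <;> simp [Matrix.mul_apply, Fin.sum_univ_two]
  refine ⟨Cfsg.Agent.S0261.quatHom 2 I J hI4 hJJ hJI, ?_⟩
  have hcases : ∀ h : QuaternionGroup 2, h ≠ 1 →
      h = QuaternionGroup.a 2 ∨ h * h = QuaternionGroup.a 2 := by decide
  have hz : ((Cfsg.Agent.S0261.quatHom 2 I J hI4 hJJ hJI (QuaternionGroup.a 2) :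
      (Matrix (Fin 2) (Fin 2) R)ˣ) : Matrix (Fin 2) (Fin 2) R) = -1 := by
    rw [Cfsg.Agent.S0261.quatHom_a]
    have : (2 : ZMod (2 * 2)).val = 2 := rfl
    rw [this, hI2]
  intro h hh v hv
  have hv2 : Matrix.mulVec ((Cfsg.Agent.S0261.quatHom 2 I J hI4 hJJ hJI (QuaternionGroup.a 2) :
      (Matrix (Fin 2) (Fin 2) R)ˣ) : Matrix (Fin 2) (Fin 2) R) v = v := by
    rcases hcases h hh with h1 | h1
    · rw [← h1]; exact hv
    · rw [← h1, map_mul, Units.val_mul, ← Matrix.mulVec_mulVec, hv, hv]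
  rw [hz, Matrix.neg_mulVec, Matrix.one_mulVec] at hv2
  funext i
  exact h2 (v i) (by
    have := congrFun hv2 i
    simpa using this.symm)

theorem exists_frob (r : ℕ) (hodd : Odd r) (hr : 1 < r) :
    ∃ (L : Type) (_ : Group L) (_ : Finite L) (H : Subgroup L), Cfsg.IsFrobeniusComplement H ∧
        Nonempty (H ≃* QuaternionGroup 2) ∧ Nat.card (Cfsg.frobeniusKernel H) = r * r := by
  classical
  obtain ⟨l, hl⟩ : ∃ l : List ℕ, l = r.primeFactorsList := ⟨_, rfl⟩
  have hprime : ∀ i : Fin l.length, (l[i.1]).Prime := by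
    intro i
    apply Nat.prime_of_mem_primeFactorsList (n := r)
    rw [← hl]
    exact List.getElem_mem _
  have hoddp : ∀ i : Fin l.length, l[i.1] ≠ 2 := by
    intro i h
    have h1 : l[i.1] ∣ r := by
      apply Nat.dvd_of_mem_primeFactorsList
      rw [← hl]
      exact List.getElem_mem _
    rw [h] at h1
    exact (Nat.not_even_iff_odd.mpr hodd) (even_iff_two_dvd.mpr h1)
  haveI hfact : ∀ i : Fin l.length, Fact (l[i.1]).Prime := fun i => ⟨hprime i⟩
  have hprod : ∏ i : Fin l.length, l[i.1] = r := by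
    rw [Fin.prod_univ_getElem, hl]
    exact Nat.prod_primeFactorsList (by omega)
  have hlen : 0 < l.length := by
    by_contra h
    have h0 : l.length = 0 := by omega
    have : l = [] := List.length_eq_zero_iff.mp h0
    rw [this] at hprod
    simp at hprod
    omega
  obtain ⟨R, hR⟩ : ∃ R : Type, R = ((i : Fin l.length) → ZMod (l[i.1])) := ⟨_, rfl⟩
  have hsol : ∀ i : Fin l.length, ∃ ab : ZMod (l[i.1]) × ZMod (l[i.1]),
      ab.1 ^ 2 + ab.2 ^ 2 = -1 := by
    intro i
    obtain ⟨a, b, hab⟩ := ZMod.sq_add_sq (l[i.1]) (-1)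
    exact ⟨(a, b), hab⟩
  choose ab hab using hsol
  have h2 : ∀ v : ((i : Fin l.length) → ZMod (l[i.1])), v = -v → v = 0 := by
    intro v hv
    funext i
    have h3 := congrFun hv i
    have h4 : (2 : ZMod (l[i.1])) * v i = 0 := by
      have : v i = -(v i) := h3
      linear_combination this
    rcases mul_eq_zero.mp h4 with h | h
    · exfalso
      have h5 : ((2 : ℕ) : ZMod (l[i.1])) = 0 := by exact_mod_cast h
      rw [ZMod.natCast_eq_zero_iff] at h5
      have h6 := (Nat.prime_dvd_prime_iff_eq (hprime i) Nat.prime_two).mp h5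
      exact hoddp i h6
    · exact h
  obtain ⟨f, hf⟩ := q8_matrix (R := ((i : Fin l.length) → ZMod (l[i.1])))
    (fun i => (ab i).1) (fun i => (ab i).2) (by
      funext i
      exact hab i) h2
  haveI : Nontrivial (QuaternionGroup 2) := ⟨⟨QuaternionGroup.a 1, 1, by decide⟩⟩
  haveI : Nontrivial ((i : Fin l.length) → ZMod (l[i.1])) :=
    Pi.nontrivial_at (⟨0, hlen⟩ : Fin l.length)
  obtain ⟨L, iG, iF, C, hC, ⟨e⟩, hcard⟩ := frob_of_matrix f hf
  refine ⟨L, iG, iF, C, hC, ⟨e.symm⟩, ?_⟩
  rw [hcard, Nat.card_fun, Nat.card_pi]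
  have h3 : ∏ i : Fin l.length, Nat.card (ZMod (l[i.1])) = r := by
    rw [← hprod]
    exact Finset.prod_congr rfl (fun i _ => Nat.card_zmod _)
  rw [h3]
  simp [pow_two]


/-- For a natural number m the following are equivalent: (a) some finite group has a Frobenius complement isomorphic to the quaternion group of order 8 whose Frobenius kernel (the identity together with the elements lying in no conjugate of the complement) has exactly m elements; (b) m is an odd perfect square greater than 1. -/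
theorem result (m : ℕ) :
    (∃ (L : Type) (_ : Group L) (_ : Finite L) (H : Subgroup L), Cfsg.IsFrobeniusComplement H ∧
        Nonempty (H ≃* QuaternionGroup 2) ∧ Nat.card (Cfsg.frobeniusKernel H) = m) ↔
    (Odd m ∧ IsSquare m ∧ 1 < m) := by
  constructor
  · rintro ⟨L, iG, iF, H, hF, ⟨e⟩, hm⟩
    haveI : Fact (Nat.Prime 2) := ⟨Nat.prime_two⟩
    have hcardH : Nat.card H = 8 := by
      rw [Nat.card_congr e.toEquiv, Nat.card_eq_fintype_card, QuaternionGroup.card]
    have hZ : ∃ (p : ℕ) (_ : Fact p.Prime) (P : Sylow p H), ¬ IsCyclic P := by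
      obtain ⟨P⟩ : Nonempty (Sylow 2 H) := inferInstance
      refine ⟨2, inferInstance, P, ?_⟩
      intro hcyc
      have hP : Nat.card (P : Subgroup H) = 8 := by
        rw [Sylow.card_eq_multiplicity, hcardH]
        have : (8 : ℕ) = 2 ^ 3 := by norm_num
        rw [this, Nat.Prime.factorization_pow Nat.prime_two]
        simp
      have htop : (P : Subgroup H) = ⊤ := Subgroup.eq_top_of_card_eq _ (by rw [hP, hcardH])
      have hcomm : ∀ a b : H, a * b = b * a := by
        intro a b
        have ha : a ∈ (P : Subgroup H) := by rw [htop]; trivial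
        have hb : b ∈ (P : Subgroup H) := by rw [htop]; trivial
        have := Cfsg.Agent.Helper16.QuatExt.comm_of_cyclic hcyc ⟨a, ha⟩ ⟨b, hb⟩
        exact congrArg Subtype.val this
      have h1 := hcomm (e.symm (QuaternionGroup.a 1)) (e.symm (QuaternionGroup.xa 0))
      rw [← map_mul, ← map_mul] at h1
      have h2 := e.symm.injective h1
      revert h2
      decide
    obtain ⟨hodd, hsq⟩ := Cfsg.Agent.S4296.result H hF hZ
    rw [hm] at hodd hsq
    refine ⟨hodd, hsq, ?_⟩
    rw [← hm, Cfsg.Agent.Helper1.card_kernel H hF]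
    have h1 : H.index ≠ 1 := fun h => hF.2.1 (Subgroup.index_eq_one.mp h)
    have h0 : H.index ≠ 0 := Subgroup.index_ne_zero_of_finite
    omega
  · rintro ⟨hodd, ⟨r, rfl⟩, hm⟩
    have hr : 1 < r := by nlinarith
    have hroddd : Odd r := (Nat.odd_mul.mp hodd).1
    exact exists_frob r hroddd hr

end Cfsg.Agent.S4295
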