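import Cfsg.Statements.S4334
import Cfsg.Agent.S0071
import Cfsg.Agent.S4134
import Cfsg.Agent.Helper14.CoprimeAut2
import Cfsg.Agent.Helper3.CycSylow

set_option autoImplicit false
open Cfsg

namespace Cfsg.Agent.S4334


/-- decomposition in a join of elementwise-commuting subgroups -/
theorem dec {G : Type*} [Group G] (A B : Subgroup G) (hc : ∀ a ∈ A, ∀ b ∈ B, a * b = b * a)
    (h : G) (hh : h ∈ A ⊔ B) : ∃ a ∈ A, ∃ b ∈ B, h = a * b := by
  let M : Subgroup G :=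
    { carrier := {g | ∃ a ∈ A, ∃ b ∈ B, g = a * b}
      one_mem' := ⟨1, A.one_mem, 1, B.one_mem, (mul_one 1).symm⟩
      mul_mem' := by
        rintro x y ⟨a, ha, b, hb, rfl⟩ ⟨a', ha', b', hb', rfl⟩
        refine ⟨a * a', A.mul_mem ha ha', b * b', B.mul_mem hb hb', ?_⟩
        have e := hc a' ha' b hb
        calc a * b * (a' * b') = a * (b * a') * b' := by group
          _ = a * (a' * b) * b' := by rw [← e]
          _ = a * a' * (b * b') := by group
      inv_mem' := by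
        rintro x ⟨a, ha, b, hb, rfl⟩
        refine ⟨a⁻¹, A.inv_mem ha, b⁻¹, B.inv_mem hb, ?_⟩
        have e := hc a⁻¹ (A.inv_mem ha) b⁻¹ (B.inv_mem hb)
        calc (a * b)⁻¹ = b⁻¹ * a⁻¹ := by group
          _ = a⁻¹ * b⁻¹ := e.symm }
  have hle : A ⊔ B ≤ M := by
    apply sup_le
    · intro a ha; exact ⟨a, ha, 1, B.one_mem, (mul_one a).symm⟩
    · intro b hb; exact ⟨1, A.one_mem, b, hb, (one_mul b).symm⟩
  exact hle hh

/-- an element normalizing `X` whose order is prime to the index of `C_G(X)` centralizes `X` -/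
theorem cent_of_coprime {G : Type*} [Group G] [Finite G] (X : Subgroup G) (g : G)
    (hg : ∀ y ∈ X, g * y * g⁻¹ ∈ X)
    (hcop : Nat.Coprime (orderOf g) (Subgroup.centralizer (X : Set G)).index) :
    ∀ y ∈ X, g * y = y * g := by
  have hg' : ∀ y ∈ X, g⁻¹ * y * g ∈ X := by
    intro y hy
    let f : X → X := fun z => ⟨g * z * g⁻¹, hg z z.2⟩
    have hf : Function.Injective f := by
      intro a b hab
      have h1 : g * (a : G) * g⁻¹ = g * (b : G) * g⁻¹ := congrArg Subtype.val hab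
      apply Subtype.ext
      have h2 : (a : G) = g⁻¹ * (g * (a : G) * g⁻¹) * g := by group
      rw [h2, h1]; group
    obtain ⟨z, hz⟩ := (Finite.injective_iff_surjective.mp hf) ⟨y, hy⟩
    have h1 : g * (z : G) * g⁻¹ = y := congrArg Subtype.val hz
    have h2 : g⁻¹ * y * g = z := by rw [← h1]; group
    rw [h2]; exact z.2
  obtain ⟨C, hC⟩ : ∃ C : Subgroup G, C = Subgroup.centralizer (X : Set G) := ⟨_, rfl⟩
  rw [← hC] at hcop
  have hgN : g ∈ Subgroup.normalizer (C : Set G) := by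
    rw [Subgroup.mem_normalizer_iff]
    intro c
    rw [hC, Subgroup.mem_centralizer_iff, Subgroup.mem_centralizer_iff]
    constructor
    · intro h y hy
      have h1 := h (g⁻¹ * y * g) (hg' y hy)
      calc y * (g * c * g⁻¹) = g * ((g⁻¹ * y * g) * c) * g⁻¹ := by group
        _ = g * (c * (g⁻¹ * y * g)) * g⁻¹ := by rw [h1]
        _ = g * c * g⁻¹ * y := by group
    · intro h y hy
      have h1 := h (g * y * g⁻¹) (hg y hy)
      calc y * c = g⁻¹ * ((g * y * g⁻¹) * (g * c * g⁻¹)) * g := by group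
        _ = g⁻¹ * ((g * c * g⁻¹) * (g * y * g⁻¹)) * g := by rw [h1]
        _ = c * y := by group
  have hZ : Subgroup.zpowers g ≤ Subgroup.normalizer (C : Set G) := Subgroup.zpowers_le.mpr hgN
  have e1 := Cfsg.Agent.S4134.relIndex_sup_norm (Subgroup.zpowers g) C hZ
  have d1 : C.relIndex (Subgroup.zpowers g) ∣ orderOf g := by
    have := Subgroup.relIndex_dvd_card C (Subgroup.zpowers g)
    rwa [Nat.card_zpowers] at this
  have d2 : C.relIndex (Subgroup.zpowers g) ∣ C.index := by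
    rw [← e1]
    exact Dvd.intro _ (Subgroup.relIndex_mul_index (le_sup_right : C ≤ Subgroup.zpowers g ⊔ C))
  have h1 : C.relIndex (Subgroup.zpowers g) = 1 := Nat.eq_one_of_dvd_coprimes hcop d1 d2
  have h2 : g ∈ C := Subgroup.zpowers_le.mp (Subgroup.relIndex_eq_one.mp h1)
  rw [hC, Subgroup.mem_centralizer_iff] at h2
  intro y hy
  exact (h2 y hy).symm

/-- Sylow conjugation inside a subgroup `D` containing a Sylow subgroup of `G` -/
theorem sylow_conj_in {G : Type*} [Group G] [Finite G] (p : ℕ) [Fact p.Prime] (D : Subgroup G)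
    (S : Sylow p G) (hS : (S : Subgroup G) ≤ D) (P₂ : Subgroup G) (hP : IsPGroup p P₂)
    (hPD : P₂ ≤ D) : ∃ c ∈ D, ∀ x ∈ P₂, c * x * c⁻¹ ∈ (S : Subgroup G) := by
  have hP' : IsPGroup p (P₂.subgroupOf D) := hP.comap_subtype
  obtain ⟨R, hR⟩ := hP'.exists_le_sylow
  obtain ⟨c, hc⟩ := MulAction.exists_smul_eq D R (S.subtype hS)
  refine ⟨c, c.2, fun x hx => ?_⟩
  have h1 : (⟨x, hPD hx⟩ : D) ∈ (R : Subgroup D) := hR (Subgroup.mem_subgroupOf.mpr hx)
  have h2 := Cfsg.Agent.Helper3.CycSylow.conj_mem_of_smul_eq R (S.subtype hS) c hc _ h1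
  rw [Sylow.coe_subtype] at h2
  exact Subgroup.mem_subgroupOf.mp h2

theorem exists_sylow_le {G : Type*} [Group G] [Finite G] (q : ℕ) [Fact q.Prime] (H : Subgroup G)
    (hq : ¬ q ∣ H.index) : ∃ T : Sylow q G, (T : Subgroup G) ≤ H := by
  obtain ⟨T₀⟩ : Nonempty (Sylow q H) := inferInstance
  have hcard : Nat.card ((T₀ : Subgroup H).map H.subtype) = q ^ (Nat.card G).factorization q := by
    rw [Subgroup.card_map_of_injective H.subtype_injective, T₀.card_eq_multiplicity]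
    congr 1
    have h1 : Nat.card G = Nat.card H * H.index := (Subgroup.card_mul_index H).symm
    rw [h1, Nat.factorization_mul (Nat.card_pos.ne') (Subgroup.index_ne_zero_of_finite)]
    simp [Nat.factorization_eq_zero_of_not_dvd hq]
  refine ⟨Sylow.ofCard _ hcard, ?_⟩
  rw [Sylow.coe_ofCard]
  exact Subgroup.map_subtype_le _

/-- in `Hs × Ht` with `Hs` a nilpotent `σ`-group and `Ht` a `τ`-group, a `p`-element (`p ∈ σ`)
commutes with every element of order prime to `p` -/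
theorem factA {G : Type*} [Group G] [Finite G] (σ τ : Set ℕ) (hd : Disjoint σ τ)
    (Hs Ht : Subgroup G) (hs : Cfsg.IsPiSubgroup σ Hs) (ht : Cfsg.IsPiSubgroup τ Ht)
    (hsn : Group.IsNilpotent Hs) (hcomm : ∀ a ∈ Hs, ∀ b ∈ Ht, a * b = b * a)
    (p : ℕ) (hp : p.Prime) (hpσ : p ∈ σ) (x n : G) (hx : x ∈ Hs ⊔ Ht) (hn : n ∈ Hs ⊔ Ht)
    (k : ℕ) (hxk : x ^ (p ^ k) = 1) (hnp : Nat.Coprime (orderOf n) p) : x * n = n * x := by
  obtain ⟨a, ha, b, hb, rfl⟩ := dec Hs Ht hcomm x hx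
  obtain ⟨a', ha', b', hb', rfl⟩ := dec Hs Ht hcomm n hn
  have hcop : Nat.Coprime (Nat.card Hs) (Nat.card Ht) := by
    by_contra h
    obtain ⟨r, hr, h1, h2⟩ := Nat.Prime.not_coprime_iff_dvd.mp h
    exact Set.disjoint_left.mp hd (hs r hr h1) (ht r hr h2)
  have hab : Nat.Coprime (orderOf a) (orderOf b) :=
    Nat.Coprime.coprime_dvd_left (Subgroup.orderOf_dvd_natCard Hs ha)
      (Nat.Coprime.coprime_dvd_right (Subgroup.orderOf_dvd_natCard Ht hb) hcop)
  have hab' : Nat.Coprime (orderOf a') (orderOf b') :=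
    Nat.Coprime.coprime_dvd_left (Subgroup.orderOf_dvd_natCard Hs ha')
      (Nat.Coprime.coprime_dvd_right (Subgroup.orderOf_dvd_natCard Ht hb') hcop)
  have e1 : orderOf (a * b) = orderOf a * orderOf b :=
    Commute.orderOf_mul_eq_mul_orderOf_of_coprime (hcomm a ha b hb) hab
  have e2 : orderOf (a' * b') = orderOf a' * orderOf b' :=
    Commute.orderOf_mul_eq_mul_orderOf_of_coprime (hcomm a' ha' b' hb') hab'
  have hb1 : b = 1 := by
    rw [← orderOf_eq_one_iff, Nat.eq_one_iff_not_exists_prime_dvd]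
    intro r hr hrb
    have h1 : r ∣ p ^ k := by
      have h2 : orderOf (a * b) ∣ p ^ k := orderOf_dvd_of_pow_eq_one hxk
      rw [e1] at h2
      exact hrb.trans ((Dvd.intro_left _ rfl).trans h2)
    have h3 : r = p := (Nat.prime_dvd_prime_iff_eq hr hp).mp (hr.dvd_of_dvd_pow h1)
    rw [h3] at hrb
    have h4 : p ∈ τ := ht p hp (hrb.trans (Subgroup.orderOf_dvd_natCard Ht hb))
    exact Set.disjoint_left.mp hd hpσ h4
  subst hb1
  rw [mul_one] at hxk ⊢
  have ha'p : Nat.Coprime (orderOf a') p := by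
    rw [e2] at hnp
    exact Nat.Coprime.coprime_dvd_left (Dvd.intro _ rfl) hnp
  obtain ⟨n₀, hn₀⟩ := hsn.nilpotent'
  have h5 : (⟨a', ha'⟩ : Hs) * ⟨a, ha⟩ = ⟨a, ha⟩ * ⟨a', ha'⟩ := by
    apply Cfsg.Agent.Helper14.commute_of_mem_ucs n₀ (⟨a, ha⟩ : Hs) ⟨a', ha'⟩ (p ^ k) (orderOf a')
    · exact (Nat.Coprime.pow_right k ha'p).symm
    · exact Subtype.ext hxk
    · exact Subtype.ext (pow_orderOf_eq_one a')
    · rw [hn₀]; exact Subgroup.mem_top _
  have h6 : a' * a = a * a' := congrArg Subtype.val h5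
  have h7 := hcomm a ha b' hb'
  calc a * (a' * b') = (a * a') * b' := by group
    _ = (a' * a) * b' := by rw [h6]
    _ = a' * (a * b') := by group
    _ = a' * (b' * a) := by rw [h7]
    _ = a' * b' * a := by group

theorem lemC {G : Type*} [Group G] [Finite G] (π : Set ℕ) (H : Subgroup G)
    (hH : Cfsg.IsPiHall π H)
    (p : ℕ) [Fact p.Prime] (S : Sylow p G)
    (hA : ∀ x ∈ (S : Subgroup G), ∀ n ∈ H, Nat.Coprime (orderOf n) p → x * n = n * x)
    (Q : Subgroup G) (hQ : IsPGroup p Q) (g : G) (hgQ : ∀ y ∈ Q, g * y * g⁻¹ ∈ Q)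
    (hgp : Nat.Coprime (orderOf g) p) (hgπ : ∀ q : ℕ, q.Prime → q ∣ orderOf g → q ∈ π) :
    ∀ y ∈ Q, g * y = y * g := by
  have hp : p.Prime := Fact.out
  obtain ⟨S', hS'⟩ := hQ.exists_le_sylow
  obtain ⟨u, hu⟩ := MulAction.exists_smul_eq G S' S
  have hQS : ∀ y ∈ Q, u * y * u⁻¹ ∈ (S : Subgroup G) := fun y hy =>
    Cfsg.Agent.Helper3.CycSylow.conj_mem_of_smul_eq S' S u hu y (hS' hy)
  obtain ⟨Q₂, hQ₂⟩ : ∃ Q₂ : Subgroup G, Q₂ = Q.map (MulAut.conj u).toMonoidHom := ⟨_, rfl⟩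
  have hmem : ∀ z, z ∈ Q₂ ↔ ∃ y ∈ Q, u * y * u⁻¹ = z := by
    intro z; rw [hQ₂]; exact Subgroup.mem_map
  have hQ₂S : Q₂ ≤ (S : Subgroup G) := by
    intro z hz
    obtain ⟨y, hy, rfl⟩ := (hmem z).mp hz
    exact hQS y hy
  have hkey : ∀ z ∈ Q₂, (u * g * u⁻¹) * z = z * (u * g * u⁻¹) := by
    apply cent_of_coprime Q₂ (u * g * u⁻¹)
    · intro z hz
      obtain ⟨y, hy, rfl⟩ := (hmem z).mp hz
      exact (hmem _).mpr ⟨g * y * g⁻¹, hgQ y hy, by group⟩
    · have ho : orderOf (u * g * u⁻¹) = orderOf g := (MulAut.conj u).orderOf_eq g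
      rw [ho]
      by_contra hnc
      obtain ⟨q, hq, hq1, hq2⟩ := Nat.Prime.not_coprime_iff_dvd.mp hnc
      haveI := Fact.mk hq
      have hqπ := hgπ q hq hq1
      have hqp : q ≠ p := by
        intro h
        subst h
        exact hq.one_lt.ne' (Nat.Coprime.eq_one_of_dvd hgp.symm hq1)
      obtain ⟨T₀⟩ : Nonempty (Sylow q H) := inferInstance
      have hE : (T₀ : Subgroup H).map H.subtype ≤ Subgroup.centralizer (Q₂ : Set G) := by
        rintro _ ⟨t, ht, rfl⟩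
        rw [Subgroup.mem_centralizer_iff]
        intro z hz
        have hto : Nat.Coprime (orderOf (t : G)) p := by
          obtain ⟨j, hj⟩ := T₀.isPGroup' ⟨t, ht⟩
          have h1 : (t : G) ^ (q ^ j) = 1 := by
            have h2 := congrArg (fun z : (T₀ : Subgroup H) => ((z : H) : G)) hj
            simpa using h2
          exact Nat.Coprime.coprime_dvd_left (orderOf_dvd_of_pow_eq_one h1)
            (Nat.Coprime.pow_left j ((Nat.coprime_primes hq hp).mpr hqp))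
        exact hA z (hQ₂S hz) (t : G) t.2 hto
      have hidx := Subgroup.index_dvd_of_le hE
      rw [Subgroup.index_map_subtype] at hidx
      rcases (Nat.Prime.dvd_mul hq).mp (hq2.trans hidx) with h | h
      · exact T₀.not_dvd_index h
      · exact hH.2 q hq hqπ h
  intro y hy
  have h1 := hkey (u * y * u⁻¹) ((hmem _).mpr ⟨y, hy, rfl⟩)
  calc g * y = u⁻¹ * ((u * g * u⁻¹) * (u * y * u⁻¹)) * u := by group
    _ = u⁻¹ * ((u * y * u⁻¹) * (u * g * u⁻¹)) * u := by rw [h1]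
    _ = y * g := by group

theorem step {G : Type*} [Group G] [Finite G] (H : Subgroup G) (p : ℕ) [Fact p.Prime]
    (S : Sylow p G)
    (hA : ∀ x ∈ (S : Subgroup G), ∀ n ∈ H, Nat.Coprime (orderOf n) p → x * n = n * x)
    (N₂ : Subgroup G) (hN₂H : N₂ ≤ H) (hN₂p : (Nat.card N₂).Coprime p)
    (P₂ : Subgroup G) (hP₂ : IsPGroup p P₂) (hPN : ∀ x ∈ P₂, ∀ m ∈ N₂, x * m * x⁻¹ ∈ N₂) :
    ∃ c : G, (∀ m ∈ N₂, c * m = m * c) ∧ ∀ x ∈ P₂, c * x * c⁻¹ ∈ (S : Subgroup G) := by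
  have hp : p.Prime := Fact.out
  obtain ⟨D, hD⟩ : ∃ D : Subgroup G, D = Subgroup.centralizer (N₂ : Set G) := ⟨_, rfl⟩
  have hSD : (S : Subgroup G) ≤ D := by
    intro x hx
    rw [hD, Subgroup.mem_centralizer_iff]
    intro m hm
    have hmo : Nat.Coprime (orderOf m) p :=
      Nat.Coprime.coprime_dvd_left (Subgroup.orderOf_dvd_natCard N₂ hm) hN₂p
    exact (hA x hx m (hN₂H hm) hmo).symm
  have hpD : ¬ p ∣ D.index := fun h => S.not_dvd_index (h.trans (Subgroup.index_dvd_of_le hSD))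
  have hPD : P₂ ≤ D := by
    intro x hx
    obtain ⟨k, hk⟩ := hP₂ ⟨x, hx⟩
    have hxk : x ^ (p ^ k) = 1 := by simpa using congrArg Subtype.val hk
    have hcop : Nat.Coprime (orderOf x) (Subgroup.centralizer (N₂ : Set G)).index := by
      rw [← hD]
      exact Nat.Coprime.coprime_dvd_left (orderOf_dvd_of_pow_eq_one hxk)
        (Nat.Coprime.pow_left k ((Nat.Prime.coprime_iff_not_dvd hp).mpr hpD))
    have h1 := cent_of_coprime N₂ x (hPN x hx) hcop
    rw [hD, Subgroup.mem_centralizer_iff]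
    intro m hm
    exact (h1 m hm).symm
  obtain ⟨c, hcD, hc⟩ := sylow_conj_in p D S hSD P₂ hP₂ hPD
  refine ⟨c, fun m hm => ?_, hc⟩
  rw [hD, Subgroup.mem_centralizer_iff] at hcD
  exact (hcD m hm).symm

theorem frob {G : Type*} [Group G] [Finite G] (K : Subgroup G) (p : ℕ) [Fact p.Prime]
    (hcent : ∀ Q : Subgroup G, Q ≤ K → IsPGroup p Q → ∀ g ∈ K, (∀ y ∈ Q, g * y * g⁻¹ ∈ Q) →
      Nat.Coprime (orderOf g) p → ∀ y ∈ Q, g * y = y * g) (hpK : p ∣ Nat.card K) :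
    ∃ N P : Subgroup G, N ≤ K ∧ P ≤ K ∧ IsPGroup p P ∧ (Nat.card N).Coprime p ∧
      (∀ k ∈ K, ∀ n ∈ N, k * n * k⁻¹ ∈ N) ∧ (∀ k ∈ K, ∃ n ∈ N, ∃ x ∈ P, k = n * x) ∧
      Nat.card N < Nat.card K := by
  have hp : p.Prime := Fact.out
  obtain ⟨P₀⟩ : Nonempty (Sylow p K) := inferInstance
  have h1 : ∀ Q : Subgroup K, Q ≤ (P₀ : Subgroup K) → ∀ g ∈ Subgroup.normalizer (Q : Set K),
      Nat.Coprime (orderOf g) p → g ∈ Subgroup.centralizer (Q : Set K) := by
    intro Q hQ g hg hcop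
    rw [Subgroup.mem_centralizer_iff]
    intro y hy
    have hQp : IsPGroup p (Q.map K.subtype) := (P₀.isPGroup'.to_le hQ).map _
    have h2 := hcent (Q.map K.subtype) (Subgroup.map_subtype_le Q) hQp (g : G) g.2
      (by
        rintro z ⟨z₀, hz₀, rfl⟩
        exact ⟨g * z₀ * g⁻¹, (Subgroup.mem_normalizer_iff.mp hg z₀).mp hz₀, rfl⟩)
      (by rw [Subgroup.orderOf_coe]; exact hcop) (y : G) ⟨y, hy, rfl⟩
    exact Subtype.ext h2.symm
  obtain ⟨N₀, hN₀, hc⟩ := (Cfsg.Agent.S0071.result P₀).mpr h1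
  have hcardN : Nat.card (N₀.map K.subtype) = Nat.card N₀ :=
    Subgroup.card_map_of_injective K.subtype_injective
  have hnd : ¬ p ∣ Nat.card N₀ := by
    rw [← hc.index_eq_card]; exact P₀.not_dvd_index
  refine ⟨N₀.map K.subtype, (P₀ : Subgroup K).map K.subtype, Subgroup.map_subtype_le _,
    Subgroup.map_subtype_le _, P₀.isPGroup'.map _, ?_, ?_, ?_, ?_⟩
  · rw [hcardN]
    exact ((Nat.Prime.coprime_iff_not_dvd hp).mpr hnd).symm
  · rintro k hk _ ⟨n₀, hn₀, rfl⟩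
    exact ⟨⟨k, hk⟩ * n₀ * ⟨k, hk⟩⁻¹, hN₀.conj_mem n₀ hn₀ ⟨k, hk⟩, rfl⟩
  · intro k hk
    obtain ⟨⟨n₀, x₀⟩, h⟩ := hc.2 ⟨k, hk⟩
    have h' : ((n₀ : K) : G) * ((x₀ : K) : G) = k := congrArg Subtype.val h
    exact ⟨((n₀ : K) : G), ⟨(n₀ : K), n₀.2, rfl⟩, ((x₀ : K) : G), ⟨(x₀ : K), x₀.2, rfl⟩, h'.symm⟩
  · rw [hcardN]
    have h3 : Nat.card N₀ * Nat.card (P₀ : Subgroup K) = Nat.card K := hc.card_mul_card
    have h4 : 2 ≤ Nat.card (P₀ : Subgroup K) := by
      rw [P₀.card_eq_multiplicity]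
      have h5 : 0 < (Nat.card K).factorization p :=
        Nat.Prime.factorization_pos_of_dvd hp Nat.card_pos.ne' hpK
      calc 2 ≤ p := hp.two_le
        _ = p ^ 1 := (pow_one p).symm
        _ ≤ p ^ (Nat.card K).factorization p := Nat.pow_le_pow_right hp.pos h5
    have h6 : 0 < Nat.card N₀ := Nat.card_pos
    calc Nat.card N₀ < Nat.card N₀ * 2 := by omega
      _ ≤ Nat.card N₀ * Nat.card (P₀ : Subgroup K) := Nat.mul_le_mul_left _ h4
      _ = Nat.card K := h3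

theorem main {G : Type*} [Group G] [Finite G]
    (σ τ π : Set ℕ) (hπ : π = σ ∪ τ) (hd : Disjoint σ τ) (H Hs Ht : Subgroup G)
    (hH : Cfsg.IsPiHall π H)
    (hs : Cfsg.IsPiSubgroup σ Hs) (ht : Cfsg.IsPiSubgroup τ Ht) (hsn : Group.IsNilpotent Hs)
    (hjoin : Hs ⊔ Ht = H) (hcomm : ∀ a ∈ Hs, ∀ b ∈ Ht, a * b = b * a)
    (hD : Cfsg.IsDPiGroup τ G) :
    ∀ n : ℕ, ∀ K : Subgroup G, Nat.card K = n → Cfsg.IsPiSubgroup π K →
      ∃ g : G, ∀ k ∈ K, g * k * g⁻¹ ∈ H := by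
  intro n
  induction n using Nat.strong_induction_on with
  | _ n ih =>
    intro K hn hK
    by_cases hσ : ∃ p : ℕ, p.Prime ∧ p ∈ σ ∧ p ∣ Nat.card K
    · obtain ⟨p, hp, hpσ, hpK⟩ := hσ
      haveI := Fact.mk hp
      have hpπ : p ∈ π := by rw [hπ]; exact Or.inl hpσ
      obtain ⟨S, hSH⟩ := exists_sylow_le p H (hH.2 p hp hpπ)
      have hA : ∀ x ∈ (S : Subgroup G), ∀ m ∈ H, Nat.Coprime (orderOf m) p → x * m = m * x := by
        intro x hx m hm hmp
        obtain ⟨k, hk⟩ := S.isPGroup' ⟨x, hx⟩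
        have hxk : x ^ (p ^ k) = 1 := by simpa using congrArg Subtype.val hk
        exact factA σ τ hd Hs Ht hs ht hsn hcomm p hp hpσ x m (hjoin ▸ hSH hx) (hjoin ▸ hm) k
          hxk hmp
      have hcent : ∀ Q : Subgroup G, Q ≤ K → IsPGroup p Q → ∀ g ∈ K,
          (∀ y ∈ Q, g * y * g⁻¹ ∈ Q) → Nat.Coprime (orderOf g) p → ∀ y ∈ Q, g * y = y * g := by
        intro Q _ hQ g hgK hgQ hgp
        exact lemC π H hH p S hA Q hQ g hgQ hgp
          (fun q hq hqg => hK q hq (hqg.trans (Subgroup.orderOf_dvd_natCard K hgK)))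
      obtain ⟨N, P, hNK, hPK, hPp, hNp, hNn, hdec, hlt⟩ := frob K p hcent hpK
      have hNπ : Cfsg.IsPiSubgroup π N :=
        fun r hr hrN => hK r hr (hrN.trans (Subgroup.card_dvd_of_le hNK))
      obtain ⟨g₁, hg₁⟩ := ih (Nat.card N) (hn ▸ hlt) N rfl hNπ
      obtain ⟨c, hcN, hcP⟩ := step H p S hA (N.map (MulAut.conj g₁).toMonoidHom)
        (by
          rintro _ ⟨m, hm, rfl⟩
          exact hg₁ m hm)
        (by
          rw [Subgroup.card_map_of_injective (MulAut.conj g₁).injective]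
          exact hNp)
        (P.map (MulAut.conj g₁).toMonoidHom) (hPp.map _)
        (by
          rintro _ ⟨x, hx, rfl⟩ _ ⟨m, hm, rfl⟩
          refine ⟨x * m * x⁻¹, hNn x (hPK hx) m hm, ?_⟩
          show (MulAut.conj g₁) (x * m * x⁻¹) =
            (MulAut.conj g₁) x * (MulAut.conj g₁) m * ((MulAut.conj g₁) x)⁻¹
          rw [map_mul, map_mul, map_inv])
      refine ⟨c * g₁, fun k hk => ?_⟩
      obtain ⟨m, hm, x, hx, rfl⟩ := hdec k hk
      have e : c * g₁ * (m * x) * (c * g₁)⁻¹ =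
          (c * (g₁ * m * g₁⁻¹) * c⁻¹) * (c * (g₁ * x * g₁⁻¹) * c⁻¹) := by group
      rw [e]
      have h1 : c * (g₁ * m * g₁⁻¹) * c⁻¹ = g₁ * m * g₁⁻¹ := by
        rw [hcN (g₁ * m * g₁⁻¹) ⟨m, hm, rfl⟩]; group
      rw [h1]
      exact H.mul_mem (hg₁ m hm) (hSH (hcP (g₁ * x * g₁⁻¹) ⟨x, hx, rfl⟩))
    · have hKτ : Cfsg.IsPiSubgroup τ K := by
        intro r hr hrK
        have h1 := hK r hr hrK
        rw [hπ] at h1
        rcases h1 with h | h
        · exact absurd ⟨r, hr, h, hrK⟩ hσ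
        · exact h
      obtain ⟨K', hKK', hK'max⟩ := Finite.exists_le_maximal hKτ
      have hnorm : Hs ≤ Subgroup.normalizer (Ht : Set G) := by
        intro a ha
        rw [Subgroup.mem_normalizer_iff]
        intro b
        constructor
        · intro hb
          have e : a * b * a⁻¹ = b := by rw [hcomm a ha b hb]; group
          rw [e]; exact hb
        · intro hb
          have h := hcomm a⁻¹ (Hs.inv_mem ha) _ hb
          have e : b = a * b * a⁻¹ := by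
            calc b = a⁻¹ * (a * b * a⁻¹) * a := by group
              _ = (a * b * a⁻¹) * a⁻¹ * a := by rw [h]
              _ = a * b * a⁻¹ := by group
          rw [e]; exact hb
      have hHtmax : Maximal (Cfsg.IsPiSubgroup τ) Ht := by
        refine ⟨ht, fun L hL hle => ?_⟩
        rw [← Subgroup.relIndex_eq_one, Nat.eq_one_iff_not_exists_prime_dvd]
        intro q hq hqd
        have h1 : q ∈ τ := hL q hq (hqd.trans (Subgroup.relIndex_dvd_card Ht L))
        have h2 : q ∣ Ht.index := hqd.trans (Dvd.intro _ (Subgroup.relIndex_mul_index hle))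
        have hle' : Ht ≤ H := hjoin ▸ (le_sup_right : Ht ≤ Hs ⊔ Ht)
        rw [← Subgroup.relIndex_mul_index hle'] at h2
        rcases (Nat.Prime.dvd_mul hq).mp h2 with h | h
        · have e := Cfsg.Agent.S4134.relIndex_sup_norm Hs Ht hnorm
          rw [← hjoin, e] at h
          have h3 : q ∈ σ := hs q hq (h.trans (Subgroup.relIndex_dvd_card Ht Hs))
          exact Set.disjoint_left.mp hd h3 h1
        · exact hH.2 q hq (by rw [hπ]; exact Or.inr h1) h
      obtain ⟨g, hg⟩ := hD Ht K' hHtmax hK'max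
      refine ⟨g⁻¹, fun k hk => ?_⟩
      have hk' : k ∈ Ht.map (MulAut.conj g).toMonoidHom := hg ▸ hKK' hk
      obtain ⟨h, hh, rfl⟩ := hk'
      have e : g⁻¹ * (g * h * g⁻¹) * g⁻¹⁻¹ = h := by group
      show g⁻¹ * (g * h * g⁻¹) * g⁻¹⁻¹ ∈ H
      rw [e]
      exact hjoin ▸ (le_sup_right : Ht ≤ Hs ⊔ Ht) hh


/-- Let σ and τ be disjoint sets of primes with union π. Suppose a finite group G has a Hall π-subgroup H which is the direct product of a nilpotent σ-subgroup and a τ-subgroup (two elementwise-commuting subgroups generating H), and that the maximal τ-subgroups of G are pairwise conjugate. Then the maximal π-subgroups of G are pairwise conjugate. -/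
theorem result {G : Type*} [Group G] [Finite G]
    (σ τ π : Set ℕ) (hπ : π = σ ∪ τ) (hd : Disjoint σ τ) (H Hs Ht : Subgroup G) (hH : Cfsg.IsPiHall π H)
    (hs : Cfsg.IsPiSubgroup σ Hs) (ht : Cfsg.IsPiSubgroup τ Ht) (hsn : Group.IsNilpotent Hs)
    (hjoin : Hs ⊔ Ht = H) (hcomm : ∀ a ∈ Hs, ∀ b ∈ Ht, a * b = b * a) (hD : Cfsg.IsDPiGroup τ G) :
    Cfsg.IsDPiGroup π G := by
  classical
  have hmain := main σ τ π hπ hd H Hs Ht hH hs ht hsn hjoin hcomm hD
  have key : ∀ K : Subgroup G, Maximal (Cfsg.IsPiSubgroup π) K →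
      ∃ g : G, ∀ y, y ∈ K ↔ g * y * g⁻¹ ∈ H := by
    intro K hK
    obtain ⟨g, hg⟩ := hmain (Nat.card K) K rfl hK.1
    refine ⟨g, fun y => ⟨hg y, fun hy => ?_⟩⟩
    have hK' : Cfsg.IsPiSubgroup π (H.map (MulAut.conj g⁻¹).toMonoidHom) := by
      intro r hr hrd
      rw [Subgroup.card_map_of_injective (MulAut.conj g⁻¹).injective] at hrd
      exact hH.1 r hr hrd
    have hle : K ≤ H.map (MulAut.conj g⁻¹).toMonoidHom := by
      intro k hk
      refine ⟨g * k * g⁻¹, hg k hk, ?_⟩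
      show g⁻¹ * (g * k * g⁻¹) * g⁻¹⁻¹ = k
      group
    have hy' : y ∈ H.map (MulAut.conj g⁻¹).toMonoidHom := by
      refine ⟨g * y * g⁻¹, hy, ?_⟩
      show g⁻¹ * (g * y * g⁻¹) * g⁻¹⁻¹ = y
      group
    exact hK.2 hK' hle hy'
  intro K₁ K₂ hK₁ hK₂
  obtain ⟨g₁, h₁⟩ := key K₁ hK₁
  obtain ⟨g₂, h₂⟩ := key K₂ hK₂
  refine ⟨g₂⁻¹ * g₁, ?_⟩
  ext y
  constructor
  · intro hy
    refine ⟨g₁⁻¹ * (g₂ * y * g₂⁻¹) * g₁, ?_, ?_⟩
    · apply (h₁ _).mpr
      have e : g₁ * (g₁⁻¹ * (g₂ * y * g₂⁻¹) * g₁) * g₁⁻¹ = g₂ * y * g₂⁻¹ := by group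
      rw [e]
      exact (h₂ y).mp hy
    · show (g₂⁻¹ * g₁) * (g₁⁻¹ * (g₂ * y * g₂⁻¹) * g₁) * (g₂⁻¹ * g₁)⁻¹ = y
      group
  · rintro ⟨k, hk, rfl⟩
    apply (h₂ _).mpr
    show g₂ * ((g₂⁻¹ * g₁) * k * (g₂⁻¹ * g₁)⁻¹) * g₂⁻¹ ∈ H
    have e : g₂ * ((g₂⁻¹ * g₁) * k * (g₂⁻¹ * g₁)⁻¹) * g₂⁻¹ = g₁ * k * g₁⁻¹ := by group
    rw [e]
    exact (h₁ k).mp hk

end Cfsg.Agent.S4334
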