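import Cfsg.Statements.S4347
import Mathlib
-- import your own Cfsg.Agent.* helpers here

set_option autoImplicit false
open Cfsg

namespace Cfsg.Agent.S4347

open scoped Pointwise

theorem mem_inv_smul_sylow {G : Type*} [Group G] {p : ℕ} (g x : G) (P : Sylow p G) :
    x ∈ (g⁻¹ • P : Sylow p G) ↔ g * x * g⁻¹ ∈ P := by
  show x ∈ ((g⁻¹ • P : Sylow p G) : Subgroup G) ↔ g * x * g⁻¹ ∈ (P : Subgroup G)
  rw [Sylow.coe_subgroup_smul, Subgroup.mem_pointwise_smul_iff_inv_smul_mem, MulAut.smul_def,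
    ← map_inv, inv_inv, MulAut.conj_apply]


/-- Let G be a finite group and p a prime. Say a Sylow p-subgroup Q is redundant when every element of p-power order lies in some Sylow p-subgroup other than Q. Then G has no redundant Sylow p-subgroup if and only if some element of p-power order lies in exactly one Sylow p-subgroup. -/
theorem result {G : Type*} [Group G] [Finite G]
    (p : ℕ) [Fact p.Prime] :
    (¬ ∃ Q : Sylow p G, ∀ x : G, (∃ k : ℕ, orderOf x = p ^ k) → ∃ P : Sylow p G, P ≠ Q ∧ x ∈ P) ↔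
      ∃ x : G, (∃ k : ℕ, orderOf x = p ^ k) ∧ ∃! P : Sylow p G, x ∈ P := by
  constructor
  · intro h
    push Not at h
    obtain ⟨Q⟩ : Nonempty (Sylow p G) := inferInstance
    obtain ⟨x, hx, hxQ⟩ := h Q
    refine ⟨x, hx, ?_⟩
    obtain ⟨k, hk⟩ := hx
    have hpg : IsPGroup p (Subgroup.zpowers x) := by
      apply IsPGroup.of_card (n := k)
      rw [Nat.card_zpowers, hk]
    obtain ⟨P₀, hP₀⟩ := hpg.exists_le_sylow
    have hxP₀ : x ∈ P₀ := hP₀ (Subgroup.mem_zpowers x)
    have hP₀Q : P₀ = Q := by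
      by_contra hne
      exact hxQ P₀ hne hxP₀
    refine ⟨Q, hP₀Q ▸ hxP₀, ?_⟩
    intro P hP
    by_contra hne
    exact hxQ P hne hP
  · rintro ⟨x, ⟨k, hk⟩, P₀, hxP₀, huniq⟩ ⟨Q, hQ⟩
    obtain ⟨g, hg⟩ := MulAction.exists_smul_eq G P₀ Q
    have hord : orderOf (g * x * g⁻¹) = p ^ k := by
      rw [← hk]
      have := orderOf_injective (MulAut.conj g).toMonoidHom (MulAut.conj g).injective x
      simpa using this
    obtain ⟨P, hPQ, hxP⟩ := hQ (g * x * g⁻¹) ⟨k, hord⟩
    have h1 : g⁻¹ • P = P₀ := huniq _ ((mem_inv_smul_sylow g x P).mpr hxP)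
    apply hPQ
    rw [← hg, ← h1, smul_inv_smul]

end Cfsg.Agent.S4347
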