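import Cfsg.Statements.S4348

set_option autoImplicit false
open Cfsg

namespace Cfsg.Agent.S4348

theorem pCore_le_sylow {G : Type*} [Group G] [Finite G] (p : ℕ) [Fact p.Prime] (Q : Sylow p G) :
    Cfsg.pCore p G ≤ (Q : Subgroup G) := by
  unfold Cfsg.pCore
  apply sSup_le
  rintro N ⟨hN, hNp⟩
  have := hN
  have h1 : IsPGroup p (N ⊔ (Q : Subgroup G) : Subgroup G) :=
    IsPGroup.to_sup_of_normal_left hNp Q.isPGroup'
  have h2 : (N ⊔ (Q : Subgroup G) : Subgroup G) = Q := Q.is_maximal' h1 le_sup_right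
  calc N ≤ N ⊔ (Q : Subgroup G) := le_sup_left
    _ = Q := h2

/-- Let G be a finite group, p a prime and P a Sylow p-subgroup of G, and let O_p(G) be the largest normal p-subgroup of G. If P/O_p(G) is cyclic, then some element of p-power order of G lies in exactly one Sylow p-subgroup. -/
theorem result {G : Type*} [Group G] [Finite G]
    (p : ℕ) [Fact p.Prime] (P : Sylow p G)
    [hn : ((Cfsg.pCore p G).subgroupOf (P : Subgroup G)).Normal]
    (hc : IsCyclic ((P : Subgroup G) ⧸ (Cfsg.pCore p G).subgroupOf (P : Subgroup G))) :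
    ∃ x : G, (∃ k : ℕ, orderOf x = p ^ k) ∧ ∃! Q : Sylow p G, x ∈ Q := by
  obtain ⟨g, hg⟩ := hc.exists_generator
  obtain ⟨x, rfl⟩ := QuotientGroup.mk_surjective g
  refine ⟨(x : G), ?_, P, x.2, ?_⟩
  · obtain ⟨k, hk⟩ := P.isPGroup' x
    obtain ⟨j, -, hj⟩ := (Nat.dvd_prime_pow (Fact.out : p.Prime)).1 (orderOf_dvd_of_pow_eq_one hk)
    exact ⟨j, by rw [← hj, Subgroup.orderOf_coe]⟩
  · intro Q hxQ
    have hPQ : (P : Subgroup G) ≤ (Q : Subgroup G) := by
      intro y hy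
      have hmem := hg (QuotientGroup.mk (⟨y, hy⟩ : (P : Subgroup G)))
      obtain ⟨n, hn'⟩ := Subgroup.mem_zpowers_iff.1 hmem
      rw [← QuotientGroup.mk_zpow, QuotientGroup.eq, Subgroup.mem_subgroupOf] at hn'
      have h1 : ((x ^ n)⁻¹ * (⟨y, hy⟩ : (P : Subgroup G)) : (P : Subgroup G)).1 ∈ (Q : Subgroup G) :=
        pCore_le_sylow p Q hn'
      have h2 : ((x : G)) ^ n ∈ (Q : Subgroup G) := Subgroup.zpow_mem _ hxQ n
      have h3 : y = (x : G) ^ n * ((x ^ n)⁻¹ * (⟨y, hy⟩ : (P : Subgroup G)) : (P : Subgroup G)).1 := by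
        simp
      rw [h3]
      exact Subgroup.mul_mem _ h2 h1
    have h := P.is_maximal' Q.isPGroup' hPQ
    exact Sylow.ext h

end Cfsg.Agent.S4348
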