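import Cfsg.Statements.S4370
import Cfsg.Agent.Helper15.Rank
import Cfsg.Agent.Helper19.Nilpotent
import Cfsg.Agent.Helper8.Nilp

set_option autoImplicit false
open Cfsg

namespace Cfsg.Agent.S4370

open Cfsg.Agent.Helper15

theorem zmod_double {N : ℕ} [NeZero N] (j : ZMod (2 * N)) (h : j + j = 0) :
    j = 0 ∨ j = (N : ZMod (2 * N)) := by
  haveI : NeZero (2 * N) := ⟨by have := NeZero.pos N; omega⟩
  have h1 := congrArg ZMod.val h
  rw [ZMod.val_add, ZMod.val_zero] at h1
  have h2 : j.val < 2 * N := ZMod.val_lt j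
  have h3 : j.val = 0 ∨ j.val = N := by
    have h4 : 2 * N ∣ j.val + j.val := Nat.dvd_of_mod_eq_zero h1
    obtain ⟨d, hd⟩ := h4
    have h5 : d = 0 ∨ d = 1 := by
      rcases Nat.lt_or_ge d 2 with hlt | hge
      · omega
      · exfalso
        have h6 : 2 * N * 2 ≤ 2 * N * d := Nat.mul_le_mul_left _ hge
        omega
    rcases h5 with rfl | rfl
    · left; omega
    · right; omega
  rcases h3 with h3 | h3
  · left; exact (ZMod.val_eq_zero j).mp h3
  · right
    rw [← ZMod.natCast_zmod_val j, h3]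

/-- In `Q × C` (generalized quaternion times cyclic of odd order) the centralizer of a noncentral
element lies in a cyclic subgroup. -/
theorem cent_le {N m : ℕ} (k : ℕ) (hN : N = 2 ^ k) (hm : Odd m)
    (y : QuaternionGroup N × Multiplicative (ZMod m))
    (hy : y ∉ Subgroup.center (QuaternionGroup N × Multiplicative (ZMod m))) :
    ∃ w, Subgroup.centralizer ({y} : Set (QuaternionGroup N × Multiplicative (ZMod m))) ≤
      Subgroup.zpowers w := by
  haveI hNne : NeZero N := ⟨by rw [hN]; positivity⟩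
  haveI : NeZero (2 * N) := ⟨by have := NeZero.pos N; omega⟩
  haveI : NeZero m := ⟨by rintro rfl; exact (by decide : ¬ Odd 0) hm⟩
  have hnn : (N : ZMod (2 * N)) + N = 0 := by
    rw [← Nat.cast_add, ← two_mul]; exact ZMod.natCast_self _
  have hc₀ : ∀ c' : Multiplicative (ZMod m),
      ∃ t : ℕ, (Multiplicative.ofAdd (1 : ZMod m)) ^ t = c' := by
    intro c'
    refine ⟨(Multiplicative.toAdd c').val, ?_⟩
    rw [← ofAdd_nsmul, nsmul_one, ZMod.natCast_zmod_val]
    rfl
  have hc₀m : (Multiplicative.ofAdd (1 : ZMod m)) ^ m = 1 := by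
    rw [← ofAdd_nsmul, nsmul_one, ZMod.natCast_self]
    rfl
  have hE : ∀ g : QuaternionGroup N, g ^ (4 * N) = 1 := by
    intro g
    have h1 := pow_card_eq_one (x := g)
    rwa [QuaternionGroup.card] at h1
  have hcop : Nat.Coprime (4 * N) m := by
    have h4 : 4 * N = 2 ^ (k + 2) := by rw [hN, pow_add]; ring
    rw [h4]
    exact Nat.Coprime.pow_left _ (Nat.coprime_two_left.mpr hm)
  have hcomb : ∀ (g₀ : QuaternionGroup N) (s t : ℕ),
      (g₀ ^ s, (Multiplicative.ofAdd (1 : ZMod m)) ^ t) ∈
        Subgroup.zpowers (g₀, Multiplicative.ofAdd (1 : ZMod m)) := by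
    intro g₀ s t
    obtain ⟨u, hu1, hu2⟩ := Nat.chineseRemainder hcop s t
    refine Subgroup.mem_zpowers_iff.mpr ⟨(u : ℤ), ?_⟩
    rw [zpow_natCast, Prod.pow_mk]
    congr 1
    · exact pow_eq_pow_iff_modEq.mpr (hu1.of_dvd (orderOf_dvd_of_pow_eq_one (hE g₀)))
    · exact pow_eq_pow_iff_modEq.mpr (hu2.of_dvd (orderOf_dvd_of_pow_eq_one hc₀m))
  obtain ⟨q, c⟩ := y
  rcases q with i | i
  · have hi : i + i ≠ 0 := by
      intro hii
      apply hy
      rw [Subgroup.mem_center_iff]
      rintro ⟨q', c'⟩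
      rw [Prod.mk_mul_mk, Prod.mk_mul_mk]
      congr 1
      · rcases q' with j | j
        · rw [QuaternionGroup.a_mul_a, QuaternionGroup.a_mul_a, add_comm]
        · rw [QuaternionGroup.xa_mul_a, QuaternionGroup.a_mul_xa]
          congr 1
          have h1 : i = -i := eq_neg_of_add_eq_zero_left hii
          rw [sub_eq_add_neg, ← h1]
      · exact mul_comm _ _
    refine ⟨(QuaternionGroup.a 1, Multiplicative.ofAdd (1 : ZMod m)), ?_⟩
    rintro ⟨q', c'⟩ hq
    rw [Subgroup.mem_centralizer_iff] at hq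
    have h1 := hq _ (Set.mem_singleton _)
    rw [Prod.mk_mul_mk, Prod.mk_mul_mk] at h1
    have h2 : QuaternionGroup.a i * q' = q' * QuaternionGroup.a i := (Prod.mk.inj h1).1
    obtain ⟨t, ht⟩ := hc₀ c'
    rcases q' with j | j
    · have h3 : (QuaternionGroup.a j : QuaternionGroup N) = (QuaternionGroup.a 1) ^ j.val := by
        rw [QuaternionGroup.a_one_pow, ZMod.natCast_zmod_val]
      rw [h3, ← ht]
      exact hcomb _ _ _
    · exfalso
      rw [QuaternionGroup.a_mul_xa, QuaternionGroup.xa_mul_a] at h2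
      have h3 : j - i = j + i := QuaternionGroup.xa.inj h2
      apply hi
      have h4 : i + i = (j + i) - (j - i) := by ring
      rw [h4, h3, sub_self]
  · refine ⟨(QuaternionGroup.xa i, Multiplicative.ofAdd (1 : ZMod m)), ?_⟩
    rintro ⟨q', c'⟩ hq
    rw [Subgroup.mem_centralizer_iff] at hq
    have h1 := hq _ (Set.mem_singleton _)
    rw [Prod.mk_mul_mk, Prod.mk_mul_mk] at h1
    have h2 : QuaternionGroup.xa i * q' = q' * QuaternionGroup.xa i := (Prod.mk.inj h1).1
    obtain ⟨t, ht⟩ := hc₀ c'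
    rcases q' with j | j
    · rw [QuaternionGroup.xa_mul_a, QuaternionGroup.a_mul_xa] at h2
      have h3 : i + j = i - j := QuaternionGroup.xa.inj h2
      have h4 : j + j = 0 := by
        have h5 : j + j = (i + j) - (i - j) := by ring
        rw [h5, h3, sub_self]
      rcases zmod_double j h4 with h5 | h5
      · have h6 : (QuaternionGroup.a j : QuaternionGroup N) = (QuaternionGroup.xa i) ^ 0 := by
          rw [pow_zero, h5]; rfl
        rw [h6, ← ht]; exact hcomb _ _ _
      · have h6 : (QuaternionGroup.a j : QuaternionGroup N) = (QuaternionGroup.xa i) ^ 2 := by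
          rw [QuaternionGroup.xa_sq, h5]
        rw [h6, ← ht]; exact hcomb _ _ _
    · rw [QuaternionGroup.xa_mul_xa, QuaternionGroup.xa_mul_xa] at h2
      have h3 : (N : ZMod (2 * N)) + j - i = (N : ZMod (2 * N)) + i - j := QuaternionGroup.a.inj h2
      have h4 : (j - i) + (j - i) = 0 := by
        have h5 : (j - i) + (j - i) =
            ((N : ZMod (2 * N)) + j - i) - ((N : ZMod (2 * N)) + i - j) := by ring
        rw [h5, h3, sub_self]
      rcases zmod_double (j - i) h4 with h5 | h5
      · have h6 : j = i := sub_eq_zero.mp h5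
        have h7 : (QuaternionGroup.xa j : QuaternionGroup N) = (QuaternionGroup.xa i) ^ 1 := by
          rw [pow_one, h6]
        rw [h7, ← ht]; exact hcomb _ _ _
      · have h6 : j = i + N := by rw [← h5]; ring
        have h7 : (QuaternionGroup.xa j : QuaternionGroup N) = (QuaternionGroup.xa i) ^ 3 := by
          have e3 : (QuaternionGroup.xa i : QuaternionGroup N) ^ 3 =
              (QuaternionGroup.xa i) ^ 2 * QuaternionGroup.xa i := pow_succ _ 2
          rw [e3, QuaternionGroup.xa_sq, QuaternionGroup.a_mul_xa, h6]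
          congr 1
          have h8 : (N : ZMod (2 * N)) = -(N : ZMod (2 * N)) := eq_neg_of_add_eq_zero_left hnn
          rw [sub_eq_add_neg, ← h8]
        rw [h7, ← ht]; exact hcomb _ _ _

theorem backward {G : Type*} [Group G] (k m : ℕ) (hm : Odd m)
    (e : G ≃* QuaternionGroup (2 ^ k) × Multiplicative (ZMod m)) (x : G)
    (hx : x ∉ Subgroup.center G) : IsCyclic (Subgroup.centralizer ({x} : Set G)) := by
  have hy : e x ∉ Subgroup.center (QuaternionGroup (2 ^ k) × Multiplicative (ZMod m)) := by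
    intro h
    apply hx
    rw [Subgroup.mem_center_iff] at h ⊢
    intro g
    apply e.injective
    rw [map_mul, map_mul]
    exact h (e g)
  obtain ⟨w, hw⟩ := cent_le k rfl hm (e x) hy
  apply Subgroup.isCyclic_of_le (H' := Subgroup.zpowers (e.symm w))
  intro g hg
  have h1 : e g ∈ Subgroup.centralizer
      ({e x} : Set (QuaternionGroup (2 ^ k) × Multiplicative (ZMod m))) := by
    rw [Subgroup.mem_centralizer_iff] at hg ⊢
    intro z hz
    rw [Set.mem_singleton_iff] at hz
    rw [hz, ← map_mul, ← map_mul, hg x (Set.mem_singleton x)]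
  obtain ⟨u, hu⟩ := Subgroup.mem_zpowers_iff.mp (hw h1)
  refine Subgroup.mem_zpowers_iff.mpr ⟨u, ?_⟩
  rw [← map_zpow, hu, MulEquiv.symm_apply_apply]

theorem forward {G : Type*} [Group G] [Finite G] (hG : Group.IsNilpotent G)
    (hna : ¬ IsMulCommutative G)
    (hcyc : ∀ x : G, x ∉ Subgroup.center G → IsCyclic (Subgroup.centralizer ({x} : Set G))) :
    ∃ (k m : ℕ), 1 ≤ k ∧ Odd m ∧
      Nonempty (G ≃* QuaternionGroup (2 ^ k) × Multiplicative (ZMod m)) := by
  classical
  haveI := hG
  obtain ⟨x₀, hx₀⟩ : ∃ x₀ : G, x₀ ∉ Subgroup.center G := by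
    by_contra h
    push Not at h
    apply hna
    exact ⟨⟨fun a b => (Subgroup.mem_center_iff.mp (h b) a)⟩⟩
  have habc : ∀ E : Subgroup G, IsMulCommutative ↥E → IsCyclic ↥E := by
    intro E hE
    by_cases hEc : E ≤ Subgroup.center G
    · haveI := hcyc x₀ hx₀
      apply Subgroup.isCyclic_of_le (H' := Subgroup.centralizer ({x₀} : Set G))
      intro e he
      rw [Subgroup.mem_centralizer_iff]
      intro y hy
      rw [Set.mem_singleton_iff] at hy
      rw [hy]
      exact (Subgroup.mem_center_iff.mp (hEc he) x₀)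
    · obtain ⟨x, hxE, hxc⟩ := SetLike.not_le_iff_exists.mp hEc
      haveI := hcyc x hxc
      apply Subgroup.isCyclic_of_le (H' := Subgroup.centralizer ({x} : Set G))
      intro e he
      rw [Subgroup.mem_centralizer_iff]
      intro y hy
      rw [Set.mem_singleton_iff] at hy
      rw [hy]
      have h1 := hE.is_comm.comm (⟨x, hxE⟩ : ↥E) ⟨e, he⟩
      exact congrArg Subtype.val h1
  have hsyl : ∀ (p : ℕ) [Fact p.Prime] (P : Sylow p G),
      IsCyclic ↥(P : Subgroup G) ∨
        (p = 2 ∧ ∃ n : ℕ, Nonempty (↥(P : Subgroup G) ≃* QuaternionGroup (2 ^ n))) := by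
    intro p _ P
    exact cyclic_or_quaternion_of_abelian_cyclic (P : Subgroup G) P.isPGroup'
      (fun E _ hE => habc E hE)
  obtain ⟨P, n, ⟨e⟩, hPnc⟩ : ∃ (P : Sylow 2 G) (n : ℕ),
      Nonempty (↥(P : Subgroup G) ≃* QuaternionGroup (2 ^ n)) ∧
        ¬ IsMulCommutative ↥(P : Subgroup G) := by
    by_contra hcon
    apply hna
    refine ⟨⟨Cfsg.Agent.Helper19.mul_comm_of_nilpotent_of_sylow_comm ?_⟩⟩
    intro p _ Q
    by_contra hQ
    rcases hsyl p Q with h | ⟨hp2, n, hn⟩
    · apply hQ
      haveI := h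
      infer_instance
    · subst hp2
      exact hcon ⟨Q, n, hn, hQ⟩
  have hn1 : 1 ≤ n := by
    by_contra h0
    have hn0 : n = 0 := by omega
    subst hn0
    apply hPnc
    haveI : IsCyclic (QuaternionGroup (2 ^ 0)) := QuaternionGroup.quaternionGroup_one_isCyclic
    haveI : IsCyclic ↥(P : Subgroup G) := isCyclic_of_surjective e.symm e.symm.surjective
    infer_instance
  haveI hPn : (P : Subgroup G).Normal :=
    Sylow.normal_of_normalizerCondition Group.normalizerCondition_of_isNilpotent P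
  have hcop : Nat.Coprime (Nat.card (P : Subgroup G)) (P : Subgroup G).index := by
    obtain ⟨j, hj⟩ := IsPGroup.iff_card.mp P.isPGroup'
    rw [hj]
    exact Nat.Coprime.pow_left j ((Nat.Prime.coprime_iff_not_dvd Nat.prime_two).mpr P.not_dvd_index)
  obtain ⟨K, hK⟩ := Subgroup.exists_right_complement'_of_coprime hcop
  have hKcard : Nat.card K = (P : Subgroup G).index := (hK.symm.index_eq_card).symm
  have hKodd : Odd (Nat.card K) := by
    rw [hKcard]
    exact Nat.not_even_iff_odd.mp (fun h => P.not_dvd_index (even_iff_two_dvd.mp h))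
  have hcomm : ∀ a ∈ (P : Subgroup G), ∀ b ∈ K, a * b = b * a := by
    intro a ha b hb
    apply Cfsg.Agent.Helper8.comm_of_coprime_nilpotent
    obtain ⟨i, hi⟩ := P.isPGroup' ⟨a, ha⟩
    have hi' : a ^ 2 ^ i = 1 := by
      have h1 := congrArg Subtype.val hi
      simpa using h1
    have h1 : orderOf a ∣ 2 ^ i := orderOf_dvd_of_pow_eq_one hi'
    have h2 : orderOf b ∣ Nat.card K := Subgroup.orderOf_dvd_natCard K hb
    have h3 : Nat.Coprime (2 ^ i) (Nat.card K) :=
      Nat.Coprime.pow_left i (Nat.coprime_two_left.mpr hKodd)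
    exact Nat.Coprime.coprime_dvd_left h1 (Nat.Coprime.coprime_dvd_right h2 h3)
  obtain ⟨x, hxP, hxc⟩ : ∃ x ∈ (P : Subgroup G), x ∉ Subgroup.center G := by
    by_contra h
    push Not at h
    apply hPnc
    exact ⟨⟨fun a b => Subtype.ext (Subgroup.mem_center_iff.mp (h b b.2) a)⟩⟩
  have hKcyc : IsCyclic ↥K := by
    haveI := hcyc x hxc
    apply Subgroup.isCyclic_of_le (H' := Subgroup.centralizer ({x} : Set G))
    intro b hb
    rw [Subgroup.mem_centralizer_iff]
    intro y hy
    rw [Set.mem_singleton_iff] at hy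
    rw [hy]; exact hcomm x hxP b hb
  have hmulhom : ∀ z z' : ↥(P : Subgroup G) × ↥K,
      ((z * z').1 : G) * ((z * z').2 : G) = ((z.1 : G) * (z.2 : G)) * ((z'.1 : G) * (z'.2 : G)) := by
    rintro ⟨a, b⟩ ⟨a', b'⟩
    show ((a * a' : ↥(P : Subgroup G)) : G) * ((b * b' : ↥K) : G) =
      (a : G) * (b : G) * ((a' : G) * (b' : G))
    rw [Subgroup.coe_mul, Subgroup.coe_mul]
    have h1 := hcomm a' a'.2 b b.2
    calc (a : G) * a' * (b * b') = a * (a' * b) * b' := by group
      _ = a * (b * a') * b' := by rw [h1]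
      _ = a * b * (a' * b') := by group
  have hbij : Function.Bijective
      (MonoidHom.mk' (fun z : ↥(P : Subgroup G) × ↥K => (z.1 : G) * (z.2 : G)) hmulhom) := hK
  refine ⟨n, Nat.card K, hn1, hKodd, ⟨?_⟩⟩
  exact (MulEquiv.ofBijective _ hbij).symm.trans
    (MulEquiv.prodCongr e (zmodCyclicMulEquiv hKcyc).symm)


/-- Let G be a finite non-abelian nilpotent group. Then the centralizer of every non-central element of G is cyclic if and only if G is isomorphic to the direct product of a generalized quaternion group and a cyclic group of odd order. -/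
theorem result {G : Type*} [Group G] [Finite G] (hG : Group.IsNilpotent G)
    (hna : ¬ IsMulCommutative G) :
    (∀ x : G, x ∉ Subgroup.center G → IsCyclic (Subgroup.centralizer ({x} : Set G))) ↔
      ∃ (k m : ℕ), 1 ≤ k ∧ Odd m ∧ Nonempty (G ≃* QuaternionGroup (2 ^ k) × Multiplicative (ZMod m)) := by

  constructor
  · exact forward hG hna
  · rintro ⟨k, m, -, hm, ⟨e⟩⟩ x hx
    exact backward k m hm e x hx

end Cfsg.Agent.S4370
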