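import Cfsg.Statements.S4398
import Mathlib
import Cfsg.Agent.Helper8.MaxClass
import Cfsg.Agent.S0115
import Cfsg.Agent.S4143
import Cfsg.Agent.S4399
import Cfsg.Agent.S1386

set_option autoImplicit false
open Cfsg

namespace Cfsg.Agent.S4398

theorem exists_sq_mem {S : Type*} [Group S] [Finite S] (hP : IsPGroup 2 S) (H C : Subgroup S)
    (y : S) (hyC : y ∈ C) (hyH : y ∉ H) : ∃ x ∈ C, x ∉ H ∧ x * x ∈ H := by
  classical
  obtain ⟨e, he⟩ := hP y
  have hex : ∃ i : ℕ, y ^ 2 ^ i ∈ H := ⟨e, by rw [he]; exact one_mem _⟩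
  obtain ⟨j, hj, hmin⟩ : ∃ j, y ^ 2 ^ j ∈ H ∧ ∀ i < j, y ^ 2 ^ i ∉ H :=
    ⟨Nat.find hex, Nat.find_spec hex, fun i hi => Nat.find_min hex hi⟩
  have hj0 : j ≠ 0 := by
    intro h
    rw [h, pow_zero, pow_one] at hj
    exact hyH hj
  refine ⟨y ^ 2 ^ (j - 1), C.pow_mem hyC _, hmin (j - 1) (by omega), ?_⟩
  have hj' : j = (j - 1) + 1 := by omega
  have h2 : 2 ^ (j - 1) + 2 ^ (j - 1) = 2 ^ j := by
    calc 2 ^ (j - 1) + 2 ^ (j - 1) = 2 ^ (j - 1 + 1) := by rw [pow_succ]; ring
      _ = 2 ^ j := by rw [← hj']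
  rw [← pow_add, h2]; exact hj

/-- In a 2-group of sectional 2-rank at most 2, a non-abelian subgroup of order 8 contains its
centralizer. -/
theorem centralizer_le {S : Type*} [Group S] [Finite S] (hP : IsPGroup 2 S)
    (hr : Cfsg.SectionalPRankLE 2 2 S)
    (H : Subgroup S) (hH8 : Nat.card H = 8) (hHna : ¬ IsMulCommutative H) :
    Subgroup.centralizer (H : Set S) ≤ H := by
  haveI : Fact (Nat.Prime 2) := ⟨Nat.prime_two⟩
  obtain ⟨k, hk1, hk3, hk2, hcZ, hcQ⟩ := Cfsg.Agent.Helper8.center_card (p := 2) (X := ↥H) 3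
    (by norm_num) (by rw [hH8]; norm_num)
  have hk : k = 1 := by
    by_contra hne
    have hk3' : k = 3 := by omega
    apply hHna
    have htop : Subgroup.center ↥H = ⊤ := by
      apply Subgroup.eq_top_of_card_eq
      rw [hcZ, hk3', hH8]; norm_num
    refine ⟨⟨fun a b => ?_⟩⟩
    have hb : b ∈ Subgroup.center ↥H := by rw [htop]; trivial
    exact (Subgroup.mem_center_iff.mp hb a)
  subst hk
  rw [pow_one] at hcZ
  have hcQ4 : Nat.card (↥H ⧸ Subgroup.center ↥H) = 4 := by rw [hcQ]; norm_num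
  have hsq : ∀ h : ↥H, h * h ∈ Subgroup.center ↥H := by
    intro h
    by_contra hcon
    apply hHna
    have ho : orderOf (QuotientGroup.mk h : ↥H ⧸ Subgroup.center ↥H) = 4 := by
      have h1 : orderOf (QuotientGroup.mk h : ↥H ⧸ Subgroup.center ↥H) ∣ 2 ^ 2 := by
        have := orderOf_dvd_natCard (QuotientGroup.mk h : ↥H ⧸ Subgroup.center ↥H)
        rw [hcQ4] at this
        exact this
      obtain ⟨j, hj, hoj⟩ := (Nat.dvd_prime_pow Nat.prime_two).mp h1
      have hy2 : (QuotientGroup.mk h : ↥H ⧸ Subgroup.center ↥H) ^ 2 ≠ 1 := by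
        intro h'
        apply hcon
        have h'' : (QuotientGroup.mk h : ↥H ⧸ Subgroup.center ↥H) * QuotientGroup.mk h = 1 := by
          rw [← pow_two]; exact h'
        rw [← QuotientGroup.eq_one_iff, QuotientGroup.mk_mul]
        exact h''
      have hj2 : j = 2 := by
        by_contra hne
        have hj01 : j = 0 ∨ j = 1 := by omega
        apply hy2
        rw [← orderOf_dvd_iff_pow_eq_one, hoj]
        rcases hj01 with rfl | rfl <;> norm_num
      rw [hoj, hj2]; norm_num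
    haveI hcyc : IsCyclic (↥H ⧸ Subgroup.center ↥H) :=
      isCyclic_of_orderOf_eq_card (QuotientGroup.mk h : ↥H ⧸ Subgroup.center ↥H)
        (by rw [ho, hcQ4])
    have hker : (QuotientGroup.mk' (Subgroup.center ↥H)).ker ≤ Subgroup.center ↥H := by
      rw [QuotientGroup.ker_mk']
    exact MonoidHom.isMulCommutative_of_isCyclic_of_ker_le_center
      (QuotientGroup.mk' (Subgroup.center ↥H)) hker
  obtain ⟨Z, hZdef⟩ : ∃ Z : Subgroup S, Z = (Subgroup.center ↥H).map H.subtype := ⟨_, rfl⟩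
  have hZH : Z ≤ H := by rw [hZdef]; exact Subgroup.map_subtype_le _
  have hZ2 : Nat.card Z = 2 := by
    rw [hZdef, Subgroup.card_map_of_injective H.subtype_injective, hcZ]
  have hZcomm : ∀ z ∈ Z, ∀ h ∈ H, h * z = z * h := by
    intro z hz h hh
    rw [hZdef] at hz
    obtain ⟨c, hc, rfl⟩ := hz
    have := Subgroup.mem_center_iff.mp hc ⟨h, hh⟩
    exact congrArg Subtype.val this
  have hHC : ∀ x ∈ H, x ∈ Subgroup.centralizer (H : Set S) → x ∈ Z := by
    intro x hx hxC
    rw [hZdef]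
    refine ⟨⟨x, hx⟩, ?_, rfl⟩
    rw [SetLike.mem_coe, Subgroup.mem_center_iff]
    intro g
    apply Subtype.ext
    exact Subgroup.mem_centralizer_iff.mp hxC g g.2
  have hsqZ : ∀ h ∈ H, h * h ∈ Z := by
    intro h hh
    rw [hZdef]
    exact ⟨⟨h, hh⟩ * ⟨h, hh⟩, hsq ⟨h, hh⟩, rfl⟩
  intro y hyC
  by_contra hyH
  obtain ⟨x, hxC, hxH, hxx⟩ := exists_sq_mem hP H _ y hyC hyH
  have hxxZ : x * x ∈ Z := hHC _ hxx (Subgroup.mul_mem _ hxC hxC)
  have hxcomm : ∀ h ∈ H, h * x = x * h := fun h hh => Subgroup.mem_centralizer_iff.mp hxC h hh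
  have hcomm : ∀ a ∈ H, ∀ b ∈ Subgroup.zpowers x, a * b = b * a := by
    intro a ha b hb
    obtain ⟨i, rfl⟩ := Subgroup.mem_zpowers_iff.mp hb
    exact ((Commute.zpow_right (show Commute a x from hxcomm a ha) i)).eq
  obtain ⟨T, hTdef⟩ : ∃ T : Subgroup S, T = H ⊔ Subgroup.zpowers x := ⟨_, rfl⟩
  have hHT : H ≤ T := by rw [hTdef]; exact le_sup_left
  have hxT : x ∈ T := by rw [hTdef]; exact Subgroup.mem_sup_right (Subgroup.mem_zpowers x)
  have hTel : ∀ t ∈ T, ∃ a ∈ H, ∃ b ∈ Subgroup.zpowers x, a * b = t := by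
    intro t ht
    rw [hTdef] at ht
    exact Cfsg.Agent.S1386.mem_sup_of_comm H (Subgroup.zpowers x) hcomm ht
  have hTsq : ∀ t ∈ T, t * t ∈ Z := by
    intro t ht
    obtain ⟨a, ha, b, hb, rfl⟩ := hTel t ht
    have h1 : a * b * (a * b) = (a * a) * (b * b) := by
      calc a * b * (a * b) = a * (b * a) * b := by group
        _ = a * (a * b) * b := by rw [hcomm a ha b hb]
        _ = (a * a) * (b * b) := by group
    rw [h1]
    apply Z.mul_mem (hsqZ a ha)
    obtain ⟨i, rfl⟩ := Subgroup.mem_zpowers_iff.mp hb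
    have h2 : x ^ i * x ^ i = (x * x) ^ i := ((Commute.refl x).mul_zpow i).symm
    rw [h2]
    exact Z.zpow_mem hxxZ i
  have hZcen : ∀ z ∈ Z, ∀ t ∈ T, t * z = z * t := by
    intro z hz t ht
    obtain ⟨a, ha, b, hb, rfl⟩ := hTel t ht
    have h1 : a * z = z * a := hZcomm z hz a ha
    have h2 : z * b = b * z := hcomm z (hZH hz) b hb
    calc a * b * z = a * (b * z) := by group
      _ = a * (z * b) := by rw [h2]
      _ = (a * z) * b := by group
      _ = (z * a) * b := by rw [h1]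
      _ = z * (a * b) := by group
  obtain ⟨N, hNdef⟩ : ∃ N : Subgroup ↥T, N = Z.subgroupOf T := ⟨_, rfl⟩
  haveI hNn : N.Normal := by
    constructor
    intro n hn g
    rw [hNdef, Subgroup.mem_subgroupOf] at hn ⊢
    have h1 : ((g * n * g⁻¹ : ↥T) : S) = (n : S) := by
      have h2 := hZcen (n : S) hn (g : S) g.2
      show (g : S) * (n : S) * (g : S)⁻¹ = (n : S)
      rw [h2]; group
    rw [h1]; exact hn
  have hquot := hr T N
  have hexp : ∀ q : ↥T ⧸ N, q ^ 2 = 1 := by
    intro q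
    obtain ⟨t, rfl⟩ := QuotientGroup.mk_surjective q
    rw [← QuotientGroup.mk_pow, QuotientGroup.eq_one_iff, hNdef, Subgroup.mem_subgroupOf]
    have h1 : ((t ^ 2 : ↥T) : S) = (t : S) * (t : S) := by rw [pow_two]; rfl
    rw [h1]
    exact hTsq _ t.2
  have hcommQ : ∀ a b : ↥T ⧸ N, a * b = b * a := by
    intro a b
    exact (Commute.of_orderOf_dvd_two (fun g => orderOf_dvd_of_pow_eq_one (hexp g)) a b).eq
  have hcard := hquot ⊤ ⟨⟨fun a b => Subtype.ext (hcommQ a.1 b.1)⟩⟩ (fun a _ => hexp a)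
  rw [Subgroup.card_top] at hcard
  have hcN : Nat.card N = 2 := by
    rw [hNdef, Nat.card_congr (Subgroup.subgroupOfEquivOfLe (hZH.trans hHT)).toEquiv, hZ2]
  have hcT := Subgroup.card_eq_card_quotient_mul_card_subgroup N
  rw [hcN] at hcT
  have hlt : Nat.card H < Nat.card T := by
    by_contra hle
    push Not at hle
    have heq := Subgroup.eq_of_le_of_card_ge hHT hle
    exact hxH (by rw [heq]; exact hxT)
  rw [hH8] at hlt
  have h4 : (2:ℕ) ^ 2 = 4 := by norm_num
  rw [h4] at hcard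
  omega

/-- Let S be a finite 2-group of sectional 2-rank at most 2 that contains a subgroup isomorphic to the dihedral group of order 8 or to the quaternion group of order 8. Then S is dihedral of order at least 8, semidihedral of order at least 16 (order 2^(k+4) with an element a of order 2^(k+3) and an involution b with b a b⁻¹ = a^(2^(k+2)−1)), or generalized quaternion of order at least 8. -/
theorem result {S : Type*} [Group S] [Finite S] (h2 : IsPGroup 2 S) (hr : Cfsg.SectionalPRankLE 2 2 S)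
    (hsub : ∃ H : Subgroup S, Nonempty (↥H ≃* DihedralGroup 4) ∨ Nonempty (↥H ≃* QuaternionGroup 2)) :
    ((∃ k : ℕ, Nonempty (S ≃* DihedralGroup (2 ^ (k + 2)))) ∨
      (∃ k : ℕ, Nat.card S = 2 ^ (k + 4) ∧ ∃ a b : S, orderOf a = 2 ^ (k + 3) ∧ orderOf b = 2 ∧ b * a * b⁻¹ = a ^ (2 ^ (k + 2) - 1)) ∨
      (∃ k : ℕ, Nonempty (S ≃* QuaternionGroup (2 ^ (k + 1))))) := by
  haveI : Fact (Nat.Prime 2) := ⟨Nat.prime_two⟩
  obtain ⟨H, hH⟩ := hsub
  have hH8na : Nat.card H = 8 ∧ ¬ IsMulCommutative H := by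
    rcases hH with ⟨⟨e⟩⟩ | ⟨⟨e⟩⟩
    · refine ⟨by rw [Nat.card_congr e.toEquiv, DihedralGroup.nat_card], ?_⟩
      intro hc
      have h1 := hc.is_comm.comm (e.symm (DihedralGroup.r 1)) (e.symm (DihedralGroup.sr 0))
      rw [← map_mul, ← map_mul] at h1
      have h3 := e.symm.injective h1
      revert h3
      decide
    · refine ⟨by rw [Nat.card_congr e.toEquiv, Nat.card_eq_fintype_card, QuaternionGroup.card], ?_⟩
      intro hc
      have h1 := hc.is_comm.comm (e.symm (QuaternionGroup.a 1)) (e.symm (QuaternionGroup.xa 0))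
      rw [← map_mul, ← map_mul] at h1
      have h3 := e.symm.injective h1
      revert h3
      decide
  obtain ⟨hH8, hHna⟩ := hH8na
  have hC := centralizer_le h2 hr H hH8 hHna
  obtain ⟨n, hn⟩ := IsPGroup.iff_card.mp h2
  have hcl := Cfsg.Agent.S4143.result (p := 2) n hn H (by rw [hH8]; norm_num) hHna hC
  have hn3 : 3 ≤ n := by
    have h1 : Nat.card H ∣ Nat.card S := Subgroup.card_subgroup_dvd_card H
    rw [hH8, hn] at h1
    have h8 : (8:ℕ) = 2 ^ 3 := by norm_num
    rw [h8] at h1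
    exact (Nat.pow_dvd_pow_iff_le_right (by norm_num : 1 < 2)).mp h1
  have hK := (Cfsg.Agent.S0115.result n hn3 hn).mp hcl
  have hab : Nat.card (Abelianization S) = 4 := hK.card_four
  have hexp : ∀ x : Abelianization S, x ^ 2 = 1 := by
    intro x
    have h := Monoid.pow_exponent_eq_one (G := S ⧸ commutator S) x
    rw [hK.exponent_two] at h
    exact h
  rcases Cfsg.Agent.S4399.result h2 hab hexp with h | h
  · exfalso
    have h1 := Subgroup.card_le_card_group H
    omega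
  · exact h

end Cfsg.Agent.S4398
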