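import Cfsg.Statements.S4403
import Cfsg.Agent.Helper3.CycSylow
import Cfsg.Agent.Helper3.Subnormal
import Cfsg.Agent.Helper9.PPrimeCore

set_option autoImplicit false
open Cfsg
open scoped commutatorElement

namespace Cfsg.Agent.S4403

universe u

theorem F0 {K : Type u} [Group K] [Finite K] (p : ℕ) [Fact p.Prime]
    (hO : Cfsg.pPrimeCore p K = ⊥) (M : Subgroup K) (hM : M.IsSubnormal)
    (hc : ¬ p ∣ Nat.card M) : M = ⊥ := by
  have hpp : p.Prime := Fact.out
  have := Cfsg.Agent.Helper9.subnormal_le_pPrimeCore p hM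
    (Nat.Coprime.symm ((Nat.Prime.coprime_iff_not_dvd hpp).mpr hc))
  rw [hO] at this
  exact le_bot_iff.mp this

theorem comm_of_cyc {G : Type u} [Group G] (P : Subgroup G) (hP : IsCyclic ↥P) :
    ∀ v ∈ P, ∀ w ∈ P, v * w = w * v := by
  intro v hv w hw
  obtain ⟨u0, hu0⟩ := hP.exists_generator
  obtain ⟨i, hi⟩ := Subgroup.mem_zpowers_iff.mp (hu0 ⟨v, hv⟩)
  obtain ⟨j, hj⟩ := Subgroup.mem_zpowers_iff.mp (hu0 ⟨w, hw⟩)
  have hi' : (u0 : G) ^ i = v := by simpa using congrArg Subtype.val hi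
  have hj' : (u0 : G) ^ j = w := by simpa using congrArg Subtype.val hj
  rw [← hi', ← hj', ← zpow_add, ← zpow_add, add_comm]

theorem orderOf_conj' {G : Type u} [Group G] (g x : G) : orderOf (g * x * g⁻¹) = orderOf x := by
  rw [← MulAut.conj_apply]; exact MulEquiv.orderOf_eq _ _

theorem caseA {K : Type u} [Group K] [Finite K] (p : ℕ) [Fact p.Prime]
    (hO : Cfsg.pPrimeCore p K = ⊥) (P : Sylow p K) (hP : IsCyclic ↥(P : Subgroup K))
    (Q : Subgroup K) (hQn : Q.Normal) (hQp : IsPGroup p Q) (hQ0 : Q ≠ ⊥) :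
    (P : Subgroup K).Normal ∧ Subgroup.centralizer ((P : Subgroup K) : Set K) = (P : Subgroup K) ∧
      (∀ (_ : (P : Subgroup K).Normal), IsCyclic (K ⧸ (P : Subgroup K))) ∧
      (P : Subgroup K).index ∣ p - 1 := by
  have hpp : p.Prime := Fact.out
  have hQP : Q ≤ (P : Subgroup K) := by
    obtain ⟨R, hR⟩ := hQp.exists_le_sylow
    obtain ⟨g, hg⟩ := MulAction.exists_smul_eq K R P
    intro q hq
    have h1 := Cfsg.Agent.Helper3.CycSylow.conj_mem_of_smul_eq R P g hg (g⁻¹ * q * g) (hR (by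
      have := hQn.conj_mem q hq g⁻¹
      simpa using this))
    have h2 : g * (g⁻¹ * q * g) * g⁻¹ = q := by group
    rwa [h2] at h1
  obtain ⟨q, hq, hq1⟩ : ∃ q ∈ Q, q ≠ 1 := by
    by_contra hcon
    push Not at hcon
    exact hQ0 ((Subgroup.eq_bot_iff_forall Q).mpr hcon)
  obtain ⟨k0, hk0⟩ := hQp ⟨q, hq⟩
  have hk0' : q ^ (p ^ k0) = 1 := by simpa using congrArg Subtype.val hk0
  obtain ⟨j0, hj0⟩ := Cfsg.Agent.Helper3.CycSylow.exists_pow_orderOf_eq p q k0 hk0' hq1
  obtain ⟨z₀, hz₀def⟩ : ∃ z₀ : K, z₀ = q ^ (p ^ j0) := ⟨_, rfl⟩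
  rw [← hz₀def] at hj0
  have hz₀Q : z₀ ∈ Q := by rw [hz₀def]; exact pow_mem hq _
  have hz₀P : z₀ ∈ (P : Subgroup K) := hQP hz₀Q
  have hcomm : ∀ v ∈ (P : Subgroup K), ∀ w ∈ (P : Subgroup K), v * w = w * v :=
    comm_of_cyc _ hP
  haveI hZn : (Subgroup.zpowers z₀).Normal := by
    constructor
    intro x hx k
    obtain ⟨j, rfl⟩ := Subgroup.mem_zpowers_iff.mp hx
    have h1 : k * z₀ * k⁻¹ ∈ Subgroup.zpowers z₀ :=
      Cfsg.Agent.Helper3.CycSylow.uniq p P hP P P.isPGroup' z₀ (k * z₀ * k⁻¹) hz₀P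
        (hQP (hQn.conj_mem z₀ hz₀Q k)) hj0 (by rw [conj_pow, ← hj0, pow_orderOf_eq_one]; group)
    rw [← conj_zpow]
    exact zpow_mem h1 j
  obtain ⟨C, hCdef⟩ : ∃ C : Subgroup K,
      C = Subgroup.centralizer (Subgroup.zpowers z₀ : Set K) := ⟨_, rfl⟩
  haveI hCn : C.Normal := by rw [hCdef]; infer_instance
  have hmemC : ∀ c : K, c ∈ C ↔ c * z₀ = z₀ * c := by
    intro c
    rw [hCdef, Subgroup.mem_centralizer_iff]
    constructor
    · intro h; exact (h z₀ (Subgroup.mem_zpowers z₀)).symm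
    · intro h x hx
      obtain ⟨j, rfl⟩ := Subgroup.mem_zpowers_iff.mp hx
      exact ((Commute.zpow_right (show Commute c z₀ from h) j).eq).symm
  have hPC : (P : Subgroup K) ≤ C := fun x hx => (hmemC x).mpr (hcomm x hx z₀ hz₀P)
  have hCP : C ≤ (P : Subgroup K) := by
    rcases Cfsg.Agent.Helper3.CycSylow.burnside_or_sub p P hP C hPC with
      ⟨T, hTC, hTinv, hTc, hTp, hT0⟩ | ⟨a, haC, haN, hao, haF⟩
    · have hTn : T.Normal := by
        constructor
        intro t ht k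
        apply hTp _ (hCn.conj_mem t (hTC ht) k)
        rw [orderOf_conj']
        intro hdvd
        apply hTc
        have h2 : orderOf (⟨t, ht⟩ : ↥T) ∣ Nat.card T := orderOf_dvd_natCard _
        rw [Subgroup.orderOf_mk] at h2
        exact hdvd.trans h2
      exact hT0 (F0 p hO T hTn.isSubnormal hTc)
    · exfalso
      have h1 := haF z₀ hz₀P ((hmemC a).mp haC)
      rw [h1, orderOf_one] at hj0
      exact hpp.one_lt.ne hj0
  have hEq : (P : Subgroup K) = C := le_antisymm hPC hCP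
  have hPn : (P : Subgroup K).Normal := by rw [hEq]; exact hCn
  haveI := hPn
  obtain ⟨φ, hφ⟩ : ∃ φ : K →* MulAut ↥(Subgroup.zpowers z₀),
      ∀ (k : K) (w : ↥(Subgroup.zpowers z₀)), ((φ k w : ↥(Subgroup.zpowers z₀)) : K) = k * w * k⁻¹ :=
    ⟨MulAut.conjNormal, fun k w => MulAut.conjNormal_apply k w⟩
  have hker : (P : Subgroup K) ≤ φ.ker := by
    intro x hx
    rw [MonoidHom.mem_ker]
    ext w
    rw [hφ]
    obtain ⟨j, hj⟩ := Subgroup.mem_zpowers_iff.mp w.2
    have hc : Commute x z₀ := (hmemC x).mp (hPC hx)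
    have := (hc.zpow_right j).eq
    rw [hj] at this
    rw [this]
    simp
  obtain ⟨ψ, hψ⟩ : ∃ ψ : K ⧸ (P : Subgroup K) →* MulAut ↥(Subgroup.zpowers z₀),
      ∀ k : K, ψ (QuotientGroup.mk k) = φ k := ⟨QuotientGroup.lift _ φ hker, fun k => rfl⟩
  have hinj : Function.Injective ψ := by
    rw [injective_iff_map_eq_one]
    intro q hq
    obtain ⟨k, rfl⟩ := QuotientGroup.mk_surjective q
    rw [hψ] at hq
    rw [QuotientGroup.eq_one_iff]
    apply hCP
    rw [hmemC]
    have h1 := hφ k ⟨z₀, Subgroup.mem_zpowers z₀⟩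
    rw [hq] at h1
    have h2 : z₀ = k * z₀ * k⁻¹ := h1
    have h3 : k * z₀ = k * z₀ * k⁻¹ * k := by group
    rw [h3, ← h2]
  have hcardZ : Nat.card ↥(Subgroup.zpowers z₀) = p := by rw [Nat.card_zpowers, hj0]
  haveI : Fact (Nat.card ↥(Subgroup.zpowers z₀)).Prime := ⟨by rw [hcardZ]; exact hpp⟩
  haveI hcycA : IsCyclic (MulAut ↥(Subgroup.zpowers z₀)) :=
    (MulEquiv.isCyclic (IsCyclic.mulAutMulEquiv ↥(Subgroup.zpowers z₀))).mpr inferInstance
  have hcardA : Nat.card (MulAut ↥(Subgroup.zpowers z₀)) = p - 1 := by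
    rw [IsCyclic.card_mulAut, hcardZ, Nat.totient_prime hpp]
  refine ⟨hPn, ?_, ?_, ?_⟩
  · apply le_antisymm
    · intro x hx
      apply hCP
      rw [hmemC]
      exact ((Subgroup.mem_centralizer_iff.mp hx) z₀ hz₀P).symm
    · intro x hx
      rw [Subgroup.mem_centralizer_iff]
      intro y hy
      exact hcomm y hy x hx
  · intro hn
    exact isCyclic_of_injective ψ hinj
  · rw [Subgroup.index_eq_card, ← hcardA]
    exact Subgroup.card_dvd_of_injective ψ hinj

theorem exists_simple {K : Type u} [Group K] [Finite K] (p : ℕ) [Fact p.Prime]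
    (hp : p ∣ Nat.card K) (hO : Cfsg.pPrimeCore p K = ⊥) (P : Sylow p K)
    (hP : IsCyclic ↥(P : Subgroup K))
    (hB : ∀ Q : Subgroup K, Q.Normal → IsPGroup p Q → Q = ⊥) :
    ∃ N : Subgroup K, N.Normal ∧ p ∣ Nat.card N ∧ IsSimpleGroup ↥N ∧
      ∃ a ∈ N, ∃ b ∈ N, a * b ≠ b * a := by
  have hpp : p.Prime := Fact.out
  have htop : (⊤ : Subgroup K) ≠ ⊥ := by
    intro h
    have h1 : Nat.card (⊤ : Subgroup K) = 1 := by rw [h]; exact Subgroup.card_bot
    rw [Subgroup.card_top] at h1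
    rw [h1] at hp
    exact hpp.one_lt.ne' (Nat.dvd_one.mp hp)
  obtain ⟨N, ⟨hNn, hN0, hNmin⟩, -⟩ :=
    Cfsg.Agent.Helper3.exists_isMinNormal_le (⊤ : Subgroup K) htop
  have hpN : p ∣ Nat.card N := by
    by_contra h
    exact hN0 (F0 p hO N hNn.isSubnormal h)
  have htopN : (⊤ : Subgroup ↥N) ≠ ⊥ := by
    intro h
    apply hN0
    rw [eq_bot_iff]
    intro x hx
    have : (⟨x, hx⟩ : ↥N) ∈ (⊥ : Subgroup ↥N) := h ▸ Subgroup.mem_top _
    rw [Subgroup.mem_bot] at this ⊢
    exact congrArg Subtype.val this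
  obtain ⟨M, hMmin, -⟩ := Cfsg.Agent.Helper3.exists_isMinNormal_le (⊤ : Subgroup ↥N) htopN
  have hMn := hMmin.1
  have hM0 := hMmin.2.1
  have hMm := hMmin.2.2
  have hpM : p ∣ Nat.card M := by
    by_contra h
    have hsub : (M.map N.subtype).IsSubnormal := (hMn.isSubnormal).trans' hNn.isSubnormal
    have h1 := F0 p hO (M.map N.subtype) hsub
      (by rw [Subgroup.card_map_of_injective N.subtype_injective]; exact h)
    exact hM0 ((Subgroup.map_eq_bot_iff_of_injective _ N.subtype_injective).mp h1)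
  obtain ⟨x, hx⟩ := exists_prime_orderOf_dvd_card' p hpM
  have hx₀ : orderOf (x : ↥N) = p := by rw [Subgroup.orderOf_coe]; exact hx
  have key : ∀ k : K, M ≤ M.map (MulAut.conjNormal k : MulAut ↥N).toMonoidHom := by
    intro k
    obtain ⟨α, hα⟩ : ∃ α : ↥N ≃* ↥N, α = MulAut.conjNormal k := ⟨_, rfl⟩
    rw [← hα]
    have hMk : Cfsg.Agent.Helper3.IsMinNormal (M.map α.toMonoidHom) := hMmin.map_equiv α
    have hZp : IsPGroup p (Subgroup.zpowers (x : ↥N)) :=
      IsPGroup.of_card (n := 1) (by rw [Nat.card_zpowers, hx₀, pow_one])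
    obtain ⟨S, hS⟩ := hZp.exists_le_sylow
    have hZp' : IsPGroup p (Subgroup.zpowers (α (x : ↥N))) :=
      IsPGroup.of_card (n := 1) (by rw [Nat.card_zpowers, MulEquiv.orderOf_eq, hx₀, pow_one])
    obtain ⟨S', hS'⟩ := hZp'.exists_le_sylow
    obtain ⟨g, hg⟩ := MulAction.exists_smul_eq ↥N S' S
    obtain ⟨y, hydef⟩ : ∃ y : ↥N, y = g * α (x : ↥N) * g⁻¹ := ⟨_, rfl⟩
    have hyS : y ∈ (S : Subgroup ↥N) := by
      rw [hydef]
      exact Cfsg.Agent.Helper3.CycSylow.conj_mem_of_smul_eq S' S g hg _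
        (hS' (Subgroup.mem_zpowers _))
    have hxS : (x : ↥N) ∈ (S : Subgroup ↥N) := hS (Subgroup.mem_zpowers _)
    have hyMk : y ∈ M.map α.toMonoidHom := by
      rw [hydef]
      exact hMk.1.conj_mem _ (Subgroup.mem_map_of_mem _ x.2) g
    have hyo : orderOf y = p := by
      rw [hydef, orderOf_conj', MulEquiv.orderOf_eq, hx₀]
    have hU : IsPGroup p ((S : Subgroup ↥N).map N.subtype) := S.isPGroup'.map _
    have h1 := Cfsg.Agent.Helper3.CycSylow.uniq p P hP _ hU ((x : ↥N) : K) (y : K)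
      (Subgroup.mem_map_of_mem _ hxS) (Subgroup.mem_map_of_mem _ hyS)
      (by rw [Subgroup.orderOf_coe]; exact hx₀)
      (by rw [← Subgroup.coe_pow, ← hyo, pow_orderOf_eq_one]; rfl)
    obtain ⟨j, hj⟩ := Subgroup.mem_zpowers_iff.mp h1
    have hyM : y ∈ M := by
      have : y = (x : ↥N) ^ j := Subtype.ext (by rw [Subgroup.coe_zpow]; exact hj.symm)
      rw [this]; exact zpow_mem x.2 j
    have hy1 : y ≠ 1 := by
      intro h; rw [h, orderOf_one] at hyo; exact hpp.one_lt.ne hyo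
    have hinf : M ⊓ M.map α.toMonoidHom ≠ ⊥ := by
      intro h
      have : y ∈ M ⊓ M.map α.toMonoidHom := ⟨hyM, hyMk⟩
      rw [h, Subgroup.mem_bot] at this
      exact hy1 this
    haveI := hMn
    haveI := hMk.1
    rcases hMm (M ⊓ M.map α.toMonoidHom) inferInstance inf_le_left with h | h
    · exact absurd h hinf
    · exact inf_eq_left.mp h
  have hM'n : (M.map N.subtype).Normal := by
    constructor
    rintro m ⟨m₁, hm₁, rfl⟩ k
    obtain ⟨m₂, hm₂, hm₂e⟩ := key k⁻¹ hm₁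
    refine ⟨m₂, hm₂, ?_⟩
    have h2 : ((MulAut.conjNormal k⁻¹ : MulAut ↥N) m₂ : K) = (m₁ : K) :=
      congrArg Subtype.val hm₂e
    rw [MulAut.conjNormal_apply] at h2
    show (m₂ : K) = k * (m₁ : K) * k⁻¹
    rw [← h2]; group
  have hM'N : M.map N.subtype = N := by
    rcases hNmin _ hM'n (Subgroup.map_subtype_le M) with h | h
    · exact absurd ((Subgroup.map_eq_bot_iff_of_injective _ N.subtype_injective).mp h) hM0
    · exact h
  have hMtop : M = ⊤ := by
    rw [eq_top_iff]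
    intro n _
    have hn : (n : K) ∈ M.map N.subtype := by rw [hM'N]; exact n.2
    obtain ⟨m, hm, hme⟩ := hn
    have : m = n := Subtype.ext hme
    rw [← this]; exact hm
  have hnt : Nontrivial ↥N := by
    refine ⟨⟨(x : ↥N), 1, ?_⟩⟩
    intro h; rw [h, orderOf_one] at hx₀; exact hpp.one_lt.ne hx₀
  have hsimple : IsSimpleGroup ↥N :=
    { toNontrivial := hnt
      eq_bot_or_eq_top_of_normal := fun H hH => by
        rcases hMm H hH (by rw [hMtop]; exact le_top) with h | h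
        · left; exact h
        · right; rw [h, hMtop] }
  refine ⟨N, hNn, hpN, hsimple, ?_⟩
  by_contra hcon
  push Not at hcon
  have hZn : (Subgroup.zpowers (x : ↥N)).Normal := by
    constructor
    intro z hz n
    have : n * z * n⁻¹ = z := by
      have h1 := hcon n n.2 z z.2
      apply Subtype.ext
      show (n : K) * z * (n : K)⁻¹ = z
      rw [h1]; group
    rw [this]; exact hz
  rcases hsimple.eq_bot_or_eq_top_of_normal _ hZn with h | h
  · have h1 : (x : ↥N) ∈ (⊥ : Subgroup ↥N) := h ▸ Subgroup.mem_zpowers _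
    rw [Subgroup.mem_bot] at h1
    rw [h1, orderOf_one] at hx₀; exact hpp.one_lt.ne hx₀
  · have hcard : Nat.card ↥N = p := by
      have h1 : Nat.card (Subgroup.zpowers (x : ↥N)) = p := by rw [Nat.card_zpowers, hx₀]
      rw [h, Subgroup.card_top] at h1
      exact h1
    exact hN0 (hB N hNn (IsPGroup.of_card (n := 1) (by rw [hcard, pow_one])))

theorem caseB {K : Type u} [Group K] [Finite K] (p : ℕ) [Fact p.Prime]
    (hO : Cfsg.pPrimeCore p K = ⊥) (P : Sylow p K) (hP : IsCyclic ↥(P : Subgroup K))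
    (hB : ∀ Q : Subgroup K, Q.Normal → IsPGroup p Q → Q = ⊥)
    (N : Subgroup K) (hNn : N.Normal) (hpN : p ∣ Nat.card N) (hsimple : IsSimpleGroup ↥N)
    (a₀ b₀ : K) (ha₀ : a₀ ∈ N) (hb₀ : b₀ ∈ N) (hab : a₀ * b₀ ≠ b₀ * a₀) :
    Cfsg.generalizedFittingSubgroup K = N ∧ (P : Subgroup K) ≤ N := by
  have hpp : p.Prime := Fact.out
  have hN0 : N ≠ ⊥ := by
    intro h; rw [h, Subgroup.card_bot] at hpN; exact hpp.one_lt.ne' (Nat.dvd_one.mp hpN)
  have hNs : ∀ M : Subgroup K, M ≤ N → (∀ n ∈ N, ∀ m ∈ M, n * m * n⁻¹ ∈ M) →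
      M = ⊥ ∨ M = N := by
    intro M hMN hinv
    have hn : (M.subgroupOf N).Normal := by
      constructor
      intro m hm n
      rw [Subgroup.mem_subgroupOf] at hm ⊢
      exact hinv n n.2 m hm
    rcases hsimple.eq_bot_or_eq_top_of_normal _ hn with h | h
    · left
      rw [Subgroup.subgroupOf_eq_bot] at h
      have := disjoint_iff.mp h
      rwa [inf_eq_left.mpr hMN] at this
    · right
      rw [Subgroup.subgroupOf_eq_top] at h
      exact le_antisymm hMN h
  haveI := hNn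
  have hCN : Subgroup.centralizer (N : Set K) = ⊥ := by
    by_contra hC0
    have hCn : (Subgroup.centralizer (N : Set K)).Normal := inferInstance
    have hpC : p ∣ Nat.card (Subgroup.centralizer (N : Set K)) := by
      by_contra h
      exact hC0 (F0 p hO _ hCn.isSubnormal h)
    obtain ⟨x, hx⟩ := exists_prime_orderOf_dvd_card' p hpC
    obtain ⟨y₀, hy₀⟩ := exists_prime_orderOf_dvd_card' p hpN
    have hxo : orderOf (x : K) = p := by rw [Subgroup.orderOf_coe]; exact hx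
    have hyo : orderOf (y₀ : K) = p := by rw [Subgroup.orderOf_coe]; exact hy₀
    have hZx : IsPGroup p (Subgroup.zpowers (x : K)) :=
      IsPGroup.of_card (n := 1) (by rw [Nat.card_zpowers, hxo, pow_one])
    have hZy : IsPGroup p (Subgroup.zpowers (y₀ : K)) :=
      IsPGroup.of_card (n := 1) (by rw [Nat.card_zpowers, hyo, pow_one])
    obtain ⟨S, hS⟩ := hZx.exists_le_sylow
    obtain ⟨S', hS'⟩ := hZy.exists_le_sylow
    obtain ⟨g, hg⟩ := MulAction.exists_smul_eq K S' S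
    obtain ⟨y, hydef⟩ : ∃ y : K, y = g * (y₀ : K) * g⁻¹ := ⟨_, rfl⟩
    have hyS : y ∈ (S : Subgroup K) := by
      rw [hydef]
      exact Cfsg.Agent.Helper3.CycSylow.conj_mem_of_smul_eq S' S g hg _
        (hS' (Subgroup.mem_zpowers _))
    have hyN : y ∈ N := by rw [hydef]; exact hNn.conj_mem _ y₀.2 g
    have hyo' : orderOf y = p := by rw [hydef, orderOf_conj', hyo]
    have h1 := Cfsg.Agent.Helper3.CycSylow.uniq p P hP S S.isPGroup' (x : K) y
      (hS (Subgroup.mem_zpowers _)) hyS hxo (by rw [← hyo', pow_orderOf_eq_one])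
    have hyC : y ∈ Subgroup.centralizer (N : Set K) := by
      obtain ⟨j, hj⟩ := Subgroup.mem_zpowers_iff.mp h1
      rw [← hj]; exact zpow_mem x.2 j
    have hy1 : y ≠ 1 := by
      intro h; rw [h, orderOf_one] at hyo'; exact hpp.one_lt.ne hyo'
    rcases hNs (Subgroup.zpowers y) (by rw [Subgroup.zpowers_le]; exact hyN) (by
      intro n hn m hm
      have : n * m * n⁻¹ = m := by
        obtain ⟨j, rfl⟩ := Subgroup.mem_zpowers_iff.mp hm
        have hc : Commute n y := Subgroup.mem_centralizer_iff.mp hyC n hn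
        have h2 := (hc.zpow_right j).eq
        rw [h2]; group
      rw [this]; exact hm) with h | h
    · apply hy1
      have h2 : y ∈ Subgroup.zpowers y := Subgroup.mem_zpowers y
      rw [h, Subgroup.mem_bot] at h2
      exact h2
    · apply hab
      have ha : a₀ ∈ Subgroup.zpowers y := by rw [h]; exact ha₀
      have hb : b₀ ∈ Subgroup.zpowers y := by rw [h]; exact hb₀
      obtain ⟨i, hi⟩ := Subgroup.mem_zpowers_iff.mp ha
      obtain ⟨j, hj⟩ := Subgroup.mem_zpowers_iff.mp hb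
      rw [← hi, ← hj, ← zpow_add, ← zpow_add, add_comm]
  have hsub : ∀ H : Subgroup K, H.IsSubnormal → H ≠ ⊥ → N ≤ H := by
    intro H hH
    induction hH with
    | top => intro _; exact le_top
    | step H H₁ h_le hSubn hN ih =>
      intro hH0
      have hN1 : N ≤ H₁ := ih (fun h => hH0 (le_bot_iff.mp (h ▸ h_le)))
      have hHinv : ∀ n ∈ N, ∀ m ∈ H, n * m * n⁻¹ ∈ H := by
        intro n hn m hm
        have h1 := hN.conj_mem ⟨m, h_le hm⟩ (Subgroup.mem_subgroupOf.mpr hm) ⟨n, hN1 hn⟩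
        exact Subgroup.mem_subgroupOf.mp h1
      rcases hNs (H ⊓ N) inf_le_right
        (fun n hn m hm => ⟨hHinv n hn m hm.1, hNn.conj_mem m hm.2 n⟩) with h0 | h1
      · exfalso; apply hH0
        rw [eq_bot_iff, ← hCN]
        intro h hh
        rw [Subgroup.mem_centralizer_iff]
        intro n hn
        have hmem : n * h * n⁻¹ * h⁻¹ ∈ H ⊓ N := by
          refine ⟨H.mul_mem (hHinv n hn h hh) (H.inv_mem hh), ?_⟩
          have e : n * h * n⁻¹ * h⁻¹ = n * (h * n⁻¹ * h⁻¹) := by group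
          rw [e]
          exact N.mul_mem hn (hNn.conj_mem _ (N.inv_mem hn) h)
        rw [h0, Subgroup.mem_bot] at hmem
        have e2 : n * h = (n * h * n⁻¹ * h⁻¹) * (h * n) := by group
        rw [e2, hmem, one_mul]
      · rw [← h1]; exact inf_le_left
  have hNcomp : Cfsg.IsComponent N := by
    refine ⟨hNn.isSubnormal, ⟨?_⟩, ?_⟩
    · rcases hsimple.eq_bot_or_eq_top_of_normal (commutator ↥N) inferInstance with h | h
      · exfalso; apply hab
        have h1 : ⁅(⟨a₀, ha₀⟩ : ↥N), ⟨b₀, hb₀⟩⁆ ∈ commutator ↥N := by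
          rw [commutator_def]
          exact Subgroup.commutator_mem_commutator (Subgroup.mem_top _) (Subgroup.mem_top _)
        rw [h, Subgroup.mem_bot, commutatorElement_eq_one_iff_mul_comm] at h1
        exact congrArg Subtype.val h1
      · exact h
    · haveI : Nontrivial (↥N ⧸ Subgroup.center ↥N) := by
        refine ⟨⟨QuotientGroup.mk (⟨a₀, ha₀⟩ : ↥N), 1, ?_⟩⟩
        intro h
        rw [QuotientGroup.eq_one_iff, Subgroup.mem_center_iff] at h
        have h1 := h ⟨b₀, hb₀⟩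
        exact hab (congrArg Subtype.val h1).symm
      haveI := hsimple
      exact IsSimpleGroup.isSimpleGroup_of_surjective (QuotientGroup.mk' (Subgroup.center ↥N))
        (QuotientGroup.mk'_surjective _)
  have hcomp : ∀ L : Subgroup K, Cfsg.IsComponent L → L = N := by
    rintro L ⟨hLsub, hLperf, hLsimp⟩
    have hL0 : L ≠ ⊥ := by
      intro h
      have hle : L ≤ ⊥ := le_of_eq h
      obtain ⟨q1, q2, hq⟩ := exists_pair_ne (↥L ⧸ Subgroup.center ↥L)
      obtain ⟨l1, rfl⟩ := QuotientGroup.mk_surjective q1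
      obtain ⟨l2, rfl⟩ := QuotientGroup.mk_surjective q2
      apply hq
      have h1 : (l1 : K) = 1 := Subgroup.mem_bot.mp (hle l1.2)
      have h2 : (l2 : K) = 1 := Subgroup.mem_bot.mp (hle l2.2)
      have : l1 = l2 := Subtype.ext (by rw [h1, h2])
      rw [this]
    have hNL : N ≤ L := hsub L hLsub hL0
    apply le_antisymm _ hNL
    obtain ⟨N₁, hN₁⟩ : ∃ N₁ : Subgroup ↥L, N₁ = N.subgroupOf L := ⟨_, rfl⟩
    have hN₁n : N₁.Normal := by rw [hN₁]; infer_instance
    have hmemN₁ : ∀ l : ↥L, l ∈ N₁ ↔ (l : K) ∈ N := by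
      intro l; rw [hN₁, Subgroup.mem_subgroupOf]
    have hmapn : (N₁.map (QuotientGroup.mk' (Subgroup.center ↥L))).Normal :=
      hN₁n.map _ (QuotientGroup.mk'_surjective _)
    rcases hLsimp.eq_bot_or_eq_top_of_normal _ hmapn with h | h
    · exfalso; apply hab
      have h1 : (⟨a₀, hNL ha₀⟩ : ↥L) ∈ Subgroup.center ↥L := by
        have h2 : QuotientGroup.mk' (Subgroup.center ↥L) (⟨a₀, hNL ha₀⟩ : ↥L) ∈
            N₁.map (QuotientGroup.mk' (Subgroup.center ↥L)) :=
          Subgroup.mem_map_of_mem _ ((hmemN₁ _).mpr ha₀)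
        rw [h, Subgroup.mem_bot] at h2
        exact (QuotientGroup.eq_one_iff _).mp h2
      rw [Subgroup.mem_center_iff] at h1
      exact (congrArg Subtype.val (h1 ⟨b₀, hNL hb₀⟩)).symm
    · have hcomm : commutator ↥L ≤ N₁ := by
        rw [commutator_def, Subgroup.commutator_le]
        intro l₁ _ l₂ _
        have h1 : QuotientGroup.mk' (Subgroup.center ↥L) l₁ ∈
            N₁.map (QuotientGroup.mk' (Subgroup.center ↥L)) := by
          rw [h]; exact Subgroup.mem_top _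
        obtain ⟨n₁, hn₁, hn₁e⟩ := h1
        have h2 : n₁⁻¹ * l₁ ∈ Subgroup.center ↥L := by
          rw [← QuotientGroup.eq_one_iff]
          have e : ((n₁⁻¹ * l₁ : ↥L) : ↥L ⧸ Subgroup.center ↥L) =
              (QuotientGroup.mk' (Subgroup.center ↥L) n₁)⁻¹ *
                QuotientGroup.mk' (Subgroup.center ↥L) l₁ := rfl
          rw [e, hn₁e]; simp
        rw [Subgroup.mem_center_iff] at h2
        have h3 : (n₁⁻¹ * l₁) * l₂ = l₂ * (n₁⁻¹ * l₁) := (h2 l₂).symm
        have h4 : ⁅l₁, l₂⁆ = n₁ * (l₂ * n₁⁻¹ * l₂⁻¹) := by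
          rw [commutatorElement_def]
          calc l₁ * l₂ * l₁⁻¹ * l₂⁻¹ = n₁ * ((n₁⁻¹ * l₁) * l₂) * l₁⁻¹ * l₂⁻¹ := by group
            _ = n₁ * (l₂ * (n₁⁻¹ * l₁)) * l₁⁻¹ * l₂⁻¹ := by rw [h3]
            _ = n₁ * (l₂ * n₁⁻¹ * l₂⁻¹) := by group
        rw [h4]
        exact N₁.mul_mem hn₁ (hN₁n.conj_mem _ (N₁.inv_mem hn₁) l₂)
      rw [hLperf.commutator_eq_top] at hcomm
      intro l hl
      exact (hmemN₁ ⟨l, hl⟩).mp (hcomm (Subgroup.mem_top _))
  have hlayer : Cfsg.layer K = N := by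
    apply le_antisymm
    · apply sSup_le
      intro L hL
      exact le_of_eq (hcomp L hL)
    · exact le_sSup hNcomp
  have hfit : Cfsg.fittingSubgroup K = ⊥ := by
    rw [eq_bot_iff]
    apply sSup_le
    rintro M ⟨hMn, hMnil⟩
    by_contra hM
    have hM0 : M ≠ ⊥ := fun h => hM (le_of_eq h)
    have hNM : N ≤ M := hsub M hMn.isSubnormal hM0
    haveI := hMnil
    have hsolv : Group.IsSolvable ↥N :=
      Group.isSolvable_of_isSolvable_injective (Subgroup.inclusion_injective hNM)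
    haveI := hsimple
    have hc := (IsSimpleGroup.comm_iff_isSolvable (G := ↥N)).mpr hsolv
    exact hab (congrArg Subtype.val (hc ⟨a₀, ha₀⟩ ⟨b₀, hb₀⟩))
  refine ⟨by unfold Cfsg.generalizedFittingSubgroup; rw [hlayer, hfit, sup_bot_eq], ?_⟩
  have hcommP : ∀ v ∈ (P : Subgroup K), ∀ w ∈ (P : Subgroup K), v * w = w * v :=
    comm_of_cyc _ hP
  rcases Cfsg.Agent.Helper3.CycSylow.burnside_or_sub p P hP (N ⊔ (P : Subgroup K)) le_sup_right
    with ⟨T, hTH, hTinv, hTc, hTp, hT0⟩ | ⟨a, haH, haN, hao, haF⟩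
  · exfalso
    have hNH : N ≤ N ⊔ (P : Subgroup K) := le_sup_left
    have hTNinv : ∀ n ∈ N, ∀ m ∈ T ⊓ N, n * m * n⁻¹ ∈ T ⊓ N := fun n hn m hm =>
      ⟨hTinv n (hNH hn) m hm.1, hNn.conj_mem m hm.2 n⟩
    rcases hNs (T ⊓ N) inf_le_right hTNinv with h0 | h1
    · have hT : T = ⊥ := by
        rw [eq_bot_iff, ← hCN]
        intro t ht
        rw [Subgroup.mem_centralizer_iff]
        intro n hn
        have hmem : n * t * n⁻¹ * t⁻¹ ∈ T ⊓ N := by
          refine ⟨T.mul_mem (hTinv n (hNH hn) t ht) (T.inv_mem ht), ?_⟩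
          have e : n * t * n⁻¹ * t⁻¹ = n * (t * n⁻¹ * t⁻¹) := by group
          rw [e]
          exact N.mul_mem hn (hNn.conj_mem _ (N.inv_mem hn) t)
        rw [h0, Subgroup.mem_bot] at hmem
        have e2 : n * t = (n * t * n⁻¹ * t⁻¹) * (t * n) := by group
        rw [e2, hmem, one_mul]
      have hNP : N ≤ (P : Subgroup K) := hNH.trans (hT0 hT)
      exact hN0 (hB N hNn (P.isPGroup'.to_le hNP))
    · have hNT : N ≤ T := by rw [← h1]; exact inf_le_left
      exact hTc (hpN.trans (Subgroup.card_dvd_of_le hNT))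
  · have hs := Cfsg.Agent.Helper3.CycSylow.surj_comm (P : Subgroup K) a haN haF
    have haH' : a ∈ ((P : Subgroup K) ⊔ N : Subgroup K) := by rw [sup_comm]; exact haH
    rw [← SetLike.mem_coe, Subgroup.mul_normal, Set.mem_mul] at haH'
    obtain ⟨w, hw, n, hn, hawn⟩ := haH'
    intro u hu
    obtain ⟨v, hv, huv⟩ := hs u hu
    have hwv : w * v = v * w := hcommP w hw v hv
    have e : v⁻¹ * w * v * w⁻¹ = 1 := by rw [mul_assoc v⁻¹, hwv]; group
    have h1 : u = (v⁻¹ * w) * (n * (v * n⁻¹ * v⁻¹)) * (v⁻¹ * w)⁻¹ := by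
      rw [huv, ← hawn]
      calc v⁻¹ * (w * n * v * (w * n)⁻¹)
          = (v⁻¹ * w) * (n * (v * n⁻¹ * v⁻¹)) * (v⁻¹ * w)⁻¹ * (v⁻¹ * w * v * w⁻¹) := by group
        _ = _ := by rw [e, mul_one]
    rw [h1]
    exact hNn.conj_mem _ (N.mul_mem hn (hNn.conj_mem _ (N.inv_mem hn) v)) _

/-- Let K be a finite group, p a prime dividing its order with O_{p'}(K) = 1 (no nontrivial normal subgroup of order prime to p), and P a cyclic Sylow p-subgroup of K. Then either P is normal and self-centralizing in K with K/P cyclic of order dividing p − 1 (so K is the semidirect product of P by a group of automorphisms of P of order dividing p − 1), or the generalized Fitting subgroup F*(K) is a non-abelian simple group and p does not divide the index of F*(K) in K. -/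
theorem result {K : Type*} [Group K] [Finite K] (p : ℕ) [Fact p.Prime] (hp : p ∣ Nat.card K) (hO : Cfsg.pPrimeCore p K = ⊥)
    (P : Sylow p K) (hP : IsCyclic ↥(P : Subgroup K)) :
    ((P : Subgroup K).Normal ∧ Subgroup.centralizer ((P : Subgroup K) : Set K) = (P : Subgroup K) ∧
      (∀ (_ : (P : Subgroup K).Normal), IsCyclic (K ⧸ (P : Subgroup K))) ∧ (P : Subgroup K).index ∣ p - 1) ∨
    (IsSimpleGroup ↥(Cfsg.generalizedFittingSubgroup K) ∧ ¬ IsMulCommutative ↥(Cfsg.generalizedFittingSubgroup K) ∧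
      ¬ p ∣ (Cfsg.generalizedFittingSubgroup K).index) := by
  by_cases hA : ∃ Q : Subgroup K, Q.Normal ∧ IsPGroup p Q ∧ Q ≠ ⊥
  · left
    obtain ⟨Q, hQn, hQp, hQ0⟩ := hA
    exact caseA p hO P hP Q hQn hQp hQ0
  · right
    have hB : ∀ Q : Subgroup K, Q.Normal → IsPGroup p Q → Q = ⊥ := by
      intro Q hQn hQp
      by_contra h
      exact hA ⟨Q, hQn, hQp, h⟩
    obtain ⟨N, hNn, hpN, hsimple, a₀, ha₀, b₀, hb₀, hab⟩ := exists_simple p hp hO P hP hB
    obtain ⟨hF, hPN⟩ := caseB p hO P hP hB N hNn hpN hsimple a₀ b₀ ha₀ hb₀ hab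
    rw [hF]
    refine ⟨hsimple, ?_, ?_⟩
    · intro hc
      exact hab (congrArg Subtype.val (hc.is_comm.comm ⟨a₀, ha₀⟩ ⟨b₀, hb₀⟩))
    · intro h
      exact P.not_dvd_index (h.trans (Subgroup.index_dvd_of_le hPN))

end Cfsg.Agent.S4403
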