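import Mathlib
import Cfsg.Statements.S4413
import Cfsg.Agent.Helper19.ES2
import Cfsg.Agent.Helper19.Comm
import Cfsg.Agent.S4416
import Cfsg.Agent.S3763

set_option autoImplicit false
set_option linter.unusedSimpArgs false
open Cfsg
open Cfsg.Agent.Helper19.ES2

namespace Cfsg.Agent.S4413

theorem pigeon5 {α : Type*} [Finite α] (h : Nat.card α ≤ 4) (a b c d e : α) :
    a = b ∨ a = c ∨ a = d ∨ a = e ∨ b = c ∨ b = d ∨ b = e ∨ c = d ∨ c = e ∨ d = e := by
  by_contra hne
  push Not at hne
  obtain ⟨h1, h2, h3, h4, h5, h6, h7, h8, h9, h10⟩ := hne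
  have hinj : Function.Injective (![a, b, c, d, e] : Fin 5 → α) := by
    intro i j hij
    fin_cases i <;> fin_cases j <;> simp_all
  have := Nat.card_le_card_of_injective _ hinj
  simp at this
  omega

theorem fin5_ne_succ : ∀ i : Fin 5, i ≠ i + 1 := by decide

section Gen

variable {E : Type*} [Group E] {z : E}

theorem nc_swap (hz : Amb z) (a b : E) (h : kap z a b = -1) : a * b = z * (b * a) := by
  have h1 := comm_eq_z hz b a h
  calc a * b = (a * b * a⁻¹ * b⁻¹) * (b * a) := by group
    _ = z * (b * a) := by rw [h1]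

theorem kap_z_left (hz : Amb z) (g : E) : kap z z g = 1 :=
  (kap_eq_one_iff hz z g).mpr (hz.z_c g).symm

theorem kap_z_right (hz : Amb z) (g : E) : kap z g z = 1 :=
  (kap_eq_one_iff hz g z).mpr (hz.z_c g)

open Classical in
/-- The "transvection" automorphism attached to an element `t` with `t² = z`. -/
noncomputable def tau (hz : Amb z) (t : E) (ht : t * t = z) : MulAut E where
  toFun g := if g * t = t * g then g else g * t
  invFun g := if g * t = t * g then g else g * t⁻¹
  left_inv g := by
    by_cases h : g * t = t * g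
    · simp only [if_pos h]
    · have h' : ¬ (g * t * t = t * (g * t)) := by
        intro h2
        apply h
        have h3 : g * t * t = t * g * t := by rw [h2, mul_assoc]
        exact mul_right_cancel h3
      simp only [if_neg h, if_neg h']
      group
  right_inv g := by
    by_cases h : g * t = t * g
    · simp only [if_pos h]
    · have h' : ¬ (g * t⁻¹ * t = t * (g * t⁻¹)) := by
        intro h2
        apply h
        have h3 : g = t * g * t⁻¹ := by
          calc g = g * t⁻¹ * t := by group
            _ = t * (g * t⁻¹) := h2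
            _ = t * g * t⁻¹ := by group
        calc g * t = (t * g * t⁻¹) * t := by rw [← h3]
          _ = t * g := by group
      simp only [if_neg h, if_neg h']
      group
  map_mul' g h := by
    by_cases hg : g * t = t * g <;> by_cases hh : h * t = t * h
    · have hgh : g * h * t = t * (g * h) := by
        rw [mul_assoc, hh, ← mul_assoc, hg, mul_assoc]
      simp only [if_pos hg, if_pos hh, if_pos hgh]
    · have hgh : ¬ (g * h * t = t * (g * h)) := by
        intro h2
        apply hh
        have h3 : g * (h * t) = g * (t * h) := by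
          rw [← mul_assoc, h2, ← mul_assoc, ← hg, mul_assoc]
        exact mul_left_cancel h3
      simp only [if_pos hg, if_neg hh, if_neg hgh]
      group
    · have hgh : ¬ (g * h * t = t * (g * h)) := by
        intro h2
        apply hg
        have h3 : g * t * h = t * g * h := by
          rw [mul_assoc, ← hh, ← mul_assoc, h2, mul_assoc]
        exact mul_right_cancel h3
      simp only [if_neg hg, if_pos hh, if_neg hgh]
      rw [mul_assoc, hh, ← mul_assoc]
    · have kg : kap z g t = -1 := (kap_eq_neg_one_iff hz g t).mpr hg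
      have kh : kap z h t = -1 := (kap_eq_neg_one_iff hz h t).mpr hh
      have hgh : g * h * t = t * (g * h) := by
        apply (kap_eq_one_iff hz (g * h) t).mp
        rw [kap_mul_left hz, kg, kh, neg_one_mul_neg_one]
      have hth : t * h = z * (h * t) := nc_swap hz t h (by rw [kap_symm hz]; exact kh)
      simp only [if_neg hg, if_neg hh, if_pos hgh]
      have hzc := hz.z_c
      symm
      calc g * t * (h * t) = g * (t * h) * t := by group
        _ = g * (z * (h * t)) * t := by rw [hth]
        _ = (g * z) * h * (t * t) := by group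
        _ = (z * g) * h * z := by rw [hzc g, ht]
        _ = z * (g * h * z) := by group
        _ = z * (z * (g * h)) := by rw [hzc (g * h)]
        _ = (z * z) * (g * h) := by group
        _ = g * h := by rw [hz.z_sq, one_mul]

open Classical in
theorem tau_comm (hz : Amb z) (t : E) (ht : t * t = z) (g : E) (h : g * t = t * g) :
    tau hz t ht g = g := by
  show (if g * t = t * g then g else g * t) = g
  rw [if_pos h]

open Classical in
theorem tau_nc (hz : Amb z) (t : E) (ht : t * t = z) (g : E) (h : ¬ g * t = t * g) :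
    tau hz t ht g = g * t := by
  show (if g * t = t * g then g else g * t) = g * t
  rw [if_neg h]

end Gen

section FrameSec

variable {E : Type*} [Group E] {z : E}

/-- Five pairwise non-commuting involutions representing the singular points of `E / ⟨z⟩`. -/
structure Frame (z : E) (r : Fin 5 → E) : Prop where
  amb : Amb z
  sq : ∀ i, r i * r i = 1
  nc : ∀ i j, i ≠ j → kap z (r i) (r j) = -1
  all : ∀ x : E, x * x = 1 → x = 1 ∨ x = z ∨ ∃ i, x = r i ∨ x = r i * z
  gen : Subgroup.closure (Set.range (fun i : Fin 4 => r i.castSucc)) = ⊤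
  cen : ∀ g : E, (∀ h : E, g * h = h * g) → g = 1 ∨ g = z

variable {r : Fin 5 → E}

theorem Frame.ne_one (F : Frame z r) (i : Fin 5) : r i ≠ 1 := by
  intro h
  have h1 := F.nc i (i + 1) (fin5_ne_succ i)
  rw [h] at h1
  have h2 : kap z 1 (r (i + 1)) = 1 :=
    (kap_eq_one_iff F.amb 1 _).mpr (by rw [one_mul, mul_one])
  rw [h2] at h1
  exact neg_one_ne_one h1.symm

theorem Frame.ne_z (F : Frame z r) (i : Fin 5) : r i ≠ z := by
  intro h
  have h1 := F.nc i (i + 1) (fin5_ne_succ i)
  rw [h, kap_z_left F.amb] at h1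
  exact neg_one_ne_one h1.symm

theorem Frame.idx_eq (F : Frame z r) (j j' : Fin 5) (h : r j = r j' ∨ r j = r j' * z) :
    j = j' := by
  by_contra hne
  have h1 := F.nc j j' hne
  rcases h with h | h
  · rw [h, kap_self F.amb] at h1; exact neg_one_ne_one h1.symm
  · rw [h, kap_mul_left F.amb, kap_self F.amb, kap_z_left F.amb, one_mul] at h1
    exact neg_one_ne_one h1.symm

/-- `α` maps the point `i` to the point `j`. -/
def Rel (z : E) (r : Fin 5 → E) (α : MulAut E) (i j : Fin 5) : Prop :=
  α (r i) = r j ∨ α (r i) = r j * z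

theorem Frame.aut_z (F : Frame z r) (α : MulAut E) : α z = z := by
  have hc : ∀ h : E, α z * h = h * α z := by
    intro h
    calc α z * h = α z * α (α.symm h) := by rw [α.apply_symm_apply]
      _ = α (z * α.symm h) := (map_mul α _ _).symm
      _ = α (α.symm h * z) := by rw [F.amb.z_c]
      _ = α (α.symm h) * α z := map_mul α _ _
      _ = h * α z := by rw [α.apply_symm_apply]
  rcases F.cen (α z) hc with h | h
  · exfalso
    have : α z = α 1 := by rw [h, map_one]
    exact F.amb.z_ne (α.injective this)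
  · exact h

theorem Frame.exists_rel (F : Frame z r) (α : MulAut E) (i : Fin 5) : ∃ j, Rel z r α i j := by
  have h1 : α (r i) * α (r i) = 1 := by rw [← map_mul, F.sq, map_one]
  rcases F.all _ h1 with h | h | ⟨j, h⟩
  · exfalso
    have : α (r i) = α 1 := by rw [h, map_one]
    exact F.ne_one i (α.injective this)
  · exfalso
    have : α (r i) = α z := by rw [h, F.aut_z]
    exact F.ne_z i (α.injective this)
  · exact ⟨j, h⟩

theorem Frame.rel_unique (F : Frame z r) (α : MulAut E) (i j j' : Fin 5) (h : Rel z r α i j)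
    (h' : Rel z r α i j') : j = j' := by
  apply F.idx_eq
  rcases h with h | h <;> rcases h' with h' | h'
  · left; rw [← h, h']
  · right; rw [← h, h']
  · right
    have h2 : r j * z = r j' := by rw [← h, h']
    rw [← h2, mul_assoc, F.amb.z_sq, mul_one]
  · left
    have h2 : r j * z = r j' * z := by rw [← h, h']
    exact mul_right_cancel h2

theorem Frame.rel_mul (F : Frame z r) (α β : MulAut E) (i j k : Fin 5) (h1 : Rel z r β i j)
    (h2 : Rel z r α j k) : Rel z r (α * β) i k := by
  unfold Rel at *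
  rw [MulAut.mul_apply]
  rcases h1 with h1 | h1
  · rw [h1]; exact h2
  · rw [h1, map_mul, F.aut_z]
    rcases h2 with h2 | h2
    · right; rw [h2]
    · left; rw [h2, mul_assoc, F.amb.z_sq, mul_one]

/-- The induced map on the five points. -/
noncomputable def sfun (F : Frame z r) (α : MulAut E) (i : Fin 5) : Fin 5 :=
  Classical.choose (F.exists_rel α i)

theorem sfun_spec (F : Frame z r) (α : MulAut E) (i : Fin 5) : Rel z r α i (sfun F α i) :=
  Classical.choose_spec (F.exists_rel α i)

theorem sfun_eq (F : Frame z r) (α : MulAut E) (i j : Fin 5) (h : Rel z r α i j) :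
    sfun F α i = j :=
  F.rel_unique α i _ _ (sfun_spec F α i) h

/-- The action on points as a monoid homomorphism. -/
noncomputable def sHom (F : Frame z r) : MulAut E →* Function.End (Fin 5) where
  toFun α := sfun F α
  map_one' := funext fun i => sfun_eq F 1 i i (Or.inl rfl)
  map_mul' α β := funext fun i =>
    sfun_eq F (α * β) i _ (F.rel_mul α β i _ _ (sfun_spec F β i) (sfun_spec F α _))

/-- The action on points. -/
noncomputable def Phi (F : Frame z r) : MulAut E →* Equiv.Perm (Fin 5) := (sHom F).toHomPerm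

theorem Phi_eq (F : Frame z r) (α : MulAut E) (i j : Fin 5) (h : Rel z r α i j) :
    Phi F α i = j :=
  sfun_eq F α i j h

theorem Phi_spec (F : Frame z r) (α : MulAut E) (i : Fin 5) : Rel z r α i (Phi F α i) :=
  sfun_spec F α i

theorem Phi_conj (F : Frame z r) (g : E) : Phi F (MulAut.conj g) = 1 := by
  apply Equiv.ext
  intro i
  show Phi F (MulAut.conj g) i = i
  apply Phi_eq
  unfold Rel
  rw [MulAut.conj_apply]
  rcases Int.units_eq_one_or (kap z g (r i)) with h | h
  · left
    have h2 := (kap_eq_one_iff F.amb g (r i)).mp h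
    rw [h2]; group
  · right
    have h2 := comm_eq_z F.amb (r i) g h
    calc g * r i * g⁻¹ = (g * r i * g⁻¹ * (r i)⁻¹) * r i := by group
      _ = z * r i := by rw [h2]
      _ = r i * z := (F.amb.z_c (r i)).symm

theorem sq_mul_eq_z (F : Frame z r) (i j : Fin 5) (hij : i ≠ j) :
    (r i * r j) * (r i * r j) = z := by
  apply (Q_eq_neg_one_iff F.amb _).mp
  rw [Q_mul F.amb, (Q_eq_one_iff F.amb _).mpr (F.sq i), (Q_eq_one_iff F.amb _).mpr (F.sq j),
    F.nc j i hij.symm]
  rfl

theorem Phi_tau (F : Frame z r) (i j : Fin 5) (hij : i ≠ j) :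
    Phi F (tau F.amb (r i * r j) (sq_mul_eq_z F i j hij)) = Equiv.swap i j := by
  apply Equiv.ext
  intro k
  apply Phi_eq
  unfold Rel
  by_cases hki : k = i
  · subst hki
    rw [Equiv.swap_apply_left]
    left
    have hk : kap z (r k) (r k * r j) = -1 := by
      rw [kap_mul_right F.amb, kap_self F.amb, F.nc k j hij, one_mul]
    rw [tau_nc F.amb _ _ _ ((kap_eq_neg_one_iff F.amb _ _).mp hk), ← mul_assoc, F.sq, one_mul]
  · by_cases hkj : k = j
    · subst hkj
      rw [Equiv.swap_apply_right]
      right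
      have hk : kap z (r k) (r i * r k) = -1 := by
        rw [kap_mul_right F.amb, kap_self F.amb, F.nc k i hki, mul_one]
      rw [tau_nc F.amb _ _ _ ((kap_eq_neg_one_iff F.amb _ _).mp hk)]
      have hsw : r k * r i = z * (r i * r k) := nc_swap F.amb _ _ (F.nc k i hki)
      calc r k * (r i * r k) = (r k * r i) * r k := by group
        _ = z * (r i * r k) * r k := by rw [hsw]
        _ = z * r i * (r k * r k) := by group
        _ = z * r i := by rw [F.sq, mul_one]
        _ = r i * z := (F.amb.z_c (r i)).symm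
    · rw [Equiv.swap_apply_of_ne_of_ne hki hkj]
      left
      have hk : kap z (r k) (r i * r j) = 1 := by
        rw [kap_mul_right F.amb, F.nc k i hki, F.nc k j hkj, neg_one_mul_neg_one]
      rw [tau_comm F.amb _ _ _ ((kap_eq_one_iff F.amb _ _).mp hk)]

theorem ker_card_le [Finite E] (F : Frame z r) : Nat.card (Phi F).ker ≤ 16 := by
  classical
  have hrel : ∀ (α : (Phi F).ker) (i : Fin 5),
      (α : MulAut E) (r i) = r i ∨ (α : MulAut E) (r i) = r i * z := by
    intro α i
    have h1 : Phi F (α : MulAut E) = 1 := α.2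
    have h2 := Phi_spec F (α : MulAut E) i
    have h3 : Phi F (α : MulAut E) i = i := by rw [h1]; rfl
    rw [h3] at h2
    exact h2
  have hinj : Function.Injective (fun (α : (Phi F).ker) (i : Fin 4) =>
      decide ((α : MulAut E) (r i.castSucc) = r i.castSucc)) := by
    intro α β hab
    apply Subtype.ext
    have hval : ∀ i : Fin 4, (α : MulAut E) (r i.castSucc) = (β : MulAut E) (r i.castSucc) := by
      intro i
      have h1 := congrFun hab i
      simp only [decide_eq_decide] at h1
      rcases hrel α i.castSucc with ha | ha <;> rcases hrel β i.castSucc with hb | hb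
      · rw [ha, hb]
      · rw [ha, h1.mp ha]
      · rw [hb, h1.mpr hb]
      · rw [ha, hb]
    have hm : (α : MulAut E).toMonoidHom = (β : MulAut E).toMonoidHom := by
      apply MonoidHom.eq_of_eqOn_dense F.gen
      rintro x ⟨i, rfl⟩
      exact hval i
    exact MulEquiv.toMonoidHom_injective hm
  have h := Nat.card_le_card_of_injective _ hinj
  have h16 : Nat.card (Fin 4 → Bool) = 16 := by
    rw [Nat.card_eq_fintype_card]; rfl
  omega

end FrameSec

theorem card_inn {P : Type*} [Group P] [Finite P] (h32 : Nat.card P = 32)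
    (hc : Nat.card (Subgroup.center P) = 2) :
    Nat.card (MulAut.conj : P →* MulAut P).range = 16 := by
  have hker : (MulAut.conj : P →* MulAut P).ker = Subgroup.center P := by
    ext g
    rw [MonoidHom.mem_ker, Subgroup.mem_center_iff]
    constructor
    · intro h x
      have h2 : g * x * g⁻¹ = x := congrArg (fun α : MulAut P => α x) h
      calc x * g = (g * x * g⁻¹) * g := by rw [h2]
        _ = g * x := by group
    · intro h
      apply MulEquiv.ext
      intro x
      show g * x * g⁻¹ = x
      rw [← h x]; group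
  have h1 := Subgroup.index_ker (MulAut.conj : P →* MulAut P)
  rw [hker] at h1
  have h2 := Subgroup.card_mul_index (Subgroup.center P)
  rw [hc, h32, h1] at h2
  omega

theorem main_of_frame {P : Type*} [Group P] [Finite P] {z : P} {r : Fin 5 → P} (F : Frame z r)
    (hinn : Nat.card (MulAut.conj : P →* MulAut P).range = 16)
    [(MulAut.conj : P →* MulAut P).range.Normal] :
    Nat.card (MulAut P) = 1920 ∧
      Nonempty ((MulAut P ⧸ (MulAut.conj : P →* MulAut P).range) ≃* Equiv.Perm (Fin 5)) := by
  have hle : (MulAut.conj : P →* MulAut P).range ≤ (Phi F).ker := by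
    rintro _ ⟨g, rfl⟩
    exact Phi_conj F g
  have hker : (MulAut.conj : P →* MulAut P).range = (Phi F).ker :=
    Subgroup.eq_of_le_of_card_ge hle (by rw [hinn]; exact ker_card_le F)
  have hsurj : Function.Surjective (Phi F) := by
    rw [← MonoidHom.range_eq_top, eq_top_iff, ← Equiv.Perm.closure_isSwap, Subgroup.closure_le]
    rintro σ ⟨i, j, hij, rfl⟩
    exact ⟨_, Phi_tau F i j hij⟩
  let e : (MulAut P ⧸ (MulAut.conj : P →* MulAut P).range) ≃* Equiv.Perm (Fin 5) :=
    (QuotientGroup.quotientMulEquivOfEq hker).trans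
      (QuotientGroup.quotientKerEquivOfSurjective (Phi F) hsurj)
  refine ⟨?_, ⟨e⟩⟩
  have h1 := Subgroup.card_eq_card_quotient_mul_card_subgroup (MulAut.conj : P →* MulAut P).range
  have h2 : Nat.card (MulAut P ⧸ (MulAut.conj : P →* MulAut P).range) = 120 := by
    rw [Nat.card_congr e.toEquiv, Nat.card_perm, Nat.card_fin]; rfl
  rw [h1, h2, hinn]

section Build

variable {P : Type*} [Group P]

theorem no_e8 [Finite P] {z : P} (hz : Amb z)
    (hminus : ∀ A : Subgroup P, Cfsg.IsElementaryAbelian 2 A → Nat.card ↥A ≤ 4)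
    (x y : P) (hx : x * x = 1) (hy : y * y = 1) (hxy : x * y = y * x)
    (hx1 : x ≠ 1) (hxz : x ≠ z) (hy1 : y ≠ 1) (hyz : y ≠ z) : y = x ∨ y = x * z := by
  by_contra hne
  push Not at hne
  obtain ⟨hyx, hyxz⟩ := hne
  have hcomm : ∀ a ∈ ({z, x, y} : Set P), ∀ b ∈ ({z, x, y} : Set P), a * b = b * a := by
    intro a ha b hb
    simp only [Set.mem_insert_iff, Set.mem_singleton_iff] at ha hb
    rcases ha with ha | ha | ha <;> rcases hb with hb | hb | hb <;> rw [ha, hb] <;>
      first
        | exact hxy
        | exact hxy.symm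
        | exact hz.z_c _
        | exact (hz.z_c _).symm
  have hA : IsMulCommutative (Subgroup.closure ({z, x, y} : Set P)) :=
    Cfsg.Agent.Helper19.isMulCommutative_closure_of_comm hcomm
  have hsq : ∀ a ∈ Subgroup.closure ({z, x, y} : Set P), a ^ 2 = 1 := by
    intro a ha
    induction ha using Subgroup.closure_induction with
    | mem a ha =>
      simp only [Set.mem_insert_iff, Set.mem_singleton_iff] at ha
      rcases ha with ha | ha | ha <;> rw [ha, pow_two]
      · exact hz.z_sq
      · exact hx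
      · exact hy
    | one => exact one_pow 2
    | mul a b ha hb iha ihb =>
      have hc : a * b = b * a := by
        have h1 := hA.is_comm.comm (⟨a, ha⟩ : Subgroup.closure ({z, x, y} : Set P)) ⟨b, hb⟩
        exact congrArg Subtype.val h1
      rw [(show Commute a b from hc).mul_pow, iha, ihb, one_mul]
    | inv a ha iha => rw [inv_pow, iha, inv_one]
  have hcard := hminus _ ⟨hA, hsq⟩
  have hzm : z ∈ Subgroup.closure ({z, x, y} : Set P) := Subgroup.subset_closure (by simp)
  have hxm : x ∈ Subgroup.closure ({z, x, y} : Set P) := Subgroup.subset_closure (by simp)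
  have hym : y ∈ Subgroup.closure ({z, x, y} : Set P) := Subgroup.subset_closure (by simp)
  have hp := pigeon5 hcard (⟨1, Subgroup.one_mem _⟩ : Subgroup.closure ({z, x, y} : Set P))
    ⟨z, hzm⟩ ⟨x, hxm⟩ ⟨y, hym⟩ ⟨x * z, Subgroup.mul_mem _ hxm hzm⟩
  simp only [Subtype.mk.injEq] at hp
  rcases hp with h | h | h | h | h | h | h | h | h | h
  · exact hz.z_ne h.symm
  · exact hx1 h.symm
  · exact hy1 h.symm
  · apply hxz
    calc x = x * (z * z) := by rw [hz.z_sq, mul_one]
      _ = (x * z) * z := by group
      _ = z := by rw [← h, one_mul]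
  · exact hxz h.symm
  · exact hyz h.symm
  · apply hx1
    have h2 : 1 * z = x * z := by rw [one_mul]; exact h
    exact (mul_right_cancel h2).symm
  · exact hyx h.symm
  · apply hz.z_ne
    have h2 : x * z = x * 1 := by rw [mul_one]; exact h.symm
    exact mul_left_cancel h2
  · exact hyxz h

theorem fin2_cases : ∀ a : Fin 2, a = 0 ∨ a = 1 := by decide

theorem exists_frame [Fintype P] {z : P} (hz : Amb z) (hND : ND z (⊤ : Subgroup P))
    (h32 : Nat.card P = 32)
    (hminus : ∀ A : Subgroup P, Cfsg.IsElementaryAbelian 2 A → Nat.card ↥A ≤ 4) :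
    ∃ r : Fin 5 → P, Frame z r := by
  classical
  have htop : Nat.card (⊤ : Subgroup P) = 32 := by rw [Subgroup.card_top, h32]
  have hab : ¬ ∀ g ∈ (⊤ : Subgroup P), ∀ h ∈ (⊤ : Subgroup P), g * h = h * g := by
    intro hab
    have h2 := (base_case hz ⊤ hND.1 (fun g hg => hND.2 g hg (hab g hg))).1
    omega
  obtain ⟨x₁, hx₁, x₂, hx₂, hk, hcase⟩ := normal_form hz ⊤ hND hab
  have hcardC := split_card hz ⊤ x₁ x₂ hx₁ hx₂ hk
  have hCnd := nd_cent hz ⊤ hND x₁ x₂ hx₁ hx₂ hk
  have hC8 : Nat.card (cent1 (cent1 (⊤ : Subgroup P) x₁) x₂) = 8 := by omega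
  have hQ : Q z x₁ = 1 ∧ Q z x₂ = 1 := by
    rcases hcase with h | ⟨-, -, h⟩
    · exact h
    · exfalso
      have h2 := (base_case hz _ hCnd.1 h).1
      omega
  obtain ⟨hQ1, hQ2⟩ := hQ
  have habC : ¬ ∀ g ∈ cent1 (cent1 (⊤ : Subgroup P) x₁) x₂,
      ∀ h ∈ cent1 (cent1 (⊤ : Subgroup P) x₁) x₂, g * h = h * g := by
    intro hab
    have h2 := (base_case hz _ hCnd.1 (fun g hg => hCnd.2 g hg (hab g hg))).1
    omega
  obtain ⟨u, hu, v, hv, hkuv, hcase2⟩ := normal_form hz _ hCnd habC
  have hu1 : u * x₁ = x₁ * u := hu.1.2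
  have hu2 : u * x₂ = x₂ * u := hu.2
  have hv1 : v * x₁ = x₁ * v := hv.1.2
  have hv2 : v * x₂ = x₂ * v := hv.2
  have ku1 : kap z u x₁ = 1 := (kap_eq_one_iff hz u x₁).mpr hu1
  have ku2 : kap z u x₂ = 1 := (kap_eq_one_iff hz u x₂).mpr hu2
  have kv1 : kap z v x₁ = 1 := (kap_eq_one_iff hz v x₁).mpr hv1
  have kv2 : kap z v x₂ = 1 := (kap_eq_one_iff hz v x₂).mpr hv2
  have k1u : kap z x₁ u = 1 := by rw [kap_symm hz]; exact ku1
  have k2u : kap z x₂ u = 1 := by rw [kap_symm hz]; exact ku2
  have k1v : kap z x₁ v = 1 := by rw [kap_symm hz]; exact kv1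
  have k2v : kap z x₂ v = 1 := by rw [kap_symm hz]; exact kv2
  have k21 : kap z x₂ x₁ = -1 := by rw [kap_symm hz]; exact hk
  have kvu : kap z v u = -1 := by rw [kap_symm hz]; exact hkuv
  have hQuv : Q z u = -1 ∧ Q z v = -1 ∧
      ∀ c ∈ cent1 (cent1 (cent1 (cent1 (⊤ : Subgroup P) x₁) x₂) u) v, c = 1 ∨ c = z := by
    rcases hcase2 with ⟨hQu, -⟩ | h
    · exfalso
      have huu : u * u = 1 := (Q_eq_one_iff hz u).mp hQu
      have hx11 : x₁ * x₁ = 1 := (Q_eq_one_iff hz x₁).mp hQ1
      have hne : ∀ a b : P, kap z a b = -1 → a ≠ 1 ∧ a ≠ z := by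
        intro a b hab
        constructor
        · intro ha
          rw [ha] at hab
          have h3 : kap z 1 b = 1 := (kap_eq_one_iff hz 1 b).mpr (by rw [one_mul, mul_one])
          rw [h3] at hab; exact neg_one_ne_one hab.symm
        · intro ha
          rw [ha, kap_z_left hz] at hab; exact neg_one_ne_one hab.symm
      obtain ⟨hx1ne1, hx1nez⟩ := hne x₁ x₂ hk
      obtain ⟨hune1, hunez⟩ := hne u v hkuv
      rcases no_e8 hz hminus x₁ u hx11 huu hu1.symm hx1ne1 hx1nez hune1 hunez with h | h
      · rw [h] at ku2; rw [ku2] at hk; exact neg_one_ne_one hk.symm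
      · rw [h, kap_mul_left hz, hk, kap_z_left hz, mul_one] at ku2
        exact neg_one_ne_one ku2
    · exact h
  obtain ⟨hQu, hQv, hC2⟩ := hQuv
  -- values of Q and kap on the five representatives
  have q2 : Q z (x₁ * x₂ * u) = 1 := by
    simp only [Q_mul hz, kap_mul_left hz, kap_mul_right hz, hQ1, hQ2, hQu, hQv, hk, k21, hkuv,
      kvu, ku1, ku2, kv1, kv2, k1u, k2u, k1v, k2v, kap_self hz]
    decide
  have q3 : Q z (x₁ * x₂ * v) = 1 := by
    simp only [Q_mul hz, kap_mul_left hz, kap_mul_right hz, hQ1, hQ2, hQu, hQv, hk, k21, hkuv,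
      kvu, ku1, ku2, kv1, kv2, k1u, k2u, k1v, k2v, kap_self hz]
    decide
  have q4 : Q z (x₁ * x₂ * (u * v)) = 1 := by
    simp only [Q_mul hz, kap_mul_left hz, kap_mul_right hz, hQ1, hQ2, hQu, hQv, hk, k21, hkuv,
      kvu, ku1, ku2, kv1, kv2, k1u, k2u, k1v, k2v, kap_self hz]
    decide
  have k02 : kap z x₁ (x₁ * x₂ * u) = -1 := by
    simp only [Q_mul hz, kap_mul_left hz, kap_mul_right hz, hQ1, hQ2, hQu, hQv, hk, k21, hkuv,
      kvu, ku1, ku2, kv1, kv2, k1u, k2u, k1v, k2v, kap_self hz]
    decide
  have k03 : kap z x₁ (x₁ * x₂ * v) = -1 := by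
    simp only [Q_mul hz, kap_mul_left hz, kap_mul_right hz, hQ1, hQ2, hQu, hQv, hk, k21, hkuv,
      kvu, ku1, ku2, kv1, kv2, k1u, k2u, k1v, k2v, kap_self hz]
    decide
  have k04 : kap z x₁ (x₁ * x₂ * (u * v)) = -1 := by
    simp only [Q_mul hz, kap_mul_left hz, kap_mul_right hz, hQ1, hQ2, hQu, hQv, hk, k21, hkuv,
      kvu, ku1, ku2, kv1, kv2, k1u, k2u, k1v, k2v, kap_self hz]
    decide
  have k12 : kap z x₂ (x₁ * x₂ * u) = -1 := by
    simp only [Q_mul hz, kap_mul_left hz, kap_mul_right hz, hQ1, hQ2, hQu, hQv, hk, k21, hkuv,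
      kvu, ku1, ku2, kv1, kv2, k1u, k2u, k1v, k2v, kap_self hz]
    decide
  have k13 : kap z x₂ (x₁ * x₂ * v) = -1 := by
    simp only [Q_mul hz, kap_mul_left hz, kap_mul_right hz, hQ1, hQ2, hQu, hQv, hk, k21, hkuv,
      kvu, ku1, ku2, kv1, kv2, k1u, k2u, k1v, k2v, kap_self hz]
    decide
  have k14 : kap z x₂ (x₁ * x₂ * (u * v)) = -1 := by
    simp only [Q_mul hz, kap_mul_left hz, kap_mul_right hz, hQ1, hQ2, hQu, hQv, hk, k21, hkuv,
      kvu, ku1, ku2, kv1, kv2, k1u, k2u, k1v, k2v, kap_self hz]
    decide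
  have k23 : kap z (x₁ * x₂ * u) (x₁ * x₂ * v) = -1 := by
    simp only [Q_mul hz, kap_mul_left hz, kap_mul_right hz, hQ1, hQ2, hQu, hQv, hk, k21, hkuv,
      kvu, ku1, ku2, kv1, kv2, k1u, k2u, k1v, k2v, kap_self hz]
    decide
  have k24 : kap z (x₁ * x₂ * u) (x₁ * x₂ * (u * v)) = -1 := by
    simp only [Q_mul hz, kap_mul_left hz, kap_mul_right hz, hQ1, hQ2, hQu, hQv, hk, k21, hkuv,
      kvu, ku1, ku2, kv1, kv2, k1u, k2u, k1v, k2v, kap_self hz]
    decide
  have k34 : kap z (x₁ * x₂ * v) (x₁ * x₂ * (u * v)) = -1 := by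
    simp only [Q_mul hz, kap_mul_left hz, kap_mul_right hz, hQ1, hQ2, hQu, hQv, hk, k21, hkuv,
      kvu, ku1, ku2, kv1, kv2, k1u, k2u, k1v, k2v, kap_self hz]
    decide
  obtain ⟨r, hr⟩ : ∃ r : Fin 5 → P, r = ![x₁, x₂, x₁ * x₂ * u, x₁ * x₂ * v, x₁ * x₂ * (u * v)] :=
    ⟨_, rfl⟩
  have hsq : ∀ i, r i * r i = 1 := by
    intro i
    apply (Q_eq_one_iff hz _).mp
    rw [hr]
    fin_cases i
    · exact hQ1
    · exact hQ2
    · exact q2
    · exact q3
    · exact q4
  have hnc : ∀ i j, i ≠ j → kap z (r i) (r j) = -1 := by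
    intro i j hij
    rw [hr]
    fin_cases i <;> fin_cases j <;>
      first
        | exact absurd rfl hij
        | exact hk | exact k02 | exact k03 | exact k04 | exact k12 | exact k13 | exact k14
        | exact k23 | exact k24 | exact k34
        | (rw [kap_symm hz]
           first
            | exact hk | exact k02 | exact k03 | exact k04 | exact k12 | exact k13 | exact k14
            | exact k23 | exact k24 | exact k34)
  refine ⟨r, ⟨hz, hsq, hnc, ?_, ?_, ?_⟩⟩
  · -- all involutions
    have hkey := Cfsg.Agent.S3763.key hz hND 2 (by rw [h32]; norm_num)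
    have hT : T z (⊤ : Subgroup P) = -8 := by
      rcases hkey.1 with h | h
      · exfalso
        apply hkey.2.2.2.1 (by rw [h]; norm_num)
        intro A hA hA2
        exact (hminus A ⟨hA, hA2⟩).trans (by norm_num)
      · rw [h]; norm_num
    have hTtop := T_top hz
    rw [hT, h32] at hTtop
    have h12 : Nat.card {x : P // x ^ 2 = 1} = 12 := by
      have h3 : (Nat.card {x : P // x ^ 2 = 1} : ℤ) = 12 := by push_cast at hTtop; linarith
      exact_mod_cast h3
    obtain ⟨zp, hzp0, hzp1⟩ : ∃ zp : Fin 2 → P, zp 0 = 1 ∧ zp 1 = z := ⟨![1, z], rfl, rfl⟩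
    have zp_c : ∀ (a : Fin 2) (g : P), g * zp a = zp a * g := by
      intro a g
      rcases fin2_cases a with rfl | rfl
      · rw [hzp0, mul_one, one_mul]
      · rw [hzp1]; exact hz.z_c g
    have zp_sq : ∀ a : Fin 2, zp a * zp a = 1 := by
      intro a
      rcases fin2_cases a with rfl | rfl
      · rw [hzp0, mul_one]
      · rw [hzp1]; exact hz.z_sq
    have zp_inj : ∀ a b : Fin 2, zp a = zp b → a = b := by
      intro a b h
      rcases fin2_cases a with rfl | rfl <;> rcases fin2_cases b with rfl | rfl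
      · rfl
      · rw [hzp0, hzp1] at h; exact absurd h.symm hz.z_ne
      · rw [hzp0, hzp1] at h; exact absurd h hz.z_ne
      · rfl
    have hcc : ∀ (a b : Fin 2) (g : P), (zp a * zp b) * g = g * (zp a * zp b) := by
      intro a b g
      calc (zp a * zp b) * g = zp a * (zp b * g) := mul_assoc _ _ _
        _ = zp a * (g * zp b) := by rw [zp_c b g]
        _ = (zp a * g) * zp b := (mul_assoc _ _ _).symm
        _ = (g * zp a) * zp b := by rw [zp_c a g]
        _ = g * (zp a * zp b) := mul_assoc _ _ _
    have hsq1 : ∀ a : Fin 2, (zp a) ^ 2 = 1 := fun a => by rw [pow_two]; exact zp_sq a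
    have hsq2 : ∀ w : Fin 5 × Fin 2, (r w.1 * zp w.2) ^ 2 = 1 := by
      intro w
      have hc := zp_c w.2 (r w.1)
      rw [pow_two]
      calc r w.1 * zp w.2 * (r w.1 * zp w.2) = r w.1 * (zp w.2 * r w.1) * zp w.2 := by group
        _ = r w.1 * (r w.1 * zp w.2) * zp w.2 := by rw [← hc]
        _ = (r w.1 * r w.1) * (zp w.2 * zp w.2) := by group
        _ = 1 := by rw [hsq, zp_sq, one_mul]
    have hsolve : ∀ (g h : P) (a : Fin 2), g * zp a = h → g = h * zp a := by
      intro g h a hg
      calc g = g * (zp a * zp a) := by rw [zp_sq, mul_one]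
        _ = (g * zp a) * zp a := by group
        _ = h * zp a := by rw [hg]
    have hf : Function.Injective
        (Sum.elim (fun a : Fin 2 => (⟨zp a, hsq1 a⟩ : {x : P // x ^ 2 = 1}))
          (fun w : Fin 5 × Fin 2 => ⟨r w.1 * zp w.2, hsq2 w⟩)) := by
      rintro (a | ⟨i, a⟩) (b | ⟨j, b⟩) hab
      · have h : zp a = zp b := congrArg Subtype.val hab
        exact congrArg Sum.inl (zp_inj a b h)
      · exfalso
        have h : zp a = r j * zp b := congrArg Subtype.val hab
        have hrj : r j = zp a * zp b := hsolve _ _ _ h.symm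
        have h1 := hnc j (j + 1) (fin5_ne_succ j)
        have h2 : kap z (r j) (r (j + 1)) = 1 := by
          apply (kap_eq_one_iff hz _ _).mpr
          rw [hrj]; exact hcc a b _
        rw [h2] at h1; exact neg_one_ne_one h1.symm
      · exfalso
        have h : r i * zp a = zp b := congrArg Subtype.val hab
        have hri : r i = zp b * zp a := hsolve _ _ _ h
        have h1 := hnc i (i + 1) (fin5_ne_succ i)
        have h2 : kap z (r i) (r (i + 1)) = 1 := by
          apply (kap_eq_one_iff hz _ _).mpr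
          rw [hri]; exact hcc b a _
        rw [h2] at h1; exact neg_one_ne_one h1.symm
      · have h : r i * zp a = r j * zp b := congrArg Subtype.val hab
        have hri : r i = r j * (zp b * zp a) := by rw [hsolve _ _ _ h, mul_assoc]
        have hij : i = j := by
          by_contra hne
          have h1 := hnc i j hne
          have h2 : kap z (r i) (r j) = 1 := by
            apply (kap_eq_one_iff hz _ _).mpr
            rw [hri, mul_assoc, hcc b a (r j)]
          rw [h2] at h1; exact neg_one_ne_one h1.symm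
        subst hij
        have hab' : a = b := zp_inj a b (mul_left_cancel h)
        rw [hab']
    have hcardS : Nat.card (Fin 2 ⊕ (Fin 5 × Fin 2)) = 12 := by
      rw [Nat.card_eq_fintype_card]; rfl
    have hbij := hf.bijective_of_nat_card_le (by rw [h12, hcardS])
    intro x hx
    obtain ⟨w, hw⟩ := hbij.2 ⟨x, by rw [pow_two]; exact hx⟩
    rcases w with a | ⟨i, a⟩
    · have hw' : zp a = x := congrArg Subtype.val hw
      rcases fin2_cases a with rfl | rfl
      · left; rw [← hw', hzp0]
      · right; left; rw [← hw', hzp1]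
    · have hw' : r i * zp a = x := congrArg Subtype.val hw
      right; right
      refine ⟨i, ?_⟩
      rcases fin2_cases a with rfl | rfl
      · left; rw [← hw', hzp0, mul_one]
      · right; rw [← hw', hzp1]
  · -- generation
    have hr0 : x₁ ∈ Subgroup.closure (Set.range (fun i : Fin 4 => r i.castSucc)) :=
      Subgroup.subset_closure ⟨0, by rw [hr]; rfl⟩
    have hr1 : x₂ ∈ Subgroup.closure (Set.range (fun i : Fin 4 => r i.castSucc)) :=
      Subgroup.subset_closure ⟨1, by rw [hr]; rfl⟩
    have hr2 : x₁ * x₂ * u ∈ Subgroup.closure (Set.range (fun i : Fin 4 => r i.castSucc)) :=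
      Subgroup.subset_closure ⟨2, by rw [hr]; rfl⟩
    have hr3 : x₁ * x₂ * v ∈ Subgroup.closure (Set.range (fun i : Fin 4 => r i.castSucc)) :=
      Subgroup.subset_closure ⟨3, by rw [hr]; rfl⟩
    generalize Subgroup.closure (Set.range (fun i : Fin 4 => r i.castSucc)) = H at *
    have huH : u ∈ H := by
      have e : u = (x₁ * x₂)⁻¹ * (x₁ * x₂ * u) := by group
      rw [e]; exact H.mul_mem (H.inv_mem (H.mul_mem hr0 hr1)) hr2
    have hvH : v ∈ H := by
      have e : v = (x₁ * x₂)⁻¹ * (x₁ * x₂ * v) := by group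
      rw [e]; exact H.mul_mem (H.inv_mem (H.mul_mem hr0 hr1)) hr3
    have hzH : z ∈ H := by
      have e := comm_eq_z hz x₁ x₂ k21
      rw [← e]
      exact H.mul_mem (H.mul_mem (H.mul_mem hr1 hr0) (H.inv_mem hr1)) (H.inv_mem hr0)
    have step : ∀ (g y : P), y ∈ H → g * y⁻¹ ∈ H → g ∈ H := by
      intro g y hy h
      have e : g = g * y⁻¹ * y := by group
      rw [e]; exact H.mul_mem h hy
    have l1 : ∀ c ∈ cent1 (cent1 (cent1 (cent1 (⊤ : Subgroup P) x₁) x₂) u) v, c ∈ H := by
      intro c hc
      rcases hC2 c hc with h | h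
      · rw [h]; exact H.one_mem
      · rw [h]; exact hzH
    have l2 : ∀ c ∈ cent1 (cent1 (cent1 (⊤ : Subgroup P) x₁) x₂) u, c ∈ H := by
      intro c hc
      rcases cover hz (cent1 (cent1 (cent1 (⊤ : Subgroup P) x₁) x₂) u) v u ⟨hu, rfl⟩ hkuv c hc with h | h
      · exact l1 c h
      · exact step c u huH (l1 _ h)
    have l3 : ∀ c ∈ cent1 (cent1 (⊤ : Subgroup P) x₁) x₂, c ∈ H := by
      intro c hc
      rcases cover hz _ u v hv kvu c hc with h | h
      · exact l2 c h
      · exact step c v hvH (l2 _ h)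
    have l4 : ∀ c ∈ cent1 (⊤ : Subgroup P) x₁, c ∈ H := by
      intro c hc
      rcases cover hz (cent1 (⊤ : Subgroup P) x₁) x₂ x₁ ⟨hx₁, rfl⟩ hk c hc with h | h
      · exact l3 c h
      · exact step c x₁ hr0 (l3 _ h)
    rw [eq_top_iff]
    intro g _
    rcases cover hz ⊤ x₁ x₂ hx₂ k21 g (Subgroup.mem_top g) with h | h
    · exact l4 g h
    · exact step g x₂ hr1 (l4 _ h)
  · intro g hg
    exact hND.2 g (Subgroup.mem_top g) (fun h _ => hg h)

end Build

/-- Let P be an extraspecial 2-group of order 32 with no elementary abelian subgroup of order 8 (the central product of a dihedral and a quaternion group of order 8). Then the inner automorphism group of P has order 16 and the outer automorphism group Aut(P)/Inn(P) is isomorphic to the symmetric group of degree 5; in particular Aut(P) has order 1920. -/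
theorem result {P : Type*} [Group P] [Finite P]
    (hex : Cfsg.IsExtraspecial 2 P) (h32 : Nat.card P = 32)
    (hminus : ∀ A : Subgroup P, Cfsg.IsElementaryAbelian 2 A → Nat.card ↥A ≤ 4)
    [(MulAut.conj : P →* MulAut P).range.Normal] :
    Nat.card ↥(MulAut.conj : P →* MulAut P).range = 16 ∧ Nat.card (MulAut P) = 1920 ∧
      Nonempty ((MulAut P ⧸ (MulAut.conj : P →* MulAut P).range) ≃* Equiv.Perm (Fin 5)) := by
  classical
  haveI : Fintype P := Fintype.ofFinite P
  obtain ⟨z, hz, hND⟩ := Cfsg.Agent.S4416.amb_of_es hex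
  obtain ⟨r, F⟩ := exists_frame hz hND h32 hminus
  have hinn := card_inn h32 hex.2
  obtain ⟨h1, h2⟩ := main_of_frame F hinn
  exact ⟨hinn, h1, h2⟩

end Cfsg.Agent.S4413
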