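import Mathlib
import Cfsg.Statements.S4405
import Cfsg.Agent.S4413
import Cfsg.Agent.S0044
import Cfsg.Agent.Helper24.CharBurnside

set_option autoImplicit false
open Cfsg
open Cfsg.Agent.Helper19.ES2
open Cfsg.Agent.S4413

namespace Cfsg.Agent.S4405

set_option maxRecDepth 100000 in
theorem perm5_lemma : ∀ t γ : Equiv.Perm (Fin 5), t * t = 1 → t ≠ 1 → γ ^ 5 = 1 → γ ≠ 1 →
    (∃ k : Fin 5, t * γ * t⁻¹ = γ ^ (k : ℕ)) → ∃ e, t e = e ∧ ∀ i, i ≠ e → t i ≠ i := by
  decide +kernel

set_option maxRecDepth 100000 in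
theorem comb_lemma : ∀ (t : Equiv.Perm (Fin 5)) (e : Fin 5), t e = e → (∀ i, i ≠ e → t i ≠ i) →
    t * t = 1 → ∀ χ : Fin 5 → Bool, (∀ i, χ (t i) = χ i) → χ e = false →
    (∀ i, χ i = false) ∨ (∀ i, i ≠ e → χ i = true) ∨
      ∃ a, a ≠ e ∧ χ a = true ∧ χ (t a) = true ∧ t a ≠ a ∧ ∀ i, i ≠ a → i ≠ t a → χ i = false := by
  decide +kernel

section FrameLemmas

variable {E : Type*} [Group E] {z : E} {r : Fin 5 → E}

theorem kap_aut (F : Frame z r) (α : MulAut E) (g k : E) : kap z (α g) (α k) = kap z g k := by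
  unfold kap
  have h1 : α g * α k * (α g)⁻¹ * (α k)⁻¹ = α (g * k * g⁻¹ * k⁻¹) := by
    rw [map_mul, map_mul, map_mul, map_inv, map_inv]
  rw [h1]
  rcases F.amb.cm g k with h | h
  · rw [h, map_one]
  · rw [h, F.aut_z]

theorem central_of_kap (F : Frame z r) (g : E) (h : ∀ i, kap z g (r i) = 1) : g = 1 ∨ g = z := by
  apply F.cen
  have hle : Subgroup.closure (Set.range (fun i : Fin 4 => r i.castSucc)) ≤
      Subgroup.centralizer {g} := by
    rw [Subgroup.closure_le]
    rintro x ⟨i, rfl⟩
    rw [SetLike.mem_coe, Subgroup.mem_centralizer_iff]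
    intro y hy
    rw [Set.mem_singleton_iff] at hy
    rw [hy]
    exact (kap_eq_one_iff F.amb g _).mp (h _)
  rw [F.gen] at hle
  intro k
  have h2 := hle (Subgroup.mem_top k)
  rw [Subgroup.mem_centralizer_iff] at h2
  exact h2 g rfl

theorem kap_r (F : Frame z r) (i j : Fin 5) : kap z (r i) (r j) = if i = j then 1 else -1 := by
  by_cases h : i = j
  · rw [if_pos h, h, kap_self F.amb]
  · rw [if_neg h, F.nc i j h]

theorem prod_kap (F : Frame z r) (g : E) : ∏ i : Fin 5, kap z g (r i) = 1 := by
  have hp : ∀ j, kap z (r 0 * r 1 * r 2 * r 3 * r 4) (r j) = 1 := by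
    intro j
    simp only [kap_mul_left F.amb, kap_r F]
    fin_cases j <;> decide
  have hc := central_of_kap F _ hp
  have hk : kap z g (r 0 * r 1 * r 2 * r 3 * r 4) = 1 := by
    rcases hc with h | h
    · rw [h]; exact (kap_eq_one_iff F.amb g 1).mpr (by rw [mul_one, one_mul])
    · rw [h]; exact kap_z_right F.amb g
  rw [Fin.prod_univ_five]
  simp only [kap_mul_right F.amb] at hk
  exact hk

end FrameLemmas

theorem core {G : Type*} [Group G] [Finite G] (H : Subgroup G) [hHn : H.Normal]
    (hG : Nat.card G = 320)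
    (hcent : Subgroup.centralizer (H : Set G) ≤ H)
    (hex : Cfsg.IsExtraspecial 2 ↥H) (h32 : Nat.card ↥H = 32)
    (hminus : ∀ A : Subgroup G, A ≤ H → Cfsg.IsElementaryAbelian 2 A → Nat.card ↥A ≤ 4)
    (T : G) (hT : orderOf T = 2) (hTH : T ∉ H) :
    Nat.card ↥(H ⊓ Subgroup.centralizer ({T} : Set G)) ≤ 4 := by
  classical
  haveI : Fintype ↥H := Fintype.ofFinite _
  have hminus' : ∀ A : Subgroup ↥H, Cfsg.IsElementaryAbelian 2 A → Nat.card ↥A ≤ 4 := by
    intro A hA
    have hle : A.map H.subtype ≤ H := Subgroup.map_subtype_le A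
    have hel : Cfsg.IsElementaryAbelian 2 (A.map H.subtype) := by
      refine ⟨⟨⟨fun x y => ?_⟩⟩, ?_⟩
      · obtain ⟨a, ha, hax⟩ := x.2
        obtain ⟨b, hb, hby⟩ := y.2
        apply Subtype.ext
        have hc := hA.1.is_comm.comm (⟨a, ha⟩ : A) ⟨b, hb⟩
        have hc' : a * b = b * a := congrArg Subtype.val hc
        have hc'' : (a : G) * (b : G) = (b : G) * (a : G) := congrArg Subtype.val hc'
        show (x : G) * (y : G) = (y : G) * (x : G)
        rw [← hax, ← hby]; exact hc''
      · rintro _ ⟨a, ha, rfl⟩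
        have h2 := hA.2 a ha
        rw [← map_pow, h2, map_one]
    have hc := hminus _ hle hel
    have hcard : Nat.card ↥(A.map H.subtype) = Nat.card ↥A :=
      (Nat.card_congr (A.equivMapOfInjective H.subtype H.subtype_injective).toEquiv).symm
    rw [hcard] at hc; exact hc
  obtain ⟨z, hz, hND⟩ := Cfsg.Agent.S4416.amb_of_es hex
  obtain ⟨r, F⟩ := exists_frame hz hND h32 hminus'
  have hinn := card_inn h32 hex.2
  have hker : (MulAut.conj : ↥H →* MulAut ↥H).range = (Phi F).ker :=
    Subgroup.eq_of_le_of_card_ge (by rintro _ ⟨g, rfl⟩; exact Phi_conj F g)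
      (by rw [hinn]; exact ker_card_le F)
  have hTT : T * T = 1 := by
    have h1 := pow_orderOf_eq_one T
    rw [hT, pow_two] at h1; exact h1
  -- the action of G on the five points
  obtain ⟨ψ, hψ⟩ : ∃ ψ : G →* Equiv.Perm (Fin 5),
      ψ = (Phi F).comp (MulAut.conjNormal : G →* MulAut ↥H) := ⟨_, rfl⟩
  have hψH : ∀ g : G, ψ g = 1 ↔ g ∈ H := by
    intro g
    rw [hψ]
    constructor
    · intro h
      have h1 : (MulAut.conjNormal g : MulAut ↥H) ∈ (Phi F).ker := h
      rw [← hker] at h1
      obtain ⟨k, hk⟩ := h1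
      have h2 : (k : G)⁻¹ * g ∈ Subgroup.centralizer (H : Set G) := by
        rw [Subgroup.mem_centralizer_iff]
        intro x hx
        have h4 : (k : G) * x * (k : G)⁻¹ = g * x * g⁻¹ :=
          congrArg (fun β : MulAut ↥H => ((β ⟨x, hx⟩ : ↥H) : G)) hk
        calc x * ((k : G)⁻¹ * g) = (k : G)⁻¹ * ((k : G) * x * (k : G)⁻¹) * g := by group
          _ = (k : G)⁻¹ * (g * x * g⁻¹) * g := by rw [h4]
          _ = (k : G)⁻¹ * g * x := by group
      have h5 := hcent h2
      have e : g = (k : G) * ((k : G)⁻¹ * g) := by group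
      rw [e]; exact H.mul_mem k.2 h5
    · intro hg
      have h1 : (MulAut.conjNormal g : MulAut ↥H) = MulAut.conj (⟨g, hg⟩ : ↥H) := by
        apply MulEquiv.ext
        intro x
        apply Subtype.ext
        rfl
      show Phi F (MulAut.conjNormal g) = 1
      rw [h1]; exact Phi_conj F _
  have htt : ψ T * ψ T = 1 := by rw [← map_mul, hTT, map_one]
  have ht1 : ψ T ≠ 1 := fun h => hTH ((hψH T).mp h)
  have hkerψ : ψ.ker = H := by ext g; rw [MonoidHom.mem_ker]; exact hψH g
  have hD : Nat.card ψ.range = 10 := by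
    rw [← Subgroup.index_ker, hkerψ]
    have h1 := Subgroup.card_mul_index H
    rw [h32, hG] at h1
    omega
  haveI : Fact (Nat.Prime 5) := ⟨by norm_num⟩
  obtain ⟨γ', hγ'⟩ := exists_prime_orderOf_dvd_card' (G := ψ.range) 5 (by rw [hD]; norm_num)
  have hidx : (Subgroup.zpowers γ').index = 2 := by
    have h1 := Subgroup.card_mul_index (Subgroup.zpowers γ')
    rw [Nat.card_zpowers, hγ', hD] at h1
    omega
  haveI hnorm : (Subgroup.zpowers γ').Normal := Subgroup.normal_of_index_eq_two hidx
  have hconj : (⟨ψ T, T, rfl⟩ : ψ.range) * γ' * (⟨ψ T, T, rfl⟩ : ψ.range)⁻¹ ∈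
      Subgroup.zpowers γ' := hnorm.conj_mem γ' (Subgroup.mem_zpowers γ') _
  have hk : ∃ k : Fin 5, ψ T * (γ' : Equiv.Perm (Fin 5)) * (ψ T)⁻¹ =
      (γ' : Equiv.Perm (Fin 5)) ^ (k : ℕ) := by
    rw [← mem_powers_iff_mem_zpowers] at hconj
    obtain ⟨n, hn⟩ := hconj
    refine ⟨⟨n % 5, Nat.mod_lt _ (by norm_num)⟩, ?_⟩
    have h1 : γ' ^ (n % 5) = γ' ^ n := by
      have h0 := pow_mod_orderOf γ' n
      rw [hγ'] at h0; exact h0
    have h2 := congrArg Subtype.val (h1.trans hn)
    exact h2.symm
  have hγ5 : (γ' : Equiv.Perm (Fin 5)) ^ 5 = 1 := by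
    have h1 := pow_orderOf_eq_one γ'
    rw [hγ'] at h1
    exact congrArg Subtype.val h1
  have hγ1 : (γ' : Equiv.Perm (Fin 5)) ≠ 1 := by
    intro h
    have h1 : γ' = 1 := Subtype.ext h
    rw [h1, orderOf_one] at hγ'
    omega
  obtain ⟨e, hte, hfix⟩ := perm5_lemma (ψ T) γ' htt ht1 hγ5 hγ1 hk
  have htt' : ∀ a, ψ T (ψ T a) = a := fun a =>
    congrArg (fun σ : Equiv.Perm (Fin 5) => σ a) htt
  -- the automorphism induced by T
  obtain ⟨α, hα⟩ : ∃ α : MulAut ↥H, α = MulAut.conjNormal T := ⟨_, rfl⟩
  have hαval : ∀ x : ↥H, ((α x : ↥H) : G) = T * x * T⁻¹ := by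
    intro x; rw [hα]; rfl
  have hTi : T⁻¹ = T := inv_eq_of_mul_eq_one_left hTT
  have hαα : ∀ x : ↥H, α (α x) = x := by
    intro x
    apply Subtype.ext
    rw [hαval, hαval, hTi]
    calc T * (T * (x : G) * T) * T = (T * T) * x * (T * T) := by group
      _ = x := by rw [hTT, one_mul, mul_one]
  have hrel : ∀ i, Rel z r α i (ψ T i) := by
    intro i
    rw [hα, hψ]
    exact Phi_spec F _ i
  have hfixed : ∀ x : ↥H, α x = x → x = 1 ∨ x = z ∨ x = r e ∨ x = r e * z := by
    intro x hx
    have hχt : ∀ i, kap z x (r (ψ T i)) = kap z x (r i) := by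
      intro i
      have h1 := kap_aut F α x (r i)
      rw [hx] at h1
      rcases hrel i with h | h
      · rw [h] at h1; exact h1
      · rw [h, kap_mul_right hz, kap_z_right hz, mul_one] at h1; exact h1
    have hχe : kap z x (r e) = 1 := by
      have hprod := prod_kap F x
      rw [← Finset.mul_prod_erase Finset.univ _ (Finset.mem_univ e)] at hprod
      have h2 : ∏ i ∈ Finset.univ.erase e, kap z x (r i) = 1 := by
        apply Finset.prod_involution (fun a _ => ψ T a)
        · intro a ha
          rw [hχt a]; exact Int.units_mul_self _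
        · intro a ha _
          exact hfix a (Finset.ne_of_mem_erase ha)
        · intro a ha
          rw [Finset.mem_erase]
          refine ⟨?_, Finset.mem_univ _⟩
          intro h
          apply Finset.ne_of_mem_erase ha
          have h3 : ψ T (ψ T a) = ψ T e := by rw [h]
          rw [hte, htt' a] at h3
          exact h3
        · intro a ha
          exact htt' a
      rw [h2, mul_one] at hprod
      exact hprod
    have hb := comb_lemma (ψ T) e hte hfix htt (fun i => decide (kap z x (r i) = -1))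
      (fun i => by rw [hχt i]) (by rw [hχe]; decide)
    have hval : ∀ i, (decide (kap z x (r i) = -1) = false) → kap z x (r i) = 1 := by
      intro i h
      rcases Int.units_eq_one_or (kap z x (r i)) with h1 | h1
      · exact h1
      · rw [h1] at h; exact absurd h (by decide)
    have hval' : ∀ i, (decide (kap z x (r i) = -1) = true) → kap z x (r i) = -1 :=
      fun i h => of_decide_eq_true h
    rcases hb with h | h | ⟨a, hae, ha, hta, htaa, hrest⟩
    · rcases central_of_kap F x (fun i => hval i (h i)) with h1 | h1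
      · exact Or.inl h1
      · exact Or.inr (Or.inl h1)
    · have hc : ∀ i, kap z (x * r e) (r i) = 1 := by
        intro i
        rw [kap_mul_left hz]
        by_cases hie : i = e
        · rw [hie, hχe, kap_self hz, one_mul]
        · rw [hval' i (h i hie), F.nc e i (Ne.symm hie), neg_one_mul_neg_one]
      rcases central_of_kap F (x * r e) hc with h1 | h1
      · right; right; left
        calc x = (x * r e) * r e := by rw [mul_assoc, F.sq, mul_one]
          _ = r e := by rw [h1, one_mul]
      · right; right; right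
        calc x = (x * r e) * r e := by rw [mul_assoc, F.sq, mul_one]
          _ = z * r e := by rw [h1]
          _ = r e * z := (hz.z_c (r e)).symm
    · exfalso
      obtain ⟨b, hb'⟩ : ∃ b, b = ψ T a := ⟨_, rfl⟩
      rw [← hb'] at hta htaa hrest
      have hab : a ≠ b := fun h => htaa h.symm
      have hc : ∀ i, kap z (x * (r a * r b)) (r i) = 1 := by
        intro i
        rw [kap_mul_left hz, kap_mul_left hz]
        by_cases hia : i = a
        · rw [hia, hval' a ha, kap_self hz, F.nc b a (Ne.symm hab)]; decide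
        · by_cases hib : i = b
          · rw [hib, hval' b hta, F.nc a b hab, kap_self hz]; decide
          · rw [hval i (hrest i hia hib), F.nc a i (Ne.symm hia), F.nc b i (Ne.symm hib)]
            decide
      have hαw : α (r a * r b) = z * (r a * r b) := by
        have hb2 : ψ T b = a := by rw [hb']; exact htt' a
        have h1 := hrel a
        rw [← hb'] at h1
        have h2 := hrel b
        rw [hb2] at h2
        have h3 := hαα (r a)
        have hsw := nc_swap hz _ _ (F.nc b a (Ne.symm hab))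
        rw [map_mul]
        rcases h1 with h1 | h1 <;> rcases h2 with h2 | h2
        · rw [h1, h2]; exact hsw
        · exfalso
          rw [h1, h2] at h3
          exact hz.z_ne (mul_left_cancel (h3.trans (mul_one _).symm))
        · exfalso
          rw [h1, map_mul, F.aut_z, h2] at h3
          exact hz.z_ne (mul_left_cancel (h3.trans (mul_one _).symm))
        · rw [h1, h2]
          calc r b * z * (r a * z) = r b * (z * r a) * z := by group
            _ = r b * (r a * z) * z := by rw [← hz.z_c (r a)]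
            _ = (r b * r a) * (z * z) := by group
            _ = z * (r a * r b) := by rw [hz.z_sq, mul_one, hsw]
      have hcen := central_of_kap F (x * (r a * r b)) hc
      have hfixc : α (x * (r a * r b)) = x * (r a * r b) := by
        rcases hcen with h1 | h1
        · rw [h1, map_one]
        · rw [h1, F.aut_z]
      rw [map_mul, hx, hαw] at hfixc
      have h5 : z * (r a * r b) = 1 * (r a * r b) := by
        rw [one_mul]; exact mul_left_cancel hfixc
      exact hz.z_ne (mul_right_cancel h5)
  -- conclude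
  have hmem : ∀ x : ↥(H ⊓ Subgroup.centralizer ({T} : Set G)),
      (⟨x.1, x.2.1⟩ : ↥H) ∈ ({1, z, r e, r e * z} : Finset ↥H) := by
    intro x
    have hx : α ⟨x.1, x.2.1⟩ = ⟨x.1, x.2.1⟩ := by
      apply Subtype.ext
      rw [hαval]
      have h1 := Subgroup.mem_centralizer_iff.mp x.2.2 T rfl
      show T * (x : G) * T⁻¹ = x
      rw [h1]; group
    have h2 := hfixed _ hx
    simp only [Finset.mem_insert, Finset.mem_singleton]
    exact h2
  have hinj : Function.Injective (fun x : ↥(H ⊓ Subgroup.centralizer ({T} : Set G)) =>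
      (⟨⟨x.1, x.2.1⟩, hmem x⟩ : {y // y ∈ ({1, z, r e, r e * z} : Finset ↥H)})) := by
    intro x y hxy
    apply Subtype.ext
    exact congrArg
      (fun w : {y // y ∈ ({1, z, r e, r e * z} : Finset ↥H)} => ((w : ↥H) : G)) hxy
  have h1 := Nat.card_le_card_of_injective _ hinj
  have h3 : Nat.card {y // y ∈ ({1, z, r e, r e * z} : Finset ↥H)} =
      ({1, z, r e, r e * z} : Finset ↥H).card := by
    rw [Nat.card_eq_fintype_card, Fintype.card_coe]
  rw [h3] at h1
  exact h1.trans Finset.card_le_four

/-- Let G be a finite group of order 320 = 64·5 whose largest normal 2-subgroup H = O₂(G) equals the Fitting subgroup F(G) and is extraspecial of order 32 containing no elementary abelian subgroup of order 8 (so H is the central product of a quaternion group and a dihedral group of order 8). If T is an involution of G outside H whose centralizer in H contains an elementary abelian subgroup of order 4, then C_H(T) itself is elementary abelian of order 4. -/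
theorem result {G : Type*} [Group G] [Finite G]
    (hG : Nat.card G = 320) (hHF : Cfsg.pCore 2 G = Cfsg.fittingSubgroup G)
    (hex : Cfsg.IsExtraspecial 2 ↥(Cfsg.pCore 2 G)) (h32 : Nat.card ↥(Cfsg.pCore 2 G) = 32)
    (hminus : ∀ A : Subgroup G, A ≤ Cfsg.pCore 2 G → Cfsg.IsElementaryAbelian 2 A → Nat.card ↥A ≤ 4)
    (T : G) (hT : orderOf T = 2) (hTH : T ∉ Cfsg.pCore 2 G)
    (V : Subgroup G) (hV : V ≤ Cfsg.pCore 2 G ⊓ Subgroup.centralizer ({T} : Set G)) (hV4 : Nat.card ↥V = 4) (hVe : Cfsg.IsElementaryAbelian 2 V) :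
    Nat.card ↥(Cfsg.pCore 2 G ⊓ Subgroup.centralizer ({T} : Set G)) = 4 ∧
      Cfsg.IsElementaryAbelian 2 (Cfsg.pCore 2 G ⊓ Subgroup.centralizer ({T} : Set G)) := by
  haveI : (Cfsg.pCore 2 G).Normal := Cfsg.Agent.Helper1.pCore_normal 2 G
  have hsolv : Group.IsSolvable G :=
    Cfsg.Agent.Helper24.isSolvable_of_card_prime_pow_mul 2 5 6 1 Nat.prime_two (by norm_num)
      (by rw [hG]; norm_num)
  have hcent : Subgroup.centralizer ((Cfsg.pCore 2 G : Subgroup G) : Set G) ≤ Cfsg.pCore 2 G := by
    rw [hHF]; exact Cfsg.Agent.S0044.result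
  have hle := core (Cfsg.pCore 2 G) hG hcent hex h32 hminus T hT hTH
  have heq : V = Cfsg.pCore 2 G ⊓ Subgroup.centralizer ({T} : Set G) :=
    Subgroup.eq_of_le_of_card_ge hV (by rw [hV4]; exact hle)
  rw [← heq]
  exact ⟨hV4, hVe⟩

end Cfsg.Agent.S4405
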