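import Cfsg.Statements.S4419
import Mathlib
import Cfsg.Agent.Helper1.Frobenius
import Cfsg.Agent.S4208
import Cfsg.Agent.Helper23.PSolv
import Cfsg.Agent.Helper3.PiClosed

set_option autoImplicit false
open Cfsg

namespace Cfsg.Agent.S4419

theorem two_gen {R : Type*} [Group R] (hR : Cfsg.IsMetacyclic R) (T : Subgroup R) :
    ∃ a b : T, ∀ q : T, ∃ i j : ℤ, q = b ^ j * a ^ i := by
  obtain ⟨N, hN, hcN, hcQ⟩ := hR
  haveI := hN
  haveI := hcN
  haveI := hcQ
  obtain ⟨f, hf⟩ : ∃ f : T →* R ⧸ N, f = (QuotientGroup.mk' N).comp T.subtype := ⟨_, rfl⟩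
  have hfx : ∀ t : T, f t = QuotientGroup.mk' N (t : R) := by intro t; rw [hf]; rfl
  haveI : IsCyclic f.range := Subgroup.isCyclic _
  obtain ⟨⟨y, hy⟩, hgen⟩ := IsCyclic.exists_generator (α := f.range)
  obtain ⟨b, rfl⟩ := hy
  have hker : IsCyclic f.ker := by
    have hmem : ∀ x : f.ker, ((x : T) : R) ∈ N := by
      intro x
      have h1 := x.2
      rw [MonoidHom.mem_ker, hfx] at h1
      exact (QuotientGroup.eq_one_iff _).mp h1
    let g : f.ker →* N :=
      { toFun := fun x => ⟨((x : T) : R), hmem x⟩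
        map_one' := rfl
        map_mul' := fun x y => rfl }
    refine isCyclic_of_injective g ?_
    intro x y hxy
    have := congrArg Subtype.val hxy
    exact Subtype.ext (Subtype.ext this)
  obtain ⟨⟨a, ha⟩, hagen⟩ := hker.exists_generator
  refine ⟨a, b, fun q => ?_⟩
  have h1 := hgen ⟨f q, q, rfl⟩
  obtain ⟨j, hj⟩ := Subgroup.mem_zpowers_iff.mp h1
  have hj' : f b ^ j = f q := by simpa using congrArg Subtype.val hj
  have h2 : b ^ (-j) * q ∈ f.ker := by
    rw [MonoidHom.mem_ker, map_mul, map_zpow, ← hj', ← zpow_add]; simp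
  obtain ⟨i, hi⟩ := Subgroup.mem_zpowers_iff.mp (hagen ⟨b ^ (-j) * q, h2⟩)
  have hi' : a ^ i = b ^ (-j) * q := by simpa using congrArg Subtype.val hi
  exact ⟨i, j, by rw [hi']; group⟩

theorem aut_trivial {T : Type*} [Group T] [Finite T] (p : ℕ) [Fact p.Prime] (hT : IsPGroup p T)
    (hgen : ∃ a b : T, ∀ q : T, ∃ i j : ℤ, q = b ^ j * a ^ i) (α : MulAut T) (r e : ℕ)
    (hr : r.Prime) (hrp : r ≠ p) (hr2 : ¬ r ∣ p ^ 2 - 1) (hα : α ^ (r ^ e) = 1) : α = 1 := by
  have hp : p.Prime := Fact.out
  obtain ⟨n, hn⟩ := IsPGroup.iff_card.mp hT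
  obtain ⟨a, b, hab⟩ := hgen
  have hfr := Cfsg.Agent.S4208.frattini_quot p hn
  have hidx_le : (frattini T).index ≤ p * p := by
    rw [Subgroup.index_eq_card]
    have hsurj : Function.Surjective (fun ij : Fin p × Fin p =>
        (QuotientGroup.mk (b ^ (ij.2 : ℕ) * a ^ (ij.1 : ℕ)) : T ⧸ frattini T)) := by
      intro v
      obtain ⟨q, rfl⟩ := QuotientGroup.mk_surjective v
      obtain ⟨i, j, hq⟩ := hab q
      have ha : (QuotientGroup.mk a : T ⧸ frattini T) ^ p = 1 := by
        rw [← QuotientGroup.mk_pow]; exact (QuotientGroup.eq_one_iff _).mpr (hfr.2 a)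
      have hb : (QuotientGroup.mk b : T ⧸ frattini T) ^ p = 1 := by
        rw [← QuotientGroup.mk_pow]; exact (QuotientGroup.eq_one_iff _).mpr (hfr.2 b)
      have hppos : (0 : ℤ) < p := by exact_mod_cast hp.pos
      refine ⟨(⟨(i % (p : ℤ)).toNat, ?_⟩, ⟨(j % (p : ℤ)).toNat, ?_⟩), ?_⟩
      · have := Int.emod_lt_of_pos i hppos
        have := Int.emod_nonneg i hppos.ne'
        omega
      · have := Int.emod_lt_of_pos j hppos
        have := Int.emod_nonneg j hppos.ne'
        omega
      · show (QuotientGroup.mk (b ^ ((j % (p : ℤ)).toNat) * a ^ ((i % (p : ℤ)).toNat)) :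
          T ⧸ frattini T) = QuotientGroup.mk q
        rw [hq, QuotientGroup.mk_mul, QuotientGroup.mk_mul, QuotientGroup.mk_pow,
          QuotientGroup.mk_pow, QuotientGroup.mk_zpow, QuotientGroup.mk_zpow,
          zpow_eq_zpow_emod' j hb, zpow_eq_zpow_emod' i ha]
        rw [← zpow_natCast, ← zpow_natCast, Int.toNat_of_nonneg (Int.emod_nonneg j hppos.ne'),
          Int.toNat_of_nonneg (Int.emod_nonneg i hppos.ne')]
    have := Nat.card_le_card_of_surjective _ hsurj
    simpa using this
  have hdvd : (frattini T).index ∣ p ^ n := by rw [← hn]; exact Subgroup.index_dvd_card _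
  obtain ⟨k, hk, hkidx⟩ := (Nat.dvd_prime_pow hp).mp hdvd
  have hk2 : k ≤ 2 := by
    rw [hkidx, ← pow_two] at hidx_le
    exact (Nat.pow_le_pow_iff_right hp.one_lt).mp hidx_le
  have hcard := Cfsg.Agent.S4208.result hn hkidx
  have hord1 : orderOf α ∣ r ^ e := orderOf_dvd_of_pow_eq_one hα
  have hord2 : orderOf α ∣ p ^ (k * (n - k)) * ∏ i ∈ Finset.range k, (p ^ k - p ^ i) :=
    (orderOf_dvd_natCard α).trans hcard
  have hrp' : Nat.Coprime r p := (Nat.coprime_primes hr hp).mpr hrp
  have hp1 : 1 ≤ p := hp.pos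
  have hfac : p ^ 2 - 1 = (p - 1) * (p + 1) := by
    obtain ⟨m, rfl⟩ : ∃ m, p = m + 1 := ⟨p - 1, by omega⟩
    have : (m + 1) ^ 2 = m * (m + 1 + 1) + 1 := by ring
    rw [this]; simp
  have hr1 : Nat.Coprime r (p - 1) := by
    rw [Nat.Prime.coprime_iff_not_dvd hr]
    intro h
    apply hr2
    rw [hfac]; exact Dvd.dvd.mul_right h _
  have hr2' : Nat.Coprime r (p ^ 2 - 1) := (Nat.Prime.coprime_iff_not_dvd hr).mpr hr2
  have hcop : Nat.Coprime (r ^ e)
      (p ^ (k * (n - k)) * ∏ i ∈ Finset.range k, (p ^ k - p ^ i)) := by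
    apply Nat.Coprime.pow_left
    apply Nat.Coprime.mul_right (Nat.Coprime.pow_right _ hrp')
    interval_cases k
    · simp
    · simpa using hr1
    · rw [Finset.prod_range_succ, Finset.prod_range_succ, Finset.prod_range_zero, one_mul,
        pow_zero, pow_one]
      have : p ^ 2 - p = p * (p - 1) := by
        rw [Nat.mul_sub, mul_one, pow_two]
      rw [this]
      exact Nat.Coprime.mul_right hr2' (Nat.Coprime.mul_right hrp' hr1)
  have h1 : orderOf α = 1 := Nat.eq_one_of_dvd_coprimes hcop hord1 hord2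
  exact orderOf_eq_one_iff.mp h1

/-- Let p be a prime and G a finite group whose Sylow p-subgroups are metacyclic (a cyclic normal subgroup with cyclic quotient). Then G has a normal p-complement if and only if the order of G/O_{p′,p}(G) is coprime to p² − 1. -/
theorem result {G : Type*} [Group G] [Finite G] (p : ℕ) [Fact p.Prime] (S : Sylow p G) (hS : Cfsg.IsMetacyclic ↥(S : Subgroup G)) : Cfsg.HasNormalPComplement p G ↔ Nat.Coprime (Nat.card (G ⧸ Cfsg.pPrimePCore p G)) (p ^ 2 - 1) := by
  have hp : p.Prime := Fact.out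
  haveI hOn : (pPrimeCore p G).Normal := Cfsg.Agent.Helper23.pPrimeCore_normal_fin p
  constructor
  · intro h
    obtain ⟨N, hN, hc, hcop⟩ := Cfsg.Agent.Helper1.compl_of_npc S h
    have hNO : N ≤ pPrimeCore p G := le_sSup ⟨hN, hcop⟩
    have hpg : IsPGroup p (G ⧸ pPrimeCore p G) := by
      obtain ⟨m, hm⟩ := IsPGroup.iff_card.mp S.isPGroup'
      have h1 : (pPrimeCore p G).index ∣ p ^ m := by
        rw [← hm, ← hc.symm.index_eq_card]
        exact Subgroup.index_dvd_of_le hNO
      obtain ⟨j, -, hj⟩ := (Nat.dvd_prime_pow hp).mp h1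
      exact IsPGroup.of_card (n := j) (by rw [← Subgroup.index_eq_card, hj])
    have htop : pCore p (G ⧸ pPrimeCore p G) = ⊤ := by
      rw [eq_top_iff]
      refine le_sSup ⟨inferInstance, ?_⟩
      exact hpg.to_subgroup ⊤
    have hK : pPrimePCore p G = ⊤ := by
      unfold pPrimePCore
      rw [htop, Subgroup.comap_top]
    rw [hK, ← Subgroup.index_eq_card, Subgroup.index_top]
    exact Nat.coprime_one_left _
  · intro hcop
    haveI hKn : (pPrimePCore p G).Normal := by
      haveI := Cfsg.Agent.Helper23.pCore_normal_fin (G := G ⧸ pPrimeCore p G) p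
      unfold pPrimePCore
      exact Subgroup.Normal.comap inferInstance _
    apply Cfsg.Agent.Helper1.npc_of_local
    apply Cfsg.Agent.Helper1.localP_of_sylow S
    intro Q hQS
    have hQO : ∀ y ∈ Q, y ∈ pPrimeCore p G → y = 1 := by
      intro y hyQ hyO
      obtain ⟨m, hm⟩ := S.isPGroup' ⟨y, hQS hyQ⟩
      have hm' : y ^ p ^ m = 1 := by simpa using congrArg Subtype.val hm
      have h1 : orderOf y ∣ p ^ m := orderOf_dvd_of_pow_eq_one hm'
      have h2 : orderOf y ∣ Nat.card (pPrimeCore p G) := by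
        have := orderOf_dvd_natCard (⟨y, hyO⟩ : pPrimeCore p G)
        rwa [Subgroup.orderOf_mk] at this
      have h3 : Nat.Coprime (Nat.card (pPrimeCore p G)) (p ^ m) :=
        Nat.Coprime.pow_right m (Cfsg.Agent.Helper23.pPrimeCore_coprime p)
      have := Nat.eq_one_of_dvd_coprimes h3 h2 h1
      exact orderOf_eq_one_iff.mp this
    have hgenQ : ∃ a b : Q, ∀ q : Q, ∃ i j : ℤ, q = b ^ j * a ^ i := by
      obtain ⟨a, b, hab⟩ := two_gen hS (Q.subgroupOf S)
      obtain ⟨φ, hφ⟩ : ∃ φ : ↥(Q.subgroupOf S) ≃* ↥Q, φ = Subgroup.subgroupOfEquivOfLe hQS :=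
        ⟨_, rfl⟩
      refine ⟨φ a, φ b, fun q => ?_⟩
      obtain ⟨i, j, hij⟩ := hab (φ.symm q)
      refine ⟨i, j, ?_⟩
      have := congrArg φ hij
      simpa using this
    have hQp : IsPGroup p Q := S.isPGroup'.to_le hQS
    have base : ∀ x ∈ Subgroup.normalizer (Q : Set G), ∀ (r e : ℕ), r.Prime → r ≠ p →
        orderOf x = r ^ e → x ∈ Subgroup.centralizer (Q : Set G) := by
      intro x hx r e hr hrp hxo
      by_cases hr2 : r ∣ p ^ 2 - 1
      · have hrK : Nat.Coprime (pPrimePCore p G).index (orderOf x) := by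
          rw [hxo]
          apply Nat.Coprime.pow_right
          rw [Nat.coprime_comm, Nat.Prime.coprime_iff_not_dvd hr]
          intro h
          have h2 := Nat.dvd_gcd h hr2
          rw [← Subgroup.index_eq_card] at hcop
          rw [Nat.Coprime.gcd_eq_one hcop] at h2
          exact hr.one_lt.ne' (Nat.dvd_one.mp h2)
        have hxK : x ∈ pPrimePCore p G :=
          Cfsg.Agent.Helper3.PiClosed.mem_of_pow_coprime (Subgroup.pow_index_mem _ x) hrK
        have hxmk : (QuotientGroup.mk' (pPrimeCore p G) x) ∈ pCore p (G ⧸ pPrimeCore p G) := hxK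
        obtain ⟨m, hm⟩ := (Cfsg.Agent.Helper23.pCore_isPGroup p) ⟨_, hxmk⟩
        have hm' : (QuotientGroup.mk' (pPrimeCore p G) x) ^ p ^ m = 1 := by
          simpa using congrArg Subtype.val hm
        have hxO' : x ^ p ^ m ∈ pPrimeCore p G := by
          rw [← map_pow] at hm'
          exact (QuotientGroup.eq_one_iff _).mp hm'
        have hxO : x ∈ pPrimeCore p G := by
          refine Cfsg.Agent.Helper3.PiClosed.mem_of_pow_coprime hxO' ?_
          rw [hxo]
          exact Nat.Coprime.pow _ _ ((Nat.coprime_primes hp hr).mpr (Ne.symm hrp))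
        rw [Subgroup.mem_centralizer_iff]
        intro q hq
        have h1 : x * q * x⁻¹ * q⁻¹ ∈ Q :=
          Q.mul_mem ((Subgroup.mem_normalizer_iff.mp hx q).mp hq) (Q.inv_mem hq)
        have h2 : x * q * x⁻¹ * q⁻¹ ∈ pPrimeCore p G := by
          have : x * q * x⁻¹ * q⁻¹ = x * (q * x⁻¹ * q⁻¹) := by group
          rw [this]
          exact Subgroup.mul_mem _ hxO (hOn.conj_mem _ (Subgroup.inv_mem _ hxO) q)
        have h3 := hQO _ h1 h2
        calc q * x = (x * q * x⁻¹ * q⁻¹)⁻¹ * (x * q) := by group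
          _ = x * q := by rw [h3]; simp
      · obtain ⟨α, hα⟩ : ∃ α : MulAut Q, α = Subgroup.normalizerMonoidHom Q ⟨x, hx⟩ := ⟨_, rfl⟩
        have hαpow : α ^ (r ^ e) = 1 := by
          rw [hα, ← map_pow]
          have : (⟨x, hx⟩ : Subgroup.normalizer (Q : Set G)) ^ (r ^ e) = 1 := by
            apply Subtype.ext
            simp [← hxo, pow_orderOf_eq_one]
          rw [this, map_one]
        have hα1 := aut_trivial p hQp hgenQ α r e hr hrp hr2 hαpow
        rw [Subgroup.mem_centralizer_iff]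
        intro q hq
        have h1 : α ⟨q, hq⟩ = ⟨q, hq⟩ := by rw [hα1]; rfl
        rw [hα] at h1
        have h2 : x * q * x⁻¹ = q := by simpa using congrArg Subtype.val h1
        calc q * x = (x * q * x⁻¹) * x := by rw [h2]
          _ = x * q := by group
    have gen : ∀ n : ℕ, ∀ g ∈ Subgroup.normalizer (Q : Set G), orderOf g = n → Nat.Coprime n p →
        g ∈ Subgroup.centralizer (Q : Set G) := by
      intro n
      induction n using Nat.strong_induction_on with
      | _ n ih =>
        intro g hg hgo hgp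
        by_cases hn1 : n = 1
        · rw [hn1] at hgo
          rw [orderOf_eq_one_iff.mp hgo]; exact Subgroup.one_mem _
        have hnpos : 0 < n := by rw [← hgo]; exact orderOf_pos g
        obtain ⟨r, hr, hrn⟩ := Nat.exists_prime_and_dvd hn1
        have hrp : r ≠ p := by
          rintro rfl
          have h2 := Nat.dvd_gcd hrn (dvd_refl r)
          rw [Nat.Coprime.gcd_eq_one hgp] at h2
          exact hr.one_lt.ne' (Nat.dvd_one.mp h2)
        obtain ⟨e, m, hm, hnm⟩ := Nat.exists_eq_pow_mul_and_not_dvd hnpos.ne' r hr.ne_one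
        have hmpos : 0 < m := by
          rcases Nat.eq_zero_or_pos m with h | h
          · rw [h, mul_zero] at hnm; omega
          · exact h
        have he : e ≠ 0 := by
          rintro rfl
          rw [pow_zero, one_mul] at hnm
          exact hm (hnm ▸ hrn)
        have hre : 0 < r ^ e := pow_pos hr.pos e
        have hy : g ^ m ∈ Subgroup.centralizer (Q : Set G) := by
          have ho : orderOf (g ^ m) = r ^ e := by
            rw [orderOf_pow' g hmpos.ne', hgo, hnm, Nat.gcd_eq_right (Dvd.intro_left _ rfl)]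
            exact Nat.mul_div_cancel _ hmpos
          exact base _ (pow_mem hg _) r e hr hrp ho
        have hx : g ^ (r ^ e) ∈ Subgroup.centralizer (Q : Set G) := by
          have ho : orderOf (g ^ (r ^ e)) = m := by
            rw [orderOf_pow' g hre.ne', hgo, hnm, Nat.gcd_eq_right (Dvd.intro _ rfl)]
            exact Nat.mul_div_cancel_left _ hre
          have hlt : m < n := by
            rw [hnm]
            have h2 : 2 ≤ r ^ e := le_trans hr.two_le (Nat.le_self_pow he r)
            nlinarith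
          refine ih m hlt _ (pow_mem hg _) ho ?_
          exact Nat.Coprime.coprime_dvd_left (Dvd.intro_left _ hnm.symm) hgp
        have hcop' : Nat.Coprime (r ^ e) m :=
          Nat.Coprime.pow_left e ((Nat.Prime.coprime_iff_not_dvd hr).mpr hm)
        have h1 : (g ^ (r ^ e)) ^ (Nat.gcdA (r ^ e) m) * (g ^ m) ^ (Nat.gcdB (r ^ e) m) = g := by
          rw [← zpow_natCast g, ← zpow_natCast g, ← zpow_mul, ← zpow_mul, ← zpow_add,
            ← Nat.gcd_eq_gcd_ab, hcop']
          simp
        rw [← h1]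
        exact Subgroup.mul_mem _ (Subgroup.zpow_mem _ hx _) (Subgroup.zpow_mem _ hy _)
    intro g hg hgp
    exact gen _ g hg rfl hgp

end Cfsg.Agent.S4419
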