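import Cfsg.Statements.S4888
import Cfsg.Agent.S4491
import Cfsg.Agent.S0081
import Cfsg.Agent.Helper10.NormalPComp
import Cfsg.Agent.Helper22.BlkPSolvPrin
import Cfsg.Agent.Helper22.BlkPrinGal
import Cfsg.Agent.Helper22.BlkQuot2
import Cfsg.Agent.Helper22.Brauer1
import Cfsg.Agent.Helper22.Brauer3
import Cfsg.Agent.Helper5.BlkOrth2
import Cfsg.Agent.Helper5.BlkSec2
import Cfsg.Agent.Helper5.LinChar
import Cfsg.Agent.Helper23.HW5
import Cfsg.Agent.Helper6.PResidual
import Cfsg.Agent.Helper24.CharInd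
import Cfsg.Agent.Helper24.CharBasic

set_option autoImplicit false
open Cfsg
open Cfsg.Agent.Helper24 Cfsg.Agent.Helper5 Cfsg.Agent.Helper22

namespace Cfsg.Agent.S4888

universe u

/-- in a group with a normal `p`-complement, the members of the principal block of degree prime
to `p` are linear. -/
theorem npc_degree_one {G : Type u} [Group G] [Fintype G] {p : ℕ} [Fact p.Prime]
    {M : Ideal AlgInt} (hM : IsPModular p M) (h : HasNormalPComplement p G)
    (χ : IrrCharacter G) (hχ : χ ∈ principalBlock M G)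
    (hdeg : ¬ p ∣ charDegree (χ : G → ℂ)) : charDegree (χ : G → ℂ) = 1 := by
  classical
  have hp : p.Prime := Fact.out
  obtain ⟨P, K, hKn, hc⟩ := h
  haveI := hKn
  have hK : ¬ p ∣ Nat.card K := by
    rw [← hc.index_eq_card]; exact P.not_dvd_index
  obtain ⟨ψ, hψ⟩ := principal_exists_infl hM K hK χ hχ
  obtain ⟨hψ1, hψ0, hψdvd⟩ := irr_charDegree_spec ψ
  have hdegeq : charDegree (χ : G → ℂ) = charDegree (ψ : G ⧸ K → ℂ) := by
    unfold charDegree
    rw [← hψ, inflIrr_apply, map_one]
  have hcardQ : Nat.card (G ⧸ K) = Nat.card (P : Subgroup G) := by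
    rw [← Subgroup.index_eq_card]; exact hc.symm.index_eq_card
  obtain ⟨n, hn⟩ := IsPGroup.iff_card.mp P.isPGroup'
  rw [hcardQ, hn] at hψdvd
  obtain ⟨j, -, hj⟩ := (Nat.dvd_prime_pow hp).mp hψdvd
  rw [hdegeq] at hdeg ⊢
  rw [hj] at hdeg ⊢
  rcases Nat.eq_zero_or_pos j with h0 | h0
  · rw [h0, pow_zero]
  · exact absurd (dvd_pow_self p h0.ne') hdeg

/-- if the members of the principal block of degree prime to `p` are linear, then every linear
character of a Sylow `p`-subgroup extends to the group. -/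
theorem ext_lin_of_principal {G : Type u} [Group G] [Fintype G] {p : ℕ} [Fact p.Prime]
    {M : Ideal AlgInt} (hM : IsPModular p M)
    (hlin : ∀ χ : IrrCharacter G, χ ∈ principalBlock M G → ¬ p ∣ charDegree (χ : G → ℂ) →
      charDegree (χ : G → ℂ) = 1)
    (P : Sylow p G) (φ : ↥(P : Subgroup G) →* ℂˣ) :
    ∃ f : G →* ℂˣ, ∀ y : ↥(P : Subgroup G), f (y : G) = φ y := by
  classical
  have hp : p.Prime := Fact.out
  haveI hMp : M.IsPrime := hM.2.1.isPrime
  obtain ⟨t, ht⟩ : ∃ t : IrrCharacter G, (t : G → ℂ) = fun _ => 1 := ⟨trivIrr G, rfl⟩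
  have hPB : principalBlock M G = blockOf M (t : G → ℂ) := principalBlock_eq_blockOf M t ht
  have hmemB : ∀ χ : IrrCharacter G,
      χ ∈ principalBlock M G ↔ SameBlock M (t : G → ℂ) (χ : G → ℂ) := by
    intro χ; rw [hPB]; exact Iff.rfl
  have hdegspec : ∀ χ : IrrCharacter G, (χ : G → ℂ) 1 = (charDegree (χ : G → ℂ) : ℂ) :=
    fun χ => (irr_charDegree_spec χ).1
  have ht1 : t ∈ principalBlock M G := (hmemB t).mpr (sameBlock_refl _)
  have hd1 : charDegree (t : G → ℂ) = 1 := by
    rw [ht]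
    unfold charDegree
    simp
  have hs := Cfsg.Agent.S4491.result p M hM (principalBlock M G) ⟨t, hPB⟩
  have hinf : sInf ((fun ψ : IrrCharacter G => (charDegree (ψ : G → ℂ)).factorization p) ''
      principalBlock M G) = 0 := by
    have hmem : (0 : ℕ) ∈ ((fun ψ : IrrCharacter G =>
        (charDegree (ψ : G → ℂ)).factorization p) '' principalBlock M G) := by
      refine ⟨t, ht1, ?_⟩
      show (charDegree (t : G → ℂ)).factorization p = 0
      rw [hd1]
      simp
    exact Nat.eq_zero_of_le_zero (Nat.sInf_le hmem)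
  have hdef : blockDefect p (principalBlock M G) = (Nat.card G).factorization p := by
    unfold blockDefect
    rw [hinf, Nat.sub_zero]
  rw [hdef] at hs
  have hsum : (∑ᶠ χ ∈ principalBlock M G, charDegree (χ : G → ℂ) ^ 2) =
      ∑ χ : IrrCharacter G,
        if χ ∈ principalBlock M G then charDegree (χ : G → ℂ) ^ 2 else 0 := by
    rw [finsum_mem_eq_finite_toFinset_sum _ (Set.toFinite _), ← Finset.sum_filter]
    refine Finset.sum_congr ?_ (fun _ _ => rfl)
    ext x; simp
  rw [hsum] at hs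
  have hsfact : (∑ χ : IrrCharacter G,
        if χ ∈ principalBlock M G then charDegree (χ : G → ℂ) ^ 2 else 0).factorization p =
      (Nat.card G).factorization p := by rw [hs]; omega
  -- multiplicities
  have hφirr : IsIrrCharacter ↥(P : Subgroup G) (fun y => ((φ y : ℂˣ) : ℂ)) :=
    isIrrCharacter_of_hom φ
  have hm : ∀ χ : IrrCharacter G, ∃ k : ℕ,
      classInner (fun y : ↥(P : Subgroup G) => (χ : G → ℂ) y)
        (fun y : ↥(P : Subgroup G) => ((φ y : ℂˣ) : ℂ)) = k :=
    fun χ => classInner_isCharacter_natCast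
      (isCharacter_restrict (P : Subgroup G) (isCharacter_of_isIrrCharacter χ.2))
      (isCharacter_of_isIrrCharacter hφirr)
  choose m hm using hm
  have hPne : (Nat.card ↥(P : Subgroup G) : ℂ) ≠ 0 := Nat.cast_ne_zero.mpr Nat.card_pos.ne'
  have hsumχ : ∀ χ : IrrCharacter G,
      ∑ y : ↥(P : Subgroup G), starRingEnd ℂ ((χ : G → ℂ) y) * ((φ y : ℂˣ) : ℂ) =
        (Nat.card ↥(P : Subgroup G) : ℂ) * (m χ : ℂ) := by
    intro χ
    have h1 := hm χ
    unfold classInner at h1
    have h2 : ∑ y : ↥(P : Subgroup G), (χ : G → ℂ) y * starRingEnd ℂ ((φ y : ℂˣ) : ℂ) =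
        (Nat.card ↥(P : Subgroup G) : ℂ) * (m χ : ℂ) := by
      rw [← h1, ← mul_assoc, mul_inv_cancel₀ hPne, one_mul]
    have h3 := congrArg (starRingEnd ℂ) h2
    rw [map_sum] at h3
    simp only [map_mul, Complex.conj_conj, map_natCast] at h3
    exact h3
  have horth : ∀ y : ↥(P : Subgroup G), y ≠ 1 →
      ∑ χ : IrrCharacter G, (if χ ∈ principalBlock M G then
        (χ : G → ℂ) 1 * starRingEnd ℂ ((χ : G → ℂ) y) else 0) = 0 := by
    intro y hy
    have hy1 : (y : G) ≠ 1 := fun h => hy (Subtype.ext h)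
    have hord : p ∣ orderOf (y : G) := by
      obtain ⟨k, hk⟩ := (IsPGroup.iff_orderOf.mp P.isPGroup') y
      have hk' : orderOf (y : G) = p ^ k := by rw [Subgroup.orderOf_coe]; exact hk
      rw [hk']
      rcases Nat.eq_zero_or_pos k with h0 | h0
      · exfalso; rw [h0, pow_zero] at hk'; exact hy1 (orderOf_eq_one_iff.mp hk')
      · exact dvd_pow_self p h0.ne'
    have h1 : ¬ p ∣ orderOf (1 : G) := by rw [orderOf_one, Nat.dvd_one]; exact hp.one_lt.ne'
    have h := weak_block_orth_sum hM t 1 (y : G) h1 hord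
    rw [Finset.sum_filter] at h
    refine Eq.trans (Finset.sum_congr rfl fun χ _ => ?_) h
    by_cases hχ : χ ∈ principalBlock M G
    · rw [if_pos hχ, if_pos ((hmemB χ).mp hχ)]
    · rw [if_neg hχ, if_neg (fun h' => hχ ((hmemB χ).mpr h'))]
  have hkey : ∑ χ : IrrCharacter G, (if χ ∈ principalBlock M G then
        ((charDegree (χ : G → ℂ) : ℂ)) * ((Nat.card ↥(P : Subgroup G) : ℂ) * (m χ : ℂ)) else 0) =
      ∑ χ : IrrCharacter G, (if χ ∈ principalBlock M G then
        ((charDegree (χ : G → ℂ) : ℂ)) ^ 2 else 0) := by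
    have e1 : ∀ χ : IrrCharacter G, (if χ ∈ principalBlock M G then
        ((charDegree (χ : G → ℂ) : ℂ)) * ((Nat.card ↥(P : Subgroup G) : ℂ) * (m χ : ℂ)) else 0) =
        ∑ y : ↥(P : Subgroup G), ((φ y : ℂˣ) : ℂ) * (if χ ∈ principalBlock M G then
          (χ : G → ℂ) 1 * starRingEnd ℂ ((χ : G → ℂ) y) else 0) := by
      intro χ
      by_cases hχ : χ ∈ principalBlock M G
      · simp only [if_pos hχ]
        rw [← hsumχ χ, ← hdegspec χ, Finset.mul_sum]
        refine Finset.sum_congr rfl fun y _ => ?_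
        ring
      · simp only [if_neg hχ, mul_zero, Finset.sum_const_zero]
    rw [Finset.sum_congr rfl fun χ _ => e1 χ, Finset.sum_comm]
    have e2 : ∀ y : ↥(P : Subgroup G), ∑ χ : IrrCharacter G, ((φ y : ℂˣ) : ℂ) *
        (if χ ∈ principalBlock M G then (χ : G → ℂ) 1 * starRingEnd ℂ ((χ : G → ℂ) y) else 0) =
        if y = 1 then ∑ χ : IrrCharacter G, (if χ ∈ principalBlock M G then
          ((charDegree (χ : G → ℂ) : ℂ)) ^ 2 else 0) else 0 := by
      intro y
      rw [← Finset.mul_sum]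
      by_cases hy : y = 1
      · rw [if_pos hy, hy, map_one, Units.val_one, one_mul]
        refine Finset.sum_congr rfl fun χ _ => ?_
        by_cases hχ : χ ∈ principalBlock M G
        · rw [if_pos hχ, if_pos hχ]
          show (χ : G → ℂ) 1 * starRingEnd ℂ ((χ : G → ℂ) 1) = _
          rw [hdegspec χ, Complex.conj_natCast, sq]
        · rw [if_neg hχ, if_neg hχ]
      · rw [if_neg hy, horth y hy, mul_zero]
    rw [Finset.sum_congr rfl fun y _ => e2 y, Finset.sum_ite_eq', if_pos (Finset.mem_univ _)]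
  have hnat : Nat.card ↥(P : Subgroup G) * (∑ χ : IrrCharacter G,
        if χ ∈ principalBlock M G then charDegree (χ : G → ℂ) * m χ else 0) =
      ∑ χ : IrrCharacter G,
        if χ ∈ principalBlock M G then charDegree (χ : G → ℂ) ^ 2 else 0 := by
    have hc : ((Nat.card ↥(P : Subgroup G) * (∑ χ : IrrCharacter G,
        if χ ∈ principalBlock M G then charDegree (χ : G → ℂ) * m χ else 0) : ℕ) : ℂ) =
      ((∑ χ : IrrCharacter G,
        if χ ∈ principalBlock M G then charDegree (χ : G → ℂ) ^ 2 else 0 : ℕ) : ℂ) := by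
      rw [Nat.cast_mul, Nat.cast_sum, Nat.cast_sum]
      simp only [Nat.cast_ite, Nat.cast_mul, Nat.cast_pow, Nat.cast_zero]
      rw [Finset.mul_sum]
      refine Eq.trans (Finset.sum_congr rfl fun χ _ => ?_) hkey
      split_ifs <;> ring
    exact_mod_cast hc
  have hS0 : (∑ χ : IrrCharacter G,
        if χ ∈ principalBlock M G then charDegree (χ : G → ℂ) ^ 2 else 0) ≠ 0 := by
    have h1 : (if t ∈ principalBlock M G then charDegree (t : G → ℂ) ^ 2 else 0) ≤
        ∑ χ : IrrCharacter G,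
          if χ ∈ principalBlock M G then charDegree (χ : G → ℂ) ^ 2 else 0 :=
      Finset.single_le_sum (f := fun χ : IrrCharacter G =>
        if χ ∈ principalBlock M G then charDegree (χ : G → ℂ) ^ 2 else 0)
        (fun i _ => Nat.zero_le _) (Finset.mem_univ t)
    rw [if_pos ht1, hd1, one_pow] at h1
    exact Nat.one_le_iff_ne_zero.mp h1
  have hcardP : Nat.card ↥(P : Subgroup G) = p ^ (Nat.card G).factorization p :=
    P.card_eq_multiplicity
  have hTp : ¬ p ∣ (∑ χ : IrrCharacter G,
        if χ ∈ principalBlock M G then charDegree (χ : G → ℂ) * m χ else 0) := by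
    intro hdvd
    obtain ⟨T', hT'⟩ := hdvd
    have h1 : p ^ ((Nat.card G).factorization p + 1) ∣ (∑ χ : IrrCharacter G,
        if χ ∈ principalBlock M G then charDegree (χ : G → ℂ) ^ 2 else 0) := by
      rw [← hnat, hcardP, hT', pow_succ]
      exact ⟨T', by ring⟩
    have h2 := (hp.pow_dvd_iff_le_factorization hS0).mp h1
    rw [hsfact] at h2
    omega
  obtain ⟨χ, hχB, hχd, hχm⟩ : ∃ χ : IrrCharacter G, χ ∈ principalBlock M G ∧
      ¬ p ∣ charDegree (χ : G → ℂ) ∧ m χ ≠ 0 := by
    by_contra hcon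
    push Not at hcon
    apply hTp
    refine Finset.dvd_sum fun χ _ => ?_
    by_cases hχ : χ ∈ principalBlock M G
    · rw [if_pos hχ]
      by_cases hd : p ∣ charDegree (χ : G → ℂ)
      · exact Dvd.dvd.mul_right hd _
      · rw [hcon χ hχ hd, mul_zero]; exact dvd_zero p
    · rw [if_neg hχ]; exact dvd_zero p
  have hχ1 : (χ : G → ℂ) 1 = 1 := by rw [hdegspec χ, hlin χ hχB hχd, Nat.cast_one]
  obtain ⟨f, hf⟩ := linChar_exists_hom (isCharacter_of_isIrrCharacter χ.2) hχ1
  refine ⟨f, fun y => ?_⟩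
  obtain ⟨θ₁, hθ₁⟩ : ∃ θ₁ : IrrCharacter ↥(P : Subgroup G),
      (θ₁ : ↥(P : Subgroup G) → ℂ) = fun y : ↥(P : Subgroup G) => (χ : G → ℂ) y :=
    ⟨⟨fun y => (((f.comp (P : Subgroup G).subtype) y : ℂˣ) : ℂ), isIrrCharacter_of_hom _⟩,
      funext fun y => hf (y : G)⟩
  obtain ⟨θ₂, hθ₂⟩ : ∃ θ₂ : IrrCharacter ↥(P : Subgroup G),
      (θ₂ : ↥(P : Subgroup G) → ℂ) = fun y : ↥(P : Subgroup G) => ((φ y : ℂˣ) : ℂ) :=
    ⟨⟨_, hφirr⟩, rfl⟩
  have horthn := irr_orthonormal θ₁ θ₂
  have hne : classInner (θ₁ : ↥(P : Subgroup G) → ℂ) (θ₂ : ↥(P : Subgroup G) → ℂ) ≠ 0 := by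
    rw [hθ₁, hθ₂, hm χ]
    exact Nat.cast_ne_zero.mpr hχm
  have heq : θ₁ = θ₂ := by
    by_contra hne'
    rw [if_neg hne'] at horthn
    exact hne horthn
  have h1 : (θ₁ : ↥(P : Subgroup G) → ℂ) y = (θ₂ : ↥(P : Subgroup G) → ℂ) y := by rw [heq]
  rw [hθ₁, hθ₂] at h1
  exact Units.ext ((hf (y : G)).trans h1)

/-- Isaacs–Smith: if the members of the principal block of degree prime to `p` are linear, then
the group has a normal `p`-complement. -/
theorem npc_of_lin {G : Type u} [Group G] [Fintype G] {p : ℕ} [Fact p.Prime]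
    {M : Ideal AlgInt} (hM : IsPModular p M)
    (hlin : ∀ χ : IrrCharacter G, χ ∈ principalBlock M G → ¬ p ∣ charDegree (χ : G → ℂ) →
      charDegree (χ : G → ℂ) = 1) : HasNormalPComplement p G := by
  classical
  have hp : p.Prime := Fact.out
  obtain ⟨P⟩ : Nonempty (Sylow p G) := inferInstance
  haveI hRn : (pResidual p G).Normal := Cfsg.Agent.Helper6.pResidual_normal p G
  apply Cfsg.Agent.Helper10.hasNormalPComplement_of_coprime_pResidual
  have hfr : pResidual p G ⊓ (P : Subgroup G) ≤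
      (frattini ↥(P : Subgroup G)).map (P : Subgroup G).subtype := by
    intro x hx
    have hxR : x ∈ pResidual p G := hx.1
    have hxP : x ∈ (P : Subgroup G) := hx.2
    refine ⟨⟨x, hxP⟩, ?_, rfl⟩
    refine commutator_le_frattini_of_isPGroup P.isPGroup' ?_
    by_contra hnc
    have hne : (Abelianization.of (⟨x, hxP⟩ : ↥(P : Subgroup G)) :
        Abelianization ↥(P : Subgroup G)) ≠ 1 := by
      intro h1
      apply hnc
      first
        | exact (QuotientGroup.eq_one_iff _).mp h1
        | (rw [← Abelianization.ker_of]; exact MonoidHom.mem_ker.mpr h1)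
        | (rw [← Abelianization.ker_of ↥(P : Subgroup G)]; exact MonoidHom.mem_ker.mpr h1)
    obtain ⟨μ, hμ⟩ := CommGroup.exists_apply_ne_one_of_hasEnoughRootsOfUnity
      (Abelianization ↥(P : Subgroup G)) ℂ hne
    obtain ⟨f, hf⟩ := ext_lin_of_principal hM hlin P (μ.comp Abelianization.of)
    have hfx : f x = 1 := by
      obtain ⟨m, hm⟩ : ∃ m : ℕ, m = Nat.card G / p ^ (Nat.card G).factorization p := ⟨_, rfl⟩
      have hker : pResidual p G ≤ ((powMonoidHom m : ℂˣ →* ℂˣ).comp f).ker := by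
        show Subgroup.closure {g : G | Nat.Coprime (orderOf g) p} ≤ _
        rw [Subgroup.closure_le]
        intro g hg
        have hg' : Nat.Coprime (orderOf g) p := hg
        have hdvd : orderOf g ∣ m := by
          have h1 : orderOf g ∣ p ^ (Nat.card G).factorization p * m := by
            rw [hm, Nat.ordProj_mul_ordCompl_eq_self]; exact orderOf_dvd_natCard g
          exact (Nat.Coprime.pow_right _ hg').dvd_of_dvd_mul_left h1
        show g ∈ ((powMonoidHom m : ℂˣ →* ℂˣ).comp f).ker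
        rw [MonoidHom.mem_ker, MonoidHom.comp_apply, powMonoidHom_apply, ← map_pow]
        obtain ⟨c, hc⟩ := hdvd
        rw [hc, pow_mul, pow_orderOf_eq_one, one_pow, map_one]
      have h2 : f x ^ m = 1 := by
        have h := hker hxR
        rwa [MonoidHom.mem_ker, MonoidHom.comp_apply, powMonoidHom_apply] at h
      have h3 : f x ^ (Nat.card ↥(P : Subgroup G)) = 1 := by
        rw [← map_pow]
        have h : x ^ Nat.card ↥(P : Subgroup G) = 1 := by
          have h' := pow_card_eq_one' (G := ↥(P : Subgroup G)) (x := ⟨x, hxP⟩)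
          exact congrArg Subtype.val h'
        rw [h, map_one]
      have hcop : Nat.Coprime m (Nat.card ↥(P : Subgroup G)) := by
        obtain ⟨n, hn⟩ := IsPGroup.iff_card.mp P.isPGroup'
        rw [hn, hm]
        exact (Nat.Coprime.pow_right n (Nat.coprime_ordCompl hp Nat.card_pos.ne').symm)
      have h5 : orderOf (f x) ∣ Nat.gcd m (Nat.card ↥(P : Subgroup G)) :=
        Nat.dvd_gcd (orderOf_dvd_of_pow_eq_one h2) (orderOf_dvd_of_pow_eq_one h3)
      rw [Nat.Coprime.gcd_eq_one hcop, Nat.dvd_one] at h5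
      exact orderOf_eq_one_iff.mp h5
    have h3 : f x = μ (Abelianization.of ⟨x, hxP⟩) := hf ⟨x, hxP⟩
    exact hμ (h3.symm.trans hfx)
  have h1 := Cfsg.Agent.S0081.tate_core P (pResidual p G) hfr
  rw [Cfsg.Agent.Helper23.HW.pResidual_pResidual_top, Subgroup.card_top] at h1
  exact h1


/-- Let G be a finite group, p a prime and M a maximal ideal of the algebraic integers containing p. Then all height-zero irreducible characters of the principal p-block of G (equivalently, all its characters of degree prime to p) have the same degree if and only if G has a normal p-complement. -/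
theorem result {G : Type*} [Group G] [Finite G] (p : ℕ) [Fact p.Prime] (M : Ideal Cfsg.AlgInt) (hM : Cfsg.IsPModular p M) : (∃ d : ℕ, ∀ χ : Cfsg.IrrCharacter G, χ ∈ (Cfsg.principalBlock M G) → Cfsg.blockHeight p (Cfsg.principalBlock M G) (χ : G → ℂ) = 0 → Cfsg.charDegree (χ : G → ℂ) = d) ↔ Cfsg.HasNormalPComplement p G := by
  classical
  haveI : Fintype G := Fintype.ofFinite G
  have hp : p.Prime := Fact.out
  constructor
  · rintro ⟨d, hd⟩
    have ht1 : trivIrr G ∈ principalBlock M G := by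
      show SameBlock M (fun _ : G => (1 : ℂ)) (fun _ : G => (1 : ℂ))
      haveI hMp : M.IsPrime := hM.2.1.isPrime
      exact sameBlock_refl _
    have hdeg1 : charDegree ((trivIrr G : IrrCharacter G) : G → ℂ) = 1 := by
      show charDegree (fun _ : G => (1 : ℂ)) = 1
      unfold charDegree
      simp
    have hnot : ¬ p ∣ charDegree ((trivIrr G : IrrCharacter G) : G → ℂ) := by
      rw [hdeg1, Nat.dvd_one]; exact hp.one_lt.ne'
    have hd1 : d = 1 :=
      (hd (trivIrr G) ht1 ((principal_height_zero_iff hM (trivIrr G)).mpr hnot)).symm.trans hdeg1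
    refine npc_of_lin hM (fun χ hχ hdeg => ?_)
    rw [hd χ hχ ((principal_height_zero_iff hM χ).mpr hdeg), hd1]
  · intro h
    exact ⟨1, fun χ hχ hh =>
      npc_degree_one hM h χ hχ ((principal_height_zero_iff hM χ).mp hh)⟩

end Cfsg.Agent.S4888
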