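import Cfsg.Statements.S4549
import Cfsg.Agent.S4888
import Cfsg.Agent.Helper22.BlkIS
import Cfsg.Agent.Helper22.GalIrr

set_option autoImplicit false
open Cfsg
open Cfsg.Agent.Helper24 Cfsg.Agent.Helper5 Cfsg.Agent.Helper22

namespace Cfsg.Agent.S4549

/-- Let G be a finite group and M a maximal ideal of the algebraic integers containing 2. Let k be a natural number with g ^ k = g ^ 3 for every 2-element g and g ^ k = g for every element g of odd order (such k exist); an irreducible character χ is unchanged by g ↦ g ^ k exactly when it is fixed by the field automorphism that cubes the 2-power roots of unity and fixes the roots of unity of odd order. Then G has a normal 2-complement if and only if every member χ of the principal 2-block of odd degree with χ (g ^ k) = χ g for all g has degree one. -/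
theorem result {G : Type*} [Group G] [Finite G] (M : Ideal Cfsg.AlgInt) (hM : Cfsg.IsPModular 2 M) (k : ℕ) (hk₁ : ∀ g : G, (∃ j : ℕ, orderOf g = 2 ^ j) → g ^ k = g ^ 3) (hk₂ : ∀ g : G, Odd (orderOf g) → g ^ k = g) : Cfsg.HasNormalPComplement 2 G ↔ ∀ χ ∈ Cfsg.principalBlock M G, Odd (Cfsg.charDegree (χ : G → ℂ)) → (∀ g : G, (χ : G → ℂ) (g ^ k) = (χ : G → ℂ) g) → Cfsg.charDegree (χ : G → ℂ) = 1 := by
  classical
  haveI : Fintype G := Fintype.ofFinite G
  haveI : Fact (Nat.Prime 2) := ⟨Nat.prime_two⟩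
  constructor
  · intro h χ hχ hodd _
    exact Cfsg.Agent.S4888.npc_degree_one hM h χ hχ
      (fun h2 => (Nat.not_even_iff_odd.mpr hodd) (even_iff_two_dvd.mpr h2))
  · intro H
    obtain ⟨P⟩ : Nonempty (Sylow 2 G) := inferInstance
    refine npc_of_hom_sep P (fun x hxP hx => ?_)
    obtain ⟨φ, hφ2, hφx⟩ := exists_sq_hom_of_not_mem_frattini P.isPGroup' ⟨x, hxP⟩ hx
    have hkcop : k.Coprime (Nat.card G) := coprime_of_pow_cond k hk₁ hk₂
    obtain ⟨u, hu⟩ : ∃ u : (ZMod (Nat.card G))ˣ, u = ZMod.unitOfCoprime k hkcop := ⟨_, rfl⟩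
    have hσ : ∀ (χ : IrrCharacter G) (g : G),
        (galIrr u χ : G → ℂ) g = (χ : G → ℂ) (g ^ k) := by
      intro χ g
      rw [hu]
      exact congrFun (galConj_unitOfCoprime (χ : G → ℂ) k hkcop) g
    have hiter : ∀ (n : ℕ) (χ : IrrCharacter G) (g : G),
        (((galIrr u)^[n] χ : IrrCharacter G) : G → ℂ) g = (χ : G → ℂ) (g ^ (k ^ n)) := by
      intro n
      induction n with
      | zero => intro χ g; simp
      | succ n ih =>
        intro χ g
        rw [Function.iterate_succ_apply, ih, hσ, ← pow_mul, ← pow_succ]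
    have hσN : (galIrr (G := G) u)^[2 ^ Nat.card G] = id := by
      funext χ
      apply Subtype.ext
      funext g
      show (((galIrr u)^[2 ^ Nat.card G] χ : IrrCharacter G) : G → ℂ) g = (χ : G → ℂ) g
      rw [hiter, pow_pow_two_eq_self k hk₁ hk₂ g]
    -- multiplicities
    have hφirr : IsIrrCharacter ↥(P : Subgroup G) (fun y => ((φ y : ℂˣ) : ℂ)) :=
      isIrrCharacter_of_hom φ
    have hmex : ∀ χ : IrrCharacter G, ∃ n : ℕ,
        classInner (fun y : ↥(P : Subgroup G) => (χ : G → ℂ) y)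
          (fun y : ↥(P : Subgroup G) => ((φ y : ℂˣ) : ℂ)) = n :=
      fun χ => classInner_isCharacter_natCast
        (isCharacter_restrict (P : Subgroup G) (isCharacter_of_isIrrCharacter χ.2))
        (isCharacter_of_isIrrCharacter hφirr)
    choose m hm using hmex
    have hT := principal_sylow_weight hM P φ m hm
    have hkP : (Nat.card ↥(P : Subgroup G)).Coprime k :=
      Nat.Coprime.coprime_dvd_left (Subgroup.card_subgroup_dvd_card (P : Subgroup G)) hkcop.symm
    have hφk : ∀ y : ↥(P : Subgroup G), φ (y ^ k) = φ y := by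
      intro y
      have hy3 : y ^ k = y ^ 3 := by
        apply Subtype.ext
        obtain ⟨j, hj⟩ := (IsPGroup.iff_orderOf.mp P.isPGroup') y
        have hj' : orderOf (y : G) = 2 ^ j := by rw [Subgroup.orderOf_coe]; exact hj
        have h3 := hk₁ (y : G) ⟨j, hj'⟩
        first
          | exact h3
          | simpa using h3
      rw [hy3, map_pow, pow_succ, hφ2 y, one_mul]
    have hmσ : ∀ χ : IrrCharacter G, m (galIrr u χ) = m χ := by
      intro χ
      have e : classInner (fun y : ↥(P : Subgroup G) => (galIrr u χ : G → ℂ) y)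
          (fun y : ↥(P : Subgroup G) => ((φ y : ℂˣ) : ℂ)) =
        classInner (fun y : ↥(P : Subgroup G) => (χ : G → ℂ) y)
          (fun y : ↥(P : Subgroup G) => ((φ y : ℂˣ) : ℂ)) := by
        unfold classInner
        refine congrArg (fun z => (Nat.card ↥(P : Subgroup G) : ℂ)⁻¹ * z) ?_
        show ∑ y : ↥(P : Subgroup G), (galIrr u χ : G → ℂ) y * starRingEnd ℂ ((φ y : ℂˣ) : ℂ) =
          ∑ y : ↥(P : Subgroup G), (χ : G → ℂ) y * starRingEnd ℂ ((φ y : ℂˣ) : ℂ)
        rw [← Equiv.sum_comp (powCoprime hkP)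
          (fun y : ↥(P : Subgroup G) => (χ : G → ℂ) y * starRingEnd ℂ ((φ y : ℂˣ) : ℂ))]
        refine Finset.sum_congr rfl fun y _ => ?_
        show (galIrr u χ : G → ℂ) (y : G) * starRingEnd ℂ ((φ y : ℂˣ) : ℂ) =
          (χ : G → ℂ) ((y ^ k : ↥(P : Subgroup G)) : G) * starRingEnd ℂ ((φ (y ^ k) : ℂˣ) : ℂ)
        rw [hσ χ (y : G), hφk y, Subgroup.coe_pow]
      rw [hm, hm] at e
      exact_mod_cast e
    obtain ⟨w, hwdef⟩ : ∃ w : IrrCharacter G → ZMod 2, ∀ χ, w χ =
        ((if χ ∈ principalBlock M G then charDegree (χ : G → ℂ) * m χ else 0 : ℕ) : ZMod 2) :=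
      ⟨_, fun _ => rfl⟩
    have hw : ∀ χ : IrrCharacter G, w (galIrr u χ) = w χ := by
      intro χ
      have e1 : (galIrr u χ ∈ principalBlock M G) ↔ (χ ∈ principalBlock M G) :=
        principal_galIrr hM u χ
      have e2 : charDegree (galIrr u χ : G → ℂ) = charDegree (χ : G → ℂ) := by
        unfold charDegree
        rw [hσ, one_pow]
      rw [hwdef, hwdef, e2, hmσ χ]
      by_cases hχ : χ ∈ principalBlock M G
      · rw [if_pos hχ, if_pos (e1.mpr hχ)]
      · rw [if_neg hχ, if_neg (fun h => hχ (e1.mp h))]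
    have key := sum_fixed_two_pow (Nat.card G) (galIrr u) w hσN hw
    have hsumw : ∑ χ : IrrCharacter G, w χ = ((∑ χ : IrrCharacter G,
        if χ ∈ principalBlock M G then charDegree (χ : G → ℂ) * m χ else 0 : ℕ) : ZMod 2) := by
      rw [Nat.cast_sum]
      exact Finset.sum_congr rfl fun χ _ => hwdef χ
    have hne0 : ∑ χ : IrrCharacter G, w χ ≠ 0 := by
      rw [hsumw]
      intro h0
      exact hT ((ZMod.natCast_eq_zero_iff _ 2).mp h0)
    rw [key] at hne0
    obtain ⟨χ, -, hχne⟩ := Finset.exists_ne_zero_of_sum_ne_zero hne0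
    have hfix : galIrr u χ = χ := by
      by_contra h
      rw [if_neg h] at hχne
      exact hχne rfl
    rw [if_pos hfix, hwdef] at hχne
    have hχB : χ ∈ principalBlock M G := by
      by_contra h
      rw [if_neg h] at hχne
      exact hχne Nat.cast_zero
    rw [if_pos hχB] at hχne
    have hnd : ¬ 2 ∣ charDegree (χ : G → ℂ) * m χ :=
      fun h => hχne ((ZMod.natCast_eq_zero_iff _ 2).mpr h)
    have hodd : Odd (charDegree (χ : G → ℂ)) := by
      rw [← Nat.not_even_iff_odd, even_iff_two_dvd]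
      exact fun h => hnd (Dvd.dvd.mul_right h _)
    have hm0 : m χ ≠ 0 := fun h => hnd (by rw [h, mul_zero]; exact dvd_zero 2)
    have hfixg : ∀ g : G, (χ : G → ℂ) (g ^ k) = (χ : G → ℂ) g := by
      intro g
      rw [← hσ χ g, hfix]
    have hdeg1 := H χ hχB hodd hfixg
    have hχ1 : (χ : G → ℂ) 1 = 1 := by
      rw [(irr_charDegree_spec χ).1, hdeg1, Nat.cast_one]
    obtain ⟨f, -, hf⟩ := lin_ext_of_mult (P : Subgroup G) φ χ hχ1
      (by rw [hm χ]; exact Nat.cast_ne_zero.mpr hm0)
    exact ⟨f, fun h1 => hφx ((hf ⟨x, hxP⟩).symm.trans h1)⟩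

end Cfsg.Agent.S4549
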