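import Cfsg.Statements.S4586
import Cfsg.Agent.S4585
import Cfsg.Agent.S3684

set_option autoImplicit false
open Cfsg
open scoped commutatorElement

namespace Cfsg.Agent.S4586

theorem arith (p i d c : ℕ) (hp0 : 0 < p) (hd : 0 < d) (h : i * d = p * c) :
    i = p ^ 2 ↔ c = p * d := by
  constructor
  · intro h1
    subst h1
    have h2 : p * (p * d) = p * c := by rw [← h]; ring
    exact (Nat.eq_of_mul_eq_mul_left hp0 h2).symm
  · intro h1
    subst h1
    exact Nat.eq_of_mul_eq_mul_right hd (h.trans (by ring))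

theorem core {P : Type*} [Group P] [Finite P] (p : ℕ) [hp : Fact p.Prime]
    (N : Subgroup P) [hNn : N.Normal] (hN : N.index = p) (x : P) (hx : x ∉ N) :
    (commutator P).index * Nat.card (commutator N) =
      p * Nat.card {n : N // x * n * x⁻¹ * (n : P)⁻¹ ∈ (commutator N).map N.subtype} := by
  obtain ⟨D, hD⟩ : ∃ D : Subgroup P, D = (commutator N).map N.subtype := ⟨_, rfl⟩
  have hD' : D = ⁅N, N⁆ := by rw [hD]; exact Subgroup.map_subtype_commutator N
  haveI hDn : D.Normal := by rw [hD']; exact Subgroup.commutator_normal N N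
  have hDN : D ≤ N := by rw [hD']; exact Subgroup.commutator_le_right N N
  have hcN : ∀ n : N, ⁅x, (n : P)⁆ ∈ N := by
    intro n
    rw [commutatorElement_def]
    exact N.mul_mem (hNn.conj_mem _ n.2 x) (N.inv_mem n.2)
  have hmul : ∀ n m : N, ((⁅x, ((n * m : N) : P)⁆ : P) : P ⧸ D) =
      ((⁅x, (n : P)⁆ : P) : P ⧸ D) * ((⁅x, (m : P)⁆ : P) : P ⧸ D) := by
    intro n m
    have h1 : ⁅x, ((n * m : N) : P)⁆ =
        ⁅x, (n : P)⁆ * ((n : P) * ⁅x, (m : P)⁆ * (n : P)⁻¹) := by
      simp only [commutatorElement_def, Subgroup.coe_mul]; group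
    rw [h1, QuotientGroup.mk_mul]
    congr 1
    rw [QuotientGroup.eq, hD']
    have h2 : ((n : P) * ⁅x, (m : P)⁆ * (n : P)⁻¹)⁻¹ * ⁅x, (m : P)⁆ =
        ⁅(n : P), (⁅x, (m : P)⁆)⁻¹⁆ := by
      simp only [commutatorElement_def]; group
    rw [h2]
    exact Subgroup.commutator_mem_commutator n.2 (N.inv_mem (hcN m))
  obtain ⟨f, hf⟩ : ∃ f : ↥N →* P ⧸ D, ∀ n : N, f n = ((⁅x, (n : P)⁆ : P) : P ⧸ D) :=
    ⟨MonoidHom.mk' (fun n : N => ((⁅x, (n : P)⁆ : P) : P ⧸ D)) hmul, fun n => rfl⟩
  have hker : ∀ n : N, n ∈ f.ker ↔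
      x * n * x⁻¹ * (n : P)⁻¹ ∈ (commutator N).map N.subtype := by
    intro n
    rw [← hD, MonoidHom.mem_ker, hf, QuotientGroup.eq_one_iff, commutatorElement_def]
  have hc : Nat.card {n : N // x * n * x⁻¹ * (n : P)⁻¹ ∈ (commutator N).map N.subtype} =
      Nat.card f.ker :=
    (Nat.card_congr (Equiv.subtypeEquivRight hker)).symm
  obtain ⟨R, hR⟩ : ∃ R : Subgroup P, R = f.range.comap (QuotientGroup.mk' D) := ⟨_, rfl⟩
  have hmemR : ∀ z : P, z ∈ R ↔ ∃ n : N, ((⁅x, (n : P)⁆ : P) : P ⧸ D) = (z : P ⧸ D) := by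
    intro z
    rw [hR, Subgroup.mem_comap, MonoidHom.mem_range]
    constructor
    · rintro ⟨n, hn⟩; exact ⟨n, (hf n).symm.trans hn⟩
    · rintro ⟨n, hn⟩; exact ⟨n, (hf n).trans hn⟩
  have hDR : D ≤ R := by
    intro d hd
    refine (hmemR d).mpr ⟨1, ?_⟩
    rw [(QuotientGroup.eq_one_iff d).mpr hd]
    simp
  have hxR : ∀ n : N, ⁅x, (n : P)⁆ ∈ R := fun n => (hmemR _).mpr ⟨n, rfl⟩
  have hRN : R ≤ N := by
    intro z hz
    obtain ⟨n, hn⟩ := (hmemR z).mp hz
    have h1 : (⁅x, (n : P)⁆)⁻¹ * z ∈ D := QuotientGroup.eq.mp hn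
    have h4 : z = ⁅x, (n : P)⁆ * ((⁅x, (n : P)⁆)⁻¹ * z) := by group
    rw [h4]; exact N.mul_mem (hcN n) (hDN h1)
  have hT : Subgroup.closure ((N : Set P) ∪ {x}) = ⊤ := by
    have hNle : N ≤ Subgroup.closure ((N : Set P) ∪ {x}) :=
      fun n hn => Subgroup.subset_closure (Set.mem_union_left _ hn)
    have hxH : x ∈ Subgroup.closure ((N : Set P) ∪ {x}) :=
      Subgroup.subset_closure (Set.mem_union_right _ (Set.mem_singleton x))
    have h1 := Subgroup.relIndex_mul_index hNle
    rw [hN] at h1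
    have h2 : (Subgroup.closure ((N : Set P) ∪ {x})).index ∣ p := Dvd.intro_left _ h1
    rcases (Nat.dvd_prime hp.out).mp h2 with h3 | h3
    · exact Subgroup.index_eq_one.mp h3
    · exfalso
      rw [h3] at h1
      have h4 : N.relIndex (Subgroup.closure ((N : Set P) ∪ {x})) = 1 :=
        Nat.eq_of_mul_eq_mul_right hp.out.pos (by rw [h1, one_mul])
      exact hx (Subgroup.relIndex_eq_one.mp h4 hxH)
  have hconj : ∀ g ∈ ((N : Set P) ∪ {x}), ∀ z ∈ R, g * z * g⁻¹ ∈ R ∧ g⁻¹ * z * g ∈ R := by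
    intro g hg z hz
    obtain ⟨n, hn⟩ := (hmemR z).mp hz
    rcases (Set.mem_union _ _ _).mp hg with hg | hg
    · have hg' : g ∈ N := hg
      have hzN : z ∈ N := hRN hz
      refine ⟨(hmemR _).mpr ⟨n, hn.trans ?_⟩, (hmemR _).mpr ⟨n, hn.trans ?_⟩⟩
      · rw [QuotientGroup.eq, hD']
        have e : z⁻¹ * (g * z * g⁻¹) = ⁅z⁻¹, g⁆ := by
          simp only [commutatorElement_def]; group
        rw [e]
        exact Subgroup.commutator_mem_commutator (N.inv_mem hzN) hg'
      · rw [QuotientGroup.eq, hD']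
        have e : z⁻¹ * (g⁻¹ * z * g) = ⁅z⁻¹, g⁻¹⁆ := by
          simp only [commutatorElement_def]; group
        rw [e]
        exact Subgroup.commutator_mem_commutator (N.inv_mem hzN) (N.inv_mem hg')
    · rw [Set.mem_singleton_iff] at hg
      rw [hg]
      have hn1 : x * (n : P) * x⁻¹ ∈ N := hNn.conj_mem _ n.2 x
      have hn2 : x⁻¹ * (n : P) * x ∈ N := by
        have := hNn.conj_mem _ n.2 x⁻¹
        rwa [inv_inv] at this
      refine ⟨(hmemR _).mpr ⟨⟨_, hn1⟩, ?_⟩, (hmemR _).mpr ⟨⟨_, hn2⟩, ?_⟩⟩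
      · have e : ⁅x, x * (n : P) * x⁻¹⁆ = x * ⁅x, (n : P)⁆ * x⁻¹ := by
          simp only [commutatorElement_def]; group
        show ((⁅x, x * (n : P) * x⁻¹⁆ : P) : P ⧸ D) = ((x * z * x⁻¹ : P) : P ⧸ D)
        rw [e]
        simp only [QuotientGroup.mk_mul, hn]
      · have e : ⁅x, x⁻¹ * (n : P) * x⁆ = x⁻¹ * ⁅x, (n : P)⁆ * x := by
          simp only [commutatorElement_def]; group
        show ((⁅x, x⁻¹ * (n : P) * x⁆ : P) : P ⧸ D) = ((x⁻¹ * z * x : P) : P ⧸ D)
        rw [e]
        simp only [QuotientGroup.mk_mul, hn]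
  haveI hRn : R.Normal := S3684.normal_of_gen R ((N : Set P) ∪ {x}) hT hconj
  have hpair : ∀ s ∈ ((N : Set P) ∪ {x}), ∀ t ∈ ((N : Set P) ∪ {x}), ⁅s, t⁆ ∈ R := by
    intro s hs t ht
    rcases (Set.mem_union _ _ _).mp hs with hs | hs <;>
      rcases (Set.mem_union _ _ _).mp ht with ht | ht
    · have hs' : s ∈ N := hs
      have ht' : t ∈ N := ht
      exact hDR (by rw [hD']; exact Subgroup.commutator_mem_commutator hs' ht')
    · have hs' : s ∈ N := hs
      rw [Set.mem_singleton_iff] at ht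
      rw [ht]
      have h := R.inv_mem (hxR ⟨s, hs'⟩)
      rwa [commutatorElement_inv] at h
    · have ht' : t ∈ N := ht
      rw [Set.mem_singleton_iff] at hs
      rw [hs]
      exact hxR ⟨t, ht'⟩
    · rw [Set.mem_singleton_iff] at hs ht
      rw [hs, ht, commutatorElement_self]
      exact R.one_mem
  have hcomm_le : commutator P ≤ R := S4585.lemmaB R _ hT hpair
  have hRle : R ≤ commutator P := by
    intro z hz
    obtain ⟨n, hn⟩ := (hmemR z).mp hz
    have h1 : (⁅x, (n : P)⁆)⁻¹ * z ∈ D := QuotientGroup.eq.mp hn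
    have h2 : D ≤ commutator P := by
      rw [hD', _root_.commutator_def]; exact Subgroup.commutator_mono le_top le_top
    have h3 : ⁅x, (n : P)⁆ ∈ commutator P := by
      rw [_root_.commutator_def]
      exact Subgroup.commutator_mem_commutator (Subgroup.mem_top _) (Subgroup.mem_top _)
    have h4 : z = ⁅x, (n : P)⁆ * ((⁅x, (n : P)⁆)⁻¹ * z) := by group
    rw [h4]; exact (commutator P).mul_mem h3 (h2 h1)
  have hReq : commutator P = R := le_antisymm hcomm_le hRle
  have hidx : R.index = f.range.index := by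
    rw [hR]; exact Subgroup.index_comap_of_surjective f.range (QuotientGroup.mk'_surjective D)
  have h_range : Nat.card f.range * f.range.index = D.index := Subgroup.card_mul_index f.range
  have h_D : Nat.card D * D.index = Nat.card P := Subgroup.card_mul_index D
  have h_ker : Nat.card f.ker * f.ker.index = Nat.card N := Subgroup.card_mul_index f.ker
  have h_ki : f.ker.index = Nat.card f.range := Subgroup.index_ker f
  have h_N : Nat.card N * N.index = Nat.card P := Subgroup.card_mul_index N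
  have h_cD : Nat.card D = Nat.card (commutator N) := by
    rw [hD]; exact Subgroup.card_subtype N (commutator N)
  have hr0 : 0 < Nat.card f.range := Nat.card_pos
  have key : Nat.card f.range * (f.range.index * Nat.card D) =
      Nat.card f.range * (p * Nat.card f.ker) := by
    calc Nat.card f.range * (f.range.index * Nat.card D)
        = Nat.card D * (Nat.card f.range * f.range.index) := by ring
      _ = Nat.card D * D.index := by rw [h_range]
      _ = Nat.card P := h_D
      _ = Nat.card N * p := by rw [← h_N, hN]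
      _ = Nat.card f.ker * Nat.card f.range * p := by rw [← h_ker, h_ki]
      _ = Nat.card f.range * (p * Nat.card f.ker) := by ring
  rw [hReq, hidx, ← h_cD, hc]
  exact Nat.eq_of_mul_eq_mul_left hr0 key

/-- Let p be a prime, P a finite p-group and N a normal subgroup of P of index p. For x ∈ P write c(x) for the number of elements n of N whose commutator x n x⁻¹ n⁻¹ lies in the derived subgroup N' (so c(x)/#N' is the order of the centralizer of x acting on N/N'). Then [P : P'] = p² if and only if c(x) = p·#N' for every x ∈ P outside N, and also if and only if c(x) = p·#N' for some x ∈ P outside N. -/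
theorem result {P : Type*} [Group P] [Finite P] (p : ℕ) [Fact p.Prime] (hP : IsPGroup p P) (N : Subgroup P) [N.Normal] (hN : N.index = p) :
    ((commutator P).index = p ^ 2 ↔ ∀ x : P, x ∉ N →
        Nat.card {n : N // x * n * x⁻¹ * (n : P)⁻¹ ∈ (commutator N).map N.subtype} = p * Nat.card (commutator N)) ∧
    ((commutator P).index = p ^ 2 ↔ ∃ x : P, x ∉ N ∧
        Nat.card {n : N // x * n * x⁻¹ * (n : P)⁻¹ ∈ (commutator N).map N.subtype} = p * Nat.card (commutator N)) := by
  have hp : p.Prime := Fact.out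
  have hp0 : 0 < p := hp.pos
  have hc0 : 0 < Nat.card (commutator N) := Nat.card_pos
  have hiff : ∀ x : P, x ∉ N → ((commutator P).index = p ^ 2 ↔
      Nat.card {n : N // x * n * x⁻¹ * (n : P)⁻¹ ∈ (commutator N).map N.subtype} =
        p * Nat.card (commutator N)) :=
    fun x hx => arith p _ _ _ hp0 hc0 (core p N hN x hx)
  obtain ⟨x₀, hx₀⟩ : ∃ x : P, x ∉ N := by
    by_contra hcon
    push Not at hcon
    have hNt : N = ⊤ := (Subgroup.eq_top_iff' N).mpr hcon
    rw [hNt, Subgroup.index_top] at hN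
    exact hp.one_lt.ne hN
  exact ⟨⟨fun h x hx => (hiff x hx).mp h, fun h => (hiff x₀ hx₀).mpr (h x₀ hx₀)⟩,
    ⟨fun h => ⟨x₀, hx₀, (hiff x₀ hx₀).mp h⟩, fun ⟨x, hx, h⟩ => (hiff x hx).mpr h⟩⟩

end Cfsg.Agent.S4586
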