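import Cfsg.Statements.S5096
import Cfsg.Agent.Helper25.FusExt

set_option autoImplicit false
open Cfsg

namespace Cfsg.Agent.S5096

open Cfsg.Agent.Helper25

variable {Ω : Type*} [Group Ω] {S : Subgroup Ω}

theorem normalizerHom_conj (F : Cfsg.FusionSystem S) {Q : Subgroup Ω} (hQ : Q ≤ S) {P : Subgroup Ω}
    {g : Ω} (hP : P ≤ Cfsg.FusionSystem.normalizerIn S Q)
    (hg : g ∈ Cfsg.FusionSystem.normalizerIn S Q) : conjHom P g ∈ F.normalizerHom Q P := by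
  have hgS : g ∈ S := (Subgroup.mem_inf.mp hg).1
  have hgN : g ∈ Subgroup.normalizer (Q : Set Ω) := (Subgroup.mem_inf.mp hg).2
  have hPS : P ≤ S := hP.trans inf_le_left
  refine ⟨F.conj_mem hPS hgS, hP, fun x => ?_, conjHom (P ⊔ Q) g,
    F.conj_mem (sup_le hPS hQ) hgS, fun x => rfl, ?_⟩
  · exact Subgroup.mul_mem _ (Subgroup.mul_mem _ hg (hP x.2)) (Subgroup.inv_mem _ hg)
  · ext y
    rw [mem_map_subgroupOf]
    constructor
    · rintro ⟨a, ha, hk, rfl⟩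
      exact (Subgroup.mem_normalizer_iff.mp hgN a).mp ha
    · intro hy
      have hy' : g⁻¹ * y * g ∈ Q := (Subgroup.mem_normalizer_iff''.mp hgN y).mp hy
      refine ⟨g⁻¹ * y * g, hy', Subgroup.mem_sup_right hy', ?_⟩
      show g * (g⁻¹ * y * g) * g⁻¹ = y
      group

theorem normalizerHom_comp (F : Cfsg.FusionSystem S) {Q P P' : Subgroup Ω} {φ : P →* Ω}
    {ψ : P' →* Ω} (hφ : φ ∈ F.normalizerHom Q P) (hψ : ψ ∈ F.normalizerHom Q P')
    (h : ∀ x : P, φ x ∈ P') : ψ.comp (φ.codRestrict P' h) ∈ F.normalizerHom Q P := by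
  obtain ⟨hφF, hPN, hφN, φ', hφ'F, hφ'P, hφ'Q⟩ := hφ
  obtain ⟨hψF, hP'N, hψN, ψ', hψ'F, hψ'P, hψ'Q⟩ := hψ
  have h' : ∀ x : ↥(P ⊔ Q), φ' x ∈ P' ⊔ Q := by
    refine forall_sup_of_le ((P' ⊔ Q).comap φ') ?_ ?_
    · intro k hk
      have hkP : (k : Ω) ∈ P := Subgroup.mem_subgroupOf.mp hk
      have h2 : φ' k = φ ⟨k, hkP⟩ := hφ'P ⟨k, hkP⟩
      show φ' k ∈ P' ⊔ Q
      rw [h2]
      exact Subgroup.mem_sup_left (h ⟨k, hkP⟩)
    · intro k hk
      have h3 : φ' k ∈ (Q.subgroupOf (P ⊔ Q)).map φ' := ⟨k, hk, rfl⟩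
      rw [hφ'Q] at h3
      exact Subgroup.mem_sup_right h3
  refine ⟨F.comp_mem hφF hψF h, hPN, fun x => hψN _, ψ'.comp (φ'.codRestrict (P' ⊔ Q) h'),
    F.comp_mem hφ'F hψ'F h', fun x => ?_, ?_⟩
  · have e : (⟨φ' (Subgroup.inclusion le_sup_left x), h' _⟩ : ↥(P' ⊔ Q)) =
        Subgroup.inclusion le_sup_left (⟨φ x, h x⟩ : P') := Subtype.ext (hφ'P x)
    exact (congrArg ψ' e).trans (hψ'P ⟨φ x, h x⟩)
  · ext y
    rw [mem_map_subgroupOf]
    constructor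
    · rintro ⟨a, ha, hk, rfl⟩
      have h1 : φ' ⟨a, hk⟩ ∈ Q := by
        have h3 : φ' ⟨a, hk⟩ ∈ (Q.subgroupOf (P ⊔ Q)).map φ' :=
          ⟨⟨a, hk⟩, Subgroup.mem_subgroupOf.mpr ha, rfl⟩
        rwa [hφ'Q] at h3
      have h2 : ψ' ⟨φ' ⟨a, hk⟩, h' _⟩ ∈ (Q.subgroupOf (P' ⊔ Q)).map ψ' :=
        ⟨⟨_, h' _⟩, Subgroup.mem_subgroupOf.mpr h1, rfl⟩
      rw [hψ'Q] at h2
      exact h2
    · intro hy
      rw [← hψ'Q, mem_map_subgroupOf] at hy
      obtain ⟨b, hb, hbk, rfl⟩ := hy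
      rw [← hφ'Q, mem_map_subgroupOf] at hb
      obtain ⟨a, ha, hak, rfl⟩ := hb
      exact ⟨a, ha, hak, rfl⟩

theorem normalizerHom_inv (F : Cfsg.FusionSystem S) {Q P : Subgroup Ω} {φ : P →* Ω}
    (hφ : φ ∈ F.normalizerHom Q P) :
    ∃ ψ ∈ F.normalizerHom Q φ.range, ∀ x : P, ψ ⟨φ x, ⟨x, rfl⟩⟩ = (x : Ω) := by
  obtain ⟨hφF, hPN, hφN, φ', hφ'F, hφ'P, hφ'Q⟩ := hφ
  obtain ⟨χ, hχF, hχ⟩ := F.inv_mem hφ'F
  have hrange : φ.range ⊔ Q = φ'.range := by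
    apply le_antisymm
    · refine sup_le ?_ ?_
      · rintro _ ⟨x, rfl⟩
        exact ⟨Subgroup.inclusion le_sup_left x, hφ'P x⟩
      · intro y hy
        rw [← hφ'Q] at hy
        obtain ⟨k, -, rfl⟩ := hy
        exact ⟨k, rfl⟩
    · rintro _ ⟨x, rfl⟩
      refine forall_sup_of_le ((φ.range ⊔ Q).comap φ') ?_ ?_ x
      · intro k hk
        have hkP : (k : Ω) ∈ P := Subgroup.mem_subgroupOf.mp hk
        have h2 : φ' k = φ ⟨k, hkP⟩ := hφ'P ⟨k, hkP⟩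
        show φ' k ∈ φ.range ⊔ Q
        rw [h2]
        exact Subgroup.mem_sup_left (show φ ⟨k, hkP⟩ ∈ φ.range from ⟨_, rfl⟩)
      · intro k hk
        have h3 : φ' k ∈ (Q.subgroupOf (P ⊔ Q)).map φ' := ⟨k, hk, rfl⟩
        rw [hφ'Q] at h3
        exact Subgroup.mem_sup_right h3
  have key : ∀ (x : P) (hmem : φ x ∈ φ'.range), χ ⟨φ x, hmem⟩ = (x : Ω) := by
    intro x hmem
    have e : (⟨φ x, hmem⟩ : ↥φ'.range) = ⟨φ' (Subgroup.inclusion le_sup_left x), ⟨_, rfl⟩⟩ :=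
      Subtype.ext (hφ'P x).symm
    exact (congrArg χ e).trans (hχ (Subgroup.inclusion le_sup_left x))
  have hχ' := fus_hom_cast F hrange hχF
  refine ⟨(χ.comp (Subgroup.inclusion hrange.le)).comp (Subgroup.inclusion le_sup_left),
    ⟨fus_restrict_mem F le_sup_left hχ', ?_, ?_, χ.comp (Subgroup.inclusion hrange.le), hχ',
      fun x => rfl, ?_⟩, fun x => key x _⟩
  · rintro _ ⟨x, rfl⟩
    exact hφN x
  · rintro ⟨_, x, rfl⟩
    have h3 : ((χ.comp (Subgroup.inclusion hrange.le)).comp (Subgroup.inclusion le_sup_left))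
        ⟨φ x, ⟨x, rfl⟩⟩ = (x : Ω) := key x _
    rw [h3]
    exact hPN x.2
  · ext y
    rw [mem_map_subgroupOf]
    constructor
    · rintro ⟨a, ha, hk, rfl⟩
      rw [← hφ'Q, mem_map_subgroupOf] at ha
      obtain ⟨b, hb, hbk, rfl⟩ := ha
      have h3 : (χ.comp (Subgroup.inclusion hrange.le)) ⟨φ' ⟨b, hbk⟩, hk⟩ = b := hχ ⟨b, hbk⟩
      rw [h3]
      exact hb
    · intro hy
      have h3 : φ' ⟨y, Subgroup.mem_sup_right hy⟩ ∈ (Q.subgroupOf (P ⊔ Q)).map φ' :=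
        ⟨⟨y, Subgroup.mem_sup_right hy⟩, Subgroup.mem_subgroupOf.mpr hy, rfl⟩
      rw [hφ'Q] at h3
      exact ⟨_, h3, Subgroup.mem_sup_right h3, hχ ⟨y, Subgroup.mem_sup_right hy⟩⟩

/-- The normalizer fusion system `N_F(Q)`. -/
def normalizerSystem (F : Cfsg.FusionSystem S) (Q : Subgroup Ω) (hQ : Q ≤ S) :
    Cfsg.FusionSystem (Cfsg.FusionSystem.normalizerIn S Q) where
  Hom P := F.normalizerHom Q P
  le_of_mem := fun h => ⟨h.2.1, h.2.2.1⟩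
  injective_of_mem := fun h => F.injective_of_mem h.1
  conj_mem := fun hP hg => normalizerHom_conj F hQ hP hg
  comp_mem := fun hφ hψ h => normalizerHom_comp F hφ hψ h
  inv_mem := fun hφ => normalizerHom_inv F hφ

/-- For any fusion system over a subgroup S and any Q ≤ S, the maps of the normalizer system N_F(Q) — those maps between subgroups of N_S(Q) that extend to the subgroup generated with Q carrying Q onto Q — form a fusion system over N_S(Q). -/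
theorem result {Ω : Type*} [Group Ω] {S : Subgroup Ω} (F : Cfsg.FusionSystem S) (Q : Subgroup Ω) (hQ : Q ≤ S) : ∃ E : Cfsg.FusionSystem (Cfsg.FusionSystem.normalizerIn S Q), F.IsNormalizerSystem Q E :=
  ⟨normalizerSystem F Q hQ, fun _ => rfl⟩

end Cfsg.Agent.S5096
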