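import Cfsg.Statements.S5124
import Cfsg.Agent.Helper26.FusNormal3

set_option autoImplicit false
open Cfsg

namespace Cfsg.Agent.S5124

open Cfsg.FusionSystem Cfsg.Agent.Helper26

variable {Ω : Type*} [Group Ω] {S : Subgroup Ω}

theorem map_pResidual_mem {G H : Type*} [Group G] [Group H] (p : ℕ) (f : G →* H) {g : G}
    (hg : g ∈ pResidual p G) : f g ∈ pResidual p H := by
  have h : pResidual p G ≤ (pResidual p H).comap f := by
    show Subgroup.closure _ ≤ _
    rw [Subgroup.closure_le]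
    intro x hx
    show f x ∈ pResidual p H
    exact Subgroup.subset_closure (Nat.Coprime.coprime_dvd_left (orderOf_map_dvd f x) hx)
  exact h hg

theorem hyp_le (F : Cfsg.FusionSystem S) (p : ℕ) : F.hyperfocalSubgroup p ≤ S := by
  show Subgroup.closure _ ≤ S
  rw [Subgroup.closure_le]
  rintro y ⟨P, α, x, hPS, -, rfl⟩
  exact S.mul_mem (S.inv_mem (hPS x.2)) (hPS (((α : MulAut P) x : P)).2)

theorem hyp_gen_mem (F : Cfsg.FusionSystem S) (p : ℕ) {P : Subgroup Ω} (hPS : P ≤ S)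
    (α : F.autGroup P) (hα : α ∈ pResidual p (F.autGroup P)) (x : P) :
    (x : Ω)⁻¹ * (((α : MulAut P) x : P) : Ω) ∈ F.hyperfocalSubgroup p :=
  Subgroup.subset_closure ⟨P, α, x, hPS, hα, rfl⟩

/-- The hyperfocal subgroup is normalized by `S`. -/
theorem hyp_conj (F : Cfsg.FusionSystem S) (p : ℕ) {s : Ω} (hs : s ∈ S) :
    ∀ y ∈ F.hyperfocalSubgroup p, s * y * s⁻¹ ∈ F.hyperfocalSubgroup p := by
  intro y hy
  have hle : F.hyperfocalSubgroup p ≤
      (F.hyperfocalSubgroup p).comap (MulAut.conj s).toMonoidHom := by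
    show Subgroup.closure _ ≤ _
    rw [Subgroup.closure_le]
    rintro y ⟨P, α, x, hPS, hα, rfl⟩
    show s * ((x : Ω)⁻¹ * (((α : MulAut P) x : P) : Ω)) * s⁻¹ ∈ F.hyperfocalSubgroup p
    obtain ⟨e, he, hex⟩ := exists_iso_of_hom F (F.conj_mem hPS hs) rfl
    have hP'S := he.le_right
    have hmem : ∀ β : F.autGroup P,
        ((MulAut.congr e).toMonoidHom.comp (F.autGroup P).subtype) β
          ∈ F.autGroup (conjHom P s).range := by
      intro β
      have hβ := (mem_autGroup_iff F hPS _).1 β.2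
      exact (mem_autGroup_iff F hP'S _).2 (he.symm.trans (hβ.trans he))
    obtain ⟨T, hT⟩ : ∃ T : ↥(F.autGroup P) →* ↥(F.autGroup (conjHom P s).range),
        ∀ β : F.autGroup P, ((T β : F.autGroup (conjHom P s).range) : MulAut (conjHom P s).range)
          = MulAut.congr e (β : MulAut P) :=
      ⟨((MulAut.congr e).toMonoidHom.comp (F.autGroup P).subtype).codRestrict _ hmem,
        fun β => rfl⟩
    have hTα : T α ∈ pResidual p (F.autGroup (conjHom P s).range) := map_pResidual_mem p T hα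
    have hgen := hyp_gen_mem F p hP'S (T α) hTα (e x)
    have h1 : ((T α : F.autGroup (conjHom P s).range) : MulAut (conjHom P s).range) (e x)
        = e ((α : MulAut P) x) := by
      rw [hT]
      show e ((α : MulAut P) (e.symm (e x))) = e ((α : MulAut P) x)
      rw [MulEquiv.symm_apply_apply]
    rw [h1, hex, hex] at hgen
    have h2 : s * ((x : Ω)⁻¹ * (((α : MulAut P) x : P) : Ω)) * s⁻¹
        = (s * (x : Ω) * s⁻¹)⁻¹ * (s * (((α : MulAut P) x : P) : Ω) * s⁻¹) := by group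
    rw [h2]
    exact hgen
  exact hle hy

/-- The predicate cutting out the maps that preserve membership in the hyperfocal subgroup. -/
def HypPr (F : Cfsg.FusionSystem S) (p : ℕ) (P : Subgroup Ω) (φ : P →* Ω) : Prop :=
  ∀ x : P, ((x : Ω) ∈ F.hyperfocalSubgroup p ↔ φ x ∈ F.hyperfocalSubgroup p)

theorem hyp_conj_iff (F : Cfsg.FusionSystem S) (p : ℕ) {s : Ω} (hs : s ∈ S) (y : Ω) :
    y ∈ F.hyperfocalSubgroup p ↔ s * y * s⁻¹ ∈ F.hyperfocalSubgroup p := by
  refine ⟨hyp_conj F p hs y, fun h => ?_⟩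
  have h1 := hyp_conj F p (S.inv_mem hs) _ h
  have h2 : s⁻¹ * (s * y * s⁻¹) * s⁻¹⁻¹ = y := by group
  rw [h2] at h1
  exact h1

/-- The subsystem of maps preserving membership in the hyperfocal subgroup. -/
def hypSys (F : Cfsg.FusionSystem S) (p : ℕ) : Cfsg.FusionSystem S :=
  subSys F (HypPr F p)
    (fun _ hg x => hyp_conj_iff F p hg x)
    (fun _ _ hφ hψ h x => (hφ x).trans (hψ ⟨_, h x⟩))
    (fun _ hφ ψ _ hψx => by
      rintro ⟨_, x, rfl⟩
      have h1 := hψx x
      show _ ↔ ψ ⟨_, ⟨x, rfl⟩⟩ ∈ F.hyperfocalSubgroup p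
      rw [h1]
      exact (hφ x).symm)

/-- In a saturated fusion system over a finite p-group S the hyperfocal subgroup is strongly closed in the system. -/
theorem result {Ω : Type*} [Group Ω] {S : Subgroup Ω} [Finite S] (p : ℕ) [Fact p.Prime] (hS : IsPGroup p S) (F : Cfsg.FusionSystem S) (hF : F.IsSaturated p) : F.StronglyClosed (F.hyperfocalSubgroup p) := by
  have hle : F ≤ hypSys F p := by
    apply alperin hS F hF
    intro Q hn ha hr hc hrad α hα
    have hQS := hr.1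
    have : Finite Q := finite_of_le hQS
    apply Subgroup.subset_closure
    show Q.subtype.comp α.toMonoidHom ∈ F.Hom Q ∧ HypPr F p Q (Q.subtype.comp α.toMonoidHom)
    refine ⟨(mem_autGroup_iff F hQS α).1 hα, fun x => ?_⟩
    obtain ⟨-, R, hR⟩ := ha
    obtain ⟨β, hβ, γ, hγ, hαβγ⟩ := exists_mul_pResidual_sylow R ⟨α, hα⟩
    rw [hR] at hγ
    have hγ' : (γ : MulAut Q) ∈ autInducedBy S Q := Subgroup.mem_subgroupOf.1 hγ
    obtain ⟨s, hs, hsγ⟩ := (mem_autInducedBy_iff S Q _).1 hγ'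
    have hαx : α x = (β : MulAut Q) ((γ : MulAut Q) x) :=
      congrArg (fun z : F.autGroup Q => (z : MulAut Q) x) hαβγ
    have hgen := hyp_gen_mem F p hQS β hβ ((γ : MulAut Q) x)
    show (x : Ω) ∈ F.hyperfocalSubgroup p ↔ ((α x : Q) : Ω) ∈ F.hyperfocalSubgroup p
    rw [hαx]
    have h1 : (((β : MulAut Q) ((γ : MulAut Q) x) : Q) : Ω)
        = (((γ : MulAut Q) x : Q) : Ω) * ((((γ : MulAut Q) x : Q) : Ω)⁻¹ *
          (((β : MulAut Q) ((γ : MulAut Q) x) : Q) : Ω)) := by
      rw [mul_inv_cancel_left]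
    rw [h1, Subgroup.mul_mem_cancel_right _ hgen, hsγ]
    exact hyp_conj_iff F p hs x
  refine ⟨hyp_le F p, fun R hR φ hφ x => ?_⟩
  exact ((show φ ∈ F.Hom R ∧ HypPr F p R φ from hle R hφ).2 x).1 (hR x.2)

end Cfsg.Agent.S5124
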