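import Mathlib
import Cfsg.Statements.S5256
import Cfsg.Agent.Helper26.FusHyp
import Cfsg.Agent.S5134
-- import your own Cfsg.Agent.* helpers here

set_option autoImplicit false
open Cfsg

namespace Cfsg.Agent.S5256

/-- Let F be a saturated fusion system over a finite p-group S, T a subgroup of S strongly closed in F, and E a factor system F/T realised along a homomorphism θ of S with kernel T. Then the hyperfocal subgroup of E is the image under θ of the hyperfocal subgroup of F (hyp(F/T) = T·hyp(F)/T). -/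
theorem result {Ω : Type*} [Group Ω] {S : Subgroup Ω} [Finite S] (p : ℕ) [Fact p.Prime] (hS : IsPGroup p S) (F : Cfsg.FusionSystem S) (hF : F.IsSaturated p) (T : Subgroup Ω) (hT : F.StronglyClosed T) {Ω' : Type*} [Group Ω'] {S' : Subgroup Ω'} (θ : ↥S →* Ω') (E : Cfsg.FusionSystem S') (hE : F.IsFactorSystem T θ E) : E.hyperfocalSubgroup p = ((F.hyperfocalSubgroup p).subgroupOf S).map θ := by
  have hmor := Cfsg.Agent.S5134.result p hS F hF T hT θ E hE
  obtain ⟨hTS, hker, hrange, hHom⟩ := hE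
  have hfinS' : Finite S' := by
    rw [← hrange]; exact Finite.of_surjective θ.rangeRestrict θ.rangeRestrict_surjective
  apply le_antisymm
  · refine Helper26.hyperfocal_le E p _ ?_
    intro P' hP' a' ha' hco x'
    have hiso := (Helper26.mem_autGroup_iff E hP' a').1 ha'
    have hfinP' : Finite P' := Helper26.finite_of_le hP'
    obtain ⟨hP'S, φ, hφ, hP1, hφS, hPP', hind⟩ := (hHom P' _).1 hiso
    have hφP : ∀ x, φ x ∈ FusionSystem.preimageAlong θ P' := fun x =>
      (Helper26.mem_preimageAlong θ P').2 ⟨hφS x, by rw [← hind x]; exact (a' _).2⟩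
    have : Finite (FusionSystem.preimageAlong θ P') := Helper26.finite_of_le hP1
    obtain ⟨e, he, hex⟩ := Helper26.exists_iso_of_hom_of_card F hφ hφP le_rfl
    have hea : e ∈ F.autGroup (FusionSystem.preimageAlong θ P') :=
      (Helper26.mem_autGroup_iff F hP1 e).2 he
    have hsemi : ∀ x : ↥(FusionSystem.preimageAlong θ P'),
        a' (⟨θ ⟨x, hP1 x.2⟩, hPP' x⟩ : P') = ⟨θ ⟨e x, hP1 (e x).2⟩, hPP' (e x)⟩ := fun x =>
      Subtype.ext ((hind x).trans (congrArg θ (Subtype.ext (hex x).symm)))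
    obtain ⟨x, hx⟩ := Helper26.exists_preimage θ (by rw [hrange]; exact hP') x'.2
    have hx' : x' = ⟨θ ⟨x, hP1 x.2⟩, hPP' x⟩ := Subtype.ext hx.symm
    subst hx'
    have hn : orderOf e ≠ 0 := (orderOf_pos e).ne'
    obtain ⟨k, r, hr, hkr⟩ := Nat.exists_eq_pow_mul_and_not_dvd hn p (Nat.Prime.ne_one Fact.out)
    by_cases hm1 : orderOf a' = 1
    · have ha1 : a' = 1 := orderOf_eq_one_iff.1 hm1
      rw [ha1]
      have h1 : ((⟨θ ⟨x, hP1 x.2⟩, hPP' x⟩ : P') : Ω')⁻¹ *
          (((1 : MulAut P') ⟨θ ⟨x, hP1 x.2⟩, hPP' x⟩ : P') : Ω') = 1 := inv_mul_cancel _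
      rw [h1]; exact Subgroup.one_mem _
    · have hm : 1 < orderOf a' := by have := orderOf_pos a'; omega
      have hcop : Nat.Coprime (p ^ k) (orderOf a') := Nat.Coprime.pow_left k hco.symm
      obtain ⟨j, -, hj⟩ := Nat.exists_mul_mod_eq_one_of_coprime hcop hm
      have hb : e ^ (p ^ k * j) ∈ F.autGroup _ := Subgroup.pow_mem _ hea _
      have hbco : Nat.Coprime (orderOf (e ^ (p ^ k * j))) p := by
        have h1 : (e ^ (p ^ k * j)) ^ r = 1 := by
          rw [← pow_mul, mul_right_comm, ← hkr, pow_mul, pow_orderOf_eq_one, one_pow]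
        have h2 : orderOf (e ^ (p ^ k * j)) ∣ r := orderOf_dvd_of_pow_eq_one h1
        have h3 : Nat.Coprime r p := ((Nat.Prime.coprime_iff_not_dvd Fact.out).2 hr).symm
        exact Nat.Coprime.coprime_dvd_left h2 h3
      have hmem := Helper26.mem_hyperfocal F p hP1 hb hbco x
      have hsemib : a' (⟨θ ⟨x, hP1 x.2⟩, hPP' x⟩ : P') =
          ⟨θ ⟨(e ^ (p ^ k * j)) x, hP1 ((e ^ (p ^ k * j)) x).2⟩, hPP' ((e ^ (p ^ k * j)) x)⟩ := by
        have h1 := Helper26.pow_semiconj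
          (fun x : ↥(FusionSystem.preimageAlong θ P') => (⟨θ ⟨x, hP1 x.2⟩, hPP' x⟩ : P'))
          e a' hsemi (p ^ k * j) x
        rw [← pow_mod_orderOf a' (p ^ k * j), hj, pow_one] at h1
        exact h1
      refine ⟨⟨(x : Ω)⁻¹ * (((e ^ (p ^ k * j)) x : ↥(FusionSystem.preimageAlong θ P')) : Ω),
        S.mul_mem (S.inv_mem (hP1 x.2)) (hP1 ((e ^ (p ^ k * j)) x).2)⟩,
        Subgroup.mem_subgroupOf.2 hmem, ?_⟩
      rw [hsemib]
      show θ ⟨_, _⟩ = (θ ⟨x, _⟩)⁻¹ * θ ⟨_, _⟩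
      rw [← map_inv, ← map_mul]; rfl
  · rw [Subgroup.map_le_iff_le_comap]
    intro s hs
    rw [Subgroup.mem_subgroupOf] at hs
    rw [Subgroup.mem_comap]
    have key : F.hyperfocalSubgroup p ≤
        FusionSystem.preimageAlong θ (E.hyperfocalSubgroup p) := by
      refine Helper26.hyperfocal_le F p _ ?_
      intro P hP a ha hco x
      have hiso := (Helper26.mem_autGroup_iff F hP a).1 ha
      obtain ⟨φ', hφ', hP1, hφS, hPP', hind⟩ := hmor.1.2 P _ hiso
      have hP'S' : FusionSystem.imageAlong θ P ≤ S' := (E.le_of_mem hφ').1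
      have : Finite (FusionSystem.imageAlong θ P) := Helper26.finite_of_le hP'S'
      have hφ'P' : ∀ y, φ' y ∈ FusionSystem.imageAlong θ P := by
        intro y
        obtain ⟨s, hs, hsy⟩ := (Helper26.mem_imageAlong θ P).1 y.2
        have hy : y = ⟨θ ⟨(⟨s, hs⟩ : P), hP1 hs⟩, hPP' ⟨s, hs⟩⟩ := Subtype.ext hsy.symm
        rw [hy, hind]
        exact (Helper26.mem_imageAlong θ P).2 ⟨⟨_, hφS _⟩, (a ⟨s, hs⟩).2, rfl⟩
      obtain ⟨e', he', he'x⟩ := Helper26.exists_iso_of_hom_of_card E hφ' hφ'P' le_rfl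
      have ha' : e' ∈ E.autGroup (FusionSystem.imageAlong θ P) :=
        (Helper26.mem_autGroup_iff E hP'S' e').2 he'
      have hsemi : ∀ x : P, e' (⟨θ ⟨x, hP1 x.2⟩, hPP' x⟩ : ↥(FusionSystem.imageAlong θ P)) =
          ⟨θ ⟨a x, hP1 (a x).2⟩, hPP' (a x)⟩ := fun x =>
        Subtype.ext ((he'x _).trans (hind x))
      have hpow : e' ^ orderOf a = 1 := by
        apply MulEquiv.ext
        intro y
        obtain ⟨s, hs, hsy⟩ := (Helper26.mem_imageAlong θ P).1 y.2
        have hy : y = ⟨θ ⟨(⟨s, hs⟩ : P), hP1 hs⟩, hPP' ⟨s, hs⟩⟩ := Subtype.ext hsy.symm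
        rw [hy]
        have h1 := Helper26.pow_semiconj
          (fun x : P => (⟨θ ⟨x, hP1 x.2⟩, hPP' x⟩ : ↥(FusionSystem.imageAlong θ P)))
          a e' hsemi (orderOf a) ⟨s, hs⟩
        rw [pow_orderOf_eq_one] at h1
        exact h1
      have hdvd : orderOf e' ∣ orderOf a := orderOf_dvd_of_pow_eq_one hpow
      have hco' : Nat.Coprime (orderOf e') p := Nat.Coprime.coprime_dvd_left hdvd hco
      have hmem := Helper26.mem_hyperfocal E p hP'S' ha' hco'
        (⟨θ ⟨x, hP1 x.2⟩, hPP' x⟩ : ↥(FusionSystem.imageAlong θ P))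
      refine (Helper26.mem_preimageAlong θ _).2
        ⟨S.mul_mem (S.inv_mem (hP x.2)) (hP (a x).2), ?_⟩
      rw [hsemi] at hmem
      have e1 : θ ⟨(x : Ω)⁻¹ * ((a x : P) : Ω), S.mul_mem (S.inv_mem (hP x.2)) (hP (a x).2)⟩ =
          (θ ⟨x, hP1 x.2⟩)⁻¹ * θ ⟨a x, hP1 (a x).2⟩ := by
        rw [← map_inv, ← map_mul]; rfl
      rw [e1]; exact hmem
    obtain ⟨h1, h2⟩ := (Helper26.mem_preimageAlong θ _).1 (key hs)
    exact h2

end Cfsg.Agent.S5256
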