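import Mathlib
import Cfsg.Statements.S5185
import Cfsg.Agent.Helper26.GL2P
-- import your own Cfsg.Agent.* helpers here

set_option autoImplicit false
universe u
open Cfsg

namespace Cfsg.Agent.S5185

/-- Let F be a saturated fusion system over a finite p-group S and H an essential subgroup of order p². Then H is elementary abelian (isomorphic to C_p × C_p) and its F-automorphism group contains a subgroup isomorphic to SL(2,p). -/
theorem result {Ω : Type u} [Group Ω] {S : Subgroup Ω} [Finite S] (p : ℕ) [Fact p.Prime] (hS : IsPGroup p S)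
    (F : Cfsg.FusionSystem S) (hF : F.IsSaturated p) (H : Subgroup Ω) (hH : F.IsEssential p H) (hcard : Nat.card H = p ^ 2) :
    Cfsg.IsElementaryAbelian p H ∧
      ∃ K : Subgroup ↥(F.autGroup H), Nonempty (↥K ≃* Matrix.SpecialLinearGroup (Fin 2) (ZMod p)) := by
  classical
  obtain ⟨hcen, hfn, hN, E, hdvd, hEtop, P, hP⟩ := hH
  haveI := hN
  have hpp : p.Prime := Fact.out
  haveI : Finite H := Nat.finite_of_card_ne_zero (by rw [hcard]; exact pow_ne_zero 2 hpp.ne_zero)
  haveI : Finite (MulAut H) :=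
    Finite.of_injective (fun e : MulAut H => (e : H → H)) DFunLike.coe_injective
  have hcomm : ∀ a b : H, a * b = b * a :=
    fun a b => (IsPGroup.isMulCommutative_of_card_eq_prime_sq hcard).is_comm.comm a b
  have hNbot : ∀ x : F.autGroup H, x ∈ (Inn H).subgroupOf (F.autGroup H) → x = 1 := by
    intro x hx
    rw [Subgroup.mem_subgroupOf] at hx
    obtain ⟨h, hh⟩ := hx
    apply Subtype.ext
    rw [← hh]
    apply MulEquiv.ext
    intro y
    rw [MulAut.conj_apply, hcomm h y, mul_inv_cancel_right]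
    rfl
  have hnoQ : ¬ ∃ Q : Subgroup (MulAut H), Q ≤ F.autGroup H ∧ IsPGroup p Q ∧
      (∀ a ∈ F.autGroup H, ∀ q ∈ Q, a * q * a⁻¹ ∈ Q) ∧
      (∀ x ∈ F.autGroup H, (∃ k : ℕ, x ^ (p ^ k) = 1) → x ∈ Q) := by
    rintro ⟨Q, hQle, hQp, hQn, hQall⟩
    apply hEtop
    have hπs : Function.Surjective (QuotientGroup.mk' ((Inn H).subgroupOf (F.autGroup H))) :=
      QuotientGroup.mk'_surjective _
    have hQ₀n : (Q.subgroupOf (F.autGroup H)).Normal := ⟨fun q hq a => by
      rw [Subgroup.mem_subgroupOf] at hq ⊢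
      exact hQn a a.2 q hq⟩
    have hQbn : ((Q.subgroupOf (F.autGroup H)).map
        (QuotientGroup.mk' ((Inn H).subgroupOf (F.autGroup H)))).Normal := hQ₀n.map _ hπs
    have hQbp : IsPGroup p ((Q.subgroupOf (F.autGroup H)).map
        (QuotientGroup.mk' ((Inn H).subgroupOf (F.autGroup H)))) := (hQp.comap_subtype).map _
    have hPle : P.toSubgroup ≤ (Q.subgroupOf (F.autGroup H)).map
        (QuotientGroup.mk' ((Inn H).subgroupOf (F.autGroup H))) := by
      intro y hy
      obtain ⟨x, rfl⟩ := hπs y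
      obtain ⟨k, hk⟩ := P.isPGroup' ⟨_, hy⟩
      have hk' : (QuotientGroup.mk' ((Inn H).subgroupOf (F.autGroup H))) (x ^ (p ^ k)) = 1 := by
        rw [map_pow]
        exact congrArg Subtype.val hk
      have hxN : x ^ (p ^ k) ∈ (Inn H).subgroupOf (F.autGroup H) :=
        (QuotientGroup.eq_one_iff _).mp hk'
      have hx1 : (x : MulAut H) ^ (p ^ k) = 1 := congrArg Subtype.val (hNbot _ hxN)
      exact Subgroup.mem_map_of_mem _ (Subgroup.mem_subgroupOf.mpr (hQall x x.2 ⟨k, hx1⟩))
    have hPeq := P.is_maximal' hQbp hPle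
    have hPn : P.toSubgroup.Normal := by rw [← hPeq]; exact hQbn
    have hPrank : ¬ PRankLE p (1 - 1) ↥P.toSubgroup := by
      intro hr
      obtain ⟨x, hx⟩ := exists_prime_orderOf_dvd_card' (G := ↥P.toSubgroup) p
        (P.dvd_card_of_dvd_card hdvd)
      have hxp : x ^ p = 1 := orderOf_dvd_iff_pow_eq_one.mp (dvd_of_eq hx)
      have h1 := hr (Subgroup.zpowers x) inferInstance (by
        intro a ha
        obtain ⟨n, rfl⟩ := Subgroup.mem_zpowers_iff.mp ha
        rw [← zpow_natCast, ← zpow_mul, mul_comm, zpow_mul, zpow_natCast, hxp, one_zpow])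
      rw [Nat.card_zpowers, hx] at h1
      have h2 : p ^ (1 - 1) = 1 := by norm_num
      rw [h2] at h1
      have := hpp.two_le
      omega
    rw [eq_top_iff]
    have hle : Subgroup.normalizer (P.toSubgroup : Set _) ≤ kGeneratedCore p 1 P.toSubgroup := by
      unfold kGeneratedCore
      exact le_iSup_of_le ⟨P.toSubgroup, le_rfl, hPrank⟩ le_rfl
    refine le_trans ?_ (hle.trans hP)
    intro g _
    rw [Subgroup.mem_normalizer_iff]
    intro h
    exact ⟨fun hh => hPn.conj_mem h hh g, fun hh => by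
      have := hPn.conj_mem _ hh g⁻¹
      simpa [mul_assoc] using this⟩
  have hexp : ∀ h : H, h ^ p = 1 := by
    by_contra hcon
    obtain ⟨h₀, hh₀⟩ := not_forall.mp hcon
    have hord : orderOf h₀ = p ^ 2 := by
      have hdvd' : orderOf h₀ ∣ p ^ 2 := by rw [← hcard]; exact orderOf_dvd_natCard h₀
      obtain ⟨j, hj, hj'⟩ := (Nat.dvd_prime_pow hpp).mp hdvd'
      interval_cases j
      · exfalso; apply hh₀
        have : orderOf h₀ = 1 := by rw [hj']; norm_num
        rw [orderOf_eq_one_iff.mp this, one_pow]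
      · exfalso; apply hh₀
        have : orderOf h₀ = p := by rw [hj', pow_one]
        rw [← this]; exact pow_orderOf_eq_one h₀
      · exact hj'
    haveI : IsCyclic H := isCyclic_of_orderOf_eq_card h₀ (hord.trans hcard.symm)
    have hAc : ∀ σ τ : MulAut H, σ * τ = τ * σ := by
      intro σ τ
      apply (IsCyclic.mulAutMulEquiv H).injective
      rw [map_mul, map_mul, mul_comm]
    apply hnoQ
    refine ⟨{ carrier := {x | x ∈ F.autGroup H ∧ ∃ k : ℕ, x ^ (p ^ k) = 1}
              one_mem' := ⟨Subgroup.one_mem _, 0, one_pow _⟩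
              mul_mem' := ?_
              inv_mem' := ?_ }, ?_, ?_, ?_, ?_⟩
    · rintro x y ⟨hx, k, hk⟩ ⟨hy, l, hl⟩
      refine ⟨Subgroup.mul_mem _ hx hy, k + l, ?_⟩
      rw [(show Commute x y from hAc x y).mul_pow, pow_add, pow_mul, hk, one_pow, mul_comm (p ^ k), pow_mul,
        hl, one_pow, mul_one]
    · rintro x ⟨hx, k, hk⟩
      exact ⟨Subgroup.inv_mem _ hx, k, by rw [inv_pow, hk, inv_one]⟩
    · intro x hx; exact hx.1
    · rintro ⟨x, hx, k, hk⟩
      exact ⟨k, Subtype.ext hk⟩
    · intro a ha q hq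
      rw [hAc a q, mul_inv_cancel_right]; exact hq
    · intro x hx hk; exact ⟨hx, hk⟩
  refine ⟨⟨IsPGroup.isMulCommutative_of_card_eq_prime_sq hcard,
    fun a ha => congrArg Subtype.val (hexp ⟨a, ha⟩)⟩, ?_⟩
  obtain ⟨φ, hφ, hφA⟩ := Cfsg.Agent.Helper26.gl2p_mulAut hcomm hexp hcard (F.autGroup H) hnoQ
  have hφ' : Function.Injective (φ.codRestrict (F.autGroup H) hφA) :=
    fun M N h => hφ (congrArg Subtype.val h)
  exact ⟨(φ.codRestrict (F.autGroup H) hφA).range, ⟨(MonoidHom.ofInjective hφ').symm⟩⟩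

end Cfsg.Agent.S5185
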