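import Mathlib
import Cfsg.Statements.S5186
import Cfsg.Agent.Helper26.AutChain
import Cfsg.Agent.Helper26.OrderP3
-- import your own Cfsg.Agent.* helpers here

set_option autoImplicit false
universe u
open Cfsg

namespace Cfsg.Agent.S5186

/-- Let F be a saturated fusion system over a finite p-group S and H an essential subgroup of order p³. Then H is elementary abelian, or p is odd and H is extraspecial of exponent p, or p = 2 and H is the quaternion group of order 8. -/
theorem result {Ω : Type u} [Group Ω] {S : Subgroup Ω} [Finite S] (p : ℕ) [Fact p.Prime] (hS : IsPGroup p S)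
    (F : Cfsg.FusionSystem S) (hF : F.IsSaturated p) (H : Subgroup Ω) (hH : F.IsEssential p H) (hcard : Nat.card H = p ^ 3) :
    Cfsg.IsElementaryAbelian p H ∨ (Odd p ∧ Cfsg.IsExtraspecial p ↥H ∧ ∀ x ∈ H, x ^ p = 1) ∨
      (p = 2 ∧ Nonempty (↥H ≃* QuaternionGroup 2)) := by
  classical
  have hpp : p.Prime := Fact.out
  haveI : Finite H := Nat.finite_of_card_ne_zero (by rw [hcard]; exact pow_ne_zero 3 hpp.ne_zero)
  rcases Cfsg.Agent.Helper26.order_p3_cases (G := ↥H) hcard with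
    ⟨hab, hexp⟩ | ⟨hp2, hx, hexp⟩ | ⟨hp2, hq⟩ | ⟨L₁, L₂, h₁, h₂, h12, hc₁, hc₂⟩
  · left
    exact ⟨⟨⟨hab⟩⟩, fun a ha => congrArg Subtype.val (hexp ⟨a, ha⟩)⟩
  · right; left
    exact ⟨hpp.odd_of_ne_two hp2, hx, fun a ha => congrArg Subtype.val (hexp ⟨a, ha⟩)⟩
  · right; right
    exact ⟨hp2, hq⟩
  · exact absurd hH
      (Cfsg.Agent.Helper26.not_essential_of_chain p F H hcard L₁ L₂ h₁ h₂ h12 hc₁ hc₂)

end Cfsg.Agent.S5186
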