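import Mathlib
import Cfsg.Statements.S5187
import Cfsg.Agent.Helper26.Homocyclic
-- import your own Cfsg.Agent.* helpers here

set_option autoImplicit false
universe u
open Cfsg

namespace Cfsg.Agent.S5187

/-- Let F be a saturated fusion system over a finite p-group S and H an abelian essential subgroup that can be generated by two elements (its Frattini quotient has order at most p²). Then H is elementary abelian of order p², or p ≤ 3 and H is homocyclic of rank two, that is isomorphic to C_{pᵏ} × C_{pᵏ} for some k. -/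
theorem result {Ω : Type u} [Group Ω] {S : Subgroup Ω} [Finite S] (p : ℕ) [Fact p.Prime] (hS : IsPGroup p S)
    (F : Cfsg.FusionSystem S) (hF : F.IsSaturated p) (H : Subgroup Ω) (hH : F.IsEssential p H) (hab : IsMulCommutative ↥H) (hrk : (frattini ↥H).index ≤ p ^ 2) :
    (Cfsg.IsElementaryAbelian p H ∧ Nat.card H = p ^ 2) ∨
      (p ≤ 3 ∧ ∃ k : ℕ, Nonempty (↥H ≃* Multiplicative (ZMod (p ^ k) × ZMod (p ^ k)))) := by
  classical
  obtain ⟨hcen, hfn, hN, E, hE⟩ := hH
  haveI := hN
  have hpp : p.Prime := Fact.out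
  have hHS : H ≤ S := hcen.1
  haveI : Finite H := Finite.of_injective (Subgroup.inclusion hHS) (Subgroup.inclusion_injective hHS)
  haveI : Finite (MulAut H) :=
    Finite.of_injective (fun e : MulAut H => (e : H → H)) DFunLike.coe_injective
  have hHp : IsPGroup p H := hS.to_le hHS
  have hcomm : ∀ a b : H, a * b = b * a := fun a b => hab.is_comm.comm a b
  have hNbot : ∀ x : F.autGroup H, x ∈ (Inn H).subgroupOf (F.autGroup H) → x = 1 := by
    intro x hx
    rw [Subgroup.mem_subgroupOf] at hx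
    obtain ⟨h, hh⟩ := hx
    apply Subtype.ext
    rw [← hh]
    apply MulEquiv.ext
    intro y
    rw [MulAut.conj_apply, hcomm h y, mul_inv_cancel_right]
    rfl
  have hA1 : ∀ R : Subgroup (MulAut H), R ≤ F.autGroup H → IsPGroup p R →
      (∀ a ∈ F.autGroup H, ∀ q ∈ R, a * q * a⁻¹ ∈ R) → R = ⊥ := by
    intro R hRle hRp hRn
    have hR₀n : (R.subgroupOf (F.autGroup H)).Normal := ⟨fun q hq a => by
      rw [Subgroup.mem_subgroupOf] at hq ⊢
      exact hRn a a.2 q hq⟩
    have hπs : Function.Surjective (QuotientGroup.mk' ((Inn H).subgroupOf (F.autGroup H))) :=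
      QuotientGroup.mk'_surjective _
    have hbot := Cfsg.Agent.Helper26.hc_normal_pSubgroup_trivial E hE
      ((R.subgroupOf (F.autGroup H)).map (QuotientGroup.mk' ((Inn H).subgroupOf (F.autGroup H))))
      (hR₀n.map _ hπs) ((hRp.comap_subtype).map _)
    rw [eq_bot_iff]
    intro r hr
    have h1 : (QuotientGroup.mk' ((Inn H).subgroupOf (F.autGroup H))) ⟨r, hRle hr⟩ ∈
        (R.subgroupOf (F.autGroup H)).map
          (QuotientGroup.mk' ((Inn H).subgroupOf (F.autGroup H))) :=
      Subgroup.mem_map_of_mem _ (Subgroup.mem_subgroupOf.mpr hr)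
    rw [hbot, Subgroup.mem_bot] at h1
    have h2 := hNbot _ ((QuotientGroup.eq_one_iff _).mp h1)
    rw [Subgroup.mem_bot]
    exact congrArg Subtype.val h2
  obtain ⟨x, hxA, hx1, hxp⟩ : ∃ x : MulAut H, x ∈ F.autGroup H ∧ x ≠ 1 ∧ x ^ p = 1 := by
    obtain ⟨hdvd, -, -⟩ := hE
    obtain ⟨y, hy⟩ := exists_prime_orderOf_dvd_card'
      (G := F.autGroup H ⧸ (Inn H).subgroupOf (F.autGroup H)) p hdvd
    obtain ⟨x, rfl⟩ := QuotientGroup.mk_surjective y
    have hyp : ((x ^ p : F.autGroup H) : F.autGroup H ⧸ (Inn H).subgroupOf (F.autGroup H)) = 1 := by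
      rw [QuotientGroup.mk_pow]
      exact orderOf_dvd_iff_pow_eq_one.mp (dvd_of_eq hy)
    have h2 := hNbot _ ((QuotientGroup.eq_one_iff _).mp hyp)
    refine ⟨x, x.2, ?_, congrArg Subtype.val h2⟩
    intro h
    have hx1 : x = 1 := Subtype.ext h
    rw [hx1, QuotientGroup.mk_one, orderOf_one] at hy
    exact hpp.one_lt.ne hy
  have hrk' := Cfsg.Agent.Helper26.hc_card_le_of_frattini hcomm (p := p) (p ^ 2) hrk
  rcases Cfsg.Agent.Helper26.hc_homocyclic hcomm hHp (F.autGroup H) hA1 x hxA hx1 hxp hrk' with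
    ⟨hexp, hcard⟩ | ⟨h3, k, hk⟩
  · left
    exact ⟨⟨hab, fun a ha => congrArg Subtype.val (hexp ⟨a, ha⟩)⟩, hcard⟩
  · right
    exact ⟨h3, k, hk⟩

end Cfsg.Agent.S5187
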