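import Mathlib
import Cfsg.Statements.S5188
import Cfsg.Agent.Helper26.OrderP4b
-- import your own Cfsg.Agent.* helpers here

set_option autoImplicit false
universe u
open Cfsg

namespace Cfsg.Agent.S5188

/-- Let F be a saturated fusion system over a finite p-group S and H an essential subgroup of order p⁴. Then H is isomorphic to one of: C_p⁴ or C_{p²} × C_p × C_p (any p); C_{p²} × C_{p²} with p ∈ {2, 3}; p^{1+2}_+ × C_p with p odd (the direct product of an extraspecial group of order p³ and exponent p with a group of order p); Q₈ × C₂ (p = 2); or the non-abelian group of order p⁴ of exponent p² whose centre is cyclic of order p² (the central product of an extraspecial group of order p³ with a cyclic group of order p²; for p = 2 this is D₈ ∘ C₄). -/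
theorem result {Ω : Type u} [Group Ω] {S : Subgroup Ω} [Finite S] (p : ℕ) [Fact p.Prime] (hS : IsPGroup p S)
    (F : Cfsg.FusionSystem S) (hF : F.IsSaturated p) (H : Subgroup Ω) (hH : F.IsEssential p H) (hcard : Nat.card H = p ^ 4) :
    Cfsg.IsElementaryAbelian p H ∨
      Nonempty (↥H ≃* Multiplicative (ZMod (p ^ 2) × ZMod p × ZMod p)) ∨
      ((p = 2 ∨ p = 3) ∧ Nonempty (↥H ≃* Multiplicative (ZMod (p ^ 2) × ZMod (p ^ 2)))) ∨
      (Odd p ∧ ∃ (E : Type) (_ : Group E) (_ : Finite E), Cfsg.IsExtraspecial p E ∧ Nat.card E = p ^ 3 ∧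
        (∀ x : E, x ^ p = 1) ∧ Nonempty (↥H ≃* E × Multiplicative (ZMod p))) ∨
      (p = 2 ∧ Nonempty (↥H ≃* QuaternionGroup 2 × Multiplicative (ZMod 2))) ∨
      (¬ IsMulCommutative ↥H ∧ (∀ x ∈ H, x ^ (p ^ 2) = 1) ∧ IsCyclic ↥(Subgroup.center ↥H) ∧
        Nat.card (Subgroup.center ↥H) = p ^ 2) := by
  classical
  have hH' := hH
  obtain ⟨hcen, hfn, hN, E, hE⟩ := hH
  haveI := hN
  have hpp : p.Prime := Fact.out
  have hHS : H ≤ S := hcen.1
  haveI : Finite H := Finite.of_injective (Subgroup.inclusion hHS) (Subgroup.inclusion_injective hHS)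
  haveI : Finite (MulAut H) :=
    Finite.of_injective (fun e : MulAut H => (e : H → H)) DFunLike.coe_injective
  have hHp : IsPGroup p H := hS.to_le hHS
  by_cases hcomm : ∀ a b : H, a * b = b * a
  swap
  · rcases Cfsg.Agent.Helper26.p4_nonabelian hcard hcomm with h | h | h | ⟨h1, h2, h3⟩
    · exact absurd hH' (Cfsg.Agent.Helper26.not_essential_of_chain4 p F H hcard h)
    · right; right; right; left; exact h
    · right; right; right; right; left; exact h
    · right; right; right; right; right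
      exact ⟨fun hc => hcomm (fun a b => hc.is_comm.comm a b),
        fun x hx => congrArg Subtype.val (h1 ⟨x, hx⟩), h2, h3⟩
  have hNbot : ∀ x : F.autGroup H, x ∈ (Inn H).subgroupOf (F.autGroup H) → x = 1 := by
    intro x hx
    rw [Subgroup.mem_subgroupOf] at hx
    obtain ⟨h, hh⟩ := hx
    apply Subtype.ext
    rw [← hh]
    apply MulEquiv.ext
    intro y
    rw [MulAut.conj_apply, hcomm h y, mul_inv_cancel_right]
    rfl
  have hA1 : ∀ R : Subgroup (MulAut H), R ≤ F.autGroup H → IsPGroup p R →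
      (∀ a ∈ F.autGroup H, ∀ q ∈ R, a * q * a⁻¹ ∈ R) → R = ⊥ := by
    intro R hRle hRp hRn
    have hR₀n : (R.subgroupOf (F.autGroup H)).Normal := ⟨fun q hq a => by
      rw [Subgroup.mem_subgroupOf] at hq ⊢
      exact hRn a a.2 q hq⟩
    have hπs : Function.Surjective (QuotientGroup.mk' ((Inn H).subgroupOf (F.autGroup H))) :=
      QuotientGroup.mk'_surjective _
    have hbot := Cfsg.Agent.Helper26.hc_normal_pSubgroup_trivial E hE
      ((R.subgroupOf (F.autGroup H)).map (QuotientGroup.mk' ((Inn H).subgroupOf (F.autGroup H))))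
      (hR₀n.map _ hπs) ((hRp.comap_subtype).map _)
    rw [eq_bot_iff]
    intro r hr
    have h1 : (QuotientGroup.mk' ((Inn H).subgroupOf (F.autGroup H))) ⟨r, hRle hr⟩ ∈
        (R.subgroupOf (F.autGroup H)).map
          (QuotientGroup.mk' ((Inn H).subgroupOf (F.autGroup H))) :=
      Subgroup.mem_map_of_mem _ (Subgroup.mem_subgroupOf.mpr hr)
    rw [hbot, Subgroup.mem_bot] at h1
    have h2 := hNbot _ ((QuotientGroup.eq_one_iff _).mp h1)
    rw [Subgroup.mem_bot]
    exact congrArg Subtype.val h2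
  obtain ⟨x, hxA, hx1, hxp⟩ : ∃ x : MulAut H, x ∈ F.autGroup H ∧ x ≠ 1 ∧ x ^ p = 1 := by
    obtain ⟨hdvd, -, -⟩ := hE
    obtain ⟨y, hy⟩ := exists_prime_orderOf_dvd_card'
      (G := F.autGroup H ⧸ (Inn H).subgroupOf (F.autGroup H)) p hdvd
    obtain ⟨x, rfl⟩ := QuotientGroup.mk_surjective y
    have hyp : ((x ^ p : F.autGroup H) : F.autGroup H ⧸ (Inn H).subgroupOf (F.autGroup H)) = 1 := by
      rw [QuotientGroup.mk_pow]
      exact orderOf_dvd_iff_pow_eq_one.mp (dvd_of_eq hy)
    have h2 := hNbot _ ((QuotientGroup.eq_one_iff _).mp hyp)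
    refine ⟨x, x.2, ?_, congrArg Subtype.val h2⟩
    intro h
    have hx1 : x = 1 := Subtype.ext h
    rw [hx1, QuotientGroup.mk_one, orderOf_one] at hy
    exact hpp.one_lt.ne hy
  rcases Cfsg.Agent.Helper26.p4_abelian hcomm hcard (F.autGroup H) hA1 x hxA hx1 hxp with h | h | h
  · left
    exact ⟨⟨⟨hcomm⟩⟩, fun a ha => congrArg Subtype.val (h ⟨a, ha⟩)⟩
  · right; left; exact h
  · right; right; left; exact h

end Cfsg.Agent.S5188
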