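import Mathlib
import Cfsg.Statements.S5191

set_option autoImplicit false
open Cfsg

namespace Cfsg.Agent.S5191

/-- General form: for any normal subgroup `N` of a finite group, a `p`-subgroup of `S N` is conjugate into the
Sylow `p`-subgroup `S` by an element of `N`. -/
theorem conj_into_sylow {G : Type*} [Group G] [Finite G] {p : ℕ} [Fact p.Prime]
    (N : Subgroup G) [N.Normal] (S : Sylow p G) (Q : Subgroup G) (hQ : IsPGroup p Q)
    (hQH : Q ≤ (S : Subgroup G) ⊔ N) :
    ∃ n ∈ N, ∀ x ∈ Q, n * x * n⁻¹ ∈ S := by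
  classical
  set H : Subgroup G := (S : Subgroup G) ⊔ N with hH
  have hSH : (S : Subgroup G) ≤ H := le_sup_left
  have hQ' : IsPGroup p (Q.subgroupOf H) := hQ.comap_subtype
  obtain ⟨R, hR⟩ := hQ'.exists_le_sylow
  obtain ⟨m, hm⟩ := MulAction.exists_smul_eq H R (S.subtype hSH)
  obtain ⟨s, hs, n, hn, hsn⟩ := Subgroup.mem_sup_of_normal_right.mp m.2
  refine ⟨n, hn, fun x hx => ?_⟩
  have hxH : x ∈ H := hQH hx
  have hxR : (⟨x, hxH⟩ : H) ∈ (R : Subgroup H) := hR (Subgroup.mem_subgroupOf.mpr hx)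
  have h1 : m * ⟨x, hxH⟩ * m⁻¹ ∈ ((m • R : Sylow p H) : Subgroup H) := by
    rw [Sylow.coe_subgroup_smul]
    have := Subgroup.smul_mem_pointwise_smul (⟨x, hxH⟩ : H) (MulAut.conj m) (R : Subgroup H) hxR
    simpa [MulAut.smul_def] using this
  rw [hm, Sylow.coe_subtype, Subgroup.mem_subgroupOf] at h1
  have h2 : (m : G) * x * (m : G)⁻¹ ∈ (S : Subgroup G) := by simpa using h1
  rw [← hsn] at h2
  have h3 : n * x * n⁻¹ = s⁻¹ * (s * n * x * (s * n)⁻¹) * s := by group
  rw [h3]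
  exact (S : Subgroup G).mul_mem ((S : Subgroup G).mul_mem ((S : Subgroup G).inv_mem hs) h2) hs

/-- Fusion in a finite group G and in its quotient by O_{p'}(G) agree. Let S be a Sylow p-subgroup of G, N = O_{p'}(G) and P ≤ S. If an element of G/N conjugates the image of P into the image of S, then some element g of G conjugates P into S and induces the same map on P modulo N. (Together with the injectivity of S → G/N this says that g ↦ gN induces an isomorphism of the fusion system of G on S with that of G/N on SN/N.) -/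
theorem result {G : Type*} [Group G] [Finite G] {p : ℕ} [Fact p.Prime]
    [hN : (Cfsg.pPrimeCore p G).Normal] (S : Sylow p G) (P : Subgroup G) (hP : P ≤ (S : Subgroup G))
    (γ : G ⧸ Cfsg.pPrimeCore p G)
    (hγ : ∀ x ∈ P, γ * QuotientGroup.mk x * γ⁻¹ ∈ ((S : Subgroup G).map (QuotientGroup.mk' (Cfsg.pPrimeCore p G)))) :
    ∃ g : G, ∀ x ∈ P, g * x * g⁻¹ ∈ S ∧
      (QuotientGroup.mk (g * x * g⁻¹) : G ⧸ Cfsg.pPrimeCore p G) = γ * QuotientGroup.mk x * γ⁻¹ := by
  classical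
  obtain ⟨h, rfl⟩ := QuotientGroup.mk_surjective γ
  -- the conjugate of `P` by `h`
  set Q : Subgroup G := P.map (MulAut.conj h).toMonoidHom with hQdef
  have hPp : IsPGroup p P := S.isPGroup'.to_le hP
  have hQp : IsPGroup p Q := hPp.map _
  have hQH : Q ≤ (S : Subgroup G) ⊔ Cfsg.pPrimeCore p G := by
    rintro _ ⟨x, hx, rfl⟩
    obtain ⟨s, hs, hsx⟩ := Subgroup.mem_map.mp (hγ x hx)
    have h1 : (QuotientGroup.mk s : G ⧸ Cfsg.pPrimeCore p G) = QuotientGroup.mk (h * x * h⁻¹) := by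
      simpa using hsx
    have hn : s⁻¹ * (h * x * h⁻¹) ∈ Cfsg.pPrimeCore p G := QuotientGroup.eq.mp h1
    have h2 : (MulAut.conj h).toMonoidHom x = s * (s⁻¹ * (h * x * h⁻¹)) := by
      simp [MulAut.conj_apply]
    rw [h2]
    exact Subgroup.mul_mem_sup hs hn
  obtain ⟨n, hn, hnQ⟩ := conj_into_sylow (Cfsg.pPrimeCore p G) S Q hQp hQH
  refine ⟨n * h, fun x hx => ⟨?_, ?_⟩⟩
  · have h1 : (MulAut.conj h).toMonoidHom x ∈ Q := ⟨x, hx, rfl⟩
    have h2 := hnQ _ h1
    have h3 : n * h * x * (n * h)⁻¹ = n * ((MulAut.conj h).toMonoidHom x) * n⁻¹ := by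
      simp [MulAut.conj_apply]; group
    rw [h3]; exact h2
  · have hn1 : (QuotientGroup.mk n : G ⧸ Cfsg.pPrimeCore p G) = 1 := (QuotientGroup.eq_one_iff n).mpr hn
    simp only [QuotientGroup.mk_mul, QuotientGroup.mk_inv, hn1, one_mul]

end Cfsg.Agent.S5191
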