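import Mathlib
import Cfsg.Statements.S5236
import Cfsg.Agent.Helper26.FusOmega
-- import your own Cfsg.Agent.* helpers here

set_option autoImplicit false
open Cfsg

namespace Cfsg.Agent.S5236

open scoped commutatorElement

/-- Let p be an odd prime, F a saturated fusion system over a finite p-group S and P a subgroup of S strongly closed in F. Then P is normal in F if and only if Ω₁(P) (the subgroup generated by the elements of order p of P) has a chain of subgroups 1 = Q₀ ≤ Q₁ ≤ ⋯ ≤ Qₙ = Ω₁(P), each strongly closed in F, with [Qᵢ₊₁, P] ≤ Qᵢ for all i. -/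
theorem result {Ω : Type*} [Group Ω] {S : Subgroup Ω} [Finite S] (p : ℕ) [Fact p.Prime] (hS : IsPGroup p S) (F : Cfsg.FusionSystem S) (hF : F.IsSaturated p) (hp : p ≠ 2) (P : Subgroup Ω) (hP : F.StronglyClosed P) : F.IsNormal P ↔ ∃ (n : ℕ) (Q : Fin (n + 1) → Subgroup Ω), Q 0 = ⊥ ∧ Q (Fin.last n) = Cfsg.omegaOne p P ∧ Monotone Q ∧ (∀ i : Fin (n + 1), F.StronglyClosed (Q i)) ∧ ∀ i : Fin n, ⁅Q i.succ, P⁆ ≤ Q i.castSucc := by
  constructor
  · intro hPn
    have hPS := hPn.1
    have hWP : Cfsg.omegaOne p P ≤ P := (Subgroup.closure_le _).2 (fun x hx => hx.1)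
    have hWsc := Helper26.omegaOne_stronglyClosed F (p := p) hPn
    have hWn := Helper26.stronglyClosed_conj F hWsc
    obtain ⟨m, C, hC0, hCm, hCmono, hCcomm, hCchar⟩ := Helper26.upper_chain hS hPS
    refine ⟨m, fun j => C j ⊓ Cfsg.omegaOne p P, ?_, ?_, ?_, ?_, ?_⟩
    · show C 0 ⊓ Cfsg.omegaOne p P = ⊥
      rw [hC0, bot_inf_eq]
    · show C (Fin.last m) ⊓ Cfsg.omegaOne p P = Cfsg.omegaOne p P
      rw [hCm]; exact inf_eq_right.2 hWP
    · exact fun i j hij => inf_le_inf_right _ (hCmono hij)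
    · intro i
      obtain ⟨U, hU, hCU⟩ := hCchar i
      show F.StronglyClosed (C i ⊓ Cfsg.omegaOne p P)
      rw [hCU]
      exact Helper26.stronglyClosed_inf F (Helper26.stronglyClosed_of_char F hPn U) hWsc
    · intro i
      show ⁅C i.succ ⊓ Cfsg.omegaOne p P, P⁆ ≤ C i.castSucc ⊓ Cfsg.omegaOne p P
      refine le_inf ((Subgroup.commutator_mono inf_le_left le_rfl).trans (hCcomm i)) ?_
      rw [Subgroup.commutator_le]
      intro a ha b hb
      have e : ⁅a, b⁆ = a * (b * a⁻¹ * b⁻¹) := by rw [commutatorElement_def]; group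
      rw [e]
      exact Subgroup.mul_mem _ ha.2 (hWn b (hPS hb) a⁻¹ (Subgroup.inv_mem _ ha.2))
  · rintro ⟨n, Q, hQ0, hQn, hmono, hsc, hcomm⟩
    exact Helper26.normal_of_omega_chain hS F hF hp hP n Q hQ0 hQn hmono hsc hcomm

end Cfsg.Agent.S5236
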