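import Mathlib
import Cfsg.Statements.S5246
import Cfsg.Agent.Helper25.PStableGrp

set_option autoImplicit false
open Cfsg

namespace Cfsg.Agent.S5246

open Cfsg.FusionSystem Cfsg.Agent.Helper25

theorem result {Ω : Type*} [Group Ω] [Finite Ω] {p : ℕ} [Fact p.Prime] (hp : p ≠ 2) (P : Sylow p Ω) : Cfsg.IsNormalizerPStable p Ω ↔ (∀ Q : Subgroup Ω, (Cfsg.groupFusionSystem (P : Subgroup Ω)).IsFullyNormalized Q → ∀ χ : MulAut ↥Q, χ ∈ (Cfsg.groupFusionSystem (P : Subgroup Ω)).autGroup Q → (∀ a : ↥Q, (χ a⁻¹) * a * (χ a⁻¹) * (χ (χ a)) = 1) → χ ∈ ((Cfsg.pCore p ↥((Cfsg.groupFusionSystem (P : Subgroup Ω)).autGroup Q)).map ((Cfsg.groupFusionSystem (P : Subgroup Ω)).autGroup Q).subtype : Subgroup (MulAut ↥Q))) := by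
  constructor
  · intro hn Q hQ χ hχ hq
    have hQP : Q ≤ (P : Subgroup Ω) := hQ.1
    have hA := autGroup_groupFusionSystem (S := (P : Subgroup Ω)) hQP
    rw [pCoreMap_congr hA]
    rw [hA] at hχ
    obtain ⟨g, -, hg⟩ := mem_autInducedBy_iff.1 hχ
    have hgN := mem_normalizer_of_aut hg
    have hqc := qc_of_quad hg hq
    have h1 := hn Q (P.isPGroup'.to_le hQP) g hgN (comm_of_qc hqc)
    exact (mk_mem_pCore_iff Q hgN hg).1 h1
  · intro hst Q hQ g hg hcomm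
    have hqc := qc_of_comm hcomm
    obtain ⟨g₀, hg₀⟩ := exists_conj_le_sylow P hQ
    obtain ⟨g₁, hQP, hcard⟩ := exists_conj_full P (fun A => Subgroup.normalizer (A : Set Ω))
      normalizer_conjBy (fun A => le_rfl) hg₀
    rw [conjBy_conjBy] at hQP hcard
    obtain ⟨c, hc⟩ : ∃ c, c = g₁ * g₀ := ⟨_, rfl⟩
    rw [← hc] at hQP hcard
    have hfn : (Cfsg.groupFusionSystem (P : Subgroup Ω)).IsFullyNormalized (conjBy Q c) := by
      refine ⟨hQP, fun Q' hQ' => ?_⟩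
      obtain ⟨-, hQ'P, k, rfl⟩ := groupFusionSystem_isConj_iff.1 hQ'
      exact (full_iff_card P (fun A => Subgroup.normalizer (A : Set Ω)) normalizer_conjBy
        (fun A => le_rfl) hQP).2 hcard k hQ'P
    have hg' : c * g * c⁻¹ ∈ Subgroup.normalizer (conjBy Q c : Set Ω) := by
      rw [normalizer_conjBy]; exact conj_mem_conjBy hg
    have hqc' := qc_conj hqc c
    have hχ'x : ∀ x : conjBy Q c,
        (((conjBy Q c).normalizerMonoidHom ⟨c * g * c⁻¹, hg'⟩ x : conjBy Q c) : Ω) =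
          (c * g * c⁻¹) * x * (c * g * c⁻¹)⁻¹ := fun x => rfl
    have hχx : ∀ x : Q, ((Q.normalizerMonoidHom ⟨g, hg⟩ x : Q) : Ω) = g * x * g⁻¹ := fun x => rfl
    have hA' := autGroup_groupFusionSystem (S := (P : Subgroup Ω)) hQP
    have hχ'A : (conjBy Q c).normalizerMonoidHom ⟨c * g * c⁻¹, hg'⟩ ∈
        autInducedBy ⊤ (conjBy Q c) :=
      mem_autInducedBy_iff.2 ⟨_, Subgroup.mem_top _, hχ'x⟩
    have h1 := hst (conjBy Q c) hfn _ (by rw [hA']; exact hχ'A) (quad_of_qc hqc' hχ'x)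
    rw [pCoreMap_congr hA'] at h1
    apply (mk_mem_pCore_iff Q hg hχx).2
    obtain ⟨θ, hθ⟩ : ∃ θ : Q ≃* conjBy Q c, ∀ x : Q, ((θ x : conjBy Q c) : Ω) = c * x * c⁻¹ :=
      ⟨Q.equivMapOfInjective _ (MulAut.conj c).injective, fun x => rfl⟩
    have hθs : ∀ y : conjBy Q c, ((θ.symm y : Q) : Ω) = c⁻¹ * y * c := by
      intro y
      have h2 := hθ (θ.symm y)
      rw [θ.apply_symm_apply] at h2
      rw [h2]; group
    refine mem_pCoreMap_of_congr θ (autInducedBy ⊤ Q) (autInducedBy ⊤ (conjBy Q c)) ?_ ?_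
      (mem_autInducedBy_iff.2 ⟨g, Subgroup.mem_top _, hχx⟩) ?_
    · intro a ha
      obtain ⟨x, -, hx⟩ := mem_autInducedBy_iff.1 ha
      refine mem_autInducedBy_iff.2 ⟨c * x * c⁻¹, Subgroup.mem_top _, fun y => ?_⟩
      show ((θ (a (θ.symm y)) : conjBy Q c) : Ω) = _
      rw [hθ, hx, hθs]; group
    · intro b hb
      obtain ⟨x, -, hx⟩ := mem_autInducedBy_iff.1 hb
      refine mem_autInducedBy_iff.2 ⟨c⁻¹ * x * c, Subgroup.mem_top _, fun y => ?_⟩
      show ((θ.symm (b (θ y)) : Q) : Ω) = _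
      rw [hθs, hx, hθ]; group
    · have e : MulAut.congr θ (Q.normalizerMonoidHom ⟨g, hg⟩) =
          (conjBy Q c).normalizerMonoidHom ⟨c * g * c⁻¹, hg'⟩ := by
        ext y
        show ((θ (Q.normalizerMonoidHom ⟨g, hg⟩ (θ.symm y)) : conjBy Q c) : Ω) = _
        rw [hθ, hχx, hθs, hχ'x]; group
      rw [e]; exact h1

end Cfsg.Agent.S5246
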