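import Mathlib
import Cfsg.Statements.S5265
import Cfsg.Agent.Helper26.CI5
-- import your own Cfsg.Agent.* helpers here

set_option autoImplicit false
open Cfsg

namespace Cfsg.Agent.S5265

/-- Let p be a prime, S a nontrivial finite p-group whose centre has index at most p², and F a saturated fusion system over S with no nontrivial normal subgroup and with hyperfocal subgroup equal to S. Then S is extraspecial of order p³; for odd p it has exponent p, and for p = 2 it is dihedral of order 8. -/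
theorem result {Ω : Type*} [Group Ω] {S : Subgroup Ω} [Finite S] (p : ℕ) [Fact p.Prime] (hS : IsPGroup p ↥S) (F : Cfsg.FusionSystem S) (hF : F.IsSaturated p) (hS1 : S ≠ ⊥) (hcore : F.core = ⊥) (hhyp : F.hyperfocalSubgroup p = S) (hZ : (Subgroup.center ↥S).index ≤ p ^ 2) : Cfsg.IsExtraspecial p ↥S ∧ Nat.card S = p ^ 3 ∧ (p ≠ 2 → Monoid.exponent ↥S = p) ∧ (p = 2 → Nonempty (↥S ≃* DihedralGroup 4)) := by
  have hpp : p.Prime := Fact.out
  have hnc : ¬ ∀ a b : S, a * b = b * a := by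
    intro hab
    have hN : F.IsNormal S := by
      apply Helper26.nc_normal hS F hF le_rfl
      · intro s hs q hq
        exact S.mul_mem (S.mul_mem hs hq) (S.inv_mem hs)
      · intro R hfn hfa hrec hcen hrad
        have hRS := hrec.1
        refine ⟨fun s hs => ?_, fun g hg q hq => hRS (g q).2⟩
        apply hcen.2 R (Helper26.isConj_refl F hRS)
        rw [Helper26.mem_centralizerIn_iff]
        exact ⟨hs, fun x hx => congrArg Subtype.val (hab ⟨x, hRS hx⟩ ⟨s, hs⟩)⟩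
    have h1 : S ≤ F.core := le_sSup hN
    rw [hcore] at h1
    exact hS1 (le_bot_iff.mp h1)
  have hidx := Helper26.ci_index hS hnc hZ
  obtain ⟨c, D⟩ := Helper26.ciData_of (p := p) hnc hidx
  have hQ := Helper26.QQ_eq_bot hS D F hF hcore
  have hZp := Helper26.ZS_pow_eq_one hS D F hF hQ
  obtain ⟨a₁, ha₁, a₂, ha₂, ha₁Z, hNN₁, ha₁p, ha₂p, h21⟩ :=
    Helper26.exists_two hS D F hF hcore hZp
  have hK : ∀ z ∈ Helper26.KK F (Helper26.PA S a₁), z = 1 := by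
    by_cases hp2 : p = 2
    · subst hp2
      exact Helper26.two_center hS D F hF hQ hhyp hZp ha₁ ha₁Z hNN₁
    · exact Helper26.odd_center hS D F hF hp2 hQ ha₁ ha₁Z hNN₁
  have hcS : c ∈ S := (Helper26.mem_centralizerIn_iff.mp D.cZ).1
  obtain ⟨_, _, _, _, hN1, _, _, _, _⟩ := Helper26.NN_main hS D F hF ha₁ ha₁Z hNN₁
  have hcen : Subgroup.center S = Subgroup.zpowers (⟨c, hcS⟩ : S) := by
    apply le_antisymm
    · intro w hw
      have hw' := (Helper26.mem_ZS_iff w.2).mpr hw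
      obtain ⟨k, hk⟩ := hN1 (w : Ω) hw'
      have h1 := hK _ hk
      have e : w = ((⟨c, hcS⟩ : S) ^ k)⁻¹ := eq_inv_of_mul_eq_one_left (Subtype.ext h1)
      rw [e]
      exact Subgroup.inv_mem _ (Subgroup.pow_mem _ (Subgroup.mem_zpowers _) k)
    · rw [Subgroup.zpowers_le]
      exact (Helper26.mem_ZS_iff hcS).mp D.cZ
  have hcp : (⟨c, hcS⟩ : S) ^ p = 1 := Subtype.ext D.cp
  have hc1 : (⟨c, hcS⟩ : S) ≠ 1 := fun h => D.c1 (congrArg Subtype.val h)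
  have hcc : ∃ x w : S, (⟨c, hcS⟩ : S) = x * w * x⁻¹ * w⁻¹ := by
    obtain ⟨s, hs, t, ht, hst⟩ := D.ccomm
    exact ⟨⟨s, hs⟩, ⟨t, ht⟩, Subtype.ext hst⟩
  obtain ⟨hES, hcard⟩ := Helper26.ci_extraspecial hS hnc hidx ⟨c, hcS⟩ hcen hcp hc1 hcc
  have hne : (⟨a₂, ha₂⟩ : S) * ⟨a₁, ha₁⟩ ≠ ⟨a₁, ha₁⟩ * ⟨a₂, ha₂⟩ :=
    fun h => h21 (congrArg Subtype.val h)
  refine ⟨hES, hcard, fun hp2 => ?_, fun hp2 => ?_⟩
  · have hall : ∀ g : S, g ^ p = 1 := Helper26.ci_exp_odd hp2 hnc hidx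
      (fun z hz => Subtype.ext (hZp _ ((Helper26.mem_ZS_iff z.2).mpr hz)))
      ⟨a₁, ha₁⟩ ⟨a₂, ha₂⟩ (Subtype.ext ha₁p) (Subtype.ext ha₂p) hne
    have hd := Monoid.exponent_dvd_of_forall_pow_eq_one hall
    rcases (Nat.dvd_prime hpp).mp hd with h | h
    · exfalso
      haveI := Monoid.exp_eq_one_iff.mp h
      exact hc1 (Subsingleton.elim _ _)
    · exact h
  · subst hp2
    have ha₁m : a₁ * a₁ = 1 := by rw [← pow_two]; exact ha₁p
    have ha₂m : a₂ * a₂ = 1 := by rw [← pow_two]; exact ha₂p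
    have ha₁i : a₁⁻¹ = a₁ := inv_eq_of_mul_eq_one_right ha₁m
    have ha₂i : a₂⁻¹ = a₂ := inv_eq_of_mul_eq_one_right ha₂m
    obtain ⟨k₀, hk₀⟩ := D.comm a₂ ha₂ a₁ ha₁
    rw [ha₂i, ha₁i] at hk₀
    have hsq : (a₂ * a₁) ^ 2 = c ^ k₀ := by rw [pow_two, ← mul_assoc]; exact hk₀
    have h4 : (a₂ * a₁) ^ 4 = 1 := by
      rw [show (4 : ℕ) = 2 * 2 from rfl, pow_mul, hsq, ← pow_mul, mul_comm, pow_mul, D.cp,
        one_pow]
    have hc21 : a₂ * a₁ * a₂ * a₁ = c := by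
      rcases Helper26.pow_two_cases D.cp k₀ with e | e
      · exfalso
        rw [e] at hk₀
        apply h21
        have h5 : a₂ * a₁ = (a₂ * a₁)⁻¹ :=
          eq_inv_of_mul_eq_one_left (by rw [← mul_assoc]; exact hk₀)
        rw [h5, mul_inv_rev, ha₁i, ha₂i]
      · rw [hk₀, e]
    have hcard8 : Nat.card S = 8 := by rw [hcard]; norm_num
    have h1mem : (⟨a₁, ha₁⟩ : S) ∈ Subgroup.closure ({⟨a₁, ha₁⟩, ⟨a₂, ha₂⟩} : Set S) :=
      Subgroup.subset_closure (Set.mem_insert _ _)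
    have h2mem : (⟨a₂, ha₂⟩ : S) ∈ Subgroup.closure ({⟨a₁, ha₁⟩, ⟨a₂, ha₂⟩} : Set S) :=
      Subgroup.subset_closure (Set.mem_insert_of_mem _ (Set.mem_singleton _))
    have hcl : (⟨c, hcS⟩ : S) ∈ Subgroup.closure ({⟨a₁, ha₁⟩, ⟨a₂, ha₂⟩} : Set S) := by
      have e : (⟨c, hcS⟩ : S) = ⟨a₂, ha₂⟩ * ⟨a₁, ha₁⟩ * ⟨a₂, ha₂⟩ * ⟨a₁, ha₁⟩ :=
        Subtype.ext hc21.symm
      rw [e]
      exact Subgroup.mul_mem _ (Subgroup.mul_mem _ (Subgroup.mul_mem _ h2mem h1mem) h2mem) h1mem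
    refine Helper26.d8_iso hcard8 ⟨a₁, ha₁⟩ ⟨a₂, ha₂⟩ (Subtype.ext ha₁m) (Subtype.ext ha₂m)
      (Subtype.ext h4) (fun g => ?_)
    obtain ⟨i, j, z', hz', hg⟩ := D.gen a₁ ha₁ a₂ ha₂ h21 g g.2
    obtain ⟨k', hk'⟩ := hN1 z' hz'
    have h1 := hK _ hk'
    have e : (g : Ω) = a₂ ^ i * a₁ ^ j * (c ^ k')⁻¹ := by
      rw [hg, eq_inv_of_mul_eq_one_left h1]
    have e' : g = ⟨a₂, ha₂⟩ ^ i * ⟨a₁, ha₁⟩ ^ j * ((⟨c, hcS⟩ : S) ^ k')⁻¹ := Subtype.ext e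
    rw [e']
    exact Subgroup.mul_mem _ (Subgroup.mul_mem _ (Subgroup.pow_mem _ h2mem i)
      (Subgroup.pow_mem _ h1mem j)) (Subgroup.inv_mem _ (Subgroup.pow_mem _ hcl k'))

end Cfsg.Agent.S5265
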