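import Mathlib
import Cfsg.Statements.S5270
import Cfsg.Agent.Helper26.MaxClass
import Cfsg.Agent.Helper26.FusEss
import Cfsg.Agent.Helper26.FusSat
-- import your own Cfsg.Agent.* helpers here

set_option autoImplicit false
open Cfsg

namespace Cfsg.Agent.S5270

open Cfsg.Agent.Helper26 Cfsg.FusionSystem

theorem map_subtype_conj_mem {Ω : Type*} [Group Ω] (S : Subgroup Ω) (K : Subgroup ↥S) [hK : K.Normal]
    {g v : Ω} (hg : g ∈ S) (hv : v ∈ K.map S.subtype) : g * v * g⁻¹ ∈ K.map S.subtype := by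
  obtain ⟨y, hy, rfl⟩ := hv
  exact ⟨⟨g, hg⟩ * y * ⟨g, hg⟩⁻¹, hK.conj_mem y hy ⟨g, hg⟩, rfl⟩

theorem map_subtype_comm {Ω : Type*} [Group Ω] (S : Subgroup Ω) (K : Subgroup ↥S)
    (h : ∀ a ∈ K, ∀ b ∈ K, a * b = b * a) :
    ∀ a ∈ K.map S.subtype, ∀ b ∈ K.map S.subtype, a * b = b * a := by
  rintro _ ⟨a', ha', rfl⟩ _ ⟨b', hb', rfl⟩
  exact congrArg Subtype.val (h a' ha' b' hb')

theorem centralizer_map_subtype {Ω : Type*} [Group Ω] (S : Subgroup Ω) (K : Subgroup ↥S) :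
    (S ⊓ Subgroup.centralizer ((K.map S.subtype : Subgroup Ω) : Set Ω)).subgroupOf S =
      Subgroup.centralizer (K : Set ↥S) := by
  ext x
  rw [Subgroup.mem_subgroupOf, Subgroup.mem_inf, Subgroup.mem_centralizer_iff,
    Subgroup.mem_centralizer_iff]
  constructor
  · rintro ⟨-, h⟩ y hy
    exact Subtype.ext (h y (Subgroup.mem_map_of_mem S.subtype hy))
  · intro h
    refine ⟨x.2, ?_⟩
    rintro _ ⟨y, hy, rfl⟩
    exact congrArg Subtype.val (h y hy)

theorem mem_map_center_iff {Ω : Type*} [Group Ω] (S : Subgroup Ω) (x : Ω) :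
    x ∈ (Subgroup.center ↥S).map S.subtype ↔ x ∈ S ∧ ∀ s ∈ S, s * x = x * s := by
  constructor
  · rintro ⟨y, hy, rfl⟩
    refine ⟨y.2, fun s hs => ?_⟩
    exact congrArg Subtype.val (Subgroup.mem_center_iff.mp hy ⟨s, hs⟩)
  · rintro ⟨hx, h⟩
    exact ⟨⟨x, hx⟩, Subgroup.mem_center_iff.mpr (fun g => Subtype.ext (h g g.2)), rfl⟩

theorem aux {Ω : Type*} [Group Ω] {S : Subgroup Ω} [Finite S] (p : ℕ) [Fact p.Prime]
    (hS : IsPGroup p ↥S) (n : ℕ) (hn : Nat.card S = p ^ n) (h4 : 4 ≤ n)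
    (hmax : Subgroup.lowerCentralSeries S (n - 2) ≠ ⊥) (F : Cfsg.FusionSystem S)
    (hF : F.IsSaturated p) (Z2 Z1 : Subgroup Ω)
    (hZ2def : Z2 = (Subgroup.upperCentralSeries ↥S 2).map S.subtype)
    (hZ1def : Z1 = (Subgroup.center ↥S).map S.subtype) (φ : ↥Z2 →* Ω) (hφ : φ ∈ F.Hom Z2)
    (hφZ : φ.range = Z2) (hmove : ∃ (z : Ω) (hz : z ∈ Z2), z ∈ Z1 ∧ φ ⟨z, hz⟩ ∉ Z1) :
    F.IsEssential p (S ⊓ Subgroup.centralizer (Z2 : Set Ω)) := by
  classical
  have hpp : p.Prime := Fact.out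
  set E : Subgroup Ω := S ⊓ Subgroup.centralizer (Z2 : Set Ω) with hEdef
  have hmemZ1 : ∀ x : Ω, x ∈ Z1 ↔ x ∈ S ∧ ∀ s ∈ S, s * x = x * s := by
    rw [hZ1def]; exact fun x => mem_map_center_iff S x
  have hmax' : Subgroup.upperCentralSeries ↥S (n - 2) ≠ ⊤ := by
    intro h
    apply hmax
    rw [← Subgroup.top_subtype_lowerCentralSeries,
      Subgroup.lowerCentralSeries_eq_bot_iff_upperCentralSeries_eq_top.mpr h, Subgroup.map_bot]
  obtain ⟨hc1, hc2⟩ := Cfsg.Agent.Helper26.maxclass_centers (G := ↥S) n hn h4 hmax'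
  obtain ⟨hidx, hZ2ab⟩ := Cfsg.Agent.Helper26.maxclass_centralizer_card (G := ↥S) hc1 hc2
  have hZ2S : Z2 ≤ S := by rw [hZ2def]; exact Subgroup.map_subtype_le _
  have hES : E ≤ S := inf_le_left
  haveI : Finite E := finite_of_le hES
  have hZ2ab' : ∀ a ∈ Z2, ∀ b ∈ Z2, a * b = b * a := by
    rw [hZ2def]; exact map_subtype_comm S _ hZ2ab
  have memE : ∀ x : Ω, x ∈ E ↔ x ∈ S ∧ ∀ v ∈ Z2, v * x = x * v := fun x => by
    rw [hEdef, Subgroup.mem_inf, Subgroup.mem_centralizer_iff]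
    exact Iff.rfl
  have hZ2E : Z2 ≤ E := fun x hx => (memE x).mpr ⟨hZ2S hx, fun v hv => hZ2ab' v hv x hx⟩
  have hcardE : Nat.card S = p * Nat.card E := by
    have hsub : E.subgroupOf S =
        Subgroup.centralizer (Subgroup.upperCentralSeries ↥S 2 : Set ↥S) := by
      rw [hEdef, hZ2def]; exact centralizer_map_subtype S _
    rw [hidx, ← hsub]
    congr 1
    exact Nat.card_congr (Subgroup.subgroupOfEquivOfLe hES).toEquiv
  have hZ2n : ∀ g ∈ S, ∀ v ∈ Z2, g * v * g⁻¹ ∈ Z2 := by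
    rw [hZ2def]
    exact fun g hg v hv => map_subtype_conj_mem S (Subgroup.upperCentralSeries ↥S 2) hg hv
  have hEn : ∀ g ∈ S, ∀ x ∈ E, g * x * g⁻¹ ∈ E := by
    intro g hg x hx
    rw [memE] at hx ⊢
    refine ⟨S.mul_mem (S.mul_mem hg hx.1) (S.inv_mem hg), fun v hv => ?_⟩
    calc v * (g * x * g⁻¹) = g * ((g⁻¹ * v * g⁻¹⁻¹) * x) * g⁻¹ := by group
      _ = g * (x * (g⁻¹ * v * g⁻¹⁻¹)) * g⁻¹ := by
        rw [hx.2 _ (hZ2n g⁻¹ (S.inv_mem hg) v hv)]
      _ = g * x * g⁻¹ * v := by group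
  have hfn_of_normal : ∀ Q : Subgroup Ω, Q ≤ S → (∀ g ∈ S, ∀ x ∈ Q, g * x * g⁻¹ ∈ Q) →
      F.IsFullyNormalized Q := by
    intro Q hQS hQn
    refine ⟨hQS, fun R _ => ?_⟩
    have hN : FusionSystem.normalizerIn S Q = S := by
      apply le_antisymm inf_le_left
      intro g hg
      refine mem_normalizerIn_iff.mpr ⟨hg, fun h => ⟨fun hh => hQn g hg h hh, fun hh => ?_⟩⟩
      have := hQn g⁻¹ (S.inv_mem hg) _ hh
      simpa [mul_assoc] using this
    rw [hN]
    exact Subgroup.card_le_of_le inf_le_left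
  have hfnE : F.IsFullyNormalized E := hfn_of_normal E hES hEn
  have hfnZ2 : F.IsFullyNormalized Z2 := hfn_of_normal Z2 hZ2S hZ2n
  obtain ⟨hfcE, hfaE, hrE⟩ := sat_of_fullyNormalized hS F hF hfnE
  obtain ⟨-, -, hrZ2⟩ := sat_of_fullyNormalized hS F hF hfnZ2
  -- centric
  have hCE : FusionSystem.centralizerIn S E ≤ E := by
    intro x hx
    rw [mem_centralizerIn_iff] at hx
    exact (memE x).mpr ⟨hx.1, fun v hv => hx.2 v (hZ2E hv)⟩
  have hcenE : F.IsCentric E := by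
    refine ⟨hES, fun Q hQ => ?_⟩
    obtain ⟨e, he⟩ := (isConj_iff F).mp hQ
    have hQS : Q ≤ S := he.le_right
    haveI : Finite ↥(FusionSystem.centralizerIn S Q ⊓ Q) := finite_of_le (inf_le_right.trans hQS)
    haveI : Finite ↥(FusionSystem.centralizerIn S Q) := finite_of_le inf_le_left
    have hle := hfcE.2 Q hQ
    have hmem : ∀ x : ↥(FusionSystem.centralizerIn S E),
        ((e ⟨x, hCE x.2⟩ : Q) : Ω) ∈ FusionSystem.centralizerIn S Q ⊓ Q := by
      intro x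
      refine ⟨mem_centralizerIn_iff.mpr ⟨hQS (e _).2, fun y hy => ?_⟩, (e _).2⟩
      have hx := (mem_centralizerIn_iff.mp x.2).2
      have hcomm : (e.symm ⟨y, hy⟩) * (⟨x, hCE x.2⟩ : E) = ⟨x, hCE x.2⟩ * (e.symm ⟨y, hy⟩) :=
        Subtype.ext (hx _ (e.symm ⟨y, hy⟩).2)
      have h2 := congrArg e hcomm
      rw [map_mul, map_mul, e.apply_symm_apply] at h2
      exact congrArg Subtype.val h2
    have hinj : Function.Injective (fun x : ↥(FusionSystem.centralizerIn S E) =>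
        (⟨((e ⟨x, hCE x.2⟩ : Q) : Ω), hmem x⟩ : ↥(FusionSystem.centralizerIn S Q ⊓ Q))) := by
      intro a b hab
      have h0 : (⟨((e ⟨a, hCE a.2⟩ : Q) : Ω), hmem a⟩ : ↥(FusionSystem.centralizerIn S Q ⊓ Q)) =
          ⟨((e ⟨b, hCE b.2⟩ : Q) : Ω), hmem b⟩ := hab
      have h1 : ((e ⟨a, hCE a.2⟩ : Q) : Ω) = ((e ⟨b, hCE b.2⟩ : Q) : Ω) :=
        congrArg (fun t : ↥(FusionSystem.centralizerIn S Q ⊓ Q) => (t : Ω)) h0
      have h2 : (⟨(a : Ω), hCE a.2⟩ : E) = ⟨(b : Ω), hCE b.2⟩ := e.injective (Subtype.ext h1)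
      have h3 : (a : Ω) = (b : Ω) := congrArg (fun t : ↥E => (t : Ω)) h2
      exact Subtype.ext h3
    have hcard := Nat.card_le_card_of_injective _ hinj
    have heq : FusionSystem.centralizerIn S Q ⊓ Q = FusionSystem.centralizerIn S Q :=
      Subgroup.eq_of_le_of_card_ge inf_le_left (hle.trans hcard)
    intro x hx
    rw [← heq] at hx
    exact hx.2
  -- the moving element
  obtain ⟨z, hz2, hz1, hφz⟩ := hmove
  have hφmem : ∀ x, x ∈ φ.range ↔ x ∈ Z2 := fun x => by rw [hφZ]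
  have hφzZ2 : φ ⟨z, hz2⟩ ∈ Z2 := (hφmem _).mp ⟨_, rfl⟩
  have hne : E ≠ S := by
    intro h
    apply hφz
    rw [hmemZ1]
    refine ⟨hZ2S hφzZ2, fun s hs => ?_⟩
    have hsE : s ∈ E := by rw [h]; exact hs
    exact (((memE s).mp hsE).2 _ hφzZ2).symm
  -- extension of φ
  obtain ⟨e, he, hee⟩ := exists_iso_of_hom F hφ hφZ
  obtain ⟨χ, hχ, hχe⟩ := receptive_ext F hrZ2 he
  have hEext : E ≤ FusionSystem.extender S Z2 (Z2.subtype.comp e.toMonoidHom) :=
    centralizerIn_le_extender S Z2 _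
  have hψ : χ.comp (Subgroup.inclusion hEext) ∈ F.Hom E := fs_restrict F hEext hχ
  have hψv : ∀ v' : Z2, (χ.comp (Subgroup.inclusion hEext)) ⟨(v' : Ω), hZ2E v'.2⟩ = φ v' := by
    intro v'
    show χ ⟨(v' : Ω), hEext (hZ2E v'.2)⟩ = φ v'
    rw [← hee v']
    exact hχe v' _
  have hψE : ∀ x : E, (χ.comp (Subgroup.inclusion hEext)) x ∈ E := by
    intro x
    rw [memE]
    refine ⟨(F.le_of_mem hψ).2 x, fun v hv => ?_⟩
    obtain ⟨v', rfl⟩ := (hφmem v).mpr hv
    rw [← hψv v', ← map_mul, ← map_mul]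
    congr 1
    exact Subtype.ext (((memE x).mp x.2).2 v' v'.2)
  obtain ⟨ê, hê, hêψ⟩ := exists_iso_of_hom_of_card F hψ hψE le_rfl
  have hêA : ê ∈ F.autGroup E := (mem_autGroup_iff F hES ê).mpr hê
  have hêz : ((ê ⟨z, hZ2E hz2⟩ : E) : Ω) = φ ⟨z, hz2⟩ := by
    rw [hêψ]
    exact hψv ⟨z, hz2⟩
  let H : Subgroup (MulAut E) :=
    { carrier := {α | ∀ x : E, (x : Ω) ∈ Z1 ↔ ((α x : E) : Ω) ∈ Z1}
      one_mem' := fun x => Iff.rfl
      mul_mem' := by
        intro α β hα hβ x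
        rw [MulAut.mul_apply]
        exact (hβ x).trans (hα (β x))
      inv_mem' := by
        intro α hα x
        have := hα (α⁻¹ x)
        rw [MulAut.apply_inv_self] at this
        exact this.symm }
  have hêH : ê ∉ H := by
    intro h
    apply hφz
    have := (h ⟨z, hZ2E hz2⟩).mp hz1
    rw [hêz] at this
    exact this
  have hH : ∀ α ∈ F.autGroup E, ∀ u, u ∉ E →
      u ∈ FusionSystem.extender S E (E.subtype.comp α.toMonoidHom) → α ∈ H := by
    intro α hα u huE hu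
    have hαiso : IsIso F α := (mem_autGroup_iff F hES α).mp hα
    have hXS : FusionSystem.extender S E (E.subtype.comp α.toMonoidHom) ≤ S :=
      (extender_le_normalizerIn S E _).trans inf_le_left
    have hEX : E ≤ FusionSystem.extender S E (E.subtype.comp α.toMonoidHom) := le_extender F hαiso
    have hXeq : S ≤ FusionSystem.extender S E (E.subtype.comp α.toMonoidHom) := by
      haveI := finite_of_le hXS
      have h1 : Nat.card E < Nat.card (FusionSystem.extender S E (E.subtype.comp α.toMonoidHom)) :=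
        card_lt_of_mem_not_mem hXS hEX hu huE
      obtain ⟨t, ht⟩ := Subgroup.card_dvd_of_le hEX
      have h2 := Subgroup.card_dvd_of_le hXS
      rw [ht, hcardE, mul_comm p, Nat.mul_dvd_mul_iff_left Nat.card_pos] at h2
      rcases (Nat.dvd_prime hpp).mp h2 with h3 | h3
      · rw [ht, h3, mul_one] at h1
        exact absurd h1 (lt_irrefl _)
      · have : FusionSystem.extender S E (E.subtype.comp α.toMonoidHom) = S :=
          Subgroup.eq_of_le_of_card_ge hXS (by rw [ht, h3, hcardE, mul_comm])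
        rw [this]
    obtain ⟨χ', hχ', hχ'α⟩ := receptive_ext F hrE hαiso
    have hθ : χ'.comp (Subgroup.inclusion hXeq) ∈ F.Hom S := fs_restrict F hXeq hχ'
    obtain ⟨θ, hθdef⟩ : ∃ θ : S →* Ω, θ = χ'.comp (Subgroup.inclusion hXeq) := ⟨_, rfl⟩
    rw [← hθdef] at hθ
    have hθinj : Function.Injective θ := F.injective_of_mem hθ
    have hθS : ∀ s : S, θ s ∈ S := (F.le_of_mem hθ).2
    have hθsurj : ∀ y ∈ S, ∃ s : S, θ s = y := by
      have hinj' : Function.Injective (fun s : S => (⟨θ s, hθS s⟩ : S)) :=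
        fun a b hab => hθinj (congrArg Subtype.val hab)
      have hsurj' := Finite.injective_iff_surjective.mp hinj'
      intro y hy
      obtain ⟨s, hs⟩ := hsurj' ⟨y, hy⟩
      exact ⟨s, congrArg Subtype.val hs⟩
    have hθα : ∀ x : E, θ ⟨(x : Ω), hES x.2⟩ = ((α x : E) : Ω) := fun x => by
      rw [hθdef]
      exact hχ'α x _
    intro x
    rw [← hθα x, hmemZ1, hmemZ1]
    constructor
    · rintro ⟨hxS, hx⟩
      refine ⟨hθS _, fun s hs => ?_⟩
      obtain ⟨s', rfl⟩ := hθsurj s hs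
      rw [← map_mul, ← map_mul]
      congr 1
      exact Subtype.ext (hx s' s'.2)
    · rintro ⟨-, hx⟩
      refine ⟨hES x.2, fun s hs => ?_⟩
      have := hx (θ ⟨s, hs⟩) (hθS _)
      rw [← map_mul, ← map_mul] at this
      exact congrArg Subtype.val (hθinj this)
  rcases ess_or_le hS F hfnE hfaE hcenE hne H hH with ⟨hle, -⟩ | ⟨hess, -⟩
  · exact absurd (hle hêA) hêH
  · exact hess

/-- Let p ≥ 5 be a prime, S a finite p-group of maximal class of order p^n with n ≥ 4, and F a saturated fusion system over S. If some map of F defined on the second centre Z₂(S) with image Z₂(S) does not carry Z(S) into itself, then the centralizer C_S(Z₂(S)) is an F-essential subgroup. -/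
theorem result {Ω : Type*} [Group Ω] {S : Subgroup Ω} [Finite S] (p : ℕ) [Fact p.Prime] (hS : IsPGroup p ↥S) (n : ℕ) (hn : Nat.card S = p ^ n) (h4 : 4 ≤ n) (hmax : Subgroup.lowerCentralSeries S (n - 2) ≠ ⊥) (F : Cfsg.FusionSystem S) (hF : F.IsSaturated p) (hp : 5 ≤ p) (φ : ↥((Subgroup.upperCentralSeries ↥S 2).map S.subtype) →* Ω) (hφ : φ ∈ F.Hom ((Subgroup.upperCentralSeries ↥S 2).map S.subtype)) (hφZ : φ.range = ((Subgroup.upperCentralSeries ↥S 2).map S.subtype)) (hmove : ∃ (z : Ω) (hz : z ∈ ((Subgroup.upperCentralSeries ↥S 2).map S.subtype)), z ∈ ((Subgroup.center ↥S).map S.subtype) ∧ φ ⟨z, hz⟩ ∉ ((Subgroup.center ↥S).map S.subtype)) : F.IsEssential p (S ⊓ Subgroup.centralizer (((Subgroup.upperCentralSeries ↥S 2).map S.subtype) : Set Ω)) := by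
  exact aux p hS n hn h4 hmax F hF _ _ rfl rfl φ hφ hφZ hmove

end Cfsg.Agent.S5270
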