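import Cfsg.Statements.S5273
import Mathlib
import Cfsg.Agent.Helper25.SmallFus5
import Cfsg.Agent.Helper26.Alperin2

set_option autoImplicit false
open Cfsg

namespace Cfsg.Agent.S5273

/-- Small-exponent abelian subgroups control fusion. Let E and F be saturated fusion systems over the same finite p-group S with E contained in F. Suppose that E and F have the same maps between A and B for all subgroups A, B of S that are elementary abelian when p is odd, respectively abelian of exponent dividing 4 when p = 2. Then E = F (they have the same maps on every subgroup). -/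
theorem result {Ω : Type*} [Group Ω] {S : Subgroup Ω} [Finite S] (p : ℕ) [Fact p.Prime] (hS : IsPGroup p ↥S) (E F : Cfsg.FusionSystem S) (hE : E.IsSaturated p) (hF : F.IsSaturated p) (hEF : E.IsSubsystemOf F) (hodd : p ≠ 2 → ∀ A B : Subgroup Ω, A ≤ S → B ≤ S → Cfsg.IsElementaryAbelian p A → Cfsg.IsElementaryAbelian p B → E.homSet A B = F.homSet A B) (htwo : p = 2 → ∀ A B : Subgroup Ω, A ≤ S → B ≤ S → IsMulCommutative ↥A → IsMulCommutative ↥B → (∀ a ∈ A, a ^ 4 = 1) → (∀ b ∈ B, b ^ 4 = 1) → E.homSet A B = F.homSet A B) : ∀ P : Subgroup Ω, E.Hom P = F.Hom P := by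
  have hctl : Cfsg.Agent.Helper25.SmallCtl p E F := by
    intro A B hA hB hAs hBs
    by_cases hp2 : p = 2
    · have h4 : Cfsg.Agent.Helper25.smallExp p = 4 := by
        unfold Cfsg.Agent.Helper25.smallExp
        rw [if_pos hp2]
      have h := htwo hp2 A B hA hB ⟨⟨fun a b => Subtype.ext (hAs.1 a a.2 b b.2)⟩⟩
        ⟨⟨fun a b => Subtype.ext (hBs.1 a a.2 b b.2)⟩⟩
        (fun a ha => by rw [← h4]; exact hAs.2 a ha) (fun b hb => by rw [← h4]; exact hBs.2 b hb)
      rw [h]
    · have hpp : Cfsg.Agent.Helper25.smallExp p = p := by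
        unfold Cfsg.Agent.Helper25.smallExp
        rw [if_neg hp2]
      have h := hodd hp2 A B hA hB
        ⟨⟨⟨fun a b => Subtype.ext (hAs.1 a a.2 b b.2)⟩⟩, fun a ha => by
          have := hAs.2 a ha
          rwa [hpp] at this⟩
        ⟨⟨⟨fun a b => Subtype.ext (hBs.1 a a.2 b b.2)⟩⟩, fun b hb => by
          have := hBs.2 b hb
          rwa [hpp] at this⟩
      rw [h]
  have hle : F ≤ E := Cfsg.Agent.Helper26.alperin_strong hS F hF E
    (fun Q _ hfa hr _ _ IH => Cfsg.Agent.Helper25.aut_le_of_small hS E F hE hEF hctl hfa hr IH)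
  intro P
  exact Set.Subset.antisymm (hEF P) (hle P)

end Cfsg.Agent.S5273
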