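import Cfsg.Statements.S5280
import Mathlib
import Cfsg.Agent.Helper23.Fc2
import Cfsg.Agent.S5246
import Cfsg.Agent.S5076
import Cfsg.Agent.Helper25.RankOne

set_option autoImplicit false
open Cfsg

namespace Cfsg.Agent.S5280

/-- Let p be a prime greater than 3, G a finite group with Sylow p-subgroup P, and F the fusion system of G on P. Suppose F is p-stable: for every fully normalized subgroup Q and every χ in Aut_F(Q) acting quadratically on Q (χ(a⁻¹)·a·χ(a⁻¹)·χ(χ(a)) = 1 for all a in Q), χ lies in O_p(Aut_F(Q)). Then F is constrained: some subgroup normal in F is F-centric. -/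
theorem result {Ω : Type*} [Group Ω] [Finite Ω] (p : ℕ) [Fact p.Prime] (hp : 3 < p) (P : Sylow p Ω) (hst : (∀ Q : Subgroup Ω, (Cfsg.groupFusionSystem (P : Subgroup Ω)).IsFullyNormalized Q → ∀ χ : MulAut ↥Q, χ ∈ (Cfsg.groupFusionSystem (P : Subgroup Ω)).autGroup Q → (∀ a : ↥Q, (χ a⁻¹) * a * (χ a⁻¹) * (χ (χ a)) = 1) → χ ∈ ((Cfsg.pCore p ↥((Cfsg.groupFusionSystem (P : Subgroup Ω)).autGroup Q)).map ((Cfsg.groupFusionSystem (P : Subgroup Ω)).autGroup Q).subtype : Subgroup (MulAut ↥Q)))) : (Cfsg.groupFusionSystem (P : Subgroup Ω)).IsConstrained p := by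
  have hp2 : p ≠ 2 := by omega
  have hnps : Cfsg.IsNormalizerPStable p Ω := (Cfsg.Agent.S5246.result hp2 P).2 hst
  obtain ⟨Q, hQP, hcent, hctl⟩ := Cfsg.Agent.Helper23.Fc.exists_centric_control hp hnps P
  refine ⟨Cfsg.Agent.S5076.result p P, Q, ?_, ?_⟩
  · -- `Q` is normal in the system
    refine ⟨hQP, fun A φ hφ => ?_⟩
    obtain ⟨hAP, hφP, g, hg⟩ := hφ
    obtain ⟨-, hc⟩ := hctl (A : Set Ω) hAP
    obtain ⟨c, hcN, hce⟩ := hc g (by
      rintro _ ⟨a, ha, rfl⟩
      have h1 := hφP ⟨a, ha⟩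
      rw [hg] at h1
      exact h1)
    have hcQ : ∀ q, q ∈ Q ↔ c * q * c⁻¹ ∈ Q := fun q => Subgroup.mem_normalizer_iff.mp hcN q
    have hsupP : A ⊔ Q ≤ (P : Subgroup Ω) := sup_le hAP hQP
    have hmap : ∀ x ∈ A ⊔ Q, c * x * c⁻¹ ∈ (P : Subgroup Ω) := by
      have h1 : A ⊔ Q ≤ (P : Subgroup Ω).comap (MulAut.conj c).toMonoidHom := by
        apply sup_le
        · intro a ha
          rw [Subgroup.mem_comap]
          show c * a * c⁻¹ ∈ (P : Subgroup Ω)
          rw [← hce a ha]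
          have h2 := hφP ⟨a, ha⟩
          rw [hg] at h2
          exact h2
        · intro q hq
          rw [Subgroup.mem_comap]
          exact hQP ((hcQ q).mp hq)
      intro x hx
      exact h1 hx
    refine ⟨Cfsg.conjHom (A ⊔ Q) c, ⟨hsupP, fun x => hmap x x.2, c, fun x => rfl⟩, ?_, ?_⟩
    · intro x
      show c * (x : Ω) * c⁻¹ = φ x
      rw [hg, hce x x.2]
    · ext y
      constructor
      · rintro ⟨x, hx, rfl⟩
        exact (hcQ _).mp (Subgroup.mem_subgroupOf.mp hx)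
      · intro hy
        have h1 : c⁻¹ * y * c ∈ Q := by
          rw [hcQ]
          have h2 : c * (c⁻¹ * y * c) * c⁻¹ = y := by group
          rw [h2]; exact hy
        refine ⟨⟨c⁻¹ * y * c, (le_sup_right : Q ≤ A ⊔ Q) h1⟩, Subgroup.mem_subgroupOf.mpr h1, ?_⟩
        show c * (c⁻¹ * y * c) * c⁻¹ = y
        group
  · -- `Q` is centric in the system
    refine ⟨hQP, fun Q' hQ' => ?_⟩
    obtain ⟨-, hQ'P, g, rfl⟩ := Cfsg.Agent.Helper25.groupFusionSystem_isConj_iff.mp hQ'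
    have hgQ : ∀ q ∈ Q, g * q * g⁻¹ ∈ (P : Subgroup Ω) := fun q hq =>
      hQ'P (Cfsg.Agent.Helper25.conj_mem_conjBy hq)
    obtain ⟨-, hc⟩ := hctl (Q : Set Ω) hQP
    obtain ⟨c, hcN, hce⟩ := hc g (by
      rintro _ ⟨q, hq, rfl⟩
      exact hgQ q hq)
    have hcQ : ∀ q, q ∈ Q ↔ c * q * c⁻¹ ∈ Q := fun q => Subgroup.mem_normalizer_iff.mp hcN q
    have heq : Cfsg.conjBy Q g = Q := by
      ext x
      rw [Cfsg.Agent.Helper25.mem_conjBy]
      constructor
      · intro hx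
        have h1 := hce _ hx
        have h2 : x = c * (g⁻¹ * x * g) * c⁻¹ := by
          rw [← h1]; group
        rw [h2]; exact (hcQ _).mp hx
      · intro hx
        have h1 : c⁻¹ * x * c ∈ Q := by
          rw [hcQ]
          have h2 : c * (c⁻¹ * x * c) * c⁻¹ = x := by group
          rw [h2]; exact hx
        have h2 := hce _ h1
        have h4 : g * (c⁻¹ * x * c) * g⁻¹ = x := by rw [h2]; group
        have h3 : g⁻¹ * x * g = c⁻¹ * x * c := by
          calc g⁻¹ * x * g = g⁻¹ * (g * (c⁻¹ * x * c) * g⁻¹) * g := by rw [h4]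
            _ = c⁻¹ * x * c := by group
        rw [h3]; exact h1
    rw [heq]
    exact hcent

end Cfsg.Agent.S5280
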