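import Mathlib
import Cfsg.Statements.S5297
import Cfsg.Agent.Helper26.FusOmega
import Cfsg.Agent.Helper26.FusHyp
import Cfsg.Agent.Helper26.SmallInv
-- import your own Cfsg.Agent.* helpers here

set_option autoImplicit false
universe u
open Cfsg

namespace Cfsg.Agent.S5297


open Cfsg.FusionSystem Cfsg.Agent.Helper26

open scoped commutatorElement

theorem pow_map {Ω : Type*} [Group Ω] {R : Subgroup Ω} (β : MulAut R) (x : R) (n : ℕ)
    (h : (x : Ω) ^ n = 1) : ((β x : R) : Ω) ^ n = 1 := by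
  have h1 : x ^ n = 1 := Subtype.ext (by rw [Subgroup.coe_pow]; exact h)
  rw [← Subgroup.coe_pow, ← map_pow, h1, map_one]; rfl

theorem lcs_map {Ω : Type*} [Group Ω] {S A : Subgroup Ω} {ψ : ↥(A ⊔ S) →* Ω}
    (hψS : (S.subgroupOf (A ⊔ S)).map ψ = S) :
    ∀ i : ℕ, ∀ z : ↥(A ⊔ S), (z : Ω) ∈ S.lowerCentralSeries i →
      ψ z ∈ S.lowerCentralSeries i := by
  intro i
  induction i with
  | zero => intro z hz; exact normExt_mem_Q hψS z hz
  | succ i ih =>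
    have hLS : S.lowerCentralSeries i ≤ S := S.lowerCentralSeries_antitone (Nat.zero_le i)
    have hK : S.lowerCentralSeries (i + 1) ≤
        ((S.lowerCentralSeries (i + 1)).comap ψ).map (A ⊔ S).subtype := by
      rw [Subgroup.lowerCentralSeries_succ, Subgroup.commutator_le]
      intro a ha b hb
      refine Subgroup.mem_map.2 ⟨⁅(⟨a, Subgroup.mem_sup_right (hLS ha)⟩ : ↥(A ⊔ S)),
        ⟨b, Subgroup.mem_sup_right hb⟩⁆, ?_, rfl⟩
      refine Subgroup.mem_comap.2 ?_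
      rw [map_commutatorElement]
      exact Subgroup.commutator_mem_commutator (ih _ ha) (normExt_mem_Q hψS _ hb)
    intro z hz
    obtain ⟨y, hy, hyz⟩ := hK hz
    have hyz' : y = z := Subtype.ext hyz
    rw [← hyz']; exact hy

theorem card_zpowers_small {Ω : Type*} [Group Ω] {p : ℕ} [Fact p.Prime] (y : Ω) (hy1 : y ≠ 1)
    (hy : y ^ p = 1 ∨ (p = 2 ∧ y ^ 4 = 1)) :
    Nat.card ↥(Subgroup.zpowers y) = p ∨ Nat.card ↥(Subgroup.zpowers y) = 4 := by
  rw [Nat.card_zpowers]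
  rcases hy with hy | ⟨hp2, hy⟩
  · exact Or.inl (orderOf_eq_prime hy hy1)
  · have hd : orderOf y ∣ 4 := orderOf_dvd_of_pow_eq_one hy
    have h4 : orderOf y ∈ Nat.divisors 4 := Nat.mem_divisors.2 ⟨hd, by norm_num⟩
    have hdiv : Nat.divisors 4 = {1, 2, 4} := by decide
    rw [hdiv] at h4
    simp only [Finset.mem_insert, Finset.mem_singleton] at h4
    rcases h4 with h4 | h4 | h4
    · exact absurd (orderOf_eq_one_iff.1 h4) hy1
    · left; rw [h4, hp2]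
    · right; exact h4

theorem small_lcs {Ω : Type*} [Group Ω] {S : Subgroup Ω} (p : ℕ) [Fact p.Prime]
    (F : FusionSystem S)
    (h : ∀ A B : Subgroup Ω, A ≤ (F.hyperfocalSubgroup p) → B ≤ (F.hyperfocalSubgroup p) →
      IsCyclic ↥A → (Nat.card ↥A = p ∨ Nat.card ↥A = 4) → IsCyclic ↥B →
      (Nat.card ↥B = p ∨ Nat.card ↥B = 4) → F.homSet A B ⊆ F.normalizerHom S A)
    {R : Subgroup Ω} (hRS : R ≤ S) {γ : MulAut R} (hγ : γ ∈ F.autGroup R) (x : R)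
    (hxT : (x : Ω) ∈ F.hyperfocalSubgroup p) (hγxT : ((γ x : R) : Ω) ∈ F.hyperfocalSubgroup p)
    (hsm : (x : Ω) ^ p = 1 ∨ (p = 2 ∧ (x : Ω) ^ 4 = 1)) (i : ℕ)
    (hxL : (x : Ω) ∈ S.lowerCentralSeries i) : ((γ x : R) : Ω) ∈ S.lowerCentralSeries i := by
  by_cases hx1 : x = 1
  · rw [hx1, map_one]; exact Subgroup.one_mem _
  have hx1' : (x : Ω) ≠ 1 := fun h' => hx1 (Subtype.ext h')
  have hγx1' : ((γ x : R) : Ω) ≠ 1 := by
    intro h'
    apply hx1
    have h2 : γ x = γ 1 := by rw [map_one]; exact Subtype.ext h'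
    exact γ.injective h2
  have hsm' : ((γ x : R) : Ω) ^ p = 1 ∨ (p = 2 ∧ ((γ x : R) : Ω) ^ 4 = 1) := by
    rcases hsm with h1 | ⟨h2, h1⟩
    · exact Or.inl (pow_map γ x p h1)
    · exact Or.inr ⟨h2, pow_map γ x 4 h1⟩
  have hAR : Subgroup.zpowers (x : Ω) ≤ R := by rw [Subgroup.zpowers_le]; exact x.2
  have hAT : Subgroup.zpowers (x : Ω) ≤ F.hyperfocalSubgroup p := by
    rw [Subgroup.zpowers_le]; exact hxT
  have hBT : Subgroup.zpowers ((γ x : R) : Ω) ≤ F.hyperfocalSubgroup p := by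
    rw [Subgroup.zpowers_le]; exact hγxT
  have hφ : (R.subtype.comp γ.toMonoidHom).comp (Subgroup.inclusion hAR)
      ∈ F.Hom (Subgroup.zpowers (x : Ω)) :=
    fs_restrict F hAR ((mem_autGroup_iff F hRS γ).1 hγ)
  have hφB : ∀ y : ↥(Subgroup.zpowers (x : Ω)),
      ((R.subtype.comp γ.toMonoidHom).comp (Subgroup.inclusion hAR)) y
        ∈ Subgroup.zpowers ((γ x : R) : Ω) := by
    intro y
    obtain ⟨k, hk⟩ := Subgroup.mem_zpowers_iff.1 y.2
    have hy : Subgroup.inclusion hAR y = x ^ k :=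
      Subtype.ext (by rw [Subgroup.coe_zpow]; exact hk.symm)
    show ((γ (Subgroup.inclusion hAR y) : R) : Ω) ∈ Subgroup.zpowers ((γ x : R) : Ω)
    rw [hy, map_zpow, Subgroup.coe_zpow]
    exact Subgroup.zpow_mem _ (Subgroup.mem_zpowers _) k
  have hmem := h _ _ hAT hBT inferInstance (card_zpowers_small _ hx1' hsm) inferInstance
    (card_zpowers_small _ hγx1' hsm') ⟨hφ, hφB⟩
  obtain ⟨_, _, _, ψ, hψ, hψφ, hψS⟩ := hmem
  have hxA : (x : Ω) ∈ Subgroup.zpowers (x : Ω) := Subgroup.mem_zpowers _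
  have e1 : ((γ x : R) : Ω) = ψ (Subgroup.inclusion le_sup_left ⟨(x : Ω), hxA⟩) := by
    rw [hψφ]; rfl
  rw [e1]
  exact lcs_map hψS i _ hxL

/-- the good subgroups -/
def GoodV {Ω : Type*} [Group Ω] {S : Subgroup Ω} (F : FusionSystem S) (p : ℕ) (R : Subgroup Ω)
    (V : Subgroup R) : Prop :=
  (∀ x ∈ V, (x : Ω) ∈ F.hyperfocalSubgroup p) ∧ (∀ g ∈ F.autGroup R, ∀ x ∈ V, g x ∈ V) ∧
    (∀ x ∈ V, (x : Ω) ^ p = 1 ∨ (p = 2 ∧ (x : Ω) ^ 4 = 1))

theorem good_lcs {Ω : Type*} [Group Ω] {S : Subgroup Ω} (p : ℕ) [Fact p.Prime]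
    (F : FusionSystem S)
    (h : ∀ A B : Subgroup Ω, A ≤ (F.hyperfocalSubgroup p) → B ≤ (F.hyperfocalSubgroup p) →
      IsCyclic ↥A → (Nat.card ↥A = p ∨ Nat.card ↥A = 4) → IsCyclic ↥B →
      (Nat.card ↥B = p ∨ Nat.card ↥B = 4) → F.homSet A B ⊆ F.normalizerHom S A)
    {R : Subgroup Ω} (hRS : R ≤ S) {V : Subgroup R} (hV : GoodV F p R V) {γ : MulAut R}
    (hγ : γ ∈ F.autGroup R) (i : ℕ) {x : R} (hx : x ∈ V)
    (hxL : (x : Ω) ∈ S.lowerCentralSeries i) : ((γ x : R) : Ω) ∈ S.lowerCentralSeries i :=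
  small_lcs p F h hRS hγ x (hV.1 x hx) (hV.1 _ (hV.2.1 γ hγ x hx)) (hV.2.2 x hx) i hxL

theorem coprime_trivial_lcs {Ω : Type*} [Group Ω] {S : Subgroup Ω} [Finite S] (p : ℕ)
    [Fact p.Prime] (hS : IsPGroup p S) (F : FusionSystem S) {R : Subgroup Ω} (hRS : R ≤ S)
    {b : MulAut R} (hb : b ∈ F.autGroup R) (hco : Nat.Coprime (orderOf b) p)
    (hB : ∀ g ∈ F.autGroup R, ∀ V : Subgroup R, GoodV F p R V → ∀ (i : ℕ) (x : R), x ∈ V →
      (x : Ω) ∈ S.lowerCentralSeries i →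
      (x : Ω)⁻¹ * (((g * b * g⁻¹ : MulAut R) x : R) : Ω) ∈ S.lowerCentralSeries (i + 1)) :
    b = 1 := by
  have : Finite R := finite_of_le hRS
  have hRp : IsPGroup p R := isPGroup_of_le hS hRS
  obtain ⟨m, hm⟩ := (Subgroup.isNilpotent_iff_lowerCentralSeries S).mp hS.isNilpotent
  obtain ⟨𝒢, h𝒢⟩ : ∃ 𝒢 : Set (MulAut R), 𝒢 = (F.autGroup R : Set (MulAut R)) := ⟨_, rfl⟩
  obtain ⟨Y, hYdef⟩ : ∃ Y : Set (MulAut R), Y = {c | ∃ g ∈ F.autGroup R, c = g * b * g⁻¹} :=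
    ⟨_, rfl⟩
  have hmemY : ∀ c, c ∈ Y ↔ ∃ g ∈ F.autGroup R, c = g * b * g⁻¹ := by
    intro c; rw [hYdef]; rfl
  have hmem𝒢 : ∀ c, c ∈ 𝒢 ↔ c ∈ F.autGroup R := by
    intro c; rw [h𝒢]; rfl
  have hY𝒢 : Y ⊆ 𝒢 := by
    intro c hc
    obtain ⟨g, hg, rfl⟩ := (hmemY c).1 hc
    exact (hmem𝒢 _).2 (Subgroup.mul_mem _ (Subgroup.mul_mem _ hg hb) (Subgroup.inv_mem _ hg))
  have hYco : ∀ c ∈ Y, Nat.Coprime (orderOf c) p := by
    intro c hc
    obtain ⟨g, hg, rfl⟩ := (hmemY c).1 hc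
    have h1 : (g * b * g⁻¹) ^ orderOf b = 1 := by
      rw [conj_pow, pow_orderOf_eq_one, mul_one, mul_inv_cancel]
    exact Nat.Coprime.coprime_dvd_left (orderOf_dvd_of_pow_eq_one h1) hco
  have hYconj : ∀ g ∈ 𝒢, ∀ c ∈ Y, g * c * g⁻¹ ∈ Y := by
    intro g hg c hc
    obtain ⟨g', hg', rfl⟩ := (hmemY c).1 hc
    exact (hmemY _).2 ⟨g * g', Subgroup.mul_mem _ ((hmem𝒢 g).1 hg) hg', by group⟩
  have hbY : b ∈ Y := (hmemY b).2 ⟨1, Subgroup.one_mem _, by group⟩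
  obtain ⟨e, he, hesm⟩ : ∃ e : ℕ, ((p ≠ 2 ∧ e = p) ∨ (p = 2 ∧ e = 4)) ∧
      ∀ y : Ω, y ^ e = 1 → (y ^ p = 1 ∨ (p = 2 ∧ y ^ 4 = 1)) := by
    by_cases hp2 : p = 2
    · exact ⟨4, Or.inr ⟨hp2, rfl⟩, fun y hy => Or.inr ⟨hp2, hy⟩⟩
    · exact ⟨p, Or.inl ⟨hp2, rfl⟩, fun y hy => Or.inl hy⟩
  obtain ⟨H, hHdef⟩ : ∃ H : Subgroup R,
      H = Subgroup.closure {z | ∃ c ∈ Y, ∃ y : R, z = y⁻¹ * c y} := ⟨_, rfl⟩
  have hHT : ∀ z ∈ H, (z : Ω) ∈ F.hyperfocalSubgroup p := by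
    have hle : H ≤ (F.hyperfocalSubgroup p).subgroupOf R := by
      rw [hHdef]
      refine (Subgroup.closure_le _).2 ?_
      rintro z ⟨c, hc, y, rfl⟩
      exact Subgroup.mem_subgroupOf.2
        (mem_hyperfocal F p hRS ((hmem𝒢 c).1 (hY𝒢 hc)) (hYco c hc) y)
    exact fun z hz => Subgroup.mem_subgroupOf.1 (hle hz)
  have hHinv : ∀ g ∈ 𝒢, ∀ z ∈ H, g z ∈ H := by
    intro g hg
    have hle : H ≤ H.comap g.toMonoidHom := by
      conv_lhs => rw [hHdef]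
      refine (Subgroup.closure_le _).2 ?_
      rintro z ⟨c, hc, y, rfl⟩
      show g (y⁻¹ * c y) ∈ H
      have e1 : g (y⁻¹ * c y) = (g y)⁻¹ * (g * c * g⁻¹) (g y) := by
        rw [map_mul, map_inv, MulAut.mul_apply, MulAut.mul_apply, MulAut.inv_apply_self]
      rw [e1, hHdef]
      exact Subgroup.subset_closure ⟨_, hYconj g hg c hc, g y, rfl⟩
    exact fun z hz => hle hz
  have hsmall : ∀ V : Subgroup R, V ≤ H → (∀ g ∈ 𝒢, ∀ x ∈ V, g x ∈ V) →
      (∀ x ∈ V, x ^ e = 1) → ∀ c ∈ Y, ∀ x ∈ V, c x = x := by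
    intro V hVH hVinv hVe c hc
    have hV : GoodV F p R V :=
      ⟨fun x hx => hHT x (hVH hx), fun g hg => hVinv g ((hmem𝒢 g).2 hg), fun x hx => hesm _ (by
        rw [← Subgroup.coe_pow, hVe x hx]; rfl)⟩
    obtain ⟨g, hg, rfl⟩ := (hmemY c).1 hc
    have hP : ∀ i : ℕ, i ≤ m → ∀ x ∈ V, (x : Ω) ∈ S.lowerCentralSeries (m - i) →
        (g * b * g⁻¹) x = x := by
      intro i
      induction i with
      | zero =>
        intro _ x hx hxL
        rw [Nat.sub_zero, hm, Subgroup.mem_bot] at hxL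
        have hx1 : x = 1 := Subtype.ext hxL
        rw [hx1, map_one]
      | succ i ih' =>
        intro hi x hx hxL
        have hcx : (g * b * g⁻¹) x ∈ V := hVinv _ (hY𝒢 hc) x hx
        have hcV : x⁻¹ * (g * b * g⁻¹) x ∈ V := V.mul_mem (V.inv_mem hx) hcx
        have hcL : ((x⁻¹ * (g * b * g⁻¹) x : R) : Ω) ∈ S.lowerCentralSeries (m - i) := by
          have e1 : m - i = (m - (i + 1)) + 1 := by omega
          rw [e1, Subgroup.coe_mul, Subgroup.coe_inv]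
          exact hB g hg V hV _ x hx hxL
        have hac := ih' (by omega) _ hcV hcL
        exact fix_of_coprime_of_fix hRp (g * b * g⁻¹) (hYco _ hc) x hac
    intro x hx
    exact hP m le_rfl x hx (by rw [Nat.sub_self]; exact hRS x.2)
  have key := aut_fix_of_invariant e he 𝒢 Y hY𝒢 hYco hYconj _ H rfl (hRp.to_subgroup H) hHinv
    hsmall b hbY
  apply MulEquiv.ext
  intro y
  refine fix_of_coprime_of_fix hRp b hco y (key _ ?_)
  rw [hHdef]
  exact Subgroup.subset_closure ⟨b, hbY, y, rfl⟩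

theorem mem_pCore_of_lcs {Ω : Type*} [Group Ω] {S : Subgroup Ω} [Finite S] (p : ℕ)
    [Fact p.Prime] (hS : IsPGroup p S) (F : FusionSystem S)
    (h : ∀ A B : Subgroup Ω, A ≤ (F.hyperfocalSubgroup p) → B ≤ (F.hyperfocalSubgroup p) →
      IsCyclic ↥A → (Nat.card ↥A = p ∨ Nat.card ↥A = 4) → IsCyclic ↥B →
      (Nat.card ↥B = p ∨ Nat.card ↥B = 4) → F.homSet A B ⊆ F.normalizerHom S A)
    {R : Subgroup Ω} (hRS : R ≤ S) {a : MulAut R} (ha : a ∈ F.autGroup R)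
    (hstab : ∀ i : ℕ, ∀ x : R, (x : Ω) ∈ S.lowerCentralSeries i →
      (x : Ω)⁻¹ * ((a x : R) : Ω) ∈ S.lowerCentralSeries (i + 1)) :
    a ∈ (pCore p (F.autGroup R)).map (F.autGroup R).subtype := by
  have : Finite R := finite_of_le hRS
  let B : Subgroup (F.autGroup R) :=
    { carrier := {β | ∀ V : Subgroup R, GoodV F p R V → ∀ (i : ℕ) (x : R), x ∈ V →
        (x : Ω) ∈ S.lowerCentralSeries i →
        (x : Ω)⁻¹ * (((β : MulAut R) x : R) : Ω) ∈ S.lowerCentralSeries (i + 1)}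
      one_mem' := fun V hV i x hx hxL => by
        show (x : Ω)⁻¹ * (x : Ω) ∈ _
        rw [inv_mul_cancel]; exact Subgroup.one_mem _
      mul_mem' := by
        intro α β hα hβ V hV i x hx hxL
        have e : (x : Ω)⁻¹ * (((α : MulAut R) ((β : MulAut R) x) : R) : Ω)
            = ((x : Ω)⁻¹ * (((β : MulAut R) x : R) : Ω))
              * ((((β : MulAut R) x : R) : Ω)⁻¹
                * (((α : MulAut R) ((β : MulAut R) x) : R) : Ω)) := by group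
        show (x : Ω)⁻¹ * (((α : MulAut R) ((β : MulAut R) x) : R) : Ω) ∈ _
        rw [e]
        exact Subgroup.mul_mem _ (hβ V hV i x hx hxL)
          (hα V hV i _ (hV.2.1 _ β.2 x hx) (good_lcs p F h hRS hV β.2 i hx hxL))
      inv_mem' := by
        intro β hβ V hV i x hx hxL
        have hβi : (β : MulAut R)⁻¹ ∈ F.autGroup R := Subgroup.inv_mem _ β.2
        have e : (x : Ω)⁻¹ * ((((β : MulAut R)⁻¹ x : R)) : Ω)
            = (((((β : MulAut R)⁻¹ x : R)) : Ω)⁻¹ * (x : Ω))⁻¹ := by group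
        have h1 := hβ V hV i _ (hV.2.1 _ hβi x hx) (good_lcs p F h hRS hV hβi i hx hxL)
        rw [MulAut.apply_inv_self] at h1
        show (x : Ω)⁻¹ * ((((β : MulAut R)⁻¹ x : R)) : Ω) ∈ _
        rw [e]; exact Subgroup.inv_mem _ h1 }
  have hBn : B.Normal := by
    constructor
    intro α hα γ V hV i x hx hxL
    have hγi : (γ : MulAut R)⁻¹ ∈ F.autGroup R := Subgroup.inv_mem _ γ.2
    have hy : (γ : MulAut R)⁻¹ x ∈ V := hV.2.1 _ hγi x hx
    have hyL := good_lcs p F h hRS hV hγi i hx hxL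
    have h1 := hα V hV i _ hy hyL
    have hz : ((γ : MulAut R)⁻¹ x)⁻¹ * (α : MulAut R) ((γ : MulAut R)⁻¹ x) ∈ V :=
      V.mul_mem (V.inv_mem hy) (hV.2.1 _ α.2 _ hy)
    have h2 := good_lcs p F h hRS hV γ.2 (i + 1) hz (by
      rw [Subgroup.coe_mul, Subgroup.coe_inv]; exact h1)
    have e : (x : Ω)⁻¹ * (((γ : MulAut R) ((α : MulAut R) ((γ : MulAut R)⁻¹ x)) : R) : Ω)
        = ((((γ : MulAut R) (((γ : MulAut R)⁻¹ x)⁻¹
          * (α : MulAut R) ((γ : MulAut R)⁻¹ x))) : R) : Ω) := by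
      rw [map_mul, map_inv, MulAut.apply_inv_self, Subgroup.coe_mul, Subgroup.coe_inv]
    show (x : Ω)⁻¹ * (((γ : MulAut R) ((α : MulAut R) ((γ : MulAut R)⁻¹ x)) : R) : Ω) ∈ _
    rw [e]; exact h2
  have hBp : IsPGroup p B := by
    rintro ⟨α, hαB⟩
    have hpos : orderOf (α : MulAut R) ≠ 0 := (orderOf_pos _).ne'
    obtain ⟨k, m, hm, hkm⟩ :=
      Nat.exists_eq_pow_mul_and_not_dvd hpos p (Fact.out : p.Prime).ne_one
    refine ⟨k, Subtype.ext (Subtype.ext ?_)⟩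
    show (α : MulAut R) ^ p ^ k = 1
    have hβB : α ^ p ^ k ∈ B := B.pow_mem hαB _
    have hord : orderOf ((α : MulAut R) ^ p ^ k) ∣ m := by
      apply orderOf_dvd_of_pow_eq_one
      rw [← pow_mul, ← hkm, pow_orderOf_eq_one]
    have hco : Nat.Coprime (orderOf ((α : MulAut R) ^ p ^ k)) p :=
      Nat.Coprime.coprime_dvd_left hord
        (Nat.Coprime.symm ((Nat.Prime.coprime_iff_not_dvd Fact.out).2 hm))
    refine coprime_trivial_lcs p hS F hRS (b := (α : MulAut R) ^ p ^ k)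
      (Subgroup.pow_mem _ α.2 _) hco ?_
    intro g hg V hV i x hx hxL
    exact hBn.conj_mem _ hβB ⟨g, hg⟩ V hV i x hx hxL
  have hle : B ≤ pCore p (F.autGroup R) := le_pCore' hBn hBp
  exact ⟨⟨a, ha⟩, hle (fun V hV i x hx hxL => hstab i x hxL), rfl⟩

/-- Let F be a saturated fusion system over a finite p-group S. If every map of F between cyclic subgroups of the hyperfocal subgroup of F of order p or 4 is a map of the normalizer system of S (it extends to a map of F defined on all of S), then S is normal in F. -/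
theorem result {Ω : Type u} [Group Ω] {S : Subgroup Ω} [Finite S] (p : ℕ) [Fact p.Prime] (hS : IsPGroup p S)
    (F : Cfsg.FusionSystem S) (hF : F.IsSaturated p)
    (h : ∀ A B : Subgroup Ω, A ≤ (F.hyperfocalSubgroup p) → B ≤ (F.hyperfocalSubgroup p) → IsCyclic ↥A → (Nat.card ↥A = p ∨ Nat.card ↥A = 4) → IsCyclic ↥B → (Nat.card ↥B = p ∨ Nat.card ↥B = 4) →
      F.homSet A B ⊆ F.normalizerHom S A) :
    F.IsNormal S := by
  have hSsc : F.StronglyClosed S := ⟨le_rfl, fun R hR φ hφ x => (F.le_of_mem hφ).2 x⟩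
  apply normal_of_frc hS F hF hSsc
  intro R hRn hRa hRr hRc hRrad
  have hRS := hRc.1
  apply le_of_normalizer_le hS hRS le_rfl
    (fun g hg x hx => S.mul_mem (S.mul_mem hg hx) (S.inv_mem hg))
  intro g hgS hgN
  have hcg : conjAut R g hgN.2 ∈ F.autGroup R :=
    autInducedBy_le_autGroup F hRS (conjAut_mem S R g hgN.1 hgN.2)
  have hcore : conjAut R g hgN.2 ∈ (pCore p (F.autGroup R)).map (F.autGroup R).subtype := by
    apply mem_pCore_of_lcs p hS F h hRS hcg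
    intro i x hxL
    show (x : Ω)⁻¹ * (g * (x : Ω) * g⁻¹) ∈ S.lowerCentralSeries (i + 1)
    have e : (x : Ω)⁻¹ * (g * (x : Ω) * g⁻¹) = ⁅(x : Ω)⁻¹, g⁆ := by
      rw [commutatorElement_def]; group
    rw [e, Subgroup.lowerCentralSeries_succ]
    exact Subgroup.commutator_mem_commutator (Subgroup.inv_mem _ hxL) hgS
  rw [hRrad.2] at hcore
  exact mem_of_conjAut_mem_inn F hRc hgN hcore

end Cfsg.Agent.S5297
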