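import Mathlib
import Cfsg.Statements.S5298
import Cfsg.Agent.S5297
import Cfsg.Agent.Helper15.Fusion
import Cfsg.Agent.Helper26.FusAbelian
import Cfsg.Agent.Helper26.FusNormal2
import Cfsg.Agent.Helper26.Alperin
-- import your own Cfsg.Agent.* helpers here

set_option autoImplicit false
universe u
open Cfsg

namespace Cfsg.Agent.S5298


open Cfsg.FusionSystem Cfsg.Agent.Helper26

theorem small_hom {Ω : Type*} [Group Ω] {S : Subgroup Ω} (p : ℕ) [Fact p.Prime]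
    (F : FusionSystem S) {R : Subgroup Ω} (hRS : R ≤ S) {γ : MulAut R} (hγ : γ ∈ F.autGroup R)
    (x : R) (hx1 : x ≠ 1) (hxT : (x : Ω) ∈ F.hyperfocalSubgroup p)
    (hγxT : ((γ x : R) : Ω) ∈ F.hyperfocalSubgroup p)
    (hsm : (x : Ω) ^ p = 1 ∨ (p = 2 ∧ (x : Ω) ^ 4 = 1)) :
    ∃ φ ∈ F.homSet (Subgroup.zpowers (x : Ω)) (Subgroup.zpowers ((γ x : R) : Ω)),
      Subgroup.zpowers (x : Ω) ≤ F.hyperfocalSubgroup p ∧
      Subgroup.zpowers ((γ x : R) : Ω) ≤ F.hyperfocalSubgroup p ∧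
      (Nat.card ↥(Subgroup.zpowers (x : Ω)) = p ∨ Nat.card ↥(Subgroup.zpowers (x : Ω)) = 4) ∧
      (Nat.card ↥(Subgroup.zpowers ((γ x : R) : Ω)) = p ∨
        Nat.card ↥(Subgroup.zpowers ((γ x : R) : Ω)) = 4) ∧
      φ ⟨(x : Ω), Subgroup.mem_zpowers _⟩ = ((γ x : R) : Ω) := by
  have hx1' : (x : Ω) ≠ 1 := fun h' => hx1 (Subtype.ext h')
  have hγx1' : ((γ x : R) : Ω) ≠ 1 := by
    intro h'
    apply hx1
    have h2 : γ x = γ 1 := by rw [map_one]; exact Subtype.ext h'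
    exact γ.injective h2
  have hsm' : ((γ x : R) : Ω) ^ p = 1 ∨ (p = 2 ∧ ((γ x : R) : Ω) ^ 4 = 1) := by
    rcases hsm with h1 | ⟨h2, h1⟩
    · exact Or.inl (Cfsg.Agent.S5297.pow_map γ x p h1)
    · exact Or.inr ⟨h2, Cfsg.Agent.S5297.pow_map γ x 4 h1⟩
  have hAR : Subgroup.zpowers (x : Ω) ≤ R := by rw [Subgroup.zpowers_le]; exact x.2
  have hAT : Subgroup.zpowers (x : Ω) ≤ F.hyperfocalSubgroup p := by
    rw [Subgroup.zpowers_le]; exact hxT
  have hBT : Subgroup.zpowers ((γ x : R) : Ω) ≤ F.hyperfocalSubgroup p := by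
    rw [Subgroup.zpowers_le]; exact hγxT
  have hφ : (R.subtype.comp γ.toMonoidHom).comp (Subgroup.inclusion hAR)
      ∈ F.Hom (Subgroup.zpowers (x : Ω)) :=
    fs_restrict F hAR ((mem_autGroup_iff F hRS γ).1 hγ)
  have hφB : ∀ y : ↥(Subgroup.zpowers (x : Ω)),
      ((R.subtype.comp γ.toMonoidHom).comp (Subgroup.inclusion hAR)) y
        ∈ Subgroup.zpowers ((γ x : R) : Ω) := by
    intro y
    obtain ⟨k, hk⟩ := Subgroup.mem_zpowers_iff.1 y.2
    have hy : Subgroup.inclusion hAR y = x ^ k :=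
      Subtype.ext (by rw [Subgroup.coe_zpow]; exact hk.symm)
    show ((γ (Subgroup.inclusion hAR y) : R) : Ω) ∈ Subgroup.zpowers ((γ x : R) : Ω)
    rw [hy, map_zpow, Subgroup.coe_zpow]
    exact Subgroup.zpow_mem _ (Subgroup.mem_zpowers _) k
  exact ⟨_, ⟨hφ, hφB⟩, hAT, hBT, Cfsg.Agent.S5297.card_zpowers_small _ hx1' hsm,
    Cfsg.Agent.S5297.card_zpowers_small _ hγx1' hsm', rfl⟩

/-- Let F be a saturated fusion system over a finite p-group S. If every map of F between cyclic subgroups of the hyperfocal subgroup of F of order p or 4 is conjugation by an element of S, then F is the inner fusion system of S. -/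
theorem result {Ω : Type u} [Group Ω] {S : Subgroup Ω} [Finite S] (p : ℕ) [Fact p.Prime] (hS : IsPGroup p S)
    (F : Cfsg.FusionSystem S) (hF : F.IsSaturated p)
    (h : ∀ A B : Subgroup Ω, A ≤ (F.hyperfocalSubgroup p) → B ≤ (F.hyperfocalSubgroup p) → IsCyclic ↥A → (Nat.card ↥A = p ∨ Nat.card ↥A = 4) → IsCyclic ↥B → (Nat.card ↥B = p ∨ Nat.card ↥B = 4) →
      F.homSet A B ⊆ (Cfsg.innerFusionSystem S).Hom A) :
    ∀ P : Subgroup Ω, F.Hom P = (Cfsg.innerFusionSystem S).Hom P := by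
  have hH : ∀ A B : Subgroup Ω, A ≤ (F.hyperfocalSubgroup p) → B ≤ (F.hyperfocalSubgroup p) →
      IsCyclic ↥A → (Nat.card ↥A = p ∨ Nat.card ↥A = 4) → IsCyclic ↥B →
      (Nat.card ↥B = p ∨ Nat.card ↥B = 4) → F.homSet A B ⊆ F.normalizerHom S A := by
    intro A B hA hB hAc hAn hBc hBn φ hφ
    obtain ⟨hAS, g, hg, hφg⟩ := h A B hA hB hAc hAn hBc hBn hφ
    have hSN : ∀ s ∈ S, s ∈ normalizerIn S S := fun s hs => le_normalizerIn le_rfl hs
    refine ⟨hφ.1, fun x hx => hSN x (hAS hx), fun x => hSN _ ((F.le_of_mem hφ.1).2 x),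
      conjHom (A ⊔ S) g, F.conj_mem (sup_le hAS le_rfl) hg, fun x => ?_, ?_⟩
    · rw [hφg]; rfl
    · ext y
      constructor
      · rintro ⟨z, hz, rfl⟩
        exact S.mul_mem (S.mul_mem hg (Subgroup.mem_subgroupOf.1 hz)) (S.inv_mem hg)
      · intro hy
        have hz : g⁻¹ * y * g ∈ S := S.mul_mem (S.mul_mem (S.inv_mem hg) hy) hg
        refine ⟨⟨g⁻¹ * y * g, Subgroup.mem_sup_right hz⟩, Subgroup.mem_subgroupOf.2 hz, ?_⟩
        show g * (g⁻¹ * y * g) * g⁻¹ = y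
        group
  have hN : F.IsNormal S := Cfsg.Agent.S5297.result p hS F hF hH
  have htriv : ∀ η ∈ F.autGroup S, Nat.Coprime (orderOf η) p → η = 1 := by
    intro η hη hco
    have hinv : ∀ x ∈ (F.hyperfocalSubgroup p).subgroupOf S,
        η x ∈ (F.hyperfocalSubgroup p).subgroupOf S := by
      intro x hx
      rw [Subgroup.mem_subgroupOf] at hx ⊢
      have e : ((η x : S) : Ω) = (x : Ω) * ((x : Ω)⁻¹ * ((η x : S) : Ω)) := by group
      rw [e]
      exact Subgroup.mul_mem _ hx (mem_hyperfocal F p le_rfl hη hco x)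
    have hfus : ∀ (e : ℕ), ((p ≠ 2 ∧ e = p) ∨ (p = 2 ∧ e = 4)) →
        ∀ x ∈ (F.hyperfocalSubgroup p).subgroupOf S, x ^ e = 1 →
        ∃ u ∈ (⊤ : Subgroup S), η x = u * x * u⁻¹ := by
      intro e he x hx hxe
      by_cases hx1 : x = 1
      · exact ⟨1, Subgroup.mem_top _, by rw [hx1, map_one]; group⟩
      have hxe' : (x : Ω) ^ e = 1 := by rw [← Subgroup.coe_pow, hxe]; rfl
      have hsm : (x : Ω) ^ p = 1 ∨ (p = 2 ∧ (x : Ω) ^ 4 = 1) := by
        rcases he with ⟨_, rfl⟩ | ⟨hp2, rfl⟩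
        · exact Or.inl hxe'
        · exact Or.inr ⟨hp2, hxe'⟩
      obtain ⟨φ, hφ, hAT, hBT, hcA, hcB, hφx⟩ := small_hom p F le_rfl hη x hx1
        (Subgroup.mem_subgroupOf.1 hx) (Subgroup.mem_subgroupOf.1 (hinv x hx)) hsm
      obtain ⟨_, g, hg, hφg⟩ := h _ _ hAT hBT inferInstance hcA inferInstance hcB hφ
      refine ⟨⟨g, hg⟩, Subgroup.mem_top _, Subtype.ext ?_⟩
      rw [← hφx, hφg]
      rfl
    have hT : ∀ x ∈ (F.hyperfocalSubgroup p).subgroupOf S, η x = x := by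
      by_cases hp2 : p = 2
      · exact Cfsg.Agent.Helper15.aut_fix_of_fusion 4 2 (by rw [hp2]; norm_num)
          (Or.inr ⟨hp2, rfl⟩) η (orderOf η) (pow_orderOf_eq_one η) hco ⊤ (hS.to_subgroup ⊤)
          _ _ rfl le_top hinv (hfus 4 (Or.inr ⟨hp2, rfl⟩))
      · exact Cfsg.Agent.Helper15.aut_fix_of_fusion p 1 (pow_one p).symm
          (Or.inl ⟨hp2, rfl⟩) η (orderOf η) (pow_orderOf_eq_one η) hco ⊤ (hS.to_subgroup ⊤)
          _ _ rfl le_top hinv (hfus p (Or.inl ⟨hp2, rfl⟩))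
    apply MulEquiv.ext
    intro y
    exact fix_of_coprime_of_fix hS η hco y
      (hT _ (Subgroup.mem_subgroupOf.2 (mem_hyperfocal F p le_rfl hη hco y)))
  have hAp : IsPGroup p (F.autGroup S) := by
    rintro ⟨α, hα⟩
    have hpos : orderOf (α : MulAut S) ≠ 0 := (orderOf_pos _).ne'
    obtain ⟨k, m, hm, hkm⟩ :=
      Nat.exists_eq_pow_mul_and_not_dvd hpos p (Fact.out : p.Prime).ne_one
    refine ⟨k, Subtype.ext ?_⟩
    show (α : MulAut S) ^ p ^ k = 1
    have hord : orderOf ((α : MulAut S) ^ p ^ k) ∣ m := by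
      apply orderOf_dvd_of_pow_eq_one
      rw [← pow_mul, ← hkm, pow_orderOf_eq_one]
    have hco : Nat.Coprime (orderOf ((α : MulAut S) ^ p ^ k)) p :=
      Nat.Coprime.coprime_dvd_left hord
        (Nat.Coprime.symm ((Nat.Prime.coprime_iff_not_dvd Fact.out).2 hm))
    exact htriv _ (Subgroup.pow_mem _ hα _) hco
  have hAutS : F.autGroup S ≤ autInducedBy S S := by
    obtain ⟨_, R, hR⟩ := (sat_of_fullyNormalized hS F hF (fullyNormalized_self F)).2.1
    have hRtop : (⊤ : Subgroup (F.autGroup S)) = R := R.is_maximal' (hAp.to_subgroup ⊤) le_top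
    intro α hα
    have h1 : (⟨α, hα⟩ : F.autGroup S) ∈ (R : Subgroup (F.autGroup S)) := by
      rw [← hRtop]; exact Subgroup.mem_top _
    rw [hR] at h1
    exact Subgroup.mem_subgroupOf.1 h1
  have hle : F ≤ innerFusionSystem S := by
    apply alperin hS F hF
    intro Q hQn hQa hQr hQc hQrad
    have hQ : Q = S := le_antisymm hQc.1 (normal_le_centric_radical hS F hN hQc hQrad)
    refine le_trans ?_ (autInducedBy_le_autGroup (innerFusionSystem S) hQc.1)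
    rw [hQ]
    exact hAutS
  intro P
  apply Set.Subset.antisymm (hle P)
  rintro φ ⟨hP, g, hg, hφg⟩
  exact fs_conj F hP hg hφg

end Cfsg.Agent.S5298
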