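import Mathlib
import Cfsg.Statements.S5299
import Cfsg.Agent.Helper26.Involves

set_option autoImplicit false
universe u
open Cfsg

namespace Cfsg.Agent.S5299

/-- Let F be a saturated fusion system over a finite p-group S, H a finite group and Q a p-subgroup of H. If Q is not involved in S (no section of S is isomorphic to Q), then F is H-free: H is involved in no model of the normalizer system of a fully normalized centric subgroup. -/
theorem result {Ω : Type u} [Group Ω] {S : Subgroup Ω} [Finite S] (p : ℕ) [Fact p.Prime] (hS : IsPGroup p S)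
    (F : Cfsg.FusionSystem S) (hF : F.IsSaturated p) (H : Type*) [Group H] [Finite H] (Q : Subgroup H) (hQ : IsPGroup p Q)
    (hfree : ¬ Cfsg.Involves (↥Q) (↥S)) : F.IsSectionFree p H := by
  intro Q0 _ _ N _ L _ ι hmodel hinv
  apply hfree
  obtain ⟨hfin, ⟨hinj, -⟩, ⟨T, hT⟩, -⟩ := hmodel
  haveI : Finite L := hfin
  have h1 : Cfsg.Involves (↥Q) (↥(T : Subgroup L)) :=
    Cfsg.Agent.Helper26.involves_sylow_of_involves hinv Q hQ T
  obtain ⟨K, f, hf⟩ := Cfsg.Agent.Helper26.exists_surj_of_involves h1
  have hle : Cfsg.FusionSystem.normalizerIn S Q0 ≤ S := inf_le_left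
  refine Cfsg.Agent.Helper26.involves_of_span
    ((Subgroup.inclusion hle).comp ((MonoidHom.ofInjective hinj).symm.toMonoidHom.comp
      ((MulEquiv.subgroupCongr hT).toMonoidHom.comp K.subtype))) ?_ f hf
  exact (Subgroup.inclusion_injective hle).comp
    ((MonoidHom.ofInjective hinj).symm.injective.comp
      ((MulEquiv.subgroupCongr hT).injective.comp (Subgroup.subtype_injective K)))

end Cfsg.Agent.S5299
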