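import Mathlib
import Cfsg.Statements.S5300
import Cfsg.Agent.Helper26.FusOmega
import Cfsg.Agent.Helper15.Fusion
-- import your own Cfsg.Agent.* helpers here

set_option autoImplicit false
universe u
open Cfsg

namespace Cfsg.Agent.S5300


open Cfsg.FusionSystem Cfsg.Agent.Helper26

theorem conj_fix_of_prime {Ω : Type*} [Group Ω] {p : ℕ} [Fact p.Prime] {g x : Ω} {n : ℕ}
    (hg : g ^ p ^ n = 1) (hx : x ^ p = 1) (h : g * x * g⁻¹ ∈ Subgroup.zpowers x) :
    g * x * g⁻¹ = x := by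
  obtain ⟨k, hk⟩ := Subgroup.mem_zpowers_iff.1 h
  have hiter : ∀ m : ℕ, g ^ m * x * (g ^ m)⁻¹ = x ^ (k ^ m) := by
    intro m
    induction m with
    | zero => simp
    | succ m ih =>
      have e : g ^ (m + 1) * x * (g ^ (m + 1))⁻¹ = g * (g ^ m * x * (g ^ m)⁻¹) * g⁻¹ := by
        rw [pow_succ']; group
      rw [e, ih, ← conj_zpow, ← hk, ← zpow_mul, pow_succ']
  by_cases hx1 : x = 1
  · rw [hx1]; group
  have hord : orderOf x = p := orderOf_eq_prime hx hx1
  have h1 := hiter (p ^ n)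
  rw [hg, one_mul, inv_one, mul_one] at h1
  have h2 : x ^ (k ^ p ^ n - 1) = 1 := by
    rw [zpow_sub, ← h1, zpow_one, mul_inv_cancel]
  have h3 : ((p : ℕ) : ℤ) ∣ k ^ p ^ n - 1 := by
    have h3' : ((orderOf x : ℕ) : ℤ) ∣ k ^ p ^ n - 1 := orderOf_dvd_iff_zpow_eq_one.2 h2
    rw [hord] at h3'; exact h3'
  have h4 : (((k ^ p ^ n - 1 : ℤ)) : ZMod p) = 0 := (ZMod.intCast_zmod_eq_zero_iff_dvd _ p).2 h3
  have h5 : (((k - 1 : ℤ)) : ZMod p) = 0 := by
    push_cast at h4 ⊢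
    rw [ZMod.pow_card_pow] at h4
    exact h4
  have h6 : ((p : ℕ) : ℤ) ∣ k - 1 := (ZMod.intCast_zmod_eq_zero_iff_dvd _ p).1 h5
  have h7 : x ^ (k - 1) = 1 := by
    apply orderOf_dvd_iff_zpow_eq_one.1
    rw [hord]; exact h6
  rw [← hk]
  have h8 : x ^ k = x ^ (k - 1) * x := by rw [← zpow_add_one, sub_add_cancel]
  rw [h8, h7, one_mul]

theorem conj_inv_of_four {Ω : Type*} [Group Ω] {g x : Ω} (hx : x ^ 4 = 1)
    (h : g * x * g⁻¹ ∈ Subgroup.zpowers x) : g * x * g⁻¹ = x ∨ g * x * g⁻¹ = x⁻¹ := by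
  obtain ⟨k, hk⟩ := Subgroup.mem_zpowers_iff.1 h
  have hx4 : x ^ (4 : ℤ) = 1 := by exact_mod_cast hx
  have hk' : x ^ (k % 4) = g * x * g⁻¹ := by rw [← hk]; exact (zpow_eq_zpow_emod k hx4).symm
  have hback : ∀ y : Ω, g * x * g⁻¹ = g * y * g⁻¹ → x = y := by
    intro y hy
    have e1 : g⁻¹ * (g * x * g⁻¹) * g = x := by group
    have e2 : g⁻¹ * (g * y * g⁻¹) * g = y := by group
    rw [← e1, hy, e2]
  have hcases : k % 4 = 0 ∨ k % 4 = 1 ∨ k % 4 = 2 ∨ k % 4 = 3 := by omega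
  rcases hcases with h0 | h1 | h2 | h3
  · rw [h0, zpow_zero] at hk'
    have hx1 : x = 1 := by
      apply hback
      rw [← hk']; group
    left; rw [hx1]; group
  · left; rw [← hk', h1, zpow_one]
  · rw [h2] at hk'
    have hsq : (g * x * g⁻¹) ^ 2 = 1 := by
      rw [← hk', ← zpow_natCast, ← zpow_mul]; exact hx4
    have hx2 : x ^ 2 = 1 := by
      rw [conj_pow] at hsq
      have e1 : g⁻¹ * (g * x ^ 2 * g⁻¹) * g = x ^ 2 := by group
      rw [← e1, hsq]; group
    have hc : g * x * g⁻¹ = 1 := by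
      rw [← hk']; exact_mod_cast hx2
    have hx1 : x = 1 := by
      apply hback
      rw [hc]; group
    left; rw [hx1]; group
  · right
    rw [← hk', h3]
    apply eq_inv_of_mul_eq_one_left
    have e : x ^ (3 : ℤ) * x = x ^ (4 : ℤ) := by
      rw [show (4 : ℤ) = 3 + 1 from rfl, zpow_add_one]
    rw [e, hx4]

theorem pow_map {Ω : Type*} [Group Ω] {R : Subgroup Ω} (β : MulAut R) (x : R) (n : ℕ)
    (h : (x : Ω) ^ n = 1) : ((β x : R) : Ω) ^ n = 1 := by
  have h1 : x ^ n = 1 := Subtype.ext (by rw [Subgroup.coe_pow]; exact h)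
  rw [← Subgroup.coe_pow, ← map_pow, h1, map_one]; rfl

theorem focal_mem {Ω : Type*} [Group Ω] {S : Subgroup Ω} (F : FusionSystem S) {R : Subgroup Ω}
    (hRS : R ≤ S) {β : MulAut R} (hβ : β ∈ F.autGroup R) (y : R) :
    (y : Ω)⁻¹ * ((β y : R) : Ω) ∈ F.focalSubgroup := by
  apply Subgroup.subset_closure
  exact ⟨R, R.subtype.comp β.toMonoidHom, y, (mem_autGroup_iff F hRS β).1 hβ, rfl⟩

theorem focal_inv {Ω : Type*} [Group Ω] {S : Subgroup Ω} (F : FusionSystem S) {R : Subgroup Ω}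
    (hRS : R ≤ S) {β : MulAut R} (hβ : β ∈ F.autGroup R) (y : R)
    (hy : (y : Ω) ∈ F.focalSubgroup) : ((β y : R) : Ω) ∈ F.focalSubgroup := by
  have e : ((β y : R) : Ω) = (y : Ω) * ((y : Ω)⁻¹ * ((β y : R) : Ω)) := by group
  rw [e]
  exact Subgroup.mul_mem _ hy (focal_mem F hRS hβ y)

/-- smallness predicate -/
def Sm (p : ℕ) {Ω : Type*} [Group Ω] (x : Ω) : Prop := x ^ p = 1 ∨ (p = 2 ∧ x ^ 4 = 1)

theorem sm_map {p : ℕ} {Ω : Type*} [Group Ω] {R : Subgroup Ω} (β : MulAut R) (x : R)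
    (h : Sm p (x : Ω)) : Sm p ((β x : R) : Ω) := by
  rcases h with h | ⟨h2, h⟩
  · exact Or.inl (pow_map β x p h)
  · exact Or.inr ⟨h2, pow_map β x 4 h⟩

theorem coprime_trivial {Ω : Type*} [Group Ω] {S : Subgroup Ω} [Finite S] {p : ℕ} [Fact p.Prime]
    (hS : IsPGroup p S) (F : FusionSystem S) {R : Subgroup Ω} (hRS : R ≤ S) {b : MulAut R}
    (hb : b ∈ F.autGroup R) (hco : Nat.Coprime (orderOf b) p)
    (hB : ∀ x : R, (x : Ω) ∈ F.focalSubgroup → Sm p (x : Ω) → b x = x ∨ (p = 2 ∧ b x = x⁻¹)) :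
    b = 1 := by
  have : Finite R := finite_of_le hRS
  have hRp : IsPGroup p R := isPGroup_of_le hS hRS
  have hfix : ∀ x : R, (x : Ω) ∈ F.focalSubgroup → Sm p (x : Ω) → b x = x := by
    intro x hxT hsm
    rcases hB x hxT hsm with h | ⟨h2, h⟩
    · exact h
    · have hsq : (b ^ 2) x = x := by
        rw [pow_two, MulAut.mul_apply, h, map_inv, h, inv_inv]
      have hpow : ∀ i : ℕ, ((b ^ 2) ^ i) x = x := by
        intro i
        induction i with
        | zero => rw [pow_zero]; rfl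
        | succ i ih => rw [pow_succ, MulAut.mul_apply, hsq, ih]
      have hodd : Odd (orderOf b) := by
        rw [h2] at hco
        exact Nat.Coprime.odd_of_right hco
      obtain ⟨j, hj⟩ := hodd
      have hbj : (b ^ 2) ^ (j + 1) = b := by
        rw [← pow_mul, show 2 * (j + 1) = orderOf b + 1 by omega, pow_succ, pow_orderOf_eq_one,
          one_mul]
      have h3 := hpow (j + 1)
      rw [hbj] at h3
      exact h3
  have hT : ∀ h ∈ F.focalSubgroup.subgroupOf R, b h = h := by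
    have hinv : ∀ h ∈ F.focalSubgroup.subgroupOf R, b h ∈ F.focalSubgroup.subgroupOf R := by
      intro h hh
      exact Subgroup.mem_subgroupOf.2 (focal_inv F hRS hb h (Subgroup.mem_subgroupOf.1 hh))
    by_cases hp2 : p = 2
    · refine Cfsg.Agent.Helper15.aut_fix_of_fusion 4 2 (by rw [hp2]; norm_num) (Or.inr ⟨hp2, rfl⟩) b
        (orderOf b) (pow_orderOf_eq_one b) hco ⊤ (hRp.to_subgroup ⊤) _ _ rfl le_top hinv ?_
      intro x hx hx4
      refine ⟨1, Subgroup.mem_top _, ?_⟩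
      rw [one_mul, inv_one, mul_one]
      refine hfix x (Subgroup.mem_subgroupOf.1 hx) (Or.inr ⟨hp2, ?_⟩)
      rw [← Subgroup.coe_pow, hx4]; rfl
    · refine Cfsg.Agent.Helper15.aut_fix_of_fusion p 1 (pow_one p).symm (Or.inl ⟨hp2, rfl⟩) b
        (orderOf b) (pow_orderOf_eq_one b) hco ⊤ (hRp.to_subgroup ⊤) _ _ rfl le_top hinv ?_
      intro x hx hxp
      refine ⟨1, Subgroup.mem_top _, ?_⟩
      rw [one_mul, inv_one, mul_one]
      refine hfix x (Subgroup.mem_subgroupOf.1 hx) (Or.inl ?_)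
      rw [← Subgroup.coe_pow, hxp]; rfl
  apply MulEquiv.ext
  intro y
  refine fix_of_coprime_of_fix hRp b hco y (hT (y⁻¹ * b y) ?_)
  exact Subgroup.mem_subgroupOf.2 (focal_mem F hRS hb y)

/-- Let F be a saturated fusion system over a finite p-group S. If every cyclic subgroup of the focal subgroup of F of order p (of order 2 or 4 when p = 2) is normal in S, then S is normal in F. -/
theorem result {Ω : Type u} [Group Ω] {S : Subgroup Ω} [Finite S] (p : ℕ) [Fact p.Prime] (hS : IsPGroup p S)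
    (F : Cfsg.FusionSystem S) (hF : F.IsSaturated p)
    (hnorm : ∀ x ∈ F.focalSubgroup, (x ^ p = 1 ∨ (p = 2 ∧ x ^ 4 = 1)) → ∀ s ∈ S, s * x * s⁻¹ ∈ Subgroup.zpowers x) :
    F.IsNormal S := by
  have hSsc : F.StronglyClosed S := ⟨le_rfl, fun R hR φ hφ x => (F.le_of_mem hφ).2 x⟩
  -- key fact on conjugation
  have hK1 : ∀ g ∈ S, ∀ x ∈ F.focalSubgroup, Sm p x →
      g * x * g⁻¹ = x ∨ (p = 2 ∧ g * x * g⁻¹ = x⁻¹) := by
    intro g hg x hxT hsm
    have hz := hnorm x hxT hsm g hg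
    by_cases hp2 : p = 2
    · have hx4 : x ^ 4 = 1 := by
        rcases hsm with h | ⟨_, h⟩
        · rw [hp2] at h
          rw [show 4 = 2 * 2 from rfl, pow_mul, h, one_pow]
        · exact h
      rcases conj_inv_of_four hx4 hz with h | h
      · exact Or.inl h
      · exact Or.inr ⟨hp2, h⟩
    · have hxp : x ^ p = 1 := by
        rcases hsm with h | ⟨h2, _⟩
        · exact h
        · exact absurd h2 hp2
      obtain ⟨n, hn⟩ := hS ⟨g, hg⟩
      have hgn : g ^ p ^ n = 1 := congrArg Subtype.val hn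
      exact Or.inl (conj_fix_of_prime hgn hxp hz)
  apply normal_of_frc hS F hF hSsc
  intro R hRn hRa hRr hRc hRrad
  have hRS := hRc.1
  have : Finite R := finite_of_le hRS
  apply le_of_normalizer_le hS hRS le_rfl (fun g hg x hx => S.mul_mem (S.mul_mem hg hx) (S.inv_mem hg))
  intro g hgS hgN
  have hcg : conjAut R g hgN.2 ∈ F.autGroup R :=
    autInducedBy_le_autGroup F hRS (conjAut_mem S R g hgN.1 hgN.2)
  let B : Subgroup (F.autGroup R) :=
    { carrier := {β | ∀ x : R, (x : Ω) ∈ F.focalSubgroup → Sm p (x : Ω) →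
        (β : MulAut R) x = x ∨ (p = 2 ∧ (β : MulAut R) x = x⁻¹)}
      one_mem' := fun x _ _ => Or.inl rfl
      mul_mem' := by
        intro α β hα hβ x hxT hsm
        show (α : MulAut R) ((β : MulAut R) x) = x ∨
          (p = 2 ∧ (α : MulAut R) ((β : MulAut R) x) = x⁻¹)
        rcases hβ x hxT hsm with h | ⟨h2, h⟩
        · rw [h]; exact hα x hxT hsm
        · rw [h, map_inv]
          rcases hα x hxT hsm with h' | ⟨_, h'⟩
          · exact Or.inr ⟨h2, by rw [h']⟩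
          · exact Or.inl (by rw [h', inv_inv])
      inv_mem' := by
        intro β hβ x hxT hsm
        show (β : MulAut R)⁻¹ x = x ∨ (p = 2 ∧ (β : MulAut R)⁻¹ x = x⁻¹)
        rcases hβ x hxT hsm with h | ⟨h2, h⟩
        · left
          have h3 : (β : MulAut R)⁻¹ ((β : MulAut R) x) = (β : MulAut R)⁻¹ x := by rw [h]
          rw [MulAut.inv_apply_self] at h3
          exact h3.symm
        · right
          refine ⟨h2, ?_⟩
          have h3 : (β : MulAut R)⁻¹ ((β : MulAut R) x) = (β : MulAut R)⁻¹ x⁻¹ := by rw [h]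
          rw [MulAut.inv_apply_self, map_inv] at h3
          exact inv_eq_iff_eq_inv.1 h3.symm }
  have hBn : B.Normal := by
    constructor
    intro α hα γ x hxT hsm
    have hγi : (γ : MulAut R)⁻¹ ∈ F.autGroup R := Subgroup.inv_mem _ γ.2
    have hyT : ((((γ : MulAut R)⁻¹ x : R)) : Ω) ∈ F.focalSubgroup := focal_inv F hRS hγi x hxT
    have hysm : Sm p ((((γ : MulAut R)⁻¹ x : R)) : Ω) := sm_map _ x hsm
    show (γ : MulAut R) ((α : MulAut R) ((γ : MulAut R)⁻¹ x)) = x ∨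
      (p = 2 ∧ (γ : MulAut R) ((α : MulAut R) ((γ : MulAut R)⁻¹ x)) = x⁻¹)
    rcases hα _ hyT hysm with h | ⟨h2, h⟩
    · left; rw [h, MulAut.apply_inv_self]
    · right; exact ⟨h2, by rw [h, map_inv, MulAut.apply_inv_self]⟩
  have hBp : IsPGroup p B := by
    rintro ⟨α, hαB⟩
    have hpos : orderOf (α : MulAut R) ≠ 0 := (orderOf_pos _).ne'
    obtain ⟨k, m, hm, hkm⟩ :=
      Nat.exists_eq_pow_mul_and_not_dvd hpos p (Fact.out : p.Prime).ne_one
    refine ⟨k, Subtype.ext (Subtype.ext ?_)⟩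
    show (α : MulAut R) ^ p ^ k = 1
    have hβB : α ^ p ^ k ∈ B := B.pow_mem hαB _
    have hord : orderOf ((α : MulAut R) ^ p ^ k) ∣ m := by
      apply orderOf_dvd_of_pow_eq_one
      rw [← pow_mul, ← hkm, pow_orderOf_eq_one]
    have hco : Nat.Coprime (orderOf ((α : MulAut R) ^ p ^ k)) p :=
      Nat.Coprime.coprime_dvd_left hord
        (Nat.Coprime.symm ((Nat.Prime.coprime_iff_not_dvd Fact.out).2 hm))
    exact coprime_trivial hS F hRS (b := (α : MulAut R) ^ p ^ k)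
      (Subgroup.pow_mem _ α.2 _) hco hβB
  have hle : B ≤ pCore p (F.autGroup R) := le_pCore' hBn hBp
  have hcgB : (⟨conjAut R g hgN.2, hcg⟩ : F.autGroup R) ∈ B := by
    intro x hxT hsm
    show conjAut R g hgN.2 x = x ∨ (p = 2 ∧ conjAut R g hgN.2 x = x⁻¹)
    rcases hK1 g hgS (x : Ω) hxT hsm with h | ⟨h2, h⟩
    · exact Or.inl (Subtype.ext h)
    · exact Or.inr ⟨h2, Subtype.ext h⟩
  have hcore : conjAut R g hgN.2 ∈ (pCore p (F.autGroup R)).map (F.autGroup R).subtype :=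
    ⟨⟨conjAut R g hgN.2, hcg⟩, hle hcgB, rfl⟩
  rw [hRrad.2] at hcore
  exact mem_of_conjAut_mem_inn F hRc hgN hcore

end Cfsg.Agent.S5300
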