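import Mathlib
import Cfsg.Statements.S5315
import Cfsg.Agent.Helper26.FusGrun
import Cfsg.Agent.Helper26.FusNormal3
-- import your own Cfsg.Agent.* helpers here

set_option autoImplicit false
open Cfsg

namespace Cfsg.Agent.S5315

/-- An analogue of Grün's lemma for fusion systems. Let F be a saturated fusion system over a finite p-group S that is perfect in the sense that its hyperfocal subgroup is all of S (F coincides with its p-residual subsystem). Then the second centre of F equals its centre: every fusion system over S/(Z(F) ∩ S) that is the factor system of F modulo its centre Z(F), read through the quotient map, has trivial centre. -/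
theorem result {Ω : Type*} [Group Ω] {S : Subgroup Ω} [Finite S] (p : ℕ) [Fact p.Prime] (hS : IsPGroup p S) (F : Cfsg.FusionSystem S) (hF : F.IsSaturated p)
    (hperf : F.hyperfocalSubgroup p = S)
    (E : Cfsg.FusionSystem (⊤ : Subgroup (↥S ⧸ (F.center).subgroupOf S)))
    (hE : F.IsFactorSystem F.center (QuotientGroup.mk' ((F.center).subgroupOf S)) E) : E.center = ⊥ := by
  have hZ : F.IsCentral F.center := Cfsg.Agent.S5144.result F
  obtain ⟨hZS, hker, hrange, hhom⟩ := id hE
  have hZ₂S : Cfsg.FusionSystem.preimageAlong (QuotientGroup.mk' ((F.center).subgroupOf S)) E.center ≤ S :=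
    Helper26.preimageAlong_le _ _
  have hQc : ∀ g ∈ S, ∀ x ∈ Cfsg.FusionSystem.preimageAlong
      (QuotientGroup.mk' ((F.center).subgroupOf S)) E.center, g * x * g⁻¹ = x := by
    intro g hg x hx
    have := Helper26.preimage_center_comm hS F hF _ E hE hperf hg hx
    rw [← this]; group
  have hcen : F.IsCentral (Cfsg.FusionSystem.preimageAlong
      (QuotientGroup.mk' ((F.center).subgroupOf S)) E.center) := by
    apply Helper26.central_of_aut_fix hS F hF hZ₂S hQc
    intro P ha hc hQP α hα q
    have hPS := hc.1
    have : Finite P := Helper26.finite_of_le hPS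
    let Fix : Subgroup (MulAut P) :=
      { carrier := {α | ∀ q : P, (q : Ω) ∈ Cfsg.FusionSystem.preimageAlong
          (QuotientGroup.mk' ((F.center).subgroupOf S)) E.center → α q = q}
        mul_mem' := fun {a b} ha hb q hq => by
          show a (b q) = q
          rw [hb q hq, ha q hq]
        one_mem' := fun q _ => rfl
        inv_mem' := fun {a} ha q hq => by
          show a⁻¹ q = q
          have h := ha q hq
          calc a⁻¹ q = a⁻¹ (a q) := by rw [h]
            _ = q := MulAut.inv_apply_self _ _ _ }
    suffices h : α ∈ Fix from h ⟨q, hQP q.2⟩ q.2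
    obtain ⟨-, R, hR⟩ := ha
    obtain ⟨β, hβ, γ, hγ, hαβγ⟩ := Helper26.exists_mul_pResidual_sylow R (⟨α, hα⟩ : F.autGroup P)
    rw [hR] at hγ
    obtain ⟨s, hs, hγs⟩ := (Helper26.mem_autInducedBy_iff S P _).1 (Subgroup.mem_subgroupOf.1 hγ)
    have hα2 : α = (β : MulAut P) * (γ : MulAut P) := congrArg Subtype.val hαβγ
    rw [hα2]
    apply Fix.mul_mem
    · have hle : pResidual p (F.autGroup P) ≤ Fix.comap (F.autGroup P).subtype := by
        refine (Subgroup.closure_le _).2 ?_
        intro a ha' q' hq'
        have ha'' : Nat.Coprime (orderOf a) p := ha'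
        have hco : Nat.Coprime (orderOf (a : MulAut P)) p := by
          rw [Subgroup.orderOf_coe]; exact ha''
        exact Helper26.aut_fix_of_coprime hS F hF _ E hE hPS a.2 hco q' hq'
      exact hle hβ
    · intro q' hq'
      apply Subtype.ext
      rw [hγs q']
      exact hQc s hs q' hq'
  have hle : Cfsg.FusionSystem.preimageAlong (QuotientGroup.mk' ((F.center).subgroupOf S)) E.center
      ≤ F.center := le_sSup hcen
  rw [eq_bot_iff]
  intro c hc
  obtain ⟨s, rfl⟩ := QuotientGroup.mk'_surjective ((F.center).subgroupOf S) c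
  have hs : (s : Ω) ∈ Cfsg.FusionSystem.preimageAlong
      (QuotientGroup.mk' ((F.center).subgroupOf S)) E.center :=
    (Helper26.mem_preimageAlong _ _).2 ⟨s.2, hc⟩
  have h1 : QuotientGroup.mk' ((F.center).subgroupOf S) s = 1 := (hker s).2 (hle hs)
  rw [Subgroup.mem_bot]; exact h1

end Cfsg.Agent.S5315
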