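import Mathlib
import Cfsg.Statements.S5342
import Cfsg.Agent.Helper26.FusConstr
-- import your own Cfsg.Agent.* helpers here

set_option autoImplicit false
open Cfsg

namespace Cfsg.Agent.S5342


open Cfsg.FusionSystem Cfsg.Agent.Helper26

theorem aux {Ω : Type*} [Group Ω] {T : Subgroup Ω} (E : FusionSystem T) {S : Subgroup Ω}
    (F : FusionSystem S) (p : ℕ) (hE : E.IsSubnormalIn F p) :
    Fact p.Prime → Finite S → IsPGroup p S → F.IsConstrained p → E.IsConstrained p := by
  induction hE with
  | refl F p => intro _ _ _ h; exact h
  | step h1 h2 ih =>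
    intro hp hfin hS hF
    haveI := hp
    haveI := hfin
    have hUS := h2.1.2.2.2.1.1
    exact ih hp (finite_of_le hUS) (isPGroup_of_le hS hUS) (constrained_of_normal hS _ hF _ h2)

/-- Let F be a constrained saturated fusion system over a finite p-group S. Then every subsystem of F that is subnormal in F (reached from F by a finite chain of successive normal subsystems) is constrained. -/
theorem result {Ω : Type*} [Group Ω] {S : Subgroup Ω} [Finite S] (p : ℕ) [Fact p.Prime] (hS : IsPGroup p S) (F : Cfsg.FusionSystem S) (hF : F.IsConstrained p) {T : Subgroup Ω} (E : Cfsg.FusionSystem T) (hE : E.IsSubnormalIn F p) : E.IsConstrained p := by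
  exact aux E F p hE inferInstance inferInstance hS hF

end Cfsg.Agent.S5342
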