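import Mathlib
import Cfsg.Statements.S5343
import Cfsg.Agent.Helper25.RealNormal

set_option autoImplicit false
universe u
open Cfsg

namespace Cfsg.Agent.S5343

open Cfsg.FusionSystem Cfsg.Agent.Helper25

/-- Passing to the quotient by a normal subgroup meeting the Sylow subgroup trivially. -/
theorem realized_quotient {Ω : Type*} [Group Ω] {S : Subgroup Ω} {G : Type*} [Group G] [Finite G]
    {p : ℕ} [Fact p.Prime] {F : FusionSystem S} {ι : S →* G} (hR : F.IsRealizedBy ι)
    (T : Sylow p G) (hT : (T : Subgroup G) = ι.range) (N : Subgroup G) [hN : N.Normal]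
    (hTN : (T : Subgroup G) ⊓ N = ⊥) :
    F.IsRealizedBy ((QuotientGroup.mk' N).comp ι) ∧
      ∃ T' : Sylow p (G ⧸ N), (T' : Subgroup (G ⧸ N)) = ((QuotientGroup.mk' N).comp ι).range := by
  have hinj := hR.1
  refine ⟨⟨?_, ?_⟩, ?_⟩
  · intro a b hab
    have h1 : (ι a)⁻¹ * ι b ∈ N := QuotientGroup.eq.1 hab
    have h2 : (ι a)⁻¹ * ι b ∈ (T : Subgroup G) ⊓ N :=
      ⟨by rw [hT, ← map_inv, ← map_mul]; exact ⟨_, rfl⟩, h1⟩
    rw [hTN, Subgroup.mem_bot] at h2
    apply hinj
    exact inv_mul_eq_one.1 h2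
  · intro P hP φ hφ
    constructor
    · intro h
      obtain ⟨g, hg⟩ := (hR.2 P hP φ hφ).1 h
      refine ⟨QuotientGroup.mk' N g, fun x => ?_⟩
      show (QuotientGroup.mk' N) (ι ⟨φ x, hφ x⟩) = _
      rw [hg, map_mul, map_mul, map_inv]
      rfl
    · rintro ⟨gbar, hg⟩
      obtain ⟨g, rfl⟩ := QuotientGroup.mk'_surjective N gbar
      have hgx : ∀ x : P, (QuotientGroup.mk' N) (ι ⟨φ x, hφ x⟩) =
          (QuotientGroup.mk' N) (g * ι ⟨x, hP x.2⟩ * g⁻¹) := by
        intro x
        rw [map_mul, map_mul, map_inv]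
        exact hg x
      have hle : conjBy (imSub ι P) g ≤ (T : Subgroup G) ⊔ N := by
        intro y hy
        rw [mem_conjBy] at hy
        obtain ⟨x, hx, hxy⟩ := mem_imSub.1 hy
        have h2 : (ι ⟨φ ⟨x, hx⟩, hφ _⟩)⁻¹ * (g * ι x * g⁻¹) ∈ N :=
          QuotientGroup.eq.1 (hgx ⟨x, hx⟩)
        have h3 : y = ι ⟨φ ⟨x, hx⟩, hφ _⟩ * ((ι ⟨φ ⟨x, hx⟩, hφ _⟩)⁻¹ * (g * ι x * g⁻¹)) := by
          rw [hxy]; group
        rw [h3]
        exact Subgroup.mul_mem_sup (by rw [hT]; exact ⟨_, rfl⟩) h2
      have hPp : IsPGroup p (conjBy (imSub ι P) g) :=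
        (T.isPGroup'.to_le (by rw [hT]; exact imSub_le_range ι P)).map _
      obtain ⟨k, hkN, hk⟩ := exists_conj_le_of_sup (K := (T : Subgroup G)) (C := N) (H := ⊤)
        le_top le_top
        (fun s _ => Helper9.mem_normalizer_of_conj_le N s (fun q hq => hN.conj_mem q hq s))
        (sylow_card_top T) T.isPGroup' hPp hle
      rw [conjBy_conjBy] at hk
      apply (hR.2 P hP φ hφ).2
      refine ⟨k * g, fun x => ?_⟩
      have h1 : (k * g) * ι ⟨x, hP x.2⟩ * (k * g)⁻¹ ∈ (T : Subgroup G) :=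
        hk (conj_mem_conjBy (mem_imSub_of_mem hP x.2))
      have h2 : (ι ⟨φ x, hφ x⟩)⁻¹ * ((k * g) * ι ⟨x, hP x.2⟩ * (k * g)⁻¹) ∈ N := by
        apply QuotientGroup.eq.1
        have hk1 : (QuotientGroup.mk' N) k = 1 := (QuotientGroup.eq_one_iff k).2 hkN
        show (QuotientGroup.mk' N) (ι ⟨φ x, hφ x⟩) =
          (QuotientGroup.mk' N) (k * g * ι ⟨x, hP x.2⟩ * (k * g)⁻¹)
        rw [map_mul, map_mul, map_inv, map_mul, hk1, one_mul]
        exact hg x
      have h3 : (ι ⟨φ x, hφ x⟩)⁻¹ * ((k * g) * ι ⟨x, hP x.2⟩ * (k * g)⁻¹) ∈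
          (T : Subgroup G) ⊓ N :=
        ⟨Subgroup.mul_mem _ (Subgroup.inv_mem _ (by rw [hT]; exact ⟨_, rfl⟩)) h1, h2⟩
      rw [hTN, Subgroup.mem_bot] at h3
      exact inv_mul_eq_one.1 h3
  · refine ⟨T.mapSurjective (QuotientGroup.mk'_surjective N), ?_⟩
    rw [Sylow.coe_mapSurjective, hT, MonoidHom.map_range]

theorem main_aux {Ω : Type u} [Group Ω] {S : Subgroup Ω} (p : ℕ) [Fact p.Prime]
    (F : Cfsg.FusionSystem S) (hsimple : F.IsSimple p) :
    ∀ (n : ℕ) (G : Type u) [Group G] [Finite G] (ι : S →* G), Nat.card G = n →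
      F.IsRealizedBy ι → (∃ T : Sylow p G, (T : Subgroup G) = ι.range) →
      ∃ (G : Type u) (_ : Group G) (_ : Finite G) (_ : IsSimpleGroup G) (ι : ↥S →* G),
        F.IsRealizedBy ι ∧ ∃ T : Sylow p G, (T : Subgroup G) = ι.range := by
  intro n
  induction n using Nat.strong_induction_on with
  | _ n ih =>
    intro G _ _ ι hn hR hTex
    obtain ⟨T, hT⟩ := hTex
    by_cases hs : IsSimpleGroup G
    · exact ⟨G, inferInstance, inferInstance, hs, ι, hR, T, hT⟩
    · have hnt : Nontrivial G := by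
        obtain ⟨a, ha⟩ := (Subgroup.ne_bot_iff_exists_ne_one).1 hsimple.2.1
        refine ⟨⟨ι a, 1, fun h => ha ?_⟩⟩
        apply hR.1
        rw [h, map_one]
      have hex : ∃ N : Subgroup G, N.Normal ∧ N ≠ ⊥ ∧ N ≠ ⊤ := by
        by_contra hcon
        apply hs
        refine { toNontrivial := hnt, eq_bot_or_eq_top_of_normal := ?_ }
        intro N hN
        by_contra h
        push Not at h
        exact hcon ⟨N, hN, h.1, h.2⟩
      obtain ⟨N, hN, hNbot, hNtop⟩ := hex
      haveI := hN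
      have hnorm := realSub_isNormalIn hR T hT N
      rcases hsimple.2.2 _ _ hnorm with hbot | ⟨hST, hHom⟩
      · have hTN : (T : Subgroup G) ⊓ N = ⊥ := by
          rw [hT, ← imSub_preSub, hbot]
          unfold imSub
          rw [Subgroup.bot_subgroupOf, Subgroup.map_bot]
        obtain ⟨hR', hT'⟩ := realized_quotient hR T hT N hTN
        have hlt : Nat.card (G ⧸ N) < n := by
          rw [← hn, Subgroup.card_eq_card_quotient_mul_card_subgroup N]
          have h1 : 1 < Nat.card N := (Subgroup.one_lt_card_iff_ne_bot N).2 hNbot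
          have h2 : 0 < Nat.card (G ⧸ N) := Nat.card_pos
          nlinarith
        exact ih (Nat.card (G ⧸ N)) hlt (G ⧸ N) _ rfl hR' hT'
      · have hSN : ∀ s : S, ι s ∈ N := by
          intro s
          have h1 : (s : Ω) ∈ preSub ι N := by rw [hST]; exact s.2
          exact preSub_mem h1
        have hR' : F.IsRealizedBy (ι.codRestrict N hSN) := by
          refine ⟨fun a b hab => hR.1 (congrArg Subtype.val hab), ?_⟩
          intro P hP φ hφ
          constructor
          · intro h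
            rw [← hHom P] at h
            obtain ⟨-, -, m, hm, hφm⟩ := h
            exact ⟨⟨m, hm⟩, fun x => Subtype.ext (hφm x _ _)⟩
          · rintro ⟨g, hg⟩
            exact (hR.2 P hP φ hφ).2 ⟨g, fun x => congrArg Subtype.val (hg x)⟩
        have hT' : ∃ T' : Sylow p N, (T' : Subgroup N) = (ι.codRestrict N hSN).range := by
          have hcard := card_sylow_inf_normal T N
          have e : ((ι.codRestrict N hSN).range).map N.subtype = (T : Subgroup G) ⊓ N := by
            ext y
            constructor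
            · rintro ⟨_, ⟨x, rfl⟩, rfl⟩
              exact ⟨by rw [hT]; exact ⟨x, rfl⟩, hSN x⟩
            · rintro ⟨h1, h2⟩
              rw [hT] at h1
              obtain ⟨s, rfl⟩ := h1
              exact ⟨⟨ι s, h2⟩, ⟨s, Subtype.ext rfl⟩, rfl⟩
          have hc : Nat.card (ι.codRestrict N hSN).range = p ^ (Nat.card N).factorization p := by
            rw [← hcard, ← e, Subgroup.card_map_of_injective N.subtype_injective]
          exact ⟨Sylow.ofCard _ hc, rfl⟩
        have hlt : Nat.card N < n := by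
          rw [← hn]
          refine lt_of_le_of_ne (Subgroup.card_le_card_group N) (fun h => hNtop ?_)
          exact Subgroup.eq_top_of_card_eq N h
        exact ih (Nat.card N) hlt N _ rfl hR' hT'

/-- Let F be a simple saturated fusion system over a finite p-group S that is realized by some finite group on a Sylow p-subgroup. Then F is realized by a finite simple group on a Sylow p-subgroup. -/
theorem result {Ω : Type u} [Group Ω] {S : Subgroup Ω} [Finite S] (p : ℕ) [Fact p.Prime] (hS : IsPGroup p S) (F : Cfsg.FusionSystem S) (hsimple : F.IsSimple p) (hreal : F.IsRealizable p) : ∃ (G : Type u) (_ : Group G) (_ : Finite G) (_ : IsSimpleGroup G) (ι : ↥S →* G), F.IsRealizedBy ι ∧ ∃ T : Sylow p G, (T : Subgroup G) = ι.range := by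
  obtain ⟨G, _, _, ι, hR, hT⟩ := hreal
  exact main_aux p F hsimple (Nat.card G) G ι rfl hR hT

end Cfsg.Agent.S5343
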