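import Cfsg.Statements.S5522
import Cfsg.Agent.Helper28.Classes

set_option autoImplicit false
open Cfsg

namespace Cfsg.Agent.S5522

open Cfsg.Agent.Helper28 Cfsg.Agent.Helper28.Golay

/-- the table fixes a point off the dodecad of squares, or has no prime order -/
def elusiveOK (T : List Nat) : Bool :=
  ((List.range 24).any fun i => !(d0.testBit i) && Nat.beq (tf T i) i) ||
    !(powId 2 T || powId 3 T || powId 5 T || powId 11 T)

/-- the first transversal of the chain of the point stabiliser -/
def U1 : List (List Nat) := ch12.tail.head!.2.1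

/-- the other levels -/
def restL : List Level := ch12.tail.tail

theorem ch_eq : ch12.tail = (ch12.tail.head!.1, U1, ch12.tail.head!.2.2) :: restL := rfl

theorem U1_len : U1.length = 11 := by decide +kernel

set_option maxRecDepth 100000 in
theorem chunk0 : ((chainElems restL).all fun E => elusiveOK (comp (U1.getD 0 []) E)) = true := by
  decide +kernel

set_option maxRecDepth 100000 in
theorem chunk1 : ((chainElems restL).all fun E => elusiveOK (comp (U1.getD 1 []) E)) = true := by
  decide +kernel

set_option maxRecDepth 100000 in
theorem chunk2 : ((chainElems restL).all fun E => elusiveOK (comp (U1.getD 2 []) E)) = true := by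
  decide +kernel

set_option maxRecDepth 100000 in
theorem chunk3 : ((chainElems restL).all fun E => elusiveOK (comp (U1.getD 3 []) E)) = true := by
  decide +kernel

set_option maxRecDepth 100000 in
theorem chunk4 : ((chainElems restL).all fun E => elusiveOK (comp (U1.getD 4 []) E)) = true := by
  decide +kernel

set_option maxRecDepth 100000 in
theorem chunk5 : ((chainElems restL).all fun E => elusiveOK (comp (U1.getD 5 []) E)) = true := by
  decide +kernel

set_option maxRecDepth 100000 in
theorem chunk6 : ((chainElems restL).all fun E => elusiveOK (comp (U1.getD 6 []) E)) = true := by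
  decide +kernel

set_option maxRecDepth 100000 in
theorem chunk7 : ((chainElems restL).all fun E => elusiveOK (comp (U1.getD 7 []) E)) = true := by
  decide +kernel

set_option maxRecDepth 100000 in
theorem chunk8 : ((chainElems restL).all fun E => elusiveOK (comp (U1.getD 8 []) E)) = true := by
  decide +kernel

set_option maxRecDepth 100000 in
theorem chunk9 : ((chainElems restL).all fun E => elusiveOK (comp (U1.getD 9 []) E)) = true := by
  decide +kernel

set_option maxRecDepth 100000 in
theorem chunk10 : ((chainElems restL).all fun E => elusiveOK (comp (U1.getD 10 []) E)) = true := by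
  decide +kernel

theorem elusive_all : ∀ T ∈ chainElems ch12.tail, elusiveOK T = true := by
  intro T hT
  rw [ch_eq, chainElems, List.mem_flatMap] at hT
  obtain ⟨T1, hT1, hT⟩ := hT
  obtain ⟨E, hE, rfl⟩ := List.mem_map.1 hT
  obtain ⟨k, hk, rfl⟩ := List.getElem_of_mem hT1
  have key : ∀ k < 11, ((chainElems restL).all fun E => elusiveOK (comp (U1.getD k []) E)) = true := by
    intro k hk
    interval_cases k
    · exact chunk0
    · exact chunk1
    · exact chunk2
    · exact chunk3
    · exact chunk4
    · exact chunk5
    · exact chunk6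
    · exact chunk7
    · exact chunk8
    · exact chunk9
    · exact chunk10
  have h1 := List.all_eq_true.1 (key k (by rw [← U1_len]; exact hk)) E hE
  rwa [List.getD_eq_getElem?_getD, List.getElem?_eq_getElem hk] at h1

theorem prime_cases (p : Nat) (hp : p.Prime) (h : p ∣ 7920) : p = 2 ∨ p = 3 ∨ p = 5 ∨ p = 11 := by
  have e : (7920 : Nat) = 2 ^ 4 * 3 ^ 2 * 5 * 11 := by norm_num
  rw [e] at h
  rcases (Nat.Prime.dvd_mul hp).1 h with h | h
  · rcases (Nat.Prime.dvd_mul hp).1 h with h | h
    · rcases (Nat.Prime.dvd_mul hp).1 h with h | h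
      · exact Or.inl ((Nat.prime_dvd_prime_iff_eq hp Nat.prime_two).1 (hp.dvd_of_dvd_pow h))
      · exact Or.inr (Or.inl ((Nat.prime_dvd_prime_iff_eq hp Nat.prime_three).1
          (hp.dvd_of_dvd_pow h)))
    · exact Or.inr (Or.inr (Or.inl ((Nat.prime_dvd_prime_iff_eq hp Nat.prime_five).1 h)))
  · exact Or.inr (Or.inr (Or.inr ((Nat.prime_dvd_prime_iff_eq hp (by norm_num)).1 h)))

/-- The Mathieu group M₁₁, realised as the stabiliser of one point of the dodecad of squares inside the stabiliser M₁₂ of that dodecad in M₂₄, acts on the twelve coordinate positions outside the dodecad of squares (its 3-transitive action of degree 12); in this action every element of prime order fixes a point, i.e. the action is elusive. -/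
theorem result (g : Equiv.Perm Cfsg.GolayPt) (hg : g ∈ Cfsg.Spor.M11) (hord : (orderOf g).Prime) :
    ∃ x : Cfsg.GolayPt, x ∉ Cfsg.Spor.squareDodecad ∧ g x = x := by

  have hmem : g ∈ GS [d0] [0] := by
    rw [mem_GS]
    obtain ⟨⟨h1, h2⟩, h3⟩ := hg
    refine ⟨h1, fun m hm => ?_, fun i hi => ?_⟩
    · rw [List.mem_singleton] at hm
      subst hm
      rw [toSet_d0]
      exact h2
    · rw [List.mem_singleton] at hi
      subst hi
      exact h3
  obtain ⟨T, hT, hT1, hT2⟩ := chain_enum [d0] ch12.tail [0] lv11 fin11 g hmem
  have hchk := elusive_all T hT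
  rw [elusiveOK, Bool.or_eq_true] at hchk
  rcases hchk with hchk | hchk
  · rw [List.any_eq_true] at hchk
    obtain ⟨i, hi, hchk⟩ := hchk
    rw [List.mem_range] at hi
    rw [Bool.and_eq_true, Bool.not_eq_true', nbeq_iff] at hchk
    refine ⟨pt i, ?_, ?_⟩
    · rw [← toSet_d0, mem_toSet, idx_pt i hi, hchk.1]
      simp
    · rw [hT2, permOf_pt hT1 hi, hchk.2]
  · exfalso
    have hdvd : orderOf g ∣ 7920 := by
      have := Subgroup.orderOf_dvd_natCard (GS [d0] [0]) hmem
      rwa [card_GS11] at this
    have hpow : permOf T ^ orderOf g = 1 := by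
      rw [← hT2]
      exact pow_orderOf_eq_one g
    have hp := powId_of_pow hT1 hpow
    rw [Bool.not_eq_true'] at hchk
    rcases prime_cases _ hord hdvd with h | h | h | h <;> rw [h] at hp <;> simp [hp] at hchk

end Cfsg.Agent.S5522
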