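import Cfsg.Statements.S5552
import Cfsg.Agent.Helper27.Co0Trans
import Cfsg.Agent.S1570
import Cfsg.Agent.S0391
-- import your own Cfsg.Agent.* helpers here

set_option autoImplicit false
open Cfsg

namespace Cfsg.Agent.S5552

open Cfsg.Agent.Helper27

/-- an explicit lattice vector given by its list of coordinates -/
def lv (l : List Int) (h : Chk (vecL l)) : leechLattice := ⟨vecL l, mem_of_chk _ h⟩

def u1 : leechLattice := lv [4, 4, 0, 0, 0, 0, 0, 0, 0, 0, 0, 0, 0, 0, 0, 0, 0, 0, 0, 0, 0, 0, 0, 0] (by decide +kernel)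
def v1 : leechLattice := lv [4, -4, 0, 0, 0, 0, 0, 0, 0, 0, 0, 0, 0, 0, 0, 0, 0, 0, 0, 0, 0, 0, 0, 0] (by decide +kernel)
def w1 : leechLattice := lv [-4, 0, 4, 0, 0, 0, 0, 0, 0, 0, 0, 0, 0, 0, 0, 0, 0, 0, 0, 0, 0, 0, 0, 0] (by decide +kernel)
def u2 : leechLattice := lv [4, 0, 0, 0, 0, 4, 0, 0, 0, 0, 0, 0, 0, 0, 0, 0, 0, 0, 0, 0, 0, 0, 0, 0] (by decide +kernel)
def v2 : leechLattice := lv [-2, -2, -2, -2, -2, 0, 0, -2, 0, 0, -2, 0, -2, 0, 0, 0, 0, 0, 0, 0, 0, 0, 0, 0] (by decide +kernel)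
def w2 : leechLattice := lv [-2, -2, 2, 2, 2, 0, 0, 2, 0, 0, 2, 0, 2, 0, 0, 0, 0, 0, 0, 0, 0, 0, 0, 0] (by decide +kernel)

lemma n_u1 : sqNorm (u1 : GolayPt → ℤ) = 32 := by decide +kernel
lemma n_v1 : sqNorm (v1 : GolayPt → ℤ) = 32 := by decide +kernel
lemma n_w1 : sqNorm (w1 : GolayPt → ℤ) = 32 := by decide +kernel
lemma n_uv1 : sqNorm ((u1 + v1 : leechLattice) : GolayPt → ℤ) = 64 := by decide +kernel
lemma n_uw1 : sqNorm ((u1 + w1 : leechLattice) : GolayPt → ℤ) = 32 := by decide +kernel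
lemma n_vw1 : sqNorm ((v1 + w1 : leechLattice) : GolayPt → ℤ) = 32 := by decide +kernel
lemma n_uvw1 : sqNorm ((u1 + v1 + w1 : leechLattice) : GolayPt → ℤ) = 32 := by decide +kernel
lemma n_u2 : sqNorm (u2 : GolayPt → ℤ) = 32 := by decide +kernel
lemma n_v2 : sqNorm (v2 : GolayPt → ℤ) = 32 := by decide +kernel
lemma n_w2 : sqNorm (w2 : GolayPt → ℤ) = 32 := by decide +kernel
lemma n_uv2 : sqNorm ((u2 + v2 : leechLattice) : GolayPt → ℤ) = 48 := by decide +kernel
lemma n_uw2 : sqNorm ((u2 + w2 : leechLattice) : GolayPt → ℤ) = 48 := by decide +kernel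
lemma n_vw2 : sqNorm ((v2 + w2 : leechLattice) : GolayPt → ℤ) = 32 := by decide +kernel
lemma n_uvw2 : sqNorm ((u2 + v2 + w2 : leechLattice) : GolayPt → ℤ) = 32 := by decide +kernel

lemma sqNorm_add_two (y z : GolayPt → ℤ) :
    sqNorm (y + (z + z)) = sqNorm y + 4 * dotInt y z + 4 * sqNorm z := by
  unfold sqNorm dotInt
  rw [Finset.mul_sum, Finset.mul_sum, ← Finset.sum_add_distrib, ← Finset.sum_add_distrib]
  apply Finset.sum_congr rfl
  intro i _
  simp only [Pi.add_apply]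
  ring

lemma norm_cases (y : GolayPt → ℤ) (hy : y ∈ leechLattice) (hn : sqNorm y ≤ 64) :
    y = 0 ∨ sqNorm y = 32 ∨ sqNorm y = 48 ∨ sqNorm y = 64 := by
  by_cases h0 : y = 0
  · exact Or.inl h0
  · right
    have h1 := Cfsg.Agent.S0391.result y hy h0
    obtain ⟨k, hk⟩ := Cfsg.Agent.S0392.result y hy
    omega

lemma zmod2_a (p q : ZMod 2) (h : p + p + p + p = q + p + p) : q = 0 := by
  revert p q; decide

lemma zmod2_b (p q : ZMod 2) (h : p + p + p + p = q + q + p) : p = 0 := by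
  revert p q; decide

lemma zmod2_c (q : ZMod 2) (h : q + q + q + q = q + q + q) : q = 0 := by
  revert q; decide

lemma zmod2_d (q : ZMod 2) (h : q ≠ 1) : q = 0 := by
  revert q; decide

/-- On the Leech lattice of the definitions, let Q be a function to the field with two elements that is constant on cosets of twice the lattice, is a quadratic form there (Q(u+v+w) + Q(u) + Q(v) + Q(w) = Q(u+v) + Q(u+w) + Q(v+w) for all u, v, w), is invariant under every lattice automorphism, and is not identically zero. Then Q(v) is the squared length of v divided by 16, reduced modulo 2, for every lattice vector v (squared lengths of lattice vectors are multiples of 16). -/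
theorem result (Q : ↥Cfsg.leechLattice → ZMod 2) (hcoset : ∀ v w : ↥Cfsg.leechLattice, Q (v + (w + w)) = Q v) (hquad : ∀ u v w : ↥Cfsg.leechLattice, Q (u + v + w) + Q u + Q v + Q w = Q (u + v) + Q (u + w) + Q (v + w)) (hinv : ∀ (g : ↥Cfsg.Co0) (v : ↥Cfsg.leechLattice), Q (g • v) = Q v) (hne : ∃ v : ↥Cfsg.leechLattice, Q v ≠ 0) (v : ↥Cfsg.leechLattice) : Q v = ((Cfsg.sqNorm (v : Cfsg.GolayPt → ℤ) / 16 : ℤ) : ZMod 2) := by
  have h32 : ∀ x y : leechLattice, sqNorm x.1 = 32 → sqNorm y.1 = 32 → Q x = Q y := by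
    intro x y hx hy
    obtain ⟨g1, h1⟩ := trans32 x hx
    obtain ⟨g2, h2⟩ := trans32 y hy
    have e : g1 • x = g2 • y := Subtype.ext (h1.trans h2.symm)
    rw [← hinv g1 x, ← hinv g2 y, e]
  have h48 : ∀ x y : leechLattice, sqNorm x.1 = 48 → sqNorm y.1 = 48 → Q x = Q y := by
    intro x y hx hy
    obtain ⟨g1, h1⟩ := trans48 x hx
    obtain ⟨g2, h2⟩ := trans48 y hy
    have e : g1 • x = g2 • y := Subtype.ext (h1.trans h2.symm)
    rw [← hinv g1 x, ← hinv g2 y, e]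
  have h64 : ∀ x y : leechLattice, sqNorm x.1 = 64 → sqNorm y.1 = 64 → Q x = Q y := by
    intro x y hx hy
    obtain ⟨g1, h1⟩ := trans64 x hx
    obtain ⟨g2, h2⟩ := trans64 y hy
    have e : g1 • x = g2 • y := Subtype.ext (h1.trans h2.symm)
    rw [← hinv g1 x, ← hinv g2 y, e]
  have hQ0 : Q 0 = 0 := by
    have h := hquad 0 0 0
    simp only [add_zero] at h
    exact zmod2_c _ h
  have hc : ∀ x : leechLattice, sqNorm x.1 = 64 → Q x = 0 := by
    intro x hx
    have h := hquad u1 v1 w1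
    rw [h32 _ u1 n_uvw1 n_u1, h32 v1 u1 n_v1 n_u1, h32 w1 u1 n_w1 n_u1,
      h32 _ u1 n_uw1 n_u1, h32 _ u1 n_vw1 n_u1, h64 _ x n_uv1 hx] at h
    exact zmod2_a _ _ h
  have ha : ∀ x : leechLattice, sqNorm x.1 = 32 → Q x = 0 := by
    intro x hx
    have h := hquad u2 v2 w2
    rw [h32 _ u2 n_uvw2 n_u2, h32 v2 u2 n_v2 n_u2, h32 w2 u2 n_w2 n_u2,
      h48 _ (u2 + v2) n_uw2 n_uv2, h32 _ u2 n_vw2 n_u2] at h
    rw [h32 x u2 hx n_u2]
    exact zmod2_b _ _ h
  have hred : ∀ w : leechLattice, ∃ y : leechLattice, sqNorm y.1 ≤ 64 ∧ Q w = Q y ∧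
      ∃ k : ℤ, sqNorm w.1 = sqNorm y.1 + 32 * k := by
    intro w
    obtain ⟨y, hy, hyn, z, hz, hvy⟩ := Cfsg.Agent.S1570.result w.1 w.2
    have hw : w.1 = y + (z + z) := by
      rw [← two_smul ℕ z, ← hvy]
      abel
    have e : w = (⟨y, hy⟩ : leechLattice) + (⟨z, hz⟩ + ⟨z, hz⟩) := Subtype.ext hw
    refine ⟨⟨y, hy⟩, hyn, ?_, ?_⟩
    · rw [e, hcoset]
    · obtain ⟨k1, hk1⟩ := eight_dvd_dot y z hy hz
      obtain ⟨k2, hk2⟩ := Cfsg.Agent.S0392.result z hz
      refine ⟨k1 + 2 * k2, ?_⟩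
      rw [hw, sqNorm_add_two, hk1, hk2]
      ring
  have hb : ∀ x : leechLattice, sqNorm x.1 = 48 → Q x = 1 := by
    intro x hx
    by_contra hne'
    have hx0 : Q x = 0 := zmod2_d _ hne'
    obtain ⟨v0, hv0⟩ := hne
    apply hv0
    obtain ⟨y, hyn, hQy, -⟩ := hred v0
    rw [hQy]
    rcases norm_cases y.1 y.2 hyn with h | h | h | h
    · have : y = 0 := Subtype.ext h
      rw [this, hQ0]
    · exact ha y h
    · rw [h48 y x h hx, hx0]
    · exact hc y h
  obtain ⟨y, hyn, hQy, k, hk⟩ := hred v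
  rw [hQy, hk]
  rcases norm_cases y.1 y.2 hyn with h | h | h | h
  · have h0 : y = 0 := Subtype.ext h
    have hn0 : sqNorm y.1 = 0 := by rw [h]; exact sqNorm_zero'
    have e : (sqNorm y.1 + 32 * k) / 16 = 2 * k := by omega
    rw [e, h0, hQ0]
    push_cast
    have : (2 : ZMod 2) = 0 := by decide
    rw [this, zero_mul]
  · have e : (sqNorm y.1 + 32 * k) / 16 = 2 * (1 + k) := by omega
    rw [e, ha y h]
    push_cast
    have : (2 : ZMod 2) = 0 := by decide
    rw [this, zero_mul]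
  · have e : (sqNorm y.1 + 32 * k) / 16 = 1 + 2 * (1 + k) := by omega
    rw [e, hb y h]
    push_cast
    have : (2 : ZMod 2) = 0 := by decide
    rw [this, zero_mul, add_zero]
  · have e : (sqNorm y.1 + 32 * k) / 16 = 2 * (2 + k) := by omega
    rw [e, hc y h]
    push_cast
    have : (2 : ZMod 2) = 0 := by decide
    rw [this, zero_mul]

end Cfsg.Agent.S5552
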