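import Cfsg.Statements.S5726
import Cfsg.Agent.Helper28.SylowOrbit

set_option autoImplicit false
open Cfsg

namespace Cfsg.Agent.S5726

/-- If a finite group acts faithfully and transitively on a set with p^k elements, p a prime and k ≥ 1, then some element of order p fixes no point. -/
theorem result {G Ω : Type*} [Group G] [Finite G] [MulAction G Ω] [FaithfulSMul G Ω] [Fintype Ω] (htr : MulAction.IsPretransitive G Ω)
    (p k : ℕ) (hp : p.Prime) (hk : 1 ≤ k) (hΩ : Fintype.card Ω = p ^ k) :
    ∃ g : G, orderOf g = p ∧ ∀ ω : Ω, g • ω ≠ ω := by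
  classical
  haveI : Fact p.Prime := ⟨hp⟩
  have hΩ' : Nat.card Ω = p ^ k := by rw [Nat.card_eq_fintype_card, hΩ]
  obtain ⟨P⟩ : Nonempty (Sylow p G) := inferInstance
  have htrans := fun ω ω' => Cfsg.Agent.Helper28.sylow_transitive_of_card_eq_pow P hΩ' ω ω'
  -- Ω has at least two points
  have hcard : 1 < Fintype.card Ω := by
    rw [hΩ]
    exact Nat.one_lt_pow (by omega) hp.one_lt
  obtain ⟨ω₁, ω₂, hne⟩ := Fintype.exists_pair_of_one_lt_card hcard
  -- P is nontrivial
  haveI : Nontrivial ↥(P : Subgroup G) := by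
    obtain ⟨h, hh, hh'⟩ := htrans ω₁ ω₂
    refine ⟨⟨⟨h, hh⟩, 1, ?_⟩⟩
    intro heq
    have : h = 1 := congrArg Subtype.val heq
    rw [this, one_smul] at hh'
    exact hne hh'
  have hPp : IsPGroup p ↥(P : Subgroup G) := P.isPGroup'
  haveI : Nontrivial (Subgroup.center ↥(P : Subgroup G)) := hPp.center_nontrivial
  have hZp : IsPGroup p (Subgroup.center ↥(P : Subgroup G)) := hPp.to_subgroup _
  have hdvd : p ∣ Nat.card (Subgroup.center ↥(P : Subgroup G)) := by
    rcases hZp.card_eq_or_dvd with h | h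
    · exact absurd h (Finite.one_lt_card).ne'
    · exact h
  haveI : Fintype (Subgroup.center ↥(P : Subgroup G)) := Fintype.ofFinite _
  rw [Nat.card_eq_fintype_card] at hdvd
  obtain ⟨z, hz⟩ := exists_prime_orderOf_dvd_card p hdvd
  refine ⟨((z : ↥(P : Subgroup G)) : G), ?_, ?_⟩
  · rw [Subgroup.orderOf_coe, Subgroup.orderOf_coe, hz]
  · intro ω hω
    -- z fixes everything, hence z = 1
    have hall : ∀ ω' : Ω, ((z : ↥(P : Subgroup G)) : G) • ω' = ω' := by
      intro ω'
      obtain ⟨h, hh, rfl⟩ := htrans ω ω'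
      have hcomm : ((z : ↥(P : Subgroup G)) : G) * h = h * ((z : ↥(P : Subgroup G)) : G) := by
        have := Subgroup.mem_center_iff.1 z.2 ⟨h, hh⟩
        have := congrArg Subtype.val this
        simpa using this.symm
      rw [← mul_smul, hcomm, mul_smul, hω]
    have h1 : ((z : ↥(P : Subgroup G)) : G) = 1 := by
      apply FaithfulSMul.eq_of_smul_eq_smul (α := Ω)
      intro a
      rw [hall a, one_smul]
    have h2 : orderOf (((z : ↥(P : Subgroup G)) : G)) = p := by
      rw [Subgroup.orderOf_coe, Subgroup.orderOf_coe, hz]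
    rw [h1, orderOf_one] at h2
    exact hp.one_lt.ne h2

end Cfsg.Agent.S5726
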