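import Cfsg.Statements.S5727
import Cfsg.Agent.Helper28.SylowOrbit
import Cfsg.Agent.S5726

set_option autoImplicit false
open Cfsg

namespace Cfsg.Agent.S5727

open MulAction in
/-- Key step: a finite `p`-group `Q` acting on a nonempty finite set `Ω` of size `m * p`, `m < p`,
with all orbits of size `p`, contains an element without fixed points whose `p`-th power acts
trivially. -/
theorem exists_fixed_point_free {Q Ω : Type*} [Group Q] [Finite Q] [MulAction Q Ω] [Fintype Ω]
    [Nonempty Ω] (p m : ℕ) (hp : p.Prime) (hlt : m < p) (hΩ : Fintype.card Ω = m * p)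
    (hQ : IsPGroup p Q) (horb : ∀ ω : Ω, (orbit Q ω).ncard = p) :
    ∃ g : Q, (∀ ω : Ω, g • ω ≠ ω) ∧ ∀ ω : Ω, g ^ p • ω = ω := by
  classical
  haveI : Fact p.Prime := ⟨hp⟩
  haveI : Fintype Q := Fintype.ofFinite Q
  obtain ⟨a, ha⟩ := IsPGroup.iff_card.1 hQ
  -- the stabilizers have index p
  have hidx : ∀ ω : Ω, (stabilizer Q ω).index = p := fun ω => by
    rw [index_stabilizer, horb]
  have ha0 : a ≠ 0 := by
    rintro rfl
    rw [pow_zero] at ha
    obtain ⟨ω⟩ := ‹Nonempty Ω›
    have h1 : (stabilizer Q ω).index ∣ Nat.card Q := Subgroup.index_dvd_card _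
    rw [hidx, ha] at h1
    exact hp.one_lt.ne' (Nat.dvd_one.1 h1)
  have hnormal : ∀ ω : Ω, (stabilizer Q ω).Normal := fun ω => by
    apply Subgroup.normal_of_index_eq_minFac_card
    rw [hidx, ha, Nat.pow_minFac ha0, hp.minFac_eq]
  -- fixed points of g form a union of orbits
  have hfix : ∀ (g : Q) (ω : Ω), g • ω = ω → ∀ h : Q, g • (h • ω) = h • ω := by
    intro g ω hg h
    have hmem : h⁻¹ * g * h⁻¹⁻¹ ∈ stabilizer Q ω :=
      (hnormal ω).conj_mem g (mem_stabilizer_iff.2 hg) h⁻¹
    rw [inv_inv, mem_stabilizer_iff] at hmem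
    calc g • (h • ω) = h • ((h⁻¹ * g * h) • ω) := by
          simp only [mul_smul, smul_inv_smul]
      _ = h • ω := by rw [hmem]
  -- p-th powers act trivially
  have hpow : ∀ (g : Q) (ω : Ω), g ^ p • ω = ω := by
    intro g ω
    haveI := hnormal ω
    have := (stabilizer Q ω).pow_index_mem g
    rwa [hidx, mem_stabilizer_iff] at this
  by_contra hcon
  push_neg at hcon
  have hex : ∀ g : Q, ∃ ω : Ω, g • ω = ω := by
    intro g
    by_contra h
    push_neg at h
    obtain ⟨ω, hω⟩ := hcon g h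
    exact hω (hpow g ω)
  -- every g has at least p fixed points
  have hge : ∀ g : Q, p ≤ Fintype.card (fixedBy Ω g) := by
    intro g
    obtain ⟨ω, hω⟩ := hex g
    have hsub : orbit Q ω ⊆ fixedBy Ω g := by
      rintro _ ⟨h, rfl⟩
      exact hfix g ω hω h
    calc p = (orbit Q ω).ncard := (horb ω).symm
      _ ≤ (fixedBy Ω g).ncard := Set.ncard_le_ncard hsub (Set.toFinite _)
      _ = Fintype.card (fixedBy Ω g) := by
          rw [← Nat.card_coe_set_eq, Nat.card_eq_fintype_card]
  -- Burnside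
  have hB := sum_card_fixedBy_eq_card_orbits_mul_card_group Q Ω
  have h1 : Fintype.card Q * p ≤ Fintype.card (orbitRel.Quotient Q Ω) * Fintype.card Q := by
    rw [← hB]
    calc Fintype.card Q * p = ∑ _g : Q, p := by simp [Finset.card_univ]
      _ ≤ ∑ g : Q, Fintype.card (fixedBy Ω g) := Finset.sum_le_sum fun g _ => hge g
  have hQpos : 0 < Fintype.card Q := Fintype.card_pos
  have h2 : p ≤ Fintype.card (orbitRel.Quotient Q Ω) := by
    rw [mul_comm] at h1
    exact Nat.le_of_mul_le_mul_right h1 hQpos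
  -- count points by orbits
  have h3 : Fintype.card Ω = Fintype.card (orbitRel.Quotient Q Ω) * p := by
    rw [Fintype.card_congr (selfEquivSigmaOrbits Q Ω), Fintype.card_sigma]
    have : ∀ o : orbitRel.Quotient Q Ω, Fintype.card (orbit Q o.out) = p := by
      intro o
      rw [← Nat.card_eq_fintype_card, Nat.card_coe_set_eq, horb]
    simp [this, Finset.card_univ]
  rw [hΩ] at h3
  have h4 : m = Fintype.card (orbitRel.Quotient Q Ω) := Nat.eq_of_mul_eq_mul_right hp.pos h3
  omega

/-- If a finite group acts faithfully and transitively on a set with m·p elements, where p is a prime and 1 ≤ m ≤ p, then some element of order p fixes no point. -/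
theorem result {G Ω : Type*} [Group G] [Finite G] [MulAction G Ω] [FaithfulSMul G Ω] [Fintype Ω] (htr : MulAction.IsPretransitive G Ω)
    (p m : ℕ) (hp : p.Prime) (hm : 1 ≤ m) (hmp : m ≤ p) (hΩ : Fintype.card Ω = m * p) :
    ∃ g : G, orderOf g = p ∧ ∀ ω : Ω, g • ω ≠ ω := by
  classical
  haveI : Fact p.Prime := ⟨hp⟩
  rcases Nat.lt_or_ge m p with hlt | hge
  swap
  · have hmp' : m = p := le_antisymm hmp hge
    exact Cfsg.Agent.S5726.result htr p 2 hp (by norm_num) (by rw [hΩ, hmp', sq])
  obtain ⟨P⟩ : Nonempty (Sylow p G) := inferInstance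
  have hcardΩ : Nat.card Ω = m * p := by rw [Nat.card_eq_fintype_card, hΩ]
  have hPp : IsPGroup p ↥(P : Subgroup G) := P.isPGroup'
  obtain ⟨a, ha⟩ := IsPGroup.iff_card.1 hPp
  haveI : Nonempty Ω := by
    apply Fintype.card_pos_iff.1
    rw [hΩ]
    exact Nat.mul_pos (by omega) hp.pos
  -- all orbits of P have size p
  have horb : ∀ ω : Ω, (MulAction.orbit ↥(P : Subgroup G) ω).ncard = p := by
    intro ω
    have h1 : p ∣ (MulAction.orbit ↥(P : Subgroup G) ω).ncard := by
      have := Cfsg.Agent.Helper28.pow_dvd_ncard_orbit_sylow P ω 1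
        (by rw [pow_one, hcardΩ]; exact dvd_mul_left p m)
      simpa using this
    have h2 : (MulAction.orbit ↥(P : Subgroup G) ω).ncard ∣ p ^ a := by
      rw [← ha, ← MulAction.index_stabilizer]
      exact Subgroup.index_dvd_card _
    obtain ⟨b, hb, hb'⟩ := (Nat.dvd_prime_pow hp).1 h2
    have h3 : (MulAction.orbit ↥(P : Subgroup G) ω).ncard ≤ m * p := by
      rw [← hcardΩ]
      exact Set.ncard_le_card _
    rw [hb'] at h1 h3 ⊢
    have hb1 : b ≠ 0 := by
      rintro rfl
      rw [pow_zero] at h1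
      exact hp.one_lt.ne' (Nat.dvd_one.1 h1)
    have hb2 : b < 2 := by
      by_contra hcon
      push_neg at hcon
      have h4 : p ^ 2 ≤ p ^ b := Nat.pow_le_pow_right hp.pos hcon
      have h5 : m * p < p * p := Nat.mul_lt_mul_of_pos_right hlt hp.pos
      rw [sq] at h4
      omega
    have hb3 : b = 1 := by omega
    rw [hb3, pow_one]
  obtain ⟨g, hg1, hg2⟩ := exists_fixed_point_free p m hp hlt hΩ hPp horb
  refine ⟨(g : G), ?_, fun ω => hg1 ω⟩
  have hne : (g : G) ≠ 1 := by
    intro h
    obtain ⟨ω⟩ := ‹Nonempty Ω›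
    apply hg1 ω
    show (g : G) • ω = ω
    rw [h, one_smul]
  have hpow : (g : G) ^ p = 1 := by
    apply FaithfulSMul.eq_of_smul_eq_smul (α := Ω)
    intro ω
    rw [one_smul]
    exact hg2 ω
  exact orderOf_eq_prime hpow hne

end Cfsg.Agent.S5727
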