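import Cfsg.Statements.S5728

set_option autoImplicit false
open Cfsg

namespace Cfsg.Agent.S5728

theorem pow_apply_aux {F : Type*} [Field F] (h : Equiv.Perm F) (α : F) (hh : ∀ y, h y = α * y) :
    ∀ (k : ℕ) (y : F), (h ^ k) y = α ^ k * y := by
  intro k
  induction k with
  | zero => intro y; simp
  | succ k ih =>
    intro y
    rw [pow_succ, Equiv.Perm.mul_apply, hh, ih, pow_succ, mul_assoc]

def scal {F : Type*} [Field F] (c : F) (hc : c ≠ 0) : Equiv.Perm F where
  toFun y := c * y
  invFun y := c⁻¹ * y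
  left_inv y := by
    show c⁻¹ * (c * y) = y
    rw [← mul_assoc, inv_mul_cancel₀ hc, one_mul]
  right_inv y := by
    show c * (c⁻¹ * y) = y
    rw [← mul_assoc, mul_inv_cancel₀ hc, one_mul]

def tra {F : Type*} [Field F] (c : F) : Equiv.Perm F where
  toFun y := y + c
  invFun y := y - c
  left_inv y := by
    show y + c - c = y
    ring
  right_inv y := by
    show y - c + c = y
    ring

theorem fac_aux (p s : ℕ) (hp : 1 ≤ p) (h : p + 1 = 2 ^ s) : p ^ 2 - 1 = (p - 1) * 2 ^ s := by
  rw [← h]
  obtain ⟨k, rfl⟩ : ∃ k, p = k + 1 := ⟨p - 1, by omega⟩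
  have : (k + 1) ^ 2 = k * (k + 1 + 1) + 1 := by ring
  rw [this]; simp

/-- An elusive transitive action. Let p = 2^s − 1 be a prime and let F be the field with p² elements. Inside the group of affine maps x ↦ a·x + b of F (a ≠ 0), consider the subgroup of maps with both coefficients in the prime field. Then every element of prime order of the affine group is conjugate, within the affine group, to an element of that subgroup; equivalently, in the transitive action of the affine group on the cosets of that subgroup (of degree p(p + 1)) every element of prime order fixes a point. -/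
theorem result (p s : ℕ) [Fact p.Prime] (hs : p = 2 ^ s - 1)
    (g : Equiv.Perm (GaloisField p 2)) (hg : g ∈ Cfsg.affineGroup (GaloisField p 2)) (hord : (orderOf g).Prime) :
    ∃ x ∈ Cfsg.affineGroup (GaloisField p 2), ∃ a b : ZMod p, a ≠ 0 ∧
      ∀ y : GaloisField p 2, (x * g * x⁻¹) y = algebraMap (ZMod p) (GaloisField p 2) a * y + algebraMap (ZMod p) (GaloisField p 2) b := by
  classical
  have hpp : p.Prime := Fact.out
  have hg' : ∃ a : (GaloisField p 2)ˣ, ∃ b : GaloisField p 2,
      ∀ x, g x = (a : GaloisField p 2) * x + b := hg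
  obtain ⟨α, β, hgy⟩ := hg'
  by_cases hα : (α : GaloisField p 2) = 1
  · have hβ : β ≠ 0 := by
      intro h0
      have : g = 1 := by
        ext y
        rw [hgy, hα, h0]; simp
      rw [this, orderOf_one] at hord
      exact Nat.not_prime_one hord
    have hxm : scal β⁻¹ (inv_ne_zero hβ) ∈ Cfsg.affineGroup (GaloisField p 2) :=
      show ∃ a : (GaloisField p 2)ˣ, ∃ b : GaloisField p 2,
          ∀ y, scal β⁻¹ (inv_ne_zero hβ) y = (a : GaloisField p 2) * y + b from
        ⟨Units.mk0 β⁻¹ (inv_ne_zero hβ), 0, fun y => by rw [Units.val_mk0, add_zero]; rfl⟩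
    refine ⟨scal β⁻¹ (inv_ne_zero hβ), hxm, 1, 1, one_ne_zero, ?_⟩
    intro y
    obtain ⟨z, rfl⟩ := (scal β⁻¹ (inv_ne_zero hβ)).surjective y
    rw [Equiv.Perm.mul_apply, Equiv.Perm.mul_apply, Equiv.Perm.coe_inv, Equiv.symm_apply_apply, hgy, hα, map_one]
    show β⁻¹ * (1 * z + β) = 1 * (β⁻¹ * z) + 1
    rw [one_mul, one_mul, mul_add, inv_mul_cancel₀ hβ]
  · have h1 : (1 : GaloisField p 2) - α ≠ 0 := sub_ne_zero.mpr (Ne.symm hα)
    obtain ⟨y₀, hy0⟩ : ∃ y₀ : GaloisField p 2, β = y₀ * (1 - α) :=
      ⟨β / (1 - α), (div_mul_cancel₀ β h1).symm⟩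
    subst hy0
    have hxm : tra (-y₀) ∈ Cfsg.affineGroup (GaloisField p 2) :=
      show ∃ a : (GaloisField p 2)ˣ, ∃ b : GaloisField p 2,
          ∀ y, tra (-y₀) y = (a : GaloisField p 2) * y + b from
        ⟨1, -y₀, fun y => by rw [Units.val_one, one_mul]; rfl⟩
    have hh : ∀ y, (tra (-y₀) * g * (tra (-y₀))⁻¹) y = (α : GaloisField p 2) * y := by
      intro y
      obtain ⟨z, rfl⟩ := (tra (-y₀)).surjective y
      rw [Equiv.Perm.mul_apply, Equiv.Perm.mul_apply, Equiv.Perm.coe_inv, Equiv.symm_apply_apply, hgy]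
      show (α : GaloisField p 2) * z + y₀ * (1 - α) + -y₀ = α * (z + -y₀)
      ring
    have hαr : (α : GaloisField p 2) ^ orderOf g = 1 := by
      have hpow : (tra (-y₀) * g * (tra (-y₀))⁻¹) ^ orderOf g = 1 := by
        rw [conj_pow, pow_orderOf_eq_one, mul_one, mul_inv_cancel]
      have := pow_apply_aux (tra (-y₀) * g * (tra (-y₀))⁻¹) α hh (orderOf g) 1
      rw [hpow, Equiv.Perm.one_apply, mul_one] at this
      exact this.symm
    haveI : Finite (GaloisField p 2) := Nat.finite_of_card_ne_zero (by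
      rw [GaloisField.card p 2 (by norm_num)]; exact pow_ne_zero _ hpp.ne_zero)
    letI : Fintype (GaloisField p 2) := Fintype.ofFinite _
    have hcardF : Fintype.card (GaloisField p 2) = p ^ 2 := by
      rw [← Nat.card_eq_fintype_card]; exact GaloisField.card p 2 (by norm_num)
    have hα0 : (α : GaloisField p 2) ≠ 0 := α.ne_zero
    have hαq : (α : GaloisField p 2) ^ (p ^ 2 - 1) = 1 := by
      have := FiniteField.pow_card_sub_one_eq_one (α : GaloisField p 2) hα0
      rwa [hcardF] at this
    have hdvd : orderOf g ∣ p ^ 2 - 1 := by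
      by_contra hnd
      have hco : Nat.Coprime (orderOf g) (p ^ 2 - 1) :=
        (Nat.Prime.coprime_iff_not_dvd hord).mpr hnd
      have hco' : Nat.gcd (orderOf g) (p ^ 2 - 1) = 1 := hco
      have := pow_gcd_eq_one.mpr ⟨hαr, hαq⟩
      rw [hco', pow_one] at this
      exact hα this
    have hp2 : 2 ≤ p := hpp.two_le
    have hpow2 : p + 1 = 2 ^ s := by
      have : 1 ≤ 2 ^ s := Nat.one_le_two_pow
      omega
    have hfac : p ^ 2 - 1 = (p - 1) * 2 ^ s := fac_aux p s (by omega) hpow2
    have hs0 : s ≠ 0 := by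
      intro h0
      rw [h0, pow_zero] at hpow2
      omega
    have hdvd1 : orderOf g ∣ p - 1 := by
      rw [hfac] at hdvd
      rcases (Nat.Prime.dvd_mul hord).mp hdvd with h | h
      · exact h
      · have h2 : orderOf g ∣ 2 := hord.dvd_of_dvd_pow h
        have h2' : orderOf g = 2 := (Nat.prime_dvd_prime_iff_eq hord Nat.prime_two).mp h2
        rw [h2']
        obtain ⟨j, hj⟩ : ∃ j, s = j + 1 := ⟨s - 1, by omega⟩
        rw [hj, pow_succ] at hpow2
        have h1j : 1 ≤ 2 ^ j := Nat.one_le_two_pow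
        exact ⟨2 ^ j - 1, by omega⟩
    have hα1 : (α : GaloisField p 2) ^ (p - 1) = 1 := by
      obtain ⟨c, hc⟩ := hdvd1
      rw [hc, pow_mul, hαr, one_pow]
    have hαp : (α : GaloisField p 2) ^ p = α := by
      have h3 : (α : GaloisField p 2) ^ (p - 1 + 1) = α := by
        rw [pow_succ, hα1, one_mul]
      have hp' : p - 1 + 1 = p := by omega
      rwa [hp'] at h3
    have hmem : (α : GaloisField p 2) ∈ (⊥ : Subfield (GaloisField p 2)) :=
      (Subfield.mem_bot_iff_pow_eq_self (GaloisField p 2) p).mpr hαp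
    obtain ⟨n, hn⟩ := (mem_bot_iff_intCast p (GaloisField p 2)).mp hmem
    have h3 : algebraMap (ZMod p) (GaloisField p 2) (n : ZMod p) = (n : GaloisField p 2) :=
      map_intCast _ n
    refine ⟨tra (-y₀), hxm, (n : ZMod p), 0, ?_, ?_⟩
    · intro h0
      rw [h0, map_zero] at h3
      apply hα0
      rw [← hn, ← h3]
    · intro y
      rw [hh y, h3, map_zero, add_zero, hn]

end Cfsg.Agent.S5728
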