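import Cfsg.Statements.S5905

set_option autoImplicit false
open Cfsg

namespace Cfsg.Agent.S5905

/-- A labelling with all fibres of size `a` gives coordinates `Ω ≃ Fin b × Fin a`. -/
noncomputable def fibreEquiv {Ω : Type*} [Finite Ω] {a b : ℕ} (f : Ω → Fin b)
    (hf : ∀ i : Fin b, Nat.card {x : Ω // f x = i} = a) : Ω ≃ Fin b × Fin a :=
  (Equiv.sigmaFiberEquiv f).symm.trans
    ((Equiv.sigmaCongrRight fun i => Finite.equivFinOfCardEq (hf i)).trans
      (Equiv.sigmaEquivProd (Fin b) (Fin a)))

theorem fibreEquiv_fst {Ω : Type*} [Finite Ω] {a b : ℕ} (f : Ω → Fin b)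
    (hf : ∀ i : Fin b, Nat.card {x : Ω // f x = i} = a) (x : Ω) :
    (fibreEquiv f hf x).1 = f x := rfl

/-- Lift a permutation of the labels to a permutation of `Ω` permuting the fibres accordingly. -/
noncomputable def liftPerm {Ω : Type*} [Finite Ω] {a b : ℕ} (f : Ω → Fin b)
    (hf : ∀ i : Fin b, Nat.card {x : Ω // f x = i} = a) (σ : Equiv.Perm (Fin b)) : Equiv.Perm Ω :=
  (fibreEquiv f hf).trans ((Equiv.prodCongr σ (Equiv.refl (Fin a))).trans (fibreEquiv f hf).symm)

theorem liftPerm_label {Ω : Type*} [Finite Ω] {a b : ℕ} (f : Ω → Fin b)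
    (hf : ∀ i : Fin b, Nat.card {x : Ω // f x = i} = a) (σ : Equiv.Perm (Fin b)) (x : Ω) :
    f (liftPerm f hf σ x) = σ (f x) := by
  rw [← fibreEquiv_fst f hf, ← fibreEquiv_fst f hf x]
  simp [liftPerm]

/-- Every element of the closure still preserves the partition. -/
theorem closure_preserves {Ω : Type*} {b : ℕ} (f : Ω → Fin b) (g : Equiv.Perm Ω)
    (hg : g ∈ Subgroup.closure {g : Equiv.Perm Ω | ∀ x y : Ω, f x = f y ↔ f (g x) = f (g y)}) :
    ∀ x y : Ω, f x = f y ↔ f (g x) = f (g y) := by
  induction hg using Subgroup.closure_induction with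
  | mem g hg => exact hg
  | one => intro x y; simp
  | mul g h _ _ ihg ihh =>
    intro x y
    rw [Equiv.Perm.mul_apply, Equiv.Perm.mul_apply, ← ihg, ← ihh]
  | inv g _ ih =>
    intro x y
    have := ih (g⁻¹ x) (g⁻¹ y)
    simpa using this.symm

/-- A swap inside a fibre preserves the partition. -/
theorem swap_mem {Ω : Type*} [DecidableEq Ω] {b : ℕ} (f : Ω → Fin b) {x y : Ω} (hxy : f x = f y) :
    Equiv.swap x y ∈ {g : Equiv.Perm Ω | ∀ x y : Ω, f x = f y ↔ f (g x) = f (g y)} := by
  have key : ∀ u : Ω, f (Equiv.swap x y u) = f u := by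
    intro u
    by_cases hux : u = x
    · subst hux; rw [Equiv.swap_apply_left]; exact hxy.symm
    · by_cases huy : u = y
      · subst huy; rw [Equiv.swap_apply_right]; exact hxy
      · rw [Equiv.swap_apply_of_ne_of_ne hux huy]
  intro u v
  rw [key, key]

/-- The lift of a label permutation preserves the partition. -/
theorem liftPerm_mem {Ω : Type*} [Finite Ω] {a b : ℕ} (f : Ω → Fin b)
    (hf : ∀ i : Fin b, Nat.card {x : Ω // f x = i} = a) (σ : Equiv.Perm (Fin b)) :
    liftPerm f hf σ ∈ {g : Equiv.Perm Ω | ∀ x y : Ω, f x = f y ↔ f (g x) = f (g y)} := by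
  intro x y
  rw [liftPerm_label f hf, liftPerm_label f hf, σ.apply_eq_iff_eq]

/-- A subgroup containing the partition-preserving permutations and one permutation that does not
preserve the partition is everything. -/
theorem eq_top_of_lt {Ω : Type*} [Fintype Ω] [DecidableEq Ω] (a b : ℕ)
    (f : Ω → Fin b) (hf : ∀ i : Fin b, Nat.card {x : Ω // f x = i} = a)
    (K : Subgroup (Equiv.Perm Ω))
    (hSK : {g : Equiv.Perm Ω | ∀ x y : Ω, f x = f y ↔ f (g x) = f (g y)} ⊆ K)
    (g : Equiv.Perm Ω) (hgK : g ∈ K)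
    (hg : ¬ ∀ x y : Ω, f x = f y ↔ f (g x) = f (g y)) : K = ⊤ := by
  -- normalise the witness
  have hwit : ∃ k ∈ K, ∃ x y, f x = f y ∧ f (k x) ≠ f (k y) := by
    push Not at hg
    obtain ⟨x, y, hxy⟩ := hg
    by_cases h : f x = f y
    · refine ⟨g, hgK, x, y, h, fun h' => ?_⟩
      rcases hxy with ⟨_, h2⟩ | ⟨h1, _⟩
      · exact h2 h'
      · exact h1 h
    · have h' : f (g x) = f (g y) := by
        rcases hxy with ⟨h1, _⟩ | ⟨_, h2⟩
        · exact absurd h1 h
        · exact h2
      refine ⟨g⁻¹, K.inv_mem hgK, g x, g y, h', ?_⟩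
      simpa using h
  obtain ⟨k, hkK, x, y, hxy, hkxy⟩ := hwit
  have huv : Equiv.swap (k x) (k y) ∈ K := by
    rw [Equiv.swap_apply_apply]
    exact K.mul_mem (K.mul_mem hkK (hSK (swap_mem f hxy))) (K.inv_mem hkK)
  set u := k x with hu
  set v := k y with hv
  -- all swaps lie in K
  have hall : ∀ p q : Ω, Equiv.swap p q ∈ K := by
    intro p q
    by_cases hpq : f p = f q
    · exact hSK (swap_mem f hpq)
    · -- a label permutation sending (f u, f v) to (f p, f q)
      set σ₁ : Equiv.Perm (Fin b) := Equiv.swap (f u) (f p) with hσ₁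
      set σ₂ : Equiv.Perm (Fin b) := Equiv.swap (σ₁ (f v)) (f q) with hσ₂
      have h1 : σ₁ (f u) = f p := Equiv.swap_apply_left _ _
      have h2 : σ₁ (f v) ≠ f p := by
        rw [← h1]
        exact fun h => hkxy (σ₁.injective h).symm
      have h3 : (σ₂ * σ₁) (f u) = f p := by
        rw [Equiv.Perm.mul_apply, h1, hσ₂, Equiv.swap_apply_of_ne_of_ne (Ne.symm h2) hpq]
      have h4 : (σ₂ * σ₁) (f v) = f q := by
        rw [Equiv.Perm.mul_apply, hσ₂, Equiv.swap_apply_left]
      set w := liftPerm f hf (σ₂ * σ₁) with hw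
      have hwK : w ∈ K := hSK (liftPerm_mem f hf _)
      have hp' : f (w u) = f p := by rw [hw, liftPerm_label f hf, h3]
      have hq' : f (w v) = f q := by rw [hw, liftPerm_label f hf, h4]
      have hs1 : Equiv.swap (w u) (w v) ∈ K := by
        rw [Equiv.swap_apply_apply]
        exact K.mul_mem (K.mul_mem hwK huv) (K.inv_mem hwK)
      -- move w u to p inside its fibre
      have hc1 : Equiv.swap p (w u) ∈ K := hSK (swap_mem f hp'.symm)
      have hs2 : Equiv.swap p (w v) ∈ K := by
        have h5 : Equiv.swap p (w u) (w v) = w v := by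
          apply Equiv.swap_apply_of_ne_of_ne
          · exact fun h => hpq (by rw [← hq', h])
          · exact fun h => hpq (by rw [← hq', h, hp'])
        have := K.mul_mem (K.mul_mem hc1 hs1) (K.inv_mem hc1)
        rw [← Equiv.swap_apply_apply, Equiv.swap_apply_right, h5] at this
        exact this
      have hc2 : Equiv.swap q (w v) ∈ K := hSK (swap_mem f hq'.symm)
      have h6 : Equiv.swap q (w v) p = p := by
        apply Equiv.swap_apply_of_ne_of_ne
        · exact fun h => hpq (by rw [h])
        · exact fun h => hpq (by rw [h, hq'])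
      have := K.mul_mem (K.mul_mem hc2 hs2) (K.inv_mem hc2)
      rw [← Equiv.swap_apply_apply, Equiv.swap_apply_right, h6] at this
      exact this
  rw [eq_top_iff, ← Equiv.Perm.closure_isSwap, Subgroup.closure_le]
  rintro σ ⟨p, q, _, rfl⟩
  exact hall p q

/-- Let Ω be a finite set and f : Ω → Fin b a map onto b ≥ 2 labels whose fibres all have the same size a ≥ 2 (a partition of Ω into b blocks of size a, so |Ω| = ab). Then the stabilizer of this partition in the symmetric group on Ω — the permutations g such that x and y lie in the same block exactly when g x and g y do, a group isomorphic to the imprimitive wreath product S_a ≀ S_b — is a maximal subgroup of the symmetric group. -/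
theorem result {Ω : Type*} [Fintype Ω] [DecidableEq Ω] (a b : ℕ) (ha : 2 ≤ a) (hb : 2 ≤ b)
    (f : Ω → Fin b) (hf : ∀ i : Fin b, Nat.card {x : Ω // f x = i} = a) :
    IsCoatom (Subgroup.closure {g : Equiv.Perm Ω | ∀ x y : Ω, f x = f y ↔ f (g x) = f (g y)}) := by
  constructor
  · -- not everything: a swap between two fibres breaks the partition
    intro htop
    have h0 : (⟨0, by omega⟩ : Fin b) ≠ ⟨1, by omega⟩ := by
      intro h
      simpa using congrArg Fin.val h
    -- two points in fibre 0, one in fibre 1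
    have hc0 := hf ⟨0, by omega⟩
    have hc1 := hf ⟨1, by omega⟩
    have hfin0 : Finite {x : Ω // f x = ⟨0, by omega⟩} := inferInstance
    have : 1 < Nat.card {x : Ω // f x = ⟨0, by omega⟩} := by omega
    obtain ⟨⟨x, hx⟩, ⟨z, hz⟩, hxz⟩ := Finite.one_lt_card_iff_nontrivial.mp this |>.exists_pair_ne
    have hne1 : Nonempty {x : Ω // f x = ⟨1, by omega⟩} := by
      rw [← Finite.card_pos_iff]; omega
    obtain ⟨y, hy⟩ := hne1
    have hxz' : x ≠ z := fun h => hxz (Subtype.ext h)
    have hmem : Equiv.swap x y ∈ Subgroup.closure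
        {g : Equiv.Perm Ω | ∀ x y : Ω, f x = f y ↔ f (g x) = f (g y)} := htop ▸ Subgroup.mem_top _
    have := (closure_preserves f _ hmem x z).mp (hx.trans hz.symm)
    have hzx : z ≠ x := Ne.symm hxz'
    have hzy : z ≠ y := fun h => h0 (by rw [← hz, h, hy])
    rw [Equiv.swap_apply_left, Equiv.swap_apply_of_ne_of_ne hzx hzy, hy, hz] at this
    exact h0 this.symm
  · intro K hK
    obtain ⟨g, hgK, hgW⟩ := SetLike.exists_of_lt hK
    refine eq_top_of_lt a b f hf K (fun s hs => hK.le (Subgroup.subset_closure hs)) g hgK ?_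
    intro hg
    exact hgW (Subgroup.subset_closure hg)

end Cfsg.Agent.S5905
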