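import Cfsg.Statements.S5894
import Cfsg.Agent.S5905
import Cfsg.Agent.S5885

set_option autoImplicit false
open Cfsg
open scoped Pointwise

namespace Cfsg.Agent.S5894

theorem fin2_eq {u v : Fin 2} (h : u = 1 ↔ v = 1) : u = v := by
  revert h; revert u v; decide

/-- The labelling of `Fin (2m)` by lower / upper half. -/
def lab (m : ℕ) (i : Fin (2 * m)) : Fin 2 := if i.val < m then 0 else 1

theorem lab_zero (m : ℕ) (x : Fin (2 * m)) : lab m x = 0 ↔ x.val < m := by
  unfold lab
  split_ifs with h
  · exact ⟨fun _ => h, fun _ => rfl⟩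
  · exact ⟨fun h' => absurd h' (by decide), fun h' => absurd h' h⟩

theorem lab_one (m : ℕ) (x : Fin (2 * m)) : lab m x = 1 ↔ ¬ x.val < m := by
  unfold lab
  split_ifs with h
  · exact ⟨fun h' => absurd h' (by decide), fun h' => absurd h h'⟩
  · exact ⟨fun _ => h, fun _ => rfl⟩

theorem lab_card (m : ℕ) (i : Fin 2) : Nat.card {x : Fin (2 * m) // lab m x = i} = m := by
  have e0 : {x : Fin (2 * m) // lab m x = 0} ≃ Fin m :=
    { toFun := fun x => ⟨x.1.val, (lab_zero m x.1).mp x.2⟩
      invFun := fun j => ⟨⟨j.val, by have := j.2; omega⟩, (lab_zero m _).mpr j.2⟩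
      left_inv := fun x => rfl
      right_inv := fun j => rfl }
  have e1 : {x : Fin (2 * m) // lab m x = 1} ≃ Fin m :=
    { toFun := fun x => ⟨x.1.val - m, by have := (lab_one m x.1).mp x.2; have := x.1.2; omega⟩
      invFun := fun j => ⟨⟨j.val + m, by have := j.2; omega⟩,
        (lab_one m _).mpr (by show ¬ (j.val + m < m); omega)⟩
      left_inv := fun x => by
        apply Subtype.ext; apply Fin.ext
        have := (lab_one m x.1).mp x.2
        show x.1.val - m + m = x.1.val
        omega
      right_inv := fun j => by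
        apply Fin.ext
        show j.val + m - m = j.val
        omega }
  have hi : i = 0 ∨ i = 1 := by revert i; decide
  rcases hi with rfl | rfl
  · exact (Nat.card_congr e0).trans (by simp)
  · exact (Nat.card_congr e1).trans (by simp)

theorem main {Ω : Type} [Fintype Ω] [DecidableEq Ω] (m : ℕ) (hm : 2 ≤ m) (f : Ω → Fin 2)
    (hf : ∀ i : Fin 2, Nat.card {x : Ω // f x = i} = m) (hcard : Nat.card Ω = 2 * m) :
    ∃ M H K : Subgroup (Equiv.Perm Ω), IsCoatom M ∧ M.index = 2 * m ∧ H ≤ M ∧
      IsCoatom (H.subgroupOf M) ∧ IsCoatom K ∧ H ≤ K ∧ ¬ IsCoatom (H.subgroupOf K) := by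
  -- points
  have h0 : 1 < Nat.card {x : Ω // f x = 0} := by rw [hf]; omega
  obtain ⟨⟨a₀, ha₀⟩, ⟨b₀, hb₀⟩, hab⟩ := (Finite.one_lt_card_iff_nontrivial.mp h0).exists_pair_ne
  have hab' : a₀ ≠ b₀ := fun h => hab (Subtype.ext h)
  have h1 : Nonempty {x : Ω // f x = 1} := by
    rw [← Finite.card_pos_iff, hf]; omega
  obtain ⟨c₀, hc₀⟩ := h1
  have hac : c₀ ≠ a₀ := by
    intro h; rw [h, ha₀] at hc₀; exact absurd hc₀ (by decide)
  have hba : b₀ ≠ a₀ := Ne.symm hab'
  have : Nontrivial Ω := ⟨⟨a₀, b₀, hab'⟩⟩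
  -- the groups
  set M : Subgroup (Equiv.Perm Ω) := MulAction.stabilizer (Equiv.Perm Ω) a₀ with hMdef
  set S : Subgroup (Equiv.Perm {x : Ω // x ≠ a₀}) :=
    MulAction.stabilizer (Equiv.Perm {x : Ω // x ≠ a₀})
      ({x | f x.1 = 1} : Set {x : Ω // x ≠ a₀}) with hSdef
  set φ : Equiv.Perm {x : Ω // x ≠ a₀} →* Equiv.Perm Ω := Equiv.Perm.ofSubtype with hφ
  set H : Subgroup (Equiv.Perm Ω) := S.map φ with hHdef
  set K : Subgroup (Equiv.Perm Ω) :=
    Subgroup.closure {g : Equiv.Perm Ω | ∀ x y : Ω, f x = f y ↔ f (g x) = f (g y)} with hKdef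
  have hMco : IsCoatom M := (MulAction.isCoatom_stabilizer_iff_preprimitive (G := Equiv.Perm Ω) a₀).mpr inferInstance
  have hMidx : M.index = 2 * m := by
    rw [hMdef, MulAction.index_stabilizer_of_transitive, hcard]
  have hKco : IsCoatom K := Cfsg.Agent.S5905.result m 2 hm le_rfl f hf
  have hφinj : Function.Injective φ := Equiv.Perm.ofSubtype_injective
  have hφrange : φ.range = M := by
    ext g
    constructor
    · rintro ⟨k, rfl⟩
      rw [hMdef, MulAction.mem_stabilizer_iff]
      exact Equiv.Perm.ofSubtype_apply_of_not_mem k (by simp)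
    · intro hg
      rw [hMdef, MulAction.mem_stabilizer_iff] at hg
      have hg' : g a₀ = a₀ := hg
      have h₁ : ∀ x, g x ≠ a₀ ↔ x ≠ a₀ := by
        intro x
        rw [not_iff_not]
        constructor
        · intro h; apply g.injective; rw [h, hg']
        · intro h; rw [h, hg']
      refine ⟨g.subtypePerm h₁, Equiv.Perm.ofSubtype_subtypePerm h₁ ?_⟩
      intro x hx hxa
      exact hx (by rw [hxa, hg'])
  have hc : Nat.card {x : Ω // x ≠ a₀} + 1 = Nat.card Ω := by
    rw [← Finite.card_option]; exact Nat.card_congr (Equiv.optionSubtypeNe a₀)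
  have hSco : IsCoatom S := by
    rw [hSdef]
    apply Equiv.Perm.isCoatom_stabilizer
    · exact ⟨⟨c₀, hac⟩, hc₀⟩
    · refine ⟨⟨b₀, hba⟩, ?_⟩
      show ¬ (f b₀ = 1)
      rw [hb₀]; decide
    · omega
  have hHM : H ≤ M := by
    rw [← hφrange, hHdef, MonoidHom.range_eq_map]
    exact Subgroup.map_mono le_top
  have hHneM : H ≠ M := by
    intro h
    rw [hHdef, ← hφrange, MonoidHom.range_eq_map] at h
    exact hSco.1 (Subgroup.map_injective hφinj h)
  have hint : ∀ L : Subgroup (Equiv.Perm Ω), H ≤ L → L ≤ M → L = H ∨ L = M := by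
    intro L hHL hLM
    have hL : (L.comap φ).map φ = L := Subgroup.map_comap_eq_self (by rw [hφrange]; exact hLM)
    have hSL : S ≤ L.comap φ := Subgroup.map_le_iff_le_comap.mp hHL
    rcases eq_or_lt_of_le hSL with h | h
    · left
      exact hL.symm.trans (by rw [← h])
    · right
      exact hL.symm.trans (by rw [hSco.2 _ h, ← MonoidHom.range_eq_map, hφrange])
  have hHmax : IsCoatom (H.subgroupOf M) :=
    Cfsg.Agent.S5885.isCoatom_subgroupOf_of_interval hHM hHneM hint
  -- elements of H preserve f pointwise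
  have hHf : ∀ g ∈ H, ∀ x, f (g x) = f x := by
    rintro g ⟨k, hk, rfl⟩ x
    rw [hSdef] at hk
    by_cases hx : x = a₀
    · rw [hφ, Equiv.Perm.ofSubtype_apply_of_not_mem k (by simpa using hx)]
    · rw [hφ, Equiv.Perm.ofSubtype_apply_of_mem k hx]
      have := (MulAction.mem_stabilizer_set.mp hk) ⟨x, hx⟩
      exact fin2_eq this
  -- the intermediate group
  let L : Subgroup (Equiv.Perm Ω) :=
    { carrier := {g | ∀ x, f (g x) = f x}
      mul_mem' := by
        intro g h hg hh x
        rw [Equiv.Perm.mul_apply, hg, hh]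
      one_mem' := by intro x; rfl
      inv_mem' := by
        intro g hg x
        have := hg (g⁻¹ x)
        have h5 : g (g⁻¹ x) = x := by simp
        rw [h5] at this
        exact this.symm }
  have hLmem : ∀ g, g ∈ L ↔ ∀ x, f (g x) = f x := fun g => Iff.rfl
  have hHL : H ≤ L := fun g hg => hHf g hg
  have hLK : L ≤ K := by
    intro g hg
    rw [hKdef]
    apply Subgroup.subset_closure
    show ∀ x y : Ω, f x = f y ↔ f (g x) = f (g y)
    intro x y
    rw [(hLmem g).mp hg x, (hLmem g).mp hg y]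
  have hHK : H ≤ K := hHL.trans hLK
  refine ⟨M, H, K, hMco, hMidx, hHM, hHmax, hKco, hHK, ?_⟩
  intro hco
  rcases Cfsg.Agent.S5885.interval_of_isCoatom_subgroupOf hco L hHL hLK with h | h
  · -- swap a₀ b₀ ∈ L but not in H
    have hsw : Equiv.swap a₀ b₀ ∈ L := by
      rw [hLmem]
      intro u
      by_cases hua : u = a₀
      · rw [hua, Equiv.swap_apply_left, ha₀, hb₀]
      · by_cases hub : u = b₀
        · rw [hub, Equiv.swap_apply_right, ha₀, hb₀]
        · rw [Equiv.swap_apply_of_ne_of_ne hua hub]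
    rw [h] at hsw
    have h3 := hHM hsw
    rw [hMdef, MulAction.mem_stabilizer_iff] at h3
    have h2 : Equiv.swap a₀ b₀ a₀ = a₀ := h3
    rw [Equiv.swap_apply_left] at h2
    exact hba h2
  · -- lift of the swap of labels ∈ K but not in L
    have hl : Cfsg.Agent.S5905.liftPerm f hf (Equiv.swap 0 1) ∈ L := by
      rw [h, hKdef]
      exact Subgroup.subset_closure (Cfsg.Agent.S5905.liftPerm_mem f hf _)
    have h4 := (hLmem _).mp hl a₀
    rw [Cfsg.Agent.S5905.liftPerm_label f hf, ha₀, Equiv.swap_apply_left] at h4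
    exact absurd h4 (by decide)

/-- For every m ≥ 2 the symmetric group on 2m letters has a maximal subgroup M of index 2m together with a maximal subgroup H of M that is not second maximal: some maximal subgroup K of the symmetric group contains H without H being maximal in K. (One may take M the stabiliser of a letter, H ≅ S_m × S_{m−1} inside it, and K ≅ S_m ≀ S₂ the stabiliser of a partition into two m-sets, with H < S_m × S_m < K.) So the prime-index hypothesis in the second-maximality criterion cannot be relaxed to any even index ≥ 4. -/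
theorem result (m : ℕ) (hm : 2 ≤ m) :
    ∃ M H K : Subgroup (Equiv.Perm (Fin (2 * m))), IsCoatom M ∧ M.index = 2 * m ∧ H ≤ M ∧ IsCoatom (H.subgroupOf M) ∧
      IsCoatom K ∧ H ≤ K ∧ ¬ IsCoatom (H.subgroupOf K) := by
  exact main m hm (lab m) (lab_card m) (by simp)

end Cfsg.Agent.S5894
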