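import Cfsg.Statements.S5939
import Cfsg.Agent.Helper18.DicksonExc
import Cfsg.Agent.S0804
-- import your own Cfsg.Agent.* helpers here

set_option autoImplicit false
open Cfsg

namespace Cfsg.Agent.S5939

/-- Let p be a prime and F a finite field of characteristic p such that either F has p elements and p ≡ ±1 (mod 10), or F has p² elements and p ≡ ±3 (mod 10). Then PSL_2(F) has a maximal subgroup isomorphic to the alternating group A_5. -/
theorem result {F : Type*} [Field F] [Fintype F] (p : ℕ) [Fact p.Prime] [CharP F p] (h : (Fintype.card F = p ∧ (p % 10 = 1 ∨ p % 10 = 9)) ∨ (Fintype.card F = p ^ 2 ∧ (p % 10 = 3 ∨ p % 10 = 7))) : ∃ H : Subgroup (Matrix.ProjectiveSpecialLinearGroup (Fin 2) F), IsCoatom H ∧ Nonempty (H ≃* alternatingGroup (Fin 5)) := by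
  have hpp : p.Prime := Fact.out
  rcases h with ⟨hF, h10⟩ | ⟨hF, h10⟩
  · have h5 : 5 ∣ p * (p ^ 2 - 1) := by
      have hpm := Nat.pow_mod p 2 5
      have h5' : p % 5 = 1 ∨ p % 5 = 4 := by omega
      have h1 : 1 ≤ p ^ 2 := Nat.one_le_pow _ _ hpp.pos
      have h6 : 5 ∣ p ^ 2 - 1 := by
        rcases h5' with h | h <;> rw [h] at hpm <;> norm_num at hpm <;> omega
      exact Dvd.dvd.mul_left h6 p
    obtain ⟨H, ⟨e⟩⟩ := (Cfsg.Agent.S0804.result hF).mpr h5
    exact ⟨H, Cfsg.Agent.Helper18.Dickson.a5_coatom_prime p hpp hF h10 H e, ⟨e⟩⟩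
  · have h5 : 5 ∣ p ^ 2 * ((p ^ 2) ^ 2 - 1) := by
      have hpm := Nat.pow_mod p 4 5
      have h5' : p % 5 = 3 ∨ p % 5 = 2 := by omega
      have e4 : (p ^ 2) ^ 2 = p ^ 4 := by ring
      have h1 : 1 ≤ p ^ 4 := Nat.one_le_pow _ _ hpp.pos
      have h6 : 5 ∣ (p ^ 2) ^ 2 - 1 := by
        rw [e4]
        rcases h5' with h | h <;> rw [h] at hpm <;> norm_num at hpm <;> omega
      exact Dvd.dvd.mul_left h6 _
    obtain ⟨H, ⟨e⟩⟩ := (Cfsg.Agent.S0804.result hF).mpr h5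
    exact ⟨H, Cfsg.Agent.Helper18.Dickson.a5_coatom_sq p hpp hF h10 H e, ⟨e⟩⟩

end Cfsg.Agent.S5939
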